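import Mathlib.Data.Matrix.Mul
import Mathlib.Data.ZMod.Basic
import Mathlib.Data.Nat.Bitwise
import Mathlib.Tactic

/-! Five by five matrices over the field of two elements coded by bits. -/

set_option autoImplicit false

namespace Cfsg.Agent.RigidGraph.He.Invol

/-- a bit as an element of the field -/
def ofBool (b : Bool) : ZMod 2 := bif b then 1 else 0

theorem ofBool_xor : ∀ a b : Bool, ofBool (a ^^ b) = ofBool a + ofBool b := by decide

theorem ofBool_inj : ∀ {a b : Bool}, ofBool a = ofBool b → a = b := by decide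

/-- a coded matrix -/
def matOf (c : ℕ) : Matrix (Fin 5) (Fin 5) (ZMod 2) := fun i j => ofBool (c.testBit (5 * i + j))

/-- a row -/
def rowB (c i : ℕ) : ℕ := Nat.mod (Nat.shiftRight c (Nat.mul 5 i)) 32

/-- a selected row -/
def selRow (a B k : ℕ) : ℕ := bif a.testBit k then rowB B k else 0

/-- a row times a matrix -/
def rowMul (a B : ℕ) : ℕ := selRow a B 0 ^^^ selRow a B 1 ^^^ selRow a B 2 ^^^ selRow a B 3 ^^^ selRow a B 4

/-- `C = A * B` -/
def mulB (C A B : ℕ) : Bool :=
  Nat.beq (rowB C 0) (rowMul (rowB A 0) B) && Nat.beq (rowB C 1) (rowMul (rowB A 1) B) &&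
  Nat.beq (rowB C 2) (rowMul (rowB A 2) B) && Nat.beq (rowB C 3) (rowMul (rowB A 3) B) &&
  Nat.beq (rowB C 4) (rowMul (rowB A 4) B)

theorem testBit_rowB (c i j : ℕ) (hj : j < 5) : (rowB c i).testBit j = c.testBit (5 * i + j) := by
  show ((c >>> (5 * i)) % 2 ^ 5).testBit j = _
  rw [Nat.testBit_mod_two_pow, Nat.testBit_shiftRight]
  simp [hj]

theorem ofBool_sel (a B k j : ℕ) (hj : j < 5) :
    ofBool ((selRow a B k).testBit j) = ofBool (a.testBit k) * ofBool (B.testBit (5 * k + j)) := by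
  unfold selRow
  cases a.testBit k <;> simp [ofBool, testBit_rowB _ _ _ hj]

theorem mulB_spec {C A B : ℕ} (h : mulB C A B = true) : matOf C = matOf A * matOf B := by
  simp only [mulB, Bool.and_eq_true, Nat.beq_eq] at h
  obtain ⟨⟨⟨⟨h0, h1⟩, h2⟩, h3⟩, h4⟩ := h
  have hrow : ∀ i : Fin 5, rowB C i = rowMul (rowB A i) B := by
    intro i; fin_cases i <;> assumption
  ext i j
  have e : ofBool ((rowB C i).testBit j) = ofBool ((rowMul (rowB A i) B).testBit j) := by rw [hrow i]
  rw [testBit_rowB _ _ _ j.2] at e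
  simp only [rowMul, Nat.testBit_xor, ofBool_xor, ofBool_sel _ _ _ _ j.2,
    testBit_rowB _ _ _ (show 0 < 5 by norm_num), testBit_rowB _ _ _ (show 1 < 5 by norm_num),
    testBit_rowB _ _ _ (show 2 < 5 by norm_num), testBit_rowB _ _ _ (show 3 < 5 by norm_num),
    testBit_rowB _ _ _ (show 4 < 5 by norm_num)] at e
  simp only [matOf, Matrix.mul_apply, Fin.sum_univ_five]
  exact e

theorem matOf_inj {a b : ℕ} (ha : a < 2 ^ 25) (hb : b < 2 ^ 25) (h : matOf a = matOf b) : a = b := by
  refine Nat.eq_of_testBit_eq fun k => ?_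
  by_cases hk : k < 25
  · have := congrFun (congrFun h ⟨k / 5, by omega⟩) ⟨k % 5, by omega⟩
    simp only [matOf] at this
    rw [show 5 * (k / 5) + k % 5 = k by omega] at this
    exact ofBool_inj this
  · rw [Nat.testBit_lt_two_pow (ha.trans_le (Nat.pow_le_pow_right (by norm_num) (by omega))),
      Nat.testBit_lt_two_pow (hb.trans_le (Nat.pow_le_pow_right (by norm_num) (by omega)))]

end Cfsg.Agent.RigidGraph.He.Invol
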