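import Cfsg.Agent.Lib.RigidGraph.Defs

/-! The conjugates of an involution fixing a point. -/

set_option autoImplicit false
set_option maxRecDepth 100000

namespace Cfsg.Agent.RigidGraph.He.Invol
/-- the word of the involution -/
def wS : List ℕ := [4, 3, 4, 4, 4, 3, 4, 5, 5, 5, 5, 3, 6, 3, 3]

/-- part of a table -/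
def conjs0 : List (List (List ℕ × List ℕ)) :=
  [[([2, 3, 2, 3, 3, 3, 2, 3, 4, 4, 3, 3, 4, 5, 5, 5, 5, 5, 5, 6, 6, 3, 3, 3], [2, 3, 2, 3, 2, 2, 3, 4, 4, 5, 5, 5, 5, 5, 5, 5, 5, 3, 6]), ([2, 2, 3, 2, 2, 2, 2, 4, 3, 3, 4, 4, 4, 5, 5, 5, 5, 5, 6, 3, 3], [2, 3, 2, 3, 3, 3]), ([3, 3, 3, 2, 3, 3, 4, 5, 5, 5, 5, 5, 5, 3, 6, 3, 3, 3], [3, 3, 2, 3]), ([2, 2, 3, 2, 3, 3, 4, 4, 5, 5, 5, 5, 5, 5, 5, 5, 5, 6, 6, 3], [3, 2, 2, 3, 3, 3, 2, 2, 3, 3, 4, 3, 4, 4, 5, 5, 5, 5, 5, 5, 5, 5, 5, 6, 6, 7, 3]), ([2, 2, 3, 2, 3, 3, 4, 4, 5, 5, 5, 5, 5, 5, 5, 5, 5, 6, 3, 3], [3, 3, 2, 3, 3, 3, 2, 3, 3, 4, 3, 4, 4, 5, 5, 5, 5, 6]), ([2, 3, 2, 3,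 3, 3, 2, 3, 4, 4, 3, 3, 4, 5, 5, 5, 5, 5, 5, 3, 6, 3, 3, 3], [3, 3, 3, 2, 2, 2, 2, 3, 4, 4, 4, 3, 4, 5, 5, 6, 6]), ([2, 2, 3, 2, 2, 2, 2, 4, 3, 3, 4, 4, 4, 5, 5, 5, 5, 5, 6, 6, 3], [2, 2, 2, 2, 2, 2, 3, 4, 4, 3, 4, 5, 5, 3, 6, 7, 3, 3, 3]), ([3, 3, 3, 2, 3, 3, 4, 5, 5, 5, 5, 5, 5, 6, 6, 3, 3, 3], [2, 3, 3, 2, 3, 2, 2, 2, 3, 4, 4, 4, 5, 5, 5, 7, 3, 3, 3]), ([3, 3, 3, 2, 3, 3, 2, 4, 3, 4, 4, 4, 5, 5, 5, 5, 5, 6, 6, 6, 7, 3, 3], [3, 3, 2, 2, 2, 4, 4, 5, 5, 5, 5, 6, 3]), ([3, 3, 3, 2, 3, 3, 2, 4, 3, 4, 4, 4, 5, 5, 5, 5, 5, 6, 6, 7, 3, 3, 3], [2, 2, 3, 3, 2, 2, 2, 4, 4, 3, 3, 4, 6, 6, 6, 7]), ([2, 2, 3, 2, 2, 2, 2, 4, 3,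 3, 4, 4, 4, 5, 5, 5, 5, 5, 5, 5, 5, 5, 3], [2, 2, 2, 3, 2, 3, 2, 2, 3, 4, 4, 3, 4, 5, 5, 5, 5, 3, 6, 3, 3, 3]), ([3, 3, 3, 2, 2, 3, 3, 3, 4, 5, 5, 5, 6, 6, 7, 3, 3, 3], [3, 3, 3, 2, 2, 2, 2, 3, 2, 3, 3, 3, 4, 5, 5, 5, 5, 3, 6, 7, 3]), ([3, 2, 2, 2, 3, 3, 3, 2, 4, 3, 4, 5, 5, 5, 5, 5, 5, 7], [2, 3, 2, 3, 2, 3, 3, 3, 4, 3, 4, 4, 5, 5, 5, 5, 5, 5, 5, 5, 7, 3]), ([2, 3, 3, 3, 2, 3, 3, 2, 4, 4, 3, 4, 5, 5, 5, 5, 5, 5, 5, 5, 5, 6, 6, 6, 7], [2, 3, 3, 3, 2, 3, 2, 2, 4, 3, 4, 4, 5, 5, 5, 5, 5, 5, 5, 5, 5, 6, 6, 7, 3, 3]), ([2, 2, 3, 2, 2, 2, 2, 4, 3, 3, 4, 4, 4, 5, 5, 5, 5, 5, 5, 5, 5, 5, 6, 6, 6, 3, 3], [2, 2, 2, 3, 3, 3,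 2, 3, 3, 4, 6, 6, 3, 3]), ([3, 3, 3, 2, 2, 3, 3, 3, 4, 5, 5, 5, 6, 6, 6, 7, 3, 3], [2, 2, 3, 2, 2]), ([3, 2, 2, 2, 3, 3, 3, 2, 4, 3, 4, 5, 5, 5, 5, 5, 5, 3, 6, 7, 3, 3], [2, 2, 2, 2, 3]), ([2, 3, 3, 3, 2, 3, 3, 2, 4, 4, 3, 4, 5, 5, 5, 5, 5, 5, 5, 5, 5, 3, 6, 3, 3], [2, 3, 2, 3, 3, 3, 4, 3, 4, 4, 5, 5, 5, 5, 5, 5, 5, 5, 6, 6, 3, 3, 3]), ([2, 3, 2, 2, 2, 4, 3, 3, 4, 4, 3, 4, 5, 5, 5, 5, 3, 6], [2, 2, 3, 3, 3, 2, 2, 3, 3, 4, 3, 4, 6, 6, 3, 3, 3]), ([2, 3, 3, 2, 3, 3, 2, 2, 2, 3, 4, 4, 4, 5, 5, 5, 6, 3, 3], [2, 3, 2, 2, 2, 3, 2, 2, 4, 3, 4, 4, 5, 5, 5, 5, 3, 6, 3]), ([3, 3, 3, 2, 2, 4, 5, 3], [2, 2, 3, 2, 3, 3, 2, 2, 2,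 4, 4, 4, 5, 5, 6, 7, 3, 3, 3]), ([3, 2, 2, 2, 3, 3, 3, 2, 4, 3, 4, 4, 5, 5, 5, 5, 5, 5, 5, 5, 5, 6], [3, 2, 2, 3, 2, 2, 3, 4, 3, 4, 4, 5, 5, 5, 5, 6, 6, 6, 3, 3, 3]), ([3, 3, 3, 2, 4, 3, 3, 4, 5, 5, 5, 5, 5, 5, 6, 6, 3], [2, 2, 3, 2, 3, 2, 2, 4, 3, 4, 3, 4, 5, 5, 5, 5, 6, 3]), ([3, 3, 3, 2, 2, 4, 5, 6, 6, 6, 3, 3], [3, 2, 2, 3, 2, 3, 3, 4, 3, 4, 5, 5, 5, 5, 6, 6, 7, 3, 3]), ([2, 3, 3, 3, 2, 3, 3, 2, 3, 4, 3, 3, 4, 3, 4, 5, 5, 5, 5, 5, 6, 6, 3, 3, 3], [3, 2, 2, 3, 2, 3, 2, 4, 3, 4, 5, 5, 5, 5, 5, 5, 5, 5, 5, 6]), ([3, 3, 3, 2, 4, 3, 3, 4, 5, 5, 5, 5, 5, 5, 6, 3, 3], [3, 3, 3, 2, 2, 2, 4, 3, 4, 3, 4, 5, 5, 6, 6, 3, 3,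 3]), ([3, 3, 3, 2, 3, 3, 4, 5, 5, 3], [2, 2, 3, 3, 2, 2, 2, 3, 4, 3, 4, 4, 5, 5, 7, 3, 3, 3]), ([3, 2, 2, 3, 3, 3, 2, 2, 3, 4, 4, 3, 3, 4, 7, 3, 3], [3, 2, 3, 2, 2, 2, 3, 3, 4, 3, 4, 5, 5, 5, 5, 5, 5, 5, 6, 7, 3]), ([3, 3, 3, 2, 3, 3, 2, 4, 3, 4, 4, 4, 5, 5, 5, 5, 5, 6, 6, 6, 3], [3, 2, 2, 2, 3, 3, 4, 3, 4, 4, 5, 5, 5, 5, 5, 5, 5, 5, 5, 6, 6, 7, 3, 3, 3]), ([3, 3, 3, 2, 3, 3, 4, 5, 5, 6, 6, 6, 3, 3], [2, 2, 2, 3, 2, 3, 2, 3, 4, 4, 3, 3, 4, 5, 5, 5, 5, 5, 5, 5, 5, 5, 6, 3]), ([2, 2, 3, 2, 3, 3, 4, 4, 5, 5, 5, 5, 5, 5, 5, 5, 5, 6, 6, 7, 3, 3], [2, 2, 2, 3, 3, 3, 2, 4, 4, 4, 3, 4, 5, 5, 5, 5, 5, 5, 6, 6, 6, 7]), ([2, 2,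 3, 2, 3, 3, 4, 4, 5, 5, 5, 5, 5, 5, 5, 5, 5, 6, 7, 3, 3, 3], [2, 3, 2, 3, 2, 4, 4, 5, 5, 5, 5, 5, 5, 3, 6, 7, 3, 3]), ([3, 3, 2, 2, 2, 2, 3, 3, 4, 3, 4, 4, 5, 5, 5, 5, 5, 5, 5, 7, 3, 3], [3, 2, 2, 2, 3, 3, 3, 2, 3, 3, 4, 6, 3, 3]), ([2, 3, 2, 3, 3, 3, 2, 3, 4, 4, 3, 3, 4, 5, 5, 5, 5, 5, 5, 3, 6, 7], [3, 2, 3, 2, 2, 2, 3, 3, 3]), ([3, 2, 3, 2, 2, 2, 4, 3, 3, 4, 4, 3, 4, 5, 5, 5, 5, 3, 6, 3, 3, 3], [3, 2, 2, 3, 3, 3, 2, 2, 3, 3, 4, 3, 4, 6, 6, 3, 3, 3]), ([3, 2, 3, 2, 2, 2, 4, 3, 3, 4, 4, 3, 4, 5, 5, 5, 5, 6, 6, 3, 3, 3], [2, 3, 3, 2, 3, 2, 2, 2, 3, 4, 4, 5, 5, 5, 3, 6, 7, 3, 3]), ([2, 2, 2, 3, 3, 2, 3, 3, 4, 3, 4, 4,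 5, 5, 7, 3, 3], [3, 2, 2, 3, 3, 2, 2, 2, 3, 4, 4, 3, 4, 5, 5, 6, 6, 7]), ([3, 2, 3, 2, 3, 4, 3, 3, 4, 3, 4, 5, 5, 5, 5, 7, 3, 3, 3], [3, 2, 2, 3, 2, 3, 2, 4, 3, 3, 4, 5, 5, 5, 3]), ([3, 2, 3, 2, 2, 2, 4, 3, 3, 4, 4, 3, 4, 6, 6, 6, 7, 3, 3, 3], [3, 2, 2, 3, 2, 3, 2, 3, 4, 3, 4, 5, 5, 5, 5, 6, 6, 3, 3, 3]), ([2, 2, 3, 2, 2, 3, 2, 4, 3, 4, 4, 4, 3, 4, 5, 5, 5, 5, 5, 5, 5, 5, 6, 7], [2, 3, 3, 3, 2, 3, 3, 2, 3, 3]), ([2, 2, 2, 3, 3, 2, 3, 3, 4, 3, 4, 4, 5, 5, 5, 5, 5, 5, 6, 6, 3, 3, 3], [3, 2, 2, 4, 3, 3, 3, 4, 3, 4, 5, 5, 5, 5, 5, 7, 3, 3, 3]), ([2, 2, 2, 3, 3, 2, 3, 3, 4, 3, 4, 4, 5, 5, 5, 5, 5, 5, 3, 6, 3, 3, 3], [2,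 2, 3, 4, 4, 4, 5, 5, 5, 5, 5, 5, 5, 5, 6, 3, 3]), ([2, 2, 2, 2, 2, 4, 3, 4, 4, 4, 5, 5, 5, 5, 5, 5, 5, 5, 6, 6, 6, 3, 3], [2, 3, 3, 2, 3, 2, 2, 2, 3, 4, 4, 3, 3, 4, 5, 5, 6, 7, 3]), ([2, 2, 2, 2, 2, 4, 3, 4, 4, 4, 5, 5, 5, 5, 5, 5, 5, 5, 3], [2, 3, 3, 2, 2, 2, 3, 3, 4, 5, 5, 5, 5, 5, 5, 5, 5, 5, 6, 6, 6, 7, 3]), ([2, 2, 3, 2, 3, 2, 3, 2, 3, 4, 4, 4, 3, 4, 5, 5, 5, 5, 5, 5, 5, 6, 6, 6, 7, 3, 3, 3], [3, 2, 2, 2, 3, 2, 2, 4, 5, 6, 3]), ([2, 2, 3, 2, 3, 2, 3, 2, 3, 4, 4, 4, 3, 4, 5, 5, 5, 5, 5, 5, 5, 7, 3, 3], [2, 3, 2, 2, 3, 3, 2, 2, 2, 3, 3, 3, 4, 3, 4, 5, 5, 6, 6]), ([3, 3, 3, 2, 4, 3, 4, 4, 5, 5, 5, 5, 5, 5, 5, 5, 3,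 6], [3, 3, 2, 2, 3, 2, 3, 3]), ([3, 3, 3, 2, 4, 3, 4, 4, 5, 5, 5, 5, 5, 5, 5, 5, 6, 7], [3, 2, 3, 3, 2, 4, 4, 5, 5, 5, 5, 5, 5, 5, 6, 7, 3, 3, 3]), ([2, 3, 2, 3, 3, 2, 4, 4, 4, 3, 4, 5, 5, 5, 5, 5, 5, 5, 6, 6, 7, 3, 3, 3], [3, 3, 2, 4, 3, 4, 4, 5, 5, 5, 5, 5, 6, 6, 7]), ([2, 3, 2, 3, 3, 2, 4, 4, 4, 3, 4, 5, 5, 5, 5, 5, 5, 5, 6, 6, 6, 7, 3, 3], [3, 3, 2, 3, 3, 3, 2, 4, 3, 4, 5, 5, 5, 5, 5, 3, 6, 7, 3, 3]), ([2, 2, 2, 2, 4, 3, 4, 3, 4, 5, 5, 5, 5, 5, 6, 6, 6, 3, 3, 3], [2, 3, 3, 2, 2, 3, 3, 2, 5]), ([4, 4, 3, 3, 4, 5, 5, 5, 5, 5, 5, 5, 5, 5, 6, 3], [2, 2, 2, 2, 3, 4, 3, 3, 4, 3, 4, 5, 5, 6, 6, 7, 3, 3, 3]), ([2, 2, 3,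 3, 3, 2, 3, 2, 4, 3, 3, 4, 4, 3, 4, 6, 3, 3], [2, 2, 2, 3, 2, 2, 4, 4, 4, 3, 4, 5, 5, 5, 5, 3, 6, 3, 3, 3]), ([2, 2, 2, 3, 3, 3, 2, 3, 3, 4, 3, 4, 5, 5, 5, 5, 5, 5, 7, 3, 3, 3], [3, 2, 3, 3, 3, 2, 2, 3, 4, 5, 5, 5, 5, 5, 5, 5, 5, 6, 6, 6, 3, 3, 3]), ([2, 3, 3, 2, 2, 3, 3, 2, 3, 3, 4, 4, 4, 5, 5, 5, 5, 5, 6, 6, 3, 3], [2, 2, 2, 2, 3, 3, 4, 3, 4, 4, 5, 5, 5, 5, 5, 5, 5, 5, 5, 6, 6, 7, 3, 3]), ([2, 2, 3, 3, 3, 2, 3, 2, 3, 3, 3, 4, 3, 4, 4, 5, 5, 5, 6, 7], [3, 2, 2, 3, 2, 2, 2, 2, 3, 4, 4, 4, 3, 4, 5, 5, 6, 6]), ([3, 4, 4, 4, 3, 4, 5, 5, 5, 5, 5, 5, 6, 6, 6, 7, 3, 3], [2, 3, 3, 2, 2, 3, 3, 2, 3, 4, 4, 3, 4, 5, 5, 3, 6]),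 ([2, 2, 3, 3, 2, 4, 3, 4, 5, 5, 7], [3, 3, 2, 3, 2, 4, 3, 3, 4, 4, 4, 5, 5, 5, 5, 5, 7, 3, 3]), ([2, 3, 3, 2, 2, 2, 3, 3, 4, 4, 5, 5, 7, 3, 3, 3], [2, 3, 3, 2, 2, 3, 3, 2]), ([2, 2, 3, 3, 3, 2, 3, 2, 4, 4, 4, 5, 5, 5, 5, 5], [2, 3, 2, 2, 4, 4, 6, 6, 7, 3, 3]), ([3, 3, 3, 4, 3, 4, 5, 5, 5, 5, 5, 5, 5, 5, 5, 6, 6, 6, 7, 3, 3], [2, 3, 3, 2, 2, 2, 4, 4, 3, 3, 4, 6, 6, 6, 7]), ([2, 2, 3, 2, 3, 2, 2, 4, 3, 4, 3, 4, 5, 5, 5, 5, 5, 5, 5, 5, 3, 6, 7, 3], [3, 3, 2, 2, 2, 3, 3, 4, 3, 4, 4, 5, 5, 5, 5, 5, 5, 5, 5, 5, 6, 6, 7, 3, 3]), ([2, 2, 2, 2, 3, 4, 4, 4, 6, 6, 6, 7, 3], [2, 3, 2, 2, 2, 3, 2, 2, 3, 3, 3, 4, 5, 5, 6, 6, 3, 3]),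 ([2, 2, 3, 3, 2, 4, 3, 4, 5, 5, 3, 6, 7, 3, 3], [3, 2, 3, 3, 2, 2, 3, 2, 3, 3, 3, 4, 3, 4, 5, 5, 5, 5, 5, 5, 5, 6, 6, 6, 7, 3])],
    [([2, 2, 3, 2, 3, 2, 2, 4, 3, 3, 4, 3, 4, 5, 5, 5, 5, 5, 6, 3, 3], [2, 3, 3, 2, 3, 2, 2, 2, 3, 3, 4, 3, 4, 4, 5, 5, 5, 5, 5, 5, 5, 5, 6, 3, 3, 3]), ([2, 3, 3, 2, 2, 2, 3, 4, 3, 4, 4, 5, 5, 5, 6, 6, 7, 3], [3, 3, 2, 3, 3, 4, 4, 3, 4, 6, 3, 3, 3]), ([2, 3, 3, 2, 2, 3, 3, 2, 3, 3, 4, 4, 4, 5, 5, 5, 5, 5, 6, 6, 6, 3], [3, 3, 2, 2, 2, 3, 3, 2, 3, 4, 4, 3, 3, 4, 5, 5, 5, 5, 5, 6, 6, 7, 3, 3, 3]), ([2, 2, 2, 3, 3, 3, 2, 3, 4, 4, 4, 5, 6, 3], [3, 2, 3, 2, 2, 2, 2, 2, 3, 4, 3, 4, 4, 3, 6, 7, 3,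 3, 3]), ([2, 2, 2, 2, 2, 4, 3, 3, 4, 4, 3, 4, 5, 5, 5, 5, 5, 5, 5, 5, 5, 3, 6, 3, 3, 3], [2, 2, 2, 3, 3, 3, 2, 3, 3]), ([2, 2, 2, 2, 2, 4, 3, 3, 4, 4, 3, 4, 5, 5, 5, 5, 5, 5, 5, 5, 5, 6, 6, 3, 3, 3], [2, 3, 3, 4, 4, 3, 4, 5, 5, 6, 7, 3, 3, 3]), ([2, 4, 3, 4, 3, 4, 6, 7, 3, 3], [2, 2, 2, 2, 3, 3, 2, 3, 4, 4, 3, 3, 4, 5, 5, 5, 5, 5, 5, 5, 5, 5, 7, 3, 3]), ([2, 2, 2, 3, 2, 2, 4, 5, 5, 5, 5, 6], [2, 2, 3, 2, 2, 3, 2, 3, 4, 4, 3, 3, 4, 5, 5, 5, 5, 6, 6, 6, 7, 3, 3, 3]), ([2, 2, 2, 2, 4, 3, 4, 4, 4, 5, 6, 7, 3], [2, 2, 2, 3, 3, 2, 3, 4, 3, 4, 4, 6, 7]), ([2, 2, 3, 3, 3, 2, 3, 2, 4, 3, 3, 4, 4, 4, 5, 5, 5, 5, 5, 5, 6, 6],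 [3, 2, 2, 3, 2, 2, 4, 3, 4, 3, 4, 5, 5, 5, 5, 6, 6, 3, 3, 3]), ([2, 2, 2, 3, 3, 3, 2, 4, 3, 3, 4, 5, 5, 5, 5, 5, 5, 5, 6, 6, 6, 7, 3, 3, 3], [3, 3, 3, 2, 3, 2, 2, 3, 4, 3, 4, 4, 5, 5, 5, 5, 6, 6, 6, 3, 3]), ([2, 3, 3, 2, 3, 2, 3, 4, 4, 4, 5, 3, 3], [3, 3, 3, 2, 3, 2, 2, 2, 3, 4, 3, 4, 4, 5, 5, 5, 5, 5, 5, 5, 5, 5, 6, 6, 3, 3]), ([2, 2, 2, 2, 3, 2, 3, 4, 4, 4, 5, 6, 6, 6, 3], [2, 2, 3, 3, 2, 2, 2, 4, 3, 3, 4, 4, 4, 5, 5, 5, 5, 5, 7, 3, 3]), ([2, 2, 3, 3, 3, 2, 3, 2, 2, 3, 3, 4, 5, 5, 5, 5, 5, 5, 5, 5, 6, 6], [2, 2, 3, 2, 3, 3, 3, 2, 3, 3, 4, 4, 4, 5, 5, 5, 5, 5, 5, 6, 6, 6, 3]), ([2, 2, 3, 3, 3, 2, 3, 2, 3, 3, 4, 4,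 4, 3, 4, 5, 5, 5, 5, 5, 5, 5, 5, 3], [2, 3, 2, 3, 2, 3, 2, 3, 4, 3, 4, 5, 5, 5, 5, 5, 5, 5, 6, 7, 3, 3]), ([2, 2, 3, 3, 2, 3, 4, 3, 4, 5, 5, 5, 3, 6, 7, 3], [2, 3, 3, 3, 2, 2, 3, 3]), ([2, 2, 3, 3, 3, 2, 3, 2, 3, 3, 4, 4, 3, 4, 5, 5, 5, 5, 5, 5, 7], [2, 2, 3, 2, 2, 2, 2, 2, 2, 4, 3, 3, 4, 4, 3, 4, 5, 5, 5, 3, 6, 7, 3]), ([2, 3, 3, 4, 6, 6, 6, 7], [3, 2, 2, 3, 2, 2, 3, 3, 4, 3, 4, 4, 5, 5, 5, 5, 5, 5, 5, 5, 5, 6, 6, 7, 3]), ([2, 2, 3, 2, 3, 2, 2, 3, 3, 4, 3, 4, 5, 5, 6, 6, 3], [3, 2, 3, 2, 2, 3, 4, 4, 5, 5, 5, 5, 5, 5, 5, 5, 3, 6]), ([2, 2, 2, 3, 2, 2, 3, 3, 3, 4, 3, 4, 4, 5, 5, 5, 5, 5, 5, 5, 5, 5, 6, 6, 7], [3, 2,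 3, 2, 2, 3, 4, 3, 4, 5, 5, 5, 5, 5, 5, 3, 3, 3]), ([2, 2, 2, 2, 4, 3, 3, 3, 4, 3, 4, 6, 6, 6, 3], [2, 2, 3, 2, 2, 3, 2, 4, 6, 6, 7, 3, 3, 3]), ([2, 2, 2, 3, 2, 3, 2, 2, 3, 3, 4, 3, 4, 4, 5, 5, 5, 5, 5, 5, 5, 3, 6, 7], [2, 2, 2, 2, 3, 2, 3, 4, 4, 3, 4, 5, 6, 6, 7]), ([2, 2, 3, 2, 3, 3, 3, 2, 3, 3, 4, 4, 5, 5, 5, 5, 5, 5, 5, 5, 5, 6, 6], [3, 2, 3, 3, 2, 2, 3, 2, 4, 3, 4, 4, 4, 3, 4, 5, 6, 6, 6, 7, 3]), ([2, 3, 3, 2, 2, 2, 4, 3, 3, 3, 4, 3, 4, 5, 5, 5, 5, 6, 6], [3, 2, 3, 2, 3, 3, 4, 3, 4, 4, 5, 5, 5, 5, 3, 3, 3]), ([2, 3, 3, 2, 2, 3, 3, 2, 3, 3, 4, 4, 4, 3, 4, 6, 6, 6], [2, 2, 3, 2, 4, 4, 3, 4, 5, 5, 5, 5, 5, 5, 5, 5,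 6, 6, 7]), ([2, 3, 3, 2, 2, 3, 3, 2, 3, 3, 3, 4, 3, 4, 4, 5, 5, 5, 6, 6], [2, 3, 2, 2, 3, 2, 3, 2, 3, 4, 4, 4, 6, 3, 3, 3]), ([2, 2, 3, 2, 3, 3, 3, 2, 3, 3, 4, 4, 3, 4, 3, 6, 3], [2, 4, 3, 3, 4, 3, 4, 5, 5, 5, 3, 6, 3, 3, 3]), ([2, 2, 2, 3, 2, 2, 4, 3, 3, 4, 4, 3, 4, 5, 5, 6, 7], [2, 3, 2, 3, 3, 3, 2, 4, 3, 3, 4, 4, 4, 5, 5, 5, 3]), ([2, 2, 2, 3, 2, 2, 5, 5, 5, 5, 5, 5, 5, 6, 6, 3, 3, 3], [3, 2, 3, 3, 3, 2, 3, 2, 3, 3, 3, 4, 5, 5, 5, 5, 5, 5, 5, 5, 6, 6, 6, 3, 3, 3]), ([3, 3, 3, 4, 3, 4, 4, 5, 5, 7, 3, 3, 3], [2, 3, 3, 3, 2, 3, 2, 2, 4, 4, 3, 3, 4, 6, 6, 7, 3]), ([2, 3, 2, 2, 2, 3, 2, 3, 3, 4, 5, 5, 5, 5, 5, 5, 5, 5,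 6, 6, 6, 7, 3, 3], [2, 2, 2, 3, 3, 2, 4, 3, 3, 4, 3, 4, 5, 5, 5, 5, 5, 5, 5, 6, 7, 3]), ([2, 3, 3, 2, 2, 2, 3, 4, 4, 4, 3, 4, 5, 5, 5, 5, 5, 6, 6, 7, 3, 3, 3], [3, 2, 3, 2, 4, 3, 4, 3, 4, 3, 6]), ([3, 2, 2, 3, 3, 2, 3, 4, 3, 4, 5, 5, 5, 5, 5, 5, 5, 3], [3, 3, 2, 3, 3, 2, 2, 2, 3, 3, 3, 4, 3, 4, 4, 5, 5, 5, 6, 6, 3]), ([2, 3, 3, 2, 2, 2, 3, 3, 4, 3, 4, 5, 5, 5, 5, 7, 3, 3], [2, 3, 3, 3, 2, 3, 2, 3, 4, 3, 4, 4, 5, 5, 5, 5, 5, 5, 5, 6, 6, 6, 3, 3]), ([2, 3, 3, 2, 3, 2, 3, 3, 4, 4, 3, 4, 5, 5, 5, 5, 5, 5, 5, 5, 3, 6, 7, 3, 3, 3], [3, 2, 2, 2, 3, 3, 3, 2, 3, 4, 4, 4, 3, 4, 5, 5, 6, 3]), ([3, 3, 2, 2, 2, 2, 3, 2, 3, 3, 3,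 4, 3, 4, 4, 5, 5, 5, 5, 5, 5, 5, 6, 6, 6, 3, 3], [2, 2, 2, 3, 2, 3, 2, 2, 4, 5, 5, 5, 5, 5, 5, 5, 5, 6, 7, 3, 3]), ([2, 2, 3, 3, 3, 2, 3, 2, 2, 3, 3, 4, 4, 4, 3, 4, 5, 5, 6], [3, 2, 3, 2, 2, 2, 3, 3, 4, 4, 4, 3, 4, 5, 5, 5, 5, 5, 5, 5, 5, 5, 3, 6, 7, 3, 3]), ([2, 3, 3, 2, 3, 2, 3, 3, 4, 3, 4, 5, 5, 5, 5, 5, 5, 7, 3, 3, 3], [3, 2, 2, 3, 2, 3, 2, 4, 3, 3, 4, 4, 4, 5, 5, 5, 5, 6, 6, 7, 3, 3, 3]), ([2, 2, 3, 3, 3, 2, 3, 2, 2, 3, 3, 3, 4, 3, 4, 5, 6, 6, 7, 3, 3, 3], [3, 2, 3, 2, 2, 2, 3, 2, 2, 4, 4, 3, 4, 6, 7, 3, 3]), ([2, 2, 3, 2, 3, 3, 3, 2, 3, 3, 4, 4, 4, 5, 5, 6, 6, 6, 3], [2, 2, 3, 3, 3, 2, 3, 2, 3, 3, 4, 5, 5, 5,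 5, 5, 5, 6, 6, 6, 7]), ([2, 2, 2, 3, 2, 2, 3, 4, 3, 3, 4, 3, 4, 6, 6, 7, 3, 3], [2, 2, 3, 2, 2, 3, 2, 3, 2, 3, 4, 4, 5, 5, 5, 5, 5, 5, 5, 6, 6, 7, 3, 3]), ([2, 3, 3, 2, 2, 3, 3, 2, 3, 4, 5, 3, 3, 3], [3, 3, 2, 3, 3, 3, 2, 4, 3, 3, 4, 4, 4, 5, 5, 5, 5, 5, 7, 3, 3]), ([3, 2, 3, 2, 3, 2, 4, 4, 3, 3, 4, 5, 5, 5, 5, 5, 5, 5, 5, 3], [3, 2, 2, 3, 2, 3, 4, 5, 5, 5, 5]), ([5, 5, 6, 7], [3, 3, 3, 2, 3, 4, 3, 4, 4, 5, 6, 6, 6, 7, 3, 3, 3]), ([3, 2, 2, 3, 2, 3, 3, 4, 4, 5, 5, 5, 5, 5, 5, 5, 5, 5, 6, 7, 3, 3], [3, 2, 3, 2, 3, 2, 4, 4, 5, 5, 5, 5, 5, 5, 3, 6, 7, 3, 3]), ([2, 2, 2, 3, 2, 2, 4, 3, 3, 4, 4, 3, 4], [2, 3, 2, 2, 2, 3,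 2, 2, 3, 4, 4, 5, 5, 5, 5, 5, 5, 5, 5, 5, 3, 6]), ([2, 2, 2, 2, 3, 4, 3, 4, 5, 5, 3, 6, 7, 3, 3, 3], [3, 2, 2, 2, 3, 2, 2, 2, 3, 3, 4, 4, 4, 5, 5, 5, 5, 5, 5, 5, 5, 5, 6, 6, 6, 7]), ([2, 3, 4, 4, 3, 4, 5, 5, 5, 5, 5, 6, 7, 3, 3], [2, 2, 3, 2, 2, 3, 2, 4, 4, 4, 3, 4, 5, 5, 5, 5, 5, 5, 5, 5, 5, 3, 3, 3]), ([3, 2, 2, 3, 3, 2, 2, 2, 3, 3, 4, 3, 4, 4, 5, 5, 5, 5, 5, 5, 5, 5, 6, 6], [3, 2, 2, 3, 3, 2, 4, 3, 4, 4, 5, 5, 7, 3, 3, 3]), ([2, 3, 3, 3, 2, 2, 4, 4, 3, 4], [3, 2, 2, 3, 3, 2, 2, 2, 3, 3, 4, 3, 4, 4, 5, 5, 5, 5, 5, 3, 6]), ([3, 3, 3, 4, 3, 4, 4, 5, 5, 5, 5, 6, 6, 6, 3, 3, 3], [3, 2, 2, 3, 2, 2, 3, 4, 5, 5, 5, 7, 3,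 3, 3]), ([2, 3, 3, 2, 3, 2, 3, 4, 4, 4, 5, 7, 3, 3, 3], [2, 3, 3, 2, 3, 3, 2, 2, 2, 4, 3, 3, 4, 4, 3, 4, 5, 6, 6, 6, 7, 3, 3]), ([3, 4, 3, 3, 4, 3, 4, 5, 5, 5, 6, 6, 7, 3], [2, 3, 3, 2, 3, 2, 3, 4, 4, 4, 3, 4, 5, 5, 5, 5, 5, 5, 5, 5, 6, 6, 6, 7]), ([2, 3, 3, 2, 3, 2, 3, 3, 4, 3, 4, 5, 5, 5, 5, 5, 5, 3, 3], [3, 3, 2, 3, 2, 2, 4, 3, 4, 3, 4, 5, 5, 3]), ([2, 2, 3, 3, 3, 2, 3, 2, 2, 3, 3, 3, 4, 3, 4, 5, 6, 6, 3, 3], [2, 2, 3, 2, 2, 3, 2, 3, 2, 4, 3, 3, 4, 3, 4, 5, 5, 5, 5, 5, 5, 5, 7, 3, 3]), ([2, 2, 3, 3, 3, 2, 3, 2, 2, 3, 3, 4, 4, 4, 3, 4, 5, 5, 5, 5, 5, 5, 5, 5, 3, 6, 3, 3, 3], [2, 2, 3, 2, 3, 3, 3, 2, 3, 3, 3, 4, 3,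 4, 4, 5, 6, 6]), ([2, 3, 3, 2, 3, 2, 3, 3, 4, 4, 3, 4, 5, 5, 5, 5, 5, 5, 5, 5, 3, 6, 3, 3], [2, 2, 3, 2, 3, 2, 3, 2, 3, 3, 4, 4, 4, 5, 6, 7]), ([2, 2, 3, 2, 3, 3, 3, 2, 3, 3, 4, 4, 4, 5, 5, 6, 6, 7, 3, 3, 3], [3, 2, 2, 3, 2, 4, 3, 3, 4, 3, 4, 5, 5, 5, 5, 5, 3, 6, 7, 3, 3, 3]), ([3, 2, 2, 3, 3, 2, 2, 2, 3, 3, 4, 3, 4, 4, 5, 5, 5, 5, 5, 5, 5, 5], [3, 3, 2, 3, 2, 3, 4, 4, 3, 3, 4, 5, 5, 5, 5, 5, 5, 5, 5, 5, 6, 7]), ([2, 3, 4, 4, 3, 4, 5, 5, 5, 5, 5, 6, 3], [3, 2, 2, 4, 3, 3, 4, 3, 4, 5, 5, 5, 6, 6, 6, 3, 3, 3]), ([3, 2, 2, 3, 3, 2, 2, 2, 3, 3, 4, 3, 4, 4, 5, 5, 5, 5, 5, 5, 5, 5, 6, 6, 7, 3], [2, 3, 2, 3, 3, 2, 2, 2]),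 ([2, 2, 3, 2, 3, 3, 3, 2, 3, 3, 4, 4, 4, 5, 5, 6, 6, 6, 7, 3, 3], [3, 2, 2, 2, 3, 2, 3, 3, 4, 3, 4, 5, 5, 5, 5, 5, 5, 5, 5, 5, 6, 6, 7, 3]), ([3, 2, 2, 3, 2, 4, 3, 4, 4, 4, 5, 5, 5, 3, 3, 3], [3, 2, 3, 2, 3, 3, 2, 3, 4, 4, 3, 4, 5, 6, 6, 6, 3, 3, 3]), ([4, 3, 3, 4, 4, 3, 4, 5, 5, 5, 5, 5, 5, 5, 3, 6, 7], [2, 2, 3, 2, 3, 3, 2, 2, 2, 4, 3, 4, 3, 4, 6, 7, 3, 3, 3])],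
    [([2, 2, 2, 3, 2, 3, 2, 2, 3, 4, 4, 5, 5, 5, 5, 5, 5, 5, 5, 5, 6, 6, 6], [3, 2, 3, 2, 2, 3, 3, 2, 3, 4, 4, 3, 3, 4, 5, 5, 5, 5, 5, 5, 5, 5, 6]), ([2, 2, 2, 3, 2, 3, 2, 2, 3, 3, 4, 3, 4, 4, 5, 5, 5, 5, 5, 5, 5, 3, 6, 3, 3, 3], [2, 3, 3, 2, 3, 2, 2, 2, 4, 4, 4, 6, 6, 7, 3, 3, 3]), ([6, 6], [3, 2, 2, 3, 3, 2, 2, 2, 4, 3, 3, 4, 5, 5, 6, 6, 6, 3]), ([3, 2, 2, 3, 2, 3, 3, 4, 4, 5, 5, 5, 5, 5, 5, 5, 5, 5, 6, 3], [2, 3, 2, 3, 2, 3, 2, 4, 3, 4, 4, 4, 5, 5, 5, 5, 5, 5, 5, 5, 5, 6, 6]), ([2, 3, 3, 4, 5, 5], [3, 2, 2, 3, 3, 2, 2, 2, 3, 4, 3, 4, 4, 5, 5, 7, 3, 3, 3]), ([3, 3, 3, 4, 3, 4, 4, 5, 5, 5, 5, 5, 6, 3, 3, 3], [2, 2,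 3, 2, 2, 2, 2, 3, 3, 4, 4, 5, 5, 5, 3, 6, 7, 3, 3, 3]), ([2, 2, 2, 3, 2, 2, 4, 3, 3, 4, 4, 3, 4, 5, 7, 3], [3, 3, 3, 2, 4, 4, 5, 5, 5, 5, 5, 5, 5, 6, 7, 3]), ([2, 2, 2, 3, 2, 2, 3, 4, 4, 4, 5, 5, 5, 5, 5, 5, 5, 5, 5, 6, 7, 3, 3], [3, 3, 2, 2, 2, 3, 2, 2, 2, 3, 3, 3]), ([2, 2, 2, 3, 2, 2, 3, 4, 4, 4, 5, 5, 5, 5, 5, 5, 5, 5, 5, 7, 3, 3, 3], [2, 2, 2, 3, 2, 3, 2, 4, 3, 4, 4, 4, 3, 4, 5, 5, 5, 5, 5, 5, 5, 5, 3, 6, 7, 3, 3, 3]), ([3, 3, 3, 4, 3, 4, 4, 5, 5, 5, 5, 5, 5, 5, 6, 6, 7, 3, 3, 3], [2, 2, 2, 3, 3, 2, 3, 3]), ([2, 2, 2, 3, 2, 2, 4, 3, 3, 4, 4, 3, 4, 5, 5, 5, 5, 5, 5, 5, 5, 5, 3, 6, 3, 3], [2, 2, 3, 2, 2, 2, 2, 4,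 4, 4, 5, 5, 6, 7, 3]), ([2, 2, 2, 3, 2, 2, 3, 4, 4, 4, 5, 3, 6, 7, 3, 3, 3], [3, 3, 2, 2, 2, 4, 5, 5, 5, 5, 5, 5, 5, 5, 5, 3, 6, 7, 3, 3]), ([2, 2, 2, 3, 2, 2, 3, 4, 4, 4, 5, 6, 6, 6, 3, 3, 3], [2, 2, 3, 2, 2, 3, 2, 3, 2, 3, 4, 4, 3, 3, 4, 5, 5, 5, 5, 5, 5, 5, 5, 5, 3, 6, 7, 3]), ([3, 2, 2, 2, 3, 2, 3, 2, 4, 3, 3, 4, 4, 4, 5, 5, 5, 5, 5, 5, 6, 6, 6], [2, 3, 2, 3, 3, 4, 4, 4, 5, 6, 7, 3, 3]), ([2, 3, 2, 3, 3, 3, 2, 3, 3, 4, 3, 4, 4, 5, 5, 5, 5, 5, 6, 3, 3], [3, 2, 3, 3, 3, 2, 3, 2, 4, 4, 4, 3, 4, 5, 5, 5, 5, 5, 5, 5, 5, 5, 6, 6, 7, 3]), ([3, 2, 3, 2, 2, 2, 2, 2, 4, 3, 3, 3, 4, 3, 4, 5, 5, 5, 5, 5, 5, 5, 5, 6, 6, 6, 3,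 3, 3], [3, 3, 3, 2, 2, 4, 4, 4, 7]), ([2, 2, 3, 2, 4, 3, 4, 4, 4, 5, 5, 5], [2, 3, 2, 3, 3, 2, 3, 4, 4, 3, 4, 5, 6, 6, 6, 3, 3, 3]), ([3, 3, 3, 2, 3, 3, 2, 3, 4, 4, 3, 3, 4, 5, 5, 5, 5, 5, 5, 5, 6, 6], [3, 2, 2, 2, 3, 3, 2, 3]), ([3, 3, 3, 2, 3, 4, 4, 3, 4, 5, 5, 5, 5, 5, 6, 7, 3, 3, 3], [2, 2, 3, 2, 2, 4, 4, 6, 6, 7, 3, 3]), ([3, 3, 3, 2, 3, 3, 2, 3, 4, 4, 3, 3, 4, 5, 5, 5, 5, 5, 5, 5, 7, 3], [3, 3, 3, 2, 2, 2, 4, 4, 3, 4, 5, 5, 5, 5, 5, 5, 3, 6]), ([3, 3, 3, 2, 3, 4, 4, 3, 4, 5, 5, 5, 5, 5, 6, 6, 7, 3, 3], [2, 3, 3, 2, 2, 2, 3]), ([3, 3, 3, 2, 4, 3, 4, 3, 4, 5, 5, 5, 5, 6, 6, 6, 7, 3, 3, 3], [2, 2, 2, 3, 2, 3, 2,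 2, 3, 3, 3]), ([3, 3, 3, 2, 4, 3, 4, 3, 4, 5, 5, 5, 5, 7, 3, 3], [2, 3, 3, 2, 4, 4, 3, 3, 4, 5, 5, 5, 3, 6, 3]), ([3, 2, 2, 2, 3, 2, 2, 2, 4, 3, 4, 3, 4, 5, 5, 5, 5, 6, 6, 6, 7, 3, 3], [2, 2, 3, 2, 2, 2, 4, 3, 3, 4, 4, 4, 5, 5, 5, 5, 5, 5, 5, 5, 6, 6, 6, 3, 3]), ([3, 2, 2, 2, 3, 2, 2, 2, 4, 3, 4, 3, 4, 5, 5, 5, 5, 6, 6, 7, 3, 3, 3], [2, 2, 2, 3, 2, 2, 2]), ([3, 2, 2, 2, 2, 3, 2, 3, 3, 3, 4, 3, 4, 4, 5, 5, 5, 5, 5, 5, 5, 6, 6, 6, 3, 3, 3], [2, 2, 2, 3, 2, 3, 2, 2, 4, 4, 3, 4, 5, 5, 5, 3, 6, 7, 3]), ([3, 2, 2, 2, 2, 3, 2, 3, 3, 3, 4, 3, 4, 4, 5, 5, 5, 5, 5, 5, 5, 3, 6, 7, 3, 3, 3], [3, 2, 3, 3, 2, 2, 3, 2, 4, 3, 3, 4,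 3, 4, 5, 5, 5, 5, 5, 3, 6, 7]), ([3, 2, 2, 2, 3, 2, 2, 2, 4, 3, 4, 3, 4, 5, 5, 5, 5, 5, 5, 5, 5, 6, 6, 6, 7], [2, 3, 3, 2, 3, 3, 3, 4, 3, 4, 4, 5, 5, 5, 5, 5, 5, 5, 5, 5, 6, 6, 6, 3, 3]), ([3, 2, 2, 2, 3, 2, 2, 2, 4, 3, 4, 3, 4, 5, 5, 5, 5, 5, 5, 5, 5, 3, 6, 3, 3], [3, 3, 2, 2, 2, 2, 3, 2, 4, 4, 3, 4, 5, 5, 5, 5, 5, 6, 6, 6, 3, 3, 3]), ([2, 2, 3, 3, 3, 2, 3, 2, 2, 3, 3, 4, 4, 4, 3, 4, 5, 5, 5, 5, 6, 6, 6, 3, 3], [3, 3, 3, 2, 3, 2, 2, 2, 3, 4, 3, 3, 4, 3, 4, 5, 5, 5, 5, 5, 5, 3, 3]), ([2, 3, 3, 4, 5, 5, 5, 5, 3, 6, 7, 3], [2, 2, 3, 2, 3, 2, 2, 3, 4, 3, 4, 5, 5, 5, 5, 6, 6, 6, 3, 3]), ([5, 5, 5, 5, 5, 5, 5, 5, 3, 6, 7,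 3, 3, 3], [3, 3, 3, 2, 4, 4, 3, 3, 4, 5, 5, 5, 7, 3, 3]), ([3, 2, 2, 2, 2, 2, 4, 3, 3, 3, 4, 3, 4, 5, 5, 5, 5, 5, 5, 6, 6, 7, 3, 3], [2, 2, 3, 2, 3, 2, 2]), ([3, 3, 3, 2, 2, 2, 3, 2, 3, 3, 4, 3, 4, 4, 5, 5, 5, 5, 5, 5, 5, 5, 5, 6], [3, 3, 3, 2, 3, 2, 2, 3, 3, 4, 4, 3, 4, 5, 5, 5, 5, 5, 6]), ([2, 2, 3, 3, 3, 2, 2, 3, 3, 4, 4, 4, 5, 5, 5, 5, 7, 3, 3], [2, 2, 2, 3, 2, 2, 4, 5, 5, 5, 5, 5, 5, 5]), ([3, 3, 3, 2, 3, 2, 4, 3, 3, 4, 3, 4, 5, 5, 5, 5, 5, 5, 5, 5, 5, 3, 6, 3, 3, 3], [3, 2, 2, 3, 2, 2, 4, 4, 5, 5, 5, 5, 5, 6, 6, 3]), ([3, 3, 3, 2, 3, 2, 4, 3, 4, 5, 5, 5, 5, 5, 5, 5, 5, 6, 7, 3, 3, 3], [2, 3, 3, 2, 3, 2, 4, 4,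 4, 6, 6, 6, 7, 3, 3]), ([3, 3, 3, 2, 3, 2, 3, 3, 4, 4, 4, 3, 4, 5, 5, 5, 5, 5, 5, 5, 5, 5, 6, 6, 6, 7, 3, 3, 3], [2, 3, 3, 3, 2, 3, 3, 2, 3, 3, 4, 3, 4, 5, 5, 5, 5, 5, 5, 5, 5, 5, 6, 6, 6, 7, 3, 3, 3]), ([2, 3, 2, 3, 2, 3, 2, 4, 4, 5, 5, 5, 5, 3, 6, 3, 3, 3], [2, 3, 2, 2, 3, 3, 2, 2, 2, 4, 4, 4, 5, 5, 5, 5, 5, 5, 6, 7, 3, 3]), ([2, 3, 2, 3, 2, 3, 2, 4, 4, 5, 5, 5, 5, 6, 6, 3, 3, 3], [3, 2, 3, 3, 2, 4, 3, 3, 3, 4, 3, 4, 6]), ([3, 3, 3, 2, 3, 2, 3, 3, 4, 4, 4, 3, 4, 5, 5, 5, 5, 5, 6, 6, 7, 3, 3], [3, 3, 2, 3, 2, 4, 3, 3, 4, 3, 4, 5, 5, 5, 5, 5, 6, 6, 6, 3]), ([3, 3, 3, 2, 3, 2, 3, 3, 4, 4, 4, 3, 4, 5, 5, 5, 5, 5, 6, 7,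 3, 3, 3], [2, 2, 2, 3, 3, 3, 2, 3, 3, 4, 3, 4, 4, 5, 5, 5, 5, 5, 5, 5, 6, 6, 6, 7, 3]), ([3, 3, 3, 2, 3, 2, 2, 3, 4, 4, 3, 4, 5, 5, 5, 5, 5, 5, 3, 6], [2, 2, 3, 2, 2, 2, 3, 4, 4, 4, 5, 5, 5, 7, 3, 3, 3]), ([3, 3, 3, 2, 3, 2, 2, 3, 4, 4, 3, 4, 5, 5, 5, 5, 5, 5, 6, 7], [2, 3, 2, 2, 3, 3, 2, 4, 3, 3, 4, 4, 3, 4, 6, 7, 3, 3]), ([2, 3, 3, 3, 2, 3, 3, 2, 4, 4, 3, 4, 5, 5, 5, 3, 6], [3, 2, 2, 2, 3, 3, 4, 3, 4, 5, 5, 5, 5, 5, 5, 3, 6, 3, 3]), ([2, 3, 3, 3, 2, 2, 2, 3, 2, 3, 4, 4, 4, 3, 4, 5, 5, 5, 5, 5, 5, 3, 6, 7, 3], [2, 2, 2, 2, 2, 4, 3, 3, 3, 4, 3, 4, 5, 5, 5, 5, 5, 5, 5, 6, 6, 7, 3, 3]), ([3, 3, 3, 2, 3, 3, 4, 6], [2,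 3, 2, 2, 3, 3, 2, 4, 5, 5, 6, 3, 3]), ([3, 3, 3, 2, 2, 3, 3, 3, 4, 5, 5, 5, 5, 5, 5, 5, 5, 5], [3, 2, 3, 2, 2, 2, 3, 3, 4, 5, 5, 5, 5, 5, 5, 5, 5, 7, 3]), ([3, 2, 2, 2, 3, 3, 2, 4, 3, 3, 3, 4, 3, 4, 5, 5, 5, 5, 5, 6, 6, 6, 7, 3], [3, 3, 2, 2, 3, 3, 2, 3, 4, 3, 3, 4, 3, 4, 5, 5, 5, 6, 7, 3, 3, 3]), ([3, 2, 2, 2, 3, 3, 3, 2, 4, 3, 4, 5, 5, 5, 5, 5, 5, 5, 5, 3, 6, 7], [3, 2, 2, 2, 3, 2, 3, 2, 3]), ([3, 3, 3, 2, 3, 3, 4, 6, 6, 6, 7, 3], [2, 2, 3, 2, 2, 3, 3, 4, 3, 4, 4, 5, 5, 5, 5, 5, 5, 5, 5, 5, 6, 6, 7, 3]), ([3, 2, 2, 2, 3, 3, 3, 2, 4, 3, 4, 5, 5, 5, 5, 5, 5, 5, 5, 6, 6, 7], [2, 2, 2, 3, 2, 2, 2, 3, 4, 4, 3, 4, 5, 6,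 6, 6, 7, 3, 3]), ([2, 3, 2, 3, 2, 3, 2, 4, 3, 3, 4, 4, 4, 5, 5, 5, 5, 5, 6, 6, 6, 3, 3], [3, 3, 3, 2, 2, 2, 3, 4, 3, 4, 5, 5, 5, 5, 5, 5, 5, 5, 6, 6, 6, 7]), ([2, 3, 2, 3, 2, 3, 2, 4, 3, 3, 4, 4, 4, 5, 5, 5, 5, 5, 3], [2, 2, 2, 2, 3, 2, 4, 3, 4, 4, 4, 3, 4, 5, 7, 3, 3]), ([2, 2, 3, 2, 4, 3, 4, 4, 4, 5, 5, 5, 6, 6], [2, 3, 2, 3, 2, 2, 3, 3, 3]), ([2, 2, 3, 2, 3, 2, 3, 2, 3, 4, 4, 4, 3, 4, 5, 5, 5, 6, 6, 7, 3, 3], [2, 3, 3, 2, 2, 2, 2, 2]), ([3, 2, 2, 2, 3, 2, 3, 2, 4, 3, 3, 4, 4, 4, 5, 5, 5, 5, 5, 5, 6, 6, 6, 7, 3], [3, 2, 2, 2, 2, 2, 2, 4, 4, 5, 5, 6, 6, 6, 7, 3, 3, 3]), ([2, 3, 2, 3, 3, 3, 2, 3, 3, 4, 3, 4, 4, 5, 5,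 5, 5, 5, 6, 7, 3, 3, 3], [3, 3, 2, 3, 2, 3, 3, 4, 4, 4, 5, 6, 7, 3, 3]), ([3, 3, 2, 2, 2, 2, 4, 3, 3, 4, 5, 5, 3, 6], [2, 2, 2, 2, 2, 2, 3, 3, 4, 3, 4, 4, 5, 5, 5, 5, 5, 5, 5, 5, 5, 3, 6, 3]), ([2, 3, 2, 3, 3, 3, 2, 3, 3, 4, 3, 4, 4, 5, 5, 5, 5, 5, 6, 6, 7, 3, 3], [3, 3, 2, 6, 7, 3, 3]), ([2, 2, 3, 3, 3, 2, 2, 3, 3, 4, 4, 4, 5, 5, 5, 5, 5, 5, 7], [3, 3, 2, 2, 3, 3, 2, 3, 3, 4, 4, 3, 4, 5, 5, 6, 6, 7, 3, 3, 3]), ([3, 3, 3, 2, 3, 3, 2, 3, 4, 4, 3, 3, 4, 5, 5, 5, 5, 5, 5, 5], [2, 3, 2, 2, 3, 3]), ([3, 2, 2, 3, 3, 3, 2, 2, 4, 4, 4, 3, 4, 5, 5, 5, 5, 5, 3, 6, 3], [2, 2, 3, 2, 3, 3, 2, 2, 2, 3, 3, 3, 4, 3, 4, 4, 5, 5, 5,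 5, 5, 5, 5, 7, 3]), ([3, 2, 3, 3, 2, 3, 4, 4, 3, 3, 4, 5, 5, 5, 5, 5, 5, 5, 6, 6, 3, 3], [2, 3, 2, 3, 2, 2, 2, 2, 2, 4, 4, 3, 3, 4, 5, 5, 5, 5, 5, 5])],
    [([2, 2, 3, 3, 3, 2, 2, 3, 3, 4, 4, 4, 5, 5, 5, 5, 5, 5, 3, 6, 7, 3, 3], [3, 3, 2, 3, 3, 2, 3, 4, 4, 3, 6, 7, 3]), ([2, 3, 2, 2, 3, 3, 2, 2, 2, 3, 4, 4, 3, 3, 4, 5, 5, 5, 5, 5, 5, 6, 6, 7, 3, 3, 3], [2, 3, 2, 2, 2, 3, 3, 4, 3, 4, 4, 5, 5, 5, 5, 5, 5, 5, 5, 6, 3]), ([3, 3, 3, 2, 3, 4, 4, 3, 4, 5, 5, 5, 5, 5, 6, 6, 3], [2, 3, 3, 2, 3, 2, 2, 2, 4, 3, 4, 5, 5, 5, 5, 6, 6, 6, 7, 3]), ([2, 2, 3, 3, 2, 2, 2, 3, 3, 4, 3, 4, 4, 5, 5, 5, 5, 5, 5, 5, 5, 3], [3, 2, 3, 2, 3,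 4, 4, 3, 3, 4, 5, 5, 5, 5, 5, 5, 5, 5, 5, 6, 7]), ([3, 3, 3, 2, 3, 4, 4, 3, 4, 5, 5, 5, 5, 5, 6, 3, 3], [2, 2, 4, 3, 3, 4, 3, 4, 5, 5, 5, 6, 6, 6, 3, 3, 3]), ([2, 3, 2, 2, 3, 2, 4, 3, 3, 3, 4, 3, 4, 5, 5, 5, 6, 3, 3, 3], [3, 2, 3, 2, 2, 2, 3, 2, 2, 3, 4, 5, 5, 5, 5, 3, 6]), ([3, 2, 3, 2, 2, 2, 2, 2, 4, 3, 3, 3, 4, 3, 4, 5, 5, 5, 5, 5, 5, 5, 5, 6, 6, 6, 7], [2, 2, 3, 2, 2, 3, 2, 3, 2, 3, 4, 4, 3, 3, 4, 5, 5, 5, 5, 5, 5, 5, 5, 5, 3, 6, 7, 3, 3]), ([2, 2, 3, 2, 3, 2, 3, 2, 3, 4, 4, 4, 3, 4, 5, 5, 5, 6, 7, 3, 3, 3], [3, 2, 3, 3, 3, 2, 4, 3, 3, 4, 4, 4, 5, 5, 5, 5, 5, 7, 3, 3]), ([2, 3, 2, 3, 3, 2, 3, 4, 3, 4, 5, 5, 3, 6,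 3, 3, 3], [3, 2, 3, 2, 3, 3, 4, 4, 4, 5, 6, 7]), ([3, 2, 2, 3, 2, 2, 2, 2, 4, 3, 4, 5, 5, 5, 5, 5, 5, 5, 5, 5, 6, 6, 6], [2, 2, 2, 2, 2, 3, 2, 3, 4, 4, 3, 4, 5, 6, 6, 7]), ([2, 3, 2, 3, 3, 2, 3, 4, 3, 4, 5, 5, 6, 6, 3, 3, 3], [3, 2, 3, 2, 2, 2, 2, 3, 3, 4, 5, 5, 5, 5, 5, 6, 6, 7, 3]), ([3, 2, 2, 3, 2, 2, 2, 2, 4, 3, 4, 5, 5, 5, 5, 5, 5, 5, 5, 5, 6, 7, 3], [2, 2, 2, 3, 2, 4, 6, 6, 7]), ([2, 2, 3, 3, 3, 2, 4, 4, 4, 3, 4, 5, 5, 3, 3], [3, 3, 3, 2, 3, 2, 3, 2, 3, 3, 4, 5, 5, 5, 5, 5, 6, 6, 6, 3]), ([3, 2, 2, 2, 3, 3, 2, 4, 3, 4, 4, 5, 6, 6, 6, 3], [2, 3, 2, 2, 3, 3, 2, 2, 2, 3, 3, 3, 4, 3, 4, 4, 5, 5, 5, 6, 6, 3]), ([2,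 3, 3, 3, 2, 3, 3, 2, 3, 4, 3, 3, 4, 3, 4, 5, 5, 5, 5, 5, 5, 5, 6, 6, 3], [2, 3, 2, 3, 3, 2, 2, 2, 3, 3, 3, 4, 3, 4, 4, 5, 5, 5, 5, 5, 5, 5, 7, 3]), ([3, 3, 2, 2, 3, 2, 3, 3, 4, 4, 4, 5, 5, 5, 5, 5, 5, 5, 5, 5, 6], [3, 3, 2, 2, 2, 3, 3, 2]), ([2, 3, 3, 3, 2, 2, 2, 3, 2, 4, 3, 3, 4, 4, 4, 6, 6, 6, 3, 3, 3], [3, 2, 3, 3, 2, 2, 3, 2, 4, 3, 3, 4, 5, 5, 5, 3, 6, 7, 3]), ([3, 3, 3, 2, 4, 3, 3, 4, 5, 5, 5, 5, 3, 6, 3, 3, 3], [3, 3, 3, 2, 3, 2, 3, 2, 3, 3, 3]), ([2, 3, 3, 3, 2, 3, 3, 2, 3, 4, 3, 3, 4, 3, 4, 5, 5, 5, 5, 5, 5, 5, 6, 3, 3], [2, 3, 3, 3, 2, 3, 2, 4, 4, 5, 5, 5, 5, 5, 5, 3, 6, 7, 3, 3]), ([3, 3, 3, 2, 4, 3, 3, 4,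 5, 5, 5, 5, 6, 6, 3, 3, 3], [2, 2, 3, 3, 4, 4, 3, 4, 6, 3, 3, 3]), ([3, 3, 3, 2, 2, 4, 5, 5, 5, 3, 3, 3], [2, 3, 3, 3, 2, 3, 2, 2, 3, 3, 3]), ([3, 2, 2, 2, 3, 3, 3, 2, 4, 3, 4, 4, 5, 7, 3, 3], [2, 3, 2, 3, 2, 2, 2, 2, 2, 4, 3, 4, 4, 4, 3, 4, 5, 5, 6, 6, 6, 7, 3, 3]), ([3, 3, 2, 2, 2, 2, 2, 4, 3, 4, 4, 4, 5, 5, 5, 5, 5, 5, 5, 5, 3, 3, 3], [3, 3, 2, 2, 2, 2, 3, 4, 4, 3, 4, 5, 5, 5]), ([2, 3, 2, 2, 2, 4, 3, 3, 4, 4, 3, 4, 6, 6, 6, 7], [2, 2, 3, 2, 3, 2, 3, 4, 3, 4, 5, 5, 5, 5, 6, 6, 3, 3, 3]), ([2, 3, 3, 2, 3, 3, 2, 2, 2, 3, 4, 4, 4, 5, 6, 6, 3, 3, 3], [2, 3, 2, 2, 2, 2, 2, 2, 3, 3, 4, 4, 3, 4, 5, 5, 5, 5, 5, 5, 5, 5]),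 ([2, 2, 3, 2, 2, 3, 3, 3, 4, 3, 4, 4, 5, 5, 5, 5, 3, 6, 3, 3, 3], [3, 2, 2, 3, 3, 3, 2, 2, 3, 3, 4, 4, 4, 5, 5, 5, 5, 5, 5, 5, 5, 5, 6, 7]), ([3, 3, 3, 2, 3, 3, 4, 5, 5, 5, 5, 5, 5, 5, 5, 6, 6, 7, 3, 3], [2, 2, 3, 2, 3, 2, 2, 4, 4, 5, 5, 5, 5, 6, 6]), ([3, 3, 3, 2, 3, 3, 4, 5, 5, 5, 5, 5, 5, 5, 5, 6, 7, 3, 3, 3], [2, 3, 2, 3, 2, 3, 3, 4, 4, 5, 5, 5, 5, 5, 5, 7]), ([3, 3, 4, 3, 4, 5, 5, 5, 5, 3], [3, 2, 2, 2, 3, 2, 3, 2, 4, 3, 3, 4, 4, 3, 4, 5, 5, 5, 5, 5, 5, 3, 3]), ([4, 4, 4, 5, 5, 5, 7, 3, 3, 3], [3, 3, 3, 2, 3, 3, 4, 4, 3, 4, 5, 5, 6, 7, 3]), ([4, 4], [3, 4, 3, 4, 4, 5, 5, 5, 6, 3, 3]), ([2, 2, 2, 2, 2, 3, 3, 4,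 5, 5, 5, 5, 5, 6, 6, 6, 3, 3, 3], [2, 2, 2, 2, 2, 3, 2, 3, 3, 4, 4, 3, 4, 5, 6, 6, 3, 3, 3]), ([2, 2, 2, 2, 2, 4, 3, 3, 4, 4, 3, 4, 5, 5, 5, 5, 5, 5, 5, 3, 3, 3], [2, 2, 3, 2, 2, 2, 2, 4, 4, 4, 5, 5, 6, 7]), ([2, 2, 2, 2, 2, 3, 4, 3, 4, 4, 5, 5, 7, 3, 3, 3], [2, 3, 3, 3, 2, 3, 2, 2]), ([3, 3, 3, 2, 3, 2, 2, 3, 3, 4, 3, 4, 4, 5, 5, 5, 5, 6, 6, 3, 3, 3], [2, 2, 2, 2, 2, 2, 3, 3, 3, 4, 3, 4, 4, 5, 5, 5, 5, 5, 5, 5, 5, 5, 6, 6, 7, 3]), ([3, 3, 3, 2, 3, 2, 2, 4, 3, 3, 4, 5, 5, 5, 5, 5, 5, 5, 6, 6, 6, 3, 3, 3], [2, 2, 3, 2, 4, 5, 5, 5, 5, 5, 5, 5, 5, 5, 3, 6, 7, 3, 3]), ([3, 3, 3, 2, 3, 2, 2, 4, 4, 3, 3, 4, 5, 6, 6, 3, 3],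 [2, 3, 2, 3, 2, 3, 3, 2]), ([2, 3, 2, 3, 2, 3, 2, 4, 3, 3, 4, 4, 4, 5, 5, 5, 6, 7, 3], [3, 2, 2, 2, 3, 3, 3, 2, 3, 3, 4, 3, 4, 6, 3]), ([2, 3, 2, 3, 2, 3, 2, 4, 6, 6, 6, 3, 3], [3, 3, 3, 2, 3, 2, 2, 2, 4, 3, 3, 3, 4, 3, 4, 5, 5, 6, 6, 6, 3, 3]), ([2, 3, 2, 3, 2, 3, 2, 4, 3, 4, 5, 5, 5, 6, 7, 3, 3], [3, 2, 2, 3, 2, 2, 3, 3, 3, 4, 3, 4, 5, 5, 5, 5, 5, 7, 3, 3, 3]), ([2, 3, 3, 2, 2, 2, 3, 3, 4, 4, 3, 4, 5, 5, 5, 5, 5, 5, 6, 6, 6], [2, 3, 3, 3, 2, 4, 3, 4, 3, 4, 5, 5, 3, 6, 3]), ([2, 4, 3, 3, 4, 5, 5, 5, 5, 5, 5, 6, 3], [3, 3, 2, 3, 3, 2, 2, 2, 4, 3, 4, 4, 4, 5, 5, 6, 6, 6, 3, 3, 3]), ([3, 3, 4, 4, 4, 3, 4, 5, 5, 3, 3,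 3], [3, 2, 2, 3, 3, 2, 4, 3, 4, 4, 5, 5, 7, 3, 3]), ([2, 3, 3, 2, 2, 2, 3, 3, 4, 4, 3, 4, 3, 6, 7, 3, 3], [2, 2, 2, 4, 3, 3, 4, 4, 4, 5, 5, 5, 5, 5, 7, 3, 3]), ([2, 4, 3, 3, 4, 5, 5, 5, 5, 6, 6, 3, 3], [3, 2, 2, 3, 3, 4, 4, 3, 4, 6, 3, 3, 3]), ([3, 2, 2, 3, 3, 2, 4, 3, 4, 5, 5, 3, 6, 7, 3], [2, 3, 3, 3, 2, 2, 3, 3, 4, 4, 4, 3, 4, 5, 5, 5, 5, 6, 6, 6, 3]), ([2, 3, 2, 2, 3, 2, 3, 2, 3, 4, 4, 3, 3, 4, 5, 5, 5, 5, 5, 5, 6, 6, 7, 3, 3, 3], [3, 3, 2, 2, 2, 2, 4, 3, 4, 4, 4, 3, 4, 5, 5, 5, 5, 5, 5, 6, 6, 6, 3]), ([2, 2, 2, 3, 2, 2, 2, 4, 4, 3, 4, 5, 5, 5, 5, 5, 5, 5, 5, 5, 3, 6], [3, 2, 3, 2, 2, 2, 2, 2, 2, 3, 3, 4, 3, 4,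 5, 5, 5, 5, 5, 5, 5, 7]), ([3, 3, 3, 2, 3, 2, 3, 4, 3, 3, 4, 3, 4, 5, 5, 5, 5, 7, 3], [3, 2, 3, 3, 2, 2, 2, 3, 4, 3, 4, 5, 5, 5]), ([3, 3, 3, 2, 3, 2, 3, 4, 3, 3, 4, 3, 4, 5, 5, 5, 5, 6, 6], [3, 2, 2, 2, 3, 2, 4, 5, 5, 5, 5, 5, 5, 5, 5, 6, 6, 6, 7, 3]), ([3, 3, 3, 2, 4, 3, 4, 4, 5, 5, 7, 3, 3, 3], [2, 2, 2, 2, 4, 3, 3, 4, 4, 3, 4, 5, 5, 5, 5, 3, 6, 7, 3, 3]), ([3, 3, 3, 2, 4, 3, 4, 4, 5, 5, 6, 7, 3, 3], [2, 3, 3, 3, 2, 3, 2, 3, 4, 4, 5, 5, 5, 5, 5, 5, 5, 5, 5, 6, 6, 7, 3]), ([3, 2, 2, 3, 2, 2, 3, 3, 3, 4, 3, 4, 4, 5, 5, 5, 5, 6, 6, 6, 7], [2, 2, 3, 3, 3, 2, 4, 4, 5, 5, 5, 5, 5, 5, 5, 6, 7, 3, 3, 3]), ([3, 2, 2, 2, 3,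 3, 4, 4, 4, 5, 5, 6, 6, 3, 3, 3], [2, 3, 2, 2, 3, 3, 4, 4, 3, 4, 6, 6, 6, 3, 3]), ([3, 2, 2, 2, 4, 4, 4, 5, 5, 3, 6, 3, 3, 3], [2, 3, 2, 3, 2, 3, 3, 2, 3, 3, 3]), ([3, 2, 3, 3, 3, 2, 3, 2, 4, 3, 4, 4, 4, 3, 4, 5, 5, 3, 6, 7], [2, 2, 3, 2, 3, 2, 3, 4, 4, 3, 3, 4, 5, 5, 5, 5, 5, 5, 5, 5, 5, 3, 6, 3, 3, 3]), ([3, 3, 3, 2, 3, 2, 2, 4, 3, 3, 4, 5, 5, 5, 5, 5, 5, 5, 5, 5], [3, 2, 3, 2, 2, 2, 3, 2, 2, 4, 3, 3, 4, 5, 5, 7, 3]), ([3, 2, 2, 3, 2, 2, 3, 3, 3, 4, 3, 4, 4, 5, 5, 5, 5, 5, 5, 7, 3], [2, 3, 2, 2, 2, 2, 2, 3, 3]), ([3, 2, 2, 2, 4, 4, 4, 5, 5, 5, 5, 5, 5, 5, 5, 6, 6, 6, 7, 3, 3, 3], [3, 2, 3, 3, 2, 4, 3, 3, 4, 5, 5,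 5, 5, 5, 5, 5, 5, 6, 7, 3, 3]), ([3, 2, 2, 3, 2, 2, 3, 4, 5, 5, 5, 6, 7, 3], [3, 3, 2, 3, 3, 2, 2, 2, 4, 3, 4, 3, 4, 6, 7, 3, 3, 3]), ([3, 3, 3, 2, 3, 2, 2, 4, 3, 3, 4, 5, 5, 5, 5, 5, 5, 5, 5, 5, 6, 6, 7, 3], [2, 3, 3, 3, 2, 3, 3, 3]), ([2, 2, 3, 2, 2, 2, 2, 2, 2, 3, 3, 3, 4, 3, 4, 4, 3, 6, 7], [2, 3, 2, 3, 2, 2, 4, 3, 4, 4, 5, 6, 7, 3, 3, 3]), ([3, 2, 2, 2, 3, 3, 4, 4, 4, 5, 5, 5, 5, 5, 5, 5, 5, 6, 6, 6, 7, 3, 3, 3], [2, 2, 3, 3, 3, 2, 4, 3, 4, 5, 5, 5, 5, 5, 3, 6, 7]), ([3, 2, 2, 2, 4, 4, 4, 5, 5, 5, 5, 5, 5, 5, 5, 7, 3, 3], [3, 2, 2, 3, 3, 3, 2, 2, 4, 4, 6, 6, 7, 3, 3])]]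

/-- part of a table -/
def conjs1 : List (List (List ℕ × List ℕ)) :=
  [[([3, 2, 3, 2, 2, 3, 4, 4, 3, 4, 5, 5, 5, 5, 5, 5, 6, 7, 3, 3], [3, 3, 2, 3, 3, 2, 2, 2, 4, 4, 5, 5, 5, 6, 6]), ([3, 2, 2, 3, 2, 2, 3, 3, 3, 4, 3, 4, 4, 5, 5, 5, 5, 3, 6, 3, 3], [3, 3, 2, 3, 2, 4, 4, 3, 3, 4, 5, 7, 3, 3]), ([2, 2, 3, 2, 2, 2, 2, 2, 2, 3, 3, 3, 4, 3, 4, 4, 5, 5, 5, 5, 6], [3, 3, 2, 3, 3, 2, 4, 4, 3, 3, 4, 5, 5, 5, 6, 6, 3]), ([3, 2, 3, 3, 3, 2, 3, 2, 4, 3, 4, 4, 4, 3, 4, 5, 5, 6, 6, 7], [2, 3, 2, 3, 3, 3, 4, 3, 4, 4, 5, 5, 5, 5, 5, 5, 5, 5, 5, 6, 6, 6, 3, 3]), ([3, 2, 2, 3, 2, 2, 3, 4, 5, 5, 5, 5, 5, 5, 5, 3, 6, 7, 3, 3], [3, 3,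 2, 2, 2, 3, 2, 2, 2, 3, 4, 4, 3, 4, 5, 5, 5, 3, 6, 3, 3]), ([3, 2, 3, 2, 2, 3, 4, 4, 3, 4, 5, 5, 5, 5, 5, 5, 5, 5, 6, 6, 6, 3, 3, 3], [2, 3, 2, 3, 2, 2, 4, 4, 3, 4, 5, 5, 5, 5, 5, 5, 5, 5, 5, 6, 7]), ([2, 3, 2, 2, 3, 3, 4, 3, 4, 4, 5, 5, 5, 5, 6, 6, 3, 3], [3, 3, 2, 2, 3, 4, 3, 3, 4, 3, 4, 5, 5, 5, 3, 6, 7, 3, 3, 3]), ([3, 3, 2, 3, 2, 4, 4, 3, 4, 5, 5, 5, 7, 3], [2, 2, 3, 3, 3, 2, 4, 3, 4, 5, 5, 5, 5, 5, 3, 6, 7, 3, 3, 3]), ([3, 2, 2, 2, 2, 3, 4, 3, 3, 4, 3, 4, 5, 5, 5, 5, 5, 5, 5, 5, 3, 6, 7, 3, 3], [3, 2, 3, 2, 2, 2, 3, 2, 2, 3, 4, 3, 4, 5, 6, 7]), ([3, 3, 2, 2, 2, 3, 3, 2, 4, 4, 5, 5, 5, 5, 5, 6, 3], [2, 3, 3, 2,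 2, 3, 3, 2, 4, 3, 4, 4, 3, 3, 3]), ([2, 2, 3, 2, 3, 2, 4, 3, 4, 4, 4, 5, 5, 5, 5, 5, 5, 5, 5, 5, 6, 6, 6, 7, 3, 3, 3], [2, 2, 3, 2, 2, 3, 2, 4, 4, 4, 5, 5, 5, 5, 6, 7]), ([2, 3, 2, 2, 2, 2, 2, 2, 3, 4, 4, 3, 4, 7], [3, 2, 3, 2, 2, 2, 3, 2, 2, 3, 3, 3, 4, 3, 4, 5, 5, 5, 3, 6, 3]), ([2, 3, 2, 2, 4, 3, 4, 4, 4, 5, 5, 6, 6, 3, 3], [3, 2, 3, 2, 2, 2, 2, 2, 3, 4, 4, 3, 4, 5, 5, 5, 5, 5, 5, 5, 5, 5, 6, 6, 7, 3, 3]), ([3, 3, 2, 3, 2, 3, 4, 3, 3, 4, 3, 4, 5, 5, 5, 5, 5, 3], [3, 3, 3, 2, 3, 2, 4, 5, 5, 5, 5, 5, 5, 5, 5, 5, 3, 6, 7, 3, 3, 3]), ([3, 2, 2, 2, 2, 3, 2, 3, 3, 3, 4, 3, 4, 4, 5, 5, 5, 5, 5, 5, 5, 5, 5, 6, 6, 7, 3],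 [3, 2, 2, 2, 3, 3, 2, 3, 3, 3, 4, 3, 4, 4, 5, 5, 5, 5, 5, 5, 5, 5, 5, 6, 6]), ([3, 2, 2, 2, 2, 3, 2, 3, 3, 3, 4, 3, 4, 4, 5, 5, 5, 5, 5, 5, 5, 5, 5], [3, 2, 2, 4, 3, 4, 4, 4, 5, 5, 5, 6, 3, 3, 3]), ([3, 3, 3, 2, 3, 3, 4, 5, 5, 5, 5, 3, 6, 7, 3, 3], [3, 2, 2, 2, 3, 2, 2, 4, 4, 3, 3, 4, 5, 5, 5, 5, 5, 3, 6, 7, 3, 3, 3]), ([3, 3, 3, 2, 3, 3, 4, 5, 5, 5, 5, 7], [2, 3, 2, 2, 2, 3, 2, 4, 3, 4, 4, 4, 3, 4, 5, 5, 5, 5, 5, 5, 5, 5, 5, 7]), ([3, 3, 2, 2, 3, 3, 2, 4, 3, 3, 4, 4, 3, 4, 6, 6, 6, 7, 3, 3, 3], [3, 2, 3, 2, 3, 3]), ([3, 3, 3, 2, 2, 2, 2, 3, 4, 4, 4, 6, 6, 6, 7, 3, 3], [2, 2, 3, 3, 3, 2, 3, 2, 3, 3]), ([3, 2, 2, 4,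 4, 4, 3, 4, 6, 6, 7, 3], [3, 3, 2, 2, 3, 3, 4, 4, 3, 4, 5, 5, 6, 7, 3]), ([2, 3, 3, 3, 2, 3, 2, 4, 3, 3, 4, 4, 3, 4, 5, 5, 6, 7, 3], [3, 3, 2, 3, 2, 3, 2, 3, 3, 4, 4, 4, 5, 6, 7, 3, 3, 3]), ([3, 3, 3, 2, 2, 2, 2, 3, 3, 3, 4, 5, 7, 3, 3, 3], [2, 3, 2, 3, 2, 3, 3, 4, 5, 5, 5, 5, 5, 5, 6, 6, 7, 3, 3]), ([3, 2, 2, 4, 6], [3, 3, 3, 2, 2, 3, 4, 3, 4, 5, 5, 5, 5, 5, 7, 3]), ([2, 2, 3, 2, 2, 3, 2, 3, 2, 4, 3, 3, 4, 3, 4, 5, 6, 6, 6, 7], [3, 3, 3, 2, 3, 2, 2, 4, 4, 5, 5, 5, 5, 5, 6, 6, 3]), ([3, 3, 2, 3, 2, 2, 2, 4, 3, 4, 5, 5, 5, 5, 5, 5, 6, 6], [2, 2, 2, 3, 2, 4, 6, 6, 7, 3, 3]), ([2, 3, 2, 2, 2, 2, 4, 3, 4, 4, 4, 5, 3, 6],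 [2, 2, 3, 3, 3, 2, 3, 4, 3, 4, 5, 5, 5, 7, 3, 3, 3]), ([2, 3, 2, 2, 2, 4, 3, 4, 4, 4, 3, 4, 5, 5, 3, 6, 7], [2, 3, 2, 2, 3, 4, 4, 4, 3, 4, 6, 6, 6, 7, 3, 3]), ([2, 3, 2, 3, 3, 2, 2, 2, 3, 4, 3, 4, 6, 7, 3, 3, 3], [2, 3, 3, 3, 2, 2, 3, 4, 4, 3, 4, 5, 5, 5, 5, 5, 6, 3, 3, 3]), ([2, 3, 2, 2, 4, 3, 3, 4, 5, 5, 5, 5, 5, 5, 5, 6, 6, 6, 3, 3], [2, 3, 3, 2, 3, 2, 3, 3, 3, 4, 3, 4, 4, 5, 5, 5, 5, 5, 5, 5, 5, 6, 6, 3, 3, 3]), ([2, 3, 2, 3, 3, 2, 2, 2, 3, 4, 4, 3, 4, 5, 5, 6, 6, 3, 3, 3], [2, 3, 3, 2, 2, 2, 2, 2, 3, 3, 3, 4, 3, 4, 4, 5, 5, 6, 7, 3]), ([3, 2, 4, 3, 4, 4, 5, 5, 7, 3], [3, 3, 2, 2, 2, 2, 4, 3, 3, 4, 4, 3, 4, 5, 5,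 5, 5, 3, 6, 7, 3, 3]), ([3, 2, 3, 2, 3, 3, 2, 4, 4, 4, 3, 4, 5, 5, 5, 5, 5, 5, 5, 6, 6, 6, 7, 3], [2, 3, 2, 3, 2, 3, 2, 3, 3, 3]), ([2, 3, 2, 3, 4, 3, 3, 4, 3, 4, 5, 5, 5, 5, 7], [3, 3, 2, 3, 3, 2, 2, 2, 3, 4, 3, 4, 5, 5, 5]), ([2, 3, 2, 3, 2, 2, 2, 2, 2, 4, 3, 4, 3, 4, 5, 5, 5, 5, 5, 6, 7], [2, 2, 3, 2, 2, 2, 3, 4, 5, 5, 5, 5, 5, 5, 6, 7, 3]), ([2, 3, 2, 2, 3, 4, 4, 3, 4, 5, 5, 5, 5, 5, 5, 5, 5, 6, 6, 6], [3, 3, 2, 2, 3, 3, 2, 2, 2, 3, 4, 3, 3, 4, 3, 4, 3, 3]), ([3, 2, 3, 3, 2, 2, 3, 2, 3, 3, 4, 4, 4, 3, 4, 5, 5, 5, 5, 5, 5, 5, 5, 5, 3, 6, 3, 3, 3], [3, 3, 2, 3, 3, 3, 2, 4, 3, 4, 4, 5, 5, 5, 5, 5, 6, 6, 6, 7, 3, 3]),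 ([3, 3, 3, 2, 2, 2, 2, 4, 3, 4, 4, 4, 5, 5, 5, 5, 5, 3, 3], [2, 2, 3, 2, 3, 2, 3, 2, 3, 3]), ([3, 2, 3, 3, 2, 2, 3, 2, 3, 3, 4, 4, 4, 5, 5, 5, 5, 6, 6, 7, 3], [2, 2, 3, 3, 2, 2, 2, 4, 3, 3, 4, 5, 5, 5, 5, 5, 5, 5, 5, 7]), ([2, 3, 2, 2, 3, 3, 2, 4, 3, 4, 4, 4, 5, 5, 5, 5, 5, 5, 5, 5, 6, 7], [3, 3, 3, 2, 3, 2, 2, 4, 3, 4, 4, 4, 3, 4, 5, 5, 5, 5, 7, 3, 3]), ([3, 3, 2, 5, 5, 5, 5, 5, 7, 3, 3, 3], [3, 3, 2, 2, 2, 3, 4, 4, 3, 4, 5, 6, 6, 6, 7, 3, 3]), ([3, 2, 2, 2, 2, 2, 2, 4, 5, 5, 5, 5, 6, 6, 3], [2, 3, 2, 2, 2, 2, 2, 3, 4, 3, 4, 4, 3, 6, 7, 3, 3]), ([2, 2, 2, 3, 2, 4, 3, 3, 4, 4, 3, 4, 5, 6, 6, 6, 7, 3, 3], [3, 3, 3, 2,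 3, 2, 2, 2, 3, 3, 3, 4, 5, 5, 5, 5, 5, 5, 5, 5, 6, 6, 6, 7]), ([3, 3, 3, 2, 2, 2, 2, 3, 3, 3, 4, 3, 4, 4, 5, 6, 6, 3, 3, 3], [3, 2, 3, 3, 3, 2, 2, 4, 3, 3, 3, 4, 3, 4, 5, 5, 5, 5, 5, 5, 5, 5, 5, 6]), ([2, 2, 3, 2, 2, 2, 2, 2, 3, 4, 3, 4, 4, 5, 5, 7, 3, 3], [3, 3, 2, 3, 2, 3, 4, 4, 4, 5, 5, 5, 5, 7]), ([2, 3, 3, 2, 2, 2, 2, 2, 3, 4, 4, 5, 5, 5, 5, 5, 5, 6, 7, 3, 3, 3], [3, 3, 3, 2, 3, 2, 3, 4, 4, 5, 5, 5, 5, 5, 5, 5, 5, 5, 6, 6, 7, 3]), ([2, 2, 3, 2, 2, 2, 2, 2, 4, 3, 4, 3, 4, 5, 5, 5, 5, 5, 5, 5, 5, 5, 6, 6, 3], [2, 2, 3, 2, 2, 2]), ([3, 3, 2, 3, 4, 4, 3, 4, 5, 5, 5, 5, 5, 6, 7], [3, 2, 3, 2, 3, 3, 2, 3, 3, 4, 4, 3,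 4, 6]), ([2, 3, 3, 3, 2, 3, 2, 2, 4, 4, 3, 4, 5, 5, 5, 5, 5, 7], [2, 3, 3, 3, 2, 2, 3, 3, 4, 3, 4, 4, 5, 5, 5, 5, 5, 5, 5, 5, 5, 6, 6, 7, 3, 3, 3]), ([2, 2, 3, 2, 3, 3, 2, 2, 2, 3, 4, 4, 6, 3, 3, 3], [3, 2, 2, 3, 2, 2, 3, 4, 3, 4, 4, 5, 5, 5, 5, 6, 6, 6]), ([2, 3, 3, 3, 2, 3, 2, 2, 3, 4, 5, 5, 6, 6, 3, 3, 3], [2, 3, 3, 3, 2, 2, 2, 3, 2, 3, 4, 5, 5, 5, 5, 5, 5, 5, 5, 3, 3, 3]), ([2, 3, 2, 2, 2, 2, 2, 4, 3, 3, 3, 4, 3, 4, 5, 5, 5, 5, 5, 5, 5, 5, 6, 6, 6, 7, 3], [3, 2, 3, 2, 2, 2, 3, 2, 2, 3]), ([2, 2, 2, 3, 2, 2, 4, 3, 4, 3, 4, 5, 7], [2, 2, 3, 3, 2, 4, 4, 5, 5, 5, 5, 5, 5, 5, 6, 7, 3, 3, 3]), ([2, 2, 2, 3, 2, 2, 4, 3,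 3, 4, 5, 5, 5, 5, 5, 5, 5, 5, 5, 7, 3, 3], [3, 3, 2, 2, 2, 3, 2, 3, 3]), ([2, 2, 2, 3, 2, 2, 4, 4, 4, 3, 4, 5, 5, 5, 5, 5, 5, 3, 6], [2, 3, 2, 2, 3, 2, 3, 3]), ([3, 4, 3, 4, 5, 5, 6, 7], [3, 3, 3, 2, 3, 2, 2, 2, 4, 3, 4, 4, 4, 5, 5, 5, 3, 6, 7, 3, 3, 3]), ([2, 2, 2, 3, 2, 2, 4, 3, 3, 4, 5, 5, 5, 3, 6, 3, 3, 3], [2, 3, 2, 2, 3, 3, 2, 2, 2, 4, 3, 4, 4, 4, 3, 4, 5, 5, 5, 5, 5, 3, 6, 3]), ([4, 3, 4, 5, 5, 5, 5, 5, 5, 6, 6, 3], [3, 2, 2, 3, 2, 2, 3]), ([2, 2, 2, 3, 2, 2, 4, 4, 4, 3, 4, 5, 5, 5, 5, 6, 6, 7, 3], [2, 2, 2, 2, 2, 3, 2, 4, 3, 3, 4, 4, 4, 5, 3, 6]), ([2, 2, 2, 3, 2, 2, 3, 4, 3, 4, 4, 5, 5, 5, 5, 5, 5, 5, 6, 6,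 6], [2, 3, 3, 3, 2, 2, 4, 3, 3, 4, 3, 4, 5, 5, 6, 6, 6]), ([2, 2, 2, 3, 2, 2, 2, 4, 4, 3, 3, 4, 5, 5, 5, 7], [2, 3, 2, 2, 2, 4, 4, 5, 5, 5, 5, 6, 3]), ([2, 2, 2, 3, 2, 2, 2, 4, 5, 5, 5, 5, 5, 5, 5, 5, 6, 6, 6, 7, 3], [3, 2, 2, 2, 3, 2, 2]), ([3, 4, 3, 4, 5, 5, 5, 5, 5, 5, 5, 5, 5, 6, 6, 6, 7], [2, 3, 2, 2, 3, 3, 4, 3, 4, 4, 5, 5, 5, 5, 5, 5, 5, 5, 5, 6, 6, 7, 3]), ([2, 2, 2, 3, 2, 2, 4, 3, 3, 4, 3, 6, 3], [2, 2, 2, 3, 3, 4, 3, 4, 4, 5, 5, 5, 5, 5, 5, 5, 5, 5, 6, 6, 7, 3, 3])],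
    [([2, 2, 2, 3, 2, 2, 3, 4, 3, 4, 5, 5, 5, 5, 5, 5, 5, 5, 6, 7, 3, 3, 3], [2, 3, 3, 3, 2, 2, 4, 3, 3, 4, 4, 3, 4, 6, 6, 7, 3, 3, 3]), ([2, 2, 2, 3, 2, 2, 4, 4, 4, 3, 4, 5, 5, 5, 5, 5, 7, 3], [3, 3, 3, 2, 3, 2, 3, 2, 4, 3, 4, 4, 4, 3, 6, 7, 3, 3]), ([4, 3, 4, 5, 5, 5, 5, 5, 3], [2, 3, 2, 2]), ([2, 2, 2, 3, 2, 2, 4, 3, 4, 5, 5, 6, 6, 3, 3], [3, 2, 3, 3, 2, 2, 2, 3, 3, 3, 4, 3, 4, 4, 5, 5, 5, 5, 5, 5, 5, 7, 3]), ([2, 2, 2, 3, 2, 2, 4, 4, 4, 3, 4, 5, 5, 5, 3, 6, 3, 3], [3, 2, 3, 2, 2, 2, 3, 2, 2, 4, 3, 3, 4, 3, 4, 5, 5, 5, 5, 5, 6, 6, 6, 7]), ([2, 2, 2, 3, 2, 2, 4, 3, 3, 4, 5, 5, 5, 5, 6, 6, 7, 3, 3], [2, 3, 2, 2, 4,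 3, 4, 4, 5, 5, 5, 5, 5, 5, 7, 3]), ([3, 3, 3, 2, 2, 2, 2, 3, 2, 3, 4, 4, 5, 5, 5, 5, 5, 5, 5, 5, 3], [2, 3, 2, 2, 3, 3, 2, 4, 3, 4, 4, 5, 5, 7, 3, 3, 3]), ([3, 3, 3, 2, 2, 2, 2, 3, 2, 4, 3, 4, 4, 4, 3, 4, 5, 5, 5, 5, 5, 5, 5, 5, 6, 7, 3, 3], [3, 3, 3, 2, 3, 3, 2, 3, 3, 4, 3, 4, 5, 5, 5, 5, 5, 5, 5, 5, 5, 6, 6, 6, 7, 3, 3, 3]), ([2, 3, 3, 2, 3, 3, 2, 2, 2, 4, 3, 3, 4, 3, 4, 5, 5, 5, 5, 5, 5, 5, 5, 3, 6, 3, 3, 3], [3, 2, 2, 4, 3, 3, 3, 4, 3, 4, 5, 5, 5, 5, 5, 7]), ([3, 3, 2, 2, 2, 3, 2, 4, 3, 3, 4, 4, 3, 4, 5, 5, 5, 5, 5, 5, 5, 5, 6, 3], [2, 2, 3, 2, 2, 3, 3, 4, 4, 3, 4, 5, 5, 5, 5, 5, 6, 3]), ([2, 3, 3, 2, 2, 2, 4, 4,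 5, 5, 5, 5, 5, 5, 5, 3, 6, 7, 3, 3, 3], [3, 3, 3, 2, 3, 2, 4, 4, 5, 5, 5, 5, 5, 5, 3, 6, 7, 3]), ([3, 3, 3, 4, 5, 5, 6, 6, 7, 3, 3], [3, 2, 2, 2, 3, 2, 3, 2, 4, 3, 3, 4, 4, 3, 4, 5, 5, 5, 5, 5, 5, 6, 6, 6, 3, 3]), ([3, 2, 2, 3, 3, 3, 2, 2, 3, 3, 4, 4, 4, 5, 5, 5, 5, 7, 3], [3, 2, 2, 2, 3, 2, 2, 4, 5, 5, 5, 5, 5, 5, 5]), ([2, 3, 3, 3, 2, 4, 4, 3, 3, 4, 5, 5, 6, 6, 6, 7, 3, 3, 3], [2, 2, 2, 3, 2, 2, 2, 4, 3, 3, 4, 4, 4, 5, 5, 5, 5, 5, 5, 5, 5, 6, 6, 6, 3, 3]), ([2, 2, 3, 3, 3, 2, 3, 2, 2, 4, 4, 3, 4, 5, 5, 5, 5, 5, 5, 5, 5, 6], [2, 2, 2, 2, 2, 3, 2, 4, 3, 3, 4, 4, 3, 4, 5, 5, 5, 5, 5, 5, 5, 5, 6, 6, 7, 3, 3]), ([3, 3,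 4, 5, 5, 5, 6, 3], [3, 3, 2, 2, 2, 3, 2]), ([2, 3, 3, 3, 2, 3, 2, 2, 3, 4, 3, 3, 4, 3, 4, 5, 5, 5, 5, 5, 5, 5, 5, 5, 7, 3, 3, 3], [3, 2, 3, 3, 3, 2, 3, 4, 3, 4, 5, 5, 5, 5, 5, 5, 5, 7, 3, 3]), ([2, 3, 3, 3, 2, 3, 2, 2, 3, 3, 4, 3, 4, 5, 5, 5, 5, 5, 3, 6, 3], [2, 2, 3, 3, 3, 2, 2, 3, 3, 3]), ([2, 3, 3, 2, 4, 3, 4, 4, 4, 5, 5, 5, 5, 5, 6, 6, 6, 7, 3], [3, 2, 2, 2, 3, 2, 2, 2, 4, 3, 3, 4, 3, 4, 5, 5, 5, 5, 5, 6, 7]), ([2, 3, 3, 2, 3, 4, 4, 3, 3, 4, 5, 5, 5, 5, 5, 5, 5, 6, 6, 3, 3, 3], [3, 3, 2, 2, 2, 3, 3, 2, 3]), ([2, 2, 2, 2, 2, 3, 2, 3, 4, 3, 3, 4, 3, 4, 5, 5, 5, 5, 5, 5, 5, 3], [2, 3, 2, 2, 2, 3, 2, 2, 3]), ([2, 2,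 2, 3, 2, 3, 2, 4, 3, 3, 4, 4, 4, 5, 5, 5, 5, 5, 5, 6, 6, 6, 3], [3, 3, 3, 2, 3, 2, 3, 3, 4, 4, 4, 5, 6, 7, 3, 3]), ([2, 2, 2, 2, 3, 3, 2, 4, 3, 3, 4, 4, 3, 4, 5, 5, 5, 5, 5, 5, 5, 6, 7, 3], [2, 3, 3, 3, 2, 3, 2, 4, 4, 4, 3, 4, 5, 5, 5, 5, 5, 5, 5, 5, 5, 6, 6, 7, 3]), ([3, 2, 3, 4, 4, 3, 4, 5, 5, 5, 5, 5, 6], [3, 3, 2, 2, 4, 3, 3, 4, 3, 4, 5, 5, 5, 6, 6, 6, 3, 3, 3]), ([3, 3, 2, 2, 3, 3, 2, 2, 2, 3, 3, 4, 3, 4, 4, 5, 5, 5, 5, 5, 5, 5, 5, 3, 3, 3], [3, 2, 3, 2, 2, 2, 2, 2, 2, 3, 4, 3, 4, 4, 6, 7, 3]), ([2, 2, 2, 2, 2, 3, 2, 4, 4, 5, 5, 5, 5, 5, 3, 6, 7, 3, 3], [2, 3, 3, 2, 2, 2, 3, 3, 4, 3, 4, 4, 5, 5, 3]), ([2, 2, 2,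 2, 2, 3, 2, 3, 4, 5, 5, 5, 5, 5, 6, 6, 7, 3, 3, 3], [2, 3, 3, 2, 2, 2, 5, 5, 6, 6]), ([2, 2, 2, 2, 2, 3, 2, 5, 5, 5, 5, 5, 5, 6, 6, 6], [2, 2, 2, 3, 2, 3, 2, 2, 3, 3, 3, 4, 5, 5, 5, 5, 5, 5, 5, 5, 6, 6, 6, 3, 3]), ([2, 3, 2, 2, 3, 2, 3, 2, 3, 3, 3, 4, 3, 4, 6, 6, 7, 3, 3], [3, 2, 2, 3, 2, 4, 3, 3, 4, 4, 3, 4, 5, 5, 5, 5, 5, 5, 5, 6, 6, 7, 3, 3, 3]), ([2, 3, 2, 2, 3, 2, 3, 2, 3, 4, 4, 4, 5, 5, 5, 5, 5, 3, 6, 3, 3], [3, 3, 2, 2, 2, 2, 4, 3, 4, 4, 4, 3, 4, 5, 5, 6, 6, 7]), ([3, 3, 2, 2, 2, 3, 2, 4, 3, 4, 4, 4, 5], [2, 2]), ([2, 3, 3, 2, 3, 3, 2, 2, 2, 4, 4, 3, 3, 4, 5, 6, 6], [2, 3, 3, 2, 3, 3, 4, 4, 5, 6, 6, 6, 3, 3]),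 ([3, 2, 2, 3, 3, 3, 2, 2, 4, 4, 5, 5, 5, 5, 5, 5, 6, 3, 3, 3], [2, 2, 3, 2, 3, 3, 2, 2, 2]), ([2, 3, 2, 2, 3, 3, 2, 2, 2, 4, 4, 4, 3, 4, 5, 6, 3], [2, 2, 2, 3, 2, 3, 2, 2, 4, 3, 4, 3, 4, 5, 5, 5, 5, 6, 3]), ([2, 3, 3, 3, 2, 3, 3, 3, 4, 3, 4, 6], [2, 2, 2, 3, 4, 3, 4, 5, 5, 5, 5, 5, 5, 5, 5, 6, 6, 6, 7]), ([2, 3, 3, 3, 2, 3, 2, 2, 3, 3, 3, 4, 5, 7, 3, 3], [2, 2, 2, 2, 3, 3, 2, 3, 3, 4, 4, 5, 6, 6, 6, 3, 3]), ([2, 3, 3, 3, 2, 3, 2, 2, 4, 3, 4, 5, 5, 5, 5, 3, 6, 3, 3, 3], [2, 2, 3, 2, 2, 2, 3, 3, 4, 4, 3, 4, 5, 5, 5, 5, 5, 5, 5, 6, 3]), ([3, 3, 4, 4, 3, 4, 5, 5, 5, 5, 5, 3, 6, 3], [3, 3, 3]), ([2, 2, 2, 2, 3, 4, 3, 3,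 4, 3, 4, 5, 5, 5, 5, 5, 5, 5, 5, 3, 6, 7, 3, 3, 3], [2, 3, 3, 3, 2, 2, 2, 3, 2, 3, 4, 4, 5, 5, 5, 6, 6, 3, 3, 3]), ([2, 2, 2, 3, 2, 2, 2, 4, 3, 4, 4, 4, 5, 5, 5, 5, 5, 5, 5, 5, 5, 3, 6, 7, 3], [2, 2, 3, 2, 2, 2, 3, 3, 3]), ([2, 2, 2, 3, 2, 2, 2, 4, 4, 3, 4, 5, 5, 5, 5, 5, 5, 5, 3, 6, 3, 3], [3, 2, 2, 3, 3, 2, 3, 4, 4, 3, 4, 5, 5, 5, 5, 5, 5, 5, 5, 5, 6, 6, 6, 7, 3]), ([2, 2, 2, 3, 2, 2, 2, 3, 4, 3, 4, 6, 6, 6, 7, 3], [3, 3, 2, 3, 2, 3, 3, 4, 4, 3, 4, 5, 5, 5, 5, 5, 6, 6, 6, 7]), ([3, 3, 2, 3, 3, 3, 2, 6, 6, 7, 3, 3], [3, 2, 2, 2, 2, 2, 3, 3, 3, 4, 3, 4, 4, 5, 5, 5, 5, 5, 5, 5, 5, 5, 6, 6, 7, 3]), ([3, 3, 2, 3, 3, 3,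 2, 4, 3, 3, 4, 4, 4, 5, 6, 7, 3], [2, 3, 2, 3, 2, 3, 2, 3]), ([2, 2, 2, 2, 3, 3, 3, 4, 3, 4, 4, 5, 6, 6, 3, 3], [2, 3, 3, 2, 2, 3, 2, 3, 4, 4, 3, 3, 4, 5, 5, 5, 5, 6, 6, 6, 7, 3, 3]), ([3, 3, 3, 2, 2, 2, 2, 3, 2, 4, 3, 3, 4, 4, 3, 4, 5, 5, 3], [3, 2, 3, 2, 2, 2, 3, 2, 2, 3, 3, 4, 5, 5, 5, 6, 7, 3]), ([2, 2, 3, 3, 3, 2, 3, 2, 2, 4, 3, 4, 4, 4, 5, 5, 5, 5, 5, 5, 6, 6, 7, 3, 3], [3, 3, 3, 2, 3, 2, 2, 2, 3, 4, 4, 4, 5, 5, 5, 7]), ([2, 2, 3, 3, 3, 2, 3, 2, 2, 4, 3, 4, 4, 4, 5, 5, 3, 3, 3], [3, 3, 2, 3, 2, 4, 3, 4, 4, 4, 3, 4, 5, 5, 5, 6, 6, 6, 7, 3, 3, 3]), ([3, 4, 5, 5, 5, 6, 3, 3], [3, 2, 2, 2, 3, 2]), ([2, 2, 2, 2, 3,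 3, 3, 4, 3, 4, 4, 5, 5, 5, 6, 3], [3, 2, 3, 3, 3, 2, 3, 2, 4, 4, 3, 3, 4, 5, 5, 5, 5, 6, 6, 6, 3]), ([3, 3, 2, 3, 3, 3, 2, 4, 4, 3, 3, 4, 5, 5, 3, 6, 3, 3, 3], [3, 2, 3, 2, 2, 2, 3, 2, 2, 4, 4, 3, 4, 5, 6, 6, 6, 7, 3]), ([2, 3, 3, 3, 2, 2, 3, 4, 3, 4, 5, 5, 5, 6, 6, 7, 3, 3], [3, 3, 3, 2, 2, 2, 2, 3, 2]), ([2, 2, 2, 2, 2, 3, 2, 3, 4, 4, 3, 4, 5, 5, 5, 5, 3, 6, 3], [2, 3, 3, 3, 2, 4, 3, 4, 5, 5, 5, 5, 5, 3, 6, 7, 3, 3, 3]), ([2, 2, 3, 2, 2, 2, 3, 3, 4, 3, 4, 4, 5, 5, 5, 6, 3], [3, 3, 2, 2, 3, 3, 2, 3, 3, 4, 3, 4, 5, 5, 5, 5, 5, 5, 5, 5, 5, 6, 6, 6, 7, 3]), ([3, 2, 3, 3, 2, 2, 2, 3, 3, 3, 4, 5, 5, 5, 5, 5, 5, 6, 6], [2,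 2, 3, 2, 2, 3, 2]), ([3, 3, 2, 2, 4, 4, 3, 3, 4, 5, 6, 6, 6, 7, 3, 3], [3, 2, 2, 2, 2, 3, 3, 3, 4, 3, 4, 4, 5, 5, 5, 5, 5, 3, 6]), ([2, 3, 2, 3, 2, 3, 3, 2, 3, 4, 4, 5, 5, 6, 6, 6, 7, 3, 3, 3], [2, 3, 2, 2, 3, 3, 2, 2, 2, 4, 3, 3, 4, 4, 4, 5, 5, 5, 5, 5, 5, 5, 5, 3, 3]), ([2, 3, 2, 2, 2, 2, 2, 2, 3, 4, 4, 4, 5, 5, 5, 5, 5, 5, 5, 5, 6, 6, 7, 3, 3, 3], [3, 2, 2, 2, 3, 2, 3, 2, 4, 3, 4, 4, 5, 5, 5, 5, 5, 3, 3]), ([2, 2, 3, 2, 2, 2, 3, 4, 3, 4, 7, 3, 3], [2, 3, 2, 3, 2, 3, 2, 4, 3, 3, 4, 4, 3, 4, 5, 5, 5, 5, 5, 3, 6, 3, 3]), ([2, 2, 2, 2, 2, 3, 2, 3, 4, 4, 3, 3, 4, 5, 5, 5, 5], [3, 2, 2, 2, 2, 2, 3, 3, 3, 4, 3, 4, 4, 5,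 5, 5, 6, 3, 3, 3]), ([2, 3, 2, 3, 2, 2, 3, 4, 4, 6], [2, 2, 2, 2, 3, 3, 2, 3, 4, 3, 4, 4, 5, 5, 5, 5, 5, 5, 5, 5, 6, 6, 6]), ([2, 2, 3, 3, 2, 2, 2, 3, 3, 4, 3, 4, 5, 5, 5, 5, 6, 3, 3], [3, 2, 3, 3, 2, 2, 3, 2, 4, 4, 5, 5, 5, 5, 5, 5, 5, 5, 5, 6, 6, 6, 3]), ([2, 2, 2, 2, 2, 3, 2, 4, 4, 3, 4, 5, 5, 5, 5, 5, 5, 5, 5, 5, 6, 6, 6, 7, 3, 3], [3, 3, 2, 2, 3, 3, 2, 4, 3, 4, 4, 3, 3, 3]), ([3, 2, 3, 3, 2, 2, 2, 4, 6, 3, 3], [3, 2, 3, 2, 2, 2, 2, 2, 4, 3, 3, 4, 5, 5, 5, 5, 5, 5, 5, 5, 5, 7, 3])],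
    [([2, 3, 2, 2, 2, 2, 2, 2, 3, 4, 3, 4, 4, 5, 5, 5, 5, 5, 5, 5, 5, 5, 3, 6, 7, 3, 3], [2, 2, 3, 2, 3, 2, 4, 4, 4, 6, 3, 3]), ([2, 3, 2, 3, 2, 3, 3, 2, 4, 4, 3, 4, 5, 5, 5, 5, 3, 6, 7, 3, 3], [3, 3, 2, 3, 2, 3, 2, 4, 3, 3, 4, 3, 4, 5, 5, 5, 5, 6, 3, 3, 3]), ([2, 2, 3, 2, 2, 2, 3, 3, 4, 4, 3, 4, 5, 5, 5, 5, 5, 5, 5, 6, 6, 6, 3], [3, 3, 2, 3, 2, 3, 3]), ([2, 2, 2, 2, 2, 3, 2, 3, 3, 4, 4, 4, 3, 4, 5, 5, 5, 3, 6, 7, 3], [3, 2, 2, 3, 2, 2, 2, 2, 3, 3, 4, 3, 4, 4, 5, 5, 5, 5, 5, 5, 5, 5, 5, 6, 6, 6, 3]), ([3, 3, 2, 2, 4, 4, 4, 3, 4, 6, 6, 7], [2, 3, 3, 3, 2, 2, 2, 3, 2, 3, 3, 3, 4, 3, 4, 4, 5, 5, 5, 5, 5, 5, 5, 5, 6, 6,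 3]), ([3, 2, 3, 3, 2, 2, 2, 3, 3, 3, 4, 3, 4, 4, 5, 5, 5, 5, 5, 5, 5, 5, 5, 3, 3, 3], [3, 2, 2, 2, 3, 3, 3, 2, 4, 3, 3, 4, 4, 4, 5, 5, 5, 5, 5, 7, 3, 3, 3]), ([2, 3, 2, 3, 2, 2, 2, 2, 2, 4, 3, 3, 4, 5, 3, 6], [2, 3, 3, 3, 2, 3, 2, 3, 3, 3]), ([3, 3, 2, 2, 2, 2, 3, 3, 4, 5, 5, 5, 5, 5, 5, 5, 5, 5, 6, 6, 7, 3], [3, 2, 3, 2, 2, 2, 4, 3, 4, 4, 4, 5, 5, 5, 3, 6, 7]), ([2, 2, 3, 3, 3, 2, 2, 4, 3, 4, 4, 4, 3, 4, 5, 5, 5, 5, 5, 5, 5, 5, 5, 3, 6, 7, 3, 3], [3, 2, 3, 2, 3, 4, 4, 3, 3, 4, 5, 5, 5]), ([2, 3, 2, 2, 2, 2, 4, 4, 5, 5, 5, 6, 7, 3, 3, 3], [2, 3, 3, 2, 3, 2, 2, 2, 3, 3, 3, 4, 3, 4, 5, 5, 5, 5, 5, 5, 5, 6, 7, 3, 3]),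 ([3, 2, 2, 2, 2, 2, 4, 4, 5, 5, 5, 5, 5, 6, 6, 3], [2, 2, 2, 3, 2, 4, 4, 5, 5, 5, 5, 5, 5, 3, 6, 7, 3, 3]), ([2, 3, 2, 2, 2, 3, 3, 4, 3, 4, 3, 6, 7, 3], [2, 2, 2, 2, 2, 2, 4, 3, 3, 4, 4, 3, 4, 5, 5, 5, 3, 6, 7, 3]), ([2, 3, 2, 3, 2, 2, 2, 2, 2, 4, 4, 4, 3, 4, 5, 5, 5, 5, 5, 5, 5, 5, 5, 6, 6, 3], [2, 2, 3, 2, 2, 2, 2, 3, 3, 3, 4, 5, 5, 5, 5, 5, 5, 5, 5, 5, 3, 6, 3, 3, 3]), ([3, 3, 2, 2, 2, 2, 3, 4, 3, 3, 4, 3, 4, 5, 5, 5, 5, 5, 5, 5, 5, 3, 6, 7, 3], [3, 3, 3, 2, 4, 4, 5, 5, 5, 5, 3, 6, 3, 3, 3]), ([2, 3, 3, 2, 2, 3, 2, 3, 3, 4, 4, 3, 4, 5, 5, 5, 5, 5, 5, 5, 5, 5, 6, 3], [2, 3, 3, 2, 3, 3, 2, 2, 2, 4, 3, 4, 3, 6, 7, 3,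 3, 3]), ([3, 2, 2, 2, 3, 2, 3, 2, 4, 4, 4, 3, 4, 5, 5, 5, 5, 5, 5, 5, 5, 5, 3, 6, 7, 3], [2, 3, 2, 3, 2, 3, 2, 4, 3, 4, 5, 5, 5, 5, 5, 5, 5, 5, 3, 6, 3, 3]), ([2, 2, 2, 2, 2, 3, 2, 4, 3, 3, 4, 5, 5, 5, 5, 5, 6, 6, 6, 7, 3], [3, 2, 2, 3, 3, 3, 2, 2, 4, 4, 3, 4, 5, 5, 5, 3, 3]), ([2, 2, 2, 2, 2, 3, 2, 4, 4, 3, 3, 4, 5, 5, 5, 3, 6, 7, 3, 3], [2, 2, 3, 2, 3, 3, 3, 2, 3, 3, 3, 4, 3, 4, 4, 5, 6, 6, 3]), ([2, 3, 3, 3, 2, 3, 3, 4, 4, 4, 5, 5, 5, 3, 6, 3, 3, 3], [3, 3, 2, 2, 2, 3, 3, 2, 4, 3, 4, 4, 5, 5, 7, 3, 3, 3]), ([3, 2, 3, 2, 2, 2, 2, 2, 4, 3, 3, 4, 4, 4, 5, 5, 5, 5, 5, 5, 5, 5, 5, 6, 3], [2, 2, 2, 3, 2, 3, 2, 3, 3, 4,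 4, 4, 3, 4, 5, 5, 5, 5, 5, 5, 5, 5, 3, 3]), ([3, 2, 2, 2, 3, 2, 4, 4, 5, 5, 5, 5, 5, 7, 3, 3, 3], [2, 2, 3, 2, 2, 4, 3, 4, 4, 5, 6, 7, 3, 3, 3]), ([3, 2, 2, 2, 3, 2, 4, 4, 5, 5, 5, 5, 5, 5, 5, 3, 6, 7, 3, 3, 3], [3, 2, 2, 2, 2, 3, 4, 5, 5, 5, 5, 5, 5, 5, 5, 5, 6, 6, 6, 3]), ([3, 3, 3, 2, 5, 5, 5, 5, 5, 5, 5, 5, 5, 3, 6, 3, 3, 3], [3, 2, 3, 3, 2, 2, 2, 3, 3, 4, 3, 4, 5, 5, 5, 5, 5, 5, 3, 6, 7]), ([3, 3, 3, 2, 5, 5, 5, 5, 5, 5, 5, 5, 5, 6, 6, 3, 3, 3], [3, 2, 2, 3, 3, 3, 2, 2, 4, 4, 3, 4, 5, 5, 5]), ([3, 2, 3, 2, 2, 3, 3, 2, 4, 3, 4, 4, 4, 5, 5, 5, 5, 3, 6, 3], [3, 2, 3, 3, 2, 2, 3, 2, 3, 4, 4, 3, 3, 4, 5, 5, 5, 5, 6]),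 ([2, 2, 3, 3, 3, 4, 5, 5, 5, 5, 5, 5, 5, 5, 5, 3, 3, 3], [3, 3, 2, 3, 2, 2, 2, 3, 3, 4, 5, 5, 5, 5, 5, 5, 5, 5, 7, 3]), ([2, 3, 3, 2, 3, 2, 2, 2, 5, 5, 5, 5, 6, 3, 3], [2, 2, 2, 2, 3, 3, 2, 3, 4, 4, 4, 5, 5, 5, 5, 5, 3, 6, 3, 3]), ([2, 3, 2, 2, 2, 3, 2, 2, 4, 3, 3, 3, 4, 3, 4, 3, 3], [2, 3, 3, 3, 2, 3]), ([2, 2, 3, 2, 2, 2, 2, 4, 5, 5, 5, 5, 5, 5, 5, 5, 3, 6, 7, 3, 3], [2, 2, 3, 2, 3, 3, 3, 2, 3, 3, 3, 4, 3, 4, 4, 5, 6, 6, 3, 3]), ([2, 2, 3, 2, 2, 2, 2, 4, 5, 5, 5, 5, 6, 6, 6], [2, 3, 2, 3, 3, 2, 4, 3, 4, 4, 5, 5, 5, 5, 5, 5, 5, 3, 6, 3, 3]), ([3, 3, 3, 2, 5, 5, 5, 5, 5, 7, 3, 3], [3, 3, 2, 3, 2, 4, 3, 4, 3, 4, 3, 6,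 3]), ([3, 2, 3, 2, 2, 3, 3, 2, 4, 3, 4, 4, 4, 5, 5, 5, 5, 5, 5, 5, 5, 6, 7, 3, 3, 3], [2, 3, 2, 2, 4, 3, 4, 4, 4, 3, 4, 5, 5, 5, 5, 7, 3, 3]), ([3, 3, 3, 2, 5, 5, 5, 5, 5, 6, 6, 6, 7, 3, 3, 3], [2, 2, 2, 2, 3, 2, 4, 4, 3, 3, 4, 3, 3]), ([2, 3, 2, 2, 2, 3, 2, 2, 4, 3, 3, 3, 4, 3, 4, 5, 5, 5, 5, 5, 5, 5, 5, 6, 6, 6, 3], [2, 3, 3, 2, 3, 3, 2, 2, 2, 3, 3, 4, 3, 4, 5, 5, 5, 5, 5, 5, 3, 6, 7]), ([2, 2, 3, 3, 3, 4, 5, 5, 5, 6, 6, 7, 3, 3], [3, 2, 3, 3, 2, 3, 4, 4, 3, 3, 4, 5, 5, 5, 5, 5, 5, 5, 6, 3]), ([2, 3, 3, 2, 3, 2, 2, 2, 5, 5, 5, 5, 5, 5, 5, 5, 3], [3, 2, 3, 2, 3, 2, 3, 3, 3, 4, 3, 4, 4, 5, 5, 5, 5, 5, 5, 5, 5, 7, 3]),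 ([3, 3, 2, 3, 2, 3, 2, 4, 4, 3, 3, 4, 3, 6, 7, 3, 3, 3], [2, 2, 3, 3, 3, 2, 3, 2, 4, 3, 3, 4, 4, 3, 4, 5, 5, 5, 5, 5, 5, 5, 3, 6, 7, 3, 3]), ([3, 3, 2, 3, 2, 3, 2, 4, 4, 3, 3, 4, 5, 5, 5, 5, 5, 5, 5, 5, 7, 3, 3, 3], [2, 3, 2, 3, 2, 3, 2, 4, 3, 4, 4, 4, 5, 5, 5, 5, 5, 5, 5, 5, 5, 6, 6, 3, 3]), ([2, 2, 2, 2, 3, 2, 3, 3, 4, 4, 3, 4, 5, 5, 5, 5, 5, 5, 5, 5, 6, 6], [2, 2, 3, 3, 2, 4, 5, 5, 5, 5, 5, 6, 6, 6, 3, 3, 3]), ([2, 2, 2, 2, 3, 4, 4, 3, 3, 4, 5, 5, 5, 5, 5, 5, 5, 6, 6, 6], [2, 3, 3, 2, 3, 2, 4, 3, 4, 3, 4, 3, 6]), ([2, 3, 3, 2, 3, 2, 3, 4, 4, 3, 4, 5, 5, 5, 5, 5, 5, 5, 7, 3, 3], [3, 3, 2, 3, 2, 3, 2, 3]), ([2, 2,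 2, 2, 3, 2, 4, 3, 3, 4, 3, 4, 6, 6, 7, 3], [3, 3, 2, 2, 4, 4, 5, 5, 5, 5, 6, 3]), ([2, 3, 3, 2, 3, 2, 3, 4, 4, 3, 4, 5, 5, 5, 5, 5, 5, 5, 6, 6, 6, 7, 3, 3, 3], [3, 2, 2, 3, 3, 3, 2, 2]), ([2, 3, 3, 2, 2, 2, 3, 3, 3, 4, 5, 5, 5, 5, 5, 5, 6, 6, 3], [3, 3, 2, 2, 2, 2, 2, 3, 4, 3, 4, 4, 3, 6, 7, 3, 3]), ([2, 3, 2, 2, 2, 3, 2, 4, 3, 3, 3, 4, 3, 4, 5, 5, 5, 5, 5, 5, 5, 3, 6, 7, 3, 3, 3], [3, 3, 2, 3, 2, 2, 3, 4, 3, 4, 4, 5, 5, 5, 5, 6, 6, 6, 3, 3]), ([2, 2, 3, 2, 3, 3, 3, 2, 3, 4, 4, 4, 3, 4, 3, 6], [2, 3, 2, 3, 2, 3, 2]), ([4, 3, 3, 4, 3, 4, 5, 5, 5, 6, 3, 3], [3, 3, 3, 2, 3, 3, 3, 4, 3, 4, 4, 5, 6, 7, 3, 3]), ([3, 2, 2,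 3, 3, 2, 2, 2, 4, 3, 4, 3, 4, 5, 5, 5, 5, 5, 5, 6, 3, 3], [3, 3, 2, 3, 3, 3, 2]), ([3, 2, 2, 3, 3, 2, 2, 2, 4, 3, 4, 3, 4, 5, 5, 5, 5, 5, 5, 6, 6, 3], [2, 3, 3, 2, 3, 3, 4, 4, 3, 4, 6, 3, 3, 3]), ([2, 2, 2, 2, 4, 4, 3, 3, 4, 5, 5, 5, 5, 5, 5, 6, 6, 6, 7], [3, 2]), ([2, 2, 3, 2, 3, 3, 3, 2, 4, 3, 3, 3, 4, 3, 4, 5, 5, 5, 5, 5, 5, 5, 5, 5, 6, 6, 6, 7, 3, 3], [2, 3, 3, 3, 2, 3, 3, 2, 3, 4, 4, 3, 4, 5, 3, 6, 3, 3]), ([2, 3, 2, 2, 2, 3, 2, 4, 4, 3, 3, 4, 5, 5, 5, 5, 5, 5, 5, 5, 5, 7, 3, 3, 3], [3, 3, 2, 3, 3, 2, 4, 4, 3, 3, 4, 5, 5, 5, 3, 6, 3, 3]), ([2, 3, 3, 2, 2, 2, 4, 4, 3, 3, 4, 5, 5, 5, 5, 5, 5, 3, 6], [3, 3, 2, 3,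 4, 4, 5, 5, 5, 5, 5, 5, 5, 3, 6, 3]), ([4, 3, 4, 4, 4, 5, 5, 6, 6, 6, 7, 3], [2, 2, 3, 2, 3, 3, 3, 2, 4, 3, 4, 5, 5, 5, 5, 5, 3, 6, 7, 3, 3, 3]), ([2, 2, 3, 2, 3, 3, 3, 2, 4, 4, 5, 5, 5, 5, 5, 3, 6], [2, 2, 2, 3, 2, 2, 4, 3, 3, 4, 5, 5, 5, 5, 5, 6, 6, 6, 7, 3, 3]), ([3, 3, 4, 4, 5, 5, 5, 5, 5, 5, 5, 5, 6, 7], [3, 3, 2, 2, 2, 3, 3, 2, 4, 4, 3, 3, 4, 5, 5, 5, 5, 5, 5, 5, 3, 6, 7, 3]), ([2, 2, 2, 2, 4, 3, 4, 4, 4, 3, 4, 6, 6, 7, 3], [3, 3, 2, 2, 3, 3, 2, 2, 2, 4, 3, 4, 4, 4, 5, 7, 3]), ([4, 4, 4, 5, 6, 6, 7, 3, 3, 3], [3, 2, 2, 2, 2, 3, 2, 4, 3, 4, 4, 3, 6, 3, 3, 3]), ([2, 3, 3, 2, 2, 2, 4, 3, 3, 4, 4, 3, 4, 5, 5, 5, 5,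 5, 5, 5, 5, 6, 6, 7, 3, 3], [2, 3, 3, 2, 2, 2, 2, 2, 3, 4, 4, 3, 3, 4, 5, 5, 5, 5, 5, 5, 5, 5, 5, 3, 6, 7, 3]), ([3, 2, 2, 3, 2, 2, 2, 2, 4, 5, 5, 5, 5, 3, 6], [2, 3, 3, 2, 3, 2, 3, 4, 4, 4, 5, 5, 5, 5, 7]), ([3, 2, 2, 2, 3, 2, 2, 3, 4, 4, 4, 5, 6, 6, 6, 3, 3], [2, 2, 3, 3, 3, 2, 3, 2, 3, 3, 4, 5, 5, 5, 5, 5, 5, 6, 6, 6, 7, 3, 3, 3]), ([3, 3, 3, 2, 3, 2, 3, 2, 4, 4, 3, 3, 4, 5, 5, 5, 5, 5, 5, 5, 5, 3, 3, 3], [3, 3, 3, 2, 3, 2, 2, 3, 4, 3, 4, 5, 5, 6, 3, 3]), ([2, 3, 2, 3, 2, 4, 4, 3, 3, 4, 5, 5, 5, 5, 5, 5, 5, 5, 7, 3], [3, 2, 3, 3, 3, 2, 3, 4, 4, 4, 5, 5, 5, 6, 6, 6, 7]), ([3, 3, 2, 2, 2, 3, 2, 2, 2, 4, 3, 4, 3, 4,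 5, 5, 5, 5, 6, 6, 6, 7, 3], [2, 2, 3, 3, 2, 4, 3, 4, 4, 3, 3])],
    [([2, 2, 3, 2, 3, 2, 3, 2, 3, 4, 3, 4, 4, 5, 5, 5, 6, 6, 6, 3, 3], [2, 3, 3, 2, 3, 2, 3, 3, 4, 4, 4, 5, 6, 7, 3, 3, 3]), ([3, 2, 2, 2, 3, 2, 2, 3, 4, 4, 4, 5, 5, 5, 5, 5, 5, 5, 5, 5, 6, 7, 3], [2, 2, 3, 2, 2, 3, 2, 4, 3, 3, 4, 3, 4, 5, 5, 5, 5, 5, 3, 6, 7]), ([3, 3, 3, 2, 3, 2, 3, 2, 4, 4, 3, 3, 4, 3, 6, 3, 3, 3], [2, 3, 2, 2, 3, 2, 4, 3, 3, 4, 3, 4, 5, 5, 5, 5, 5, 3, 6, 7]), ([3, 2, 2, 3, 2, 2, 2, 2, 4, 5, 5, 5, 5, 5, 5, 5, 5, 6, 7, 3, 3], [3, 2, 2, 3, 3, 2, 2, 2, 3, 4, 3, 4, 4, 5, 5, 7, 3]), ([3, 2, 3, 3, 3, 2, 3, 2, 4, 3, 4, 4, 6, 6, 6, 3, 3, 3],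 [2, 2, 2, 3, 3, 3, 2, 4, 3, 4, 7, 3, 3, 3]), ([3, 2, 3, 3, 3, 2, 3, 2, 4, 4, 4, 5, 5, 5, 5, 5, 5, 5, 5, 5, 7], [2, 2, 3, 2, 3, 3, 3, 2, 3, 4, 5, 5, 5, 7, 3, 3]), ([3, 2, 3, 3, 3, 2, 3, 2, 4, 4, 3, 3, 4, 5, 5, 5, 5, 5, 5, 5, 5, 5, 3, 6, 3, 3, 3], [2, 2, 3, 2, 3, 2, 2, 4, 4, 3, 4, 5, 5, 5, 3, 6, 7, 3]), ([3, 2, 2, 2, 3, 4, 4, 3, 3, 4, 5, 5, 5, 5, 5, 5, 5, 6, 6, 7, 3, 3, 3], [2, 2, 3, 3, 3, 2, 3, 2, 4, 4, 4, 3, 4, 6, 6]), ([3, 2, 2, 3, 2, 2, 3, 3, 4, 4, 5, 5, 5, 5, 5, 5, 5, 6, 7, 3, 3], [3, 3, 3, 2, 3, 2, 3, 4, 4, 4, 5, 3, 6, 7, 3]), ([3, 2, 2, 2, 3, 3, 4, 4, 4, 5, 5, 5, 5, 5, 5, 5, 5, 5, 3, 6, 3], [3, 3, 2, 3, 2, 3, 2,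 4, 4, 4, 3, 4, 5, 5, 5, 5, 5, 5, 5, 6, 6, 7, 3, 3]), ([3, 2, 2, 3, 2, 2, 3, 4, 5, 5, 5, 5, 5, 5, 3, 6, 7], [2, 2, 3, 3, 2, 2, 2, 3, 4, 3, 4, 5, 6, 6, 6, 3]), ([3, 2, 2, 2, 4, 4, 4, 5, 5, 5, 5, 5, 5, 5, 5, 5, 3, 3, 3], [2, 2, 3, 3, 2, 2, 2, 3, 4, 3, 4, 4, 5, 5, 7, 3, 3]), ([3, 2, 2, 2, 3, 3, 4, 4, 4, 5, 5, 5, 5, 5, 5, 5, 5, 5, 3, 3, 3], [3, 2, 2, 2, 2, 2, 3, 3, 3, 4, 3, 4, 4, 5, 5, 5, 5, 5, 5, 5, 5, 5, 6, 6, 7]), ([3, 2, 2, 3, 2, 2, 3, 3, 3, 4, 3, 4, 4, 5, 5, 5, 5, 5], [3, 3, 2, 2, 3, 2, 4, 4, 4, 5, 5, 5, 5, 5, 5, 5, 3, 6, 7]), ([3, 2, 2, 3, 2, 2, 3, 4, 5, 5, 5, 5, 5, 5, 6, 6, 7], [3, 2, 4, 3, 3, 3, 4, 3, 4, 5, 5, 5,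 5, 5, 5, 5, 5, 5, 6, 6, 6, 7, 3, 3]), ([3, 2, 2, 2, 4, 3, 4, 4, 5, 5, 7, 3], [2, 3, 2, 2, 3, 2, 3, 2, 3, 3, 4, 4, 4, 6, 6, 6, 3, 3]), ([3, 2, 2, 3, 2, 2, 3, 4, 4, 4, 3, 4], [3, 2, 2, 2, 3, 2, 3, 2, 3, 4, 3, 3, 4, 3, 4, 3, 6, 7, 3, 3]), ([3, 2, 2, 3, 2, 2, 3, 3, 3, 4, 3, 4, 4, 5, 5, 5, 5, 5, 5, 5, 6, 7], [2, 2, 2, 3]), ([3, 2, 2, 2, 3, 3, 4, 4, 4, 5, 5, 5, 6, 6, 7, 3, 3], [2, 2, 3, 2, 3, 3, 3, 2, 3, 3, 4, 4, 4, 3, 4, 5, 5, 5, 5, 5, 6]), ([3, 2, 2, 3, 2, 2, 4, 4, 3, 3, 4, 5, 5, 6, 6, 6, 3, 3, 3], [3, 3, 3, 2, 3, 2, 4, 3, 4, 4, 4, 3, 4, 7, 3, 3]), ([3, 2, 2, 2, 3, 3, 4, 3, 4, 4, 5, 5, 7, 3], [2, 2, 3, 2, 3, 3, 3, 2, 3,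 3, 3, 4, 5, 5, 5, 5, 6, 6, 7]), ([3, 2, 2, 2, 4, 4, 4, 5, 5, 5, 6, 7, 3, 3, 3], [3, 3, 3, 2, 3, 2, 3, 2, 3, 4, 3, 4, 4, 5, 5, 5, 6]), ([3, 2, 2, 3, 2, 2, 3, 4, 6], [2, 3, 3, 2, 3, 2, 4, 5, 5, 5, 5, 5, 5, 5, 5, 5, 3, 6, 7, 3, 3]), ([3, 2, 2, 3, 2, 2, 4, 3, 3, 4, 3, 4, 5, 5, 5, 5, 5, 6, 6, 7], [2, 3, 3, 2, 2, 3, 3, 2, 4, 3, 4, 4, 3, 3]), ([3, 2, 2, 2, 4, 4, 3, 3, 4, 5, 5, 5, 5, 5, 5, 5, 5, 5, 6, 6, 7], [3, 2, 3, 3, 2, 2, 3, 2, 4, 6, 6, 7, 3, 3, 3]), ([3, 3, 3, 2, 3, 2, 4, 4, 3, 4, 5, 5, 5, 7], [2, 2, 3, 2, 4, 4, 3, 4, 5, 5, 5, 5, 5, 5, 5, 5, 6, 6, 7, 3, 3]), ([3, 3, 2, 3, 3, 3, 2, 3, 3, 4, 4, 4, 5, 5, 5, 3, 6, 3], [3,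 3, 2, 3, 2, 2, 2, 4, 3, 3, 3, 4, 3, 4, 5, 5, 6, 6, 6, 3, 3]), ([2, 2, 2, 2, 4, 4, 5, 5, 5, 5, 7, 3], [3, 2, 3, 2, 2, 2, 2, 4, 3, 4, 4, 4, 5, 5, 5, 5, 5, 5, 5, 5, 3, 6]), ([2, 2, 3, 3, 3, 2, 3, 2, 3, 3, 4, 5, 5, 5, 5, 5, 5, 5, 5, 3, 6, 3, 3], [2, 2, 3, 2, 2, 4, 3, 3, 4, 5, 5, 5, 5, 5, 6, 6, 6, 7, 3, 3]), ([2, 2, 2, 3, 3, 3, 2, 3, 3, 4, 4, 4, 5, 5, 5, 5, 7, 3, 3], [3, 3, 2, 2, 2, 2, 4, 3, 4, 4, 4, 3, 4, 5, 5, 6, 6, 7, 3]), ([2, 2, 2, 2, 3, 3, 3, 4, 5, 7, 3, 3], [3, 3, 3, 2, 2, 2, 3, 2, 4, 3, 4, 3, 4, 5, 5, 5, 5, 5, 3, 3, 3]), ([4, 4, 4, 3, 4, 5, 5, 5, 5, 5, 5, 5, 5, 5, 6, 6, 3], [2, 2, 2, 3, 3, 3, 2, 4, 3, 4, 5, 5, 5,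 5, 5, 3, 6, 7, 3]), ([2, 2, 3, 3, 3, 2, 3, 2, 3, 4, 4, 4, 3, 4, 5, 5, 5, 5, 5, 5, 6, 3], [2, 3, 2, 2, 4, 4, 5, 5, 5, 5, 5, 6, 6, 3]), ([2, 2, 3, 3, 3, 2, 3, 2, 2, 4, 3, 4, 4, 4, 5, 5, 7, 3, 3], [2, 2, 3, 2, 3, 3, 3, 2, 3, 4, 4, 3, 3, 4, 5, 5, 5, 5, 5, 3, 6, 3, 3, 3]), ([2, 2, 3, 2, 3, 3, 3, 2, 3, 3, 3, 4, 5, 5, 5, 5, 5, 5, 5, 3, 6, 7, 3, 3], [2, 3, 3, 3, 2, 3, 3, 2, 4, 3, 3, 4, 3, 4, 5, 5, 5, 5, 5, 5, 5, 6, 7, 3]), ([2, 3, 3, 3, 2, 2, 3, 4, 3, 4, 5, 5, 5, 5, 5, 5, 5, 5, 5, 7, 3, 3], [2, 2, 2, 3, 2, 4, 4, 3, 3, 4, 3]), ([2, 2, 2, 2, 4, 4, 4, 5, 5, 5, 5, 5, 5, 5, 6, 7], [2, 3, 2, 3, 2, 3, 2, 4, 4, 3, 3, 4, 5, 5, 5, 3,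 6, 7, 3, 3, 3]), ([2, 2, 2, 2, 3, 3, 3, 4, 3, 4, 4, 5, 5, 5, 6, 7], [3, 3, 3, 2, 4, 3, 3, 4, 4, 4, 5, 5, 5, 5, 5, 7, 3, 3]), ([2, 2, 3, 2, 3, 3, 3, 2, 4, 3, 3, 4, 4, 3, 4, 5, 6, 6, 3], [3, 2, 3, 2, 2, 2, 2, 2, 3, 3, 4, 4, 4, 5, 5, 6, 3]), ([2, 2, 2, 2, 3, 2, 4, 3, 4, 4, 4, 3, 4, 5, 5, 5, 5, 5, 3, 3, 3], [3, 3, 3, 2, 3, 2, 3]), ([3, 4, 5, 5, 5, 5, 5, 5, 5, 7], [3, 4, 4, 3, 4, 6]), ([2, 3, 3, 3, 2, 2, 3, 4, 3, 4, 5, 5, 5, 6, 6, 3, 3, 3], [3, 3, 3, 2, 3, 2, 4, 4, 5, 5, 5, 5, 5, 5, 3, 6, 7, 3, 3, 3]), ([3, 4, 4, 3, 3, 3], [2, 2, 3, 2, 3, 2, 4, 3, 3, 4, 4, 4, 5, 5, 5, 5, 5, 7, 3, 3]), ([2, 2, 2, 2, 3, 2, 3, 4, 5, 5, 5, 5,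 6, 3], [3, 3, 2, 3, 2, 2, 2, 3, 4, 4, 3, 3, 3]), ([2, 2, 3, 3, 3, 2, 3, 2, 2, 4, 3, 4, 4, 4, 5, 5, 5, 5, 5, 5, 6, 6, 3, 3, 3], [3, 3, 2, 2, 3, 2, 4, 3, 3, 4, 3, 4, 5, 5, 5, 5, 5, 3, 6, 7]), ([4, 4, 5, 6, 7], [4, 3, 3, 4, 3, 4, 5, 5, 5, 3, 6, 3, 3, 3]), ([2, 2, 3, 3, 3, 2, 3, 2, 4, 3, 4, 3, 4, 6, 6, 6, 7], [2, 2, 2, 4, 3, 4, 4, 5, 5, 3, 3]), ([2, 2, 2, 3, 3, 3, 2, 3, 3, 3, 4, 3, 4, 4, 5, 5, 5, 5, 5, 5, 5, 5, 3], [3, 3, 3, 2, 3, 3, 2, 4, 4, 3, 3, 4, 5, 5, 5, 3, 6, 3, 3]), ([2, 2, 2, 2, 5, 5, 5, 5, 5, 5, 6, 6, 7, 3, 3, 3], [2, 2, 2, 3, 2, 2, 3, 4, 3, 4, 4, 5, 5, 5, 5, 6, 6, 6, 3, 3, 3]), ([2, 2, 2, 3, 3, 3, 2, 3, 4, 4,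 4, 3, 4, 5, 5, 5, 5, 5, 5, 5, 3, 6, 7], [3, 2, 2, 2, 3, 3, 2, 4, 3, 3, 4, 3, 4, 5, 5, 5, 5, 5, 5, 5, 6, 7, 3]), ([2, 2, 3, 3, 3, 2, 3, 2, 3, 4, 4, 4, 5, 6], [2, 2, 3, 3, 3, 2, 3, 2, 2, 3]), ([2, 2, 3, 3, 3, 2, 3, 2, 3, 4, 4, 3, 3, 4, 5, 7], [2, 2, 3, 3, 3, 2, 2, 4, 4, 3, 4, 5, 5, 5, 3, 3, 3]), ([2, 3, 3, 2, 2, 2, 3, 4, 4, 5, 5, 5, 6, 7, 3], [2, 3, 2, 2, 3, 3, 4, 4, 5, 5, 5, 5, 5, 5, 5, 6, 6, 3]), ([2, 2, 3, 2, 3, 2, 2, 4, 3, 4, 4, 4, 3, 4, 5, 5, 5, 5, 5, 5, 6, 7], [2, 3, 2, 3, 2, 3, 2, 3, 3, 4, 4, 4, 5, 6, 7]), ([3, 3, 4, 3, 4, 5, 5, 5, 5, 5, 3, 3, 3], [3, 3, 2, 3, 2, 2]), ([2, 2, 3, 2, 3, 2, 2, 5, 5, 5, 5, 5, 5, 5,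 5, 5, 6, 6], [2, 3, 3, 3, 2, 3, 3, 2, 3, 4, 5, 5, 5, 5, 6, 6, 3]), ([3, 2, 2, 3, 3, 2, 4, 3, 4, 5, 5, 5, 5, 3, 6, 7, 3, 3, 3], [3, 2, 2, 2, 3, 2, 2, 3, 4, 4, 3, 4, 5, 5, 5, 5, 5, 5, 5, 5, 5, 6, 3, 3, 3]), ([2, 2, 3, 2, 3, 3, 3, 2, 4, 3, 3, 4, 3, 4, 5, 5, 5, 5, 5, 5, 6, 6, 6, 7, 3], [3, 3, 2, 2, 3, 3, 2, 2, 2, 3, 4, 3, 4, 5, 5, 5, 5, 5, 5, 5, 5, 3, 6, 7, 3]), ([2, 2, 3, 3, 3, 2, 3, 2, 4, 4, 3, 3, 4, 5, 5, 5, 5, 5, 5, 5, 5, 6, 6], [2, 3, 2, 3, 3, 3, 2, 3, 3, 4, 4, 3, 4, 5, 5, 6, 7, 3]), ([2, 4, 3, 3, 4, 5, 5, 5, 5, 5, 5, 6, 6], [3, 3, 2, 2, 2, 3, 3, 2, 3, 3, 3, 4, 5, 5, 5, 3, 6, 7, 3]), ([2, 3, 2, 2, 2, 3, 2, 3, 3, 4,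 4, 4, 5, 5, 5, 5, 5, 3, 6, 7, 3], [3, 2, 2, 2, 2, 4, 3, 4, 4, 4, 3, 4, 5, 5, 6, 6, 7, 3]), ([2, 2, 3, 2, 3, 3, 3, 2, 3, 3, 3, 4, 3, 4, 5, 5, 5, 6, 6, 6, 7, 3, 3], [3, 2, 2, 3, 3, 2, 4, 3, 4, 4, 3, 3, 3]), ([3, 4, 4, 3, 3, 4, 5, 5, 5, 6, 6, 7, 3, 3], [3, 3, 3, 2, 2, 2, 2, 3, 4, 3, 3, 4, 3, 4, 5, 5, 6, 6, 7, 3, 3, 3]), ([2, 3, 2, 2, 2, 3, 2, 4, 4, 3, 4, 5, 5, 5, 5, 5, 5, 5, 5, 6, 6, 6], [2, 3, 3, 3, 2, 2, 4, 3, 3, 4, 3, 4, 5, 3, 6])]]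

/-- part of a table -/
def conjs2 : List (List (List ℕ × List ℕ)) :=
  [[([2, 3, 3, 2, 2, 2, 4, 6, 3, 3, 3], [2, 3, 2, 2, 2, 2, 2, 4, 3, 4, 4, 4, 3, 4, 5, 5, 5, 5, 5, 5, 5, 5, 3, 3]), ([2, 3, 3, 2, 2, 2, 3, 3, 4, 4, 3, 4, 6, 6, 6, 3, 3], [2, 3, 2, 2, 2, 2, 2, 2]), ([2, 4, 3, 3, 4, 5, 5, 5, 5, 3, 6, 3, 3], [2, 3, 2, 3, 2, 3, 3, 3]), ([3, 3, 4, 4, 4, 3, 4, 5, 5, 5, 5, 5, 5, 6, 6, 6, 7, 3], [2, 2, 3, 2, 2, 2, 2, 3, 3, 4, 4, 4, 3, 4, 5, 5, 5, 5, 5, 5, 3, 6, 3, 3, 3]), ([3, 2, 2, 3, 3, 2, 4, 3, 4, 5, 5, 7, 3, 3, 3], [3, 3, 3, 2, 3, 2, 4, 3, 3, 4, 4, 4, 5, 5, 5, 5, 5, 7, 3, 3]), ([2, 2, 3, 3, 3, 2, 2, 4, 5, 5, 5, 5, 5, 5,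 5, 3, 6, 3, 3, 3], [2, 3, 2, 2, 3, 3, 2, 2, 2, 3, 4, 3, 4, 6, 6, 3, 3, 3]), ([2, 3, 2, 2, 2, 3, 4, 3, 4, 5, 7, 3, 3], [3, 3, 3, 2, 3, 2, 3, 2, 4, 4, 5, 5, 5, 5, 5, 5, 7, 3, 3, 3]), ([2, 2, 3, 2, 2, 2, 4, 4, 3, 4, 5, 5, 5, 5, 5, 5, 5, 5, 5, 6, 6, 6, 3], [3, 2, 2, 3, 2, 3, 2, 3, 4, 4, 4, 5, 5, 6, 6, 6, 3, 3, 3]), ([2, 2, 2, 2, 2, 3, 2, 4, 3, 4, 3, 4, 5, 5, 5, 5, 5, 5, 5, 5, 7], [2, 2, 3, 3, 2, 2, 2, 3, 3, 3, 4, 3, 4, 4, 5, 5, 5, 6, 6, 3]), ([3, 3, 2, 2, 3, 4, 4, 4, 5, 5, 5, 5, 6, 7, 3, 3, 3], [2, 3, 2, 3, 2, 4, 3, 3, 4, 4, 4, 5, 5, 5, 5, 5, 7, 3, 3]), ([2, 2, 2, 2, 2, 3, 2, 4, 3, 3, 4, 3, 4, 5, 5, 5, 5, 5, 3, 3], [2,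 3, 3, 3, 2, 3, 3, 2, 3, 3, 3, 4, 3, 4, 5, 5, 5, 5, 5, 6, 3, 3, 3]), ([3, 3, 2, 2, 4, 6, 3, 3, 3], [2, 2, 3, 4, 3, 4, 5, 5, 5, 5, 5, 7, 3]), ([3, 2, 3, 3, 2, 2, 2, 3, 3, 4, 4, 4, 3, 4, 5, 5, 5, 5, 5, 5, 5, 5, 6, 6, 3, 3], [2, 3, 3, 2, 4, 4, 3, 3, 4, 5, 5, 5, 6, 6]), ([2, 3, 3, 2, 4, 3, 4, 4, 4, 5, 5, 5, 5, 5, 6, 6, 7, 3, 3], [3, 2, 3, 3, 4, 3, 4, 4, 5, 5, 5, 5]), ([2, 3, 3, 2, 3, 4, 4, 3, 3, 4, 5, 5, 5, 5, 5, 5, 5, 7], [2, 2, 2, 4, 3, 4, 4, 4, 5, 5, 5, 6, 3, 3, 3]), ([2, 2, 2, 2, 2, 3, 2, 4, 3, 3, 4, 4, 4, 5, 5, 5, 5, 5, 5, 5, 3, 6, 3], [3, 2, 3, 3, 2, 2, 3, 2]), ([3, 3, 3, 2, 2, 2, 2, 3, 3, 4, 3, 4, 4, 5, 5, 5, 5, 5,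 5, 5, 7, 3], [2, 3, 3, 2, 3, 2, 2, 2, 3, 3, 4, 3, 4, 5, 5, 5, 5, 5, 6, 3, 3, 3]), ([2, 2, 2, 3, 2, 3, 2, 3, 3, 4, 4, 3, 4, 5, 5, 5, 5, 5, 5, 3, 3, 3], [3, 3, 2, 3, 2, 2, 2, 3, 3, 3]), ([2, 2, 2, 2, 2, 3, 2, 4, 3, 4, 5, 5, 5, 5, 5, 6, 6, 6, 7], [2, 3, 2, 2, 2, 2, 2, 4, 3, 3, 4, 4, 3, 4, 3, 6, 3, 3, 3]), ([3, 3, 3, 2, 2, 2, 2, 4, 3, 3, 4, 5, 5, 3, 6, 3, 3, 3], [3, 2, 2, 2, 2, 2, 2, 3, 3, 4, 3, 4, 4, 5, 5, 5, 5, 5, 5, 5, 5, 5, 3, 6, 3]), ([2, 2, 2, 3, 2, 3, 2, 4, 3, 3, 4, 4, 4, 5, 5, 5, 5, 5, 5], [3, 2, 3, 3, 2, 3, 3, 3, 4, 3, 4, 4, 5, 3, 6, 7]), ([3, 3, 2, 2, 3, 3, 2, 2, 2, 4, 3, 4, 3, 4, 5, 5, 5, 5, 5, 5, 6, 7, 3, 3],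 [3, 2, 2, 3, 3, 3, 2, 2, 3, 3, 3, 4, 5, 5, 5, 5, 5, 5, 5, 5, 6, 6, 6]), ([3, 3, 3, 2, 2, 2, 2, 3, 3, 4, 3, 4, 5, 5, 5, 5, 6, 6, 7, 3, 3, 3], [3, 3, 2, 2, 2, 2, 3, 2, 4, 4, 3, 4, 5, 5, 5, 5, 6]), ([3, 3, 3, 2, 2, 2, 2, 4, 3, 4, 4, 4, 3, 4, 6, 6, 7, 3, 3], [3, 2, 2, 3, 3, 2, 2, 2, 4, 3, 4, 4, 4, 5, 7, 3]), ([3, 3, 2, 2, 3, 3, 2, 2, 2, 3, 3, 4, 3, 4, 4, 5, 5, 5, 5, 5, 5, 5, 5, 6, 6, 7], [2, 3, 2, 2, 3, 2, 3, 2, 3, 3, 4, 4, 4, 5, 5, 3, 6, 7, 3, 3]), ([2, 2, 3, 2, 2, 2, 3, 3, 4, 4, 5, 5, 6, 6, 6, 3, 3], [3, 2, 3, 3, 3, 2, 4, 4, 3, 4, 5, 5, 7, 3, 3, 3]), ([3, 3, 2, 2, 4, 3, 4, 3, 4, 5, 5, 5, 3, 6, 3, 3], [3, 3, 3, 2, 3, 3,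 2, 4, 3, 3, 4, 3, 4, 5, 5, 5, 5, 5, 5, 5, 6, 7, 3]), ([3, 2, 3, 3, 2, 2, 2, 4, 4, 3, 3, 4, 5, 5, 5, 5, 5, 5, 3, 6, 3, 3, 3], [3, 3, 3, 2, 3, 4, 4, 5, 5, 5, 5, 5, 5, 5, 3, 6, 3]), ([2, 2, 3, 2, 2, 2, 3, 4, 3, 4, 4, 5, 5, 5, 6, 3, 3], [2, 3, 3, 2, 2, 2, 4, 3, 3, 4, 4, 4, 5, 5, 5, 5, 5, 7, 3, 3]), ([3, 3, 2, 2, 4, 3, 4, 4, 4, 5, 7], [3, 2, 2, 2, 2, 2, 4, 4, 3, 4, 5, 5, 5, 5, 5, 5, 7, 3, 3, 3]), ([3, 2, 3, 3, 2, 2, 2, 3, 4, 4, 4, 3, 4, 5, 5, 5, 5, 5, 6, 6, 7, 3, 3], [3, 3, 2, 3, 2, 4, 3, 4, 3, 4, 3, 6]), ([3, 3, 3, 2, 2, 2, 3, 3, 3, 4, 3, 4, 4, 5, 5, 5, 5, 5, 3, 6, 3, 3, 3], [2, 3, 3, 2, 2, 3, 3, 2, 3, 3, 4, 3, 4, 4, 5,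 5, 5, 5, 6]), ([3, 2, 3, 2, 2, 2, 2, 3, 3, 4, 4, 4, 3, 4, 5, 5, 5, 5, 5, 5, 5, 5, 5, 3, 3, 3], [2, 3, 2, 2, 2, 3, 2, 4, 4, 3, 3, 4, 6, 6, 6, 7, 3]), ([3, 3, 3, 2, 2, 2, 4, 3, 4, 3, 4, 5, 5, 5, 5, 5, 5, 5, 5, 6, 6, 3, 3, 3], [3, 2, 2, 2, 3, 2, 4, 4, 4, 5, 5, 5, 5, 6, 6, 3]), ([3, 2, 3, 2, 2, 2, 2, 4, 3, 4, 5, 5, 5, 5, 5, 5, 5, 5, 6], [3, 3, 3, 2, 3, 3, 2, 4, 3, 4, 3, 4, 5, 5, 5, 5, 5, 6, 6, 3]), ([3, 3, 2, 3, 2, 2, 3, 4, 4, 4, 5, 5, 7, 3, 3, 3], [3, 2, 2, 2, 3, 3, 2, 4, 3, 4, 4, 5, 5, 5, 5, 5, 5, 6, 3, 3, 3]), ([2, 2, 3, 2, 3, 3, 2, 2, 2, 3, 4, 4, 6, 7, 3, 3], [2, 2, 3, 2, 4, 6, 6, 7]), ([2, 3, 2, 2, 3, 4, 4, 4, 5, 5,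 7, 3], [3, 2, 3, 2, 2, 2, 2, 2, 4, 3, 4, 4, 4, 3, 4, 5, 5, 6, 6, 6, 7, 3, 3]), ([3, 3, 2, 3, 2, 2, 3, 3, 4, 4, 4, 3, 4, 5, 5, 5, 5, 5, 5, 5, 6, 6, 6, 3, 3, 3], [2, 3, 2, 3, 2, 3, 4, 3, 4, 4, 5, 5, 5, 6, 3, 3, 3]), ([2, 2, 3, 2, 3, 3, 2, 2, 2, 3, 4, 3, 4, 4, 5, 5, 5, 5, 5, 5, 5, 3], [3, 2, 3, 3, 3, 2, 2, 4, 3, 3, 4, 4, 4, 5, 5, 5, 6, 6, 7, 3, 3]), ([2, 3, 2, 2, 3, 3, 4, 4, 4, 3, 4, 5, 5, 5, 5, 5, 5, 5, 6, 6, 6, 3], [3, 3, 2, 3, 2, 3, 2, 3, 4, 3, 4, 4, 5, 5, 5, 6, 3, 3, 3]), ([2, 3, 2, 2, 3, 3, 3, 4, 3, 4, 5, 5, 5, 5, 5, 5, 5, 5, 5, 6, 6, 6], [2, 3, 3, 3, 2, 3, 3, 2, 4, 3, 3, 4, 3, 4, 5, 6, 7, 3, 3, 3]), ([2, 3, 3, 3,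 2, 3, 2, 2, 4, 4, 3, 3, 4, 5, 5, 5, 5, 5, 3, 6, 3, 3], [3, 2, 2, 2, 3, 2, 3, 2, 3, 3, 4, 3, 4, 4, 5, 5, 5, 5, 5, 5, 5, 5, 5, 6, 3, 3, 3]), ([2, 3, 2, 2, 3, 4, 4, 4, 3, 4, 5, 5, 5, 5, 5, 5, 6, 6, 3, 3, 3], [2, 2, 3, 2, 2, 3, 2, 3, 2, 4, 3, 3, 4, 3, 4, 5, 5, 5, 5, 6, 6, 3, 3, 3]), ([2, 3, 3, 3, 2, 3, 2, 2, 4, 3, 4, 3, 4, 5, 5, 5, 5, 5, 5, 5, 5, 5, 6, 6, 6, 7], [2, 2, 3, 2, 3, 2, 4, 4, 5, 5, 5, 5, 5, 6, 7, 3, 3]), ([2, 3, 3, 2, 2, 2, 2, 2, 3, 4, 4, 3, 4, 5, 5, 5, 5, 5, 6, 6, 6, 3], [2, 3, 3, 2, 2, 3, 2, 4, 4, 5, 5, 5, 5, 5, 5, 3, 6, 7, 3]), ([2, 2, 3, 2, 2, 2, 2, 2, 3, 4, 3, 4, 4, 5, 5, 3, 3, 3], [3, 3, 2, 2, 2, 3, 2,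 2, 2, 4, 5, 5, 5, 5, 5, 5, 6, 6, 6, 7, 3, 3]), ([2, 3, 3, 2, 2, 2, 2, 2, 3, 4, 4, 5, 5, 5, 5, 5, 5, 6], [3, 2, 2, 2, 3, 2, 2, 2, 4, 5, 5, 5, 5, 5, 5, 6, 6, 6, 7, 3, 3]), ([2, 2, 3, 2, 2, 2, 2, 2, 4, 3, 4, 3, 4, 5, 5, 5, 5, 5, 5, 5, 5, 5, 6, 6, 7], [3, 3, 2, 3, 3, 3, 4, 3, 4, 4, 5, 5, 5, 5, 5, 5, 5, 5, 5, 6, 6, 6, 3, 3]), ([3, 2, 3, 2, 2, 2, 2, 4, 3, 4, 4, 4, 5, 5, 5, 5, 5, 6, 6, 7], [3, 3, 2, 2, 2, 3]), ([3, 2, 3, 2, 2, 2, 2, 3, 4, 4, 3, 4, 5, 6, 6, 6, 3, 3, 3], [2, 3, 2, 3, 3, 3, 2, 4, 5, 5, 5, 5, 5, 5, 5, 5, 5, 3, 6, 7, 3]), ([2, 3, 3, 2, 3, 3, 2, 2, 2, 4, 3, 4, 4, 5, 5, 5, 5, 6, 6, 6, 3, 3], [2, 3, 2, 2, 2, 3, 3,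 3, 4, 5, 6, 6, 3, 3, 3]), ([3, 3, 3, 2, 2, 2, 4, 3, 4, 4, 5, 5, 7, 3, 3, 3], [3, 2, 2, 3, 2, 2, 4, 4, 4, 5, 5, 5, 3, 6, 3, 3]), ([2, 3, 3, 3, 2, 3, 2, 2, 3, 4, 4, 4, 5, 5, 5, 5, 5, 5, 5, 5, 5, 3, 6, 3], [2, 3, 3, 3, 2, 3, 2, 4, 3, 3, 4, 4, 4, 5, 5, 6, 7]), ([2, 2, 3, 3, 3, 2, 2, 4, 3, 3, 4, 4, 3, 4, 5, 6, 6, 6, 7], [2, 3, 2, 2, 2, 3, 3, 4, 3, 4, 4, 5, 5, 5, 5, 5, 5, 5, 5, 6, 3, 3, 3]), ([3, 3, 2, 3, 2, 2, 3, 3, 4, 4, 4, 6, 6, 7, 3, 3], [2, 2, 3, 2, 2, 2, 2, 2, 2, 4, 3, 3, 4, 3, 4, 5, 5, 5, 3, 6, 7, 3, 3]), ([2, 3, 3, 3, 2, 3, 2, 2, 3, 4, 4, 3, 3, 4, 5, 5, 5, 5, 5, 5, 5, 5, 5, 3, 6, 7], [3, 2, 2, 2, 3, 3, 3, 2, 3, 3,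 3, 4, 5, 5, 5, 5, 5, 3, 6, 3, 3]), ([2, 4, 3, 4, 3, 4, 5, 5, 5, 5, 7, 3], [3, 2, 3, 3, 2, 4, 4, 3, 3, 4, 5, 5, 5, 3, 6, 3]), ([3, 2, 3, 2, 3, 2, 4, 4, 5, 7], [2, 3, 3, 2, 2, 3, 2, 4, 6, 6, 7, 3, 3]), ([3, 3, 2, 2, 2, 2, 3, 2, 4, 3, 3, 4, 4, 3, 4, 5, 5, 3, 3], [2, 3, 2, 2, 2, 3, 2, 2, 4, 5, 6]), ([2, 2, 3, 3, 3, 2, 3, 2, 2, 3, 3, 4, 5, 5, 5, 5, 7, 3, 3, 3], [2, 3, 2, 2, 2, 3, 2, 2, 3, 3, 4, 3, 4, 5, 5, 3, 6, 7, 3]), ([2, 3, 3, 2, 2, 3, 3, 2, 3, 4, 5, 5, 5, 5, 5, 5, 5, 5, 5, 6, 6, 6, 3, 3], [2, 2, 2, 3, 2, 2, 2, 3, 3, 4, 3, 4, 4, 5, 5, 6, 6, 6, 3]), ([4, 5, 5, 5, 5, 5, 5, 5, 7, 3], [2, 2, 3, 3, 3, 2, 3, 2, 2, 3, 3, 4,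 3, 4, 4, 5, 5, 5, 5, 5, 5, 5, 5, 6, 6, 6]), ([3, 4, 4, 4, 5, 6, 6, 7, 3, 3], [3, 3, 2, 2, 2, 2, 3, 2, 4, 3, 4, 4, 3, 6, 3, 3, 3])],
    [([2, 3, 3, 2, 2, 3, 3, 2, 3, 3, 3, 4, 3, 4, 4, 5, 5, 5, 5, 5, 5, 5, 5, 5, 7, 3, 3, 3], [3, 2, 2, 2, 3, 2, 2, 2, 3, 4, 4, 3, 4, 5, 5, 5, 5, 5, 5, 5, 3, 6, 7]), ([2, 3, 3, 4, 5, 5, 5, 5, 5, 5, 5, 5, 6, 7, 3, 3], [3, 2, 3, 2, 3, 2, 3, 3, 4, 4, 5, 5, 5, 5, 5, 5, 7]), ([3, 2, 3, 2, 3, 2, 4, 4, 3, 3, 4, 3, 6, 3], [3, 2, 2, 2, 3, 2, 2, 4, 4, 3, 3, 4, 5, 6, 6]), ([3, 3, 2, 2, 2, 2, 3, 2, 3, 3, 3, 4, 3, 4, 4, 5, 5, 5, 5, 5, 5, 5, 5, 5, 3, 3, 3], [3, 3, 2, 2, 4, 3, 4, 4, 4, 5, 5, 5, 6, 3, 3,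 3]), ([2, 2, 3, 3, 3, 2, 3, 2, 2, 3, 3, 4, 4, 4, 3, 4, 5, 5, 5, 5, 5, 5, 7], [3, 2, 2, 2, 2, 2, 2, 4, 3, 3, 4, 3, 4, 5, 5, 5, 5, 5, 5, 5, 5, 6, 6, 6, 7, 3, 3, 3]), ([2, 2, 3, 3, 3, 2, 3, 2, 3, 3, 4, 4, 4, 3, 4, 3, 6, 3], [2, 2, 2, 3, 2, 3, 2, 4, 4, 5, 5, 5, 5, 5, 6, 7, 3, 3]), ([5, 5, 5, 5, 6, 6, 6, 7, 3, 3], [2, 2, 3, 3, 2, 3, 4, 4, 4, 5, 5, 7]), ([2, 2, 3, 3, 2, 3, 4, 3, 4, 5, 5, 5, 5, 5, 5, 5, 6, 3], [3, 3, 3, 2, 2, 2, 3, 2, 4, 3, 3, 4, 5, 5, 5, 3]), ([2, 3, 3, 2, 2, 3, 3, 2, 3, 3, 4, 4, 4, 3, 4, 5, 5, 5, 5, 5, 5, 5, 5, 6, 7, 3, 3, 3], [2, 2, 2, 3, 2, 2, 4, 4, 3, 4, 5, 6, 6, 6, 3, 3]), ([2, 2, 3, 3, 3, 2, 3, 2, 3,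 3, 4, 4, 4, 3, 4, 3, 3, 3], [2, 2, 3, 3, 3, 2, 3, 2, 2, 4, 4, 3, 3, 4, 6, 6, 7, 3]), ([2, 2, 3, 3, 2, 3, 4, 3, 4, 5, 5, 5, 5, 5, 5, 5, 3, 3], [3, 2, 3, 3, 2, 2, 2, 3, 3, 3, 4, 3, 4, 4, 5, 5, 5, 6, 6, 3]), ([2, 3, 3, 2, 3, 2, 3, 3, 4, 3, 4, 5, 5, 5, 5, 5, 5], [2, 2, 3, 2, 3, 2, 4, 3, 4, 4, 4, 5, 5, 5, 5, 5, 5, 5, 5, 5, 3, 6]), ([2, 2, 3, 3, 3, 2, 3, 2, 2, 3, 3, 3, 4, 3, 4, 5, 6, 6], [3, 3, 3, 2, 2, 2, 2, 3, 2, 3, 4, 4, 5, 5, 5, 5, 5, 5, 5, 5, 5, 3, 6, 7, 3]), ([2, 3, 3, 2, 3, 2, 3, 3, 4, 4, 3, 4, 5, 5, 5, 5, 5, 5, 5, 5, 6, 6, 6, 7, 3, 3], [2, 2, 2, 2, 3, 3, 3]), ([2, 2, 2, 2, 4, 3, 4, 4, 4, 5, 5, 5, 5, 5, 3], [2, 3,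 3, 2, 2, 3, 3, 2, 3, 4, 4, 3, 3, 4, 5, 5, 5, 5, 5, 5, 5, 3, 6, 7]), ([4, 5, 5, 5, 6, 3, 3, 3], [2, 2, 2, 3, 2]), ([2, 2, 3, 3, 3, 2, 3, 2, 2, 3, 3, 4, 5, 5, 5, 5, 5, 5, 5, 5, 6, 6, 7, 3, 3, 3], [3, 2, 3, 2, 2, 2, 2, 2, 4, 3, 3, 4, 4, 3, 4, 3, 6]), ([3, 2, 3, 2, 3, 2, 4, 4, 5, 5, 5, 3, 6, 3], [2, 3, 2, 3, 3, 2, 2, 2, 3, 4, 4, 4, 5, 5, 5, 5, 5, 5, 5, 5, 3, 6, 3]), ([2, 2, 2, 2, 4, 3, 4, 4, 4, 5, 6, 3, 3], [3, 3, 2, 2, 2, 2, 2, 4, 3, 3, 4, 4, 4, 5, 6, 7]), ([2, 3, 3, 2, 2, 3, 3, 2, 3, 3, 3, 4, 3, 4, 4, 5, 5, 5, 6, 6, 7, 3, 3, 3], [2, 3, 2, 3, 3, 3, 2, 4, 4, 3, 3, 4, 5, 5, 5, 6, 6, 7]), ([2, 3, 3, 3, 2, 2, 4, 4, 3, 4, 5,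 5, 3, 6, 7, 3, 3, 3], [2, 2, 3, 2, 3, 2, 3, 4, 4, 3, 3, 4, 5, 5, 5, 5, 5, 5, 5, 5, 5, 3, 6, 3, 3]), ([5, 5, 3, 6, 7, 3, 3, 3], [3, 2, 2, 2, 3, 2, 4, 6, 6, 7, 3, 3, 3]), ([3, 2, 3, 2, 3, 2, 4, 4, 3, 3, 4, 5, 5, 5, 5, 5, 5, 5, 5, 7], [3, 3, 2, 3, 3, 3, 2, 3, 3, 4, 3, 4, 4, 5, 5, 5, 5, 6, 3, 3]), ([2, 3, 3, 2, 2, 3, 3, 2, 3, 3, 4, 4, 4, 3, 4, 6, 3, 3], [3, 3, 2, 2, 2, 3, 2, 3, 4, 4, 3, 3, 4, 5, 5, 5, 6, 6, 3]), ([2, 2, 3, 3, 3, 2, 3, 2, 2, 3, 3, 4, 4, 4, 3, 4, 5, 5, 6, 7, 3, 3, 3], [3, 2, 2, 3, 3, 2, 3, 3, 3, 4, 5, 5, 5, 5, 5, 5, 5, 5, 6, 6, 3, 3]), ([4, 3, 3, 4, 4, 3, 4, 5, 5, 5, 5, 5, 5, 5, 3, 6, 7, 3, 3], [2, 2, 3,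 3, 3, 2, 3, 2, 2, 4, 4, 4, 5, 5, 5, 3, 6, 3, 3]), ([2, 2, 2, 3, 2, 3, 2, 2, 3, 4, 4, 5, 5, 5, 5, 5, 5, 5, 5, 5, 6, 6, 6, 3, 3], [3, 2, 2, 2, 3, 2, 3, 2, 4, 3, 3, 4, 4, 3, 4, 5, 5, 5, 5, 5, 5, 3, 3, 3]), ([2, 2, 2, 3, 2, 3, 2, 2, 3, 3, 4, 3, 4, 4, 5, 5, 5, 5, 5, 5, 5, 3, 6, 3], [2, 3, 2, 2, 2, 3, 2, 4, 3, 4, 4, 4, 3, 4, 5, 5, 5, 5, 5, 5, 5, 5, 5, 7, 3]), ([2, 3, 3, 3, 2, 2, 4, 4, 3, 4, 7, 3, 3, 3], [2, 2, 3, 3, 2, 2, 2, 3, 4, 4, 4, 3, 4, 5, 5, 6, 6, 6, 7, 3]), ([3, 2, 3, 3, 3, 2, 3, 2, 4, 3, 4, 4, 4, 5, 5, 5, 5, 5, 5, 5, 3, 6, 3, 3], [2, 2, 2, 3, 2, 3, 2, 3, 4, 3, 3, 4, 3, 4, 5, 5, 5, 7, 3, 3, 3]), ([3, 2, 3, 3, 3, 2,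 3, 2, 4, 3, 4, 4, 4, 3, 4, 5, 5, 5, 5, 6, 7, 3, 3, 3], [2, 2, 2, 3, 3, 2, 3, 3, 4, 4, 5, 5, 5, 5, 5, 5, 5, 6, 6, 6, 7]), ([3, 2, 3, 3, 3, 2, 3, 2, 4, 5, 5, 6, 6, 3], [2, 2, 3, 2, 3, 3, 2, 2, 2, 3, 3, 3, 4, 3, 4, 7, 3, 3]), ([2, 3, 3, 2, 2, 2, 3, 4, 3, 3, 4, 3, 4, 5, 5, 5, 5, 5, 6, 6, 7, 3], [3, 2, 2, 2, 3, 3, 2, 3, 3, 3]), ([2, 3, 2, 2, 3, 2, 3, 2, 3, 3, 4, 3, 4, 5, 6, 6, 3, 3], [3, 2, 3, 3, 2, 2, 3, 2, 4, 4, 3, 4, 5, 6, 6]), ([2, 2, 3, 3, 3, 2, 3, 2, 3, 4, 3, 4, 6, 7, 3, 3], [3, 3, 3, 2, 3, 2, 2, 4, 3, 3, 4, 4, 3, 4, 5, 5, 5, 5, 6, 6, 3]), ([3, 3, 3, 2, 3, 2, 4, 3, 4, 4, 4, 5, 5, 5, 5, 5, 6, 6, 3], [2, 2, 2, 3, 3,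 2, 3, 3, 3, 4, 3, 4, 5, 6, 6, 3, 3]), ([2, 3, 3, 2, 2, 2, 3, 4, 4, 3, 3, 4, 6, 7, 3], [3, 2, 3, 2, 2, 3, 3, 3]), ([2, 2, 3, 3, 3, 2, 3, 2, 4, 3, 4, 4, 4, 5, 6, 6, 6], [3, 2, 2, 3, 3]), ([3, 4, 3, 4, 4, 5, 5, 7, 3], [3, 3, 2, 3, 2, 2, 3, 4, 4, 4, 5, 5, 5, 5, 5, 6, 6, 7, 3]), ([2, 2, 3, 2, 3, 2, 2, 4, 4, 5, 5, 5, 5, 5, 5, 5, 3, 3], [2, 3, 2, 2, 4, 3, 4, 4, 4, 5, 5, 5, 5, 5, 6, 6, 6, 7, 3]), ([3, 3, 2, 2, 2, 4, 4, 4, 5, 5, 5, 5, 5, 5, 5, 5, 5, 3, 3], [3, 2, 2, 3, 3, 2, 2, 2, 3, 4, 3, 4, 4, 5, 5, 7, 3, 3]), ([2, 3, 2, 3, 3, 2, 4, 4, 4, 3, 4, 5, 5, 5, 5, 5, 5, 5, 5, 5, 7, 3, 3, 3], [3, 3, 3, 2, 2, 3, 4, 3, 3, 4, 3, 4, 5,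 5, 5, 5, 5, 5, 6, 6, 6, 3, 3]), ([3, 2, 3, 3, 3, 2, 2, 4, 4, 3, 4, 5, 5, 5, 6, 6, 7, 3, 3], [3, 2, 3, 3, 2, 4, 3, 3, 4, 4, 4, 5, 5, 5, 5, 3, 6, 7, 3, 3]), ([3, 4, 4, 5, 5, 5, 5, 5, 5, 5, 6, 6, 6, 7, 3], [3, 2, 3, 2, 3, 3, 4, 4, 5, 5, 5, 5, 5, 5, 7]), ([3, 4, 4, 3, 3, 4, 5, 5, 5, 5, 6, 3, 3], [2, 2, 3, 2, 2, 3, 2, 3, 4, 3, 4, 5, 5, 6, 6, 6, 3]), ([3, 4, 4, 3, 4, 5, 5, 5, 5, 7, 3, 3, 3], [3, 3, 3, 2, 4, 4, 5, 5, 5, 5, 5, 5, 5, 6, 7]), ([3, 2, 2, 2, 2, 3, 2, 3, 4, 5, 5, 5, 5, 6], [3, 3, 3, 2, 3, 2, 2, 2, 3, 4, 4, 3, 3, 3]), ([3, 2, 2, 2, 2, 3, 2, 4, 3, 3, 4, 4, 3, 4, 5, 5, 3, 3, 3], [2, 2, 3, 3, 3, 2, 3, 2, 3, 4, 5, 5,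 5, 5, 5, 6, 3, 3]), ([3, 2, 2, 2, 2, 3, 2, 5, 5, 5, 5, 5, 5, 5, 6, 6, 3, 3], [2, 2, 3, 2, 3, 3, 2, 2, 2, 4, 4, 4, 3, 4, 5, 5, 6, 6, 6, 3, 3, 3]), ([3, 3, 3, 2, 3, 2, 2, 3, 3, 4, 4, 3, 4, 5, 5, 5, 5, 5, 5, 5, 5, 5, 6], [3, 2, 3, 2, 2, 2, 3, 2, 2, 3, 3, 3, 4, 5, 5, 3, 6, 3]), ([3, 3, 3, 2, 3, 2, 2, 4, 3, 4, 4, 4, 5, 5, 6, 6, 3, 3, 3], [3, 2, 2, 2, 3, 3, 3, 4, 5, 6, 6, 3, 3, 3]), ([3, 3, 3, 2, 3, 2, 2, 3, 4, 4, 3, 4, 5, 5, 5, 5, 5, 5, 5, 5, 6, 6, 6, 3], [3, 2, 2, 3, 3, 2, 2, 2, 3, 4, 4, 4, 3, 4, 6, 6, 7, 3, 3]), ([3, 3, 3, 2, 4, 3, 4, 3, 4, 6, 6, 7, 3, 3], [2, 3, 2, 2, 3, 2, 4, 3, 3, 4, 4, 3, 4, 5, 5, 5, 5, 5, 5, 5, 6,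 6, 7, 3, 3, 3]), ([3, 3, 3, 2, 4, 3, 4, 3, 4, 6, 7, 3, 3, 3], [3, 2, 3, 2, 2, 2, 2, 2, 4, 5, 5, 5, 5, 5, 5, 5, 7]), ([3, 2, 3, 3, 3, 2, 3, 2, 4, 4, 4, 5, 5, 5, 5, 5, 5, 5, 7, 3, 3], [3, 3, 2, 3, 2, 2, 4, 4, 4, 5, 5, 3, 6, 3, 3]), ([3, 2, 3, 3, 3, 2, 3, 2, 4, 4, 4, 5, 5, 5, 5, 5, 5, 5, 6, 6, 6, 7, 3, 3, 3], [2, 3, 3, 2, 2, 2, 3, 3, 4, 4, 4, 6, 6, 6, 3, 3, 3]), ([4, 4, 5, 5, 5, 5, 5, 5, 3, 6, 7, 3], [3, 4, 4, 3, 4, 6, 3, 3, 3]), ([2, 3, 3, 2, 2, 2, 4, 3, 4, 4, 5, 6, 3, 3], [2, 3, 2, 2, 2, 2, 2, 3, 3, 3, 4, 3, 4, 4, 5, 5, 5, 5, 5, 5, 5, 5, 5, 6, 6, 7, 3, 3, 3]), ([2, 2, 3, 2, 3, 3, 3, 2, 4, 4, 3, 4, 5, 5, 5, 5, 5, 5, 5,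 5, 3, 6, 7, 3, 3], [2, 2, 3, 2, 2, 2, 2, 3, 4, 3, 3, 4, 3, 4, 5, 5, 6, 6, 7, 3, 3, 3]), ([2, 3, 2, 2, 2, 3, 2, 4, 3, 4, 3, 4, 5, 5, 5, 5, 5, 6, 6, 6, 7, 3, 3], [2, 3, 2, 2, 2, 2, 2, 3, 4, 3, 4, 4, 3, 6, 7, 3, 3, 3]), ([2, 3, 3, 2, 2, 2, 3, 3, 3, 4, 3, 4, 4, 5, 5, 5, 5, 5, 5, 5, 5, 5], [2, 2, 2, 3, 3, 3, 2, 4, 3, 3, 4, 4, 4, 5, 5, 5, 5, 5, 7, 3, 3, 3]), ([4, 3, 3, 4, 6, 7, 3, 3], [2, 3, 2, 2, 2, 3, 2, 3, 3, 4, 3, 4, 5, 5, 5, 5, 5, 7, 3, 3, 3]), ([2, 2, 3, 2, 3, 3, 3, 2, 3, 3, 4, 3, 4, 4, 5, 5, 5, 3, 6, 3, 3, 3], [2, 2, 2, 3, 3, 2, 4, 4, 3, 3, 4, 5, 5, 5, 3, 6, 3, 3]), ([2, 3, 3, 2, 2, 2, 3, 3, 4, 4, 4, 3, 4, 5, 5, 5,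 5, 5, 5, 5, 5, 6, 6, 3, 3, 3], [3, 3, 3, 2, 3, 3, 2, 4, 4, 3, 3, 4, 5, 5, 5, 6, 6])],
    [([2, 3, 2, 3, 2, 3, 2, 3, 3, 4, 4, 4, 3, 4, 5, 5, 5, 5, 5, 6, 7, 3, 3], [3, 3, 2, 2, 2, 4, 3, 3, 4, 3, 4, 6, 6, 6, 7, 3, 3, 3]), ([2, 3, 2, 2, 3, 2, 3, 2, 3, 3, 3, 4, 3, 4, 4, 5, 5, 5, 5, 5, 5, 5, 5, 7], [3, 2, 2, 3, 2, 2, 2, 2]), ([2, 2, 3, 3, 3, 2, 2, 4, 4, 3, 4, 5, 5, 5, 5, 5, 5, 5, 5, 5, 3, 6, 7, 3], [3, 2, 3, 3, 3, 2, 2, 4, 4, 4, 5, 5, 5, 5, 5, 3, 3]), ([2, 2, 3, 3, 3, 2, 2, 4, 4, 3, 4, 5, 5, 5, 5, 5, 5, 5, 5, 5, 6, 3, 3, 3], [3, 3, 2, 2, 2, 3, 3, 2, 3, 4, 3, 4, 5, 5, 5, 5, 5, 5, 6, 7, 3, 3]), ([3, 2, 2, 3, 2, 3, 2, 4, 4,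 6, 6, 7], [3, 3, 2, 3, 2, 3, 3, 3, 4, 3, 4, 4, 5, 5, 5, 5, 5, 5, 5, 5, 6, 6, 3, 3]), ([3, 2, 2, 3, 2, 3, 2, 4, 4, 3, 6, 7], [2, 3, 3, 2, 3, 4, 4, 3, 3, 4, 5, 5, 5]), ([3, 2, 2, 2, 2, 4, 3, 4, 4, 4, 5, 6, 3], [3, 3, 2, 3, 3, 2, 3, 4, 4, 4, 3, 4, 5, 5, 5, 5, 5, 5, 5, 6, 6, 3, 3, 3]), ([3, 3, 2, 3, 2, 3, 2, 4, 4, 5, 5, 5, 3, 6], [2, 3, 2, 2, 3, 2, 3, 2, 4, 5, 5, 5, 5, 6, 6, 3]), ([2, 3, 2, 3, 2, 3, 3, 2, 3, 4, 4, 4, 6], [2, 3, 2, 2, 2, 2, 2, 2, 3, 4, 3, 4, 4, 3, 6, 7, 3, 3]), ([3, 2, 3, 2, 2, 3, 3, 2, 3, 3, 4, 5, 5, 5, 5, 5, 5, 3, 6], [2, 2, 3, 2, 2, 3, 2, 4, 5, 5, 5, 5, 5, 5, 5, 6, 6, 6, 7]), ([3, 2, 2, 2, 3, 2, 4, 3,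 3, 4, 4, 3, 4, 5, 6, 6, 6, 3, 3], [2, 3, 2, 2, 3, 2, 3, 3, 3, 4, 5, 6, 6, 3, 3]), ([2, 2, 3, 2, 2, 2, 2, 3, 4, 4, 4, 3, 4, 5, 5, 5, 5, 5, 5, 5, 3, 3, 3], [3, 2, 2, 2, 2, 2, 4, 5, 5, 5, 5, 5, 5, 5, 7]), ([3, 2, 2, 2, 3, 2, 4, 3, 3, 4, 4, 3, 4, 5, 5, 5, 5, 5, 5, 5, 6, 6, 3], [2, 2, 2, 2, 3, 3, 2, 3, 3, 3, 4, 3, 4, 5, 6, 6, 7, 3, 3, 3]), ([2, 2, 3, 2, 2, 2, 2, 3, 4, 4, 4, 3, 4, 5, 6, 6, 7, 3, 3], [2, 2, 2, 2, 3, 2, 3, 4, 3, 3, 4, 3, 4, 5, 5, 5, 3, 6, 3]), ([2, 2, 3, 2, 2, 2, 2, 3, 3, 3, 4, 3, 4, 3, 6, 7, 3, 3], [3, 3, 2, 2, 3, 3, 2, 4, 3, 3, 4, 4, 3, 4, 5, 3, 6]), ([2, 3, 2, 2, 2, 3, 2, 2, 3, 3, 3, 4, 3, 4, 5, 5, 5, 5,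 5, 5, 5, 5, 5, 3, 6, 7, 3], [3, 2, 3, 2, 4, 3, 4, 3, 4, 5, 5, 3]), ([2, 2, 4, 5, 6, 6, 6, 3], [3, 3, 2, 2, 3, 4, 4, 3, 4, 5, 5, 5, 5, 5, 6, 3, 3, 3]), ([2, 2, 4, 5, 5, 5, 3, 3], [3, 3, 3, 2, 3, 3, 2, 4, 3, 4, 3, 4, 5, 5, 5, 7]), ([2, 3, 3, 2, 3, 2, 2, 2, 3, 4, 5, 6, 6, 6, 7, 3, 3], [2, 3, 3, 3, 2, 3, 2, 4, 4, 3, 3, 4, 5, 7, 3, 3]), ([2, 2, 3, 2, 2, 2, 2, 3, 3, 3, 4, 3, 4, 5, 5, 5, 5, 5, 5, 6, 6, 6], [2, 3, 2, 3, 2, 2, 2, 2, 2, 4, 3, 4, 4, 4, 3, 4, 5, 5, 5, 5, 5, 5, 5, 5, 3]), ([2, 2, 2, 2, 2, 2, 3, 3, 4, 4, 4, 5, 5, 5, 5, 5], [3, 2, 3, 2, 3, 3, 3, 4, 3, 4, 4, 5, 5, 5, 5, 5, 5, 5, 5, 5, 6, 6, 6, 3, 3]), ([3, 3, 2, 3,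 2, 2, 2, 4, 5, 5, 5, 5, 5, 5, 5, 5, 6, 6, 7], [3, 2, 3, 2, 2, 2, 2, 2, 4, 3, 4, 4, 4, 3, 4, 5, 5, 5, 5, 5, 5, 5, 5, 3]), ([3, 3, 3, 2, 2, 2, 3, 2, 4, 4, 4, 3, 4, 5, 5, 5, 5, 5, 5, 5, 5, 7, 3, 3], [2, 3, 2, 2, 3, 3, 2, 2, 2, 4, 4, 3, 4, 5, 6, 6, 6, 7, 3]), ([2, 2, 3, 3, 3, 2, 2, 3, 3, 4, 3, 4, 5, 5, 5, 5, 5, 5, 6, 7, 3, 3], [2, 2, 3, 2, 2, 3, 2, 3, 2, 3, 3, 3, 4, 3, 4, 4, 5, 5, 5, 5, 5, 5, 5, 6, 7]), ([3, 2, 2, 2, 3, 2, 2, 2, 3, 4, 5, 5, 5, 5, 5, 5, 6, 6, 6, 3, 3], [3, 3, 2, 2, 3, 3, 2, 3, 3, 4, 4, 5, 5, 5, 5, 5, 5, 5, 6, 6, 6, 7, 3]), ([3, 2, 2, 2, 3, 2, 2, 2, 4, 4, 5, 5, 5, 5], [3, 2, 2, 2, 4, 3, 4, 4, 4, 5, 5, 5,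 5, 5, 6, 6, 6, 7, 3]), ([3, 2, 2, 2, 3, 2, 2, 2, 4, 4, 3, 4, 5, 5, 5, 5, 5, 5, 5, 5, 5, 3, 6, 3, 3, 3], [2, 3, 2, 3, 3, 2, 3, 4, 4, 5, 5, 5, 5, 5, 5, 6, 7, 3]), ([3, 2, 2, 3, 2, 2, 2, 2, 4, 3, 4, 5, 6, 6, 6, 3, 3], [2, 3, 2, 2, 2, 2, 2, 2, 3, 4, 3, 3, 4, 3, 4, 5, 7, 3]), ([3, 2, 2, 3, 2, 2, 2, 2, 4, 3, 4, 5, 3], [2, 2, 2, 3, 2, 2, 2, 3, 4, 3, 4, 4, 5, 5, 5, 5, 7, 3, 3]), ([3, 2, 3, 2, 3, 4, 3, 3, 4, 3, 4, 5, 5, 5, 3, 6, 7, 3], [3, 3, 2, 2, 2, 3, 2, 4, 4, 3, 3, 4, 3, 3]), ([3, 2, 3, 2, 4, 3, 3, 4, 4, 4, 5, 6, 7, 3, 3], [2, 2, 3, 2, 2, 3, 3]), ([3, 3, 2, 3, 3, 2, 2, 2, 3, 3, 4, 4, 5, 5, 7, 3], [3, 2, 2, 3, 2, 2, 2, 2,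 4, 3, 4, 5, 5, 5, 6, 6, 6]), ([3, 2, 3, 2, 2, 2, 3, 2, 2, 3, 3, 4, 4, 4, 3, 4, 5, 5, 5, 5, 5, 5, 5, 5, 3, 6, 7, 3], [3, 2, 3, 2, 3, 4, 3, 4, 4, 5, 5, 5, 5, 5, 6, 6, 7, 3]), ([3, 3, 2, 3, 3, 2, 2, 2, 3, 4, 3, 4, 4, 5, 5, 5, 6, 6, 7, 3, 3, 3], [2, 3, 3, 4, 4, 3, 4, 6, 3, 3, 3]), ([3, 2, 3, 2, 2, 2, 3, 2, 2, 3, 4, 4, 4, 3, 4, 5, 5, 5, 5, 5, 5, 5, 6, 6, 7], [2, 3, 3, 2, 3, 3, 2, 2, 2, 3, 4, 4, 4, 5, 5, 5, 5, 5, 6, 6, 6, 7]), ([3, 3, 2, 3, 3, 2, 2, 2, 3, 4, 4, 5, 5, 5, 6, 7, 3, 3, 3], [3, 3, 2, 3, 2, 2, 3, 3, 4, 4, 5, 5, 5, 5, 5, 5, 5, 6, 6, 3]), ([3, 2, 3, 2, 2, 2, 3, 2, 2, 3, 3, 3, 4, 3, 4, 4, 5, 5, 5, 5, 5, 5, 5, 5, 6,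 6, 6, 3, 3], [2, 3, 2, 4, 3, 3, 3, 4, 3, 4, 5, 5, 5, 5, 5, 5, 5, 6, 6, 7, 3]), ([2, 2, 2, 2, 2, 4, 3, 4, 4, 5, 5, 7, 3, 3], [2, 2, 2, 2, 2, 3, 2, 4, 3, 3, 4, 4, 4, 5, 5, 5, 6, 7, 3]), ([2, 2, 3, 2, 2, 3, 2, 5, 5, 5, 5, 3, 6, 3, 3], [3, 3, 2, 2, 2, 2, 2, 3, 3, 4, 3, 4, 5, 5, 5, 5, 5, 5, 5, 5, 5, 6, 6, 3, 3, 3]), ([3, 2, 2, 3, 2, 3, 2, 3, 4, 3, 4, 4, 6, 7, 3, 3, 3], [3, 2, 2, 2, 3, 2, 4, 3, 4, 4, 6, 6, 6, 3]), ([3, 2, 2, 3, 2, 3, 2, 3, 4, 3, 4, 4, 6, 6, 7, 3, 3], [3, 3, 2, 2, 2, 3, 2, 2, 2, 3, 4, 4, 3, 4, 5, 5, 5, 5, 5, 5, 5, 3, 6, 7, 3]), ([2, 2, 2, 3, 2, 3, 2, 3, 3, 4, 4, 3, 4, 5, 5, 5, 5, 5, 5, 7], [2, 2, 2, 2, 3,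 4, 4, 4, 3, 4, 5, 5, 6, 6]), ([3, 2, 2, 3, 2, 2, 2, 2, 4, 3, 3, 4, 4, 4, 5, 5, 5, 5, 5, 6, 6], [2, 2, 3, 2, 2, 2, 3, 4, 4, 4, 5, 5, 5, 7]), ([3, 2, 2, 3, 3, 3, 2, 2, 3, 3, 4, 4, 4, 5, 5, 5, 5, 5, 5, 7, 3, 3, 3], [2, 3, 2, 3, 3, 2, 4, 4, 5, 5, 5, 5, 5, 5, 5, 6, 7, 3, 3, 3]), ([2, 3, 3, 2, 3, 4, 4, 3, 3, 4, 5, 5, 5, 5, 5, 5, 5, 3, 3, 3], [3, 2, 3, 2, 2, 3, 3]), ([2, 2, 2, 2, 2, 3, 2, 4, 4, 5, 5, 5, 5, 5, 6, 6, 6, 7, 3, 3, 3], [2, 2, 3, 2, 3, 3, 2, 2, 2, 4, 3, 3, 4, 3, 4, 5, 5, 5, 3, 3, 3]), ([2, 2, 2, 2, 2, 3, 2, 3, 4, 3, 3, 4, 3, 4, 5, 5, 5, 5, 5, 5, 5, 6, 7, 3], [3, 3, 2, 2, 3, 2, 4, 3, 3, 4, 3, 4, 5, 5, 5, 5, 5, 3,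 6, 7, 3, 3, 3]), ([3, 3, 2, 2, 3, 3, 2, 2, 2, 4, 3, 4, 3, 4, 5, 5, 5, 5, 5, 5, 6, 3], [2, 3, 2, 3, 2, 3, 2, 3, 4, 3, 4, 5, 5, 5, 5, 5, 5, 5, 6, 7, 3]), ([3, 3, 2, 2, 3, 3, 2, 2, 2, 3, 3, 4, 3, 4, 4, 5, 5, 5, 5, 5, 5, 5, 5, 6, 6, 3, 3, 3], [3, 3, 2, 2, 3, 3, 2, 4, 3, 4, 4, 5, 5, 7, 3, 3, 3]), ([2, 3, 3, 2, 2, 2, 2, 2, 3, 4, 4, 3, 4, 5, 5, 5, 5, 5, 6, 6, 6, 7, 3, 3], [2, 2, 3, 3, 2, 3, 3, 4, 4, 5, 5, 5, 5, 5, 5, 5, 6, 6, 6, 7]), ([2, 2, 3, 2, 2, 2, 2, 2, 3, 4, 3, 4, 4, 5, 5, 7], [3, 3, 3, 2, 2, 2, 3, 3, 4, 5, 5, 5, 5, 5, 5, 5, 5, 5, 6, 6, 6, 7, 3]), ([2, 3, 3, 2, 2, 2, 2, 2, 3, 4, 4, 5, 5, 5, 5, 5, 5, 6, 7, 3], [3, 3,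 2, 2, 2, 3, 3, 4, 5, 5, 5, 5, 5, 5, 5, 5, 5, 6, 6, 6, 7, 3]), ([2, 3, 3, 3, 2, 3, 2, 2, 4, 4, 3, 4, 5, 5, 5, 5, 5, 7, 3, 3], [3, 2, 2, 2, 3, 2, 3, 2, 3, 4, 3, 3, 4, 3, 4, 5, 5, 5, 5, 5, 5, 5, 5, 3, 6]), ([2, 3, 3, 3, 2, 3, 2, 2, 3, 4, 5, 5, 6, 6, 3], [2, 2, 3, 3, 3, 2, 3, 3]), ([2, 2, 3, 2, 3, 3, 2, 2, 2, 3, 4, 3, 4, 4, 5, 5, 5, 5, 5, 5, 5, 7, 3, 3], [3, 2, 2, 3, 3, 3, 2, 2, 3, 4, 3, 4, 5, 5, 5, 5, 5, 5, 5, 5, 5, 6, 6, 6, 7, 3, 3]), ([3, 2, 2, 3, 2, 2, 2, 2, 3, 4, 4, 4, 3, 4, 5, 5, 5, 5, 5, 5, 5, 3, 3], [3, 2, 2, 3, 2, 3, 2, 4, 3, 4, 4, 4, 5, 5, 5, 3, 3, 3]), ([3, 3, 2, 2, 2, 2, 4, 3, 4, 4, 4, 5, 6, 7, 3, 3, 3], [3,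 3, 2, 2, 2, 3, 3, 2, 3, 4, 3, 4, 4, 6, 7]), ([3, 2, 2, 2, 2, 2, 2, 3, 3, 4, 4, 4, 3, 4, 5, 5, 5, 5, 5, 5, 6, 6, 3, 3], [2, 2, 3, 3, 2, 3, 3]), ([3, 2, 2, 2, 2, 2, 2, 4, 3, 4, 5, 5, 5, 5, 5, 5, 5, 5, 5, 6, 6, 6, 3], [3, 2, 2, 2, 3, 2, 2, 2, 3]), ([2, 2, 2, 2, 2, 4, 4, 5, 5, 5, 5, 5, 6, 6, 3, 3], [3, 3, 3, 2, 3, 2, 3, 2, 4, 3, 3, 4, 3, 6, 7, 3, 3]), ([3, 3, 3, 2, 3, 2, 2, 2, 3, 3, 4, 3, 4, 3, 6, 7, 3, 3], [3, 2, 3, 3, 3, 2, 3, 2, 3, 3, 3, 4, 3, 4, 5, 5, 5, 5, 5, 5, 3, 6, 3]), ([3, 2, 3, 2, 4, 4, 5, 5, 5, 3, 6, 7, 3, 3, 3], [2, 3, 2, 2, 3, 3, 4, 4, 3, 4, 5, 5, 5, 5, 5, 6, 3]), ([3, 2, 3, 2, 2, 2, 2, 2, 2, 3, 4, 4, 5, 5,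 5, 5, 5, 5, 5, 5, 5, 6, 6, 7], [3, 2, 2, 3, 2, 3, 3, 4, 5, 6, 6]), ([3, 2, 3, 2, 2, 2, 2, 2, 2, 3, 3, 3, 4, 3, 4, 5, 5, 5, 5, 5, 5, 5, 5, 5, 6, 7, 3, 3], [3, 3, 3, 2, 2, 2, 3, 3, 3, 4, 5, 6, 6, 7, 3, 3])],
    [([3, 2, 3, 2, 2, 2, 2, 2, 2, 4, 4, 4, 5, 5, 5, 5, 5, 5, 5, 5, 5, 3, 3], [2, 3, 2, 3, 2, 3, 2, 3, 3, 4, 3, 4, 6, 6, 3, 3, 3]), ([3, 3, 3, 2, 3, 2, 2, 2, 4, 3, 3, 3, 4, 3, 4, 5, 5, 5, 6, 6, 7, 3, 3, 3], [2, 3, 2, 2, 3, 2, 3, 2, 3, 3, 4, 4, 5, 5, 5, 5, 5, 5, 5, 5, 5, 3, 3]), ([3, 3, 3, 2, 3, 2, 2, 2, 3, 4, 3, 4, 5, 7, 3, 3, 3], [2, 2, 3, 2, 2, 2, 2, 2, 3, 4, 3, 4, 4, 5, 5, 5, 5, 6, 6, 6, 7, 3, 3, 3]), ([2, 3, 2,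 3, 2, 2, 2, 2, 2, 3, 3, 4, 4, 4, 3, 4, 5, 5, 5, 5, 5, 5, 5, 6, 6, 3], [3, 3, 2, 2, 2, 2, 2, 4, 3, 3, 4, 3, 4, 6, 6, 7, 3, 3]), ([2, 3, 2, 3, 2, 2, 2, 2, 2, 3, 3, 4, 4, 3, 4, 5, 5, 5, 6, 7, 3, 3, 3], [3, 2, 2, 2, 2, 2, 3, 3, 3, 4, 3, 4, 4, 5, 5, 5, 5, 5, 5, 5, 3, 6, 7, 3, 3, 3]), ([3, 3], [2, 3, 3, 2, 2, 2, 2, 2, 3, 3, 4, 4, 3, 4, 5, 5, 5, 5, 5, 5, 5, 5, 5, 6, 3]), ([2, 2, 2, 3, 2, 3, 2, 2, 3, 3, 4, 3, 4, 4, 5, 5, 5, 5, 5, 5, 5, 3, 6, 7, 3, 3], [3, 3, 3, 2, 2, 2, 2, 3, 2, 3, 4, 4, 3, 4, 5, 6, 6, 7]), ([2, 3, 3, 2, 3, 2, 3, 3, 4, 3, 4, 5, 5, 5, 5, 5, 5, 7, 3], [3, 3, 3, 2, 3, 2, 2, 4, 3, 4, 3, 4, 5, 5, 3]), ([3, 3, 3,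 2, 2, 2, 2, 3, 2, 4, 3, 4, 3, 4, 5, 7, 3, 3, 3], [3, 3, 3, 2, 3, 2, 2, 2, 3, 3, 4, 3, 4, 4, 5, 5, 5, 5, 5, 5, 5, 5, 6]), ([2, 2, 3, 3, 3, 2, 3, 2, 2, 3, 3, 3, 4, 3, 4, 5, 6, 6, 7, 3], [2, 2, 2, 2, 3, 2, 3, 4, 4, 5, 5, 5, 5, 5, 5, 5, 5, 5, 3, 6, 7, 3]), ([3, 2, 2, 2, 2, 3, 2, 4, 3, 4, 3, 4, 5, 7, 3], [3, 2, 3, 2, 2, 2, 3, 3, 4, 3, 4, 4, 5, 5, 5, 5, 5, 5, 5, 5, 6]), ([2, 3, 3, 2, 3, 2, 3, 3, 4, 4, 3, 4, 5, 5, 5, 5, 5, 5, 5, 5, 6, 6, 6, 3], [3, 2, 2, 2, 2, 3, 3, 3]), ([2, 2, 3, 3, 3, 2, 3, 2, 2, 3, 3, 4, 4, 4, 3, 4, 5, 5, 5, 5, 5, 5, 5, 5, 3, 6, 7, 3, 3], [2, 2, 3, 2, 3, 4, 4, 3, 4, 6, 3, 3, 3]), ([3, 2, 2, 3, 2, 3, 2,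 4, 4, 4, 5, 5, 5, 5, 5, 5, 5, 5, 7, 3, 3], [3, 3, 3, 2, 2, 2, 2, 3, 4, 4, 5, 5, 5, 5, 5, 6, 6, 6, 7, 3]), ([3, 2, 2, 3, 2, 3, 2, 3, 4, 3, 4, 4, 5, 5, 5, 5, 7, 3, 3], [2, 3, 3, 2, 2, 3, 3, 2, 4, 4, 4, 3, 4, 5, 5, 5, 5, 3, 6, 3]), ([3, 2, 2, 3, 2, 3, 2, 4, 3, 3, 4, 4, 3, 4, 5, 6, 6, 3, 3], [2, 3, 3, 2, 2, 2, 3, 4, 3, 4, 5, 6, 6, 6, 3]), ([3, 2, 2, 2, 2, 2, 4, 3, 4, 4, 4, 5, 5, 5, 5, 5, 5, 5, 6, 3, 3, 3], [2, 2, 3, 2, 2, 3, 2, 3, 3, 3, 4, 3, 4, 4, 3, 6, 7, 3]), ([2, 2, 3, 3, 3, 2, 2, 4, 4, 3, 4, 5, 5, 5, 5, 5, 3, 6, 7, 3, 3, 3], [3, 3, 3, 2, 3, 3, 2, 4, 4, 3, 3, 4, 5, 5, 5, 6, 6, 3]), ([3, 3, 3, 2, 2, 2, 3, 2, 4, 3, 3,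 4, 4, 3, 4, 5, 5, 7, 3, 3], [2, 2, 2, 2, 3, 2, 4, 4, 3, 4, 5, 5, 5, 5, 5, 5, 5, 5, 6, 6, 7, 3, 3]), ([2, 3, 2, 3, 2, 4, 4, 3, 3, 4, 3, 6, 7, 3], [3, 2, 3, 2, 2, 2, 3, 2, 2, 3, 3, 4, 4, 3, 4, 5, 5, 5, 5, 5]), ([3, 3, 2, 2, 2, 3, 2, 2, 2, 4, 3, 4, 3, 4, 5, 5, 5, 5, 5, 5, 5, 5, 3, 6, 3], [3, 3, 3, 2, 2, 2, 2, 3, 2, 4, 4, 3, 4, 5, 5, 5, 5, 5, 6, 6, 6, 3, 3, 3]), ([2, 2, 3, 2, 3, 2, 3, 2, 3, 4, 3, 4, 4, 5, 5, 5, 5, 5, 5, 5, 3, 6, 7], [2, 2, 2, 3, 2, 2, 3, 3]), ([2, 2, 2, 2, 3, 3, 4, 5, 5, 5, 5, 5, 5, 5, 5, 5, 6, 6, 7, 3, 3, 3], [3, 3, 3, 2, 3, 2, 2, 2, 4, 3, 4, 4, 4, 5, 5, 5, 3, 6, 7]), ([3, 4, 4, 3, 4, 3, 6], [2, 2, 2,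 2, 2, 3, 3, 3]), ([2, 3, 3, 2, 2, 2, 3, 3, 4, 3, 4, 4, 5, 5, 5, 5, 5, 5, 5, 5, 5, 6, 7, 3], [3, 2, 2, 2, 2, 2, 3, 3, 4, 4, 3, 4, 5, 5, 5, 5, 6, 6, 6, 3]), ([3, 2, 3, 2, 2, 2, 2, 4, 3, 4, 3, 4, 5, 7, 3], [2, 3, 3, 2, 2, 2, 2, 2, 3, 4, 3, 4, 4, 3, 6, 7]), ([3, 3, 3, 2, 2, 2, 3, 3, 4, 3, 4, 4, 5, 5, 7, 3, 3, 3], [2, 3, 2, 2, 3, 3, 2, 4, 4, 3, 3, 4, 5, 5, 5, 3, 6, 3]), ([2, 2, 2, 2, 2, 2, 3, 4, 4, 3, 4, 5, 5, 5, 5, 5, 5, 5, 5, 6, 6, 6, 7], [3, 2, 3, 2, 3, 4, 3, 4, 5, 5, 5, 5, 6, 6]), ([3, 3, 2, 3, 2, 2, 3, 3, 4, 4, 5, 5, 5, 7], [3, 2, 3, 2, 4, 4, 5, 5, 5, 5, 5, 5, 3, 6, 7, 3, 3]), ([2, 3, 3, 3, 2, 3, 2, 3, 4, 3, 4, 5, 5,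 5, 5, 6, 6, 6, 7, 3, 3], [3, 3, 2, 3, 2, 3, 2, 4, 3, 4, 4, 4, 5, 5, 5, 5, 5, 6, 7, 3, 3, 3]), ([2, 3, 3, 3, 2, 3, 2, 2, 3, 3, 4, 3, 4, 4, 5, 5, 5, 5, 5, 5, 6, 3, 3], [2, 2, 3, 2, 2, 3, 2, 3, 2, 3, 4, 3, 3, 4, 3, 4, 5, 5, 5, 5, 5, 5, 5, 5, 3, 6, 7, 3, 3]), ([3, 3, 3, 2, 2, 2, 4, 4, 4, 5, 5, 5, 6, 7, 3], [3, 2, 3, 2, 3, 2, 3, 4, 3, 4, 4, 5, 5, 5, 6]), ([2, 3, 3, 3, 2, 3, 2, 2, 4, 3, 4, 4, 5, 5, 5, 5, 5, 5, 5, 6, 6, 6, 7, 3, 3, 3], [2, 2, 3, 2, 3, 3, 3, 2, 5, 5, 3, 6, 7, 3, 3]), ([3, 3, 2, 3, 2, 2, 3, 4, 4, 4, 3, 4, 5, 5, 5, 5, 5, 5, 6, 6, 3], [2, 3, 2, 2, 2, 3, 2, 2, 4, 4, 3, 4, 5, 6, 6, 6, 3, 3, 3]), ([3, 3, 2, 3, 3,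 2, 3, 4, 3, 3, 4, 3, 4, 5, 6, 6, 6, 7, 3, 3], [2, 2, 3, 2, 4, 6, 6, 7, 3, 3]), ([2, 3, 3, 3, 2, 3, 2, 2, 3, 4, 3, 4, 5, 5, 5, 5, 5, 5, 5, 6, 3, 3, 3], [2, 3, 2, 3, 3, 2, 2, 2, 4, 4, 4, 3, 4, 5, 5, 5, 5, 7, 3, 3]), ([2, 3, 3, 3, 2, 3, 2, 3, 4, 4, 4, 3, 4, 5, 5, 5, 5, 5, 5, 5, 7, 3], [2, 2, 2, 2, 3, 3, 2, 3, 3, 3, 4, 3, 4, 5, 6, 6, 7, 3, 3]), ([3, 2, 3, 3, 2, 3, 3, 4, 4, 4, 3, 4, 5, 5, 5, 5, 5, 5, 5, 5, 5, 7, 3], [2, 3, 2, 2, 3, 3, 2, 2, 2, 3, 3, 3, 4, 3, 4, 5, 5, 6, 6, 3]), ([2, 3, 3, 2, 3, 3, 2, 2, 2, 3, 4, 4, 3, 4, 5, 5, 5, 5, 5, 5, 5, 6, 7], [3, 2, 3, 3, 2, 2, 2, 3, 3, 3, 4, 3, 4, 4, 5, 5, 5, 5, 5, 5, 5, 7]), ([3,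 2, 2, 3, 3, 3, 2, 2, 4, 3, 3, 4, 5, 5, 5, 5, 5, 5, 3, 6, 7, 3], [2, 3, 2, 2, 3, 2, 4, 3, 3, 4, 3, 4, 5, 5, 5, 5, 5, 3, 6, 7, 3, 3, 3]), ([2, 2, 2, 2, 2, 2, 3, 3, 4, 4, 5, 5, 5, 5, 6, 6, 3, 3], [3, 3, 3, 2, 3, 2, 3, 2, 3, 3, 4, 3, 4, 5, 5, 5, 5, 5, 5, 5, 5, 6, 6, 6, 7, 3]), ([3, 2, 2, 2, 2, 2, 2, 3, 4, 4, 5, 5, 5, 5, 5, 6, 6, 7, 3, 3, 3], [3, 3, 3, 2, 3, 2, 2, 2, 3, 3]), ([3, 3, 3, 2, 2, 2, 3, 2, 4, 5, 5, 5, 5, 6, 3, 3, 3], [3, 3, 2, 2, 2, 3, 2, 2, 2, 4, 3, 4, 5, 5, 5, 5, 5, 5, 5, 5, 3, 6, 7, 3, 3, 3]), ([3, 3, 2, 3, 2, 2, 3, 3, 3, 4, 3, 4, 5, 5, 5, 5, 5, 5, 5, 5, 5, 6, 6, 6, 3, 3], [3, 2, 3, 3, 2, 2, 2]), ([3, 3, 2,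 2, 2, 3, 2, 4, 3, 3, 4, 4, 4, 5, 5, 6, 6, 3, 3, 3], [3, 3, 2, 2, 2, 2, 3, 4, 3, 3, 4, 3, 4, 5, 5, 6, 6, 7, 3]), ([2, 3, 3, 3, 2, 3, 2, 2, 3, 3, 4, 5, 5, 5, 6, 6, 7, 3], [3, 3, 2, 2, 2, 3, 2, 2, 2, 3, 4, 4, 4, 5, 5, 5, 5, 3, 6, 7, 3, 3]), ([2, 2, 3, 3, 3, 2, 2, 4, 3, 3, 3, 4, 3, 4, 5, 5, 5, 5, 5, 5, 5, 5, 6, 7, 3, 3, 3], [2, 3, 3, 3, 2, 3, 3, 2, 4, 3, 3, 4, 4, 4, 6, 6, 6, 3, 3]), ([3, 2, 3, 2, 2, 2, 2, 3, 4, 3, 3, 4, 3, 4, 5, 5, 5, 3, 6], [3, 3, 2, 2, 3, 4, 4, 4, 3, 4, 6, 6, 6, 7]), ([3, 2, 2, 3, 3, 3, 2, 2, 3, 3, 3, 4, 3, 4, 5, 5, 6, 6, 7, 3, 3, 3], [3, 3, 3, 2, 3, 3, 3]), ([3, 3, 3, 2, 2, 2, 3, 4, 3, 4, 4, 5, 5, 5,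 5, 5, 3, 6, 3, 3, 3], [2, 3, 2, 3, 2, 2, 2, 2, 2, 4, 3, 4, 3, 4, 5, 5, 3, 3]), ([3, 2, 2, 2, 2, 2, 2, 4, 3, 4, 4, 4, 3, 4, 5, 5, 5, 5, 5, 5, 5, 5, 5, 6, 6, 6], [3, 2, 3, 2, 3, 3, 2, 3, 3, 3]), ([3, 3, 3, 2, 2, 2, 2, 3, 2, 5, 5, 5, 5, 5, 5, 5, 6, 6], [2, 2, 3, 2, 3, 3, 2, 2, 2, 4, 3, 3, 4, 4, 4, 6, 6, 6, 3, 3]), ([3, 3, 3, 2, 2, 2, 2, 3, 2, 4, 3, 3, 4, 4, 3, 4, 5, 5, 5, 5, 5, 5, 5, 5, 6, 6, 6, 7, 3, 3, 3], [2, 3, 3, 3, 2, 2, 3, 3, 4, 3, 4, 4, 5, 5, 5, 5, 5, 5, 5, 5, 6, 6, 6]), ([3, 3, 3, 2, 2, 2, 2, 3, 2, 4, 3, 3, 4, 3, 4, 6, 6, 7, 3, 3], [2, 2, 2, 2, 2, 2, 3]), ([2, 3, 2, 3, 2, 3, 2, 3, 3, 4, 3, 4, 4, 5, 5, 5, 5, 5,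 6, 6, 6, 3, 3, 3], [2, 2, 2, 3, 3, 2, 3, 4, 4, 3, 4, 5, 5, 5, 5, 5, 7, 3, 3]), ([2, 2, 2, 2, 3, 3, 4, 4, 3, 4, 5, 5, 6, 6, 6], [3, 2, 3, 3, 3, 2, 3, 2, 4, 4, 4, 3, 4, 5, 5, 5, 5, 5, 5, 5, 5, 6, 6, 6, 3, 3, 3]), ([2, 2, 3, 2, 3, 3, 3, 2, 3, 3, 4, 4, 4, 3, 4, 5, 5, 5, 3], [2, 2, 2, 3, 2, 3, 2, 2, 4, 3, 4, 4, 4, 5, 5, 5, 5, 5, 5, 5, 3, 6, 7, 3]), ([3, 3, 2, 3, 3, 3, 2, 4, 6, 6, 7], [2, 2, 3, 3, 2, 2, 2, 4, 4, 4, 3, 4, 5, 5, 5, 5, 7, 3, 3]), ([4, 3, 4, 3, 4, 5, 5, 5, 5, 6, 6, 6, 3, 3, 3], [4, 3, 4, 3, 4, 5, 6, 6, 6, 3, 3]), ([2, 2, 2, 2, 3, 3, 4, 4, 4, 3, 4, 5, 5, 5, 5, 6, 3, 3], [3, 3, 2, 2, 2, 2, 2, 4, 3, 4, 4, 4, 5,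 5, 5, 5, 6, 7]), ([2, 2, 3, 2, 3, 3, 3, 2, 3, 4, 3, 4, 5, 5, 5, 5, 5, 5, 5, 3, 6], [2, 2, 3, 2, 2, 2, 3, 4, 3, 4, 5, 5, 5, 5, 5, 5, 5]), ([2, 2, 2, 2, 3, 2, 3, 4, 3, 4, 4, 5, 5, 5, 5, 5, 5, 5, 5, 5, 6, 6, 7], [2, 3, 3, 3, 2, 2, 2, 3, 2, 4, 3, 4, 3, 4, 5, 5, 5, 5, 5, 3, 3, 3]), ([2, 3, 3, 4, 5, 5, 5, 5, 5, 5, 6, 6, 3, 3], [2, 2, 3, 3, 3, 2, 3, 2, 2, 3, 4, 3, 4, 4, 5, 5, 6, 6, 6, 3]), ([2, 2, 3, 3, 3, 2, 3, 2, 2, 3, 3, 4, 4, 4, 3, 4, 6, 6, 7, 3, 3], [3, 2, 2, 2, 3, 2, 2, 3, 4, 3, 4, 4, 6, 6, 6, 7])]]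

/-- part of a table -/
def conjs3 : List (List (List ℕ × List ℕ)) :=
  [[([5, 5, 5, 5, 5, 5, 3, 3], [2, 2, 3, 3, 3, 2, 2, 3, 3, 4, 3, 4, 4, 5, 5, 5, 5, 5, 5, 5, 5, 5, 6, 6, 7, 3, 3, 3]), ([2, 2, 3, 2, 2, 3, 2, 4, 3, 4, 4, 4, 3, 4, 5, 7, 3], [3, 2, 2, 2, 2, 2, 3]), ([2, 2, 3, 2, 2, 3, 2, 3, 3, 4, 4, 3, 4, 5, 5, 5, 5, 5, 5, 5, 3, 6, 7], [3, 3, 2, 2, 2, 3, 2, 4, 4, 5, 5, 5, 5, 5, 5, 3, 6, 7, 3, 3]), ([3, 3, 2, 2, 2, 4, 3, 3, 4, 4, 3, 4, 5, 5, 5, 5, 5, 5, 5, 5, 3], [2, 3, 2, 3, 2, 3, 3, 2, 3, 3]), ([3, 2, 3, 3, 3, 2, 2, 3, 4, 4, 5, 5, 5, 5, 5, 5, 5, 6, 6, 7], [3, 2, 2, 2, 3, 2, 3, 4, 3, 4, 4, 5, 5, 3, 6, 3, 3]), ([2, 3,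 2, 3, 3, 2, 3, 4, 3, 4, 5, 5, 5, 5, 5, 5, 6, 7, 3], [2, 2, 2, 3, 2, 2, 4, 3, 4, 4, 5, 5, 5, 5, 5, 5, 5, 5, 5, 6, 6, 7, 3]), ([2, 2, 2, 2, 4, 3, 3, 4, 5, 5, 3, 6, 3, 3], [2, 3, 3, 3, 2, 3, 2, 3, 4, 4, 5, 5, 5, 5, 5, 5, 5, 5, 5, 6, 6, 7]), ([3, 3, 4, 3, 4, 5, 5, 6, 7, 3, 3, 3], [2, 3, 2, 2, 2, 4, 3, 4, 4, 4, 5, 5, 5, 3, 6, 7, 3, 3, 3]), ([2, 3, 3, 2, 2, 3, 3, 2, 3, 3, 4, 4, 4, 3, 4, 5, 5, 5, 5, 5, 5, 5, 5, 6, 6, 3, 3, 3], [2, 3, 3, 3, 2, 3, 2, 2, 3, 4, 3, 4, 4, 5, 5, 5, 5, 6, 6, 6, 3, 3, 3]), ([5, 5, 5, 5, 6, 6], [2, 2, 2, 3, 2, 4, 6, 6, 7, 3, 3, 3]), ([2, 2, 3, 3, 3, 2, 3, 2, 2, 3, 3, 4, 4, 4, 3, 4, 5, 5, 5, 5, 5, 5,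 3], [2, 3, 2, 2, 2, 3, 4, 3, 3, 4, 3, 4, 5, 5, 5, 5, 5, 5, 3, 3]), ([3, 2, 3, 2, 3, 2, 4, 4, 3, 3, 4, 3, 6, 7], [2, 2, 3, 2, 2, 3, 2, 3, 2, 4, 4, 4, 3, 4, 5, 3, 6, 7, 3, 3]), ([3, 3, 3, 2, 2, 2, 2, 3, 2, 3, 4, 5, 5, 5, 5, 6, 3, 3], [3, 2, 3, 2, 2, 2, 3, 4, 4, 5, 5, 5, 5, 5, 5, 5, 5, 5, 6, 6, 6, 7, 3, 3, 3]), ([2, 2, 3, 3, 3, 2, 3, 2, 2, 3, 3, 4, 5, 5, 5, 5], [3, 2, 2, 3, 2, 4, 3, 3, 4, 3, 4, 5, 5, 5, 5, 5, 3, 6, 7]), ([2, 3, 3, 2, 2, 3, 3, 2, 3, 3, 3, 4, 3, 4, 4, 5, 5, 5, 5, 5, 5, 5, 5, 5], [3, 3, 2, 2, 2, 3, 2, 2, 2, 4, 3, 3, 3, 4, 3, 4, 6, 6, 6]), ([3, 2, 2, 2, 3, 2, 2, 2, 4, 4, 3, 3, 4, 5, 5, 5, 7, 3, 3, 3], [3,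 2, 3, 2, 2, 2, 3, 2, 2, 4, 3, 3, 4, 4, 4, 7]), ([5, 5, 5, 5, 3, 6, 7, 3, 3, 3], [2, 3, 3, 2, 2, 3, 3, 2, 4, 3, 4, 4, 5, 5, 7, 3, 3]), ([2, 3, 3, 4, 5, 5, 5, 5, 5, 5, 5, 5, 6, 6, 7, 3], [2, 3, 2, 2, 3, 2, 4, 4, 4, 3, 4, 5, 5, 5, 5, 5, 5, 5, 5, 5, 3, 3]), ([2, 3, 3, 2, 2, 3, 3, 2, 3, 3, 4, 4, 4, 3, 4, 5, 5, 5, 5, 5, 5, 5, 5, 6, 6, 6, 7, 3], [3, 2, 2, 2, 3, 2, 2, 3, 3]), ([3, 3, 2, 2, 2, 2, 3, 2, 3, 3, 3, 4, 3, 4, 4, 5, 5, 5, 5, 5, 5, 5, 5, 5, 6, 6, 7], [3, 3, 2, 2, 2, 3, 3, 2, 3, 3, 3, 4, 3, 4, 4, 5, 5, 5, 5, 5, 5, 5, 5, 5, 6, 6]), ([3, 2, 2, 2, 3, 2, 2, 2, 3, 3, 3, 4, 3, 4, 4, 5, 5, 5, 5, 5, 5, 5, 5, 6, 6, 7, 3], [3,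 3, 2, 2, 3, 3, 2, 3]), ([2, 4, 3, 4, 3, 4, 5, 5, 5, 5, 6, 6, 6, 7, 3, 3], [2, 2, 2, 3, 2, 3, 2, 2, 3, 4, 3, 3, 4, 3, 4, 5, 5, 5, 5, 5, 5, 5, 5, 5, 6, 6, 6]), ([2, 2, 2, 3, 2, 2, 2, 3, 3, 4, 5, 7, 3, 3], [2, 3, 2, 3, 2, 4, 4, 3, 3, 4, 5, 5, 5, 5, 5, 5, 5, 3]), ([2, 3, 3, 2, 2, 3, 3, 2, 3, 4, 5, 5, 5, 5, 5, 5, 5, 5, 5, 3, 6, 7, 3, 3], [3, 2, 3, 2, 2, 2, 3, 3, 4, 3, 4, 4, 5, 5, 5, 5, 5, 5, 5, 7, 3, 3]), ([3, 2, 3, 2, 2, 3, 3, 2, 4, 3, 3, 3, 4, 3, 4, 5, 5, 5, 5, 5, 6, 6, 3, 3], [3, 3, 2, 2, 3, 3, 2, 2, 2, 4, 3, 4, 4, 5, 5, 3]), ([3, 3, 2, 3, 3, 2, 5, 5, 5, 5, 5, 5, 5, 5, 5, 3, 6, 7, 3], [2, 3, 2, 2, 2, 2, 3, 3, 4, 3, 4,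 4, 5, 5, 5, 5, 5, 5, 5, 5, 5, 6, 6, 7, 3]), ([3, 2, 2, 2, 3, 3, 3, 2, 4, 3, 3, 4, 5, 5, 5, 5, 5, 5, 5, 6, 6, 6, 7, 3, 3], [2, 3, 2, 2, 3, 4, 3, 4, 4, 5, 5, 5, 5, 6, 6, 6, 3, 3]), ([2, 3, 3, 3, 2, 2, 2, 3, 2, 4, 3, 4, 5, 5, 5, 5, 5, 5, 5, 5, 6, 6, 7], [2, 3, 3, 2, 2, 2, 2, 2, 3, 3, 4, 3, 4, 5, 5, 5, 5, 5, 5, 5, 5, 5, 6, 6]), ([3, 2, 3, 3, 3, 2, 2, 4, 4, 3, 4, 5, 3, 6, 3], [3, 3, 2, 2, 2, 3, 2, 2, 2, 4, 5, 5, 5, 5, 5, 5, 6, 6, 6, 7, 3]), ([3, 3, 2, 2, 3, 3, 2, 3, 3, 3, 4, 3, 4, 4, 5, 5, 5, 5, 5, 5, 5, 5, 5, 6, 7], [3, 2, 3, 2, 2, 2, 3, 2, 2, 3, 4, 4, 5, 5, 5, 5, 3, 3]), ([3, 2, 2, 4, 3, 4, 4, 5, 5, 7, 3], [3, 2, 2, 3,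 2, 2, 2, 2, 4, 3, 4, 5, 5, 5, 6, 6, 6, 3]), ([2, 2, 3, 2, 2, 2, 2, 2, 2, 3, 3, 3, 4, 5, 5, 6, 6, 6, 7, 3, 3], [2, 3, 3, 2, 3, 2, 3, 3, 3]), ([3, 2, 3, 3, 3, 2, 3, 2, 3, 3, 3, 4, 5, 6, 6, 6, 3, 3, 3], [3, 3, 2, 3, 2, 2, 3, 3, 4, 4, 3, 4, 5, 5, 5, 6, 6, 7, 3, 3]), ([3, 2, 3, 2, 2, 3, 4, 3, 3, 4, 3, 4, 5, 5, 3, 6, 7, 3, 3, 3], [2, 3, 2, 3, 2, 4, 3, 4, 4, 4, 5, 5, 5, 5, 5, 5, 5, 5, 5, 3, 6]), ([3, 2, 3, 3, 3, 2, 3, 2, 4, 4, 4, 3, 4, 5, 5, 5, 5, 5, 5, 5, 5, 6, 7, 3, 3], [3, 2, 2, 2, 2, 2, 2, 3, 4, 4, 3, 3, 4, 5, 5, 5, 5, 5, 5, 6, 6, 3, 3, 3]), ([2, 2, 3, 2, 3, 2, 3, 3, 3, 4, 3, 4, 7, 3], [3, 2, 3, 2, 2, 2, 2, 2, 2, 4, 3,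 3, 4, 3, 4, 5, 5, 5, 3, 6, 7]), ([3, 3, 2, 3, 2, 4, 3, 4, 3, 4, 5, 5, 5, 5, 6, 7, 3], [3, 2, 3, 2, 2, 2, 2, 2, 2, 3, 3, 4, 3, 4, 5, 5, 5, 5, 5, 5, 5, 7, 3, 3, 3]), ([3, 3, 2, 2, 2, 2, 4, 3, 4, 4, 4, 5, 5, 5, 5, 5, 3, 3, 3], [3, 3, 3, 2, 2, 2, 2, 3, 3, 4, 3, 4, 4, 5, 5, 5, 5, 6, 6, 6, 7, 3, 3, 3]), ([2, 3, 3, 2, 2, 3, 2, 3, 3, 4, 4, 4, 5, 5, 5, 5, 6, 6, 3, 3, 3], [3, 3, 2, 2, 3, 3, 2, 2, 2, 4, 3, 4, 3, 4, 5, 5, 5, 5, 5, 5, 6, 6, 6]), ([3, 3, 2, 2, 2, 3, 2, 4, 4, 5, 5, 5, 5, 5, 5, 5, 3, 6, 7, 3, 3], [3, 3, 2, 2, 2, 2, 4, 3, 3, 4, 5, 5, 5, 6, 7, 3]), ([2, 3, 3, 3, 2, 2, 2, 3, 2, 4, 3, 3, 4, 4, 3, 4, 5, 5, 5, 5, 6, 6, 6],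 [3, 2, 2, 2, 3, 2, 2, 2, 3, 4, 4, 4, 5, 6, 6, 6]), ([2, 3, 2, 2, 3, 4, 3, 3, 4, 3, 4, 5, 5, 3, 6, 7], [3, 2, 3, 3, 2, 2, 3, 2, 4, 4, 3, 4, 5, 5, 5, 5, 5, 5, 6, 7, 3, 3, 3]), ([2, 3, 2, 2, 4, 4, 4, 5, 6, 6, 7], [3, 2, 2, 3, 3, 3, 2, 2, 3, 3, 4, 4, 4, 5, 5, 5, 5, 5, 5, 5, 5, 5, 6, 7, 3]), ([3, 3, 2, 2, 3, 3, 2, 2, 2, 3, 3, 4, 3, 4, 5, 5, 5, 5, 6], [2, 3, 3, 2, 2, 2, 4, 3, 3, 4, 5, 5, 5, 5, 5, 5, 5, 5, 7]), ([3, 2, 3, 2, 2, 2, 2, 2, 3, 4, 4, 3, 4, 5, 5, 5, 5, 5, 5, 5, 5, 5, 6, 6, 6, 7], [2, 2, 3, 3, 2, 4, 3, 4, 4, 3, 3, 3]), ([3, 3, 2, 3, 2, 3, 3, 4, 4, 4, 3, 4, 5, 5, 5, 5, 5, 5, 5, 5, 5, 6, 6, 6, 7], [2, 2, 3, 2, 2, 4,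 3, 4, 4, 4, 3, 4, 5, 5, 5, 5, 7, 3, 3]), ([3, 2, 2, 2, 2, 2, 2, 3, 3, 4, 3, 4, 5, 5, 5, 5, 5, 5, 5, 6, 6, 6, 7], [2, 2, 3, 2, 2, 3, 3, 4, 4, 4, 3, 4, 5, 5, 5, 5, 5, 5, 5, 5, 3, 6, 7, 3, 3]), ([3, 3, 3, 2, 3, 2, 2, 2, 4, 6, 7, 3, 3], [2, 3, 3, 2, 3, 3, 2, 2, 2, 4, 3, 4, 4, 4, 3, 4, 5, 5, 5, 3]), ([2, 2, 2, 3, 3, 2, 3, 4, 4, 3, 4, 5, 5, 5, 5, 6, 6, 6, 7, 3, 3], [2, 3, 3, 3, 2, 2, 4, 4, 5, 5, 5, 5, 6, 3]), ([2, 5, 5, 5, 5, 5, 6, 6, 6, 7, 3, 3], [3, 2, 2, 2, 2, 3, 2, 4, 4, 3, 3, 4, 3, 3]), ([4, 3, 4, 4, 5, 5, 5, 5, 5, 6, 3, 3], [3, 2, 2, 2, 3, 3, 2, 4, 3, 4, 4, 5, 5, 5, 5, 5, 5, 6, 3, 3]), ([2, 2, 2, 3, 3, 2, 3, 3, 4, 3,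 4, 5, 5, 5, 5, 5, 6, 3, 3], [2, 2, 3, 2, 3, 2, 3, 2, 3, 3, 3, 4, 3, 4, 5, 5, 3, 6, 7]), ([2, 2, 2, 2, 2, 4, 3, 4, 4, 4, 5, 5, 5, 5, 5, 5, 6, 7, 3], [2, 2, 2, 2, 2, 3, 2, 3, 4, 3, 4, 5, 5, 5, 5, 5, 5, 5, 5, 5, 6, 6, 6, 7, 3, 3]), ([3, 2, 3, 2, 2, 2, 4, 5, 5, 5, 5, 5, 5, 5, 5], [3, 2, 3, 2, 2, 3, 3, 2, 4, 4, 5, 5, 5, 5, 5, 5, 5, 5, 5, 3, 6, 7, 3, 3, 3]), ([3, 2, 3, 2, 2, 2, 4, 5, 5, 5, 5, 5, 5, 5, 5, 6, 6, 7, 3], [2, 3, 2, 2, 2, 2, 2, 4, 3, 4, 4, 4, 3, 4, 5, 5, 5, 5, 5, 5, 5, 5, 3]), ([3, 2, 3, 2, 2, 2, 4, 6, 7], [2, 2, 3, 2, 3, 3, 4, 4, 4, 5, 6, 7, 3, 3, 3]), ([3, 2, 2, 3, 2, 3, 2, 4, 4, 5, 5, 5, 5, 5, 5, 3], [2, 2,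 3, 2, 2, 3, 2, 4, 3, 3, 4, 3, 4, 5, 5, 5, 5, 5, 3, 6, 7, 3, 3, 3]), ([2, 2, 2, 3, 3, 2, 3, 3, 4, 3, 4, 5, 5, 5, 5, 5, 5, 5, 5, 5, 6, 6, 6, 3, 3], [3, 2, 3, 2, 3, 4, 4, 3, 3, 4, 5, 5, 5, 5, 5, 5, 6, 6, 3, 3, 3]), ([2, 2, 2, 3, 3, 2, 3, 3, 4, 3, 4, 5, 5, 5, 5, 5, 5, 5, 5, 5, 3], [2, 2, 2, 2, 2, 2]), ([2, 3, 3, 3, 2, 2, 3, 4, 4, 3, 3, 4, 5, 6, 6, 6, 3], [2, 3, 3, 3, 2, 3, 3, 2, 3, 3, 4, 3, 4, 4, 5, 5, 5, 5, 5, 5, 6, 6, 6]), ([3, 3, 3, 4, 3, 4, 5, 5, 5, 6, 7], [3, 2, 2, 2, 3, 2, 3, 3, 4, 4, 5, 5, 5, 5, 5, 5, 5, 5, 6, 6, 6, 7, 3, 3]), ([2, 2, 2, 2, 2, 2, 4, 4, 5, 5, 5, 6, 6, 6, 3, 3, 3], [2, 3, 3, 3, 2, 3, 2, 4, 4, 5, 5,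 5, 5, 5, 5, 3, 6, 7, 3]), ([3, 3, 2, 2, 3, 2, 4, 4, 3, 4, 5, 5, 5, 5, 5, 3, 6, 3, 3], [3, 2, 2, 2, 3, 2, 2, 3, 4, 3, 4, 6, 6]), ([3, 3, 2, 2, 2, 3, 2, 3, 4, 4, 3, 3, 4, 5, 5, 5, 5, 5, 5, 5, 5, 3, 6, 7, 3, 3, 3], [3, 2, 3, 3, 2, 4, 3, 3, 4, 4, 3, 4, 5, 5, 5, 5, 3, 6, 7, 3])],
    [([2, 3, 2, 3, 3, 3, 2, 3, 4, 4, 3, 4, 5, 5, 5, 5, 5, 5, 5, 5, 3, 3], [2, 2, 2, 3, 3, 3, 2, 4, 3, 4, 4, 4, 5, 5, 3, 6, 7, 3]), ([2, 2, 3, 3, 2, 2, 2, 3, 3, 4, 3, 4, 4, 5, 5, 5, 7, 3, 3], [2, 3, 3, 2, 2, 3, 2, 4, 3, 3, 4, 3, 4, 5, 5, 5, 5, 5, 3, 6, 7, 3, 3, 3]), ([2, 3, 3, 2, 3, 2, 2, 2, 4, 4, 4, 3, 4, 5, 6, 6, 7, 3, 3, 3], [2, 3, 3, 3, 2, 3,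 2, 4, 5, 5, 5, 5, 5, 5, 6, 6, 6, 7, 3]), ([2, 2, 2, 2, 3, 3, 2, 3, 3, 4, 4, 3, 4, 5, 5, 5, 5, 5, 5, 5, 5, 6, 7, 3], [3, 3, 2, 3, 2, 2, 4, 3, 3, 4, 4, 3, 4, 5, 5, 5, 5, 6, 6]), ([3, 2, 2, 2, 3, 3, 2, 4, 3, 4, 4, 4, 6, 6, 6, 7, 3, 3], [3, 2, 3, 3, 2, 2, 2, 4, 3, 4, 3, 6, 7, 3, 3, 3]), ([3, 3, 2, 2, 2, 4, 4, 4, 5, 5, 5, 6, 7, 3, 3], [2, 3, 2, 3, 2, 3, 4, 3, 4, 4, 5, 5, 5, 6]), ([2, 3, 2, 3, 2, 2, 4, 4, 4, 3, 4, 5, 5, 5, 5, 5, 5, 5, 5, 3, 6, 7, 3, 3], [3, 2, 2, 3, 2, 2, 3, 4, 3, 4, 6, 6]), ([2, 3, 2, 2, 2, 3, 2, 2, 3, 4, 3, 4, 4, 5, 5, 5, 5, 5, 5, 5], [3, 3, 2, 3, 2, 2, 4, 4, 5, 5, 5, 5, 6, 6, 3]), ([3, 2, 2, 2, 3, 3, 3,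 2, 3, 4, 4, 3, 4, 5, 5, 5, 5, 5, 5, 5, 5, 3, 6, 3, 3], [3, 3, 3, 2, 2, 2, 2]), ([4, 4, 3, 3, 4, 5, 5, 5, 6, 6, 7, 3, 3, 3], [3, 3, 2, 2, 2, 2, 3, 4, 3, 3, 4, 3, 4, 5, 5, 6, 6, 7, 3, 3, 3]), ([3, 2, 2, 3, 3, 2, 3, 3, 3, 4, 3, 4, 4, 5, 5, 5, 5, 5, 5, 3, 3, 3], [2, 2, 2, 3, 3, 3, 2, 3, 4, 3, 4, 5, 5, 5, 7, 3, 3, 3]), ([2, 2, 3, 3, 3, 2, 3, 4, 5, 5, 5, 5, 5, 6, 3, 3, 3], [2, 3, 2, 3, 2, 2, 2, 2, 2, 4, 4, 3, 3, 4, 5, 5, 5, 5, 5, 5, 3, 3, 3]), ([2, 3, 2, 3, 2, 3, 3, 2, 4, 3, 3, 4, 3, 4, 5, 6, 6, 7], [2, 3, 3, 3, 2, 2, 3, 3, 4, 3, 4, 4, 5, 5, 3]), ([2, 3, 2, 2, 2, 2, 4, 3, 3, 4, 4, 4, 5, 5, 5, 6, 6, 7, 3, 3], [3, 2, 2, 2,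 4, 3, 3, 4, 4, 3, 4, 5, 5, 3, 6, 3]), ([3, 3, 2, 3, 2, 3, 2, 3, 3, 3, 4, 3, 4, 4, 5, 5, 5, 5, 5, 5, 5, 5, 6, 7, 3, 3], [2, 2, 3, 2, 2, 2, 2, 2, 3, 3]), ([3, 2, 3, 3, 2, 3, 4, 4, 3, 3, 4, 5, 5, 6, 6, 7, 3, 3, 3], [2, 2, 3, 3, 4, 3, 4, 5, 5, 5, 5, 5, 5, 3, 6, 3, 3]), ([2, 3, 2, 3, 3, 3, 2, 3, 3, 3, 4, 3, 4, 4, 5, 5, 5, 6, 6, 6, 7, 3, 3], [3, 3, 2, 2, 2, 3, 3, 2, 3, 3, 4, 4, 5, 5, 5, 5, 5, 5, 5, 5, 6, 6, 7, 3, 3]), ([2, 3, 2, 2, 2, 2, 2, 3, 3, 4, 5, 5, 5, 5, 5, 6, 6, 7, 3, 3], [3, 2, 3, 3, 2, 2, 2, 5, 5, 6, 6]), ([3, 2, 2, 3, 3, 3, 2, 2, 4, 4, 3, 4, 5, 5, 5, 5, 5, 5, 5, 5, 5, 3, 6, 7], [2, 3, 3, 2, 2, 3, 2, 3, 3]), ([2,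 3, 3, 3, 2, 3, 3, 3, 4, 3, 4, 5, 5, 5, 5, 3, 3, 3], [2, 3, 3, 2, 3, 2, 2, 2, 3, 3, 3, 4, 3, 4, 5, 5, 5, 5, 5, 5, 5, 6, 7, 3, 3, 3]), ([3, 3, 3, 2, 2, 2, 2, 3, 2, 3, 4, 3, 4, 4, 5, 5, 5, 5, 5, 5, 5, 5, 5, 6, 6, 7, 3], [2, 2, 3, 2, 3, 3, 2, 2, 2, 3, 3, 4, 3, 4, 4, 5, 5, 5, 5, 5, 5, 5, 5, 6, 6, 7]), ([3, 3, 3, 2, 2, 2, 2, 3, 2, 3, 3, 4, 4, 3, 4, 5, 5, 5, 5, 5, 5, 5, 5, 6, 6, 3], [2, 2, 3, 2, 2, 2, 4, 3, 4, 4, 4, 5, 5, 5, 3, 6, 7]), ([3, 4, 4, 5, 5, 6, 6, 3], [3, 2, 3, 2, 2, 2, 3, 2, 2, 4, 4, 3, 4, 5, 6, 6, 6, 3, 3]), ([3, 2, 2, 3, 2, 4, 4, 4, 5, 5, 5, 5, 5, 5, 5, 6, 7], [2, 3, 3, 3, 2, 3, 2, 3]), ([3, 2, 2, 3, 2, 2, 2,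 2, 4, 4, 4, 3, 4, 5, 5, 5, 5, 5, 5, 5, 5, 3], [3, 2, 2, 3, 3, 3, 2, 2, 4, 3, 4, 5, 6, 6, 3]), ([3, 3, 2, 2, 2, 3, 2, 2, 2, 3, 3, 4, 5, 7], [3, 3, 3, 2, 3, 2, 2, 2, 3, 4, 4, 3, 3, 4, 5, 5, 6, 6, 6, 3, 3]), ([3, 3, 3, 2, 2, 2, 3, 3, 4, 4, 4, 5, 5, 5, 5, 5, 5, 5, 5, 5, 3], [3, 2, 2, 2, 3, 2, 3, 3, 4, 3, 4, 5, 5, 5, 5, 5, 7]), ([3, 2, 3, 2, 2, 2, 2, 4, 3, 4, 4, 4, 5, 3, 6, 3, 3, 3], [2, 2, 3, 2, 4, 4, 4, 5, 5, 5, 5, 5, 5, 5, 3, 6, 7]), ([2, 3, 2, 3, 2, 3, 2, 4, 4, 5, 5, 3, 3, 3], [2, 2, 2, 3, 2, 3, 4, 4, 3, 4, 6, 3, 3, 3]), ([2, 2, 3, 2, 3, 3, 3, 2, 4, 3, 3, 3, 4, 3, 4, 5, 5, 5, 5, 5, 5, 5, 5, 5, 6, 6, 6, 3], [3, 3, 2,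 3, 3, 2, 2, 2, 3, 4, 4, 3, 4, 5, 6, 6, 6, 7, 3]), ([2, 3, 3, 2, 3, 2, 3, 4, 4, 3, 4, 5, 5, 5, 5, 5, 5, 5, 3], [3, 2, 2, 3, 3, 2, 4, 3, 3, 4, 4, 3, 4, 6, 7]), ([3, 2, 2, 2, 2, 3, 2, 4, 3, 3, 4, 4, 3, 4, 5, 5, 5, 5, 5, 5, 5, 5, 6, 6, 6, 7, 3], [3, 3, 3, 2, 3, 2, 2, 2, 4, 3, 4, 4, 4, 5, 5, 5, 3, 6, 7, 3]), ([3, 2, 2, 3, 3, 2, 2, 2, 4, 3, 4, 3, 4, 5, 5, 5, 5, 5, 5, 6, 7, 3, 3, 3], [3, 2, 2, 2, 2, 3, 2, 3, 3, 3]), ([2, 3, 3, 2, 3, 2, 3, 4, 4, 3, 4, 5, 5, 5, 5, 5, 5, 5, 6, 6, 6, 3, 3], [3, 3, 3, 2, 2, 2, 2, 3, 4, 6, 6, 6, 3, 3, 3]), ([2, 2, 3, 2, 3, 3, 3, 2, 4, 3, 3, 3, 4, 3, 4, 5, 5, 5, 5, 5, 5, 5, 5, 5, 6, 6, 3, 3], [2,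 3, 3, 3, 2, 3, 2, 2, 4, 3, 3, 4, 4, 3, 4, 5, 5, 5, 5, 6, 6, 3]), ([4, 3, 3, 4, 3, 4, 5, 5, 5, 6, 6, 7, 3, 3], [2, 2, 3, 2, 3, 3, 3, 2, 3, 4, 4, 4, 3, 4, 6, 3, 3, 3]), ([2, 3, 2, 2, 2, 2, 4, 3, 3, 4, 3, 4, 5, 5, 5, 5, 5, 5, 6, 6, 6, 3, 3, 3], [2, 2, 3, 2, 2, 2, 2, 3, 3, 3, 4, 5, 5, 5, 5, 5, 5, 5, 5, 5, 3, 6, 3, 3]), ([2, 3, 2, 2, 2, 4, 3, 4, 5, 5, 5, 5, 5, 5, 6, 6, 3, 3], [3, 3, 2, 2, 2, 3, 2, 4, 6, 6, 7, 3, 3]), ([3, 3, 2, 2, 2, 2, 3, 4, 5, 5, 5, 5, 5, 3, 6, 7], [2, 2, 2, 2, 3, 3, 4, 3, 4, 4, 5, 5, 5, 5, 5, 5, 5, 5, 5, 6, 6, 7, 3, 3, 3]), ([2, 3, 2, 2, 3, 2, 3, 4, 3, 4, 4, 5, 5, 6, 7, 3, 3], [3, 2, 2, 3, 2, 3, 4, 4,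 5, 5, 3, 6, 3]), ([2, 3, 3, 2, 2, 3, 2, 3, 3, 4, 4, 4, 3, 4, 5, 5, 5, 5, 5, 5, 5, 5, 5, 3, 6], [3, 2, 2, 3, 2, 2, 4, 3, 4, 5, 6, 6, 3]), ([3, 3, 2, 2, 2, 2, 3, 3, 3, 4, 3, 4, 4, 5, 5, 5, 6, 7, 3, 3], [3, 2, 4, 3, 3, 4, 4, 4, 5, 5, 5, 5, 5, 7, 3, 3]), ([2, 3, 3, 2, 2, 3, 2, 3, 3, 4, 4, 4, 3, 4, 5, 6, 6, 3, 3], [3, 3, 2, 2, 2, 3, 2, 4, 4, 3, 3, 4, 3]), ([2, 2, 2, 3, 2, 2, 2, 4, 4, 5, 5, 5, 5, 3], [2, 2, 2, 4, 3, 4, 4, 4, 5, 5, 5, 5, 5, 6, 6, 6, 7, 3]), ([2, 2, 2, 3, 2, 2, 2, 3, 4, 4, 4, 3, 4, 5, 5, 5, 5, 5, 5, 5, 6, 6, 6], [2, 3, 3, 2, 2, 2, 2, 2, 3, 4, 4, 5, 5, 5, 5, 5, 5, 5, 6, 6, 6, 7, 3]), ([3, 4, 4, 3, 3, 4, 5, 7],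 [2, 2, 2, 3, 2, 3, 2, 2, 3, 4, 3, 4, 4, 5, 5, 5, 5, 6, 6, 6, 3, 3, 3]), ([2, 2, 2, 3, 2, 3, 2, 2, 3, 4, 3, 3, 4, 3, 4, 5, 5, 6, 6, 7, 3, 3, 3], [3, 2, 2, 2, 3, 2, 2, 2, 3, 4, 4, 4, 5, 5, 5, 5, 3, 6, 7, 3]), ([3, 2, 2, 3, 2, 2, 2, 2, 3, 3, 3, 4, 3, 4, 5, 5, 5, 5, 5, 5, 6, 6], [3, 3, 2, 2, 2, 2, 3, 3, 4, 3, 4, 4, 5, 5, 5, 5, 5, 5, 5, 5, 5, 6, 6, 7, 3, 3]), ([2, 3, 2, 3, 2, 4, 3, 4, 4, 5, 5, 5, 5, 6, 6, 6, 7, 3, 3, 3], [2, 3, 2, 2, 2, 3, 4, 4, 3, 4, 5, 6, 6, 6, 7, 3, 3]), ([3, 3, 2, 2, 4, 5, 5, 5, 5, 5, 5, 5, 5, 3, 6], [3, 2, 2, 3, 3, 2, 4, 3, 3, 4, 4, 3, 4, 6, 7, 3]), ([2, 2, 3, 2, 2, 2, 3, 3, 4, 4, 4, 3, 4, 5, 5, 5,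 5, 5, 6, 3, 3, 3], [3, 2, 3, 2, 4, 3, 3, 4, 4, 4, 5, 5, 5, 5, 5, 7, 3, 3]), ([2, 2, 3, 2, 3, 2, 2, 3, 3, 3, 4, 5, 5, 5, 5, 5, 6, 6, 6, 7, 3], [2, 3, 3, 3, 2, 2, 3, 3, 4, 4, 4, 5, 5, 5, 5, 5, 5, 5, 5, 5, 3, 6]), ([3, 4, 3, 4, 4, 5, 5, 5, 5, 5, 5, 5, 6, 6, 7, 3], [2, 2, 3, 2, 3, 2, 3, 2, 3]), ([2, 2, 3, 3, 3, 2, 2, 3, 4, 3, 4, 4, 5, 5, 5, 5, 5, 5, 3, 6, 3, 3, 3], [3, 3, 3, 2, 2, 4, 3, 3, 3, 4, 3, 4, 5, 5, 5, 5, 5, 7]), ([3, 2, 3, 3, 3, 2, 2, 3, 3, 4, 5, 5, 5, 5, 5, 6, 6, 6, 7, 3, 3], [3, 2, 3, 2, 2, 2, 3, 2, 2, 4, 4, 3, 4, 5, 6, 6, 6]), ([3, 3, 3, 2, 3, 2, 2, 4, 3, 4, 4, 4, 3, 4, 5, 5, 5, 3, 3], [2, 3, 3, 2, 3, 2, 3,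 4, 4, 5, 5, 5, 5, 5, 5, 5, 5, 5, 6, 3, 3, 3]), ([3, 3, 3, 2, 3, 2, 2, 3, 3, 4, 3, 4, 5, 5, 5, 5, 5, 5, 5, 3], [2, 3, 3, 2, 2, 2, 2, 2, 3, 3, 4, 3, 4, 5, 5, 5, 5, 5, 5, 5, 5, 5, 6, 6, 3, 3]), ([2, 3, 2, 2, 3, 3, 4, 4, 3, 4, 5, 5, 5, 5, 5, 5, 5, 5, 5, 6, 3, 3, 3], [2, 2, 3, 2, 2, 3, 2, 3, 2, 3, 3, 3, 4, 3, 4, 4, 5, 5, 5, 5, 5, 5, 5, 6, 7, 3]), ([2, 3, 2, 2, 4, 4, 3, 3, 4, 5, 6, 6, 3], [2, 3, 2, 2, 3, 3, 2, 3, 4, 3, 4, 4, 5, 5, 6, 7, 3, 3]), ([2, 2, 2, 2, 3, 2, 4, 3, 3, 4, 4, 3, 4, 5, 3, 6], [3, 2, 3, 3, 2, 2, 3, 2, 4, 3, 3, 4, 3, 4, 5, 5, 5, 3, 3]), ([4, 3, 4, 3, 4, 5, 5, 5, 5, 5, 5, 5, 5, 5, 6, 3, 3, 3], [3, 3, 2, 3,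 2, 3, 4, 4, 4, 3, 4, 5, 5, 5, 5, 5, 5, 5, 5, 6, 6, 6, 7]), ([4, 3, 3, 4, 5, 6, 6, 6, 7, 3, 3], [3, 3, 2, 2, 3, 3, 2, 4, 3, 4, 4, 5, 5, 7, 3, 3]), ([2, 3, 2, 2, 2, 3, 2, 4, 3, 3, 4, 4, 3, 4, 5, 5, 5, 5, 5, 5, 5, 5, 5, 3, 6, 7], [3, 2, 3, 3, 4, 4, 5, 5, 5, 5, 5, 5, 7]), ([2, 2, 3, 2, 2, 2, 2, 2, 2, 3, 3, 3, 4, 3, 4, 4, 6, 6, 6], [2, 3, 3, 3, 2, 2, 4, 4, 4, 5, 5, 5, 5, 5, 3, 3])],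
    [([2, 2, 3, 2, 2, 2, 2, 2, 2, 4, 5, 5, 5, 7], [2, 2, 2, 3, 2, 3, 2, 2, 3, 3, 4, 4, 4, 7]), ([2, 2, 3, 2, 2, 2, 2, 2, 2, 3, 4, 4, 3, 3, 4, 5, 6, 6, 7, 3], [2, 3, 2, 2, 3, 3, 2, 3, 3]), ([3, 2, 2, 2, 2, 3, 4, 3, 4, 5, 5, 3, 6, 7, 3, 3], [3, 3, 2, 2, 2, 3, 2, 2, 2, 3, 3, 4, 4, 4, 5, 5, 5, 5, 5, 5, 5, 5, 5, 6, 6, 6, 7]), ([3, 2, 3, 4, 4, 3, 4, 5, 5, 5, 5, 5, 6, 7, 3], [3, 3, 3, 2, 2, 4, 3, 4, 3, 4, 5, 5, 5, 6, 6, 3, 3, 3]), ([3, 2, 2, 2, 3, 2, 2, 4, 3, 3, 4, 4, 3, 4, 3, 3, 3], [3, 2, 3, 2, 2, 2, 3, 2, 2, 3, 4, 4, 5, 5, 5, 5, 5, 5, 5, 5, 5, 3, 6]), ([2, 3, 3, 2, 3, 3, 2, 2, 2, 4, 3, 3, 3, 4, 3, 4, 5, 5, 5, 5, 5, 5, 5,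 5, 5, 6, 7], [2, 3, 3, 3, 2, 3, 2, 2, 4, 3, 4, 4, 4, 3, 4, 5, 5, 3, 6, 7, 3]), ([3, 2, 2, 3, 3, 3, 2, 2, 3, 3, 4, 4, 4, 5, 5, 5, 5, 5, 5, 3, 6, 7, 3], [2, 2, 2, 2, 2, 4, 3, 3, 4, 4, 3, 4, 5, 5, 5, 5, 3, 6, 7, 3, 3]), ([3, 3, 2, 3, 3, 2, 3, 4, 4, 3, 3, 4, 5, 5, 5, 5, 5, 5, 5, 6, 6, 3], [2, 2, 2, 3, 3, 2, 3]), ([3, 3, 2, 2, 3, 2, 4, 3, 4, 4, 4, 5, 5, 5, 3, 3], [2, 3, 2, 2, 2, 2, 2, 2, 3, 3, 4, 4, 5, 5, 5, 5, 5, 6, 6, 7, 3]), ([2, 2, 2, 2, 2, 3, 2, 3, 4, 3, 3, 4, 3, 4, 5, 5, 5, 5, 5, 5, 5, 7, 3, 3], [3, 3, 2, 2, 2, 3, 2, 3, 3, 4, 3, 4, 5, 5, 5, 5, 5, 5, 5, 5, 5, 6, 6, 7, 3]), ([2, 2, 2, 3, 2, 3, 2, 4, 3, 3, 4, 4, 4, 5,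 5, 5, 5, 5, 5, 6, 6, 6, 7, 3, 3], [2, 2, 2, 2, 2, 2, 4, 4, 5, 5, 6, 6, 6, 7, 3, 3, 3]), ([2, 2, 2, 2, 3, 3, 2, 4, 3, 3, 4, 4, 3, 4, 5, 5, 5, 5, 5, 5, 5, 6], [3, 2, 3, 2, 3, 3, 4, 4, 4, 5, 6, 7, 3, 3]), ([3, 2, 2, 2, 2, 4, 4, 3, 3, 4, 5, 5, 5, 5, 5, 5, 6, 6, 6, 7, 3, 3, 3], [3, 3, 2]), ([3, 3, 2, 2, 3, 3, 2, 2, 2, 4, 3, 4, 3, 4, 5, 5, 5, 5, 5, 5, 6, 6], [2, 3, 3, 2, 2, 2, 2, 2, 3, 3, 3, 4, 5, 5, 5, 5, 6, 3, 3]), ([2, 3, 3, 2, 3, 3, 2, 2, 2, 4, 3, 3, 4, 5, 5, 5, 5, 5, 5, 5, 5], [3, 3, 2, 3, 2, 2, 2, 3, 3, 4, 3, 4, 5, 5, 5, 5, 5, 5, 5, 6, 7, 3]), ([2, 3, 3, 2, 4, 3, 4, 4, 4, 5, 5, 5, 5, 5, 6, 6, 6], [3, 3, 2, 3, 2, 2,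 2, 3, 4, 3, 3, 4, 3, 4, 5, 5, 5, 5, 5, 5, 3, 6, 3]), ([2, 2, 2, 2, 2, 3, 2, 4, 4, 5, 5, 5, 5, 5, 3, 6, 3], [2, 3, 3, 3, 2, 3, 3, 2, 4, 4, 3, 3, 4, 5, 5, 5, 3, 6, 3]), ([2, 3, 3, 3, 2, 4, 4, 3, 3, 4, 5, 5, 5, 5, 5, 5, 5, 5, 6, 6, 7, 3, 3], [3, 2, 3, 3, 3, 2, 4, 3, 4, 4, 5, 5, 5, 5, 5, 5, 5, 6, 6]), ([2, 2, 2, 3, 2, 3, 2, 3, 3, 4, 4, 3, 4, 5, 5, 5, 5, 5, 5, 6, 6, 3, 3, 3], [2, 3, 2, 3, 3, 3, 2, 4, 3, 4, 5, 5, 5, 5, 5, 3, 6, 7, 3, 3]), ([3, 2, 2, 3, 2, 2, 2, 2, 4, 3, 3, 4, 4, 4, 5, 5, 5, 5, 5, 6, 3], [3, 2, 3, 2, 3, 3, 3]), ([3, 2, 3, 2, 2, 4, 3, 3, 4, 4, 4, 6, 7], [3, 2, 3, 2, 3, 3, 2, 6, 6, 6, 7, 3, 3, 3]), ([3, 2, 3,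 2, 2, 4, 4, 3, 4, 5, 5, 5, 5, 5, 5, 5, 3, 6, 3, 3, 3], [3, 2, 2, 2, 3, 4, 4, 3, 4, 5, 6, 6, 6, 7, 3]), ([3, 2, 3, 2, 2, 3, 4, 4, 3, 4, 5, 5, 5, 5, 5, 5, 3, 6, 3, 3], [3, 2, 2, 3, 3, 2, 3, 4, 3, 4, 4, 5, 5, 5, 5, 5, 5, 5, 5, 6, 6, 6]), ([3, 3, 3, 2, 3, 2, 3, 2, 4, 4, 5, 5, 5, 3, 6, 3, 3, 3], [3, 2, 3, 2, 2, 2, 2, 2, 2, 4, 4, 3, 3, 4, 5, 5, 5, 5, 5, 5, 5, 5, 5, 6, 6, 6, 7, 3, 3, 3]), ([3, 3, 2, 2, 2, 2, 4, 3, 4, 4, 4, 5, 6], [3, 3, 3, 2, 3, 3, 2, 3, 4, 4, 4, 3, 4, 5, 5, 5, 5, 5, 5, 5, 6, 6, 3, 3, 3]), ([3, 2, 2, 3, 2, 2, 2, 2, 3, 4, 4, 4, 3, 4, 5, 5, 5, 5, 5, 5, 5, 7, 3], [3, 2, 2, 2, 3, 2, 3, 2]), ([2, 3, 3, 2, 2, 3,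 2, 3, 3, 4, 4, 4, 5, 5, 5, 5, 5, 5, 5, 5, 6, 6, 6], [2, 3, 2, 2, 2, 2, 2, 2, 3, 4, 4, 3, 3, 4, 5, 5, 5, 5, 5, 5, 6, 6, 3, 3, 3]), ([2, 3, 3, 3, 2, 3, 2, 2, 4, 4, 3, 4, 5, 5, 5, 5, 5, 3, 3, 3], [2, 2, 3, 2, 3, 2, 3, 4, 3, 3, 4, 3, 4, 5, 5, 5, 5, 5, 5, 6, 6, 6, 7]), ([2, 2, 3, 2, 3, 3, 2, 2, 2, 3, 4, 4, 6, 7], [3, 3, 2, 2, 2, 3, 2, 3, 4, 5, 5, 5, 5, 5, 5, 5, 5]), ([2, 3, 3, 3, 2, 3, 2, 2, 3, 4, 5, 5, 6, 6, 7], [2, 2, 3, 2, 2, 3, 4, 3, 4, 4, 5, 5, 5, 5, 6, 6, 6]), ([2, 2, 3, 2, 3, 3, 2, 2, 2, 3, 4, 3, 4, 4, 5, 5, 5, 5, 5, 5, 5, 3, 3, 3], [2, 2, 2, 2, 3, 3, 2, 4, 3, 4, 4, 5, 5, 5, 5, 6, 6, 6, 3, 3]), ([2, 2, 3, 3, 3, 2,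 3, 3, 3, 4, 5, 5, 5, 3, 6], [3, 2, 3, 2, 2, 2, 2, 2, 2, 3, 3, 4, 4, 5, 5, 5, 5, 5, 6, 6, 7, 3]), ([2, 3, 2, 2, 2, 2, 2, 4, 3, 3, 3, 4, 3, 4, 5, 5, 5, 5, 5, 5, 5, 5, 6, 6, 6], [3, 3, 3, 2, 2, 2, 3, 2, 3, 3, 4, 3, 4, 5, 5, 5, 5, 5, 5, 5, 5, 5, 6, 6, 7, 3]), ([2, 3, 2, 2, 2, 4, 3, 4, 3, 4, 5, 5, 5, 5, 5, 5, 5, 6, 3, 3], [2, 2, 3, 3, 2, 2, 2, 3]), ([2, 3, 3, 2, 2, 2, 2, 2, 3, 4, 4, 3, 4, 5, 5, 5, 5, 5, 6, 6, 6, 3, 3, 3], [3, 2, 3, 3, 3, 4, 3, 4, 4, 5, 5, 5, 5, 5, 5, 5, 5, 5, 6, 6, 6, 3, 3]), ([3, 3, 2, 3, 2, 2, 2, 4, 3, 4, 3, 4, 5, 5, 5, 5, 5, 5, 5, 6], [3, 2, 2, 2, 2, 2, 3, 3]), ([2, 3, 2, 2, 2, 4, 3, 3, 4, 5, 5, 5, 6,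 6, 7, 3, 3], [3, 3, 2, 2, 2, 2, 2]), ([2, 2, 3, 2, 2, 2, 2, 2, 4, 3, 4, 3, 4, 5, 5, 5, 5, 5, 5, 5, 5, 5, 6, 6, 7, 3, 3], [3, 3, 3, 2, 2, 2, 2, 3, 4, 4, 4, 3, 4, 5, 5, 5, 5, 5, 6, 3]), ([3, 3, 2, 3, 2, 2, 2, 4, 3, 3, 4, 5, 5, 5, 6, 6, 7], [2, 2, 2, 2, 2]), ([3, 3, 2, 3, 4, 4, 3, 4, 5, 5, 5, 5, 5, 6, 3, 3, 3], [3, 3, 3, 2, 2, 4, 3, 3, 4, 3, 4, 5, 5, 5, 6, 6, 6, 3, 3, 3]), ([2, 3, 2, 3, 2, 2, 4, 3, 3, 4, 3, 4, 5, 5, 5, 5, 5, 5, 6, 6, 3, 3, 3], [2, 3, 2, 3, 3, 2, 3, 3, 4, 3, 4, 5, 5, 5, 5, 6, 7]), ([2, 2, 2, 3, 3, 4, 4, 4, 5, 5, 5, 5, 5, 5, 5, 5, 5], [3, 3, 2, 2, 2, 3, 2, 3, 3, 4, 3, 4, 5, 5, 5, 5, 5, 7]), ([2, 3, 2, 3,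 2, 2, 2, 2, 2, 3, 3, 4, 4, 4, 5, 5, 5, 6, 3, 3, 3], [3, 2, 2, 2, 3, 4, 3, 4, 5, 5, 5, 5, 5, 7, 3]), ([2, 3, 2, 3, 2, 6, 7, 3, 3], [2, 2, 3, 3, 2]), ([3, 2, 3, 3, 3, 2, 3, 3, 3, 4, 3, 4, 6, 3, 3, 3], [2, 2, 2, 3, 2, 3, 2, 2, 3, 4, 5, 5, 5, 5, 5, 5, 5, 5, 5, 3, 6]), ([3, 2, 2, 2, 2, 2, 2, 4, 3, 4, 4, 5, 5, 7, 3], [2, 2, 3, 2, 3, 3, 2, 2, 2, 3, 3, 4, 3, 4, 4, 5, 5, 3, 3]), ([3, 3, 2, 2, 2, 3, 2, 2, 2, 3, 4, 4, 4, 3, 4, 5, 5, 6, 6, 6, 3, 3], [3, 2, 3, 3, 3, 2, 2, 3, 3, 4, 4, 4, 3, 4, 5, 5, 5, 5, 6, 6, 6, 3, 3]), ([2, 3, 3, 3, 2, 3, 3, 2, 5, 6, 6, 6, 7, 3, 3, 3], [2, 3, 3, 2, 3, 2, 4, 3, 4, 4, 4, 5, 5, 5, 6]), ([2, 3, 2,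 2, 2, 3, 2, 2, 4, 3, 3, 4, 3, 4, 5, 5, 5, 5, 5, 6, 6, 3], [2, 2, 3, 3, 3, 2, 3, 2, 2, 3, 3, 4, 4, 4, 5, 6, 6, 7, 3, 3]), ([3, 2, 3, 2, 2, 2, 2, 3, 3, 3, 4, 3, 4, 4, 5, 5, 5, 5, 5, 5, 5, 5, 7, 3], [3, 3, 3, 2, 4, 3, 3, 4, 4, 4, 5, 5, 5, 5, 5, 7]), ([2, 3, 3, 3, 2, 2, 2, 3, 2, 4, 3, 4, 4, 5, 5, 5, 3, 6, 7, 3, 3], [3, 3, 2, 3, 2, 2, 4, 4, 3, 3, 4, 5, 5, 5, 5, 5, 5, 7, 3, 3, 3]), ([3, 2, 3, 3, 2, 2, 3, 2, 3, 3, 3, 4, 3, 4, 5, 5, 5, 5, 5, 5, 5, 5, 6, 7, 3, 3], [2, 3, 2, 2, 3, 2, 3, 2, 4, 5, 5, 5, 5, 5, 5, 5, 6, 3, 3]), ([3, 2, 2, 2, 2, 4, 3, 4, 3, 4, 5, 5, 5, 5, 5, 6, 6, 6, 3, 3], [2, 3, 2, 2, 3, 3, 2, 3, 3, 3, 4, 5, 5,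 5, 5, 5, 5, 5, 5, 6, 6]), ([3, 2, 3, 3, 3, 2, 3, 2, 3, 3, 4, 4, 5, 5, 5, 5, 5, 5, 5, 5, 6, 6, 6, 3, 3], [2, 3, 2, 3, 3, 3, 2]), ([3, 2, 3, 3, 3, 2, 3, 2, 4, 4, 3, 4, 5, 6, 6, 7, 3, 3, 3], [2, 2, 3, 3, 3, 2, 3, 2, 2, 3, 3, 4, 4, 4, 5, 5, 5, 5, 5, 3, 6, 7]), ([2, 3, 3, 3, 2, 3, 2, 2, 4, 3, 3, 4, 4, 4, 5, 5, 5, 5, 5, 5, 6, 6], [2, 3, 3, 2, 2, 3, 2, 3, 4, 4, 3, 3, 4, 5, 5, 5, 5, 6, 6, 6, 7, 3, 3, 3]), ([2, 3, 3, 3, 2, 3, 2, 2, 3, 3, 4, 4, 3, 4, 5, 5, 5, 5, 5, 5, 3, 6, 7, 3, 3], [3, 3, 2, 3, 3, 4, 4, 5, 5, 5, 5, 5, 5, 7, 3, 3]), ([2, 3, 3, 3, 2, 3, 3, 2, 4, 3, 3, 4, 4, 4, 6, 6, 3], [3, 2, 2, 2, 2, 2, 3, 4, 3, 4, 4, 3, 6,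 7, 3, 3]), ([3, 2, 3, 2, 2, 3, 3, 2, 4, 5, 5, 5, 5, 5, 5, 5, 5, 5], [3, 2, 2, 2, 2, 2, 3, 4, 4, 4, 3, 4, 5, 5, 6, 6]), ([3, 3, 2, 2, 3, 3, 3, 4, 5, 5, 5, 6, 6, 6, 7, 3, 3, 3], [3, 2, 3, 2, 2, 2, 2, 3, 3, 4, 4, 5, 5, 5, 3, 6, 7, 3]), ([3, 2, 2, 2, 3, 3, 2, 4, 3, 3, 4, 3, 4, 5, 7, 3], [3, 2, 2, 3, 3, 2, 4, 4, 3, 3, 4, 5, 5, 5, 3, 6, 3]), ([2, 3, 2, 3, 3, 2, 2, 2, 3, 4, 4, 5, 5, 5, 5, 5, 5, 5, 5, 7, 3, 3, 3], [3, 2, 2, 2, 2, 4, 3, 4, 4, 4, 3, 4, 5, 5, 6, 6, 7]), ([3, 3, 2, 3, 2, 2, 2, 3, 3, 4, 3, 4, 4, 5, 5, 5, 5, 5, 5, 3, 6, 7, 3, 3, 3], [3, 3, 2, 3, 2, 2, 4, 4, 4, 5, 5, 5, 3, 6]), ([3, 2, 3, 3, 3, 2, 3, 2, 4, 3, 4, 5,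 5, 5, 5, 5, 5, 5, 6, 7], [2, 3, 2, 2, 3, 3, 2, 2, 2, 3, 3, 4, 3, 4, 3, 3, 3])],
    [([3, 2, 3, 3, 3, 2, 3, 2, 3, 4, 5, 5, 5, 6, 6], [3, 3, 2, 2, 3, 3, 2, 3, 3]), ([2, 2, 2, 2, 2, 3, 2, 4, 4, 4, 3, 4, 5, 3, 6], [3, 2, 4, 3, 3, 4, 3, 4, 5, 5, 5, 3, 6, 3, 3, 3]), ([2, 2, 2, 2, 2, 3, 2, 3, 4, 4, 4, 3, 4, 3], [3, 2, 2, 2, 3, 2, 2, 4, 3, 3, 4, 5, 5, 5, 5, 5, 6, 6, 6, 7, 3, 3]), ([2, 2, 2, 3, 3, 3, 2, 4, 3, 4, 4, 6, 7, 3, 3], [2, 2, 3, 2, 3, 2, 3, 2, 3, 3, 4, 3, 4, 4, 5, 5, 5, 5, 5, 5, 5, 5, 5, 6, 6, 7, 3]), ([4, 4, 4, 3, 4, 5, 5, 5, 5, 5, 5, 6, 6, 6, 7, 3, 3, 3], [2, 2, 3, 2, 2, 3, 2, 3, 2, 4, 3, 4, 4, 4, 3, 4, 5, 5, 7]),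 ([2, 2, 3, 3, 3, 2, 2, 4, 3, 3, 4, 5, 5, 5, 5, 5, 5, 3, 6, 7, 3, 3], [2, 2, 3, 2, 3, 2, 2, 3, 4, 3, 4, 4, 5, 5, 5, 5, 6, 6, 6, 3]), ([3, 3, 2, 2, 2, 3, 4, 3, 4, 4, 5, 5, 5, 5, 5, 3, 6], [3, 3, 3, 2, 2, 3, 3, 3, 4, 3, 4, 4, 6, 3, 3, 3]), ([3, 3, 3, 2, 3, 2, 2, 3, 4, 3, 3, 4, 3, 4, 5, 5, 3, 6, 7, 3], [2, 3, 3, 2, 2, 3, 2, 4, 4, 3, 4, 5, 5, 5, 5, 5, 5, 6, 7, 3, 3, 3]), ([3, 3, 3, 2, 3, 2, 2, 4, 3, 3, 3, 4, 3, 4, 5, 5, 5, 5, 5, 3, 6], [3, 3, 2, 2, 2, 3, 2, 3, 4, 3, 3, 4, 3, 4, 5, 3, 6, 7, 3, 3]), ([3, 3, 3, 2, 2, 2, 2, 3, 4, 4, 5, 5, 5, 6, 6, 7, 3, 3, 3], [2, 3, 2, 3, 3, 3, 2, 5, 5, 3, 6, 7, 3, 3, 3]), ([3, 3, 3, 2, 2,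 2, 2, 3, 3, 4, 5, 5, 5, 5, 5, 5, 5, 5, 5, 6, 6, 7], [3, 3, 2, 3, 2, 2, 2, 4, 3, 4, 4, 4, 5, 5, 5, 3, 6, 7]), ([2, 3, 3, 2, 3, 2, 2, 2, 3, 3, 3, 4, 3, 4, 5, 5, 3, 3, 3], [2, 3, 2, 2, 3, 3, 2, 2, 2, 3, 4, 3, 4, 4, 5, 5, 7, 3, 3]), ([2, 2, 2, 3, 2, 3, 2, 3, 3, 4, 5, 5, 5, 5, 5, 6, 6, 6, 3], [2, 2, 3, 2, 3, 2, 3, 4, 3, 4, 4, 5, 5, 5, 5, 5, 5, 5, 6, 6, 3, 3, 3]), ([2, 3, 2, 3, 3, 2, 3, 3, 4, 3, 4, 5, 5, 5, 5, 5, 5, 5, 5, 5, 6, 6, 3, 3], [2, 3, 2, 3, 3, 2, 2, 2, 4, 3, 3, 3, 4, 3, 4, 5, 5, 5, 5, 5, 5, 5, 5]), ([3, 2, 2, 3, 3, 3, 2, 2, 3, 4, 4, 5, 5, 5, 5, 5, 7, 3, 3], [2, 3, 3, 2, 2, 2, 3, 3, 3, 4, 3, 4, 4, 5, 5, 5, 5, 5,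 5, 5, 7]), ([2, 2, 3, 3, 3, 2, 2, 3, 3, 3, 4, 3, 4, 5, 5, 6, 6, 7], [3, 3, 2, 3, 3, 3]), ([3, 2, 3, 3, 2, 3, 4, 3, 3, 4, 3, 4, 5, 6, 6, 6, 7, 3, 3, 3], [2, 2, 3, 3, 3, 2]), ([3, 3, 2, 3, 2, 3, 2, 4, 4, 4, 3, 4, 5, 5, 5, 5, 5, 6, 6, 6, 7, 3, 3, 3], [2, 3, 2, 2, 3, 2, 3, 4, 4, 3, 3, 4, 5, 5, 5, 5, 6, 6, 6, 7, 3, 3]), ([2, 3, 2, 3, 3, 2, 4, 3, 3, 4, 5, 5, 6, 6, 6, 7, 3], [2, 2, 3, 2, 2, 2, 2, 3, 4, 3, 3, 4, 3, 4, 5, 5, 5, 5, 5, 5, 5, 6, 6, 7]), ([2, 2, 3, 2, 3, 3, 2, 2, 2, 4, 4, 3, 4, 5, 5, 5, 5, 5, 5, 6, 6, 7, 3], [3, 3, 2, 2, 3, 2, 4, 4, 3, 3, 4, 5, 5, 5, 5, 5, 5, 5, 5, 6, 7, 3]), ([2, 2, 3, 3, 3, 2, 2, 4, 3, 4, 4, 4,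 5, 5, 5, 6, 6, 6, 3], [2, 2, 3, 2, 2, 4, 3, 4, 4, 4, 3, 4, 3, 6, 3, 3]), ([2, 2, 3, 3, 2, 2, 2, 4, 3, 3, 4, 5, 5, 5, 5, 6, 3], [3, 2, 2, 3, 2, 2, 2, 2, 4, 4, 4, 5, 7, 3, 3, 3]), ([3, 3, 2, 2, 2, 2, 5, 5, 5, 5, 5, 5, 6, 6, 7, 3], [2, 2, 3, 2, 3, 2, 2, 3, 4, 5, 5, 5, 5, 5, 5, 5, 5, 5, 3, 6]), ([3, 2, 2, 3, 3, 3, 2, 2, 4, 3, 4, 3, 4], [2, 3, 2, 4, 3, 4, 4, 4, 3, 4, 5, 5, 5, 5, 6, 6, 3]), ([2, 3, 2, 2, 2, 3, 2, 2, 5, 5, 5, 5, 5, 5, 7, 3, 3, 3], [3, 2, 2, 2, 3, 3, 2, 3, 4, 4, 4, 3, 4, 5, 5, 5, 5, 5, 5, 5, 6, 3, 3]), ([3, 2, 3, 3, 3, 2, 5, 5, 5, 5, 5, 5, 5, 6, 6, 6, 3, 3, 3], [2, 2, 3, 3, 2, 2, 2, 3, 4, 3, 4, 4, 5, 5, 7]),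 ([2, 2, 3, 2, 3, 3, 4, 3, 4, 4, 5, 5, 5, 5, 5, 6, 6, 7, 3], [3, 2, 2, 3, 2, 2, 4, 3, 3, 3, 4, 3, 4, 5, 5, 5, 5, 6, 3, 3, 3]), ([3, 2, 2, 2, 2, 2, 4, 3, 4, 4, 4, 5, 5, 5, 5, 5, 6, 3], [3, 3, 3, 2, 2, 3, 3, 4, 3, 4, 4, 5, 5, 5, 5, 5, 5, 5, 5, 5, 6, 6, 7, 3, 3, 3]), ([2, 3, 2, 2, 3, 3, 2, 2, 2, 4, 3, 4, 4, 4, 3, 4, 5, 5, 6, 6, 3], [2, 3, 3, 2, 2, 2, 2, 2, 4, 4, 4, 5, 5, 5, 5, 6, 3, 3, 3]), ([3, 3, 3, 2, 2, 2, 3, 2, 4, 4, 4, 3, 4, 5, 5, 5, 5, 5, 5, 5, 6, 6, 6], [2, 3, 3, 2, 3, 3, 4, 3, 4, 5, 5, 5, 5, 5, 5, 5, 5, 5, 6, 6, 6, 7, 3]), ([3, 2, 2, 2, 2, 2, 4, 3, 3, 4, 5, 5, 5, 5, 5, 5, 5, 5, 3, 6, 3], [2, 2, 2, 2, 2, 2, 3, 3,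 4, 3, 4, 5, 5, 5, 5, 5, 5, 5, 5, 5, 6, 6, 3, 3]), ([2, 3, 2, 2, 3, 2, 3, 3, 4, 3, 4, 5, 5, 5, 5, 6, 6, 6, 3, 3], [3, 3, 2, 4, 4, 5, 5, 5, 5, 5, 5, 5, 6, 7, 3]), ([2, 2, 3, 2, 3, 3, 3, 2, 3, 4, 5, 6, 6, 3], [2, 2, 3, 2, 3, 2, 3, 2, 3, 4, 3, 4, 5, 5, 5, 5, 5, 5, 5, 6, 7, 3, 3]), ([4, 3, 4, 4, 4, 3, 4, 5, 5, 5, 5, 3, 6, 3, 3], []), ([2, 3, 2, 2, 2, 2, 3, 3, 3, 4, 3, 4, 4, 6, 6, 6, 3, 3], [2, 3, 3, 2, 3, 2, 3, 4, 3, 4, 4, 5, 5, 5, 5, 5, 5, 6, 3]), ([3, 2, 2, 2, 3, 3, 2, 3, 3, 4, 3, 4, 4, 5, 5, 5, 5, 5, 5, 3, 6, 3, 3], [3, 3, 3, 2, 4, 3, 4, 3, 4, 5, 5, 3, 6, 3]), ([3, 2, 2, 2, 2, 2, 2, 4, 3, 3, 4, 4, 4, 5, 5, 5, 5, 5, 7,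 3, 3], [3, 3, 2, 3, 2, 3, 4, 4, 4, 3, 4, 5, 5, 5, 5, 5, 5, 5, 5, 6, 6, 6, 7, 3]), ([3, 3, 2, 2, 2, 3, 2, 2, 2, 4, 5, 5, 5, 5, 5, 5, 5, 5, 6, 6, 6, 7, 3, 3, 3], [3, 2, 3, 3, 2, 3, 3, 3]), ([2, 3, 2, 2, 2, 2, 4, 4, 3, 4, 5, 5, 5, 5, 5, 5, 5, 6, 6, 7, 3], [2, 3, 3, 3, 2, 3, 2]), ([2, 3, 2, 2, 2, 4, 3, 3, 3, 4, 3, 4, 5, 5, 5, 6, 6, 7, 3, 3], [2, 2, 3, 2, 3, 2, 3, 3]), ([2, 2, 2, 2, 3, 3, 2, 3, 4, 4, 4, 5, 5, 5, 5, 5, 5, 6, 6, 7, 3, 3], [2, 3, 2, 3, 3, 2, 2, 2, 3, 3, 4, 4, 4, 5, 5, 5, 5, 5, 5, 6, 6, 7, 3, 3, 3]), ([3, 2, 3, 3, 2, 3, 3, 3, 4, 3, 4, 4, 5, 5, 5, 6, 6, 3], [2, 3, 2, 3, 3, 2, 2, 2, 3, 3, 4, 3, 4, 4, 5, 5, 3]),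 ([2, 3, 2, 3, 2, 4, 4, 4, 3, 4, 5, 5, 5, 5, 5, 5, 5, 5, 5, 3, 6, 7], [3, 3, 3, 2, 2, 4, 3, 4, 4, 4, 5, 5, 5, 5, 5, 6, 6, 6, 7, 3]), ([2, 3, 2, 3, 2, 2, 2, 2, 2, 4, 4, 5, 5, 5, 5, 6, 3], [2, 2, 2, 2, 3, 3, 2, 4, 3, 4, 4, 4, 3, 4, 5, 5, 5, 5, 5, 5, 6, 6, 6, 7]), ([3, 2, 3, 2, 2, 2, 3, 4, 4, 3, 4, 5, 5, 5, 5, 3, 3], [2, 2, 3, 3, 3, 2, 2, 4, 3, 3, 4, 3, 4, 5, 5, 6, 6, 6, 3, 3, 3]), ([3, 2, 3, 2, 2, 2, 3, 2, 2, 4, 4, 5, 5, 5, 5, 5, 5, 5, 5, 6, 6, 7, 3, 3], [2, 2, 3, 3, 3, 2, 3, 2, 3]), ([3, 2, 3, 2, 2, 2, 3, 4, 4, 3, 3, 4, 5, 5, 5, 5, 3, 6, 7], [3, 2, 2, 2, 3, 3, 2, 3, 4, 4, 4, 3, 4, 5, 5, 5, 5, 5, 6, 6, 6, 7, 3]), ([3,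 2, 3, 2, 2, 2, 2, 2, 2, 4, 3, 3, 4, 3, 4, 5, 5, 5, 5, 7, 3, 3], [3, 2, 3, 2, 3, 2, 3, 3, 3, 4, 3, 4, 5, 6, 6, 3, 3, 3]), ([3, 3, 2, 3, 2, 3, 3, 4, 4, 4, 3, 4, 5, 5, 5, 5, 5, 6, 6, 7, 3, 3, 3], [2, 3, 2, 3, 2, 4, 3, 4, 5, 5, 5, 5, 5, 5, 5, 3, 6]), ([2, 2, 3, 2, 3, 2, 4, 4, 5, 5, 5, 5, 5, 5, 5, 7, 3], [3, 2, 3, 3, 2, 3, 3, 4, 4, 3, 4, 5, 5, 5, 5, 5, 5, 6, 6, 7]), ([2, 2, 3, 2, 2, 3, 3, 4, 3, 4, 4, 6, 6, 6, 7, 3, 3], [2, 3, 2, 2, 2, 3, 2, 2, 4, 3, 4, 5, 5, 5]), ([2, 2, 2, 2, 3, 3, 2, 3, 3, 4, 3, 4, 4, 5, 5, 5, 5, 5, 5, 6, 3, 3], [2, 3, 3, 2, 2, 2, 2, 2, 3, 3, 4, 4, 3, 4, 5, 5, 5, 5, 6, 6, 6, 3, 3, 3]), ([3, 2, 2, 3, 2,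 2, 2, 2, 3, 4, 4, 4, 3, 4, 5, 6, 6, 3, 3], [2, 2, 2, 3, 2, 2, 2, 4, 3, 3, 3, 4, 3, 4, 6, 6, 6]), ([3, 2, 3, 3, 3, 2, 3, 2, 3, 4, 4, 4, 5, 5, 5, 5, 5, 5, 6, 7], [2, 2, 2, 2, 4, 4, 5, 5, 5, 5, 6, 3]), ([3, 2, 3, 2, 2, 3, 4, 4, 4, 3, 4, 5, 5, 5, 5, 5, 5, 6, 6, 3, 3], [2, 2, 2, 3, 2, 3, 2, 3, 3, 4, 4, 4, 5, 6, 7, 3, 3, 3]), ([2, 3, 3, 2, 3, 3, 2, 2, 2, 4, 3, 4, 5, 5, 5, 5, 5, 5, 5, 7, 3, 3], [2, 3, 4, 3, 4, 4, 5, 5, 5, 6, 3, 3]), ([3, 3, 2, 2, 2, 3, 2, 3, 4, 4, 5, 5, 5, 5, 6, 6, 6, 7, 3, 3], [2, 3, 2, 2, 2, 2, 2, 2, 4, 4, 3, 3, 4, 5, 5, 5, 5, 5, 5, 5, 5, 5, 6, 6, 6, 7, 3, 3]), ([2, 3, 3, 2, 3, 4, 4, 3, 3, 4, 5, 5, 6, 6,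 7], [3, 3, 3, 2, 2, 3, 3, 4, 3, 4, 5, 5, 5, 5, 5, 5, 3, 6, 3, 3]), ([3, 3, 2, 2, 3, 3, 2, 2, 2, 3, 3, 4, 3, 4, 4, 5, 5, 5, 7], [2, 3, 3, 3, 2, 2, 4, 3, 3, 4, 3, 4, 5, 5, 6, 6, 6, 3, 3, 3]), ([3, 2, 3, 2, 2, 2, 4, 3, 3, 4, 5, 5, 5, 6, 6, 7, 3], [2, 2, 3, 2, 2, 3, 2, 3, 3, 3, 4, 3, 4, 4, 3, 6, 7]), ([3, 3, 3, 2, 3, 2, 2, 2, 4, 3, 4, 3, 4, 5, 5, 5, 5, 5, 5, 5, 6, 3, 3, 3], [3, 3, 2, 2, 2, 2, 2, 3, 3]), ([2, 2, 3, 2, 2, 3, 2, 4, 3, 4, 3, 4, 5, 5, 5, 5, 5, 5, 6, 6, 7, 3], [3, 3, 2, 2, 2, 2, 3, 4, 3, 4, 4, 5, 5, 6, 6, 6, 3, 3, 3]), ([3, 3, 3, 2, 3, 2, 2, 2, 4, 3, 3, 4, 3, 4, 5, 5, 5, 5, 5, 5, 5, 5, 3, 6, 3, 3, 3], [2, 3,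 2, 3, 2, 2, 4, 4, 4, 3, 4, 6, 6, 3, 3]), ([3, 2, 3, 2, 2, 2, 2, 2, 2, 3, 3, 4, 4, 3, 4, 5, 5, 5, 5, 5, 5, 5, 5, 6, 6, 3], [2, 3, 3, 2, 2, 3, 3, 2, 3, 3, 3, 4, 5, 5, 5, 5, 5, 5, 5, 5, 6, 6])]]

/-- part of a table -/
def conjs4 : List (List (List ℕ × List ℕ)) :=
  [[([3, 3, 2, 3, 3, 2, 2, 2, 5, 5, 5, 5, 5, 5, 6, 6, 6, 7, 3, 3], [2, 2, 3, 2, 3, 2, 4, 5, 5, 5, 5, 5, 5, 5, 6, 3]), ([2, 2, 2, 3, 3, 2, 4, 5, 5, 6, 6, 7, 3, 3, 3], [3, 2, 3, 3, 3, 2, 3, 2, 3, 3, 3]), ([3, 3, 2, 2, 3, 3, 2, 2, 2, 3, 4, 4, 4, 5, 5, 5, 5, 5, 5, 5, 5, 5, 6, 6, 3, 3, 3], [3, 2, 3, 3, 3, 2, 3, 2, 4, 3, 4, 3, 4, 5, 5, 5, 5, 6, 6, 6, 3, 3]), ([3, 2,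 3, 3, 2, 2, 2, 3, 3, 4, 3, 4, 5, 5, 5, 5, 7, 3], [3, 3, 2, 3, 2, 3, 3, 3, 4, 3, 4, 4, 5, 5, 5, 5, 5, 5, 5, 5, 6, 6, 3, 3, 3]), ([2, 3, 2, 3, 3, 3, 2, 3, 3, 3, 4, 5, 5, 5, 5, 5, 5, 6, 6, 7], [3, 2, 3, 3, 3, 2, 3, 3, 4, 4, 3, 4, 5, 5, 6, 7, 3]), ([3, 2, 3, 3, 3, 2, 2, 3, 4, 5, 5, 5, 5, 5, 5, 5, 5, 6, 6, 3], [2, 2, 3, 2, 2, 2, 2, 2, 4, 3, 3, 4, 4, 3, 4, 3, 6, 3, 3, 3]), ([3, 3, 3, 2, 2, 3, 3, 4, 4, 3, 4, 5, 5, 5, 5, 5, 5, 5, 5, 3, 3], [2, 2, 2, 3, 2, 3, 2, 3, 3, 4, 4, 4, 5, 6, 7]), ([3, 3, 2, 3, 3, 2, 2, 2, 3, 3, 4, 3, 4, 5, 5, 5, 5, 6, 7, 3, 3, 3], [2, 2, 3, 2, 3, 3, 2, 2, 2, 3, 3, 4, 3, 4, 4, 5, 5, 3]), ([3, 2, 3, 2,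 2, 2, 3, 3, 4, 4, 5, 5, 5, 5, 6, 7], [2, 3, 2, 2, 3, 2, 4, 6, 6, 7, 3, 3]), ([3, 2, 3, 2, 2, 2, 3, 2, 2, 3, 3, 4, 6], [3, 2, 3, 3, 3, 2, 3, 2, 3, 3, 4, 4, 4, 5, 6, 7, 3, 3]), ([3, 2, 3, 2, 2, 2, 2, 2, 2, 3, 4, 3, 4, 5, 5, 5, 5, 5, 5, 5, 6, 6, 7, 3], [2, 2, 2, 3, 2, 4, 3, 3, 4, 4, 4, 5, 5, 5, 5, 5, 5, 5, 5, 7, 3, 3, 3]), ([3, 2, 3, 2, 3, 4, 4, 3, 4, 5, 5, 5, 5, 5, 5, 5, 5, 6, 7], [3, 3, 2, 2, 3, 4, 4, 4, 3, 4, 6, 6, 6, 7, 3, 3]), ([2, 3, 2, 2, 2, 2, 2, 3, 3, 3, 4, 5, 5, 5, 5, 3, 6, 7, 3], [3, 2, 2, 4, 3, 4, 4, 5, 5, 5, 5, 5, 5, 7, 3]), ([3, 2, 2, 2, 3, 2, 2, 3, 4, 3, 4, 4, 5, 5, 5, 5, 5, 5, 5, 6, 6, 6, 3, 3, 3], [3,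 2, 3, 3, 3, 2, 2, 4, 3, 3, 4, 3, 4, 5, 5, 6, 6, 6]), ([2, 3, 2, 3, 2, 2, 4, 3, 3, 4, 3, 4, 5, 5, 5, 5, 5, 5, 6, 7, 3], [2, 2, 3, 2, 2, 2, 4, 3, 3, 4, 4, 4, 5, 5, 6, 6, 6, 7, 3, 3, 3]), ([4, 3, 3, 4, 5, 5, 5, 5, 5, 5, 6, 6, 6, 7, 3, 3], [2, 3, 2, 2, 2, 4, 4, 4, 6, 6, 7, 3, 3]), ([3, 2, 3, 2, 3, 2, 4, 3, 3, 4, 5, 6, 6, 6, 3, 3], [2, 2, 2, 3, 2, 2, 4, 4, 3, 4, 5, 6, 6, 6, 3, 3, 3]), ([3, 2, 2, 3, 2, 4, 3, 4, 4, 4, 3, 4, 5, 5, 6, 6, 7, 3], [2, 3, 2, 2, 2, 3, 2, 2, 3, 3, 3, 4, 3, 4, 4, 5, 5, 5, 5, 5, 5, 5, 6, 7, 3, 3]), ([3, 2, 3, 3, 3, 2, 2, 4, 4, 3, 4, 7, 3, 3], [3, 2, 2, 3, 3, 2, 2, 2, 4, 3, 4, 3, 4, 5, 5, 5, 5, 5, 5,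 6, 6, 6]), ([3, 2, 3, 3, 3, 2, 6, 6, 7, 3, 3, 3], [2, 2, 2, 2, 2, 3, 3, 3, 4, 3, 4, 4, 5, 5, 5, 5, 5, 5, 5, 5, 5, 6, 6, 7, 3]), ([3, 2, 2, 2, 2, 3, 4, 4, 3, 3, 4, 5, 5, 5, 5, 5, 5, 5, 6, 6, 6, 3, 3, 3], [2, 3, 3, 2, 3, 2, 3, 4, 4, 3, 4, 5, 5, 5, 5, 5, 5, 5, 6, 7, 3]), ([3, 3, 3, 2, 3, 2, 3, 2, 3, 3, 3, 4, 3, 4, 4, 5, 5, 5, 5, 5, 5, 5, 5, 6, 7, 3], [2, 3, 3, 2, 2, 2, 2, 2, 4, 4, 4, 5, 5, 5, 5, 6, 3]), ([3, 3, 2, 3, 3, 2, 3, 4, 4, 3, 3, 4, 5, 5, 5, 5, 5, 5, 5, 3], [3, 3, 3, 2, 3, 2, 2, 3, 3]), ([2, 2, 2, 2, 3, 3, 2, 3, 4, 3, 4, 4, 5, 5, 7, 3, 3, 3], [3, 3, 2, 3, 2, 3, 4, 4, 3, 3, 4, 5, 5, 5, 5, 5, 5, 6, 6, 3, 3]), ([2,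 3, 3, 3, 2, 4, 4, 3, 3, 4, 5, 5, 5, 5, 5, 5, 5, 6, 7, 3, 3, 3], [3, 3, 2, 2, 2, 3, 2, 4, 3, 3, 4, 3, 4, 5, 5, 5, 5, 5, 3, 6, 7, 3, 3, 3]), ([3, 2, 3, 2, 2, 2, 2, 2, 4, 5, 5, 5, 5, 7, 3, 3, 3], [3, 3, 2, 3, 2, 3, 2, 3, 3, 4, 4, 4, 5, 6, 7, 3, 3]), ([2, 3, 2, 3, 2, 2, 2, 2, 2, 4, 5, 5, 5, 5, 5, 5, 6, 3], [2, 2, 2, 2, 3, 2, 3]), ([2, 3, 2, 2, 2, 2, 2, 2, 3, 4, 3, 4, 5, 5, 5, 5, 5, 5, 5, 6, 6, 7, 3, 3], [3, 3, 3, 2, 2, 2, 3, 2, 4, 3, 3, 4, 4, 4, 5, 5, 5, 5, 5, 5, 5, 5, 7, 3, 3, 3]), ([3, 2, 2, 2, 2, 2, 3, 4, 3, 4, 4, 5, 5, 7, 3, 3], [2, 2, 3, 2, 3, 3, 2, 2, 2, 4, 4, 4, 5, 5, 6, 7, 3, 3]), ([2, 3, 3, 3, 2, 3, 2, 3, 4, 3,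 4, 4, 5, 5, 5, 5, 5, 5, 6, 7], [2, 3, 2, 2, 2, 2, 2, 2, 4, 3, 3, 4, 3, 4, 5, 5, 5, 3, 6, 7, 3]), ([3, 2, 2, 2, 2, 2, 2, 3, 3, 4, 4, 5, 5, 5, 5, 6, 6, 3], [2, 2, 3, 3, 3, 2, 3, 2, 3, 4, 3, 4, 4, 5, 5, 5, 5, 5, 5, 5, 6, 6, 6, 3, 3]), ([3, 3, 3, 2, 2, 2, 3, 2, 4, 3, 3, 4, 4, 4, 5, 5, 6, 6, 3, 3], [2, 2, 2, 2, 2, 4, 4, 3, 4, 5, 5, 5, 5, 5, 5, 7]), ([2, 2, 3, 3, 2, 2, 2, 3, 3, 4, 3, 4, 4, 5, 5, 5, 5, 5, 5, 5, 5, 6, 6, 7, 3, 3], [3, 2, 2, 3, 2, 3, 2, 4, 3, 4, 4, 5, 5, 5, 5, 5, 3, 3]), ([2, 3, 3, 3, 2, 6, 6, 7], [2, 2, 3, 2, 2, 3, 2, 3, 4, 4, 4, 5, 5, 5, 5, 5, 6, 6]), ([3, 2, 3, 2, 2, 2, 2, 2, 3, 4, 4, 3, 3, 4, 5, 5, 5, 3,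 6, 7], [2, 3, 2, 2, 2, 2, 2, 3, 3, 4, 4, 4, 5, 5, 6, 3]), ([3, 3, 2, 3, 3, 2, 2, 2, 4, 6, 3], [2, 2, 3, 2, 3, 3, 3, 2, 3]), ([3, 2, 3, 2, 2, 2, 2, 2, 2, 3, 4, 3, 4, 4, 5, 5, 5, 5, 5, 5, 5, 5, 5, 3, 6, 7, 3], [3, 2, 2, 3, 2, 3, 2, 4, 4, 4, 6, 3, 3]), ([2, 2, 3, 2, 2, 3, 2, 4, 3, 4, 3, 4, 5, 3, 6, 7, 3, 3, 3], [2, 3, 3, 2, 2, 3, 3, 2, 4, 3, 3, 4, 4, 3, 4, 6, 7, 3]), ([2, 2, 3, 2, 2, 3, 2, 4, 3, 4, 3, 4, 5, 5, 5, 5, 5, 5, 5, 5, 5, 7, 3, 3, 3], [2, 3, 2, 2, 2, 3, 2, 4, 3, 4, 4, 5, 5, 5, 5, 5, 5, 5, 6, 6, 6, 7, 3]), ([2, 3, 3, 3, 2, 3, 2, 4, 3, 4, 4, 4, 3, 4, 5, 5, 5, 5, 6, 7], [2, 2, 2, 3, 3, 3, 2, 4, 3, 3, 3, 4, 3, 4,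 5, 5, 5, 5, 5, 5, 3, 6, 7, 3, 3, 3]), ([2, 3, 3, 3, 2, 3, 2, 4, 3, 4, 4, 4, 3, 4, 5, 5, 6, 6, 7, 3], [3, 3, 2, 2, 2, 3, 3, 2, 4, 3, 3, 4, 3, 4, 5, 5, 5, 6, 3, 3, 3]), ([2, 3, 2, 3, 2, 2, 4, 3, 3, 4, 4, 3, 4, 5, 5, 5, 5, 5, 5, 5, 5, 3, 6, 3], [2, 3, 3, 2, 3, 3, 2, 2, 2, 3, 4, 3, 3, 4, 3, 4, 5, 5, 6, 6, 6, 3, 3]), ([2, 3, 2, 2, 2, 2, 2, 3, 4, 4, 5, 5, 5, 5, 5, 6, 6, 6, 7, 3, 3], [2, 3, 3, 3, 2, 3, 2, 2, 3, 3, 4, 4, 3, 4, 5, 5, 5, 5, 5, 6, 3]), ([2, 3, 3, 2, 2, 3, 2, 3, 3, 4, 4, 4, 5, 5, 5, 5, 5, 6, 7, 3, 3, 3], [3, 3, 3, 2, 2, 3, 3, 4, 4, 4, 5, 5, 5, 5, 3, 6, 7, 3, 3, 3]), ([3, 2, 2, 2, 3, 2, 3, 2, 4, 3, 4, 4, 4, 5, 6,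 6, 7, 3], [2, 3, 2, 2, 2, 3, 2, 4, 4, 3, 4, 5, 5, 5, 5, 5, 5, 5, 5, 6, 6, 7, 3, 3]), ([3, 2, 3, 2, 2, 3, 3, 2, 3, 3, 4, 4, 3, 4, 5, 5, 5, 5, 5, 5, 5, 5, 5, 6, 6, 6, 7, 3], [2, 2, 3, 2, 2, 2, 2, 2, 3, 3, 4, 4, 3, 4, 5, 5, 5, 5, 6, 6, 6, 3, 3, 3]), ([3, 2, 2, 2, 3, 3, 2, 3, 3, 4, 4, 3, 4, 5, 5, 5, 5, 5, 5, 5, 5, 5, 6, 7], [2, 3, 3, 2, 2, 3, 3, 2, 4, 4, 5, 5, 5, 5, 5, 5, 5, 6, 7, 3, 3, 3]), ([2, 2, 3, 2, 2, 2, 3, 3, 4, 4, 4, 3, 4, 5, 5, 5, 5, 5, 5, 6, 6, 6, 3, 3, 3], [2, 3, 2, 2, 3, 3, 2, 3, 3, 4, 3, 4, 5, 5, 5, 5, 5, 5, 5, 5, 5, 6, 6, 6, 7, 3]), ([2, 2, 3, 3, 3, 2, 3, 2, 3, 3, 4, 3, 4, 5, 5, 5, 5, 5, 5, 5, 5, 5, 3, 6,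 7], [2, 3, 2, 2, 2, 2, 3, 4, 3, 3, 4, 3, 4, 5, 5, 6, 6, 7, 3, 3, 3]), ([3, 4, 4, 5, 5, 5, 5, 5, 5, 5, 5, 6, 7, 3], [3, 2, 2, 2, 3, 3, 2, 4, 4, 3, 3, 4, 5, 5, 5, 5, 5, 5, 5, 3, 6, 7, 3]), ([2, 5, 5, 5, 5, 5, 5, 5, 5, 5, 3, 6, 3, 3], [3, 3, 2, 3, 3, 2, 2, 2, 3, 3, 4, 3, 4, 5, 5, 5, 5, 5, 5, 3, 6, 7]), ([4, 3, 3, 3, 4, 3, 4, 5, 5, 5, 5, 5, 5, 5, 5, 5, 6, 6, 6, 3], [3, 3, 2, 2, 3, 2, 5, 3, 3, 3]), ([2, 2, 3, 3, 3, 2, 3, 2, 3, 3, 3, 4, 3, 4, 5, 5, 5, 5, 6, 6, 6, 3], [3, 2, 2, 2, 3, 2, 3, 3, 4, 3, 4, 5, 5, 5, 5, 5, 7, 3, 3, 3]), ([3, 3, 2, 3, 3, 2, 3, 4, 4, 3, 3, 4, 5, 5, 5, 5, 5, 5, 5, 7, 3, 3], [3, 3, 2, 2, 2, 4, 4, 3,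 4, 5, 5, 5, 5, 5, 5, 3, 6]), ([2, 2, 2, 2, 3, 3, 2, 4, 3, 3, 4, 4, 3, 4, 5, 5, 5, 5, 5, 5, 5, 3, 6, 7, 3, 3], [3, 3, 3, 2, 3, 3, 2, 3, 3, 3, 4, 3, 4, 4, 5, 3, 6, 7]), ([2, 3, 3, 3, 2, 3, 3, 2, 3, 3, 4, 4, 3, 4, 5, 5, 5, 5, 6, 6, 6, 7, 3, 3], [2, 2, 2, 2, 2, 3, 2, 3, 3, 4, 4, 3, 4, 5, 6, 6, 3, 3]), ([3, 2, 3, 2, 2, 3, 3, 2, 4, 3, 3, 4, 5, 5, 3, 6, 7, 3, 3, 3], [2, 3, 2, 3, 2, 4, 3, 3, 4, 3, 4, 5, 5, 5, 5, 6, 3, 3, 3]), ([2, 2, 3, 3, 3, 2, 3, 2, 2, 4, 4, 3, 4, 5, 5, 5, 5, 5, 5, 6, 6, 3], [2, 2, 3, 3, 3, 2, 4, 3, 4, 4, 4, 5, 5, 6, 6, 6, 3]), ([3, 4, 4, 3, 3, 4, 5, 5, 5, 5, 5, 6, 6, 6, 3, 3], [3, 2, 2, 2, 3, 2, 3, 2, 4,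 3, 4, 4, 4, 3, 4, 5, 5, 5, 5, 5, 5, 5, 5, 3, 6, 7, 3, 3]), ([2, 2, 3, 3, 3, 2, 3, 2, 3, 4, 3, 3, 4, 3, 4, 5, 6, 6, 6, 3], [2, 2, 3, 3, 3, 2, 3, 2, 2, 4, 3, 3, 4, 4, 4, 5, 5, 5, 5, 5, 6, 3]), ([2, 2, 3, 3, 3, 2, 3, 2, 4, 3, 3, 4, 3, 4, 5, 5, 5, 5, 5, 5, 5, 5, 5, 6, 7, 3], [2, 3, 2, 2, 3, 3, 4, 4, 4, 5, 5, 5, 5, 5, 5, 5, 5, 5, 3, 6]), ([4, 3, 3, 4, 4, 4], [2, 2, 3, 3, 2, 2, 2, 4, 3, 4, 3, 4, 5, 5, 5, 5, 5, 5, 5, 5, 5, 6, 6, 7]), ([2, 3, 2, 2, 2, 2, 2, 4, 3, 3, 3, 4, 3, 4, 5, 5, 5, 5, 5, 5, 5, 5, 3, 3, 3], [2, 2, 3, 3, 3, 2, 4, 3, 4, 4, 4, 5, 5, 6, 6, 6]), ([2, 3, 2, 3, 2, 2, 4, 3, 3, 4, 3, 4, 5, 5, 5, 5, 5, 5, 6], [2,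 2, 3, 2, 3, 2, 4, 3, 4, 4, 5, 5, 5, 5, 5, 3, 3])],
    [([2, 3, 2, 2, 2, 3, 2, 2, 4, 4, 4, 5, 7, 3], [2, 2, 2, 2, 4, 3, 3, 4, 4, 4, 5, 5, 5, 5, 5, 7, 3, 3]), ([2, 3, 3, 3, 2, 3, 3, 2, 4, 3], [2, 2, 3, 2, 3, 3, 3, 2, 4, 3, 3, 4, 4, 4, 5, 5, 5, 3]), ([2, 3, 2, 2, 3, 2, 3, 4, 3, 4, 4, 5, 5, 5, 5, 5, 5, 5, 5, 5, 6, 6, 6, 7, 3, 3], [2, 3, 2, 2, 2, 3, 2, 2, 4, 3, 3, 4, 3, 4, 5, 5, 5, 5, 5, 6, 6, 6, 7]), ([2, 2, 3, 3, 3, 2, 2, 3, 3, 4, 4, 5, 5, 5, 5, 5, 5, 5, 6, 6, 3], [3, 2, 3, 2, 2, 2, 3, 2, 2, 3, 3, 3, 4, 5, 3, 6, 7]), ([2, 2, 2, 2, 2, 2, 4, 5, 5, 3, 3], [3, 3, 3, 2, 3, 2, 2, 4, 4, 4, 5, 5, 3, 6, 3, 3]), ([3, 3, 3, 2, 2,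 2, 2, 3, 4, 3, 3, 4, 3, 4, 5, 5, 5, 5, 5, 5, 5, 5, 3, 6, 7], [3, 2, 3, 2, 2, 3, 3, 2, 4, 3, 4, 4, 5, 5, 5, 5, 5, 5, 5, 5, 6, 3]), ([3, 3, 3, 2, 2, 2, 2, 4, 3, 3, 4, 3, 4, 5, 5, 6, 3, 3, 3], [3, 2, 2, 3, 3, 2, 2, 2, 4, 3, 4, 4, 4, 3, 4, 5, 5, 5, 5, 5, 3, 6, 3]), ([2, 2, 3, 3, 3, 2, 3, 2, 2, 3, 3, 3, 4, 7, 3, 3], [3, 2, 2, 2, 3, 2, 2, 2, 4, 3, 3, 4, 3, 4, 5, 5, 5, 5, 5, 6, 7, 3, 3, 3]), ([3, 3, 3, 4, 5, 5, 5, 5, 5, 5, 5, 7, 3, 3], [2, 2, 3, 3, 3, 2, 3, 2, 2, 3, 4, 3, 3, 4, 3, 4, 5, 5, 5, 5, 5, 5, 5, 3, 6, 7, 3, 3]), ([3, 3, 3, 2, 2, 2, 2, 4, 3, 4, 4, 5, 5, 7, 3, 3, 3], [3, 2, 2, 2, 3, 2, 2, 4, 3, 3, 4, 3, 4, 5, 5, 5,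 5, 5, 6, 6, 6, 7]), ([3, 3, 3, 2, 2, 2, 2, 3, 4, 5, 5, 5, 5, 5, 3, 6, 7, 3, 3, 3], [2, 3, 2, 2, 2, 2, 4, 3, 4, 4, 4, 3, 4, 5, 5, 6, 6, 7]), ([3, 3, 2, 3, 3, 3, 2, 3, 4, 4, 3, 4, 5, 5, 5, 5, 6, 7, 3, 3, 3], [3, 3, 2, 2, 2, 3, 3, 3]), ([3, 3, 2, 3, 3, 3, 2, 3, 3, 4, 4, 3, 4, 5, 5, 5, 6, 3, 3, 3], [3, 2, 3, 3, 2, 2, 2, 3, 3, 4, 4, 4, 5, 5, 5, 5, 5, 5, 6, 6, 7, 3, 3, 3]), ([3, 2, 2, 3, 2, 5, 5, 5, 5, 7, 3, 3, 3], [2, 2, 2, 2, 2, 3, 4, 3, 4, 4, 3, 6, 7, 3, 3, 3]), ([2, 3, 3, 3, 2, 2, 3, 4, 4, 3, 3, 4, 5, 5, 5, 5, 5, 5, 6, 3], [2, 2, 3, 3, 3, 2, 3, 2, 2, 4, 3, 4, 4, 4, 3, 4, 5, 5, 3, 6, 7]), ([2, 2, 3, 2, 3, 2, 2, 4, 3, 4,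 3, 4, 5, 6, 6, 6, 7], [2, 2, 2, 3, 2, 3, 3]), ([2, 2, 2, 3, 2, 3, 2, 2, 4, 3, 4, 5, 6, 7, 3, 3, 3], [3, 3, 2, 2, 3, 3, 2, 3, 3, 3, 4, 3, 4, 4, 5, 5, 5, 6, 6, 3]), ([2, 2, 2, 3, 3, 3, 2, 3, 3, 4, 3, 4, 5, 5, 5, 5, 5, 6, 6, 6, 3], [3, 2, 2, 3, 3, 2, 2, 2, 3, 4, 3, 3, 4, 3, 4, 5, 5, 5, 5, 5, 7, 3, 3, 3]), ([3, 2, 2, 3, 3, 2, 3, 3, 3, 4, 3, 4, 4, 5, 5, 5, 5, 5, 5, 5, 5, 5, 6, 7, 3], [2, 2, 3, 2, 2, 2, 4, 3, 4, 4, 4, 5, 5, 5, 3, 6, 7, 3, 3, 3]), ([2, 3, 2, 2, 2, 2, 2, 3, 3, 4, 4, 4, 5, 5, 5, 5, 5, 6, 6, 3], [3, 3, 2, 2, 3, 3, 2, 2, 2, 3, 3, 3, 4, 5, 5, 5, 5, 5, 6, 6, 6, 7]), ([3, 3, 2, 2, 2, 2, 2, 4, 3, 3, 4, 5, 5, 5, 5,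 5, 5, 5, 7, 3], [3, 2, 2, 3, 3, 2, 4, 4, 4, 3, 4, 6, 6, 6, 7, 3, 3, 3]), ([3, 2, 2, 3, 2, 2, 2, 2, 4, 3, 3, 4, 4, 4, 5, 5, 5, 5, 5, 5, 5, 5, 5], [3, 3, 2, 3, 3, 2, 2, 2, 4, 4, 5, 5, 5, 6, 6, 3]), ([2, 3, 2, 3, 2, 2, 4, 4, 4, 3, 4, 5, 5, 5, 5, 5, 5, 5, 3, 6, 7], [3, 2, 2, 3, 3, 2, 3, 3, 4, 4, 5, 7]), ([2, 3, 2, 3, 2, 3, 3, 2, 3, 3, 4, 4, 5, 5, 5, 5, 5, 5, 5, 5, 5, 3, 6, 3, 3], [3, 3, 2, 2, 2, 3, 3, 2, 4, 5, 5, 5, 5, 5, 5, 6, 6, 3, 3]), ([3, 3, 3, 2, 2, 2, 3, 2, 4, 3, 3, 4, 4, 3, 4, 5, 6, 6, 6], [2, 2, 3, 3, 3, 2, 3, 3, 3, 4, 3, 4, 4, 5, 6, 6, 3]), ([2, 2, 3, 3, 3, 2, 4, 3, 4, 3, 4, 5, 5, 5, 6, 6, 6, 7, 3], [3, 2, 2,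 3, 2, 2, 4, 4, 4, 5, 3, 6, 7]), ([2, 3, 3, 3, 2, 2, 2, 3, 2, 3, 3, 3, 4, 5, 5, 5, 5, 5, 5, 5, 5, 6, 6, 3, 3, 3], [2, 2, 2, 2, 3, 3, 4, 4, 5, 6, 6, 7, 3, 3]), ([3, 3, 2, 2, 2, 3, 2, 4, 4, 5, 5, 5, 5, 5, 7, 3, 3], [3, 2, 2, 3, 2, 2, 4, 3, 4, 4, 5, 6, 7, 3, 3, 3]), ([2, 2, 3, 3, 3, 2, 4, 4, 3, 3, 4, 5, 5, 5, 5, 5, 5, 5, 5, 5, 7], [3, 2, 2, 3, 3, 3, 2, 2, 3, 3, 4, 4, 5, 5, 5, 6, 6, 3]), ([2, 3, 3, 3, 2, 2, 2, 3, 2, 3, 4, 5, 5, 5, 5, 5, 5, 5, 5, 6, 6, 6, 7, 3], [3, 3, 2, 3, 2, 2, 4, 4, 5, 5, 5, 5, 5, 6, 6, 3, 3]), ([2, 2, 3, 2, 2, 2, 2, 2, 2, 5, 5, 5, 5, 5, 5, 5, 5, 5, 6, 6, 6, 7, 3, 3, 3], [3, 2, 3, 2, 2, 3, 3, 2, 3, 3,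 4, 3, 4, 5, 5, 5, 5, 3, 6, 7, 3, 3, 3]), ([2, 2, 3, 2, 2, 2, 2, 2, 2, 4, 3, 3, 4, 5, 5, 5, 5, 5, 5, 5, 5, 3, 6, 3], [3, 3, 2, 2, 2, 3, 2, 2, 2, 3, 3, 3, 4, 3, 4, 3, 3, 3]), ([2, 2, 3, 2, 2, 3, 2, 4, 3, 3, 4, 5, 5, 5, 5, 5, 5, 5, 5, 5, 7, 3, 3, 3], [2, 2, 3, 2, 3, 3, 3, 2, 3, 3]), ([2, 2, 3, 2, 2, 3, 2, 3, 3, 4, 4, 4, 3, 4, 5, 6, 6, 3], [2, 2, 3, 2, 3, 2, 2, 3, 4, 3, 4, 4, 5, 5, 5, 5, 6, 6, 6]), ([3, 2, 3, 2, 4, 3, 4, 3, 4, 5], [3, 3, 2, 3, 2, 3, 3, 4, 4, 4, 5, 6, 7, 3, 3, 3]), ([3, 2, 3, 2, 3, 3, 3, 4, 3, 4, 4, 3, 6], [2, 3, 2, 2, 3, 3, 2, 2, 2, 3, 4, 5, 5, 5, 5, 5, 6, 6, 6, 3, 3]), ([2, 3, 3, 3, 2, 3, 2, 2, 3, 3, 3,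 4, 3, 4, 5, 5, 6, 6, 6, 7, 3, 3], [3, 2, 3, 3, 2, 4, 3, 4, 5, 5, 5, 5, 5, 5, 5, 6, 7, 3, 3]), ([2, 3, 3, 3, 2, 3, 2, 2, 4, 3, 3, 4, 3, 4, 5, 5, 5, 5, 5, 3], [2, 3, 3, 2, 3, 3, 2, 2, 2, 4, 3, 4, 4, 4, 3, 4, 5, 5, 5, 5, 6, 3, 3, 3]), ([2, 2, 2, 2, 2, 3, 2, 3, 4, 3, 4, 4, 5, 5, 5, 3, 6, 3, 3, 3], [2, 3, 2, 3, 2, 2, 3, 3, 3, 4, 3, 4, 4, 5, 5, 5, 5, 5, 3, 6, 7, 3, 3, 3]), ([2, 2, 2, 2, 2, 3, 2, 3, 3, 4, 4, 5, 5, 3, 6, 3], [3, 2, 3, 2, 3, 3, 2, 4, 3, 3, 3, 4, 3, 4, 5, 5, 5, 5, 5, 5, 5, 5, 3, 6, 7, 3, 3]), ([3, 2, 3, 2, 2, 4, 3, 4, 4, 4, 5, 5, 6, 6, 3], [3, 3, 3, 2, 2, 2, 4, 3, 3, 4, 3, 4, 5, 5, 5, 5, 6, 6, 7, 3, 3]), ([3,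 2, 3, 2, 2, 3, 3, 3, 4, 3, 4, 4, 5, 5, 5, 5], [2, 3, 3, 2, 2, 2, 3, 4, 4, 3, 4, 5, 6, 6, 6, 7, 3, 3]), ([3, 4, 4, 5, 5, 5, 5, 5, 5, 5, 5, 5, 3, 6, 7, 3, 3], [2, 3, 3, 2, 2, 3, 2, 3]), ([2, 3, 3, 2, 2, 2, 5, 5, 5, 5, 5, 5, 6, 6, 6, 7], [2, 3, 2, 3, 3, 2, 2, 2, 3, 3, 4, 4, 5, 5, 5, 5, 5, 5, 6, 3, 3]), ([2, 3, 3, 2, 3, 2, 4, 3, 4, 3, 4, 6, 7, 3, 3, 3], [2, 3, 2, 2, 3, 2, 3, 2, 3, 3, 4, 4, 4, 5, 5, 5, 5, 5, 5, 5, 5, 3, 6, 7]), ([2, 2, 2, 2, 4, 3, 4, 4, 5, 5, 7, 3, 3], [3, 2, 2, 2, 2, 4, 3, 3, 4, 5, 5, 5, 6]), ([3, 3, 4, 4, 4, 5, 5, 5, 5, 5, 5, 5, 5, 7, 3], [3, 2, 3, 2, 4, 3, 4, 3, 4, 5, 5, 3, 3]), ([3, 3, 3, 2, 2, 2, 3,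 2, 4, 4, 5, 5, 5, 5, 5, 3, 3], [3, 3, 2, 2, 2, 3, 2, 2, 2, 4, 3, 4, 4, 5, 5, 5, 5, 5, 5, 5, 5, 6, 3, 3]), ([2, 3, 2, 3, 2, 3, 3, 2, 4, 3, 4, 4, 4, 3, 4, 5, 5, 5, 5, 5, 5, 5, 5, 5, 6, 3, 3, 3], [3, 3, 3, 2, 3, 2, 2, 3, 4, 3, 4, 4, 5, 5, 5, 5, 6, 6, 6]), ([2, 3, 2, 3, 2, 2, 4, 3, 4, 5, 5, 5, 5, 6, 3, 3], [3, 3, 3, 2, 3, 2, 2, 3, 3, 3, 4, 3, 4, 4, 5, 5, 5, 5, 5, 5, 5, 5, 6, 6, 6, 7, 3]), ([3, 2, 2, 2, 2, 4, 4, 4, 5, 5, 5, 5, 5, 5, 5, 6, 7, 3, 3, 3], [2, 3, 2, 3, 2, 3, 2, 4, 4, 4, 3, 4, 5, 5, 5, 5, 5, 5, 5, 6, 6, 7, 3, 3]), ([3, 2, 2, 2, 2, 3, 3, 4, 4, 3, 4, 5, 5, 6, 6, 6, 3, 3, 3], [2, 2, 2, 2, 2, 2, 4, 4, 5, 5, 5, 3,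 6, 7, 3, 3]), ([3, 3, 2, 3, 2, 2, 2, 4, 4, 4, 3, 4, 5, 5, 5, 5, 7, 3], [2, 3, 3, 3, 2, 4, 4, 5, 5, 5, 5, 5, 5, 5, 6, 7, 3, 3, 3]), ([3, 3, 2, 3, 2, 2, 2, 3, 4, 3, 4, 4, 5, 3, 6, 3], [3, 3, 3, 2, 3, 2, 3, 2, 4, 4, 4, 3, 4, 5, 5, 5, 5, 5, 5, 5, 6, 6, 3, 3, 3]), ([4, 4, 5, 5, 6, 6, 3, 3], [2, 3, 2, 2, 2, 3, 2, 2, 4, 4, 3, 4, 5, 6, 6, 6, 3, 3]), ([3, 2, 2, 3, 3, 2, 4, 4, 4, 3, 4, 5, 5, 5, 6, 7, 3, 3], [2, 2, 3, 3, 2, 3, 3, 4, 3, 4, 5, 5, 5, 5, 5, 5, 5, 5, 5, 6, 6, 6, 7, 3]), ([2, 2, 3, 3, 2, 3, 4, 3, 3, 4, 3, 4, 5, 5, 5, 5, 5, 5, 5, 5, 5, 6, 3], [3, 3, 3, 2, 2, 2, 3, 4, 4, 4, 3, 4, 6, 6, 7, 3, 3]), ([3, 3, 3, 4, 3, 4, 5,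 5, 5, 5, 5, 5, 5, 5, 6, 6, 6, 7], [3, 2, 2, 2, 3, 2, 4, 4, 3, 3, 4, 6, 6, 6, 7, 3]), ([3, 2, 2, 3, 3, 2, 2, 2, 4, 3, 4, 4, 3, 3], [2, 2, 3, 3, 3, 2, 4, 3, 4, 3, 4, 5, 5, 3, 6, 3]), ([3, 2, 2, 3, 3, 2, 3, 4, 4, 4, 5, 5, 6, 6, 6, 3], [3, 3, 2, 2, 3, 3, 2, 2, 2, 3, 3, 4, 4, 4, 3, 4, 5, 5, 5, 5, 5, 5, 5, 6, 6]), ([2, 3, 2, 3, 2, 2, 2, 2, 2, 3, 3, 3, 4, 3, 4, 5, 5, 6, 7], [2, 2, 3, 3, 3, 2, 3, 2, 3, 3, 3]), ([2, 3, 2, 2, 2, 2, 3, 4, 4, 3, 4, 5, 6, 6, 6], [3, 2, 2, 2, 3, 2, 2, 2, 4, 4, 3, 3, 4, 5, 5, 5, 5, 6, 6, 6, 7, 3]), ([2, 3, 2, 3, 2, 3, 3, 2, 3, 3, 3, 4, 5, 5, 5, 5, 5, 5, 5, 5, 5, 3, 3, 3], [2, 2, 3, 2, 2, 3, 3, 3,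 4, 3, 4, 5, 5, 5, 5, 5, 5, 5, 5, 6, 3, 3]), ([3, 2, 3, 3, 3, 2, 3, 3, 3, 4, 3, 4, 5, 5, 5, 5, 3, 3], [3, 2, 2, 3, 2, 2, 2, 2, 3, 4, 3, 4, 4, 5, 5, 5, 5, 5, 5, 5, 5, 3, 6, 3, 3])],
    [([3, 2, 2, 2, 2, 2, 2, 3, 3, 4, 4, 4, 5, 5, 5, 5, 5, 6, 6, 6], [2, 3, 2, 3, 3, 2, 2, 2, 4, 3, 3, 4, 4, 3, 4, 5, 5, 5, 5, 5, 5, 5, 5, 7, 3]), ([3, 3, 2, 2, 2, 2, 4, 4, 3, 4, 5, 5, 3, 6, 7], [3, 3, 3, 2, 3, 3, 2, 4, 3, 4, 4, 4, 3, 4, 5, 5, 6, 6, 6, 3]), ([2, 3, 2, 2, 3, 2, 3, 3, 4, 4, 3, 4, 5, 3, 6, 3], [2, 3, 3, 3, 2, 3, 2, 2, 3, 3, 3, 4, 3, 4, 5, 5, 5, 5, 5, 5, 5, 5, 6, 3, 3]), ([2, 3, 2, 3, 2, 5, 5, 5, 5, 5, 5, 5, 5, 6, 6], [3, 3, 3,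 2, 2, 2, 2, 3, 2, 4, 3, 4, 4, 4, 3, 4, 5, 7, 3, 3, 3]), ([2, 2, 3, 3, 2, 2, 2, 4, 3, 4, 3, 4, 5, 5, 5, 6, 6, 6, 3, 3, 3], [2, 2, 3, 3, 3, 2, 3, 2, 4, 3, 4, 4, 5, 5, 5, 5, 5, 5, 5, 6, 3, 3]), ([2, 3, 3, 2, 3, 2, 3, 4, 3, 4, 5, 5, 5, 7, 3, 3], [2, 2, 3, 2, 2, 2, 3, 3, 4, 4, 3, 4, 5, 5, 5, 5, 5, 5, 5, 6, 3, 3, 3]), ([2, 3, 3, 2, 2, 2, 4, 3, 3, 4, 5, 6, 3, 3, 3], [2, 2, 2, 3, 3, 3, 2, 4, 3, 4, 3, 4, 5, 5, 3, 6, 3, 3]), ([4, 4, 3, 4, 5, 6, 6, 7], [3, 3, 2, 3, 3, 3, 2, 3, 3]), ([3, 3, 2, 2, 2, 3, 4, 4, 4, 5, 5, 5, 5, 5, 5, 5, 6, 7, 3, 3, 3], [3, 3, 2, 2, 2, 2, 2, 6, 6, 7, 3]), ([2, 3, 2, 3, 3, 2, 3, 3, 4, 4, 4, 3, 4, 5, 5,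 5, 5, 5, 5, 6, 6, 3, 3], [2, 2, 3, 2, 2, 2, 2, 4, 3, 3, 4, 4, 3, 4, 3, 6, 3, 3, 3]), ([3, 2, 2, 2, 2, 2, 2, 3, 4, 3, 3, 4, 3, 4, 5, 5, 5, 5, 5, 6, 6, 3, 3, 3], [2, 3, 2, 2, 3, 3, 3, 4, 3, 4, 5, 5, 5, 5, 5, 5, 5, 5, 6, 3, 3]), ([2, 2, 3, 2, 3, 2, 3, 4, 3, 4, 4, 5, 5, 5, 5, 5, 6, 7], [2, 2, 2, 2, 2, 2, 3, 4, 3, 4, 4, 5, 5, 5, 5, 5, 5, 5, 5, 5, 6, 6, 6, 7, 3, 3, 3]), ([2, 3, 2, 3, 3, 3, 2, 4, 3, 4, 5, 5, 5, 5, 5, 5, 6, 6, 7, 3, 3], [3, 2, 3, 3, 2, 2, 3, 2, 4, 5, 5, 5, 5, 5, 5, 5, 5, 5, 6, 6]), ([2, 2, 2, 2, 4, 4, 3, 4, 5, 5, 3, 6, 7, 3, 3], [3, 2, 3, 3, 2, 4, 4, 5, 5, 5, 5, 5, 5, 5, 6, 7]), ([4, 3, 4, 4, 5, 5, 5, 5, 6,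 6, 6, 3, 3], [2, 3, 2, 2, 2, 2, 3, 3, 3, 4, 3, 4, 4, 5, 5, 5, 7, 3, 3]), ([3, 2, 3, 2, 2, 3, 4, 3, 4, 4, 5, 5, 5, 5, 5, 5, 5, 5, 5, 3, 6, 7, 3, 3, 3], [2, 3, 3, 3, 2, 2, 2, 3, 2, 3, 3, 4, 3, 4, 5, 6, 6, 7]), ([3, 2, 3, 2, 2, 4, 3, 3, 4, 5, 5, 5, 5, 5, 5, 5, 5, 5, 6, 6, 7, 3, 3, 3], [3, 3, 2, 3, 3, 3, 2, 3, 3, 3]), ([3, 2, 3, 2, 2, 4, 3, 4, 4, 4, 3, 4, 5, 5, 5], [2, 3, 3, 2, 3, 2, 4, 3, 4, 4, 4, 5, 5, 5, 6, 3, 3, 3]), ([3, 2, 3, 2, 2, 2, 4, 4, 4, 5, 5, 5, 5, 5, 3, 6, 3, 3], [3, 3, 2, 2, 3, 2, 3, 4, 4, 3, 3, 4, 5, 5, 5, 5, 6, 6, 6, 7, 3, 3]), ([3, 3, 2, 3, 3, 2, 2, 2, 3, 3, 3, 4, 3, 4, 4, 5, 5, 5, 5, 5, 5, 5, 5, 5, 3,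 3], [2, 3, 3, 2, 2, 2, 4, 3, 4, 4, 5, 5, 3]), ([2, 2, 3, 2, 2, 3, 2, 3, 3, 4, 4, 4, 3, 4, 5, 5, 5, 5, 5, 6, 6, 3, 3, 3], [3, 3, 2, 2, 3, 3, 2, 4, 4, 4, 3, 4, 6, 6, 6, 7, 3, 3, 3]), ([3, 2, 3, 2, 2, 2, 3, 2, 2, 3, 3, 3, 4, 3, 4, 5, 5, 5, 5, 5, 5, 5, 5, 5, 7, 3, 3], [3, 2, 2, 3, 3, 3, 2, 2, 3, 3, 4, 3, 4, 4, 5, 5, 5, 5, 5, 5, 6, 6, 6]), ([3, 3, 3, 2, 3, 2, 2, 2, 3, 3, 4, 3, 4, 4, 5, 5, 5, 5, 5, 5, 3, 6, 7, 3, 3], [3, 3, 3, 2, 3, 2, 2, 4, 4, 4, 5, 5, 5, 3, 6]), ([3, 2, 3, 2, 3, 4, 3, 3, 4, 3, 4, 5, 5, 5, 5, 5, 5, 6, 3], [2, 2, 3, 2, 3, 3, 3, 2, 4, 3, 4, 5, 5, 5, 5, 5, 3, 6, 7, 3]), ([3, 2, 3, 2, 3, 4, 3, 3, 4, 3, 4, 5,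 5, 5, 5, 6, 6, 3, 3], [3, 3, 3, 2, 2, 2, 3, 2, 4, 5, 5, 5, 5, 5, 5, 5, 5, 6, 6, 6, 7, 3]), ([3, 2, 4, 3, 4, 3, 4, 6, 6, 7], [3, 2, 2, 2, 3, 2, 2, 2, 3, 4, 4, 4, 5, 6, 6, 6, 3]), ([3, 2, 4, 3, 4, 3, 4, 5, 5, 5, 5, 6, 6, 6, 7, 3], [2, 2, 2, 3, 2, 3, 2, 2, 4, 3, 4, 5, 5, 5, 5, 5, 5, 5, 6, 7, 3, 3, 3]), ([2, 3, 2, 2, 3, 2, 3, 2, 4, 3, 4, 4, 4, 5, 5, 5, 5, 5, 5, 5, 6, 6], [2, 2, 3, 2, 3, 2, 2, 3, 3, 3]), ([2, 3, 2, 2, 3, 2, 3, 2, 3, 4, 3, 3, 4, 3, 4, 5, 5, 5, 6, 3, 3], [2, 2, 2, 3, 2, 2, 2, 3, 4, 4, 3, 4, 5, 5, 5, 5, 5, 5, 5, 3, 6, 7, 3]), ([2, 3, 2, 2, 3, 2, 3, 2, 4, 3, 3, 3, 4, 3, 4, 6, 6, 7, 3, 3], [3, 2, 2, 2, 3, 4,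 4, 4, 3, 4, 6, 6, 6, 7, 3, 3]), ([2, 2, 2, 2, 3, 4, 4, 5, 5, 5, 6, 6, 7, 3, 3], [2, 2, 2, 3, 2, 3, 2, 3, 4, 4, 3, 3, 4, 5, 6, 6, 6, 3, 3, 3]), ([3, 4, 4, 3, 3, 4, 5, 5, 3, 6, 3], [3, 2, 2, 2, 2, 2, 3, 3, 4, 3, 4, 5, 5, 5, 5, 5, 5, 5, 5, 5, 6, 6, 3, 3]), ([3, 2, 3, 3, 3, 2, 2, 4, 3, 4, 4, 5, 5, 5, 5, 5, 5, 5, 5, 7], [2, 3, 2, 2, 3, 2, 3, 2, 3, 3, 4, 5, 5, 5, 5, 5, 5, 5, 5, 5, 6, 7, 3, 3, 3]), ([2, 3, 2, 3, 3, 2, 3, 3, 4, 5, 5, 5, 5, 5, 5, 5, 5, 7], [2, 2, 3, 3, 4, 3, 4, 4, 5, 5, 5, 5, 5, 5, 5, 5, 5, 6, 6, 7, 3]), ([2, 2, 3, 3, 3, 2, 2, 3, 3, 3, 4, 5, 6, 6, 6, 7], [3, 2, 3, 2, 2, 3, 3, 2, 3, 3]), ([3, 2, 2, 2, 2, 2, 3,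 3, 4, 4, 5, 5, 5, 5, 5, 5, 5, 6, 6, 6, 7, 3, 3, 3], [2, 3, 3, 3, 2, 3, 2, 2, 3, 3, 4, 4, 4, 5, 6, 6, 7, 3, 3, 3]), ([2, 2, 3, 3, 3, 2, 3, 2, 2, 3, 3, 4, 4, 4, 3, 4, 6, 6, 3, 3, 3], [3, 2, 2, 2, 3, 2, 2, 2, 3, 4, 4, 3, 4, 5, 5, 5, 5, 5, 5, 5, 6, 6, 7]), ([5, 5, 5, 5, 5, 5, 6, 7], [3, 3, 2, 2, 2, 3, 2, 4, 6, 6, 7, 3, 3, 3]), ([2, 2, 3, 3, 3, 2, 2, 3, 3, 4, 5, 5, 5, 3], [2, 3, 2, 3, 3, 2]), ([3, 3, 3, 2, 2, 2, 3, 2, 3, 4, 3, 4, 4, 5, 5, 5, 5, 5, 5, 5, 5, 5, 6, 6, 6, 3, 3, 3], [3, 2, 2, 2, 3, 3, 2, 4, 4, 5, 5, 5, 5, 5, 5, 5, 6, 7, 3, 3, 3]), ([2, 2, 2, 3, 2, 3, 2, 2, 4, 3, 4, 5, 5, 6, 6, 6, 7, 3, 3, 3], [3, 3, 2, 2, 2,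 2, 2, 3, 3, 4, 4, 3, 4, 5, 5, 5, 5, 6, 6, 6]), ([2, 2, 2, 3, 3, 3, 2, 3, 3, 4, 3, 4, 5, 5, 5, 5, 6, 3], [2, 2, 2, 2, 2, 3, 3, 4, 3, 4, 5, 5, 5, 5, 5, 5, 5, 5, 5, 6, 6]), ([3, 2, 2, 3, 3, 2, 3, 3, 3, 4, 3, 4, 4, 6, 6, 6, 7, 3], [3, 3, 2, 2, 3, 2, 3, 4, 4, 3, 3, 4, 5, 5, 5, 5, 6, 6, 6, 7, 3, 3, 3]), ([2, 2, 3, 2, 4, 4, 4, 5, 5, 5, 5, 5, 5, 5, 6, 6, 6, 7, 3], [3, 2, 3, 2, 3, 2, 3, 3, 4, 4, 4, 5, 5, 5, 5, 5, 3, 6, 3, 3, 3]), ([3, 3, 3, 2, 3, 3, 2, 4, 3, 3, 4, 5, 5, 5, 6, 6, 6, 7, 3], [3, 3, 2, 2, 2, 3, 2, 3, 4, 4, 3, 3, 4, 5, 5, 5, 6, 6, 3, 3]), ([3, 2, 3, 2, 2, 2, 2, 2, 2, 3, 3, 4, 4, 6, 3, 3, 3], [2, 3, 3, 2, 2, 2, 4,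 4, 3, 3, 4, 6, 6, 6, 7, 3]), ([3, 2, 3, 2, 2, 2, 3, 2, 2, 4, 4, 3, 3, 4, 5, 5, 5, 5, 5, 5, 5, 5, 6, 6, 3], [2, 2, 3, 3, 3, 2, 3, 2, 2, 3, 4, 3, 4, 5, 5, 5, 5, 3, 3, 3]), ([3, 3, 2, 3, 2, 2, 2, 3, 4, 4, 4, 5, 5, 5, 5, 6, 6, 3, 3], [2, 2, 3, 2, 3, 2, 2, 4, 3, 3, 4, 4, 3, 4, 5, 5, 3, 6]), ([2, 2, 2, 3, 4, 4, 4, 5, 5, 5, 5, 5, 5, 5, 6, 7, 3], [3, 2, 2, 3, 2, 3, 4, 3, 4, 4, 5, 5, 5, 5, 5, 5, 5, 5, 6, 7, 3, 3, 3]), ([3, 3, 2, 2, 2, 4, 4, 4, 5, 5, 5, 5, 5, 5, 5, 5, 6, 6, 6, 7, 3, 3], [2, 3, 2, 2, 3, 3, 2, 2, 2, 4, 3, 4, 3, 4, 5, 5, 5, 5, 5, 5, 6, 6, 6]), ([2, 3, 3, 3, 2, 2, 3, 4, 4, 3, 3, 4, 5, 5, 5, 7, 3], [3, 3, 3, 2, 3,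 2, 4, 3, 3, 4, 4, 4, 5, 5, 6, 7]), ([3, 2, 2, 3, 2, 5, 5, 5, 5, 5, 3, 6, 3, 3], [2, 2, 2, 2, 2, 3, 4, 4, 3, 4, 5, 6, 6, 6, 7, 3]), ([2, 2, 3, 2, 3, 2, 2, 4, 3, 4, 3, 4, 5, 5, 5, 5, 5, 5, 6, 7], [3, 3, 2, 3, 2, 2, 4, 3, 3, 4, 6, 6, 7, 3, 3, 3]), ([2, 2, 3, 2, 2, 2, 2, 2, 2, 3, 3, 4, 4, 3, 4, 5, 5, 5, 5, 5, 6, 6, 6, 7, 3, 3], [2, 3, 3, 2, 3, 2, 4, 3, 3, 4, 4, 3, 4, 5, 5, 5, 5, 5, 6]), ([2, 2, 3, 2, 2, 2, 2, 2, 2, 3, 3, 4, 4, 7], [2, 3, 2, 2, 2, 3, 2, 2, 3, 4, 4, 3, 4, 5, 5, 5, 5, 5, 5, 5, 5, 5, 6, 3, 3]), ([2, 2, 3, 2, 2, 2, 2, 2, 2, 4, 3, 4, 4, 5, 5, 5, 5, 5, 5, 5, 5, 6, 7], [3, 3, 3, 2, 3, 2, 2, 2, 3, 3, 4, 3, 4, 5,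 5, 5, 5, 5, 5, 5, 6, 7, 3]), ([3, 2, 2, 3, 2, 3, 3, 4, 4, 4, 5, 5, 5, 5, 5, 5, 5, 5, 5, 6, 3], [3, 2, 2, 2, 3, 3, 2]), ([3, 2, 3, 2, 3, 2, 4, 3, 4, 4, 5, 5, 5, 5, 6, 6, 6, 7, 3, 3], [3, 2, 3, 2, 2, 2, 3, 4, 4, 3, 4, 5, 6, 6, 6, 7, 3, 3]), ([4, 4, 4, 3, 4, 5, 5, 5, 5, 5, 6, 7, 3, 3, 3], [3, 2, 3, 2, 2, 2, 4, 4, 4, 6, 6, 7, 3, 3]), ([3, 2, 2, 2, 3, 2, 2, 3, 3, 3, 4, 3, 4, 4, 5, 5, 5, 5, 5, 5, 5, 5, 5, 6, 6, 7, 3, 3, 3], [2, 2, 2, 2, 2, 3, 4, 3, 4, 4, 5, 5, 6, 6, 6, 3, 3, 3]), ([3, 2, 2, 2, 2, 4, 3, 3, 3, 4, 3, 4, 6, 6, 6], [2, 3, 3, 2, 3, 2, 3, 3, 4, 4, 4, 5, 6, 7]), ([3, 2, 3, 3, 4, 6, 6, 6, 7, 3, 3, 3], [2, 2, 3, 3,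 3, 2, 2, 4, 3, 3, 3, 4, 3, 4, 5, 5, 5, 5, 5, 5, 5, 5, 5, 6]), ([2, 2, 2, 3, 2, 3, 2, 2, 4, 3, 3, 4, 4, 3, 4, 5, 5, 5, 6, 6, 6, 3, 3], [2, 3, 3, 2]), ([3, 3, 2, 2, 2, 2, 3, 2, 5, 5, 5, 5, 5, 5, 5, 6, 6, 3], [2, 3, 3, 3, 2, 3, 2, 2, 4, 3, 4, 5, 5, 5, 5, 5, 6, 7, 3, 3])],
    [([3, 4, 3, 4, 4, 5, 5, 5, 5, 6, 6, 6, 3], [3, 2, 3, 2, 2, 2, 2, 3, 3, 3, 4, 3, 4, 4, 5, 5, 5, 5, 5, 5, 6, 6, 6, 3, 3, 3]), ([2, 3, 3, 2, 3, 3, 2, 2, 2, 4, 4, 3, 4, 5, 5, 5, 5, 5, 5, 5, 5, 5, 3], [2, 3, 3, 3]), ([3, 3, 2, 3, 3, 2, 3, 3, 4, 4, 4, 3, 4, 5, 5, 5, 5, 5, 5, 5, 5, 5, 7], [2, 3, 2, 3, 2, 2, 3, 3]), ([3, 2, 2, 3, 3, 3, 2, 2, 4, 3, 3, 3, 4,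 3, 4, 5, 5, 5, 5, 5, 5, 5, 5, 6, 7, 3, 3], [2, 2, 3, 3, 2, 3, 4, 4, 3, 3, 4, 5, 5, 5]), ([3, 3, 4, 4, 4, 5, 5, 5, 5, 5, 5, 6, 6, 7, 3], [2, 3, 2, 2, 2, 3, 4, 4, 4, 5, 5, 5, 7, 3, 3, 3]), ([2, 3, 3, 2, 2, 3, 3, 2, 4, 4, 3, 4, 5, 5, 5, 5, 5, 5, 3, 6, 7, 3, 3], [3, 2, 3, 3, 3, 2, 3, 2, 3, 4, 3, 3, 4, 3, 4, 5, 5, 5, 5, 5, 5, 5, 5, 3, 6, 3, 3]), ([2, 2, 2, 2, 3, 3, 4, 3, 4, 4, 5, 5, 5, 5, 5, 5, 5, 7], [2, 3, 2, 2, 2, 3, 2, 3, 4, 4, 5, 5, 5, 5, 5, 5, 5, 7, 3, 3, 3]), ([3, 2, 3, 3, 3, 2, 2, 3, 4, 3, 4, 5, 5, 5, 6, 6, 7, 3], [2, 2, 2, 2, 3, 2]), ([3, 2, 2, 2, 2, 3, 3, 4, 4, 4, 3, 4, 5, 5, 5, 5, 6, 3], [2, 2, 3, 2, 2, 3, 2,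 4, 3, 4, 4, 4, 3, 4, 5, 5, 5, 5, 3, 6, 7, 3, 3, 3]), ([3, 2, 3, 3, 3, 2, 3, 4, 4, 4, 5, 5, 5, 6, 6, 6, 3, 3], [3, 3, 3, 2, 2, 2, 2, 3, 2, 4, 3, 3, 4, 3, 4, 5, 5, 5, 5, 3, 6, 7, 3, 3]), ([3, 2, 3, 2, 2, 2, 2, 2, 2, 4, 3, 4, 5, 5, 5, 5, 6, 7, 3, 3, 3], [2, 3, 3, 3, 2, 3, 4, 3, 4, 4, 5, 6, 6, 6, 7, 3, 3, 3]), ([3, 2, 3, 2, 2, 2, 3, 2, 2, 3, 3, 4, 4, 3, 4, 5, 5, 5, 5, 5, 5, 7, 3], [2, 3, 3, 3, 2, 3, 3, 4, 4, 3, 4, 5, 5, 5, 5, 5, 6, 6, 6, 7]), ([2, 2, 3, 2, 5, 5, 5, 5, 7], [2, 2, 3, 2, 2, 3, 2, 3]), ([3, 3, 3, 2, 3, 3, 2, 5, 5, 5, 5, 5, 5, 5, 5, 3, 6, 7, 3, 3], [2, 3, 2, 2, 2, 2, 3, 3, 4, 3, 4, 4, 5, 5, 5, 5, 5, 5, 5, 5,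 5, 6, 6, 7, 3, 3]), ([2, 3, 3, 2, 4, 3, 3, 4, 3, 4, 5, 5, 3, 6, 7, 3, 3], [3, 3, 2, 2, 2, 3, 2, 4, 4, 3, 3, 4, 3, 3, 3]), ([3, 2, 2, 2, 3, 3, 2, 4, 4, 3, 4, 5, 5, 5, 5, 5, 5, 5, 5, 5, 7, 3, 3, 3], [3, 3, 2, 3, 3, 2, 4, 3, 3, 4, 4, 4, 6, 6, 6, 3, 3]), ([2, 3, 2, 2, 2, 3, 2, 2, 4, 4, 3, 3, 4, 5, 5, 5, 5, 5, 5, 5, 5, 6, 6, 3, 3], [2, 2, 3, 3, 3, 2, 3, 2, 2, 3, 4, 4, 3, 3, 4, 5, 5, 5, 5, 5, 3, 3, 3]), ([2, 3, 2, 3, 3, 3, 2, 4, 4, 4, 3, 4, 5, 5, 5, 5, 5, 5, 5, 5, 5, 6], [3, 3, 2, 2, 2, 2, 2, 3, 4, 3, 4, 4, 3, 6, 7]), ([3, 2, 3, 3, 2, 2, 2, 3, 4, 4, 3, 3, 4, 6, 7], [3, 3, 2, 3, 2, 2, 3, 3, 3]), ([2, 2, 3, 2, 3, 2, 3, 4, 4,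 4, 3, 4, 5, 5, 3, 6, 7, 3, 3, 3], [2, 3, 3, 3, 2, 2, 4, 3, 4, 3, 6, 7, 3, 3, 3]), ([3, 3, 2, 2, 4, 3, 4, 4, 5, 5, 5, 5, 5, 5, 5, 5, 5, 6, 6, 7, 3, 3], [2, 2, 3, 2, 4, 4, 5, 5, 5, 5, 5, 5, 3, 6, 7, 3, 3]), ([2, 2, 3, 2, 2, 2, 4, 3, 4, 4, 4, 3, 4, 5, 5, 5, 5, 5, 5, 5, 5, 3], [2, 3, 2, 3, 2, 3, 2, 3, 3, 4, 5, 6, 6, 3, 3, 3]), ([2, 2, 3, 2, 2, 2, 2, 2, 2, 3, 3, 3, 4, 3, 4, 5, 5, 5, 5, 5, 5, 5, 6, 6, 6, 7, 3], [3, 3, 2, 3, 3, 2, 2, 2, 3, 3, 3, 4, 3, 4, 4, 5, 5, 5, 5, 5, 5, 5, 7]), ([3, 3, 3, 2, 3, 2, 2, 3, 3, 3, 4, 3, 4, 5, 5, 5, 5, 5, 5, 5, 5, 5, 6, 6, 6, 3], [3, 3, 2, 3, 3, 2, 2, 2]), ([2, 3, 2, 2, 3, 3, 2, 2, 2, 4, 4,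 4, 3, 4, 5, 5, 6, 6, 6, 3], [3, 2, 3, 2, 2, 3, 3, 2, 4, 3, 4, 3, 4, 5, 5, 5, 5, 5, 5, 5, 5, 5, 6]), ([2, 2, 3, 3, 3, 2, 2, 4, 4, 3, 3, 4, 5, 5, 3, 6, 3, 3, 3], [2, 2, 2, 3, 3, 3, 2, 4, 3, 4, 4, 4, 5, 5, 5, 5, 5, 5, 6, 6, 6, 3]), ([2, 3, 2, 3, 2, 3, 3, 2, 3, 3, 4, 4, 3, 4, 5, 5, 5, 5, 5, 6, 6, 7], [3, 3, 2, 2, 2, 3, 2, 2, 2, 3, 4, 4, 4, 5, 6, 6, 6]), ([2, 3, 2, 2, 2, 4, 3, 3, 4, 4, 4, 5, 5, 5, 5, 5, 5, 3, 6, 7], [3, 3, 3, 2, 2, 2, 3, 2, 3, 4, 3, 3, 4, 3, 4, 5, 5, 5, 3, 6, 3]), ([2, 3, 2, 3, 2, 2, 3, 3, 4, 4, 5, 5, 5, 5, 3, 6, 3, 3], [3, 3, 2, 3, 3, 3, 2, 3, 4, 3, 3, 4, 3, 4, 5, 5, 5, 5, 5, 5, 6, 6, 6, 3, 3]), ([3, 3,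 2, 2, 2, 2, 3, 3, 4, 4, 4, 3, 4, 5, 5, 5, 5, 6], [2, 2, 2, 2, 2, 4, 3, 4, 4, 4, 5, 5, 5, 5, 6, 7]), ([3, 3, 3, 2, 3, 2, 2, 2, 3, 3, 4, 4, 3, 4, 5, 5, 5, 5, 5, 5, 6, 7, 3], [2, 3, 2, 2, 2, 3, 2, 4, 3, 4, 4, 5, 5, 5, 5, 5, 5, 5, 6, 6, 6, 7]), ([3, 3, 2, 3, 3, 2, 2, 2, 4, 4, 5, 5, 5, 5, 5, 5, 5, 3, 6, 7, 3], [3, 2, 3, 2, 4, 4, 5, 5, 5, 5, 5, 5, 3, 6, 7, 3]), ([3, 2, 2, 2, 3, 3, 3, 2, 3, 3, 3, 4, 3, 4, 4, 5, 5, 5, 5, 5, 6, 6], [2, 3, 3, 2, 2, 2, 2, 2, 3, 3, 4, 3, 4, 5, 5, 5, 5, 5, 5, 5, 5, 5, 6, 6, 3, 3, 3]), ([3, 3, 3, 2, 2, 4, 3, 4, 3, 4, 5, 5, 5, 3, 6, 3], [2, 3, 3, 2, 4, 3, 3, 4, 3, 4, 5, 5, 5, 5, 5, 5, 5, 6, 7, 3]),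 ([3, 2, 2, 2, 3, 3, 3, 2, 3, 3, 3, 4, 3, 4, 4, 5, 6, 7, 3, 3], [2, 3, 3, 2, 3, 3, 4, 4, 3, 4, 5, 5, 5, 5, 5, 6, 6, 6, 7, 3]), ([3, 3, 3, 2, 2, 4, 3, 4, 3, 4, 5, 6, 6, 6, 3, 3], [2, 2, 2, 2, 3, 3, 2, 3, 3, 3, 4, 3, 4, 5, 6, 6, 7]), ([2, 2, 2, 4, 4, 4, 5, 5, 3, 6], [2, 3, 2, 2, 3, 2, 3, 2, 4, 4, 4, 3, 4, 5, 6, 3, 3]), ([2, 3, 2, 3, 2, 3, 4, 4, 4, 3, 4, 5, 5, 5, 5, 5, 5, 7, 3], [3, 2, 3, 3, 3, 2, 3, 2, 4, 3, 4, 4, 5, 5, 5, 5, 5, 5, 5, 6, 3, 3]), ([2, 3, 2, 3, 2, 2, 2, 2, 2, 4, 3, 4, 5, 5, 5, 5, 5, 5, 6, 6, 6], [3, 2, 3, 3, 3, 2, 3, 2, 3, 4, 4, 3, 4, 5, 5, 6, 6, 7, 3, 3, 3]), ([2, 3, 3, 2, 3, 3, 2, 2, 2, 4, 3, 4, 3, 4,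 6, 6, 6, 7], [3, 3, 3, 2, 3, 2, 3, 4, 4, 4, 5, 5, 5, 5, 7, 3]), ([3, 3, 2, 2, 2, 2, 2, 4, 3, 4, 4, 4, 5, 5, 5, 5, 5, 5, 5, 5, 6, 6, 6], [2, 3, 2, 2, 2, 2, 4, 3, 3, 4, 4, 3, 4, 3, 6]), ([3, 3, 2, 2, 2, 3, 2, 3, 4, 4, 3, 3, 4, 5, 6, 6, 6, 7, 3, 3], [2, 2, 2, 4, 3, 4, 4, 4, 5, 5, 5, 6]), ([2, 3, 2, 3, 3, 2, 4, 3, 4, 4, 5, 3, 6, 7, 3, 3, 3], [2, 2, 3, 3, 3, 2, 3, 2, 3, 3, 3, 4, 3, 4, 4, 5, 5, 5, 5, 5, 5, 5, 6, 6, 7, 3, 3, 3]), ([3, 3, 2, 2, 2, 3, 4, 4, 3, 3, 4, 5, 5, 5, 5, 5, 5, 5, 6, 6, 7, 3, 3], [2, 3, 2, 2, 2, 3, 2, 2, 4, 3, 4, 5, 5, 5, 5, 5, 5, 5, 3, 6, 3]), ([3, 2, 3, 3, 3, 2, 2, 4, 4, 3, 3, 4, 5, 5, 5, 3, 3], [3,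 3, 3, 2, 2, 3]), ([2, 3, 2, 3, 3, 2, 3, 4, 4, 3, 3, 4, 5, 5, 5, 5, 5, 5, 6, 6], [2, 2, 3, 3, 3, 2, 2, 3, 3, 3, 4, 3, 4, 4, 5, 5, 5, 5, 5, 5, 5, 7]), ([2, 2, 3, 2, 3, 2, 3, 2, 3, 4, 3, 4, 4, 5, 5, 5, 7], [3, 3, 3, 2, 2, 2, 2, 4, 3, 3, 4, 3, 4, 5, 5, 5, 5, 5, 3, 6, 3]), ([2, 3, 2, 3, 2, 4, 4, 3, 3, 4, 5, 5, 5, 5, 5, 5, 5, 5, 3, 3], [2, 2, 3, 2, 3, 3, 4, 3, 4, 4, 5, 5, 5, 5]), ([3, 2, 3, 2, 2, 3, 3, 2, 3, 4, 3, 3, 4, 3, 4, 5, 5, 5, 5, 5, 5, 3, 6, 7, 3], [2, 4, 3, 4, 4, 5, 5, 5, 5, 5, 6, 6, 7, 3, 3, 3]), ([2, 3, 2, 3, 3, 3, 2, 4, 3, 4, 4, 5, 5, 5, 5, 5, 5, 5, 5, 5, 3, 6, 7, 3, 3], [3, 3, 2, 2, 2, 3, 4, 3, 4, 5, 6, 6, 6,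 3]), ([2, 3, 2, 3, 3, 3, 2, 3, 4, 4, 4, 3, 4, 5, 5, 5, 5, 5, 5, 6, 6, 6, 7], [2, 3, 2, 2, 3, 2, 3, 2, 3, 4, 3, 3, 4, 3, 4, 5, 5, 5, 5, 5, 5, 5, 5, 3, 6, 7, 3, 3]), ([2, 3, 2, 2, 2, 3, 2, 2, 3, 3, 4, 4, 3, 4, 5, 5, 5, 5, 5, 5, 7, 3, 3], [2, 2, 2, 3, 3, 2, 3, 4, 3, 4, 4, 5, 5, 5, 5, 5, 5, 5, 5, 6, 6, 6]), ([3, 3, 2, 3, 2, 2, 2, 4, 4, 3, 3, 4, 5, 6, 6, 3], [3, 3, 2, 2, 3, 3, 2, 4, 3, 3, 4, 4, 3, 4, 5, 3, 6, 3, 3, 3]), ([2, 2, 4, 4, 4, 3, 4, 6, 6, 7, 3, 3], [3, 2, 2, 3, 3, 4, 4, 3, 4, 5, 5, 6, 7, 3]), ([2, 3, 2, 2, 3, 2, 3, 4, 3, 4, 4, 5, 5, 5, 5, 5, 3, 6, 7, 3], [3, 2, 2, 3, 2, 2, 3, 4, 4, 3, 3, 3]), ([2, 3, 2, 3, 3, 3,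 2, 3, 4, 3, 4, 5, 5, 5, 5, 5, 5, 6, 6, 6, 7], [2, 2, 2, 3, 2, 3, 2, 3, 3, 4, 4, 4, 3, 4, 7, 3, 3]), ([2, 3, 2, 2, 2, 2, 3, 3, 3, 4, 3, 4, 4, 5, 3, 6, 7], [2, 3, 2, 2, 3, 3, 2, 2, 2, 3, 4, 4, 3, 3, 4, 5, 5, 5, 6, 6, 6, 3]), ([2, 2, 2, 2, 2, 2, 4, 4, 4, 3, 4, 5, 5, 5, 5, 5, 5, 5, 5, 6, 6, 6], [3, 2, 3, 3, 2, 3, 3, 4, 3, 4, 4, 5, 5, 5, 5]), ([3, 3, 2, 3, 3, 2, 3, 4, 4, 3, 3, 4, 5, 5, 6, 6, 7, 3, 3], [3, 2, 3, 3, 3, 2, 4, 5, 5, 5, 5, 5, 5, 5, 5, 5, 3, 6, 7, 3, 3]), ([4, 3, 4, 3, 4, 5, 5, 5, 5, 5, 5, 5, 5, 6, 6, 7, 3], [3, 2, 3, 2, 2, 2, 3, 4, 4, 4, 5, 5, 5, 7, 3, 3, 3]), ([3, 3, 2, 2, 2, 2, 3, 2, 3, 4, 4, 4, 5, 6, 6, 6,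 3, 3, 3], [3, 2, 3, 3, 2, 2, 3, 2, 4, 3, 3, 4, 4, 3, 4, 5, 5, 5, 5, 5, 3, 6, 3, 3]), ([2, 2, 2, 3, 2, 3, 2, 2, 4, 3, 3, 4, 4, 4, 5, 5, 5, 5, 5, 5, 5, 5, 6, 3], [2, 2, 3, 2, 3, 2, 2, 4, 4, 3, 4, 5, 5, 5, 5, 5, 5, 5, 5, 5, 6, 7]), ([2, 2, 2, 2, 3, 2, 4, 3, 4, 3, 4, 5, 7, 3, 3], [2, 3, 2, 2, 2, 3, 3, 4, 3, 4, 4, 5, 5, 5, 5, 5, 5, 5, 5, 6]), ([3, 4, 4, 4, 5, 5, 5, 5, 5, 5, 5, 5, 7, 3, 3], [3, 3, 2, 2, 2, 2, 3, 2, 3, 4, 3, 4, 4, 5, 5, 5, 5, 5, 5, 5, 5, 6, 6, 6, 3])]]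

/-- part of a table -/
def conjs5 : List (List (List ℕ × List ℕ)) :=
  [[([2, 2, 3, 2, 3, 2, 2, 3, 3, 4, 4, 4, 3, 4, 5, 5, 5, 5, 5, 5, 5, 5, 6, 6, 6, 7, 3, 3, 3], [2, 3, 2, 2, 2, 3, 2, 2]), ([3, 3, 2, 2, 3, 3, 2, 4, 3, 4, 5, 5, 5, 5, 5, 5, 5, 5, 5, 6, 6, 7, 3, 3], [2, 3, 2, 3, 2, 3, 3, 2, 3, 4, 4, 5, 5, 5, 6, 3, 3, 3]), ([2, 3, 2, 3, 3, 3, 2, 3, 4, 3, 3, 4, 3, 4, 5, 5, 5, 5, 5, 5, 5, 3, 3], [2, 3, 3, 2, 2, 2, 2, 2, 4, 3, 3, 3, 4, 3, 4, 5, 5, 5, 5, 5, 5, 5, 6, 6, 7, 3]), ([2, 3, 2, 3, 2, 2, 2, 2, 2, 3, 4, 3, 6, 7], [3, 2, 2, 2, 2, 2, 4, 3, 3, 3, 4, 3, 4, 5, 5, 5, 3, 6, 7, 3, 3, 3]), ([2, 2, 3, 2, 3, 3, 3, 2, 4, 3, 3,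 4, 4, 4, 5, 5, 5, 5, 5, 5, 5, 5, 5, 3, 6, 7, 3], [2, 3, 3, 2, 2, 3, 2]), ([2, 2, 3, 3, 3, 2, 3, 2, 2, 3, 3, 3, 4, 5, 5, 5, 5, 5, 5, 6, 7, 3, 3, 3], [2, 3, 2, 2, 2, 2, 2, 4, 3, 3, 4, 4, 3, 4, 3, 6]), ([3, 3, 4, 3, 4, 5, 5, 5, 5, 5, 5, 5, 6, 6, 3], [3, 3, 2, 2, 2, 2, 3, 3]), ([3, 2, 2, 2, 2, 2, 2, 3, 3, 4, 5, 5, 5, 5, 3, 6, 7], [3, 3, 3, 2, 2, 2, 3, 4, 3, 4, 4, 5, 5, 5, 5, 5, 5, 5, 5, 5, 3, 3]), ([3, 2, 3, 3, 3, 2, 4, 4, 3, 3, 4, 5, 5, 5, 5, 5, 5, 5, 5, 6, 6, 7, 3], [3, 2, 3, 3, 3, 2, 3, 2, 4, 3, 3, 4, 3, 4, 5, 5, 5, 5, 5, 6, 6, 6, 3, 3]), ([3, 3, 2, 2, 2, 3, 2, 2, 2, 3, 4, 4, 3, 4, 5, 5, 7, 3, 3], [3, 3, 3, 2, 3, 2,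 2, 2, 3, 3, 4, 3, 4, 4, 5, 5, 5, 5, 5, 5, 5, 5, 6, 3]), ([3, 2, 2, 2, 3, 2, 3, 2, 3, 4, 3, 3, 4, 3, 4, 5, 5, 6, 6, 7, 3, 3], [3, 2, 3, 2, 2, 2, 3, 2, 2, 3, 3, 4, 3, 4, 5, 5, 3, 6, 7, 3, 3]), ([2, 3, 3, 2, 2, 3, 2, 4, 3, 4, 3, 4, 5, 5, 5, 6, 6, 3], [3, 2, 3, 2, 3, 4, 3, 4, 5, 5, 5, 5, 6, 6, 3, 3, 3]), ([3, 2, 3, 3, 2, 3, 4, 4, 3, 3, 4, 5, 5, 5, 5, 5, 5, 5, 7, 3, 3, 3], [2, 3, 3, 3, 2, 3, 3, 4, 4, 4, 5, 5, 5, 5, 6, 6, 7, 3, 3, 3]), ([2, 2, 2, 2, 2, 2, 3, 3, 4, 4, 3, 4, 5, 5, 5, 6, 3, 3], [2, 3, 2, 2, 3, 2, 3, 2, 3, 4, 4, 3, 3, 4, 5, 5, 5, 5, 5, 6, 6, 7, 3, 3]), ([3, 2, 2, 2, 2, 2, 4, 3, 4, 4, 4, 5, 5, 5, 5, 5, 5, 5, 5,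 6, 6, 6, 3], [3, 2, 2, 3, 2, 2, 4, 3, 4, 3, 4, 5, 5, 5, 5, 6, 6, 3]), ([3, 3, 2, 3, 3, 2, 5, 5, 5, 5, 5, 5, 5, 5, 3, 6, 7, 3, 3, 3], [2, 3, 3, 3, 2, 2, 4, 3, 3, 3, 4, 3, 4, 5, 5, 5, 5, 5, 7]), ([3, 2, 3, 2, 2, 2, 3, 2, 2, 3, 3, 4, 4, 4, 5, 5, 7], [3, 2, 2, 3, 2, 3, 2, 4, 4, 4, 3, 4, 5, 6, 3, 3]), ([3, 3, 3, 2, 3, 2, 2, 2, 3, 3, 4, 4, 5, 5, 5, 5, 6, 7, 3, 3], [3, 2, 2, 2, 3, 2, 2, 3, 4, 4, 3, 4, 5, 5, 5, 5, 5, 5, 5, 5, 5, 6, 3, 3]), ([3, 2, 3, 2, 3, 3, 4, 4, 4, 3, 4, 5, 5, 5, 5, 5, 5, 5, 5, 5, 6, 6, 6, 7, 3], [3, 2, 3, 3, 2, 2, 2, 4, 3, 4, 4, 5, 5, 5, 5, 5, 5, 5, 5, 5, 6, 6, 7, 3, 3, 3]), ([3, 2, 3, 2, 3, 3, 4, 4, 4,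 3, 4, 5, 5, 5, 5, 5, 6, 6, 7], [3, 3, 3, 2, 2, 3, 6, 7]), ([2, 3, 2, 2, 2, 2, 2, 2, 4, 4, 4, 3, 4, 6, 6, 6, 3], [2, 2, 3, 2, 3, 2, 2, 3, 4, 3, 4, 4, 5, 5, 5, 5, 6, 6, 6, 3, 3, 3]), ([2, 3, 2, 2, 2, 2, 2, 2, 4, 4, 4, 3, 4, 5, 5, 3, 3], [3, 3, 3, 2, 3, 2, 3, 3, 4, 4, 4, 5, 6, 7]), ([3, 3, 2, 3, 3, 2, 4, 3, 4, 4, 4, 5, 5, 5, 5, 5, 6, 6, 6, 3, 3], [2, 2, 2, 3, 3, 4, 3, 4, 4, 5, 5, 5, 5, 5, 5, 5, 5, 5, 6, 6, 7, 3, 3, 3]), ([2, 2, 2, 2, 3, 3, 2, 3, 4, 3, 3, 4, 3, 4, 5, 5, 5, 6, 6, 6, 7], [2, 2, 3, 2, 2, 2, 2, 2, 3, 4, 4, 3, 3, 4, 5, 5, 5, 5, 5, 5, 3, 6, 7]), ([3, 2, 2, 2, 3, 2, 3, 2, 4, 5, 5, 5, 6, 6, 6, 3, 3], [3, 2, 3,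 2, 2, 2, 3, 2, 2, 5, 5, 5, 5, 5, 5, 5, 5, 5, 3, 3, 3]), ([2, 3, 3, 2, 2, 2, 2, 2, 4, 3, 3, 4, 5, 5, 5, 5, 5, 5, 5, 5, 6, 6], [2, 3, 3, 2, 3, 3, 2, 2, 2, 3, 3, 4, 3, 4, 4, 5, 5, 5, 5, 5, 5, 3, 6, 7, 3, 3]), ([3, 2, 2, 3, 3, 3, 4, 5, 5, 5, 5, 5, 5, 5, 5, 5, 3, 3], [3, 3, 2, 2, 2, 2, 2, 3, 3, 3, 4, 3, 4, 4, 5, 5, 6, 7, 3]), ([2, 3, 2, 3, 2, 2, 2, 2, 2, 3, 4, 4, 4, 3, 4, 5, 5, 5, 5], [3, 3, 2, 2, 3, 2, 3, 3, 4, 4, 5, 5, 5, 5, 5, 5, 5, 5, 5, 3, 6, 7, 3]), ([3, 3, 2, 3, 3, 2, 2, 2, 3, 3, 4, 3, 4, 5, 5, 5, 5, 5, 5, 5, 5, 7, 3, 3], [2, 2, 2, 3, 3, 4, 3, 4, 5, 5, 5, 5, 5, 5, 3, 6, 3, 3]), ([2, 2, 2, 3, 3, 2, 4, 3, 3, 3, 4, 3,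 4, 5, 5, 5, 5, 5, 6, 6, 6, 7, 3, 3], [3, 2, 2, 3, 3, 2, 3, 3, 4, 4, 5, 5, 5, 6, 6, 6, 7, 3]), ([3, 2, 2, 2, 2, 2, 4, 3, 3, 4, 5, 5, 5, 3, 6, 3, 3, 3], [2, 2, 2, 3, 2, 2, 4, 3, 4, 4, 5, 5, 5, 5, 5, 5, 5, 5, 5, 6, 6, 7, 3, 3]), ([2, 2, 3, 3, 3, 2, 2, 3, 4, 4, 3, 3, 4, 7, 3, 3, 3], [2, 2, 3, 2, 2, 2, 2, 3, 3, 4, 3, 6]), ([3, 3, 2, 3, 2, 2, 4, 4, 3, 3, 4, 5, 6, 6, 3, 3, 3], [2, 3, 3, 3, 2, 2, 2, 3, 2, 3, 3, 4, 3, 4, 5, 6, 6, 7, 3, 3, 3]), ([3, 3, 2, 2, 3, 3, 2, 3, 4, 3, 4, 4, 5, 6, 6, 7, 3], [3, 2, 2, 3, 3, 3, 2, 2, 3]), ([3, 2, 3, 2, 2, 2, 2, 4, 3, 3, 4, 4, 4, 6, 6, 6, 3], [3, 3, 2, 3, 2, 2, 4, 3, 3, 4, 4, 3, 4, 5, 5,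 3, 6]), ([3, 3, 3, 2, 2, 2, 3, 4, 4, 4, 5, 5, 5, 5, 5, 5, 5, 6, 7, 3, 3], [2, 2, 3, 2, 2, 3, 2, 3, 3, 3, 4, 3, 4, 4, 6, 6, 7]), ([3, 3, 3, 2, 3, 2, 2, 4, 4, 4, 3, 4, 5, 5, 5, 5, 5, 5, 5, 6, 6, 7], [3, 3, 3, 2, 3, 2, 2, 2, 4, 4, 4, 6, 6, 7, 3, 3, 3]), ([3, 2, 3, 2, 2, 4, 4, 4, 5, 6, 6, 7, 3, 3, 3], [3, 3, 2, 3, 2, 3, 2, 3, 4, 3, 4, 4, 5, 5, 5, 6, 3]), ([3, 3, 2, 3, 2, 2, 2, 4, 5, 5, 5, 5, 5, 5, 5, 5, 3, 3, 3], [2, 3, 3, 3, 2, 2, 2, 3, 2, 4, 3, 3, 3, 4, 3, 4, 5, 5, 5, 5, 3, 6, 3, 3, 3]), ([3, 2, 2, 2, 2, 2, 4, 3, 4, 4, 4, 5, 5, 5, 5, 5, 5, 6, 7], [2, 2, 3, 3, 2, 2, 2, 3, 3, 4, 5, 5, 5, 5, 5, 5, 5, 5, 5, 6, 6, 6, 7, 3]),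 ([3, 3, 2, 2, 2, 4, 4, 4, 5, 5, 3, 6, 3, 3], [2, 3, 2, 2, 3, 3, 2, 3, 4, 3, 4, 4, 5, 5, 6, 7, 3]), ([2, 2, 2, 2, 2, 2, 3, 3, 4, 4, 4, 5, 5, 5, 5, 5, 6, 6, 6, 3], [3, 2, 2, 3, 2, 3, 2, 3, 4, 4, 3, 3, 4, 5, 5, 5, 5, 5, 5, 5, 5, 5, 3, 6, 3, 3, 3]), ([2, 2, 3, 2, 2, 2, 2, 3, 3, 3, 4, 3, 4, 6, 6, 6, 3, 3], [3, 3, 3, 2, 2, 3, 4, 4, 4, 5, 5, 5, 5, 5, 3, 6, 3]), ([2, 3, 2, 2, 2, 3, 2, 2, 3, 3, 3, 4, 3, 4, 5, 5, 5, 5, 5, 5, 5, 5, 5, 7, 3, 3, 3], [3, 3, 3, 2, 2, 2, 3, 2, 4, 3, 3, 4, 5, 5, 5, 3, 3]), ([2, 2, 4, 5], [2, 3, 3, 3, 2, 3, 2, 2, 3, 3, 4, 4, 4, 5, 6, 6, 7, 3, 3]), ([2, 3, 3, 2, 3, 2, 2, 2, 3, 4, 5, 5, 5, 5, 5, 5, 5,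 5, 5, 6, 6, 6, 7], [2, 3, 2, 2, 2, 2, 4, 3, 4, 4, 5, 5, 5, 5, 5, 5, 5, 5, 7]), ([3, 3, 2, 4, 3, 4, 4, 5, 5, 5, 5, 5, 5, 5, 5, 6, 7, 3], [2, 3, 3, 2, 4, 4, 5, 5, 5, 5, 5, 5, 5, 6, 7, 3, 3, 3]), ([2, 3, 2, 2, 2, 2, 2, 2, 4, 3, 4, 3, 4, 5, 5, 5, 5, 5, 5, 5, 5, 5, 6, 6, 7], [3, 3, 3, 2, 2, 2, 4, 3, 4, 4, 5, 5, 3]), ([2, 2, 3, 2, 2, 2, 2, 3, 3, 3, 4, 3, 4, 5, 5, 5, 5, 5, 5, 6, 6, 3], [3, 2, 2, 2, 2, 3, 3, 4, 3, 4, 4, 5, 5, 5, 5, 5, 5, 5, 5, 5, 6, 6, 7, 3, 3]), ([2, 2, 2, 2, 3, 3, 2, 3, 3, 4, 4, 4, 3, 4, 6, 6, 7, 3, 3], [2, 2, 3, 2, 2, 2, 2, 2, 3, 3, 4, 4, 4, 5, 5, 6, 3]), ([2, 3, 2, 3, 2, 4, 3, 3, 4, 5, 6, 6, 6, 3, 3, 3],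 [2, 3, 2, 2, 3, 2, 3]), ([2, 3, 2, 2, 2, 3, 2, 2, 3, 3, 3, 4, 3, 4, 5, 3, 6, 7, 3, 3, 3], [2, 2, 3, 2, 3, 2, 3, 2, 3, 4, 4, 4, 5, 5, 5, 6, 3, 3]), ([3, 3, 3, 2, 3, 2, 3, 2, 4, 3, 4, 4, 5, 5, 5, 5, 6, 6, 6, 7], [3, 2, 3, 3, 2, 2, 2, 4, 5, 5, 5, 5, 5, 5, 5, 5, 5, 3, 6, 7, 3, 3]), ([2, 3, 2, 3, 2, 2, 2, 2, 2, 3, 3, 3, 4, 5, 3, 6, 3], [2, 2, 2, 2, 2, 3, 3, 4, 5, 6, 7, 3, 3]), ([3, 3, 2, 4, 3, 4, 4, 5, 5, 7], [3, 3, 3, 2, 2, 2, 2, 4, 3, 3, 4, 4, 3, 4, 5, 5, 5, 5, 3, 6, 7, 3, 3]), ([2, 3, 2, 2, 2, 2, 2, 2, 4, 3, 4, 3, 4, 5, 5, 5, 6, 6, 6, 7, 3], [2, 3, 3, 3, 2, 4, 3, 4, 5, 5, 5, 5, 5, 3, 6, 7, 3, 3]), ([3, 2, 2, 2, 3, 3,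 2, 3, 3, 4, 5, 5, 5, 5, 5, 5, 6, 6, 6, 7, 3, 3, 3], [2, 2, 4, 3, 4, 4, 4, 5, 5, 5, 6]), ([2, 3, 2, 2, 2, 2, 2, 4, 3, 4, 4, 4, 5, 3, 6, 3, 3], [2, 3, 2, 2, 2, 2, 2, 2, 3, 3, 4, 4, 4, 3, 4, 5, 5, 5, 5, 5, 5, 5, 5, 6, 3, 3]), ([3, 2, 2, 2, 3, 3, 2, 4, 3, 4, 3, 4, 5, 5, 5, 5, 5, 5, 5, 5, 6, 6, 6], [2, 2, 3, 2, 2, 3, 2, 3, 4, 4, 4, 5, 5, 5, 5, 5, 5, 5, 6, 3, 3, 3]), ([2, 3, 2, 2, 2, 2, 2, 3, 4, 3, 4, 4, 5, 5, 7, 3, 3], [2, 2, 3, 2, 2, 2, 2, 4, 3, 3, 4, 4, 4, 5, 5, 6, 7, 3, 3]), ([3, 3, 3, 2, 2, 2, 2, 4, 4, 5, 5, 5, 5, 7, 3, 3], [3, 3, 2, 2, 3, 2, 4, 4, 3, 4, 5, 5, 5, 5, 5, 5, 6, 7]), ([3, 3, 2, 2, 3, 3, 2, 4, 3, 3, 4, 5,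 5, 5, 5, 3, 6, 7, 3], [3, 3, 3, 2, 3, 3, 4, 4, 5, 5, 5, 5, 5, 5, 3, 6]), ([3, 2, 2, 3, 4, 4, 4, 5, 5, 5, 5, 6, 7], [2, 3, 3, 3, 2, 3, 2, 2, 3, 3, 3, 4, 3, 4, 5, 5, 5, 5, 5, 6, 3, 3, 3]), ([2, 2, 3, 2, 2, 3, 2, 3, 2, 3, 4, 4, 3, 3, 4, 5, 5, 5, 5, 5, 3, 6], [3, 2, 3, 2, 2, 2, 2, 3, 3, 4, 3, 4, 4, 5, 5, 5, 5, 5, 5, 5, 5, 6])],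
    [([3, 3, 2, 3, 2, 2, 2, 4, 3, 4, 4, 4, 3, 4, 5, 5, 3, 6, 7, 3, 3], [2, 3, 3, 2, 3, 3, 2, 2, 2, 4, 3, 3, 4, 4, 3, 4, 5, 5, 5, 5, 5, 5, 5, 3, 6, 7]), ([3, 3, 2, 2, 2, 2, 2, 3, 3, 4, 4, 5, 5, 5, 5, 5, 5, 5, 6, 6, 6, 7, 3, 3], [3, 3, 2, 4, 3, 3, 4, 4, 4, 5, 5, 5, 6, 6, 6, 7]), ([2, 2, 2, 4, 3, 3, 4, 4, 3, 4, 5, 5, 5, 5, 5, 5, 5, 5, 3, 3, 3], [3, 2, 3, 2, 2, 3, 3, 2, 3, 4, 3, 4, 4, 5, 5, 6, 7]), ([2, 3, 3, 3, 2, 3, 2, 5, 5, 5, 5, 5, 5, 5, 3, 6], [3, 2, 2, 3, 2, 2, 2, 2, 3, 3, 4, 4, 5, 5, 5, 3, 6, 7]), ([3, 2, 3, 3, 3, 2, 2, 3, 3, 4, 4, 4, 3, 4, 5, 5, 5, 5, 5, 5, 5, 6], [2, 3, 2, 2, 2, 3, 4, 4, 4, 3, 4, 6, 6, 6, 7, 3,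 3]), ([2, 3, 3, 2, 2, 3, 2, 4, 3, 3, 4, 5, 5, 5, 5, 5, 5, 5, 5, 5, 3, 6, 7], [2, 3, 3, 3, 2, 3, 3, 2]), ([3, 3, 3, 2, 2, 2, 2, 4, 3, 4, 3, 4, 5, 5, 5, 5, 5, 6, 6, 6], [2, 2, 3, 2, 3, 2, 3, 2, 4, 4, 3, 3, 4, 5, 5, 5, 3, 6, 7, 3]), ([2, 3, 2, 3, 3, 2, 3, 4, 4, 4, 3, 4, 5, 5, 5, 5, 5, 5, 6, 6, 6], [3, 3, 2, 2, 2, 2, 3, 3, 4, 4, 3, 4, 6, 7, 3]), ([2, 2, 3, 2, 2, 3, 2, 3, 2, 4, 4, 4, 3, 4, 5, 5, 5, 5, 6, 3, 3, 3], [3, 2, 3, 3, 3, 2, 3, 3, 4, 4, 3, 4, 5, 5, 5, 5, 5, 6, 6, 6, 7]), ([3, 2, 2, 2, 3, 2, 3, 2, 3, 3, 4, 5, 5, 5, 5, 5, 6, 6, 6], [3, 2, 2, 3, 2, 3, 2, 3, 4, 3, 4, 4, 5, 5, 5, 5, 5, 5, 5, 6, 6, 3, 3, 3]), ([3, 2, 2,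 2, 3, 2, 2, 3, 4, 3, 4, 5, 5, 5, 5, 5, 5, 5, 5, 6, 7, 3, 3], [3, 2, 2, 2, 3, 3, 3, 2, 4, 5, 5, 5, 5, 5, 5, 5, 5, 6, 7, 3]), ([2, 2, 3, 2, 3, 2, 3, 2, 4, 3, 3, 3, 4, 3, 4, 5, 5, 5, 5, 6, 6, 3], [3, 2, 2, 2, 3, 3, 2, 3, 4, 4, 3, 3, 4, 5, 5, 5, 5, 5, 5, 5, 5, 5, 7, 3, 3]), ([3, 3, 3, 2, 3, 2, 3, 2, 3, 4, 3, 3, 4, 3, 4, 5, 5, 5, 6, 6, 6, 7, 3, 3, 3], [2, 3, 3, 2, 3, 2, 2, 2, 4, 5, 5, 5, 5, 3, 6, 3]), ([2, 2, 3, 2, 3, 2, 3, 2, 3, 4, 3, 4, 5, 5, 5, 5, 6, 6, 6], [3, 2, 2, 2, 3, 3, 3, 2, 4, 3, 4, 4, 4, 5, 5, 6, 6, 6, 3]), ([3, 3, 3, 2, 3, 2, 2, 4, 4, 3, 4, 5, 5, 5, 5, 5, 5, 5, 3, 6, 3], [3, 3, 3, 2, 2, 2, 3, 4, 4, 3, 4, 5,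 6, 6, 6, 7, 3]), ([3, 2, 2, 3, 2, 2, 4, 3, 3, 4, 4, 4, 5, 5, 5, 5, 5, 5, 5, 5, 5, 6, 6, 7, 3, 3, 3], [2, 3, 3, 2, 2, 3, 2, 4, 5, 5, 5, 5, 5, 5, 5, 5, 5, 6, 6, 3]), ([3, 2, 3, 3, 3, 2, 3, 2, 4, 3, 3, 4, 4, 3, 4, 5, 5, 6, 7], [3, 3, 3, 2, 3, 2, 3, 2, 3, 3, 4, 4, 4, 5, 6, 7, 3, 3, 3]), ([2, 2, 3, 2, 2, 2, 2, 2, 2, 3, 3, 4, 5, 5, 5, 5, 5, 5, 5, 5, 5, 3, 6, 7], [3, 3, 2, 2, 2, 3, 2, 2, 2, 3, 3, 4, 5, 5, 5, 5, 5, 5, 5, 5, 5, 3, 6, 7, 3]), ([3, 2, 3, 2, 2, 3, 3, 4, 3, 4, 4, 5, 5, 5, 5, 6, 6, 3], [3, 3, 2, 3, 3, 2, 2, 2, 3, 3, 4, 4, 4, 6, 6, 6, 3, 3]), ([3, 2, 2, 2, 4, 3, 4, 3, 4, 5, 5, 5, 5, 5, 5, 5, 3], [2, 3, 3, 3, 2, 3,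 3, 4, 4, 4, 3, 4, 5, 5, 7, 3]), ([3, 2, 2, 3, 2, 2, 3, 3, 4, 3, 4, 4, 5, 5, 5, 5, 5, 5, 3, 6, 7], [2, 2, 3, 3, 2, 2, 2, 3, 3, 3, 4, 3, 4, 4, 5, 5, 5, 5, 5, 5, 5, 5, 5, 6, 6, 7, 3, 3, 3]), ([3, 2, 2, 2, 3, 4, 4, 4, 5, 5, 5, 5, 5], [2, 3, 2, 2, 4, 4, 4, 5, 5, 5, 3, 6, 3, 3]), ([3, 2, 2, 2, 3, 4, 4, 4, 5, 5, 5, 5, 5, 5, 5, 6, 7], [3, 3, 2, 2, 3, 2, 4, 3, 3, 4, 4, 3, 4, 5, 5, 5, 5, 5, 5, 5, 6, 6, 7]), ([3, 2, 2, 3, 2, 2, 3, 3, 4, 3, 4, 4, 6, 6, 6, 7, 3], [3, 3, 2, 2, 3, 2, 4, 3, 4, 4, 4, 3, 4, 5, 6, 6, 6, 7, 3]), ([3, 2, 2, 2, 4, 3, 3, 4, 4, 3, 4, 5, 5, 5, 5, 5, 5, 5, 5, 3, 3], [2, 3, 3, 3, 2, 2, 2, 3, 2, 3, 3, 4, 3, 4,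 5, 6, 6, 7, 3]), ([3, 2, 3, 3, 3, 2, 3, 2, 5, 5, 5, 5, 5, 5, 5, 3, 6, 3, 3, 3], [2, 3, 2, 3, 3, 2, 2, 2, 3, 4, 4, 3, 4, 5, 6, 6, 6, 7, 3]), ([3, 2, 3, 2, 2, 3, 3, 4, 3, 4, 5, 5, 5, 5, 5, 5, 5, 3, 3, 3], [2, 3, 3, 2, 2, 2, 2, 2, 5, 5, 3, 6, 7, 3, 3]), ([3, 2, 2, 3, 2, 2, 4, 5, 5, 5, 5, 5, 5, 6, 6, 6, 3], [3, 2, 2, 2, 2, 2, 2, 3, 3, 4, 4, 3, 4, 5, 5, 5, 5, 5, 5, 5, 5, 3, 6, 7, 3, 3]), ([2, 2, 3, 2, 2, 2, 2, 2, 2, 4, 3, 3, 4, 4, 3, 4, 5, 5, 5, 6, 6, 6, 7, 3, 3], [2, 3, 2, 3, 4, 4, 3, 3, 4, 5, 5, 5]), ([3, 2, 2, 3, 2, 2, 4, 4, 6, 6], [3, 2, 2, 2, 3, 3, 3, 2, 3, 3, 4, 3, 4, 6]), ([3, 3, 3, 2, 3, 2, 2, 3, 3, 3, 4, 3, 4, 4,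 5, 5, 5, 5, 3, 3], [3, 3, 2, 3, 2, 3, 2, 4, 3, 3, 4, 5, 5, 5, 5, 6]), ([3, 2, 2, 2, 5, 5, 6, 6, 6, 7, 3], [2, 3, 2, 3, 2, 3, 3, 2, 4, 3, 3, 4, 3, 4, 5, 5, 5, 5, 5, 5, 5, 6, 7, 3]), ([3, 3, 3, 2, 3, 2, 2, 4, 4, 4, 5, 6, 6, 7, 3], [2, 3, 2, 3, 2, 3, 4, 3, 4, 4, 5, 5, 5, 6, 3]), ([3, 2, 3, 2, 2, 4, 4, 4, 3, 4, 5, 5, 5, 5, 5, 5, 5, 6, 6, 7, 3, 3], [3, 3, 2, 2, 3, 2, 3, 3, 3, 4, 3, 4, 4, 3, 6, 7, 3, 3, 3]), ([3, 3, 3, 2, 3, 2, 2, 3, 4, 4, 5, 5, 5, 5, 3, 6, 3], [3, 2, 3, 3, 3, 2, 2, 3, 3, 4, 3, 4, 4, 5, 5, 5, 5, 5, 5, 5, 5, 5, 6, 6, 7, 3]), ([3, 2, 3, 2, 2, 3, 4, 3, 4, 5, 5, 5, 5, 5, 5, 6, 7], [3, 3, 2, 3, 3, 4, 4, 3, 4,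 5, 5, 5, 5, 5, 6, 6, 6, 7, 3]), ([3, 2, 2, 2, 3, 3, 3, 4, 3, 4, 4, 5, 5, 5, 5, 5, 3, 6, 3], [3, 3, 2, 2, 3, 3, 2, 3, 4, 4, 3, 4, 5, 5, 3, 6]), ([3, 2, 2, 3, 2, 2, 3, 4, 4, 5, 5, 5, 6, 6, 3, 3, 3], [2, 2, 3, 2, 2, 2, 3, 4, 4, 3, 4, 5, 6, 6, 6, 7, 3, 3]), ([3, 2, 2, 2, 4, 3, 4, 3, 4, 5, 5, 5, 5, 5, 5, 5, 5, 6, 6, 3], [2, 3, 2, 3, 2, 2, 4, 3, 4, 3, 4, 5, 5, 5, 5, 6, 3]), ([3, 2, 2, 3, 2, 2, 4, 3, 3, 4, 4, 4, 5, 5, 5, 5, 5, 5, 6, 6, 6, 3, 3, 3], [3, 3, 2, 2, 2, 3, 2, 2, 2, 3, 3, 4, 3, 4, 4, 5, 5, 6, 6, 6, 3, 3, 3]), ([3, 2, 2, 3, 2, 2, 4, 3, 3, 4, 4, 3, 4, 5, 5, 5, 5, 5, 5, 5, 5, 3], [2, 2, 3, 2, 3, 3, 4, 4, 4, 3, 4, 3,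 3]), ([3, 2, 3, 3, 3, 2, 3, 2, 3, 4, 3, 4, 4, 5, 5, 5, 5, 5, 5, 6, 7, 3, 3, 3], [3, 2, 3, 2, 2, 2, 2, 2, 2, 4, 3, 3, 4, 3, 4, 5, 5, 5, 3, 6, 7, 3]), ([3, 2, 2, 2, 3, 4, 3, 4, 4, 5, 5, 5, 5, 5, 3, 6, 3], [2, 3, 2, 2, 2, 2, 2, 2, 4, 3, 3, 4, 3, 4, 6, 6, 7, 3, 3]), ([2, 2, 3, 2, 2, 2, 2, 2, 2, 3, 3, 4, 3, 4, 5, 6, 7], [3, 2, 3, 3, 3]), ([3, 2, 3, 3, 3, 2, 3, 2, 3, 3, 3, 4, 3, 4, 4, 5, 5, 5, 5, 5, 5, 5, 6, 6, 6, 3, 3], [3, 2, 3, 2, 2, 2, 3, 3]), ([2, 2, 3, 2, 2, 2, 2, 2, 2, 4, 3, 3, 4, 4, 4, 5, 5, 5, 5, 5, 5, 5, 5, 3, 6, 3], [3, 2, 2, 2, 3, 2, 2, 4, 4, 3, 3, 4, 5, 6, 6, 3, 3, 3]), ([3, 2, 2, 2, 4, 3, 4, 3, 4, 5, 5, 3],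 [3, 2, 3, 2, 2, 2, 2, 2, 2, 4, 3, 3, 4, 3, 4, 5, 5, 5, 3, 6, 7, 3, 3, 3]), ([3, 2, 2, 3, 2, 2, 4, 3, 3, 4, 4, 4, 5, 5, 5, 5, 7, 3, 3, 3], [3, 3, 2, 2, 2]), ([3, 2, 2, 3, 2, 2, 3, 3, 4, 3, 4, 4, 5, 5, 5, 5, 5, 5, 5, 3, 6, 7, 3, 3], [3, 3, 3, 2, 3, 3, 4, 4, 3, 4, 5, 5, 5, 5, 5, 6, 6, 6, 7]), ([3, 2, 2, 2, 3, 4, 4, 4, 5, 5, 5, 5, 6, 6, 6, 7], [2, 3, 3, 2, 2, 3, 2, 4, 3, 3, 4, 5, 5, 5, 5, 5, 5, 5, 5, 3, 6]), ([3, 3, 4, 5, 5, 5, 5, 5, 5, 6, 6, 6, 3], [3, 3, 2, 2, 2, 3, 2, 3, 3, 3, 4, 5, 5, 5, 3, 6, 3]), ([2, 3, 3, 2, 2, 2, 4, 3, 3, 4, 4, 4, 5, 5, 5, 5, 5, 5, 3, 3], [3, 3, 3, 2, 2, 3, 3, 4, 3, 4, 4, 5, 5, 5, 5, 5, 5, 5, 5,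 5, 6, 6, 7, 3, 3]), ([2, 3, 2, 2, 3, 2, 3, 2, 3, 4, 4, 4, 3, 4, 5, 5, 5, 5, 5, 5, 5, 3, 6, 3], [3, 3, 2, 2, 2, 2, 3, 2, 3, 3, 4, 5, 3, 3]), ([2, 3, 2, 2, 3, 2, 3, 2, 3, 3, 4, 4, 4, 3, 4, 5, 5, 5, 5, 5, 5, 5, 5, 6, 7, 3, 3], [3, 3, 2, 2, 2, 2, 2, 3, 3, 4, 4, 3, 4, 5, 5, 5, 5, 6, 6, 6, 3, 3, 3]), ([2, 3, 3, 3, 2, 2, 2, 3, 2, 3, 3, 3, 4, 3, 4, 4, 5, 6, 6, 7, 3, 3, 3], [3, 2, 3, 2, 2, 3, 3, 2, 4, 3, 3, 4, 4, 3, 4, 6, 7, 3]), ([3, 3, 2, 2, 2, 3, 2, 4, 3, 3, 4, 4, 3, 4, 5, 6, 6, 6, 3], [2, 2, 2, 3, 2, 2, 4, 3, 3, 4, 4, 4, 5, 5, 5, 5, 5, 5, 5, 5, 7]), ([2, 3, 2, 2, 3, 4, 4, 5, 5, 5, 5, 3, 6], [2, 3, 3, 2, 2, 3, 2, 4, 3, 3,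 4, 5, 5, 5, 5, 5, 5, 5, 5, 3, 6, 3, 3, 3]), ([2, 3, 2, 2, 4, 3, 3, 3, 4, 3, 4, 5, 5, 5, 5, 5, 3, 6, 3, 3, 3], [3, 3, 3, 2, 2, 2, 3, 2, 3, 4, 3, 3, 4, 3, 4, 5, 3, 6, 7, 3, 3]), ([2, 3, 3, 3, 2, 2, 2, 3, 2, 3, 4, 4, 4, 5, 5, 5, 5, 5, 5, 5, 5, 6, 6, 6, 3, 3], [2, 2, 3, 3, 3, 2, 2, 3, 3, 4, 3, 4, 6, 6]), ([2, 3, 3, 2, 2, 2, 2, 2, 3, 4, 3, 3, 4, 3, 4, 5, 5, 5, 5, 5, 5, 5, 5, 6, 6, 3, 3], [3, 2, 2, 2, 3, 2, 2, 2, 4, 4, 3, 3, 4, 5, 5, 5, 5, 6, 6, 6, 7]), ([2, 2, 2, 3, 2, 3, 2, 4, 3, 4, 4, 4, 5, 6, 6, 7, 3, 3], [3, 2, 2, 2, 3, 3, 3, 2, 4, 4, 4, 5, 5, 5, 5, 5, 5, 5, 6, 6, 6, 3]), ([2, 2, 2, 3, 2, 4, 4, 4, 3, 4, 5, 5, 5, 5, 6,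 3, 3, 3], [3, 3, 2, 3, 3, 2, 2, 2, 4, 4, 4, 5, 5, 5, 5, 5, 3, 6, 3, 3]), ([3, 3, 2, 2, 2, 2, 3, 4, 4, 3, 3, 4, 5, 5, 5, 5, 5, 5, 5, 6, 6, 6, 3, 3], [2, 3, 3, 2, 3, 2, 3, 4, 4, 4, 5, 6, 6, 6, 3, 3]), ([3, 2, 3, 2, 3, 3, 2, 3, 4, 4, 3, 4, 5, 5, 5, 5, 5, 5, 5, 5, 7, 3, 3, 3], [2, 2, 3, 2, 3, 4, 3, 4, 4, 5, 5, 5, 5, 5, 5, 5, 6, 6, 6, 3, 3])],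
    [([3, 3, 2, 2, 2, 2, 3, 2, 4, 3, 4, 4, 4, 3, 4, 5, 5, 5, 5, 5, 3], [3, 2, 3, 2, 3]), ([3, 2, 2, 3, 3, 2, 2, 2, 3, 4, 3, 3, 4, 3, 4, 5, 5, 5, 3, 6, 3], [3, 3, 3, 2, 3, 3, 4, 4, 4, 5, 5, 5, 5, 6, 6, 7]), ([2, 2, 2, 3, 3, 3, 2, 3, 3, 3, 4, 3, 4, 4, 5, 5, 5, 5, 5, 6, 6, 3], [2, 3, 2, 3, 2, 3, 2, 4, 3, 3, 4, 3, 4, 5, 5, 5, 5, 6, 3, 3, 3]), ([3, 3, 3, 2, 3, 3, 2, 5, 5, 5, 5, 5, 5, 5, 5, 3, 3, 3], [3, 3, 3, 2, 2, 2, 3, 3, 4, 5, 5, 5, 5, 5, 5, 5, 5, 5, 6, 6, 6, 7, 3, 3]), ([2, 2, 3, 2, 5, 5, 5, 5, 3, 6, 3], [2, 3, 2, 3, 3, 2, 2, 2, 3, 4, 5, 5, 3, 6, 3, 3, 3]), ([2, 2, 3, 2, 2, 2, 2, 2, 2, 4, 3, 4, 4, 4, 3, 4, 5, 5, 3, 6,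 7], [3, 3, 3, 2, 3, 2, 2, 2, 3, 3, 4, 3, 4, 4, 5, 5, 5, 5, 5, 5, 5, 5, 6, 3, 3, 3]), ([3, 2, 3, 2, 2, 3, 3, 4, 4, 4, 6, 6, 7, 3, 3, 3], [2, 3, 3, 2, 3, 3, 2, 2, 2, 3, 4, 4, 3, 3, 4, 5, 5, 6, 6, 6, 3, 3]), ([2, 3, 2, 3, 4, 4, 3, 3, 4, 6, 6, 6, 3, 3, 3], [3, 3, 3, 2, 2, 2, 3, 2, 3, 3, 3, 4, 3, 4, 4, 5, 5, 5, 5, 5, 5, 5, 5, 6, 6, 3, 3, 3]), ([2, 2, 2, 3, 2, 3, 2, 3, 3, 4, 4, 5, 5, 5, 6, 3, 3, 3], [2, 3, 2, 2, 3, 2, 3, 2, 4, 4, 3, 4, 5, 5, 6, 7, 3, 3]), ([3, 3, 2, 2, 3, 3, 2, 2, 2, 3, 4, 3, 3, 4, 3, 4, 5, 5, 5, 3, 6], [3, 2, 3, 2, 3, 4, 3, 3, 4, 3, 4, 5, 5, 5, 5, 5, 5, 6, 6, 6, 7]), ([2, 3, 3, 2, 4, 3, 3, 4, 5, 5, 5, 6,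 6, 6, 7], [2, 3, 3, 3, 2, 2, 3, 4, 4, 4, 3, 4, 6, 6, 6, 7, 3, 3]), ([3, 3, 2, 2, 2, 2, 2, 3, 4, 3, 3, 4, 3, 4, 5, 5, 5, 6, 6, 6, 3], [3, 2, 3, 2, 3, 2, 3, 4, 3, 3, 4, 3, 4, 5, 5, 5, 5, 5, 5, 6, 6, 6, 7]), ([2, 3, 2, 3, 2, 2, 2, 2, 2, 3, 4, 4, 3, 4, 6, 6, 6, 7, 3, 3], [3, 2, 2, 3, 3, 2, 4, 4, 3, 3, 4, 5, 5, 5, 7, 3, 3]), ([3, 2, 2, 3, 2, 2, 2, 2, 4, 5, 5, 5, 5, 6, 3], [2, 2, 2, 3, 2, 3, 4, 4, 3, 3, 4, 5, 5, 5, 6, 6, 3]), ([3, 3, 3, 2, 3, 2, 3, 2, 4, 4, 3, 3, 4, 5, 5, 5, 5, 5, 5, 5, 5, 7, 3, 3], [3, 3, 2, 2, 3, 2, 4, 3, 4, 4, 4, 3, 4, 5, 6, 6, 6, 7, 3, 3, 3]), ([2, 2, 4, 3, 4, 3, 4, 5, 5, 5, 3, 6], [3, 2, 3, 3, 2, 4,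 3, 3, 4, 3, 4, 5, 5, 5, 5, 5, 5, 5, 6, 7, 3]), ([2, 3, 3, 2, 3, 2, 2, 2, 4, 3, 4, 4, 4, 5, 5, 5, 5, 5, 5], [2, 2, 3, 2, 2, 2, 2, 2, 3, 4, 4, 3, 4, 5, 6, 6, 6, 3, 3, 3]), ([3, 3, 2, 3, 3, 2, 2, 2, 3, 3, 3, 4, 5, 5, 5, 5, 5, 5, 6, 6, 3, 3, 3], [2, 2, 2, 2, 2, 3, 4, 3, 4, 4, 3, 6, 7, 3, 3]), ([3, 2, 3, 2, 2, 2, 2, 2, 2, 3, 4, 4, 4, 5, 5, 5, 5, 5, 5, 5, 5, 6, 6, 7, 3, 3], [2, 3, 2, 3, 2, 4, 3, 4, 3, 4, 5, 5, 3]), ([3, 2, 2, 2, 3, 2, 2, 3, 4, 4, 4, 5, 3, 6, 7, 3, 3], [3, 3, 3, 2, 2, 2, 4, 5, 5, 5, 5, 5, 5, 5, 5, 5, 3, 6, 7, 3, 3]), ([3, 2, 2, 3, 2, 2, 2, 2, 4, 5, 5, 5, 5, 6, 6, 6, 3, 3, 3], [3, 2, 2, 3, 3, 3, 2, 2, 3, 3,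 3, 4, 5, 5, 5, 5, 5, 5, 5, 5, 3, 6, 7, 3, 3, 3]), ([2, 3, 3, 3, 2, 2, 2, 3, 2, 3, 4, 3, 4, 5, 5, 5, 5, 5, 5, 3, 6, 3, 3], [2, 3, 2, 2, 2, 2, 4, 3, 3, 3, 4, 3, 4, 5, 5, 5, 5, 5, 7, 3, 3]), ([2, 2, 3, 2, 2, 2, 2, 2, 4, 3, 3, 4, 4, 3, 4, 5, 5, 5, 5, 5, 5, 6, 6, 6, 7, 3, 3], [2, 3, 3, 3, 4, 3, 4, 4, 5, 5, 5, 6, 3, 3]), ([3, 2, 2, 2, 3, 3, 2, 3, 3, 4, 3, 4, 5, 5, 5, 5, 5, 6, 3], [2, 2, 4, 3, 3, 4, 4, 4, 5, 5, 5, 5, 5, 7, 3, 3]), ([2, 3, 2, 2, 2, 2, 4, 3, 4, 4, 4, 7, 3], [2, 2, 3, 2, 3, 3, 4, 4, 4, 3, 4, 3]), ([2, 3, 3, 3, 2, 2, 2, 3, 2, 3, 4, 4, 3, 3, 4, 5, 5, 5, 5, 5, 5, 5, 5, 6, 6, 7, 3, 3], [3, 3, 3, 2, 2, 2, 2, 3, 2,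 3, 3, 3, 4, 3, 4, 4, 5, 5, 5, 5, 5, 5, 3, 6, 7, 3, 3, 3]), ([3, 3, 3, 2, 2, 2, 3, 3, 4, 4, 4, 5, 5, 5, 5, 5, 5, 5, 5, 6, 6, 6, 7, 3], [2, 2, 2, 3, 3, 4, 3, 4, 4, 5, 5, 5, 5, 5, 5, 5, 5, 5, 6, 6, 7, 3]), ([2, 3, 2, 2, 2, 3, 2, 2, 3, 4, 5, 5, 5, 5, 5, 5, 6, 6, 3, 3, 3], [2, 3, 3, 3, 2, 3, 3, 3, 4, 3, 4, 4, 5, 6, 6, 3]), ([3, 2, 2, 2, 3, 3, 2, 4, 3, 4, 4, 4, 3, 4, 5, 5, 5, 5, 5, 5, 5, 6, 7, 3], [2, 2, 3, 3, 3, 2, 2, 3, 4, 4, 4, 5, 5, 5, 5, 5, 5, 5, 5, 6, 3, 3]), ([2, 2, 3, 2, 3, 3, 2, 2, 2, 3, 3, 4, 4, 4, 5, 5, 5, 5, 5, 5, 5, 5, 5, 3], [2, 2, 2, 3, 2, 3, 2, 3, 4, 5, 5, 5, 5, 3, 6, 7]), ([3, 3, 2, 2, 3, 3, 2, 2, 2, 4, 3,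 3, 3, 4, 3, 4, 5, 5, 5, 6, 6, 6, 3], [2, 3, 3, 3, 2, 3, 2, 4, 5, 5, 5, 5, 5, 5, 5, 5, 5, 3, 6, 7, 3, 3, 3]), ([2, 3, 2, 3, 4, 4, 3, 4, 5, 5, 5, 5, 5, 5, 5, 5, 6, 7, 3], [3, 2, 2, 3, 4, 4, 4, 3, 4, 6, 6, 6, 7, 3, 3]), ([2, 3, 2, 2, 3, 3, 2, 3, 4, 5, 5, 5, 5, 6, 6, 6, 3, 3, 3], [3, 3, 3, 2, 2, 2, 3, 2, 3, 4, 5, 5, 5, 5, 5, 5, 5, 5, 3, 3, 3]), ([3, 2, 2, 3, 3, 3, 2, 2, 4, 4, 3, 3, 4, 5, 5, 3, 6, 3, 3], [2, 3, 3, 2, 3, 2, 3, 3, 3, 4, 3, 4, 4, 5, 5, 5, 5, 5, 5, 5, 5, 6, 6, 3, 3]), ([3, 2, 3, 2, 3, 2, 6, 7, 3], [3, 2, 2, 3, 3, 2]), ([2, 2, 3, 2, 3, 2, 2, 4, 3, 4, 4, 4, 3, 4, 5, 6, 6, 6, 7], [3, 2, 2, 2, 3, 2, 2, 4, 4, 3,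 4, 5, 6, 6, 6]), ([3, 2, 2, 3, 3, 2, 2, 2, 4, 3, 3, 3, 4, 3, 4, 5, 5, 5, 5, 5, 5, 6, 3, 3], [3, 2, 3, 2, 2, 2, 2]), ([2, 2, 3, 2, 4, 4, 4, 5, 5, 5, 5, 5, 5, 5, 6, 7, 3], [3, 2, 3, 2, 2, 2, 2, 2, 2, 4, 3, 4, 3, 6, 7, 3, 3, 3]), ([3, 3, 3, 2, 3, 3, 2, 4, 3, 3, 4, 5, 5, 5, 6, 7, 3], [2, 3, 2, 3, 2, 3, 3, 2, 3, 4, 4, 5, 5, 5, 6, 3, 3]), ([3, 2, 3, 2, 2, 3, 3, 3, 4, 3, 4, 5, 5, 5, 5, 5, 5, 5, 5, 5, 6, 6, 6, 3, 3, 3], [2, 3, 3, 2, 2, 2]), ([2, 2, 3, 2, 2, 2, 2, 2, 2, 3, 3, 4, 4, 4, 5, 5, 5, 5, 5, 5, 5, 5, 7, 3, 3], [3, 2, 3, 2, 3, 2, 3, 4, 4, 3, 4, 5, 5, 5, 5, 5, 5, 5, 5, 5, 3, 6, 3, 3]), ([2, 2, 2, 3, 2, 4, 5, 5, 5, 5, 6,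 3, 3], [2, 3, 2, 2, 3, 3, 2, 2, 2, 3, 4, 3, 4, 4, 5, 5, 5, 5, 5, 5, 6, 6, 7, 3]), ([2, 2, 3, 2, 3, 3, 2, 2, 2, 4, 3, 4, 4, 4, 3, 4, 5, 5, 5, 3], [3, 3, 2, 3, 3, 3, 2, 3, 3, 3, 4, 5, 5, 5, 5, 5, 5, 5, 6, 7, 3]), ([2, 2, 3, 2, 2, 2, 2, 2, 4, 5, 5, 3], [3, 2, 2, 4, 4, 4, 5, 5, 7]), ([2, 3, 3, 2, 2, 2, 2, 2, 4, 4, 3, 3, 4, 5, 5, 5, 5, 5, 5, 5, 6, 7], [2, 2, 3, 3, 3, 2, 3, 2, 2, 3, 4, 4, 3, 3, 4, 5, 5, 5, 5, 5, 3, 3]), ([2, 2, 3, 2, 2, 4, 4, 3, 3, 4, 5, 5, 6, 6, 6], [3, 3, 3, 2, 3, 2, 2, 2, 3, 3, 3, 4, 5, 5, 5, 5, 5, 6, 6, 6, 7]), ([3, 2, 2, 2, 2, 2, 2, 3, 4, 4, 3, 4, 5, 5, 5, 5, 5, 5, 5, 5, 6, 6, 6, 7, 3, 3, 3], [3, 3,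 2, 3, 2, 3, 3, 3, 4, 5, 5, 5, 5, 5, 6, 6, 6]), ([2, 2, 3, 3, 3, 2, 3, 2, 2, 3, 3, 4, 4, 4, 3, 4, 5, 5, 5, 5, 6, 6, 6, 7, 3], [2, 2, 2, 2, 2, 2, 3, 4, 4, 4, 3, 4, 5, 5, 6, 6]), ([5, 5, 5, 5, 5, 5, 5, 5, 6, 6, 6, 7, 3, 3], [3, 3, 3, 2, 2, 2, 3, 2, 4, 6, 6, 7, 3, 3, 3]), ([3, 2, 2, 2, 3, 2, 3, 4, 4, 3, 3, 4, 5, 6, 6, 6, 7, 3, 3, 3], [2, 2, 2, 3, 4, 4, 4, 5, 5, 5, 5, 5, 5, 5, 5, 6, 3, 3]), ([3, 3, 2, 3, 2, 3, 2, 6, 7], [3, 3, 2, 2, 3, 3, 2]), ([3, 3, 3, 2, 3, 2, 2, 2, 3, 4, 4, 5, 5, 5, 5, 5, 5, 5, 6, 6, 6], [3, 2, 2, 3, 3, 3, 2, 2, 3, 4, 4, 4, 3, 4, 6, 6, 6, 7, 3, 3]), ([3, 2, 3, 2, 2, 2, 3, 2, 2, 3, 4, 3, 4, 5, 5, 5, 5,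 3, 6, 3], [3, 3, 2, 2, 2, 3, 2, 2, 2, 4, 3, 4, 4, 4, 5, 6, 6, 3]), ([5, 5, 5, 5, 5, 5, 5, 5, 6, 7], [2, 2, 2, 2, 2, 2, 3, 3, 3]), ([2, 3, 3, 4, 5, 5, 5, 5, 7, 3, 3, 3], [2, 2, 2, 3, 3, 3, 2, 3, 4, 3, 4, 5, 5, 5, 5, 5, 5, 5, 5, 6, 3, 3]), ([3, 3, 3, 2, 3, 2, 3, 4, 3, 3, 4, 3, 4, 5, 5, 5, 5, 5, 5, 6, 3, 3, 3], [3, 3, 2, 2, 3, 3, 2, 2, 2, 3, 3, 4, 4, 4, 3, 4, 5, 5, 5, 5, 5, 5, 5, 6, 6, 3, 3]), ([3, 2, 2, 2, 3, 2, 2, 2, 4, 4, 3, 4, 5, 5, 5, 5, 5, 5, 5, 3, 6, 3], [3, 3, 2, 3, 2, 2, 2, 3, 3, 4, 3, 4, 5, 5, 5, 5, 5, 6]), ([2, 3, 3, 2, 2, 3, 3, 2, 3, 3, 4, 4, 4, 5, 5, 5, 5, 5, 5, 5, 5, 5, 6, 6, 6, 3, 3, 3], [2, 2, 2, 2, 2,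 2, 3, 3, 4, 3, 4, 5, 5, 6, 6, 6, 7, 3, 3]), ([2, 2, 3, 3, 3, 2, 3, 2, 3, 3, 3, 4, 3, 4, 4, 5, 5, 5, 5, 5, 5, 5, 5, 5, 3, 6, 3, 3], [2, 2, 3, 2, 2, 2, 2, 2, 2, 3, 4, 4, 5, 5, 5, 5, 3, 6, 3, 3]), ([2, 2, 3, 3, 2, 4, 3, 4, 5, 5, 5, 5, 3, 6, 7], [2, 2, 2, 3, 2, 2, 3, 4, 4, 3, 4, 5, 5, 5, 5, 5, 5, 5, 5, 5, 6, 3, 3, 3]), ([2, 3, 3, 2, 2, 3, 3, 2, 3, 3, 4, 4, 4, 5, 5, 5, 5, 5, 5, 5, 5, 5, 3, 6, 7, 3, 3, 3], [3, 2, 3, 2, 2, 2, 3, 2, 2, 3, 4, 3, 4, 6, 6]), ([2, 2, 3, 3, 3, 2, 3, 2, 3, 3, 3, 4, 3, 4, 4, 5, 5, 5, 5, 5, 5, 5, 5, 5, 6, 6, 6, 7], [2, 3, 2, 3, 2, 2, 2, 2, 2, 3, 4, 3, 3, 4, 3, 4, 5, 5, 6, 3]), ([3, 4, 4, 4, 3, 4, 5,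 5], [3, 2, 2, 2, 3, 3, 3, 2]), ([2, 2, 3, 2, 2, 2, 2, 4, 5, 5, 5, 5, 5, 5, 5, 5, 3], [2, 2, 3, 2, 3, 3, 2, 2, 2, 3, 4, 3, 3, 4, 3, 4, 5, 5, 6, 7])],
    [([3, 3, 2, 3, 2, 3, 2, 4, 4, 3, 3, 4, 5, 5, 5, 5, 5, 5, 5, 5], [3, 2, 2, 2, 3, 3, 3, 2, 4, 4, 4, 5, 5, 5, 5, 5, 5, 5, 6, 6, 6, 3, 3, 3]), ([3, 3, 2, 3, 2, 3, 2, 4, 4, 3, 3, 4, 3, 6], [3, 2, 2, 2, 3, 2, 2, 2, 3, 4, 4, 4, 5, 5, 5, 5, 5, 5, 5, 5, 5, 3, 6, 7, 3, 3]), ([2, 2, 3, 2, 2, 2, 2, 4, 5, 5, 5, 5, 6, 3, 3], [3, 3, 3, 2, 2, 2, 3, 2, 3, 4, 4, 3, 3, 4, 5, 5, 5, 6, 6, 3]), ([3, 2, 2, 2, 3, 2, 4, 4, 5, 5, 5, 5, 5], [3, 2, 3, 2, 3, 4, 3, 4, 4, 5, 5, 5, 5, 5, 5, 6, 3]),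 ([3, 2, 2, 2, 2, 2, 2, 3, 3, 3, 4, 5, 5, 5, 5, 6, 6, 3, 3], [2, 3, 3, 2, 3, 2, 2, 2, 3]), ([3, 2, 3, 2, 2, 3, 3, 2, 4, 3, 4, 4, 4, 5, 5, 5, 5, 5, 5, 5, 5, 6], [3, 2, 3, 2, 4, 3, 4, 5, 5, 5, 5, 5, 5, 5, 3, 6]), ([2, 3, 2, 2, 2, 2, 2, 3, 3, 4, 3, 4, 7, 3], [3, 2, 2, 3, 3, 3, 2, 2, 4, 4, 4, 5, 5, 5, 5, 5, 3, 3]), ([2, 3, 3, 2, 3, 2, 2, 2, 5, 5, 5, 5, 3, 6, 7], [2, 2, 2, 3, 2, 3, 3, 4, 4, 4, 3, 4, 3]), ([2, 2, 3, 2, 2, 2, 2, 4, 5, 5, 5, 5, 7, 3, 3], [3, 3, 2, 2, 2, 4, 3, 3, 3, 4, 3, 4, 5, 5, 5, 5, 5, 5, 5, 5, 6, 6, 3, 3, 3]), ([2, 2, 2, 2, 3, 3, 2, 3, 4, 4, 5, 5, 5, 5, 5, 6, 6, 3, 3, 3], [2, 3, 2, 3, 3, 3, 2, 4, 3, 3, 4,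 4, 4, 5, 5, 5, 3, 3, 3]), ([2, 2, 3, 2, 2, 2, 2, 4, 5, 5, 5, 5, 5, 5, 5, 5, 6, 6, 3, 3, 3], [3, 2, 2, 2, 3, 2, 2, 4, 4, 3, 4, 5, 6, 6, 6, 3, 3]), ([2, 3, 2, 2, 2, 3, 2, 2, 4, 3, 3, 3, 4, 3, 4, 5, 5, 5, 5, 5, 5, 5, 5], [2, 2, 3, 3, 3, 2, 3, 2, 2, 4, 3, 3, 4, 4, 3, 4, 5, 5, 5, 5, 5, 5, 6, 6, 7, 3, 3, 3]), ([2, 2, 3, 3, 3, 4, 5, 5, 5, 6, 6, 6, 7, 3], [3, 2, 2, 3, 2, 2]), ([2, 3, 3, 2, 3, 2, 2, 2, 5, 5, 5, 5, 5, 5, 5, 5, 6], [3, 2, 2, 2, 2, 3]), ([2, 3, 2, 3, 2, 2, 2, 2, 2, 3, 4, 4, 4, 3], [3, 3, 2, 3, 2, 3, 2, 3, 3, 4, 4, 4, 5, 5, 5, 5, 5, 3, 6]), ([3, 3, 2, 2, 2, 2, 3, 2, 3, 3, 3, 4, 3, 4, 4, 5, 5, 5, 5, 5, 5, 5, 3, 6,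 7, 3, 3], [2, 2, 3, 2, 4, 3, 3, 4, 4, 4, 5, 5, 5, 5, 5, 7, 3, 3]), ([3, 4, 3, 3, 4, 3, 4, 5, 5, 5, 6, 3], [2, 3, 3, 2, 4, 4, 3, 3, 4, 5, 5, 5, 7, 3, 3]), ([2, 3, 3, 2, 3, 2, 3, 4, 4, 4, 5, 3, 6], [3, 3, 2, 2, 3, 3, 2, 4, 3, 3, 4, 4, 3, 4, 6, 7]), ([3, 3, 2, 2, 2, 2, 3, 2, 4, 3, 3, 4, 4, 3, 4, 5, 5, 5, 5, 5, 5, 5, 5, 6, 6, 6, 7], [3, 2, 3, 3, 2, 2, 3, 2, 4, 3, 3, 4, 5, 5, 5, 5, 5, 7, 3]), ([2, 3, 3, 2, 2, 3, 3, 2, 3, 4, 5, 6, 6, 7], [2, 3, 2, 3, 3, 3, 2, 3]), ([3, 2, 2, 3, 2, 4, 3, 4, 4, 4, 5, 5, 5, 6, 6, 3, 3, 3], [2, 2, 3, 3, 2, 2, 2, 3, 4, 3, 4, 6, 6, 3, 3]), ([3, 2, 2, 3, 3, 2, 3, 4, 3, 4, 5, 5, 5, 3, 6, 7], [3,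 2, 3, 3, 3, 2, 2, 3, 3]), ([2, 3, 3, 2, 2, 2, 3, 3, 4, 3, 4, 5, 5, 5, 5, 5, 5, 5, 5, 7], [3, 3, 2, 2, 2, 2, 3, 2, 4, 3, 3, 3, 4, 3, 4, 5, 5, 5, 7, 3, 3, 3]), ([2, 3, 3, 4, 6, 3, 3, 3], [3, 2, 3, 2, 2, 3, 3, 2, 4, 5, 5, 6, 3, 3]), ([3, 2, 2, 3, 2, 3, 3, 4, 4, 5, 5, 5, 5, 5, 5, 5, 5, 5, 6, 6, 7, 3], [2, 2, 2, 2, 3, 2, 4, 5, 5, 5, 5, 5, 5, 5, 5, 6, 6, 6, 7, 3]), ([2, 3, 3, 2, 2, 3, 3, 2, 3, 3, 4, 4, 4, 3, 4, 7, 3, 3], [3, 2, 2, 3, 3, 2, 3, 3, 3, 4, 5, 5, 5, 5, 5, 5, 5, 5, 6, 6]), ([2, 3, 3, 2, 3, 2, 3, 3, 4, 4, 3, 4, 5, 5, 5, 5, 5, 5, 5, 5, 6, 7], [3, 3, 2, 2, 2, 2, 3, 2, 4, 4, 3, 4, 5, 5, 5, 5, 5, 5, 6, 6, 3]), ([2, 3,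 3, 2, 2, 2, 3, 3, 4, 3, 4, 5, 5, 5, 5, 6, 7, 3], [2, 2, 3, 2, 3, 3, 2, 2, 2, 3, 3, 3, 4, 3, 4, 7, 3]), ([5, 5, 3, 3], [3, 2, 2, 3, 3, 2, 4, 3, 3, 4, 4, 3, 4, 6, 7, 3, 3, 3]), ([3, 2, 2, 3, 3, 2, 3, 4, 3, 4, 5, 5, 5, 5, 5, 5, 5, 6], [2, 2, 2, 3, 2, 4, 3, 3, 4, 5, 5, 5, 3]), ([3, 4, 4, 4, 5, 5, 5, 7, 3, 3], [2, 3, 3, 4, 4, 3, 4, 5, 5, 6, 7, 3]), ([2, 4, 3, 4, 3, 4, 6, 6, 7, 3], [2, 2, 2, 3, 2, 2, 2, 3, 3, 4, 4, 3, 4, 5, 5, 5, 5, 5, 5, 5, 5, 6, 6]), ([2, 3, 4, 4, 3, 4, 5, 5, 5, 5, 5, 6, 6, 7, 3], [3, 2, 3, 3, 2, 2, 2, 3]), ([4, 3, 4, 4, 4, 5, 5, 5, 5, 5, 5, 6, 7, 3, 3, 3], [3, 3, 3, 2, 3, 2, 3, 3, 4, 4, 5, 5, 5, 5, 5,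 5, 7]), ([2, 3, 3, 2, 2, 3, 3, 2, 5, 5, 5, 5, 6, 3, 3, 3], [2, 2, 3, 2, 4, 3, 4, 3, 4, 3, 6]), ([2, 2, 2, 2, 4, 3, 3, 4, 3, 4, 5, 5, 6, 3, 3], [3, 3, 2, 2, 3, 3, 2, 2, 2, 4, 3, 4, 4, 4, 3, 4, 5, 5, 5, 5, 5, 3, 6, 3]), ([2, 2, 2, 2, 2, 3, 2, 3, 4, 4, 4, 5, 5, 5, 5, 5, 6, 6, 3, 3], [2, 2, 2, 2, 3, 2, 4, 5, 5, 5, 5, 5, 5, 6, 3]), ([2, 3, 2, 2, 3, 3, 2, 3, 3, 4, 5, 5, 5, 5, 7], [2, 3, 2, 3, 2, 3, 3, 2, 3, 4, 4, 5, 5, 5, 5, 6, 6, 6, 7, 3, 3, 3]), ([2, 2, 2, 2, 2, 3, 2, 3, 4, 4, 5, 5, 6, 6, 6, 7], [2, 2, 3, 2, 3, 2, 3, 4, 4, 3, 3, 4, 5, 5, 5, 5, 5, 5, 5, 5, 5, 3, 6]), ([3, 3, 3, 2, 2, 2, 2, 3, 4, 4, 3, 4, 5, 7, 3, 3], [2,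 3, 2, 3, 2, 2, 2, 2, 2, 3, 4, 3, 4, 4, 3, 6, 7, 3, 3]), ([2, 3, 2, 2, 3, 3, 2, 4, 3, 4, 4, 4, 5, 5, 5, 5, 5, 5, 5, 5, 6, 3], [3, 2, 3, 3, 4, 3, 4, 4, 5, 5, 5, 5, 5, 5, 3, 6, 7, 3]), ([2, 2, 2, 2, 2, 3, 2, 3, 4, 3, 4, 7, 3, 3], [2, 2, 3, 3, 3, 2, 2, 4, 4, 4, 5, 5, 5, 5, 5, 3, 3]), ([3, 2, 2, 4, 4, 3, 3, 4, 5, 6, 6, 6, 7, 3, 3, 3], [3, 3, 2, 3, 2, 2, 2, 3, 3, 4, 4, 3, 4, 5, 5, 5, 5, 5, 5, 5, 5, 3, 6, 3]), ([2, 2, 3, 2, 2, 3, 2, 3, 2, 4, 3, 4, 4, 4, 5, 5, 5, 5, 6, 6], [2, 2, 3, 2, 2, 4, 3, 4, 3, 4, 5, 5, 5, 5, 6, 6, 3, 3, 3]), ([3, 3, 2, 2, 3, 3, 2, 4, 4, 4, 3, 4, 5, 5, 5, 6, 7, 3], [3, 2, 2, 3, 3, 2, 3, 3, 4, 3, 4, 5,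 5, 5, 5, 5, 5, 5, 5, 5, 6, 6, 6, 7, 3]), ([2, 2, 2, 2, 2, 3, 2, 3, 3, 4, 3, 4, 4, 5, 5, 5, 6, 3], [2, 2, 3, 2, 3, 2, 2, 4, 3, 4, 4, 5, 6, 7, 3, 3, 3]), ([3, 2, 3, 3, 2, 2, 3, 2, 3, 3, 4, 4, 4, 3, 4, 5, 5, 5, 5, 5, 5, 5, 5, 5, 3, 6, 7, 3, 3], [3, 3, 2, 2, 2, 2, 3, 2]), ([2, 2, 2, 3, 2, 4, 3, 3, 4, 4, 3, 4, 5, 6, 6, 6, 3, 3, 3], [2, 2, 3, 2, 3, 2, 2, 4, 5, 5, 5, 5, 5, 5, 6, 6]), ([2, 2, 2, 3, 2, 4, 4, 5, 5, 5, 5, 5, 5, 5, 3, 6, 7], [2, 3, 3, 3, 2, 2, 3, 3, 4, 3, 4, 5, 5, 5, 5, 5, 5, 3, 6, 3, 3]), ([2, 2, 3, 2, 2, 3, 2, 3, 2, 4, 5, 5, 5, 5, 5, 5, 5, 3, 6, 7, 3, 3], [3, 3, 3, 2, 2, 2, 4, 3, 4, 4, 5, 5, 3, 3]), ([3, 2, 2,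 4, 3, 4, 3, 4, 5, 5, 5, 3, 6, 3, 3, 3], [3, 3, 2, 3, 3, 2, 4, 3, 3, 4, 3, 4, 5, 5, 5, 5, 5, 5, 5, 6, 7, 3]), ([3, 3, 2, 2, 3, 3, 2, 5, 5, 5, 6, 3], [3, 3, 3, 2, 2, 3, 4, 5, 5, 5, 5, 5, 6, 7, 3, 3]), ([3, 2, 3, 3, 2, 2, 3, 2, 3, 3, 4, 4, 4, 5, 5, 5, 5, 6, 6, 3, 3], [2, 3, 2, 3, 2, 2, 3, 3, 4, 4, 3, 4, 5, 5, 5, 6, 6, 7, 3, 3]), ([3, 3, 3, 2, 2, 2, 2, 4, 4, 3, 4, 5, 5, 3, 6, 7, 3, 3, 3], [2, 3, 3, 2, 4, 4, 5, 5, 5, 5, 5, 5, 5, 6, 7]), ([2, 3, 3, 2, 2, 2, 3, 4, 5, 5, 5, 5, 5, 3, 6, 7, 3, 3], [2, 3, 3, 2, 2, 3, 3, 2, 3, 3, 3, 4, 3, 4, 4, 5, 5, 5, 6, 6, 3]), ([2, 3, 3, 2, 2, 3, 3, 2, 4, 4, 3, 4, 5, 5, 5, 5, 5, 5, 5, 5, 6,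 6, 6, 7, 3, 3, 3], [2, 2, 2, 3, 2, 3, 2, 2, 4, 3, 3, 3, 4, 3, 4, 5, 5, 5, 5, 5, 5, 5, 5, 3, 6, 3, 3]), ([3, 3, 4, 4, 3, 3], [3, 3, 3, 4, 3, 4, 4, 5, 5, 5, 6, 3, 3]), ([2, 3, 3, 3, 2, 3, 2, 2, 4, 3, 4, 4, 4, 5, 5, 5, 6, 7, 3], [2, 3, 3, 2, 3, 4, 4, 4, 5, 5, 7]), ([2, 3, 3, 3, 2, 3, 2, 2, 3, 4, 4, 4, 3, 4, 6, 3], [2, 3, 2, 2, 2, 3, 2, 3, 3, 4, 4, 5, 5, 5, 5, 5, 5, 5, 5, 6, 6, 6, 7, 3, 3, 3]), ([2, 3, 2, 2, 3, 3, 4, 4, 4, 6, 6, 7], [3, 2, 2, 3, 3, 3, 2, 2, 3, 3, 4, 4, 5, 5, 5, 6, 6, 3, 3, 3]), ([2, 2, 3, 2, 3, 2, 4, 3, 4, 5, 5, 5, 5, 5, 5, 5, 6, 6, 3], [2, 3, 3, 3, 2, 3, 4, 4, 5, 5, 5, 5, 5, 5, 5, 3, 6, 3]), ([3, 3, 2,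 3, 2, 4, 3, 3, 4, 3, 4, 5, 5, 5, 5, 5, 5, 5, 5, 5, 3, 6], [2, 2, 3, 2, 2, 4, 4, 5, 5, 5, 5, 5, 6, 6, 3]), ([2, 3, 2, 3, 3, 2, 2, 2, 3, 4, 4, 3, 4, 5, 5, 7], [3, 3, 3, 2, 3, 2, 3, 3, 3, 4, 3, 4, 4, 5, 5, 5, 5, 5, 5, 5, 5, 6, 6, 3, 3]), ([2, 3, 2, 3, 3, 2, 2, 2, 3, 4, 3, 4, 3, 6, 3, 3, 3], [2, 3, 2, 2, 3, 3, 2, 2, 2, 3, 4, 4, 3, 3, 4, 5, 5, 5, 5, 5, 5, 5, 6, 6, 6, 7])]]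

/-- part of a table -/
def conjs6 : List (List (List ℕ × List ℕ)) :=
  [[([2, 3, 2, 3, 3, 4, 4, 4, 3, 4, 5, 5, 5, 5, 5, 5, 5, 5, 5, 6, 6, 6, 7, 3, 3], [2, 3, 3, 2, 2, 2, 4, 3, 4, 4, 5, 5, 5, 5, 5, 5, 5, 5, 5, 6, 6, 7, 3, 3, 3]), ([2, 2, 3, 2, 3, 2, 4, 3, 3, 4, 3, 4, 5, 5, 5, 5, 5, 5, 5, 5, 6, 6, 6, 7, 3], [3, 3, 3, 2, 2, 2, 2, 3, 2, 3, 3, 4, 5, 3, 3]), ([2, 3, 3, 3, 2, 3, 2, 2, 4], [3, 2, 2, 2, 3, 3, 3, 2, 4, 3, 4, 3, 4, 5, 5, 3, 6, 3, 3, 3]), ([2, 3, 2, 2, 3, 3, 4, 4, 5, 5, 5, 7, 3, 3], [3, 3, 3, 2, 3, 2, 4, 4, 5, 5, 5, 5, 5, 5, 3, 6, 7, 3, 3]), ([2, 3, 3, 3, 2, 3, 2, 2, 3, 4, 4, 3, 4, 5, 5, 5, 5, 3, 6, 3, 3], [2,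 3, 2, 2, 2, 3, 2, 2, 3, 3, 3, 4, 5, 3, 6, 7, 3, 3]), ([2, 3, 2, 3, 4, 3, 3, 4, 3, 4, 5, 5, 5, 5, 6, 6, 3, 3, 3], [3, 3, 2, 2, 2, 3, 2, 4, 5, 5, 5, 5, 5, 5, 5, 5, 6, 6, 6, 7, 3]), ([3, 3, 2, 2, 2, 3, 3, 2, 3, 3, 3, 4, 3, 4, 5, 5, 6, 6, 7, 3, 3, 3], [3, 2, 2, 2, 2, 2, 4, 3, 3, 4, 3, 4, 6, 6, 7, 3, 3]), ([3, 2, 3, 2, 3, 3, 2, 3, 4, 3, 4, 5, 5, 5, 5, 5, 5, 6, 7], [3, 2, 2, 2, 3, 2, 2, 4, 3, 4, 4, 5, 5, 5, 5, 5, 5, 5, 5, 5, 6, 6, 7, 3]), ([3, 2, 3, 2, 3, 3, 2, 4, 4, 4, 3, 4, 5, 5, 5, 5, 5, 5, 5, 6, 6, 7, 3, 3], [3, 3, 3, 2, 4, 3, 4, 4, 5, 5, 5, 5, 5, 6, 6, 7]), ([3, 3, 2, 2, 2, 3, 3, 2, 3, 4, 4, 5, 5, 5, 5, 5, 5, 5, 5, 3,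 3, 3], [2, 3, 3, 3, 2, 3, 2, 3, 4, 4, 5, 5, 5, 5, 5, 5, 3, 6, 3]), ([3, 3, 2, 3, 2, 3, 4, 4, 3, 4, 5, 5, 5, 5, 5, 5, 6, 6, 6, 7, 3, 3, 3], [3, 2, 3, 2, 3, 2, 4, 3, 3, 4, 5, 5, 5, 5, 6, 3, 3, 3]), ([2, 3, 2, 2, 2, 3, 4, 4, 4, 5, 5, 5, 5, 6, 6], [2, 3, 3, 2, 2, 2, 2, 2, 3, 3, 4, 5, 5, 5, 5, 5, 5, 6, 6, 7]), ([2, 2, 3, 2, 2, 3, 4, 6, 3], [3, 3, 2, 3, 2, 3, 4, 4, 5, 5, 5, 5, 5, 5, 3, 6, 3, 3, 3]), ([2, 3, 2, 2, 2, 2, 3, 4, 4, 3, 3, 4, 5, 5, 5, 6, 6, 6, 3, 3, 3], [2, 2, 3, 3, 2, 3, 4, 4, 5, 5, 5, 5, 5, 5, 5, 3, 6, 3]), ([2, 3, 3, 2, 3, 2, 3, 3, 4, 4, 3, 4, 5, 5, 5, 5, 5, 5, 5, 5, 6, 3, 3, 3], [2, 2, 3, 2, 3, 2, 3, 2, 3,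 4, 3, 4, 5, 5, 5, 5, 5, 5, 5, 6, 7]), ([6, 6, 6, 7, 3, 3], [2, 2, 2, 2, 2, 3, 2, 4, 4, 3, 3, 4, 3]), ([3, 2, 2, 3, 2, 3, 3, 4, 4, 5, 5, 5, 5, 5, 5, 5, 5, 5, 6, 6], [2, 3, 3, 2, 3, 3, 2, 2, 2, 4, 3, 4, 4, 5, 5, 5, 5, 5, 5, 5, 5, 6, 6, 7, 3, 3]), ([2, 3, 3, 4, 5, 5, 6, 6, 6, 3], [2, 2, 3, 3, 3, 2, 4, 3, 3, 4, 4, 4, 5, 5, 5, 5, 5, 7, 3, 3]), ([3, 2, 2, 2, 2, 3, 2, 4, 3, 3, 4, 3, 4, 6, 6, 7], [3, 3, 3, 2, 2, 4, 4, 5, 5, 5, 5, 6, 3]), ([2, 3, 3, 2, 3, 2, 3, 4, 4, 4, 5, 3, 6, 7, 3], [3, 3, 3, 2, 3, 2, 3, 2, 3]), ([2, 2, 2, 3, 2, 2, 2, 3, 4, 4, 3, 4, 5, 5, 7], [3, 2, 3, 2, 2, 2, 3, 3, 4, 3, 4, 4, 5, 5, 5, 5, 5, 5, 5, 5, 6,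 3]), ([2, 3, 4, 4, 3, 4, 5, 5, 5, 5, 5, 6, 6], [3, 2, 3, 2, 2, 2, 3, 4, 4, 5, 5, 5, 3, 6, 7, 3, 3, 3]), ([3, 2, 3, 2, 2, 2, 2, 2, 2, 4, 3, 4, 4, 4, 5, 5, 5, 5, 5, 5, 5, 5, 6, 6, 6, 3, 3], [3, 3, 2, 3, 2, 2, 2, 3, 4, 4, 3, 3, 4, 5, 5, 5, 5, 5, 6, 6, 6, 7, 3, 3, 3]), ([3, 2, 3, 2, 2, 2, 2, 2, 2, 4, 4, 5, 5, 5, 5, 5, 5, 5, 5], [2, 2, 3, 3, 3, 2, 3, 2, 3, 3, 4, 5, 3, 3, 3]), ([3, 3, 3, 2, 3, 2, 2, 2, 4, 3, 4, 5, 5, 5, 5, 5, 5, 6, 6, 3, 3, 3], [3, 2, 2, 2, 3, 2, 4, 6, 6, 7, 3, 3]), ([3, 3, 3, 2, 3, 2, 2, 2, 3, 4, 4, 3, 3, 4, 5, 5, 5, 5, 3, 6, 7, 3, 3], [3, 3, 2, 2, 3, 3, 2, 2, 2, 4, 3, 4, 3, 4, 5, 5, 5, 5, 5, 5, 5, 5, 5,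 6, 6, 7, 3]), ([3, 2, 2, 3, 2, 3, 2, 4, 3, 4, 4, 4, 5, 5, 5, 5, 5, 5, 5, 5, 5, 6, 6, 6, 7, 3, 3], [2, 2, 2, 2, 2, 3, 3, 4, 4, 3, 4, 5, 5, 5, 5, 6, 6, 6, 3, 3, 3]), ([3, 2, 3, 2, 2, 2, 2, 2, 2, 3, 4, 4, 3, 4, 7, 3, 3, 3], [2, 2, 3, 2, 2, 3, 2, 3, 2]), ([3, 3, 3, 2, 3, 2, 2, 2, 4, 3, 4, 4, 4, 3, 4, 5, 5, 3, 6, 7, 3], [3, 3, 3, 2, 3, 2, 2, 4, 3, 4, 4, 4, 5, 5, 5, 5, 5, 5, 5, 6, 3, 3, 3]), ([2, 2, 3, 2, 2, 3, 2, 3, 3, 4, 3, 4, 4, 5, 5, 5, 5, 5, 5, 5, 5, 5, 6, 6, 3, 3, 3], [2, 3, 3, 3, 2, 3, 2, 2, 3, 3]), ([3, 3, 2, 3, 3, 2, 2, 2, 4, 3, 3, 3, 4, 3, 4, 5, 5, 5, 5, 6, 6, 3, 3], [3, 3, 3, 2, 3, 2, 3, 3, 4, 3, 4, 4, 5, 5, 5,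 5, 3, 3, 3]), ([3, 2, 3, 2, 2, 2, 3, 2, 2, 3, 4, 4, 3, 3, 4, 5, 5, 5, 5, 5, 5, 5, 6, 7], [2, 2, 3, 2, 2, 2, 2, 2, 4, 3, 3, 4, 3, 4, 5, 5, 5, 6, 7, 3, 3, 3]), ([3, 2, 3, 2, 2, 2, 3, 2, 2, 4, 3, 4, 4, 4, 3, 4, 5, 5, 5, 5, 6, 6, 6], [3, 3, 3, 2, 2, 3, 3]), ([3, 2, 3, 2, 4, 3, 4, 4, 4, 5, 5, 5, 5, 5, 6, 6, 3, 3, 3], [3, 3, 2, 2, 2, 3, 3, 2, 3, 3, 3, 4, 3, 4, 5, 6, 6, 3, 3]), ([3, 3, 2, 3, 3, 2, 2, 2, 3, 4, 4, 3, 3, 4, 6, 7, 3, 3, 3], [3, 3, 3, 2, 3, 2, 2, 3, 3, 3]), ([3, 2, 3, 2, 2, 2, 3, 2, 2, 3, 4, 3, 3, 4, 3, 4, 5, 5, 5, 5, 5, 5, 5, 3, 6, 7, 3, 3], [3, 3, 2, 2, 2, 2, 3, 2, 3, 3, 4, 4, 4, 5, 5, 5, 5, 5, 5, 5, 5, 3, 6,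 7, 3]), ([3, 2, 2, 3, 2, 3, 2, 3, 4, 4, 4, 3, 4, 5, 5, 3, 6, 7, 3, 3], [3, 2, 3, 3, 3, 2, 2, 4, 3, 4, 3, 6, 7, 3, 3, 3]), ([3, 3, 2, 3, 3, 2, 2, 2, 3, 4, 3, 3, 4, 3, 4, 5, 5, 5, 5, 5, 6, 6, 7, 3, 3, 3], [3, 3, 2, 2, 3, 3, 2, 2, 2, 3, 4, 4, 4, 3, 4, 5, 5, 5, 6, 7, 3, 3]), ([3, 3, 2, 2, 2, 2, 4, 3, 4, 4, 5, 5, 7], [3, 3, 2, 2, 3, 3, 2, 2, 2, 3, 4, 3, 4, 4, 5, 5, 5, 5, 5, 5, 5, 5, 7, 3]), ([2, 3, 2, 2, 3, 2, 3, 3, 4, 4, 5, 5, 5, 5, 5], [3, 2, 3, 3, 2, 2, 3, 2, 3, 3, 4, 5, 5, 5, 5, 5, 5, 5, 5, 3, 3]), ([2, 3, 3, 2, 2, 3, 2, 3, 3, 4, 4, 4, 5, 5, 5, 5, 6, 6, 7, 3, 3], [2, 2, 3, 3, 3, 2, 3, 2, 3, 3, 3, 4, 3, 4, 4, 5, 5, 5,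 5, 5, 5, 5, 6, 6, 7, 3, 3]), ([2, 3, 3, 2, 3, 3, 2, 2, 2, 3, 4, 3, 3, 4, 3, 4, 5, 5, 5, 5, 5, 5, 5, 6, 6, 3, 3], [2, 3, 2, 3, 2, 3, 3, 2, 3, 3, 3, 4, 3, 4, 4, 5, 5, 5, 5, 3, 6, 7, 3, 3, 3]), ([2, 3, 3, 2, 3, 3, 2, 2, 2, 4, 4, 5, 5, 5, 5, 5, 6, 6], [3, 2, 2, 2, 3, 2, 2, 2, 3, 4, 3, 4, 4, 5, 5, 5, 5, 7, 3]), ([3, 2, 2, 3, 2, 3, 2, 4, 4, 5, 5, 5, 5, 5, 5, 5, 7], [3, 3, 2, 3, 2, 4, 5, 5, 5, 5, 5, 5, 5, 5, 5, 3, 6, 7, 3, 3]), ([3, 2, 2, 3, 2, 3, 2, 3, 3, 3, 4, 6, 3, 3, 3], [3, 2, 3, 2, 2, 3, 3, 2, 3, 3, 4, 4, 4, 3, 4, 5, 6, 6, 6, 7, 3, 3, 3]), ([3, 2, 2, 3, 3, 3, 2, 2, 4, 3, 4, 4, 5, 5, 5, 5, 5, 5, 5, 5, 5, 6, 6, 7], [2,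 2, 2, 3, 2, 2, 3, 3, 4, 3, 4, 5, 5, 5, 5, 5, 6, 6, 6, 7]), ([2, 3, 2, 2, 3, 3, 2, 2, 2, 4, 4, 3, 4, 5, 5, 5, 5, 5, 5, 5, 5, 5, 6, 6, 7, 3], [3, 2, 3, 3, 2, 5, 5, 5, 5, 5, 5, 5, 5, 5, 6, 6, 3]), ([2, 3, 3, 3, 2, 4, 4, 3, 3, 4, 5, 5, 3, 6, 3], [3, 3, 2, 3, 3, 2, 4, 3, 3, 3, 4, 3, 4, 5, 5, 5, 5, 5, 5, 5, 5, 5, 3, 6]), ([2, 3, 2, 2, 2, 4, 4, 4, 3, 4, 5, 5, 5, 5, 7, 3, 3, 3], [3, 3, 2, 3, 3, 3, 2, 5, 5, 3, 6, 7, 3, 3, 3]), ([2, 3, 2, 2, 2, 3, 4, 3, 4, 4, 5, 3, 6, 3, 3, 3], [2, 2, 2, 2, 2, 2, 4, 4, 5, 5, 6, 6, 6, 7]), ([3, 2, 2, 3, 2, 3, 2, 4, 4, 5, 6, 3, 3], [3, 2, 2, 3, 3, 4, 4, 4, 5, 5, 5, 5, 5, 5, 5, 5, 5, 3, 6, 3]),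 ([3, 2, 2, 3, 2, 3, 2, 4, 3, 4, 5, 5, 5, 5, 5, 5, 5, 6, 6], [3, 2, 3, 3, 3, 2, 3, 4, 4, 5, 5, 5, 5, 5, 5, 5, 3, 6, 3]), ([3, 2, 3, 3, 2, 2, 3, 2, 3, 3, 4, 4, 4, 3, 4, 5, 5, 5, 5, 5, 5, 5, 5, 7], [2, 2, 2, 3, 3, 2, 3, 4, 4, 5, 5, 5, 5, 5, 5, 5, 3, 6, 3]), ([2, 2, 2, 3, 2, 4, 4, 5, 5, 5, 5, 5, 5, 5, 5, 6, 6, 7], [2, 2, 2, 2, 3, 3, 2, 3, 3, 4, 4, 4, 6, 6, 6, 7, 3]), ([3, 3, 2, 2, 2, 3, 2, 3, 3, 3, 4, 7, 3], [3, 2, 3, 2, 2, 4, 3, 3, 3, 4, 3, 4, 5, 5, 5, 5, 5, 7, 3, 3, 3]), ([3, 3, 2, 2, 2, 2, 2, 4, 3, 3, 4, 4, 3, 4, 5, 5, 5, 5, 5, 5, 5, 3], [2, 2, 3, 2, 3, 2, 3, 2, 3, 3, 3, 4, 3, 4, 5, 5, 5, 6, 3, 3, 3]), ([2, 3, 3, 2,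 3, 3, 2, 2, 2, 3, 4, 4, 3, 3, 4, 5, 5, 5, 5, 5, 5, 6], [3, 2, 2, 3, 2, 3, 2, 4, 4, 3, 4, 5, 5, 6, 7, 3, 3, 3]), ([3, 2, 2, 2, 3, 2, 2, 3, 4, 4, 4, 5, 5, 5, 5, 5, 5, 5, 5, 5, 7, 3, 3], [3, 2, 2, 2, 3, 2, 3, 2, 4, 3, 4, 4, 4, 3, 4, 5, 5, 5, 5, 5, 5, 5, 5, 3, 6, 7, 3, 3, 3]), ([3, 2, 2, 3, 2, 2, 2, 2, 4, 5, 5, 5, 5, 5, 5, 5, 5, 3, 6, 7, 3], [2, 2, 2, 2, 2, 3, 2, 3, 4, 4, 4, 5, 5, 6, 3, 3]), ([3, 2, 2, 3, 2, 2, 2, 2, 4, 5, 5, 5, 5, 5, 5, 5, 5], [2, 3, 3, 3, 2, 3, 2, 2, 3, 4, 3, 4, 4, 5, 5, 6, 6, 6, 3]), ([3, 3, 3, 2, 3, 2, 3, 2, 4, 4, 3, 3, 4, 3, 6, 7, 3, 3], [2, 3, 2, 2, 2, 3, 2, 2, 3, 3, 4, 4, 3, 4, 5, 5, 5, 5, 5]), ([2,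 3, 2, 2, 2, 3, 4, 4, 3, 3, 4, 5, 5, 5, 5, 3, 6, 7, 3], [2, 3, 2, 3, 2, 2, 4, 3, 3, 4, 4, 3, 4, 5, 6, 6]), ([2, 3, 3, 2, 2, 3, 2, 3, 3, 4, 4, 4, 3, 4, 3, 6, 3, 3], [2, 2, 3, 2, 2, 2, 2, 2, 2, 3, 3, 4, 4, 3, 4, 5, 5, 5, 5, 5, 5, 5, 5, 3, 6, 7, 3, 3]), ([3, 2, 2, 2, 3, 3, 2, 3, 3, 4, 3, 4, 4, 5, 5, 5, 5, 5, 5, 6, 6, 3, 3], [3, 3, 3, 2, 3, 2, 3, 4, 3, 4, 4, 5, 5, 5, 5, 5, 5, 5, 6, 6, 6, 3, 3])],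
    [([2, 3, 3, 2, 2, 2, 2, 2, 3, 4, 4, 3, 4, 5, 5, 5, 5, 6, 7], [3, 2, 2, 2, 3, 3, 2, 3, 3, 4, 4, 4, 3, 4, 5, 5, 5, 5, 5, 5, 6]), ([2, 2, 3, 2, 2, 2, 2, 2, 4, 3, 4, 3, 4, 5, 5, 3, 3, 3], [3, 3, 2, 3, 3, 3, 2, 3, 3, 4, 3, 4, 4, 5, 5, 5, 5, 6, 3]), ([2, 3, 2, 3, 3, 4, 4, 4, 3, 4, 5, 5, 5, 5, 7, 3], [3, 3, 3, 2, 3, 2, 3, 4, 4, 5, 5, 5, 5, 5, 5, 5, 5, 5, 6, 6, 7]), ([2, 3, 2, 3, 3, 2, 2, 2, 3, 4, 3, 4, 5, 5, 5, 5, 5, 5, 5, 3], [3, 3, 2, 2, 2, 2, 4, 3, 3, 3, 4, 3, 4, 5, 5, 5, 5, 5, 7, 3, 3]), ([2, 2, 3, 2, 3, 2, 4, 4, 5, 6, 3, 3, 3], [2, 2, 3, 3, 2, 4, 4, 4, 3, 4, 6, 6, 6, 7]), ([2, 2, 3, 2, 3, 2, 4, 3, 3, 3, 4, 3, 4, 5,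 5, 5, 5, 5, 6, 6, 6, 3], [2, 2, 3, 2, 3, 2, 3, 2, 4, 3, 4, 5, 5, 5, 3]), ([2, 3, 2, 2, 4, 4, 3, 4, 5, 5, 5, 5, 5, 5, 5, 3, 6], [2, 2, 2, 3, 4, 4, 3, 4, 5, 6, 6, 6, 7, 3]), ([2, 3, 2, 2, 4, 3, 4, 4, 4, 3, 4, 5, 5, 5, 3], [2, 3, 3, 2, 3, 2, 4, 4, 3, 3, 4, 5, 5, 5, 5, 5, 5, 5, 5, 6, 6, 7, 3]), ([2, 3, 2, 3, 3, 2, 3, 3, 4, 4, 4, 3, 6, 3], [3, 2, 2, 2, 3, 2, 3, 2, 4, 3, 3, 3, 4, 3, 4, 5, 6, 6, 6, 7, 3, 3, 3]), ([3, 3, 2, 3, 2, 4, 4, 5, 5, 5, 3, 6, 7, 3, 3], [3, 2, 3, 2, 2, 3, 3, 4, 4, 3, 4, 5, 5, 5, 5, 5, 6, 3]), ([3, 2, 3, 2, 2, 2, 2, 2, 3, 4, 3, 4, 4, 5, 5, 7, 3], [3, 2, 2, 3, 2, 2, 2, 2, 4, 3, 3, 4, 4, 4, 5, 5, 6, 7,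 3, 3]), ([3, 3, 2, 2, 2, 3, 3, 2, 4, 3, 4, 3, 4, 5, 5, 5, 5, 5, 5, 5, 5, 6, 6, 6, 3, 3, 3], [2, 2, 2, 2, 2, 3, 3, 3, 4, 3, 4, 4, 5, 5, 5, 5, 5, 5, 5, 3, 6, 7, 3, 3, 3]), ([3, 3, 3, 2, 2, 2, 2, 4, 3, 3, 3, 4, 3, 4, 6, 6, 6, 3, 3], [3, 3, 2, 3, 2, 2, 2, 4, 4, 4, 3, 4, 5, 3, 6, 7, 3, 3, 3]), ([3, 3, 2, 2, 3, 3, 2, 3, 4, 3, 4, 5, 5, 5, 5, 6, 6, 6, 3, 3, 3], [3, 3, 2, 3, 3, 3, 2, 4, 3, 3, 4, 4, 4, 5, 5, 5, 5, 5, 7, 3, 3, 3]), ([2, 2, 3, 2, 2, 3, 2, 3, 2, 4, 3, 3, 4, 5, 5, 5, 5, 3, 6, 7, 3, 3], [3, 3, 3, 2, 3, 2, 2, 2, 3, 3, 4, 5, 5, 5, 5, 5, 5, 5, 5]), ([2, 3, 2, 3, 3, 2, 3, 4, 4, 3, 4, 5, 5, 5, 5, 5, 5, 5, 5, 7], [3, 2,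 3, 3, 2, 2, 2, 5, 5, 5, 5, 5, 5, 7]), ([3, 2, 2, 4, 3, 4, 4, 4, 5, 7, 3], [2, 2, 2, 2, 2, 4, 4, 3, 4, 5, 5, 5, 5, 5, 5, 7, 3, 3, 3]), ([3, 2, 2, 2, 3, 2, 3, 2, 3, 3, 4, 3, 4, 5, 5, 5, 5, 5, 5, 5, 5, 6, 6, 7, 3], [2, 2, 2, 2, 2, 3, 4, 3, 4, 4, 3, 6, 7]), ([3, 3, 2, 2, 3, 3, 2, 3, 4, 4, 4, 5, 5, 6, 6, 6], [2, 3, 2, 3, 2, 2, 3, 3, 4, 4, 4, 3, 4, 5, 5, 5, 3, 6, 7, 3, 3]), ([3, 3, 3, 2, 2, 2, 2, 5, 5, 5, 5, 5, 5, 6, 6, 7], [3, 2, 2, 2, 2, 3, 4, 3, 4, 5, 5, 5, 5, 5, 5, 3, 6, 3, 3, 3]), ([3, 3, 4, 3, 4, 4, 5, 5, 5, 5, 5, 6], [2, 3, 2, 3, 2, 2, 2, 2, 2, 3, 4, 5, 5, 5, 3, 6, 7, 3]), ([2, 3, 3, 2, 2, 3, 3, 2, 4, 4, 3, 4, 5, 5,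 5, 5, 5, 5, 6], [3, 3, 3, 2, 3, 2, 3, 3, 3]), ([2, 3, 2, 2, 4, 3, 3, 4, 5, 5, 5, 5, 5, 5, 5, 5, 5, 6, 6, 7], [3, 2, 3, 3, 3, 2, 3, 3, 3]), ([2, 3, 2, 2, 3, 4, 4, 3, 4, 5, 5, 5, 5, 5, 5, 3, 6, 3, 3, 3], [2, 2, 3, 3, 2, 3, 4, 3, 4, 4, 5, 5, 5, 5, 5, 5, 5, 5, 6, 6, 6]), ([2, 3, 2, 3, 3, 4, 4, 4, 3, 4, 5, 5, 5, 5, 5, 6, 6, 7, 3], [3, 3, 3, 2, 3, 2, 4, 3, 3, 4, 3, 4, 5, 5, 5, 5, 5, 6, 6, 6, 3]), ([2, 3, 2, 3, 4, 3, 3, 4, 3, 4, 5, 5, 5, 5, 5, 5, 6, 3, 3], [2, 2, 3, 2, 2, 3, 2, 3, 2, 3, 4, 4, 5, 5, 5, 5, 5, 5, 5, 7, 3, 3, 3]), ([3, 2, 2, 2, 3, 3, 2, 3, 3, 4, 3, 4, 5, 5, 5, 5, 5, 5, 5, 5, 5, 6, 6, 6, 3], [3, 2, 3, 2, 2, 2,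 3, 2, 2, 4, 3, 3, 4, 4, 4, 7, 3, 3, 3]), ([2, 3, 2, 3, 3, 2, 2, 2, 3, 4, 4, 3, 4, 5, 5, 5, 5, 3, 6, 7], [2, 2, 2, 2, 2, 3, 3, 3, 4, 5, 5, 5, 5, 6, 3, 3]), ([2, 2, 3, 2, 3, 2, 3, 2, 4, 4, 3, 3, 4, 5, 5, 5, 5, 5, 5, 5, 5, 6, 6, 6, 7, 3, 3, 3], [2, 3, 2, 2, 2, 2, 2, 3, 3, 4, 4, 3, 4, 5, 6, 6, 7]), ([3, 2, 3, 2, 3, 3, 2, 3, 4, 3, 4, 5, 5, 3, 6, 3, 3], [3, 3, 2, 3, 2, 3, 3, 4, 4, 4, 5, 6, 7]), ([2, 3, 3, 2, 2, 3, 3, 2, 5, 5, 5, 5, 5, 5, 5, 5, 3, 3], [3, 3, 3, 2, 3, 2, 3, 4, 4, 4, 5, 3, 6, 7]), ([4, 3, 4, 4, 4, 3, 4, 5, 5, 5, 5, 5, 5, 5, 5, 5, 3, 6], [3, 3, 2, 2, 2, 2, 2, 3, 3, 3]), ([2, 2, 2, 3, 2, 4, 4, 5, 5, 5, 5, 5, 7],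 [3, 2, 2, 3, 3, 2, 2, 2, 3, 3, 4, 3, 4, 4, 5, 5, 7, 3, 3, 3]), ([2, 2, 2, 3, 2, 4, 3, 3, 4, 4, 3, 4, 5, 5, 5, 5, 5, 5, 5, 6, 6, 3, 3], [3, 2, 2, 2, 3, 2, 3, 2, 4, 3, 3, 4, 4, 3, 4, 5, 5, 5, 5, 5, 5, 6, 6, 6]), ([3, 3, 3, 2, 2, 2, 2, 4, 3, 4, 4, 4, 5, 6, 7, 3, 3], [2, 3, 2, 3, 2, 2, 2, 2, 2, 4, 4, 4, 5, 5, 5, 6]), ([3, 3, 3, 2, 2, 2, 2, 3, 3, 3, 4, 3, 4, 4, 5, 5, 5, 6, 7, 3], [3, 3, 2, 4, 3, 3, 4, 4, 4, 5, 5, 5, 5, 5, 7, 3, 3]), ([2, 3, 2, 2, 3, 3, 2, 3, 3, 4, 5, 5, 5, 5, 5, 5, 3, 6, 7], [3, 2, 3, 2, 2, 2, 2, 2, 2, 3, 4, 3, 4, 4, 3, 6, 7, 3, 3]), ([2, 3, 3, 3, 2, 2, 2, 3, 2, 3, 3, 3, 4, 3, 4, 4, 5, 5, 5, 5, 5, 6, 6,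 6, 3], [2, 2, 2, 2, 2, 3, 4, 4, 4, 3, 4, 5, 5, 5, 5, 5, 5, 6, 6, 3, 3, 3]), ([2, 2, 3, 2, 3, 2, 3, 2, 3, 4, 4, 4, 6, 6, 6, 7, 3, 3], [2, 2, 2, 2, 3, 3, 2, 3, 4, 4, 4, 5, 5, 5, 5, 5, 3, 6, 3]), ([3, 2, 3, 3, 2, 2, 3, 2, 3, 3, 4, 4, 4, 5, 5, 5, 5, 5, 5, 5, 5, 6, 6, 6, 3, 3, 3], [2, 3, 2, 2, 3, 2, 3, 2, 3, 3, 3]), ([3, 3, 2, 2, 2, 2, 2, 4, 3, 3, 4, 4, 3, 4, 5, 5, 5, 5, 5, 5, 5, 5, 5, 3, 6, 3], [2, 3, 3, 2, 3, 2, 2, 2, 3, 3, 4, 4, 5, 5, 6, 6, 6, 3]), ([2, 3, 3, 2, 3, 3, 2, 2, 2, 3, 3, 4, 3, 4, 4, 5, 5, 5, 5, 5, 5, 5, 6, 6, 7], [3, 2, 3, 2, 3, 3, 2, 4, 4, 5, 5, 5, 5, 5, 5, 5, 6, 7, 3, 3, 3]), ([3, 2, 2, 3, 3, 3, 2, 2, 3,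 3, 4, 4, 5, 5, 5, 5, 5, 5, 5, 6, 6], [2, 2, 3, 2, 2, 3, 2, 3, 2, 3, 3, 3, 4, 3, 4, 4, 5, 5, 5, 5, 7]), ([2, 3, 2, 2, 3, 3, 2, 2, 2, 3, 3, 3, 4, 5, 5, 5, 5, 5, 5, 5, 6, 7], [2, 2, 2, 3, 2, 2]), ([2, 2, 4, 3, 4, 4, 5, 5, 5, 5, 5, 5, 5, 5, 5, 6, 6, 7], [3, 3, 3, 2, 3, 2, 4, 3, 3, 4, 4, 4, 5, 5, 6, 7, 3]), ([2, 3, 3, 2, 3, 2, 2, 2, 3, 3, 3, 4, 3, 4, 5, 5, 5, 5, 5, 6, 7, 3], [3, 3, 2, 2, 2, 2, 2, 3, 3, 4, 3, 4, 5, 5, 5, 5, 5, 5, 5, 5, 5, 6, 6]), ([3, 3, 3, 2, 3, 2, 2, 3, 3, 4, 4, 5, 5, 5, 7, 3, 3, 3], [3, 3, 2, 3, 2, 4, 4, 5, 5, 5, 5, 5, 5, 3, 6, 7, 3, 3]), ([3, 2, 3, 3, 3, 2, 3, 2, 3, 4, 3, 4, 5, 5, 5, 5, 6, 6, 6, 7, 3],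 [3, 3, 3, 2, 3, 2, 3, 2, 4, 3, 4, 4, 4, 5, 5, 5, 5, 5, 6, 7, 3, 3, 3]), ([3, 2, 3, 3, 3, 2, 3, 2, 3, 4, 3, 3, 4, 3, 4, 5, 5, 6, 3, 3], [2, 3, 3, 2, 2, 3, 2, 3, 3, 4, 5, 5, 6, 6, 7]), ([3, 2, 3, 2, 2, 3, 3, 4, 4, 5, 5, 5, 7, 3], [2, 3, 2, 4, 4, 5, 5, 5, 5, 5, 5, 3, 6, 7, 3, 3]), ([2, 3, 2, 2, 3, 2, 3, 4, 4, 5, 5, 5, 5, 5, 5, 7, 3, 3], [3, 2, 2, 2, 3, 2, 3, 3]), ([3, 3, 2, 2, 2, 2, 3, 4, 4, 3, 4, 5, 7, 3, 3, 3], [3, 3, 2, 2, 2, 3, 3, 2, 3, 3, 4, 5, 6, 7, 3, 3]), ([3, 3, 2, 3, 2, 3, 2, 4, 4, 4, 3, 4, 5, 5, 5, 5, 5, 5, 6, 7, 3, 3, 3], [2, 2, 3, 2, 3, 2, 2, 3]), ([3, 2, 2, 2, 3, 2, 4, 4, 4, 3, 4, 5, 5, 5, 5, 6, 3, 3], [3,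 3, 2, 2, 3, 3, 2, 3, 4, 3, 3, 4, 3, 4, 5, 5, 5, 6, 7, 3, 3]), ([3, 3, 3, 2, 3, 2, 2, 4, 3, 3, 4, 3, 4, 5, 5, 5, 5, 6, 6, 6, 7, 3], [2, 3, 2, 3, 2, 3, 3, 2, 3, 3, 3, 4, 3, 4, 4, 5, 5, 5, 5, 3, 6, 7, 3]), ([3, 2, 3, 3, 3, 2, 3, 2, 3, 4, 4, 3, 4, 3, 6, 3], [2, 3, 3, 2, 3, 3, 4, 3, 4, 4, 5, 5, 5, 5]), ([2, 2, 3, 2, 2, 2, 2, 2, 2, 3, 4, 4, 3, 4, 6, 6, 3, 3, 3], [2, 3, 2, 2, 2, 3, 2, 4, 6, 6, 7, 3, 3]), ([3, 2, 3, 3, 3, 2, 3, 2, 4, 4, 5, 5, 5, 5, 5, 5, 6, 7, 3, 3, 3], [2, 3, 2, 3, 3, 2, 3, 3, 4, 4, 3, 4, 5, 5, 5, 6, 6, 7, 3, 3]), ([2, 3, 2, 2, 4, 3, 3, 4, 4, 4, 6, 7, 3], [3, 2, 2, 2, 2, 3, 2, 3, 3, 4, 4, 4, 3, 4, 5, 5, 5,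 5, 5, 5, 5, 5, 6]), ([2, 3, 2, 2, 3, 4, 3, 4, 4, 5, 5, 5, 5, 5, 5, 5, 5, 5, 3, 6, 7], [3, 2, 3, 2, 2, 3, 3, 2, 3, 4, 3, 4, 4, 5, 5, 6, 7, 3, 3, 3]), ([2, 2, 3, 2, 2, 2, 2, 2, 2, 4, 3, 3, 4, 3, 4, 5, 5, 5, 5, 5, 5, 5, 3, 6, 7, 3], [2, 3, 2, 2, 2, 3, 2, 2, 3, 3, 3, 4, 5, 3, 6, 7]), ([2, 2, 3, 2, 2, 2, 2, 2, 2, 3, 3, 4, 4, 4, 3, 4, 5, 5, 5, 5, 5, 5, 5, 6, 7, 3, 3], [2, 2, 3, 2, 3, 3, 4, 4, 5, 5, 5, 5, 5, 5, 7]), ([3, 2, 2, 2, 3, 2, 2, 2, 3, 4, 4, 3, 4, 5, 5, 7, 3, 3, 3], [3, 3, 2, 3, 2, 2, 2, 3, 3, 4, 3, 4, 4, 5, 5, 5, 5, 5, 5, 5, 5, 6, 3]), ([3, 2, 2, 2, 3, 2, 2, 2, 4, 5, 5, 5, 5, 5, 5, 5, 5, 6, 6, 6, 7], [2, 3, 3, 2,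 3, 3, 3])],
    [([3, 3, 2, 2, 2, 2, 3, 2, 3, 3, 4, 4, 3, 4, 5, 5, 6, 7], [3, 3, 2, 2, 2, 2, 3, 3, 4, 4, 3, 4, 6, 7]), ([4, 3, 4, 4, 4, 5, 5, 5, 6, 6, 3], [4, 3, 4, 4, 5, 5, 5, 6, 3, 3]), ([3, 3, 4, 4, 5, 5, 5, 5, 5, 5, 5, 5, 5, 3, 6, 7, 3], [3, 2, 3, 3, 2, 2, 3, 2, 3]), ([3, 2, 3, 2, 3, 2, 4, 4, 4, 3, 4, 5, 5, 5, 5, 5, 6, 6, 6, 7], [2, 2, 3, 2, 3, 2, 2, 3, 3, 4, 3, 4, 4, 5, 5, 5, 5, 5, 5, 5, 5, 6, 7, 3]), ([3, 3, 2, 3, 3, 2, 4, 3, 3, 4, 3, 4, 5, 5, 3, 6, 7], [2, 2, 2, 3, 3, 3, 2, 4, 3, 3, 4, 4, 4, 5, 5, 5, 5, 5, 7, 3, 3]), ([3, 2, 2, 2, 3, 3, 2, 3, 3, 3, 4, 3, 4, 4, 5, 5, 5, 5, 5, 5, 5, 5, 6, 7, 3], [3, 2, 3, 2, 2,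 2, 3, 4, 4, 3, 4, 5, 6, 6, 6, 7, 3]), ([3, 3, 2, 2, 2, 2, 2, 4, 4, 3, 3, 4, 5], [2, 3, 2, 2, 2, 2, 3, 3, 4, 3, 6]), ([2, 3, 2, 3, 3, 2, 2, 2, 4, 5, 5, 5, 6, 6, 6, 7, 3], [2, 2, 3, 2, 2, 2, 2]), ([2, 3, 2, 3, 2, 2, 4, 4, 3, 4, 5, 5, 5, 6, 6, 6], [2, 3, 3, 3, 2, 4, 3, 4, 5, 5, 5, 5, 5, 3, 6, 7, 3]), ([3, 2, 4, 3, 3, 4, 5, 5, 5, 5, 5, 5, 6], [3, 2, 2, 2, 4, 3, 4, 3, 4, 5, 5, 6, 6, 3, 3, 3]), ([2, 2, 3, 2, 3, 3, 2, 2, 2, 4, 4, 4, 3, 4, 5, 5, 5, 5, 5, 5, 5, 5, 5, 6, 6, 6, 7, 3, 3], [3, 3, 2, 2, 3, 3, 2, 4, 3, 3, 4, 4, 3, 4, 6, 7, 3, 3]), ([2, 2, 3, 2, 2, 3, 2, 3, 2, 3, 3, 3, 4, 5, 5, 5, 5, 3, 6], [3, 3, 2, 3, 2, 2, 4, 3,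 3, 4, 4, 3, 4, 5, 5, 5, 5, 7, 3]), ([2, 2, 2, 4, 4, 4, 5, 5, 5, 6, 7], [3, 3, 2, 3, 2, 3, 2, 3, 4, 3, 4, 4, 5, 5, 5, 6]), ([2, 3, 2, 2, 2, 2, 2, 2, 4, 3, 3, 3, 4, 3, 4, 5, 5, 5, 5, 5, 5, 5, 3, 6, 7], [2, 2, 2, 2, 2, 3, 2, 4, 6, 6, 7, 3, 3]), ([2, 2, 3, 2, 2, 2, 3, 4, 4, 4, 5, 5, 5, 5, 5, 5, 5, 5, 6, 6, 7, 3, 3, 3], [2, 3, 3, 2, 3, 3, 2, 2, 2, 4, 3, 3, 4, 4, 3, 4, 5, 6, 6, 6, 7, 3, 3, 3]), ([2, 2, 3, 3, 3, 2, 3, 3, 3, 4, 5, 5, 3, 6, 7, 3, 3, 3], [3, 2, 2, 3, 2, 2, 4, 3, 4, 3, 4, 5, 5, 5, 5, 6, 6]), ([2, 3, 2, 3, 2, 2, 3, 4, 3, 6, 7], [3, 2, 3, 3, 2, 2, 2, 4, 3, 3, 4, 5, 5, 5, 5, 5, 5, 5, 5, 7]), ([2, 3, 3, 3, 2, 2, 2,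 3, 2, 4, 3, 3, 4, 5, 5, 3, 6, 7, 3, 3, 3], [3, 2, 3, 2, 3, 2, 4, 3, 3, 4, 3, 4, 5, 5, 5, 5, 6, 3, 3, 3]), ([2, 2, 3, 2, 2, 4, 3, 3, 4, 4, 4, 5, 5, 5, 5, 7], [3, 2, 2, 2]), ([2, 2, 2, 3, 2, 3, 2, 5, 5, 5, 5, 5], [3, 2, 2, 2, 3, 4, 3, 4, 4, 5, 5, 5, 6, 3, 3]), ([3, 3, 2, 4, 3, 4, 3, 4, 5, 5, 5, 5, 7, 3, 3, 3], [3, 3, 3, 2, 3, 3, 2, 4, 4, 3, 3, 4, 5, 5, 5, 3, 6, 3]), ([3, 2, 3, 3, 2, 2, 3, 2, 4, 3, 4, 4, 4, 5, 3], [2, 2, 3, 2, 2, 2, 2, 2, 3, 4, 4, 4, 5, 5, 6, 6, 3, 3, 3]), ([3, 3, 2, 3, 3, 2, 4, 3, 3, 4, 5, 5, 5, 6, 6, 6, 7, 3, 3], [2, 3, 2, 2, 3, 3, 2, 2, 2, 3, 4, 3, 4, 4, 5, 5, 7, 3, 3, 3]), ([3, 3, 2, 2, 3, 2, 4, 3,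 4, 4, 4, 5, 5, 5, 5, 5, 5, 5, 5, 6, 6, 7, 3, 3, 3], [3, 2, 2, 2, 3, 2, 3, 2, 3, 3, 3, 4, 3, 4, 4, 5, 6, 6, 6, 7, 3, 3, 3]), ([2, 3, 3, 3, 2, 3, 2, 4, 3, 3, 3, 4, 3, 4, 5, 3, 6, 7, 3], [3, 2, 2, 3, 2, 2, 3, 3, 4, 4, 4, 3, 4, 5, 5, 5, 5, 5, 5, 5, 5, 3, 6, 7, 3, 3]), ([3, 3, 3, 2, 2, 2, 4, 3, 3, 4, 4, 3, 4, 5, 5, 5, 5, 5, 5, 5, 5], [2, 3, 2, 2, 3, 3, 2, 3, 4, 3, 4, 4, 5, 5, 6, 7]), ([3, 2, 3, 3, 3, 2, 4, 4, 3, 3, 4, 5, 6, 7], [2, 3, 3, 2, 3, 2, 2, 2, 3, 4, 4, 5, 5, 5, 5, 5, 6, 6, 6, 7, 3, 3]), ([3, 3, 2, 2, 2, 3, 3, 2, 4, 3, 3, 4, 5, 6, 6, 6, 7, 3, 3], [3, 2, 2, 2, 2, 2, 2, 3, 3, 4, 4, 3, 4, 5, 5, 5, 5, 6, 6, 6, 3, 3,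 3]), ([3, 2, 3, 2, 2, 4, 3, 3, 4, 3, 4, 5, 5, 5, 5, 6, 6, 6, 7, 3, 3, 3], [3, 2, 3, 2, 2, 3, 3, 2]), ([3, 2, 3, 2, 2, 3, 4, 4, 3, 3, 4, 5, 5, 3, 6, 3, 3, 3], [2, 2, 3, 2, 3, 3, 4, 4, 3, 4, 6, 6, 6, 7, 3, 3]), ([3, 3, 3, 2, 2, 2, 2, 4, 4, 4, 5, 5, 5, 5, 5, 5, 5, 6, 7, 3], [3, 3, 2, 3, 3, 3, 2, 3, 3, 3, 4, 3, 4, 4, 5, 6, 6, 3, 3, 3]), ([3, 3, 3, 2, 2, 2, 2, 3, 4, 3, 4, 5, 5, 3, 6, 7], [2, 2, 2, 3, 2, 2, 2, 3, 3, 4, 4, 4, 5, 5, 5, 5, 5, 5, 5, 5, 5, 6, 6, 6, 7]), ([4, 4, 4, 3, 4, 5, 5, 3], [2, 2, 2, 3, 3, 3, 2]), ([2, 2, 2, 3, 3, 3, 2, 4, 3, 4, 4, 5, 5, 5, 5, 5, 5, 5, 5, 6, 7], [3, 3, 2, 3, 3, 4, 4, 5, 5, 5, 5, 5, 5, 7]),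 ([2, 2, 2, 3, 2, 3, 2, 2, 3, 4, 4, 5, 5, 5, 5, 5, 5, 5, 5, 6, 7, 3], [2, 3, 3, 3, 2, 3, 2, 2, 3, 4, 3, 4, 4, 5, 5, 5, 5, 6, 6, 6]), ([3, 2, 2, 3, 3, 2, 3, 4, 3, 4, 5, 5, 5, 5, 6, 6, 6], [3, 2, 3, 3, 3, 2, 4, 3, 3, 4, 4, 4, 5, 5, 5, 5, 5, 7, 3, 3, 3]), ([2, 2, 2, 3, 3, 3, 2, 4, 3, 4, 5, 5, 5, 5, 5, 5, 5, 5, 6, 6, 7, 3], [2, 2, 2, 2, 2, 4, 4, 5, 5, 5, 5, 6, 3]), ([2, 3, 2, 2, 2, 3, 2, 3, 3, 4, 3, 4, 5, 5, 5, 5, 6, 6, 6], [2, 3, 2, 3, 3, 3, 2, 4, 4, 3, 3, 4, 5, 5, 5, 6, 6, 7, 3]), ([3, 4, 3, 3, 4, 3, 4, 7, 3], [3, 2, 2, 3, 2, 5, 3, 3, 3]), ([2, 2, 2, 3, 3, 3, 2, 3, 3, 3, 4, 3, 4, 5, 5, 6, 7, 3, 3, 3], [2, 2, 3, 2, 3, 2]),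 ([2, 2, 2, 2, 2, 2, 4, 4, 4, 5, 5, 5, 5, 5, 5, 5, 5, 7, 3, 3, 3], [2, 3, 3, 2, 2, 3, 3, 2, 4, 4, 3, 4, 5, 5, 5, 5, 5, 5, 5, 5, 5, 6, 7]), ([3, 3, 2, 3, 3, 4, 6, 3], [2, 3, 2, 3, 2, 3, 3, 2, 3, 4, 4, 5, 5, 5, 6, 3]), ([2, 3, 2, 3, 2, 4, 5, 5, 5, 5, 5, 5], [3, 2, 2, 2, 3, 2, 2, 2, 4, 3, 4, 4, 4, 5, 5, 5, 3, 6, 7]), ([4, 3, 3, 4, 4, 3, 4, 5, 5, 3, 6, 7], [2, 3, 3, 2, 2, 2, 2, 2, 4, 3, 3, 4, 3, 4, 6, 6, 7, 3, 3]), ([2, 2, 2, 2, 3, 2, 3, 3, 3, 4, 3, 4, 4, 5, 5, 5, 5, 5, 5, 5, 5, 5, 6, 6, 7, 3, 3], [3, 2, 3, 2, 2, 3, 3, 2, 4, 3, 4, 4, 5, 5, 5, 5, 5, 5, 5, 5, 6, 3, 3]), ([2, 2, 3, 2, 3, 2, 2, 3, 3, 4, 4, 3, 4, 5, 5, 5, 5,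 5, 5, 5, 6], [3, 3, 2, 2, 3, 3, 2, 4, 4, 5, 5, 5, 5, 5, 5, 5, 6, 7, 3, 3, 3]), ([3, 3, 2, 2, 2, 3, 2, 2, 2, 4, 4, 5, 5, 5, 5, 3, 3, 3], [2, 2, 3, 2, 2, 3, 2, 3, 2, 3, 4, 4, 3, 4, 6, 6, 3, 3]), ([3, 2, 3, 3, 4, 5, 5, 5, 5, 5, 5, 6, 6, 3], [2, 3, 3, 3, 2, 4, 4, 5, 5, 5, 5, 3, 6, 3, 3, 3]), ([2, 3, 2, 3, 2, 3, 3, 2, 4, 3, 3, 4, 4, 3, 4, 5, 5, 5, 5, 5, 5, 5, 5, 5, 6], [2, 3, 3, 2, 2, 3, 3, 2, 4, 3, 3, 4, 4, 3, 4, 5, 3, 6]), ([3, 3, 2, 3, 3, 4, 5, 5, 5, 5, 5, 5, 5, 5, 6, 6, 7, 3, 3, 3], [3, 2, 2, 2, 3, 2, 2, 3]), ([3, 3, 3, 2, 3, 2, 3, 2, 3, 4, 4, 4, 3, 4, 5, 5, 5, 5, 5, 5, 7, 3, 3], [2, 3, 3, 3, 2, 3, 2, 4, 3, 4, 4, 5,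 5, 5, 5, 5, 5, 5, 6, 3, 3]), ([3, 3, 2, 3, 2, 2, 2, 3, 4, 4, 3, 4, 5, 5, 5, 5, 3], [3, 2, 2, 3, 3, 3, 2, 2, 4, 3, 3, 4, 3, 4, 5, 5, 6, 6, 6, 3, 3, 3]), ([2, 2, 3, 2, 3, 2, 2, 3, 3, 4, 4, 4, 3, 4, 5, 5, 5, 5, 6, 6, 7, 3, 3], [2, 2, 2, 3, 2, 2, 2, 3, 3, 3]), ([2, 3, 3, 3, 2, 2, 4, 4, 3, 4, 5, 5, 5, 6, 6, 7, 3, 3, 3], [2, 3, 2, 4, 3, 3, 3, 4, 3, 4, 5, 5, 5, 5, 5, 5, 5, 5, 5, 6, 6, 6, 7, 3, 3]), ([3, 2, 2, 3, 2, 4, 3, 4, 4, 4, 5, 5, 5, 5, 5, 5, 5, 5, 6, 6, 7], [3, 2, 3, 2, 2, 2, 2, 4, 3, 3, 4, 4, 3, 4, 3, 6, 3, 3, 3]), ([4, 3, 3, 4, 5, 5, 5, 5, 5, 6, 7, 3, 3], [3, 3, 2, 2, 3, 3, 2, 4, 4, 3, 3, 4, 5, 6, 7, 3]), ([2, 3, 2,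 2, 2, 3, 2, 4, 3, 3, 4, 4, 3, 4, 5, 3, 6, 7, 3, 3], [3, 2, 2, 3, 2, 2, 2, 2, 3, 3, 4, 4, 5, 5, 5, 3, 6, 7, 3, 3]), ([2, 2, 3, 2, 3, 3, 3, 2, 3, 4, 4, 5, 5, 5, 5, 5, 5, 5, 5, 6, 6, 6, 3, 3], [3, 2, 2, 2, 3, 2, 2, 4, 5, 5, 5, 5, 5, 5, 5, 3, 3]), ([4, 3, 4, 5, 5, 6, 7, 3], [2, 3, 2, 2, 3, 2, 3, 4, 3, 4, 6, 6, 6, 7, 3, 3]), ([2, 2, 3, 2, 2, 3, 4, 5, 5, 5, 5, 5, 5, 3, 6, 7, 3], [3, 2, 2, 2, 2, 2, 3, 3, 4, 3, 4, 4, 5, 5, 5, 5, 5, 5, 5, 5, 5, 6, 6, 7, 3, 3, 3]), ([2, 3, 2, 2, 2, 4, 5, 5, 5, 5, 5, 5, 5, 5, 3], [2, 2, 3, 3, 3, 2, 3, 2, 4, 3, 4, 3, 4, 5, 5, 5, 5, 6, 6, 6, 3, 3]), ([3, 3, 3, 2, 2, 2, 3, 2, 4, 3, 3, 4, 4, 3, 4,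 5, 5, 5, 5, 5, 5, 5, 6, 6, 3, 3, 3], [3, 2, 2, 2, 3, 3, 2, 3, 3, 3, 4, 5, 5, 6, 6]), ([2, 3, 3, 3, 2, 3, 2, 4, 4, 4, 5, 5, 5, 5, 5, 5, 5, 6, 6, 6, 7], [2, 3, 3, 3, 2, 3, 3, 2, 3, 4, 3, 4, 5, 5, 6, 3, 3, 3]), ([3, 2, 2, 2, 2, 2, 2, 4, 4, 3, 4, 6, 6, 6, 3, 3, 3], [3, 2, 2, 2, 3, 2, 3, 2, 3, 4, 4, 3, 3, 4, 5, 5, 5, 5, 5, 5, 5, 5, 5, 6, 3, 3, 3])],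
    [([3, 2, 2, 2, 2, 4, 3, 4, 4, 4, 5, 6, 7], [3, 2, 2, 2, 3, 3, 2, 3, 4, 3, 4, 4, 6, 7]), ([3, 2, 4, 3, 4, 3, 4, 6, 7, 3], [3, 2, 2, 3, 2, 3, 2, 4, 4, 4, 3, 4, 5, 6]), ([3, 2, 2, 2, 3, 2, 2, 4, 5, 5, 5, 5, 6, 3, 3, 3], [2, 2, 2, 2, 2, 4, 3, 3, 4, 3, 4, 6, 6, 7, 3, 3, 3]), ([3, 2, 3, 2, 2, 3, 3, 2, 3, 3, 4, 5, 5, 5, 5, 7, 3, 3, 3], [2, 3, 2, 2, 3, 3, 2, 4, 3, 3, 4, 4, 3, 4, 6, 7, 3]), ([2, 3, 2, 2, 2, 2, 2, 3, 3, 4, 4, 5, 5, 6, 6, 6, 7, 3, 3, 3], [3, 2, 2, 3, 2, 3, 2, 3, 4, 4, 3, 3, 4, 5, 5, 5, 5, 5, 5, 5, 5, 5, 3, 6]), ([2, 2, 3, 2, 2, 2, 2, 3, 4, 4, 4, 3, 4, 5, 6, 6, 3, 3, 3], [2, 3, 2, 2, 3, 3, 2, 2, 2, 3, 4, 3,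 3, 4, 3, 4, 5, 5, 5, 5, 5, 5, 5, 5, 6, 3, 3, 3]), ([3, 3, 2, 2, 2, 3, 2, 2, 2, 4, 4, 3, 3, 4, 5, 5, 5, 7, 3, 3], [2, 2, 3, 2, 2, 3, 2, 3, 2, 3, 3, 3, 4, 5, 5, 5, 5, 5, 5, 5, 5, 5, 3, 6, 3, 3, 3]), ([3, 2, 3, 3, 3, 2, 2, 4, 4, 3, 4, 5, 5, 3, 6, 7, 3, 3], [3, 2, 2, 3, 2, 3, 2, 3, 4, 4, 3, 3, 4, 5, 5, 5, 5, 5, 5, 5, 5, 5, 3, 6, 3, 3]), ([2, 2, 3, 2, 2, 2, 2, 3, 4, 4, 4, 3, 4, 5, 5, 5, 5, 5, 5, 5, 7, 3, 3], [2, 2, 2, 3, 2, 3, 2]), ([2, 3, 2, 3, 2, 3, 3, 2, 3, 4, 4, 4, 6, 7, 3, 3, 3], [3, 2, 2, 2, 2, 2, 3, 4, 4, 4, 3, 4, 5, 5, 5, 5, 5, 5, 6, 6, 3, 3, 3]), ([3, 2, 3, 2, 2, 3, 3, 2, 3, 3, 4, 5, 5, 5, 5, 5, 5, 3, 6, 7, 3, 3,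 3], [2, 3, 2, 3, 3, 2, 3, 3, 4, 3, 4, 5, 5, 5, 5, 6, 6, 3, 3]), ([3, 2, 2, 2, 3, 2, 4, 3, 3, 4, 4, 3, 4, 5, 6, 6, 6, 7, 3], [2, 3, 2, 2, 2, 3, 3, 3, 4, 5, 5, 5, 5, 5, 5, 5, 5, 6, 6, 6, 7]), ([2, 3, 3, 3, 2, 3, 2, 4, 4, 4, 5, 5, 5, 5, 5, 5, 5, 5, 5, 7, 3], [3, 2, 3, 2, 2, 2, 2, 2, 3, 4, 3, 4, 4, 3, 6, 7, 3, 3]), ([3, 2, 4, 3, 4, 3, 4, 5, 5, 5, 5, 7], [3, 3, 2, 3, 3, 2, 4, 4, 3, 3, 4, 5, 5, 5, 3, 6, 3]), ([3, 3, 2, 3, 2, 3, 2, 4, 4, 5, 7, 3, 3, 3], [3, 2, 3, 3, 2, 2, 3, 2, 4, 6, 6, 7, 3, 3]), ([2, 3, 2, 3, 3, 2, 3, 4, 3, 4, 4, 6, 6, 3, 3, 3], [2, 2, 2, 3, 3, 3, 4, 5, 6, 6, 7, 3, 3]), ([3, 2, 3, 3, 3, 2, 3, 3, 4, 4, 4,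 5, 5, 5, 3, 6, 3, 3], [3, 2, 3, 2, 2, 2, 2, 3, 3, 4, 4, 3, 4, 5, 5, 5, 5, 5, 5, 5, 5, 6, 6, 7, 3]), ([2, 2, 2, 2, 3, 3, 2, 3, 3, 3, 4, 5, 6, 6, 7, 3, 3], [2, 3, 3, 3, 2, 3, 2, 4, 3, 3, 3, 4, 3, 4, 5, 5, 5, 5, 5, 5, 5, 6, 6, 7, 3]), ([2, 3, 3, 3, 2, 3, 3, 3, 4, 5, 5, 5, 5, 5, 5, 5, 3, 6], [3, 3, 3, 2, 2, 2, 4, 3, 3, 4, 3, 4, 6, 6, 6, 7, 3, 3, 3]), ([2, 3, 3, 3, 2, 2, 2, 3, 2, 4, 4, 3, 4, 5, 5, 6, 6, 7, 3, 3], [3, 2, 2, 2, 3, 2, 3, 3, 3]), ([2, 3, 2, 2, 2, 2, 2, 2, 4, 3, 4, 4, 4, 5, 5, 5, 5, 5, 5, 5, 5, 6, 6, 6, 3, 3, 3], [3, 2, 3, 2, 2, 2, 3, 4, 4, 3, 3, 4, 5, 5, 5, 5, 5, 6, 6, 6, 7, 3, 3, 3]), ([3, 2, 2, 2, 2, 3, 3,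 4, 5, 5, 5, 5, 5, 5, 5, 5, 5, 6, 6, 7, 3, 3], [2, 3, 2, 2, 2, 4, 3, 4, 4, 4, 5, 5, 5, 3, 6, 7]), ([3, 3, 2, 2, 2, 3, 3, 2, 4, 5, 5, 6, 6, 7, 3], [2, 3, 2, 2, 2, 2, 3, 3, 3, 4, 3, 4, 4, 5, 5, 5, 5, 5, 3, 6]), ([3, 3, 2, 2, 2, 5, 5, 6, 6, 6, 7], [3, 2, 3, 2, 2, 2, 2, 2, 2, 4, 4, 3, 3, 4, 5, 5, 5, 5, 5, 5, 5, 5, 5, 6, 6, 6, 7, 3]), ([2, 3, 2, 2, 3, 3, 3, 4, 3, 4, 4, 5, 5, 5, 5, 3], [2, 3, 3, 3, 2, 3, 3, 2, 4, 4, 3, 3, 4, 5, 5, 5, 3, 6, 3, 3]), ([3, 2, 3, 2, 2, 2, 2, 2, 4, 3, 4, 4, 4, 5, 3, 6, 3], [2, 3, 3, 2, 3, 3, 4, 4, 5, 5, 5, 5, 5, 5, 7]), ([3, 3, 2, 2, 2, 3, 3, 2, 3, 3, 4, 5, 5, 5, 5, 5, 5, 6, 6, 6, 7, 3, 3], [2,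 2, 2, 3, 4, 3, 4, 5, 5, 5, 5, 5, 7, 3]), ([3, 3, 2, 3, 2, 3, 4, 4, 3, 3, 4, 6, 6, 6, 3], [2, 3, 2, 2, 2, 2, 2, 4, 4, 3, 4, 5, 5, 5, 5, 5, 5, 7, 3, 3, 3]), ([2, 2, 2, 2, 3, 3, 2, 4, 3, 4, 4, 4, 5, 5, 5, 5, 5, 6, 3, 3], [3, 2, 2, 3, 2, 3, 2, 3, 3, 4, 4, 4, 5, 6, 7]), ([2, 2, 3, 2, 3, 2, 4, 4, 4, 5, 5, 5, 5, 5, 5, 5, 5, 7, 3, 3, 3], [3, 3, 3, 2, 3, 3, 4, 4, 3, 4, 5, 5, 6, 7, 3, 3]), ([2, 3, 3, 3, 2, 2, 2, 3, 2, 4, 3, 4, 3, 4, 5, 5, 5, 5, 5, 5, 5, 3, 6, 7, 3, 3, 3], [3, 3, 2, 3, 2, 2, 3, 4, 3, 4, 4, 5, 5, 5, 5, 6, 6, 6]), ([2, 3, 2, 2, 3, 3, 4, 3, 4, 5, 5, 5, 5, 5, 5, 5], [2, 2, 3, 2, 2, 2, 2, 2, 3, 4, 4, 3, 4, 5, 6, 6,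 6, 3, 3]), ([2, 2, 3, 2, 2, 4, 5, 5, 5, 5, 5, 5, 6, 6, 6, 3, 3], [2, 2, 2, 2, 2, 2, 3, 3, 4, 4, 3, 4, 5, 5, 5, 5, 5, 5, 5, 5, 3, 6, 7, 3, 3]), ([3, 3, 3, 2, 3, 2, 2, 3, 3, 4, 4, 4, 3, 4, 5, 5, 5, 5, 5, 5, 5, 6, 6, 6, 3, 3], [3, 2, 3, 2, 3, 2, 3, 4, 3, 4, 4, 5, 5, 5, 6, 3, 3, 3]), ([3, 2, 3, 2, 2, 3, 4, 4, 4, 5, 5, 7], [3, 3, 2, 2, 3, 4, 4, 4, 5, 5, 5, 5, 6, 6, 6, 7, 3, 3, 3]), ([2, 2, 2, 2, 3, 2, 3, 3, 4, 4, 3, 4, 5, 5, 5, 5, 5, 5, 5, 5, 5], [2, 2, 4, 3, 3, 4, 3, 4, 5, 5, 5, 3, 6, 3, 3, 3]), ([3, 3, 4, 4, 5, 5, 5, 5, 5, 5, 5, 6, 6, 6, 7], [3, 3, 2, 3, 2, 3, 3, 4, 4, 5, 5, 5, 5, 5, 5, 7]), ([2, 3, 3, 2, 2, 2, 2, 2, 3,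 4, 3, 3, 4, 3, 4, 5, 5, 5, 5, 5, 5, 5, 5, 6, 6], [3, 3, 2, 2, 4, 4, 4, 5, 5, 5, 5, 5, 5, 6, 3, 3, 3]), ([2, 2, 3, 2, 2, 2, 2, 2, 3, 4, 3, 3, 4, 3, 4, 5, 5, 5, 5, 5, 5, 5, 5, 6, 6, 6, 7, 3, 3, 3], [2, 2, 3, 3, 3, 2, 3, 2, 2]), ([3, 2, 2, 3, 2, 2, 2, 2, 3, 3, 3, 4, 3, 4, 5, 5, 5, 5, 5, 5, 6, 6, 6, 3, 3, 3], [2, 2, 2, 3, 3, 2, 3, 4, 4, 3, 3, 4, 5, 5, 5, 5, 5, 5, 5, 5, 5, 7, 3, 3]), ([2, 3, 3, 2, 3, 2, 2, 2, 4, 3, 4, 4, 6, 6, 6, 7], [2, 2, 2, 3, 3, 2, 3, 4, 3, 3, 4, 3, 4, 5, 5, 5, 6, 7, 3, 3]), ([3, 2, 3, 2, 2, 3, 3, 2, 5, 5, 5, 5, 5, 5, 5, 3, 6, 7, 3, 3, 3], [2, 3, 3, 2, 2, 2, 3, 3, 3]), ([2, 3, 2, 3, 3, 3, 2, 5, 5, 5,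 5], [2, 2, 2, 3, 3, 2, 3, 3, 4, 4, 5, 6, 6, 6, 3, 3]), ([2, 2, 3, 2, 3, 2, 3, 3, 3, 4, 3, 4, 5, 5, 5, 6, 6, 7, 3], [3, 3, 2, 2, 3, 2, 4, 3, 3, 4, 4, 3, 4, 5, 5, 5, 5, 5, 5, 5, 6, 6, 7, 3, 3, 3]), ([3, 3, 2, 3, 2, 4, 3, 4, 3, 4, 5, 5, 5, 6, 6, 6, 7, 3], [3, 3, 2, 2, 3, 2, 3, 4, 4, 3, 3, 4, 5, 5, 5, 5, 6, 6, 6, 7, 3]), ([3, 2, 2, 2, 2, 3, 3, 3, 4, 3, 4, 4, 5, 5, 5, 6, 7, 3, 3, 3], [2, 4, 3, 3, 4, 4, 4, 5, 5, 5, 5, 5, 7, 3, 3]), ([3, 3, 2, 2, 3, 2, 5, 5, 5, 5, 5, 6, 6, 7, 3, 3], [3, 2, 3, 2, 2, 3, 3, 2, 3, 3, 4, 5, 5, 5, 5, 5, 7, 3]), ([2, 3, 2, 3, 3, 2, 3, 3, 4, 3, 4, 4, 5, 5, 5, 5, 5, 6, 6, 7, 3, 3, 3], [2, 2, 2, 2,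 2, 2, 4, 3, 3, 4, 3, 4, 6, 6, 7, 3, 3]), ([3, 2, 2, 2, 2, 3, 4, 4, 3, 4, 5, 7], [2, 2, 3, 3, 2, 2, 2, 4, 3, 4, 4, 5, 5, 3, 3]), ([2, 2, 2, 2, 3, 3, 2, 3, 3, 4, 5, 5, 6, 7, 3, 3], [3, 2, 2, 2, 2, 2, 3, 4, 3, 4, 4, 3, 6, 7]), ([2, 3, 3, 3, 2, 3, 3, 4, 4, 3, 4, 5, 5, 5, 6, 3], [2, 3, 2, 3, 2, 3, 2, 3, 3, 4, 4, 4, 5, 5, 5, 5, 5, 3, 6, 3]), ([3, 2, 3, 3, 2, 2, 3, 2, 4, 3, 3, 4, 5, 5, 5, 5, 5, 5, 5, 5, 5, 3, 6, 7, 3, 3, 3], [2, 3, 3, 2, 2, 2, 4, 4, 4, 3, 4, 5, 5, 5, 5, 7, 3, 3]), ([3, 2, 3, 2, 3, 3, 2, 3, 4, 4, 4, 3, 4, 5, 5, 5, 5, 5, 5, 6, 6, 6, 3, 3, 3], [3, 3, 2, 3, 4, 4, 4, 5, 5, 7]), ([3, 2, 2, 2, 3, 2, 2, 3, 4, 3, 3,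 4, 3, 4, 6, 6, 7, 3], [3, 2, 3, 2, 2, 3, 3, 2, 3, 3, 4, 3, 4, 5, 5, 5, 5, 3, 6, 7, 3, 3]), ([2, 3, 2, 2, 2, 2, 2, 3, 3, 3, 4, 3, 4, 4, 5, 5, 5, 6], [2, 3, 2, 2, 3, 2, 3, 4, 4, 3, 3, 4, 5, 5, 5, 5, 6, 6, 6, 7, 3]), ([2, 2, 2, 3, 2, 4, 3, 3, 4, 4, 3, 4, 5, 5, 7, 3], [3, 2, 2, 3, 3, 2, 3, 3, 3, 4, 5, 5, 5, 5, 5, 5, 5, 5, 6, 6, 3]), ([3, 2, 3, 3, 2, 2, 3, 2, 3, 3, 4, 4, 4, 5, 5, 5, 5, 5, 5, 5, 5, 5, 3, 3], [3, 3, 2, 2, 2, 3, 3, 4, 4, 3, 4, 5, 5, 5, 5, 5, 5, 6, 6, 7, 3, 3, 3]), ([2, 3, 2, 3, 4, 3, 3, 4, 3, 4, 5, 5, 5, 5, 5, 3, 3, 3], [3, 2, 2, 4, 3, 3, 4, 4, 4, 5, 5, 5, 5, 5, 7]), ([2, 3, 2, 3, 3, 2, 2, 2, 3, 4, 4, 3, 4,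 5, 6, 6, 6, 3, 3], [3, 3, 3, 2, 3, 2, 4, 5, 5, 5, 5, 5, 5, 5, 5, 5, 3, 6, 7, 3, 3]), ([2, 3, 3, 3, 2, 2, 4, 3, 4, 4, 5, 5, 5, 5, 5, 5, 6, 6, 6, 3], [2, 2, 3, 3, 2, 2, 2, 3, 3, 4, 4, 4, 3, 4, 5, 5, 5, 5, 5, 5, 5, 6, 6, 3, 3, 3]), ([4, 3, 4, 4, 4, 5, 5, 5, 5, 3, 6, 7, 3, 3], [2, 3, 2, 3, 3, 3, 2, 5, 5, 3, 6, 7, 3, 3]), ([2, 3, 2, 3, 2, 2, 3, 3, 3, 4, 3, 4, 5, 5, 5, 5, 5, 5, 3, 6, 3, 3], [3, 2, 2, 3, 2]), ([3, 2, 3, 2, 2, 2, 2, 2, 3, 3, 3, 4, 3, 4, 4, 5, 5, 5, 6, 3, 3, 3], [2, 2, 2, 3, 2, 2, 4, 5, 5, 5, 5, 5, 5, 5, 3, 3]), ([3, 2, 5, 5, 5, 5, 5, 5, 5, 5, 5, 3, 6, 3], [2, 2, 2, 2, 3, 2, 4, 3, 3, 4, 3, 4, 5, 5, 5, 5, 5,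 3, 6, 7, 3, 3, 3])]]

/-- part of a table -/
def conjs7 : List (List (List ℕ × List ℕ)) :=
  [[([3, 2, 2, 2, 3, 3, 3, 2, 3, 3, 4, 4, 5, 5, 5, 5, 5, 5, 5, 3, 3], [2, 3, 2, 2, 3, 3, 4, 3, 4, 4, 5, 5, 7, 3, 3, 3]), ([3, 2, 2, 2, 3, 3, 3, 2, 3, 3, 4, 4, 4, 5, 5, 5, 5, 7, 3], [3, 3, 3, 2, 2, 2, 2, 4, 3, 4, 4, 4, 3, 4, 5, 5, 6, 6, 7, 3]), ([3, 3, 2, 4, 3, 3, 4, 5, 5, 5, 5, 5, 5, 6, 6, 3, 3], [3, 3, 2, 2, 3, 2, 4, 3, 3, 4, 4, 3, 4, 5, 5, 5, 5, 5, 5, 5, 6, 6, 7, 3, 3]), ([2, 2, 3, 3, 3, 2, 2, 4, 4, 4, 3, 4, 5, 5, 5, 5, 5, 3, 6, 3, 3], [3, 2, 2, 3, 2, 3, 3, 4, 4, 5, 5, 5, 5, 5, 5, 7]), ([3, 2, 2, 2, 2, 2, 3, 3, 4, 5, 5, 5, 5,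 5, 6, 6, 6, 3, 3], [3, 2, 2, 2, 3, 2, 2, 4, 3, 3, 4, 4, 4, 5, 5, 5, 5, 5, 5, 5, 5, 5, 3, 3, 3]), ([3, 2, 2, 3, 3, 2, 5, 5, 5, 5, 5, 5, 5, 6], [2, 3, 2, 2, 2, 3]), ([3, 3, 4, 4, 5, 5, 5, 5, 6, 6, 6, 7, 3, 3], [3, 3, 3, 2, 3, 2, 2, 2, 3, 3, 3, 4, 5, 5, 5, 5, 5, 5, 5, 5, 6, 6, 6, 7, 3, 3, 3]), ([3, 2, 3, 3, 3, 2, 3, 2, 4, 3, 3, 4, 5, 5, 5, 5, 5, 5, 3, 6, 3, 3, 3], [2, 2, 3, 2, 3, 2, 3, 2, 3, 4, 3, 4, 5, 5, 5, 5, 5, 5, 5, 6, 7, 3]), ([3, 2, 3, 2, 2, 3, 3, 4, 4, 3, 4, 5, 5, 5, 5, 5, 5, 5, 5, 5, 6, 3, 3], [2, 2, 3, 3, 3, 2, 3, 2, 3, 6, 3, 3, 3]), ([2, 2, 3, 2, 2, 2, 2, 2, 2, 4, 4, 5, 5, 5, 5, 5, 5, 5, 6, 7, 3, 3, 3], [2,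 2, 3, 2, 3, 3, 3, 2, 3, 3, 4, 5, 5, 5, 5, 6, 6, 7]), ([3, 3, 3, 2, 3, 2, 2, 3, 4, 3, 4, 4, 5, 5, 5, 5, 5, 5, 5, 5, 5, 3, 6, 7, 3], [2, 3, 2, 2, 3, 3, 2, 3, 4, 3, 4, 4, 5, 5, 6, 7, 3, 3, 3]), ([2, 3, 2, 2, 2, 3, 2, 4, 4, 3, 3, 4, 5, 5, 6, 6, 7, 3, 3, 3], [3, 2, 3, 2, 2, 2, 3, 3, 4, 3, 4, 4, 5, 5, 5, 5, 5, 5, 5, 5, 5, 6, 6, 7, 3, 3]), ([4, 3, 4, 4, 4, 5, 5, 5, 5, 5, 5, 5, 5, 5, 6, 7, 3], [2, 3, 2, 2, 2, 4, 3, 4, 3, 4, 5, 5, 6, 6]), ([2, 3, 3, 2, 5, 5, 5, 5, 5, 5, 5, 5, 5, 3, 6, 7, 3, 3, 3], [2, 4, 3, 4, 3, 4, 5, 6, 6, 6, 3, 3]), ([3, 3, 2, 2, 3, 3, 2, 2, 2, 4, 3, 3, 3, 4, 3, 4, 5, 5, 5, 7, 3], [2, 2, 3, 3, 2, 4, 4, 4,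 3, 4, 6, 6, 6, 7, 3, 3]), ([3, 3, 2, 2, 3, 3, 2, 3, 3, 3, 4, 3, 4, 4, 6, 6, 6, 7], [3, 3, 2, 3, 3, 3, 2, 4, 3, 3, 4, 4, 3, 4, 5, 5, 5, 5, 5, 6, 6, 6, 3, 3]), ([3, 2, 2, 4, 3, 4, 4, 5, 5, 5, 5, 5, 5, 5, 5, 5, 6, 6, 7, 3, 3, 3], [2, 3, 2, 4, 3, 3, 4, 4, 4, 5, 5, 6, 7, 3]), ([3, 3, 2, 3, 2, 2, 2, 4, 3, 3, 4, 4, 3, 4, 5, 5, 5, 5, 6, 6, 3, 3], [3, 2, 4, 3, 3, 4, 3, 4, 5, 5, 5, 5, 5, 5, 5, 5]), ([2, 3, 2, 3, 3, 2, 4, 3, 4, 3, 4, 5, 5, 5, 5, 5, 5, 5, 6], [2, 2, 3, 2, 2, 4, 5, 5, 5, 5, 5, 5, 6, 6]), ([2, 2, 3, 3, 3, 2, 4, 3, 4, 3, 4, 6, 7, 3], [3, 2, 2, 3, 2, 3, 2, 3, 3, 4, 4, 4, 5, 6, 7, 3, 3, 3]), ([3, 3, 2, 3, 2, 2, 2, 3,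 4, 4, 5, 5, 5, 5, 5, 5, 5, 6, 6, 6, 3], [2, 2, 3, 3, 3, 2, 2, 3, 4, 4, 4, 3, 4, 6, 6, 6, 7, 3, 3]), ([2, 3, 2, 2, 2, 2, 2, 4, 4, 4, 3, 4, 5, 5, 5, 5, 5, 5], [2, 3, 3, 2, 3, 3, 2, 2, 2, 3, 4, 4, 4, 5, 5, 5, 5, 5, 6, 6, 6, 7, 3, 3, 3]), ([2, 3, 3, 2, 2, 3, 2, 4, 3, 4, 4, 5, 5, 5, 5, 6, 6, 6, 3, 3, 3], [3, 2, 2, 2, 2, 3, 2, 4, 3, 4, 4, 4, 3, 4, 5, 7, 3]), ([2, 3, 2, 2, 3, 3, 2, 3, 4, 3, 4, 5, 5, 5, 5, 5, 5, 5, 5, 5, 7, 3, 3], [2, 3, 2, 2, 3, 4, 3, 4, 4, 5, 5, 5, 5, 6, 6, 6]), ([2, 3, 2, 3, 3, 2, 2, 2, 4, 3, 3, 3, 4, 3, 4, 5, 5, 3, 6, 7], [2, 2, 2, 2, 3, 4, 4, 5, 5, 5, 5, 5, 6, 6, 6, 7, 3]), ([3, 3, 3, 2, 3, 2, 2, 2, 4,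 5, 5, 5, 5, 5, 5, 5, 5, 6, 6, 7, 3, 3, 3], [2, 2, 3, 2, 3, 3, 3, 2]), ([2, 2, 3, 2, 2, 3, 2, 3, 3, 3, 4, 5, 5, 5, 5, 5, 5, 5, 5, 5, 7], [3, 2, 3, 2, 2, 2, 2, 3, 3, 4, 3, 6]), ([3, 2, 3, 2, 2, 2, 3, 2, 2, 4, 4, 3, 4, 5, 5, 7, 3], [3, 3, 2, 3, 2, 2, 4, 4, 5, 5, 5, 5, 5, 6, 6, 3]), ([3, 2, 3, 2, 2, 2, 3, 4, 3, 4, 4, 5, 3, 6, 3, 3], [2, 3, 2, 2, 3, 3, 2, 2, 2, 4, 3, 3, 4, 5, 5, 6, 6, 6]), ([3, 2, 3, 2, 2, 2, 2, 2, 2, 4, 5, 5, 3, 6, 7, 3, 3, 3], [2, 3, 3, 2, 3, 2, 2, 2, 3, 4, 3, 4, 3, 3]), ([3, 3, 3, 2, 3, 2, 2, 2, 4, 3, 3, 4, 4, 4, 5, 5, 5, 5, 5, 5, 3, 6, 7, 3], [3, 2, 2, 3, 2, 3, 4, 4, 5, 5, 3, 6]), ([3, 3, 2, 3, 3, 2,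 2, 2, 3, 3, 4, 3, 4, 4, 5, 5, 5, 5, 5, 5, 5, 5, 5, 6, 7, 3, 3, 3], [2, 2, 3, 2, 2, 3, 2, 4, 4, 4, 5, 5, 5, 5, 6, 7, 3, 3]), ([3, 2, 2, 2, 3, 3, 3, 2, 3, 3, 4, 3, 4, 5, 5, 5, 5, 5, 5, 7, 3, 3], [2, 3, 3, 2, 2, 3, 2, 4, 3, 4, 4, 4, 5, 6, 6, 7, 3, 3, 3]), ([3, 3, 3, 2, 2, 4, 3, 4, 4, 5, 5, 5, 6, 6, 7, 3, 3, 3], [3, 3, 2, 2, 3, 3, 2, 2, 2, 5, 5, 5, 5, 5, 5, 5, 5, 5, 3, 3, 3]), ([3, 2, 2, 2, 3, 3, 3, 2, 3, 3, 4, 3, 4, 5, 5, 5, 5, 6], [2, 3, 2, 2, 2, 2, 2, 4, 3, 3, 4, 3, 4, 6, 6, 7, 3, 3]), ([3, 3, 3, 2, 2, 4, 3, 4, 4, 5, 5, 5, 5, 5, 5, 5, 5, 5, 6, 6, 7, 3], [3, 2, 2, 3, 2, 4, 4, 5, 5, 5, 5, 5, 5, 3, 6, 7, 3, 3]), ([2, 3,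 2, 2, 2, 3, 4, 3, 3, 4, 3, 4, 5, 5, 5, 5, 5, 5, 7, 3, 3], [2, 2, 3, 3, 3, 2, 3, 2, 2, 3, 4, 3, 3, 4, 3, 4, 5, 5, 5, 5, 5, 5, 5, 3, 6, 7, 3, 3, 3]), ([2, 3, 2, 2, 2, 2, 4, 3, 3, 4, 4, 4, 5, 5, 5, 5, 5, 5, 5, 5, 7, 3, 3], [2, 2, 3, 2, 2, 3, 2, 3, 4, 4, 4, 5, 5, 5, 5, 5, 5, 5, 6]), ([2, 2, 3, 2, 2, 3, 3, 3, 4, 3, 4, 4, 5, 5, 5, 5, 6, 6, 6, 7, 3], [2, 3, 3, 3, 2, 2, 3, 4, 3, 4, 5, 5, 5, 5, 3, 6, 3]), ([3, 2, 2, 2, 3, 2, 3, 4, 4, 5, 5, 5, 5, 6, 6, 6, 7, 3, 3, 3], [3, 2, 3, 2, 3, 3, 2, 3, 3, 3, 4, 5, 5, 5, 5, 5, 5, 5, 5, 6, 3, 3]), ([2, 3, 2, 3, 3, 3, 2, 4, 3, 3, 4, 4, 3, 4, 6, 6, 6, 7, 3, 3, 3], [2, 2, 3, 2, 3, 3, 2, 2,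 2, 3, 3, 3, 4, 3, 4, 4, 5, 5, 5, 5, 5, 5, 5, 7]), ([3, 2, 2, 2, 2, 3, 3, 4, 3, 4, 4, 5, 5, 5, 5, 5, 5, 5, 7, 3, 3, 3], [2, 2, 2, 3, 3, 3, 2, 3, 3, 4, 6, 3, 3]), ([3, 3, 2, 2, 2, 3, 2, 4, 4, 5, 5, 5, 5, 5, 5, 3, 6, 3], [2, 3, 3, 2, 3, 3, 2, 2, 2, 5, 5, 5, 5, 6, 6, 7, 3, 3]), ([2, 3, 2, 2, 3, 3, 2, 2, 2, 4, 4, 4, 3, 4, 5, 5, 5, 5, 5, 5, 6, 3], [2, 2, 3, 2, 2, 2, 2, 2, 3, 4, 4, 3, 3, 4, 5, 6, 6, 3, 3, 3]), ([3, 2, 2, 2, 3, 3, 2, 3, 4, 3, 4, 5, 5, 5, 6, 7, 3, 3, 3], [3, 3, 3, 2, 2, 4, 3, 3, 4, 3, 4, 5, 3, 6]), ([3, 3, 2, 2, 3, 2, 3, 3, 4, 5, 5, 5, 5, 5, 5, 5, 5, 5, 6], [2, 3, 2, 2, 3, 4, 3, 4, 5, 5, 5, 5, 5, 7, 3]), ([2,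 3, 2, 3, 2, 3, 3, 2, 3, 3, 4, 4, 4, 5, 5, 5, 6, 6, 7, 3, 3, 3], [2, 2, 3, 3, 2, 2, 2, 4, 3, 4, 4, 5, 5, 3]), ([2, 3, 2, 3, 2, 2, 4, 3, 3, 4, 3, 4, 5, 5, 5, 7], [3, 2, 3, 3, 3, 2, 2, 4, 3, 3, 4, 3, 4, 5, 5, 6, 6, 6, 3, 3, 3]), ([4, 4, 5, 5, 5, 5, 5, 6, 6], [3, 2, 3, 2, 3, 3, 4, 4, 4, 5, 6, 7, 3]), ([2, 2, 3, 2, 3, 3, 3, 2, 3, 3, 4, 3, 4, 5, 5, 5, 5, 6, 7, 3], [3, 2, 2, 2, 3, 2, 3, 2, 3, 3, 4, 4, 4, 3, 4, 5, 5, 5, 5, 5, 5, 5, 5, 3, 3]), ([2, 4, 3, 4, 4, 5, 5, 6, 7, 3], [3, 2, 3, 3, 3, 2, 3, 2, 3, 4, 4, 5, 5, 5, 5, 5, 5, 5, 5, 5, 6, 6, 7, 3]), ([2, 2, 3, 2, 3, 2, 3, 2, 3, 4, 3, 4, 4, 5, 5, 5, 6], [2, 3, 3, 2, 3, 2, 3,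 4, 3, 4, 5, 5, 6, 3, 3]), ([3, 3, 2, 2, 2, 3, 2, 2, 2, 4, 3, 4, 3, 4, 5, 5, 5, 5, 6, 6, 7, 3, 3], [3, 2, 2, 2, 3, 2, 2, 2]), ([3, 2, 2, 2, 3, 2, 2, 2, 3, 4, 4, 4, 3, 4, 5, 5, 5, 5, 5, 5, 5, 6, 6, 6, 3, 3, 3], [2, 3, 3, 3, 2, 2, 3, 3, 4, 3, 4, 4, 5, 5, 5, 5, 5, 5, 5, 5, 5, 6, 6, 7]), ([3, 2, 2, 2, 3, 2, 2, 2, 3, 4, 3, 4, 6, 6, 6, 7], [3, 2, 2, 2, 2, 4, 3, 3, 4, 5, 5, 5, 6, 3, 3, 3]), ([2, 2, 2, 3, 3, 3, 2, 4, 3, 4, 5, 5, 5, 5, 5, 5, 3, 6, 7, 3, 3, 3], [3, 3, 3, 2, 2, 2, 2, 3]), ([4, 5, 5, 6, 6, 7, 3], [2, 2, 2, 2, 3, 3, 2, 3, 3, 3, 4, 3, 4, 5, 6, 6, 7, 3]), ([2, 3, 2, 2, 2, 3, 2, 3, 3, 3, 4, 3, 4, 5, 5, 5, 5, 5, 5, 6,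 6, 7, 3, 3, 3], [3, 2, 2, 2, 2]), ([3, 2, 3, 3, 3, 2, 3, 4, 4, 3, 4, 6, 7, 3, 3], [3, 3, 2, 2, 3, 3, 3]), ([3, 3, 2, 3, 3, 2, 4, 3, 3, 4, 5, 5, 5, 5, 5, 5, 5, 5, 6, 6, 6, 7, 3, 3], [2, 3, 3, 2, 3, 2, 4, 4, 5, 5, 5, 5, 5, 5, 3, 6, 7, 3]), ([3, 2, 2, 2, 2, 3, 2, 4, 3, 4, 4, 4, 3, 4, 5, 5, 5, 5, 5, 3, 3], [2, 3, 2, 3]), ([3, 2, 2, 2, 2, 3, 2, 3, 4, 3, 4, 4, 5, 5, 5, 5, 5, 5, 5, 5, 5, 6, 6, 7, 3, 3, 3], [2, 3, 2, 3, 3, 3, 2, 4, 4, 5, 5, 5, 5, 3, 6, 3, 3, 3]), ([2, 3, 2, 3, 2, 2, 4, 4, 3, 4, 5, 5, 5, 5, 5, 5, 6], [3, 3, 2, 3, 2, 3, 4, 3, 3, 4, 3, 4, 5, 5, 5, 5, 5, 5, 6, 6, 6, 7]), ([2, 2, 2, 4, 3, 4, 3, 4, 5, 5, 3, 3], [2,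 3, 2, 2, 2, 2, 2, 2, 4, 3, 3, 4, 3, 4, 5, 5, 5, 3, 6, 7, 3, 3, 3])],
    [([3, 2, 2, 2, 2, 3, 2, 3, 3, 4, 4, 5, 5, 5, 5, 5, 5, 6, 7, 3, 3], [2, 3, 2, 3, 3, 3, 2, 3, 3, 3, 4, 3, 4, 4, 5, 6, 6, 3, 3]), ([3, 2, 2, 2, 2, 3, 2, 3, 3, 4, 4, 3, 4, 5, 5, 5, 5, 5, 6, 6, 6, 7, 3], [2, 3, 2, 3, 3, 2, 2, 2, 3, 3, 3]), ([2, 2, 3, 3, 2, 3, 3, 3, 4, 3, 4, 4, 6, 6, 6, 7, 3, 3], [3, 2, 2, 3, 2, 3, 4, 4, 3, 3, 4, 5, 5, 5, 5, 6, 6, 6, 7, 3, 3, 3]), ([2, 3, 2, 2, 2, 3, 2, 4, 4, 3, 4, 3, 6, 3, 3, 3], [2, 2, 3, 2, 2, 3, 2, 3, 4, 3, 4, 5, 5, 6, 6, 6, 3, 3, 3]), ([2, 2, 2, 3, 2, 3, 2, 2, 3, 4, 3, 3, 4, 3, 4, 5, 5, 6, 6, 7, 3], [2, 2, 3, 2,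 2, 3, 2, 4, 4, 4, 5, 5, 5, 5, 6, 7, 3]), ([3, 2, 2, 3, 2, 4, 4, 4, 5, 5, 5, 5, 5, 5, 5, 6, 6, 6, 7], [3, 3, 2, 3, 2, 3, 2, 3, 3, 4, 4, 4, 5, 5, 5, 5, 5, 3, 6, 3, 3, 3]), ([2, 2, 2, 2, 3, 2, 4, 3, 4, 4, 4, 3, 4, 5, 5, 5, 5, 5, 5, 5, 6, 6, 6, 7, 3], [2, 3, 2, 3, 2, 4, 4, 4, 3, 4, 5, 5, 5, 5, 5, 5, 5, 6, 6, 3, 3]), ([2, 2, 3, 3, 2, 5, 5, 5, 6, 3, 3, 3], [3, 2, 2, 3, 3, 4, 4, 5, 5, 5, 5, 6, 7]), ([2, 2, 2, 3, 3, 3, 2, 4, 3, 4, 5, 5, 5, 5, 5, 5, 7, 3], [3, 3, 3, 2, 3, 2, 3, 2, 3, 3, 3, 4, 3, 4, 4, 5, 5, 5, 5, 5, 5, 5, 5, 7, 3]), ([3, 2, 2, 3, 3, 2, 2, 2, 3, 3, 4, 3, 4, 4, 5, 5, 5, 7, 3], [3, 2, 3, 3, 2, 2, 3, 2, 3, 3, 4,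 5, 5, 5, 5, 5, 5, 5, 5, 3]), ([3, 3, 2, 2, 2, 2, 3, 2, 4, 3, 3, 4, 4, 3, 4, 5, 3, 6, 3, 3], [3, 3, 3, 2, 3, 3, 2, 3, 3, 3, 4, 3, 4, 4, 5, 5, 5, 5, 5, 5, 5, 6, 3]), ([3, 3, 2, 2, 3, 2, 4, 3, 4, 4, 5, 5, 5, 5, 6, 3, 3, 3], [2, 2, 3, 3, 3, 2, 2, 3, 3, 4, 4, 5, 5, 5, 6, 6, 3]), ([3, 2, 2, 3, 2, 2, 2, 2, 4, 5, 5, 5, 5, 5, 5, 5, 5, 6, 6, 3, 3], [2, 2, 3, 2, 3, 2, 2, 3, 4, 3, 3, 4, 3, 4, 5, 5, 5, 5, 5, 5, 5, 5, 5, 6, 6, 6]), ([2, 3, 3, 2, 3, 3, 2, 2, 2, 3, 3, 3, 4, 3, 4, 5, 5, 5, 5, 5, 5, 5, 5, 6, 6, 6, 3, 3, 3], [3, 2, 3, 2, 2, 2, 2, 2, 4, 3, 4, 3, 4, 5, 5, 3, 3]), ([2, 3, 2, 2, 2, 4, 3, 3, 4, 3, 4, 5, 5, 5, 5, 5, 5, 5, 5,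 3, 6, 3, 3], [2, 2, 3, 3, 2, 2, 2, 4, 3, 3, 3, 4, 3, 4, 5, 5, 5, 5, 5, 5, 5, 5, 6, 6, 6, 3]), ([3, 2, 2, 3, 2, 2, 2, 2, 4, 5, 5, 5, 5, 5, 5, 5, 5, 6, 6, 6, 7], [2, 3, 2, 2, 3, 2, 4, 4, 4, 3, 4, 5, 5, 5, 5, 5, 5, 5, 5, 5, 3, 3, 3]), ([2, 2, 3, 3, 3, 2, 3, 4, 3, 4, 4, 5, 5, 5, 5, 5, 5, 5, 6, 6, 6, 3, 3], [3, 2, 2, 3, 3, 3, 2, 2, 3, 3, 4, 3, 4, 4, 5, 5, 5, 5, 5, 5, 6, 6, 6, 3]), ([2, 2, 3, 2, 3, 2, 2, 3, 3, 4, 4, 4, 3, 4, 5, 5, 5, 5, 5, 5, 5, 5, 6, 3, 3], [2, 2, 2, 4, 5, 5, 5, 5, 5, 5, 5, 5, 5, 3, 6, 7, 3, 3]), ([3, 2, 2, 3, 3, 2, 2, 2, 3, 3, 4, 3, 4, 4, 5, 5, 5, 6, 6, 7, 3], [2, 3, 2, 2, 2, 2, 3]), ([3, 2, 3, 2, 3, 2,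 4, 4, 5, 5, 3, 6, 7, 3, 3], [2, 2, 3, 2, 2, 3, 2, 3, 4, 4, 3, 3, 4, 5, 5, 5, 5, 6, 6, 6, 7, 3]), ([3, 3, 3, 2, 2, 2, 4, 3, 4, 3, 4, 5, 5, 5, 5, 5, 5, 5, 3, 3, 3], [3, 2, 3, 4, 4, 3, 4, 6, 3, 3, 3]), ([2, 3, 2, 3, 2, 3, 3, 2, 3, 3, 3, 4, 3, 4, 5, 5, 5, 5, 5, 5, 5, 5, 3, 3], [3, 3, 2, 4, 3, 4, 4, 5, 5, 5, 5, 5, 6, 6, 7, 3, 3, 3]), ([2, 2, 3, 2, 2, 3, 2, 3, 2, 3, 4, 3, 4, 4, 5, 5, 5, 5, 5, 5, 5, 5, 6, 6, 6], [2, 2, 3, 3, 3, 2, 3, 2, 2, 3, 3, 4, 4, 3, 4, 5, 5, 5, 5, 5, 6, 3]), ([4, 5, 5, 5, 5, 5, 5, 6, 6, 6, 3, 3, 3], [2, 2, 3, 3, 3, 2, 2, 4, 3, 4, 4, 4, 5, 5, 5, 6, 3, 3, 3]), ([2, 3, 2, 2, 2, 3, 2, 3, 3, 4, 3, 4, 5, 5,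 5, 5, 5, 5, 3, 6, 3, 3, 3], [3, 3, 2, 2, 2, 2, 3]), ([3, 2, 2, 3, 2, 3, 3, 4, 3, 4, 4, 5, 5, 5, 5, 5, 6, 6, 7], [3, 3, 3, 2, 2, 2, 2, 4, 4, 3, 4, 5, 5, 5, 5, 5, 5, 7, 3, 3, 3]), ([2, 2, 2, 3, 2, 3, 2, 3, 3, 4, 3, 4, 4, 3, 6, 3, 3, 3], [2, 2, 2, 2, 2, 2, 4, 3, 3, 4, 4, 3, 4, 5, 5, 5, 3, 6, 7, 3, 3]), ([3, 2, 2, 2, 2, 2, 2, 3, 4, 4, 3, 3, 4, 5, 5, 5, 5, 5, 5, 3, 6, 7, 3], [2, 3, 2, 2, 2, 2, 2, 2, 3, 3, 3, 4, 3, 4, 4, 5, 5, 5, 5, 5, 5, 5, 3, 6, 7, 3, 3, 3]), ([2, 3, 2, 3, 3, 2, 2, 2, 3, 3, 3, 4, 3, 4, 5, 5, 5, 5, 5, 5, 5, 5, 5, 6, 6, 6, 7, 3, 3, 3], [2, 3, 3, 3, 2, 3, 2, 3, 3, 4, 3, 4, 5, 5, 5, 5, 5, 5, 6, 7, 3, 3, 3]),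 ([3, 2, 3, 3, 2, 2, 3, 2, 4, 3, 4, 3, 4, 5, 5, 5, 5, 5, 5, 5, 5, 5], [3, 3, 2, 3, 3, 2, 2, 2, 4, 3, 3, 3, 4, 3, 4, 5, 5, 5, 5, 5, 5, 5, 5]), ([2, 3, 2, 3, 2, 2, 2, 2, 2, 4, 3, 4, 4, 5, 5, 5, 5, 5, 5, 5, 3, 6, 7, 3, 3], [3, 3, 3, 2, 2, 2, 2, 3, 3, 4, 5, 6, 7, 3, 3]), ([2, 2, 3, 2, 3, 3, 2, 2, 2, 4, 5, 5, 5, 5, 5, 5, 5, 5, 5, 6, 6, 6], [3, 3, 2, 3, 3, 2, 2, 2, 3, 3, 4, 4, 5, 5, 5, 5, 5, 5, 5, 7, 3]), ([2, 2, 2, 2, 2, 2, 4, 3, 4, 5, 5, 5, 5, 5, 5, 5, 5, 5, 6, 6, 6, 3, 3], [2, 2, 2, 3, 2, 2, 2, 3]), ([2, 2, 3, 2, 2, 2, 3, 3, 4, 4, 5, 5, 5, 5, 5, 6, 3, 3], [3, 2, 2, 3, 3, 2, 2, 2, 3, 4, 3, 4, 6, 6, 3, 3, 3]), ([3, 3, 2,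 2, 2, 3, 3, 2, 3, 4, 3, 4, 5, 5, 5, 6, 7, 3, 3], [2, 2, 3, 3, 2, 4, 4, 3, 3, 4, 5, 5, 5, 7, 3, 3]), ([2, 3, 3, 3, 2, 3, 2, 4, 3, 4, 5, 5, 5, 5, 5, 5, 5, 6, 7, 3], [3, 3, 2, 2, 2, 3, 2, 2, 2, 3]), ([3, 2, 3, 2, 3, 3, 2, 4, 4, 3, 3, 4, 6, 6, 6, 3, 3, 3], [2, 2, 2, 3, 3, 3, 2, 4, 3, 4, 4, 4, 5, 5, 6, 6, 6]), ([3, 2, 2, 2, 3, 3, 3, 2, 3, 3, 3, 4, 3, 4, 4, 5, 5, 6, 6, 6, 7, 3, 3], [2, 3, 2, 2, 2, 2, 2, 3, 3, 4, 4, 3, 4, 5, 5, 5, 5, 5, 5, 5, 5, 5, 6, 3]), ([3, 2, 2, 2, 3, 3, 3, 2, 3, 3, 4, 3, 4, 5, 5, 5, 6, 6, 7, 3, 3], [3, 3, 2, 2, 2, 3, 2, 2, 2, 4, 3, 4, 5, 5, 6, 7, 3, 3, 3]), ([2, 3, 2, 2, 2, 2, 2, 2, 4, 3, 4, 5, 5, 5,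 5, 6, 7], [3, 3, 3, 2, 3, 4, 4, 4, 5, 5, 7]), ([2, 3, 2, 2, 3, 3, 2, 4, 3, 3, 4, 5, 5, 3, 6, 7], [3, 3, 3, 2, 3, 2, 3, 2, 4, 3, 3, 4, 3, 4, 5, 5, 5, 5, 6, 3, 3, 3]), ([5, 5, 5, 5, 5, 5, 5, 5, 3, 3], [2, 2, 3, 2, 2, 2, 3, 3, 4, 4, 3, 4, 5, 5, 5, 5, 5, 5, 5, 6, 3, 3]), ([2, 3, 2, 2, 2, 3, 2, 4, 3, 3, 4, 4, 4, 5, 5, 5, 5, 6, 3], [3, 2, 2, 3, 2, 4, 3, 4, 4, 4, 3, 4, 5, 5, 5, 6, 6, 6, 7]), ([3, 2, 2, 3, 2, 4, 4, 3, 4, 5, 5, 5, 5, 5, 3, 6, 3, 3, 3], [2, 2, 2, 3, 2, 2, 3, 4, 3, 4, 6, 6]), ([2, 4, 3, 4, 4, 5, 5, 5, 5, 5, 5, 5, 5, 3, 6, 3, 3, 3], [2, 2, 3, 3, 3, 2, 4, 3, 4, 3, 4, 5, 5, 3, 6, 3, 3, 3]), ([3, 3, 4, 4, 3, 4, 5,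 5, 5, 5, 7, 3, 3], [2, 3, 3, 3, 2, 4, 4, 5, 5, 5, 5, 5, 5, 5, 6, 7]), ([3, 3, 2, 2, 3, 3, 2, 4, 5, 5, 5, 5, 5, 5, 5, 6, 6, 7, 3, 3, 3], [3, 2, 3, 3, 3, 2, 2, 3, 3, 3]), ([2, 3, 2, 2, 3, 3, 2, 3, 3, 4, 3, 4, 5, 3, 6, 7, 3], [2, 2, 3, 2, 2, 2, 2, 2, 4, 3, 3, 4, 3, 4, 6, 6, 7, 3, 3]), ([3, 2, 2, 2, 3, 2, 2, 5, 5, 5, 5, 5, 5, 5, 6, 6, 3, 3], [2, 3, 3, 3, 2, 3, 2, 2, 3, 3, 4, 4, 3, 4, 6, 6, 6, 3, 3]), ([2, 3, 2, 3, 3, 3, 2, 3, 3, 4, 5, 5, 5, 5, 5, 5, 5, 5, 3, 3], [3, 3, 3, 2, 3, 2, 2, 4, 3, 3, 4, 4, 3, 4, 5, 5, 5, 5, 6, 6]), ([3, 2, 2, 2, 3, 3, 3, 2, 3, 3, 4, 4, 4, 3, 4, 5, 5, 3, 6, 7, 3, 3], [3, 3, 3, 2, 3, 3, 2, 3, 3]),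 ([3, 3, 3, 2, 3, 2, 2, 2, 3, 4, 4, 4, 3, 4, 5, 5, 5, 6, 3, 3, 3], [3, 3, 2, 3, 2, 3, 2, 4, 3, 4, 4, 4, 5, 5, 5, 5, 5, 3, 6, 7, 3, 3]), ([3, 2, 3, 2, 4, 3, 4, 3, 4, 5, 5, 5, 6, 6, 6, 7, 3, 3], [3, 2, 2, 3, 2, 3, 4, 4, 3, 3, 4, 5, 5, 5, 5, 6, 6, 6, 7, 3]), ([3, 3, 2, 3, 3, 2, 2, 2, 3, 4, 5, 5, 5, 5, 5, 3, 6, 7], [3, 3, 3, 2, 3, 2, 2, 3, 4, 5, 5, 5, 6, 6, 6, 3, 3, 3]), ([3, 2, 3, 2, 2, 2, 3, 3, 4, 3, 4, 3, 6, 7], [3, 2, 2, 2, 2, 2, 2, 4, 3, 3, 4, 4, 3, 4, 5, 5, 5, 3, 6, 7, 3]), ([3, 2, 3, 2, 2, 2, 2, 2, 2, 4, 4, 4, 3, 4, 5, 5, 3], [3, 3, 3, 2, 2, 2, 4, 4, 4, 3, 4, 5, 5, 5, 5, 5, 5, 3, 6, 7, 3, 3, 3]), ([2, 3, 2, 3, 3,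 3, 2, 3, 4, 3, 4, 4, 5, 6, 6, 6, 7], [3, 3, 2, 2, 3, 3, 2, 2, 2, 3, 4, 3, 4, 6, 6]), ([3, 2, 2, 2, 3, 3, 3, 2, 3, 4, 4, 4, 3, 4, 5, 5, 5, 5, 5, 5, 5, 3, 6, 7, 3, 3, 3], [3, 2, 2, 2, 2, 2, 2, 4, 3, 4, 4, 5, 5, 5, 5, 3, 6]), ([3, 2, 3, 2, 3, 3, 2, 3, 4, 4, 4, 5, 5, 5, 5, 5, 5, 5, 5, 7, 3, 3], [2, 3, 2, 2, 3, 3, 2, 3, 4, 3, 4, 4, 5, 5, 5, 5, 5, 5, 5, 5, 6, 6, 6]), ([2, 2, 3, 2, 3, 2, 4, 3, 3, 4, 4, 3, 4, 5, 6, 6, 3, 3, 3], [2, 3, 2, 2, 3, 2, 3, 4, 4, 4, 5, 5, 5, 5, 5, 5, 5, 6, 3, 3]), ([3, 3, 3, 2, 3, 2, 3, 2, 3, 4, 5, 5, 5, 6, 6, 3, 3], [2, 3, 2, 3, 2, 3, 3, 2, 4, 3, 4, 4, 4, 5, 5, 6, 3, 3, 3]), ([2, 2, 2, 2, 3, 3, 2,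 3, 4, 5, 6, 6, 7], [3, 3, 2, 3, 2, 3, 2, 4, 3, 4, 3, 4, 5, 5, 5, 5, 5, 5, 3, 6]), ([2, 3, 2, 2, 3, 3, 2, 2, 2, 3, 3, 3, 4, 5, 5, 5, 5, 6, 6, 6, 7], [3, 3, 3, 2, 2, 2, 3, 2, 4, 4, 4, 3, 4, 5, 5, 5, 5, 5, 5, 5, 5, 5, 6, 6, 6, 7]), ([3, 2, 2, 3, 2, 2, 2, 2, 4, 4, 4, 3, 4, 5, 5, 5, 5, 5, 5, 3, 6, 7], [2, 3, 3, 3, 2, 4, 3, 3, 4, 4, 4, 5, 5, 5, 5, 5, 7, 3, 3])],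
    [([2, 3, 3, 3, 2, 3, 3, 2, 4, 3, 4, 4, 5, 5, 5, 5, 5, 6, 6, 3, 3], [3, 3, 3, 2, 3, 2, 2, 3, 3, 4, 4, 5, 5, 5, 5, 5, 5, 5, 6, 6, 3]), ([3, 3, 2, 2, 2, 3, 3, 2, 4, 4, 4, 5, 5, 5, 5, 3, 6, 7, 3], [3, 3, 3, 2, 3, 2, 2, 3, 3, 3, 4, 3, 4, 5, 5, 5, 5, 5, 6, 3, 3]), ([2, 2, 2, 3, 4, 4, 3, 3, 4, 5, 5, 5, 5, 5, 5, 5, 6, 6, 7], [2, 2, 3, 2, 2, 3, 2, 3, 2, 4, 3, 3, 4, 4, 3, 4, 5, 5, 5, 5, 5, 5, 6, 6]), ([3, 3, 2, 3, 2, 2, 2, 3, 4, 3, 4, 5, 7], [2, 3, 3, 2, 2, 2, 2, 2, 3, 4, 4, 5, 5, 7, 3, 3, 3]), ([2, 3, 3, 3, 2, 3, 2, 4, 3, 3, 4, 5, 5, 5, 5, 5, 5, 3, 6], [3, 2, 2, 3, 2, 2, 2, 2, 4, 3, 3, 4, 4, 4, 5, 5, 6, 7, 3]), ([3, 2, 3,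 3, 2, 4, 4, 4, 3, 4, 5, 5, 5, 7, 3], [2, 2, 3, 3, 2, 4, 4, 3, 3, 4, 5, 5, 5, 3, 6, 3, 3]), ([2, 2, 2, 3, 3, 2, 5, 5, 5, 6, 6, 6, 7], [3, 2, 2, 2, 2, 4, 3, 3, 4, 4, 3, 4, 5, 5, 5, 5, 5, 5, 6, 6, 6, 7, 3, 3, 3]), ([3, 3, 2, 3, 3, 2, 2, 2, 4, 4, 4, 3, 4, 5, 5, 5, 5, 5, 5, 5, 5, 5, 3, 6, 3], [2, 3, 3, 2, 3, 2, 4, 4, 3, 3, 4, 5, 5, 5, 5, 5, 5, 5, 5, 6, 6, 7, 3, 3]), ([2, 2, 3, 2, 2, 3, 2, 4, 3, 4, 3, 4, 5, 5, 5, 5, 5, 5, 5, 5, 6, 6, 7, 3, 3, 3], [2, 3, 3, 3, 2, 2, 2, 3, 2, 3, 4, 3, 3, 4, 3, 4, 5, 3, 6, 7, 3, 3]), ([3, 2, 3, 2, 2, 2, 2, 2, 2, 4, 4, 3, 3, 4, 5, 5, 5, 5, 5, 6, 6, 7, 3, 3, 3], [3, 3, 2, 2, 3, 3, 4, 4, 4, 5,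 5, 5, 5, 5, 5, 5, 5, 5, 3, 6]), ([3, 2, 3, 2, 2, 2, 3, 2, 2, 3, 4, 5, 5, 5, 5, 5, 5, 6, 6, 3, 3], [3, 2, 3, 3, 3, 2, 3, 3, 3, 4, 3, 4, 4, 5, 6, 6, 3]), ([3, 3, 2, 2, 3, 2, 5, 5, 5, 5, 5, 3, 6, 3], [3, 2, 2, 2, 2, 2, 3, 4, 4, 3, 4, 5, 6, 6, 6, 7, 3]), ([3, 2, 2, 2, 3, 2, 4, 3, 3, 3, 4, 3, 4, 5, 5, 5, 6, 6, 6, 3], [3, 3, 3, 2, 2, 3, 4, 4, 3, 4, 5, 5, 5, 5, 5, 6, 3, 3]), ([2, 3, 3, 3, 2, 3, 3, 2, 3, 3, 4, 3, 4, 5, 5, 5, 5, 5, 5, 5, 3, 6, 3, 3], [3, 2, 3, 4, 4, 5, 5, 5, 5, 5, 5, 5, 3, 6, 3]), ([2, 3, 2, 3, 2, 3, 3, 2, 3, 4, 4, 4, 3, 4, 5, 5, 5, 5, 5, 5, 5, 5, 5, 6, 6, 7, 3], [2, 2, 2, 2, 3, 2, 3, 3, 3, 4, 3, 4, 4, 5, 5,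 5, 5, 5, 5, 3, 6, 7, 3, 3, 3]), ([2, 3, 3, 2, 2, 3, 2, 3, 3, 4, 4, 4, 3, 4, 5, 5, 5, 5, 5, 5, 5, 5, 7, 3], [2, 3, 2, 3, 2, 2, 2, 2, 2, 3, 3, 4, 4, 4, 5, 5, 6, 3]), ([2, 2, 2, 3, 2, 2, 2, 4, 3, 4, 3, 4, 5, 5, 5, 5, 6, 6, 7], [2, 3, 2, 2, 3, 3, 2, 2, 2, 3, 3, 4, 3, 4, 3, 3]), ([2, 2, 2, 3, 2, 2, 2, 4, 3, 4, 3, 4, 5, 5, 5, 5, 5, 5, 5, 5, 6, 6, 6, 7, 3], [2, 3, 2, 2, 2, 3, 2, 3, 4, 3, 3, 4, 3, 4, 5, 5, 5, 3, 6, 3]), ([3, 3, 3, 2, 2, 2, 2, 3, 2, 3, 3, 3, 4, 3, 4, 4, 5, 5, 5, 5, 5, 5, 5, 6, 6, 6, 3], [2, 2, 2, 3, 2, 3, 2, 2, 3, 3, 4, 4, 4, 3, 4, 6, 6, 6, 3, 3, 3]), ([3, 3, 3, 2, 2, 2, 2, 3, 2, 3, 3, 3, 4, 3, 4, 4, 5, 5, 5,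 5, 5, 5, 5, 5, 5, 3, 3], [3, 3, 3, 2, 2, 4, 3, 4, 4, 4, 5, 5, 5, 6, 3, 3, 3]), ([3, 3, 3, 2, 3, 2, 3, 4, 4, 3, 4, 5, 5, 5, 6, 7, 3, 3], [3, 3, 3, 2, 3, 2, 2, 4, 5, 5, 5, 5, 5, 5, 6, 6]), ([2, 3, 2, 2, 3, 2, 3, 2, 3, 3, 3, 4, 3, 4, 5, 5, 5, 5, 5, 5, 6, 6, 6], [2, 3, 2]), ([2, 2, 2, 3, 3, 3, 2, 4, 3, 4, 4, 5, 7, 3, 3, 3], [3, 3, 3, 2, 2, 2, 3, 2, 3, 3, 3, 4, 3, 4, 4, 5, 5, 5, 5, 5, 5, 5, 5, 6, 6, 3]), ([3, 2, 2, 3, 3, 2, 4, 3, 3, 4, 5, 5, 5, 5, 3, 6, 7, 3, 3], [3, 2, 3, 2, 3, 3, 2, 4, 4, 3, 3, 4, 5, 5, 5, 3, 6, 3]), ([3, 4, 3, 4, 5, 5, 5, 5, 3, 3], [3, 3, 2, 3, 2, 2, 3, 4, 4, 4, 5, 5, 5, 5, 5, 7, 3]), ([3, 2, 3, 2, 2,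 2, 3, 2, 2, 3, 3, 3, 4, 3, 4, 5, 3, 6, 7, 3, 3], [3, 2, 2, 2, 3, 2, 3, 2, 3, 4, 3, 3, 4, 3, 4, 5, 5, 5, 5, 5, 5, 5, 5, 3, 6, 3, 3, 3]), ([2, 2, 2, 3, 3, 2, 3, 3, 4, 4, 3, 4, 5, 5, 5, 5, 5, 5, 5, 5, 5, 6, 7, 3], [3, 2, 2, 2, 3, 2, 3, 2, 3, 3, 4, 3, 4, 6, 6, 7, 3, 3, 3]), ([2, 2, 3, 2, 2, 2, 2, 2, 3, 4, 3, 4, 4, 5, 5, 5, 5, 5, 5, 5, 5, 5, 6, 6, 3, 3, 3], [3, 2, 2, 4, 3, 3, 4, 4, 4, 5, 5, 5, 5, 5, 7, 3, 3, 3]), ([2, 3, 3, 2, 2, 2, 2, 2, 3, 4, 4, 5, 5, 5, 5, 5, 5, 5, 6, 6, 6, 3, 3], [2, 3, 2, 2, 3, 3, 2, 2, 2, 3, 4, 3, 3, 4, 3, 4, 5, 5, 5, 5, 5, 5, 5, 5, 6]), ([3, 3, 2, 2, 3, 3, 2, 2, 2, 4, 4, 5, 5, 5, 5, 5, 5, 5, 5, 5,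 6, 6, 6, 3, 3, 3], [3, 2, 2, 2, 3, 2, 3, 2, 3, 4, 4, 4, 3, 4, 5, 5, 6, 6, 3]), ([3, 2, 3, 2, 3, 3, 2, 3, 3, 4, 3, 4, 5, 5, 5, 5, 5, 5, 5, 5, 5, 6, 6, 3], [2, 3, 2, 2, 3, 2, 3, 2, 4, 3, 4, 4, 4, 3, 4, 5, 5, 7]), ([3, 3, 2, 2, 2, 3, 2, 2, 2, 3, 4, 4, 4, 3, 4, 5, 5, 5, 5, 5, 5, 5, 6, 6, 6, 3, 3], [2, 3, 3, 2, 2, 2, 2, 2, 3, 3, 3, 4, 3, 4, 4, 5, 5, 6, 7]), ([3, 2, 3, 2, 2, 3, 3, 2, 4, 4, 4, 5, 5, 5, 5, 5, 3, 6, 3, 3], [3, 3, 2, 2, 2, 2, 3, 2, 3, 3, 3, 4, 3, 4, 4, 5, 5, 5, 5, 5, 5, 3, 6, 7, 3, 3, 3]), ([3, 3, 2, 3, 3, 2, 4, 3, 4, 4, 4, 5, 5, 5, 5, 5, 5, 3, 3, 3], [2, 3, 3, 3, 2, 2, 2, 3, 2, 3, 4, 3, 3, 4, 3, 4, 5, 5, 5,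 3, 6, 3]), ([3, 2, 3, 2, 2, 2, 2, 2, 3, 3, 4, 3, 4, 7], [3, 3, 3, 2, 3, 3, 4, 5, 6, 6, 3, 3, 3]), ([3, 3, 3, 2, 3, 3, 2, 3, 3, 3, 4, 3, 4, 4, 5, 5, 5, 6, 6, 3, 3, 3], [2, 2, 3, 2, 3, 2, 3, 4, 4, 4, 6, 3, 3, 3]), ([2, 2, 3, 2, 2, 4, 3, 3, 4, 4, 4, 5, 5, 5, 5, 5, 5, 6, 6, 6], [3, 2, 2, 2, 3, 2, 2, 2, 3, 3, 4, 3, 4, 4, 5, 5, 6, 6, 6, 3, 3, 3]), ([2, 3, 2, 3, 2, 4, 4, 4, 3, 4, 5, 5, 5, 5, 5, 6, 6, 6, 7, 3], [3, 2, 2, 2, 3, 2, 2, 4, 5, 5, 5, 5, 5, 5, 5, 3, 3, 3]), ([3, 3, 2, 2, 2, 2, 4, 4, 5, 5, 5, 5, 7, 3, 3, 3], [2, 2, 2, 2, 2, 2, 3, 4, 3, 4, 4, 5, 6, 6, 6]), ([3, 3, 2, 2, 2, 3, 3, 2, 3, 3, 4, 3, 4, 5, 5, 5, 5, 5, 5, 5,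 5, 5, 3, 3, 3], [2, 3, 3, 3, 2, 3, 2, 3, 3, 4, 5]), ([2, 3, 3, 2, 2, 2, 2, 2, 4, 4, 4, 7, 3], [2, 2, 3, 2, 4, 4, 3, 4, 5, 5, 5, 5, 5, 5, 5, 5, 6, 6, 7, 3]), ([2, 3, 3, 2, 2, 3, 2, 4, 4, 4, 3, 4, 7, 3], [3, 3, 2, 2, 3, 3, 2, 2, 2, 3, 3, 4, 4, 4, 3, 4, 5, 5, 5, 5, 5, 5, 5, 6, 6, 3, 3, 3]), ([2, 3, 2, 2, 2, 2, 4, 3, 4, 5, 5, 5, 5, 5, 5, 5, 6, 6, 6, 3], [3, 2, 3, 3, 2, 2, 3, 2, 4, 5, 5, 5, 5, 5, 5, 5, 5, 5, 6, 6, 3]), ([4, 3, 4, 4, 4, 5, 3, 3, 3], [2, 2, 3, 3, 3, 2, 3, 2, 3, 4, 4, 4, 3, 4, 5, 5, 5, 5, 5, 6, 6, 7]), ([2, 2, 3, 3, 3, 2, 3, 2, 4, 4, 4, 3, 4, 5, 5, 5, 7], [2, 2, 3, 2, 2, 2, 2, 3, 3, 4, 4, 4, 5, 5, 6, 6]), ([3,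 2, 3, 3, 4, 5, 5, 3, 3, 3], [3, 3, 2, 2, 3, 3, 2, 2, 2, 3, 4, 3, 4, 4, 5, 5, 7, 3, 3, 3]), ([3, 3, 2, 2, 3, 2, 3, 3, 4, 4, 5, 5, 5, 5, 5, 5, 5, 5, 5, 6, 7, 3], [3, 3, 2, 3, 2, 3, 2, 4, 4, 5, 5, 5, 5, 5, 5, 3, 6, 7, 3, 3]), ([3, 3, 2, 3, 3, 4, 5, 5, 6, 6, 6, 3, 3, 3], [2, 3, 2, 3, 3, 3, 2, 3, 3]), ([2, 2, 3, 3, 3, 2, 3, 3, 4, 4, 5, 6, 6, 3], [2, 2, 3, 3, 3, 2, 2, 3, 3, 4, 3, 4, 4, 5, 5, 5, 5, 5, 5, 5, 5, 5, 6, 6, 7, 3]), ([3, 3, 2, 3, 2, 2, 2, 3, 3, 4, 4, 3, 4, 5, 5, 5, 5, 5, 5, 6, 7, 3, 3], [2, 3, 3, 2, 3, 2, 2, 2, 3, 3, 4, 4, 5, 5, 6, 6, 6]), ([3, 2, 2, 4, 5, 5, 5, 3], [2, 3, 3, 2, 4, 3, 4, 3, 4, 5, 5, 5, 7]), ([2,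 2, 3, 2, 2, 4, 3, 3, 4, 4, 4, 5, 5, 5, 5, 5, 5, 5, 5, 5, 6, 6, 7], [3, 2, 3, 3, 3, 2, 2, 3]), ([2, 2, 2, 3, 2, 3, 2, 3, 3, 4, 4, 4, 5, 5, 5, 5, 5, 5, 5, 5, 3, 3], [3, 3, 2, 2, 3, 4, 4, 4, 3, 4, 6, 6, 6, 7, 3, 3, 3]), ([3, 2, 2, 2, 3, 2, 2, 4, 4, 4, 3, 4, 5, 5, 5, 5, 5, 7], [2, 3, 2, 3, 2, 4, 3, 4, 4, 4, 3, 6, 7, 3, 3]), ([2, 3, 3, 2, 2, 3, 2, 4, 4, 4, 3, 4, 5, 5, 3, 6, 3, 3], [2, 2, 3, 3, 3, 2, 4, 4, 5, 5, 5, 5, 3, 6, 3, 3, 3]), ([3, 2, 2, 2, 2, 2, 4, 4, 3, 3, 4, 5, 3], [3, 2, 2, 3, 2, 2, 3, 4, 4, 4, 5, 5, 5, 6, 6, 7, 3, 3]), ([2, 2, 3, 2, 3, 2, 3, 2, 4, 3, 3, 3, 4, 3, 4, 7], [2, 3, 2, 2, 2, 3, 2, 2, 3, 4, 3, 4, 6,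 6]), ([2, 2, 3, 2, 3, 3, 2, 2, 2, 4, 3, 3, 3, 4, 3, 4, 5, 5, 5, 5, 6, 6, 6, 7, 3], [3, 2, 2, 2, 2, 3, 4, 4, 4, 5, 5, 5, 5, 5, 5, 5, 5, 6, 6, 6, 3, 3]), ([2, 3, 2, 4, 4, 3, 4, 5, 5, 5, 7, 3, 3, 3], [3, 2, 2, 3, 2, 4, 4, 3, 4, 5, 5, 5, 5, 5, 5, 5, 5, 6, 6, 7, 3, 3]), ([2, 2, 2, 4, 4, 4, 5, 5, 5, 5, 5, 5, 5, 5, 5], [2, 3, 2, 3, 2, 2, 3, 4, 3, 4, 4, 5, 5, 5, 5, 6, 6, 6, 3, 3, 3]), ([3, 3, 2, 3, 2, 2, 2, 3, 3, 4, 3, 4, 3, 6, 7, 3, 3, 3], [2, 2, 3, 2, 3, 2, 3, 3, 4, 4, 4, 5, 5, 5, 5, 5, 3, 6, 3, 3, 3]), ([2, 3, 3, 3, 2, 3, 3, 2, 4, 4, 4, 5, 5, 5, 5, 5, 5, 3, 6, 7, 3, 3], [3, 3, 2, 2, 3, 3, 4, 3, 4, 4, 5, 5, 5, 5, 5, 5, 5,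 5, 5, 6, 6, 7, 3, 3]), ([3, 3, 3, 2, 3, 3, 2, 4, 3, 3, 4, 3, 4, 5, 5, 3, 6, 7, 3, 3, 3], [3, 2, 2, 2, 3, 3, 3, 2, 4, 3, 3, 4, 4, 4, 5, 5, 5, 5, 5, 7, 3, 3]), ([2, 3, 2, 4, 4, 5, 5, 5, 3, 6, 7], [3, 3, 3, 2, 3, 2, 2, 3, 3, 4, 4, 3, 4, 5, 5, 5, 5, 5, 6, 3])],
    [([3, 3, 3, 2, 2, 2, 3, 2, 4, 3, 4, 4, 4, 5, 3, 3, 3], [3, 2, 2]), ([3, 3, 2, 2, 2, 3, 3, 2, 3, 3, 4, 3, 4, 5, 5, 5, 5, 5, 5, 5, 5, 5, 6, 6, 6], [2, 2, 3, 2, 2, 3, 2, 3, 2, 3, 3, 3, 4, 5, 5, 5, 5, 5, 5, 5, 5, 5, 3, 6, 3, 3]), ([2, 3, 3, 3, 2, 3, 2, 4, 4, 4, 3, 4, 5, 5, 5, 5, 5, 5, 5, 5, 6, 7, 3, 3, 3], [2, 2, 2, 2, 2, 2, 3, 4, 4, 3, 3, 4, 5, 5, 5, 5, 5, 5, 6,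 6, 3, 3, 3]), ([3, 2, 3, 3, 2, 4, 3, 3, 4, 5, 5, 5, 6, 6, 6, 7, 3, 3, 3], [3, 2, 3, 3, 3, 2, 2, 3, 4, 4, 4, 3, 4, 6, 6, 6, 7, 3, 3]), ([2, 3, 2, 2, 2, 2, 2, 2, 4, 3, 3, 4, 4, 3, 4, 5, 5, 5, 5, 5, 5, 3, 6, 7, 3], [2, 2, 2, 2, 4, 3, 3, 4, 4, 4, 5, 5, 5, 5, 5, 7, 3, 3, 3]), ([2, 2, 3, 3, 2, 2, 2, 3, 4, 3, 3, 4, 3, 4, 5, 5, 5, 5, 3, 6], [3, 2, 3, 3, 3, 2, 4, 3, 4, 5, 5, 5, 5, 5, 3, 6, 7, 3]), ([2, 3, 3, 3, 2, 3, 3, 3, 4, 3, 4, 5, 5, 5, 5, 5, 5, 5, 7], [3, 3, 2, 2, 3, 2, 3, 3, 3, 4, 3, 4, 4, 3, 6, 7]), ([2, 2, 2, 2, 2, 2, 3, 3, 4, 4, 4, 3, 4, 5, 5, 5, 5, 5, 5, 6, 6, 3, 3, 3], [2, 2, 3, 2, 2, 2, 3, 3, 4, 4, 5, 5, 5, 5, 5,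 5, 5, 6, 6, 6, 7, 3, 3]), ([2, 2, 3, 3, 3, 2, 4, 3, 4, 3, 4, 3, 6, 7, 3, 3], [2, 3, 2, 3, 3, 2, 2, 2, 3]), ([2, 3, 3, 3, 2, 3, 3, 2, 4, 3, 3, 4, 5, 5, 5, 5, 5, 5, 6, 6, 6, 3, 3], [2, 2, 2, 2, 2, 3, 2, 4, 4, 3, 3, 4, 3, 3]), ([2, 2, 3, 3, 3, 4, 3, 4, 7, 3, 3, 3], [3, 3, 3, 2, 2, 2, 3, 4, 4, 5, 5, 7]), ([2, 2, 3, 3, 3, 2, 3, 2, 3, 3, 4, 4, 5, 5, 5, 5, 5, 6, 6, 6, 3, 3, 3], [2, 2, 3, 2, 2, 2, 2, 4, 3, 3, 4, 4, 3, 4, 3, 6, 3, 3]), ([3, 3, 4, 4, 5, 5, 5], [2, 3, 2, 3, 2, 2, 4, 4, 5, 5, 5, 5, 5, 6, 6, 3]), ([3, 2, 3, 2, 2, 2, 2, 2, 2, 4, 3, 3, 4, 4, 3, 4, 5, 5, 5, 5, 5, 5, 3, 6, 7], [2, 3, 2, 2, 3, 3, 2, 4, 3, 3, 4, 4, 3,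 4, 6, 7, 3, 3, 3]), ([3, 2, 3, 2, 2, 2, 3, 2, 2, 3, 4, 4, 3, 4, 5, 6, 6, 3], [3, 2, 3, 2, 2, 2, 2, 4, 3, 3, 4, 4, 3, 4, 3, 6, 3, 3]), ([3, 3, 3, 2, 3, 2, 2, 2, 3, 4, 4, 4, 5, 5, 5, 5, 6, 6, 3], [2, 2, 3, 2, 2, 2, 2, 2, 3, 3, 4, 4, 3, 4, 5, 5, 5, 5, 5, 5, 5, 5, 5, 6, 3]), ([2, 2, 2, 3, 3, 2, 4, 4, 3, 4, 5, 5, 5, 5, 5, 5, 5, 5, 5, 7], [3, 2, 2, 2, 3, 2, 4, 4, 3, 4, 5, 5, 5, 5, 5, 5, 5, 5, 6, 6, 7, 3, 3]), ([3, 2, 3, 2, 3, 3, 4, 4, 4, 3, 4, 5, 5, 5, 5, 7], [2, 3, 2, 3, 4, 4, 5, 5, 5, 5, 5, 5, 5, 5, 5, 6, 6, 7]), ([2, 2, 3, 3, 3, 2, 3, 2, 3, 3, 3, 4, 6], [3, 2, 3, 2, 2, 4, 4, 5, 5, 5, 5, 6, 6, 3]), ([2, 2, 3, 2, 3, 3, 3,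 2, 3, 3, 3, 4, 3, 4, 4, 6, 6, 6, 3, 3, 3], [3, 3, 3, 2, 2, 2, 2, 3, 2, 4, 5, 5, 5, 5, 5, 5, 6, 3]), ([3, 3, 4, 4, 4, 5, 5, 5, 7, 3], [3, 2, 3, 3, 4, 4, 3, 4, 5, 5, 6, 7, 3]), ([3, 2, 3, 3, 4, 5, 5, 6, 6, 6], [2, 2, 3, 2, 3, 4, 4, 4, 5, 5, 5, 5, 5, 5, 5, 5, 3, 3, 3]), ([3, 3, 2, 2, 3, 2, 3, 3, 4, 4, 5, 5, 5, 5, 5, 5, 5, 5, 5, 6, 6, 7], [3, 2, 3, 3, 2, 2, 3, 2, 4, 3, 3, 3, 4, 3, 4, 5, 5, 5, 5, 5, 6, 6, 7, 3, 3, 3]), ([2, 2, 3, 3, 2, 2, 2, 4, 3, 4, 4, 3, 3, 3], [3, 3, 2, 2, 3, 2]), ([2, 3, 2, 2, 2, 2, 2, 2, 3, 4, 3, 3, 4, 3, 4, 5, 5, 5, 5, 5, 5, 5, 5, 3, 3, 3], [2, 3, 2, 2, 3, 3, 4, 3, 4, 4, 5, 5, 5, 5, 5, 5, 5, 5, 5,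 6, 6, 7, 3, 3]), ([3, 3, 2, 3, 2, 2, 2, 4, 3, 3, 4, 3, 4, 5, 5, 5, 5, 5, 5, 5, 5, 3, 6], [3, 2, 2, 2, 2, 2, 4, 3, 3, 4, 4, 4, 5, 5, 5, 5, 5, 7, 3, 3]), ([2, 3, 2, 3, 2, 2, 2, 2, 2, 3, 3, 4, 3, 4, 5, 6, 3, 3], [2, 2, 3, 3, 2, 2, 2, 5, 5, 6, 6]), ([3, 3, 2, 3, 3, 2, 5, 5, 5, 5, 5, 5, 5, 5], [3, 3, 2, 2, 2, 3, 3, 4, 5, 5, 5, 5, 5, 5, 5, 5, 5, 6, 6, 6, 7, 3, 3]), ([2, 2, 3, 2, 3, 3, 2, 2, 2, 4, 3, 4, 4, 4, 6, 6, 6, 3, 3, 3], [2, 3, 3, 2, 4, 4, 5, 5, 5, 5, 5, 5, 5, 6, 7, 3]), ([3, 2, 3, 3, 2, 2, 2, 4, 3, 3, 4, 4, 3, 4, 5, 5, 5, 5, 5, 5, 5, 5, 6, 6, 7, 3], [2, 2, 3, 2, 2, 2, 2, 2, 4, 3, 4, 4, 4, 5, 5, 5, 5, 5, 5, 5, 5, 5,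 7, 3]), ([3, 2, 3, 2, 3, 2, 3, 4, 4, 4, 3, 4, 5, 5, 5, 5, 5, 5, 7], [3, 3, 2, 2, 2, 2, 2, 3, 4, 4, 5, 5, 5, 5, 5, 5, 5, 6, 6, 6, 7, 3]), ([3, 3, 3, 2, 2, 2, 2, 3, 2, 3, 3, 4, 4, 3, 4, 5, 5, 5, 5, 5, 5, 5, 5, 5, 3], [2, 3, 2, 2, 2, 3, 4, 3, 4, 6, 6, 6, 3, 3]), ([2, 2, 2, 2, 3, 2, 3, 3, 4, 4, 5, 5, 5, 5, 5, 5, 6, 7, 3, 3, 3], [2, 3, 2, 3, 3, 3, 2, 4, 3, 4, 5, 5, 5, 5, 5, 3, 6, 7]), ([3, 3, 4, 4, 5, 5, 6, 6], [2, 2, 3, 2, 2, 3, 2, 3, 2, 4, 3, 3, 4, 3, 4, 5, 5, 5, 5, 6, 6, 3, 3]), ([3, 3, 2, 3, 3, 3, 2, 3, 3, 3, 4, 3, 4, 5, 5, 5, 5, 5, 5, 5, 7, 3, 3], [3, 2, 3, 2, 3, 2, 4, 4, 4, 3, 4, 5, 5, 5, 5, 5, 5, 5, 6, 6, 7, 3, 3,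 3]), ([3, 3, 2, 3, 2, 2, 3, 3, 3, 4, 3, 4, 4, 5, 5, 5, 5, 3, 3, 3], [3, 2, 3, 2, 3, 2, 4, 3, 3, 4, 5, 5, 5, 5, 6]), ([3, 3, 2, 2, 2, 3, 2, 4, 3, 3, 4, 4, 3, 4, 5, 5, 7, 3, 3, 3], [3, 3, 3, 2, 2, 2, 2, 3, 2, 4, 4, 3, 4, 5, 5, 5, 5, 5, 5, 5, 5, 6, 6, 7, 3, 3]), ([2, 3, 2, 3, 3, 2, 4, 3, 3, 4, 4, 4, 5, 5, 5, 5, 6, 6, 6], [3, 2, 3, 2, 2, 3, 3, 2, 4, 3, 3, 4, 4, 3, 4, 6, 7, 3, 3, 3]), ([2, 2, 3, 2, 3, 2, 3, 3, 3, 4, 6], [3, 3, 3, 2, 3, 4, 4, 3, 3, 4, 5, 5, 5]), ([3, 2, 2, 2, 3, 2, 2, 4, 3, 3, 4, 4, 3, 4, 5, 7], [2, 4, 4, 5, 5, 5, 5, 5, 5, 5, 6, 7, 3]), ([3, 3, 2, 2, 2, 3, 2, 4, 4, 4, 3, 4, 5, 5, 5, 5, 5, 5, 5, 5, 7, 3, 3,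 3], [2, 3, 2, 2, 3, 2, 3, 3, 4, 5, 6, 6]), ([3, 3, 2, 2, 3, 3, 2, 2, 2, 3, 4, 4, 3, 3, 4, 5, 5, 5, 5, 6, 6, 3, 3, 3], [3, 2, 2, 3, 2, 2, 3, 4, 4, 5, 5, 5, 6, 6, 6, 7, 3, 3]), ([2, 3, 2, 2, 3, 3, 2, 3, 3, 4, 4, 5, 5, 5, 5, 5, 5, 5, 6, 7, 3, 3, 3], [2, 2, 3, 2, 2, 2, 2, 4, 3, 3, 3, 4, 3, 4, 5, 5, 5, 5, 5, 7, 3, 3]), ([3, 3, 2, 2, 2, 4, 3, 4, 3, 4, 5, 5], [2, 3, 2, 3, 3, 2, 3]), ([3, 2, 2, 3, 2, 2, 2, 2, 4, 4, 4, 3, 4, 5, 5, 5, 5, 5, 5, 6, 6, 6], [3, 2, 2, 2, 3, 2, 3, 2, 3, 4, 4, 3, 3, 4, 5, 5, 5, 5, 5, 5, 5, 5, 5, 6]), ([2, 3, 2, 2, 2, 2, 2, 2, 4, 3, 4, 3, 4, 5, 5, 5, 7], [2, 2, 2, 3, 2, 2, 3, 4, 5, 5, 7]), ([2, 2, 3,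 2, 2, 4, 4, 6, 6, 3], [2, 2, 2, 3, 3, 3, 2, 3, 3, 4, 3, 4, 6]), ([2, 2, 3, 3, 2, 2, 2, 4, 3, 4, 4, 4, 3, 4, 5, 3, 6, 7, 3], [2, 4, 3, 4, 4, 4, 3, 4, 5, 5, 5, 5, 5, 5, 5, 5, 5, 6, 6, 6, 3, 3, 3]), ([2, 3, 3, 3, 2, 3, 2, 4, 4, 4, 5, 5, 5, 5, 5, 5, 5, 7, 3, 3, 3], [3, 2, 3, 2, 2, 3, 3, 4, 4, 3, 4, 5, 5, 6, 7, 3]), ([3, 2, 3, 3, 2, 4, 3, 3, 4, 3, 4, 5, 5, 3, 6, 7, 3], [3, 3, 3, 2, 2, 2, 3, 2, 4, 4, 3, 3, 4, 3, 3, 3]), ([3, 3, 2, 2, 2, 2, 2, 3, 3, 4, 5, 5, 5, 5, 5, 6, 6, 6, 3], [2, 2, 3, 2, 3, 2, 2, 4, 5, 6, 6, 6, 3]), ([3, 2, 3, 2, 3, 3, 4, 4, 4, 3, 4, 6, 6, 7], [2, 3, 2, 3, 2, 3, 3]), ([3, 3, 3, 2, 3, 2, 2, 2, 4, 3, 4,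 4, 5, 5, 5, 5, 5, 5, 5, 3, 6, 3, 3, 3], [2, 3, 2, 3, 3, 2, 3, 3, 4, 3, 4, 5, 5, 5, 5, 5, 5, 5, 5, 5, 6, 6, 6, 7, 3]), ([3, 2, 3, 2, 2, 2, 3, 2, 2, 4, 3, 4, 4, 4, 6, 6, 6, 7], [3, 3, 2, 3, 2, 2, 3, 3, 4, 4, 4, 5, 5, 5, 5, 5, 5, 5, 5, 5, 3, 6]), ([2, 2, 2, 3, 3, 2, 4, 4, 3, 3, 4, 5, 5, 5, 5, 5, 5, 5, 5, 5, 6, 3, 3, 3], [3, 2, 2, 2, 3, 2, 3]), ([3, 3, 2, 3, 3, 2, 2, 2, 4, 4, 3, 3, 4, 5, 5, 5, 5, 5, 5, 3, 6, 3, 3], [3, 3, 2, 3, 3, 2, 3, 3, 4, 4, 4, 3, 4, 5, 5, 5, 3, 6, 7, 3]), ([3, 3, 2, 3, 3, 2, 2, 2, 4, 3, 4, 4, 5, 6], [2, 3, 2, 3, 3, 2, 4, 3, 3, 4, 4, 3, 4, 5, 5, 5, 5, 3, 6, 7]), ([3, 2, 3, 2, 2, 2, 4, 4, 3, 3, 4, 5,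 6, 6, 3, 3], [2, 3, 3, 3, 2, 2, 2, 3, 2, 3, 3, 4, 4, 4, 3, 4, 5, 5, 5, 5, 5, 5, 5, 5, 5, 3, 6, 7]), ([3, 3, 2, 2, 2, 3, 2, 2, 2, 4, 3, 4, 4, 4, 5, 5, 5, 5, 5, 5, 5, 5, 5, 3, 6, 7, 3, 3, 3], [2, 2, 3, 3, 3, 2, 3, 3, 3, 4, 3, 4, 4, 3, 6, 7]), ([3, 2, 2, 2, 2, 2, 2, 3, 3, 4, 4, 3, 4, 5, 5, 5, 6, 3], [2, 2, 3, 2, 2, 2, 2, 3, 3, 4, 4, 5, 5, 5, 3, 6, 7]), ([2, 3, 2, 3, 2, 2, 2, 2, 2, 3, 3, 3, 4, 3, 4, 4, 5, 6, 6, 6, 3], [3, 3, 2, 2, 3, 3, 2, 4, 3, 4, 4, 4, 5, 6, 7, 3, 3]), ([2, 3, 2, 3, 2, 3, 4, 5, 5, 5, 6, 6, 3], [2, 3, 2, 2, 3, 3, 2, 4, 3, 3, 4, 3, 4, 5, 5, 5, 7, 3]), ([2, 2, 3, 2, 2, 2, 2, 2, 2, 4, 3, 4, 3, 4, 5, 5, 5,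 5, 5, 6, 6, 6, 3, 3], [3, 2, 3, 2, 2, 2, 2, 2, 2, 4, 3, 3, 4, 3, 4, 5, 5, 5, 3, 6, 7, 3, 3]), ([3, 2, 3, 3, 3, 2, 3, 2, 4, 3, 4, 3, 4, 5, 5, 5, 5, 5, 5, 5, 6, 6, 3, 3, 3], [2, 2, 3, 2, 2, 3, 3, 3, 4, 3, 4, 5, 5, 5, 5, 5, 7, 3, 3])]]

/-- part of a table -/
def conjs8 : List (List (List ℕ × List ℕ)) :=
  [[([2, 2, 3, 3, 2, 2, 2, 4, 4, 5, 5, 5, 5, 5, 5, 5, 5, 5, 6, 6, 6, 3], [2, 3, 3, 2, 2, 3, 3, 2, 4, 3, 4, 4, 5, 5, 7, 3, 3, 3]), ([2, 3, 2, 2, 2, 2, 2, 3, 4, 4, 3, 4, 5, 5, 5, 5, 5, 5, 5, 5, 5, 6, 6, 6, 7, 3], [2, 2, 3, 2, 2, 2, 4, 3, 3, 4, 4, 4, 5, 5, 5, 5, 5, 5, 5, 5, 6, 6, 6, 3, 3, 3]), ([3, 2, 2, 2, 2, 4, 3, 4, 4,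 4, 5, 5, 5, 5, 5], [3, 3, 2, 2, 2, 2, 3, 3, 4, 3, 4, 4, 5, 5, 5, 5, 6, 6, 6, 7, 3, 3, 3]), ([3, 2, 3, 3, 3, 2, 2, 4, 4, 3, 4, 3, 3, 3], [2, 2, 3, 2, 2, 3, 2, 3, 2, 3, 3, 3]), ([2, 2, 2, 3, 2, 2, 2, 3, 4, 4, 4, 3, 4, 5, 5, 6, 6, 6], [3, 2, 3, 3, 2, 2, 3, 2, 3, 3, 3, 4, 3, 4, 5, 5, 5, 5, 5, 5, 5, 6, 6, 6, 7, 3, 3]), ([2, 2, 2, 3, 2, 2, 2, 3, 4, 5, 5, 5, 5, 5, 5, 6, 6, 6, 3, 3, 3], [3, 2, 2, 3, 3, 2, 3, 3, 4, 4, 5, 5, 5, 5, 5, 5, 5, 6, 6, 6, 7, 3]), ([2, 3, 2, 3, 3, 2, 2, 2, 3, 3, 3, 4, 3, 4, 5, 5, 5, 5, 5, 5, 5, 3], [3, 2, 3, 3, 3, 2, 2, 3, 4, 4, 4, 5, 5, 5, 5, 5, 5, 5, 5, 6, 3, 3]), ([2, 3, 2, 4, 3, 4, 3, 4, 5, 5, 5,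 5, 6, 7, 3, 3, 3], [2, 2, 3, 2, 2, 2, 4, 4, 4, 6, 6, 7, 3, 3]), ([2, 3, 3, 3, 2, 2, 3, 4, 3, 4, 5, 5, 5, 5, 5, 5, 5, 5, 6, 6, 3, 3, 3], [2, 3, 3, 2, 3, 3, 2, 2, 2, 3, 3, 3]), ([3, 4, 5, 5, 6, 6, 7], [4, 3, 4, 4, 4, 5, 5, 5, 6, 6, 7, 3, 3]), ([3, 2, 3, 3, 2, 2, 3, 2, 4, 3, 4, 3, 4, 5, 5, 5, 6, 6], [3, 3, 2, 2, 3, 2, 4, 4, 3, 4, 5, 5, 5, 5, 5, 5, 6, 7, 3, 3, 3]), ([2, 2, 2, 3, 2, 3, 4, 4, 3, 3, 4, 5, 5, 5, 5, 5, 5, 5, 5, 3, 6, 7, 3], [3, 3, 3, 2, 2, 2, 2, 3, 3, 3, 4, 3, 4, 5, 5, 5, 5, 3, 3, 3]), ([2, 3, 3, 2, 2, 2, 2, 2, 4, 3, 3, 4, 3, 4, 5, 5, 5, 5, 5, 5, 6, 6, 7, 3, 3], [3, 3, 2, 2, 3, 2, 3]), ([2, 3, 2, 2, 3, 3, 2,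 3, 4, 4, 4, 3, 4, 6, 6, 6, 7, 3, 3, 3], [3, 2, 3, 2, 3, 4, 3, 3, 4, 3, 4, 5, 5, 5, 5, 5, 5, 6, 6, 6, 7, 3]), ([2, 3, 3, 2, 2, 3, 2, 3, 3, 4, 4, 4, 3, 4, 5, 5, 5, 5, 5, 5, 5, 5, 5, 3, 6, 7, 3, 3, 3], [3, 2, 2, 2, 2, 3, 2]), ([3, 3, 2, 2, 2, 2, 3, 3, 3, 4, 3, 4, 4, 5, 6, 6], [2, 3, 3, 3, 2, 2, 4, 3, 3, 3, 4, 3, 4, 5, 5, 5, 5, 5, 5, 5, 5, 5, 6]), ([2, 3, 3, 3, 2, 3, 3, 3, 4, 3, 4, 3], [3, 2, 2, 2, 2, 3, 2, 4, 3, 4, 4, 4, 3, 4, 5, 7, 3, 3]), ([3, 2, 2, 3, 3, 3, 2, 2, 4, 4, 3, 4, 5, 5, 5, 5, 5, 3, 6, 7, 3, 3], [3, 2, 3, 2, 3, 3, 2, 4, 3, 3, 4, 5, 5, 6, 7, 3]), ([3, 2, 3, 3, 2, 2, 3, 2, 3, 3, 4, 4, 4, 3, 4, 3, 6, 3], [3,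 2, 2, 2, 2, 3, 2, 4, 4, 4, 3, 4, 5, 5, 5, 5, 5, 5, 5, 5, 3, 6, 7, 3, 3, 3]), ([2, 2, 2, 3, 2, 4, 4, 5, 5, 5, 5, 5, 5, 3, 6, 3, 3, 3], [2, 2, 3, 3, 3, 2, 2, 4, 4, 4, 5, 5, 5, 5, 5]), ([2, 3, 2, 3, 3, 2, 2, 2, 3, 4, 3, 4, 5, 5, 5, 5, 5, 5, 5, 5, 5, 6, 6, 6, 7, 3, 3, 3], [3, 3, 3, 2, 3, 2, 2, 2, 4, 4, 4, 6, 6, 7, 3]), ([2, 3, 2, 3, 3, 4, 4, 4, 3, 4, 6, 6, 7, 3], [3, 3, 3, 2, 3, 2, 3, 2, 3, 3]), ([3, 3, 2, 3, 2, 2, 2, 4, 6, 7, 3, 3, 3], [3, 2, 2, 3, 3, 3, 2, 2, 4, 3, 4, 5, 5, 5, 5, 5, 5, 5, 5, 5, 6, 6, 6, 3, 3]), ([3, 3, 2, 2, 2, 4, 4, 4, 5, 5, 5, 5, 5, 5, 5, 5, 7, 3], [2, 3, 3, 2, 3, 3, 2, 2, 2, 3, 3, 4, 4, 3, 4, 5, 5,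 5, 5, 3, 6, 7]), ([2, 2, 3, 2, 3, 2, 3, 4, 3, 4, 4, 6, 7], [3, 3, 3, 2, 2, 2, 2, 3, 2, 4, 3, 4, 3, 4, 5, 3, 3, 3]), ([3, 3, 2, 3, 2, 3, 4, 3, 3, 4, 3, 4, 5, 5, 5, 3, 6, 7], [3, 3, 3, 2, 2, 2, 3, 2, 4, 4, 3, 3, 4, 3, 3]), ([3, 2, 2, 2, 3, 2, 4, 4, 4, 3, 4, 5, 5, 5, 5, 5, 5, 5, 6, 6, 6, 3, 3], [3, 3, 2, 3, 3, 2, 3, 3, 4, 3, 4, 5, 5, 5, 5, 5, 5, 5, 5, 5, 6, 6, 6, 7, 3]), ([3, 3, 2, 3, 2, 3, 2, 4, 4, 4, 3, 4, 5, 5, 5, 5, 5, 5, 5, 5, 5, 3, 6, 7, 3, 3], [3, 2, 2, 4, 3, 4, 4, 4, 5, 5, 5, 5, 5, 6, 6, 6, 7, 3]), ([3, 2, 3, 2, 2, 2, 2, 2, 3, 3, 4, 4, 4, 3, 4, 3, 3, 3], [2, 2, 3, 2, 3, 3, 2, 2, 2, 3, 3, 3, 4, 3, 4, 4, 5, 5, 5,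 6, 6, 3]), ([3, 2, 3, 2, 2, 2, 2, 2, 5, 5, 5, 5, 5, 5, 5, 5, 3, 6], [2, 2, 2, 3, 2, 3, 2, 2, 3, 3, 4, 4, 4, 7, 3]), ([3, 2, 2, 2, 2, 2, 4, 3, 3, 4, 4, 3, 4, 5, 5, 5, 5, 5, 5, 5, 3, 3], [3, 2, 2, 3, 2, 2, 2, 2, 4, 4, 4, 5, 5, 6, 7]), ([2, 2, 2, 2, 2, 2, 4, 5, 5, 3, 6], [3, 3, 2, 2, 2, 2, 2, 6, 6, 7, 3, 3]), ([2, 2, 2, 2, 2, 4, 3, 3, 3, 4, 3, 4, 5, 5, 5, 5, 5, 5, 6, 6, 7, 3, 3, 3], [3, 2, 2, 2, 3, 2, 2, 4, 3, 4, 5, 5, 5]), ([2, 2, 2, 2, 2, 4, 3, 3, 4, 5, 5, 5, 3, 6], [2, 3, 2, 2, 3, 2, 3, 4, 3, 4, 6, 6, 6, 7]), ([3, 2, 3, 2, 3, 2, 5, 5, 5, 5, 5, 5, 5, 3, 3, 3], [2, 3, 2, 2, 2, 2, 2, 2, 4, 4, 3, 3, 4, 5, 5, 5, 6, 7, 3,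 3, 3]), ([3, 3, 4, 3, 4, 5, 5, 5, 6, 7, 3], [3, 3, 2, 3, 3, 2, 2, 2, 3, 4, 3, 4, 4, 5, 5, 5, 5, 5, 5, 5, 5, 5, 6, 6, 3, 3]), ([3, 3, 2, 2, 2, 2, 3, 2, 4, 3, 4, 4, 4, 3, 4, 6, 6, 3], [2, 3, 3, 3, 2, 2, 3, 4, 3, 4, 5, 5, 5, 5, 5, 7, 3]), ([4, 4, 5, 5, 5, 5, 5, 5, 5, 6, 6, 6, 7, 3, 3], [2, 3, 2, 3, 3, 4, 4, 5, 5, 5, 5, 5, 5, 7]), ([2, 2, 2, 2, 2, 3, 4, 3, 3, 4, 3, 4, 5, 5, 5, 6, 6, 6, 3, 3, 3], [2, 3, 3, 2, 3, 2, 4, 4, 5, 5, 5, 5, 5, 5, 3, 6, 7, 3, 3]), ([2, 2, 2, 2, 2, 4, 4, 3, 3, 4, 5, 5, 5, 5, 5], [3, 2, 3, 2, 2, 2, 2, 3, 4, 4, 5, 5, 5, 5, 5, 5, 5, 3, 6, 7, 3]), ([3, 3, 3, 2, 3, 2, 2, 2, 4, 3, 3, 4, 4, 3, 4, 5, 5, 5,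 5, 6, 6, 3], [2, 2, 3, 3, 3, 2, 3, 2, 2, 3, 3]), ([2, 2, 2, 3, 3, 2, 4, 3, 4, 4, 4, 6, 6, 6, 7, 3, 3, 3], [3, 2, 2, 3, 3, 2, 2, 2, 4, 4, 3, 4, 5, 6, 6, 6, 7, 3]), ([2, 3, 3, 2, 3, 2, 2, 2, 3, 3, 3, 4, 3, 4, 5, 5, 5, 5, 5, 5, 6, 6, 6, 7, 3], [2, 2, 2, 3, 3, 3, 2, 3, 3, 4, 3, 4, 4, 5, 5, 5, 5, 5, 5, 5, 6, 6, 6, 7]), ([2, 2, 4, 3, 4, 4, 5, 5, 7, 3, 3], [2, 2, 3, 2, 2, 2, 2, 4, 3, 4, 5, 5, 5, 6, 6, 6, 3]), ([3, 2, 2, 3, 2, 2, 2, 2, 4, 3, 3, 4, 4, 4, 5, 5, 5, 5, 5, 5, 5, 5, 5, 6, 6, 6, 3], [2, 2, 2, 3, 3, 3, 2, 4, 3, 4, 4, 4, 5, 5, 6, 6, 6, 3]), ([3, 2, 2, 2, 3, 2, 2, 4, 3, 3, 4, 4, 3, 4, 5, 5, 6, 7, 3, 3, 3], [2, 2, 2,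 3, 2, 3, 2, 3, 3, 4, 4, 4, 3, 4, 5, 5, 5, 5, 5, 5, 5, 5, 3]), ([3, 3, 4, 4, 4, 3, 4, 5, 5, 5, 5, 5, 6, 7, 3], [3, 3, 3, 2, 3, 2, 2, 2, 4, 4, 4, 6, 6, 7, 3, 3]), ([3, 2, 2, 3, 3, 2, 4, 3, 4, 5, 5, 5, 5, 5, 5, 5, 5, 5, 6, 6, 7, 3, 3, 3], [2, 3, 3, 3, 2, 2, 2, 3, 2, 3, 3]), ([3, 2, 2, 3, 3, 3, 4, 5, 5, 5, 6, 6, 7, 3], [3, 3, 2, 2, 2, 2, 3, 2, 3, 4, 3, 4, 4, 5, 5, 5, 5, 5, 5, 5, 6, 6, 6, 3, 3]), ([3, 3, 2, 2, 3, 3, 2, 3, 4, 3, 4, 5, 5, 5, 5, 5, 5, 5, 5, 6, 6, 6, 3], [3, 2, 2, 2, 3, 3, 3, 2, 3, 3, 3, 4, 5, 5, 5, 3, 6, 7, 3]), ([3, 2, 2, 2, 3, 2, 3, 2, 4, 4, 4, 5, 5, 5, 5, 5, 5, 5, 5, 5, 3, 3, 3], [3, 2, 2, 2, 2, 3, 2, 3,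 3, 4, 5, 5, 5, 5, 5, 5, 6, 6, 6, 3]), ([3, 2, 2, 2, 3, 2, 3, 2, 3, 3, 4, 3, 4, 4, 3, 6, 3, 3], [3, 2, 2, 2, 2, 2, 2, 4, 3, 3, 4, 4, 3, 4, 5, 5, 5, 3, 6, 7, 3, 3]), ([2, 2, 2, 3, 2, 3, 2, 3, 4, 3, 3, 4, 3, 4, 5, 5, 6, 6, 7, 3, 3, 3], [2, 3, 2, 2, 2, 3, 2, 2, 3, 3, 4, 3, 4, 5, 5, 3, 6, 7, 3, 3]), ([3, 3, 3, 2, 3, 3, 2, 4, 5, 5, 5, 5, 5, 5, 6, 6, 6, 7, 3], [3, 2, 2, 2, 3, 2, 3, 2, 3, 4, 3, 4, 5, 5, 5, 5, 5, 5, 5, 5]), ([3, 3, 2, 2, 3, 3, 2, 4, 3, 4, 5, 5, 7, 3, 3], [2, 3, 2, 4, 3, 3, 4, 4, 4, 5, 5, 5, 5, 5, 7, 3, 3]), ([3, 2, 2, 4, 5, 5, 5, 5, 5, 5, 5, 5, 3, 6, 3], [3, 3, 2, 3, 3, 3, 2, 3, 3, 3, 4, 3, 4, 4, 5, 6, 6, 3,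 3]), ([4, 3, 4, 5, 5, 5, 6, 7, 3, 3, 3], [2, 2, 2, 2, 3, 3, 2, 3, 3, 4, 4, 5, 5, 5, 5, 5, 5, 5, 6, 6, 6, 7, 3]), ([2, 3, 3, 2, 2, 2, 4, 3, 4, 4, 4, 5, 6, 6, 3, 3, 3], [2, 2, 2, 2, 2, 3, 2, 4, 3, 3, 4, 4, 4, 5, 3, 6, 3, 3, 3]), ([3, 3, 3, 2, 3, 2, 3, 4, 3, 3, 4, 3, 4, 5, 5, 5, 5, 5], [2, 2, 4, 3, 3, 4, 4, 4, 5, 5, 5, 5, 5, 7]), ([3, 3, 3, 2, 3, 2, 3, 4, 4, 3, 3, 4, 6, 6, 6], [3, 2, 3, 2, 2, 2, 2, 2, 4, 4, 3, 4, 5, 5, 5, 5, 5, 5, 7, 3, 3, 3]), ([2, 2, 2, 2, 3, 3, 4, 3, 4, 5, 5, 5, 5, 6, 6, 7, 3, 3], [2, 3, 2, 3, 2, 2, 2, 2, 2, 4, 3, 3, 3, 4, 3, 4, 5, 5, 5, 5, 5, 5, 6, 6, 6, 7, 3, 3]), ([3, 4, 3, 4, 5, 5, 5, 5, 5, 5, 6,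 6], [2, 3, 2, 2, 2, 2, 3, 3, 4, 4, 5, 5, 5, 3, 6, 7, 3, 3]), ([3, 3, 3, 2, 3, 2, 3, 4, 4, 3, 4, 5, 5, 5, 5, 5, 5, 6, 6, 6, 7, 3, 3], [3, 3, 2, 3, 2, 3, 2, 4, 3, 3, 4, 5, 5, 5, 5, 6, 3, 3, 3]), ([3, 3, 3, 2, 3, 2, 4, 4, 5, 5, 5, 3, 6, 7, 3], [2, 3, 2, 2, 3, 2, 3, 2, 3, 3, 4, 4, 4, 5, 6, 7, 3, 3])],
    [([3, 3, 3, 2, 3, 2, 3, 3, 3, 4, 3, 4, 4, 3, 6, 3, 3], [3, 2, 2, 2, 3, 2, 2, 2, 3, 3, 3, 4, 3, 4, 4, 5, 5, 5, 5, 5, 6, 6, 6, 3, 3]), ([3, 3, 3, 2, 3, 2, 4, 3, 4, 3, 4, 5, 3, 3], [2, 3, 2, 3, 3, 4, 4, 4, 5, 6, 7, 3, 3, 3]), ([3, 3, 3, 2, 2, 2, 2, 3, 2, 3, 3, 4, 4, 5, 5, 5, 5, 5, 5, 6, 7], [2, 3, 3, 3, 2, 3, 2, 3, 4, 5,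 5, 5, 5, 5, 6, 3, 3]), ([3, 3, 3, 2, 2, 2, 2, 3, 2, 3, 3, 4, 4, 3, 4, 5, 5, 5, 5, 5, 6, 6, 6, 7, 3, 3, 3], [2, 2, 3, 2, 3, 2, 4, 4, 5, 5, 5, 5, 5, 5, 3, 6, 7, 3, 3]), ([2, 2, 2, 2, 3, 2, 4, 3, 4, 4, 4, 3, 4, 5, 5, 5, 5, 5, 5, 5, 5, 6, 7, 3], [2, 3, 3, 2, 3, 3, 4, 3, 4, 5, 5, 5, 5, 5, 5, 5, 5, 5, 6, 6, 6, 7, 3, 3, 3]), ([3, 2, 2, 3, 2, 4, 4, 4, 5, 5, 6, 6, 6, 7], [3, 3, 3, 2, 2, 3, 4, 3, 4, 5, 5, 5, 5, 3, 6, 3, 3]), ([2, 2, 3, 3, 2, 5, 5, 5, 5, 5, 5, 5, 5, 6, 6, 6, 3, 3, 3], [3, 3, 2, 2, 3, 3, 2, 2, 2, 3, 4, 3, 4, 6, 6, 3, 3, 3]), ([3, 4, 4, 5, 6, 7, 3, 3, 3], [2, 3, 2, 2, 2, 3, 2, 2, 4, 3, 4, 4, 5, 5, 5, 5, 5, 5, 5,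 5, 5, 6, 6, 7, 3]), ([3, 2, 2, 3, 3, 2, 4, 5, 5, 5, 5, 5, 5, 5, 6, 6, 7], [2, 3, 3, 3, 2, 2, 3, 3, 3]), ([3, 2, 2, 3, 3, 2, 2, 2, 3, 4, 4, 4, 5, 5, 5, 5, 5, 5, 5, 5, 5, 6, 6], [2, 3, 3, 3, 2, 3, 2, 4, 3, 4, 3, 4, 5, 5, 5, 5, 6, 6, 6, 3, 3]), ([3, 2, 2, 3, 3, 2, 3, 4, 3, 4, 4, 5, 6, 6, 7, 3, 3], [2, 2, 3, 3, 3, 2, 2, 3]), ([2, 2, 3, 3, 2, 3, 4, 4, 4, 5, 5, 6, 6, 6, 3, 3], [3, 2, 3, 3, 2, 2, 2, 3, 3, 4, 4, 4, 5, 5, 5, 5, 5, 5, 6, 6, 7]), ([4, 3, 4, 4, 4, 5, 5, 5, 5, 5, 5, 5, 3, 6, 7], [3, 2, 3, 2, 2, 2, 2, 2, 2, 3, 4, 4, 3, 4, 5, 5, 5, 5, 5, 5, 5, 5]), ([2, 2, 3, 3, 2, 3, 3, 3, 4, 3, 4, 4, 5, 5, 5, 5, 5, 5, 5, 5, 5, 6,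 7, 3, 3], [2, 3, 3, 2, 2, 2, 2, 2, 3, 4, 4, 5, 5, 7]), ([2, 3, 2, 2, 2, 3, 2, 4, 4, 3, 4, 5, 5, 5, 5, 5, 3, 6, 3], [2, 2, 3, 3, 2, 2, 2, 4, 4, 4, 3, 4, 5, 5, 5, 5, 7, 3, 3, 3]), ([2, 2, 2, 3, 2, 3, 2, 2, 3, 4, 3, 3, 4, 3, 4, 5, 5, 5, 5, 5, 7, 3, 3, 3], [2, 2, 3, 2, 2, 2, 4, 3, 4, 4, 4, 3, 4, 5, 6, 7, 3, 3, 3]), ([3, 2, 2, 3, 3, 2, 2, 2, 3, 3, 4, 3, 4, 5, 5, 5, 5, 6, 3], [2, 3, 3, 3, 2, 3, 3, 2, 4, 3, 4, 3, 4, 5, 5, 5, 7]), ([2, 3, 3, 3, 2, 2, 3, 3, 4, 3, 4, 4, 6, 7], [3, 2, 3, 3, 2, 2, 2, 4, 4, 4, 3, 4, 5, 5, 5, 5, 7, 3, 3]), ([3, 4, 4, 3, 3, 4, 6, 6, 6], [3, 3, 2, 3, 2, 2, 2, 3, 4, 3, 3, 4, 3, 4, 5, 5, 5, 7, 3, 3,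 3]), ([2, 3, 3, 3, 2, 2, 3, 3, 4, 5, 5, 5, 5, 5, 6, 6, 6, 7, 3, 3, 3], [2, 3, 2, 2, 2, 3, 2, 2, 4, 4, 3, 4, 5, 6, 6, 6]), ([3, 3, 4, 4, 5, 6, 7, 3, 3], [3, 2, 3, 2, 2, 2, 3, 2, 2, 4, 3, 4, 4, 5, 5, 5, 5, 5, 5, 5, 5, 5, 6, 6, 7, 3]), ([2, 2, 3, 3, 2, 4, 3, 4, 3, 4, 5, 6, 6, 7, 3, 3, 3], [3, 3, 2, 3, 2, 2, 3, 4, 4, 3, 4, 5, 5, 6, 6, 6, 3, 3]), ([3, 3, 3, 2, 3, 2, 4, 3, 3, 4, 4, 4, 5, 6, 7], [2, 3, 2, 2, 2, 2, 3, 3, 4, 4, 5, 5, 5, 3, 6, 7, 3, 3, 3]), ([3, 3, 3, 2, 3, 2, 3, 4, 3, 3, 4, 3, 4, 5, 5, 5, 3, 6, 7, 3, 3, 3], [2, 2, 2, 3, 2, 4, 4, 3, 3, 4, 3, 3]), ([3, 2, 2, 2, 2, 3, 2, 3, 4, 4, 4, 5, 6, 6, 6], [3, 2, 2, 3, 3,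 2, 2, 2, 3, 3, 4, 4, 3, 4, 5, 5, 5, 5, 5, 3]), ([3, 2, 2, 2, 2, 3, 2, 3, 3, 4, 4, 3, 4, 5, 5, 5, 5, 5, 5, 5, 5, 6, 6, 3, 3, 3], [3, 3, 2, 2, 2, 2, 3, 2, 4, 4, 4, 3, 4, 5, 5, 5, 5, 5, 5, 5, 5, 5, 7]), ([3, 3, 2, 3, 3, 3, 2, 3, 4, 4, 4, 5, 5, 5, 6, 6, 6, 3], [2, 2, 2, 2, 3, 2, 4, 3, 3, 4, 3, 4, 5, 5, 5, 5, 3, 6, 7, 3, 3]), ([3, 3, 2, 3, 3, 3, 2, 4, 4, 3, 3, 4, 5, 5, 5, 5, 5, 5, 5, 6, 7, 3], [2, 2, 2, 3, 2, 4, 3, 3, 4, 3, 4, 5, 5, 5, 5, 5, 3, 6, 7, 3, 3, 3]), ([2, 3, 2, 2, 3, 2, 3, 2, 4, 3, 3, 4, 3, 4, 5, 7, 3, 3, 3], [3, 3, 2, 3, 4, 4, 3, 3, 4, 5, 5, 5]), ([2, 3, 2, 2, 3, 2, 3, 2, 3, 4, 4, 3, 3, 4, 5, 5, 5, 5, 5, 6, 6,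 3, 3], [2, 3, 2, 4, 5, 5, 5, 5, 5, 5, 5, 5, 5, 3, 6, 7, 3, 3]), ([3, 2, 2, 2, 2, 3, 2, 4, 3, 4, 4, 4, 3, 4, 5, 5, 5, 5, 5, 5, 5, 5, 6, 7], [3, 2, 3, 3, 2, 3, 3, 4, 3, 4, 5, 5, 5, 5, 5, 5, 5, 6, 6, 3, 3, 3]), ([3, 2, 2, 2, 2, 3, 2, 3, 4, 4, 5, 5, 5, 5, 5, 5, 5, 5, 3, 3, 3], [2, 3, 3, 3, 2, 2, 2, 3, 2, 4, 3, 4, 5, 5, 5, 5, 5, 5, 5, 5, 6, 7]), ([4, 3, 4, 4, 4, 5, 5, 5, 5, 5, 6, 6, 6, 7, 3, 3, 3], [2, 3, 2, 3, 2, 2, 2, 2, 2, 3]), ([3, 3, 4, 4, 4, 5, 6, 6, 7, 3], [3, 3, 3, 2, 2, 2, 2, 3, 2, 4, 3, 4, 4, 3, 6, 3, 3, 3]), ([3, 3, 3, 4, 3, 4, 5, 5, 5, 5], [2, 2, 2, 2, 3, 3, 2, 3, 3, 3, 4, 3, 4, 5, 3]), ([4, 4, 4, 5, 5, 5, 5,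 5, 5, 6, 6, 7, 3, 3, 3], [3, 3, 2, 3, 2, 2, 2, 3, 4, 4, 4, 5, 5, 5, 7, 3, 3, 3]), ([2, 2, 3, 2, 3, 3, 3, 2, 4, 4, 4, 5, 5, 5, 6, 6, 7, 3], [2, 3, 3, 4, 5, 6, 6, 3, 3, 3]), ([2, 5, 5, 5, 5, 5, 7, 3], [3, 2, 3, 2, 2, 2, 3, 3, 4, 3, 4, 5, 5, 5, 5, 5, 5, 5, 6, 7]), ([4, 4, 4, 5, 5, 5, 5, 5, 5, 5, 5, 7, 3, 3, 3], [3, 2, 2, 2, 2, 3, 2, 3, 4, 3, 4, 4, 5, 5, 5, 5, 5, 5, 5, 5, 6, 6, 6, 3]), ([2, 2, 3, 2, 3, 3, 3, 2, 4, 3, 4, 5, 5, 5, 5, 5, 5, 5, 5, 5, 6, 7, 3, 3, 3], [3, 3, 3, 2, 2, 4, 3, 4, 4, 5, 5, 5, 5, 5, 5, 7, 3]), ([2, 2, 3, 3, 3, 2, 3, 2, 2, 4, 4, 3, 4, 5, 5, 5, 5, 5, 5, 5, 5, 6, 7, 3, 3, 3], [2, 2, 3, 2, 3, 3, 3, 2,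 4, 4, 3, 3, 4, 5, 5, 5, 6, 6, 7]), ([3, 2, 3, 2, 2, 2, 2, 4, 3, 3, 4, 4, 4, 5, 5, 5, 5, 5, 5, 5, 5, 7, 3], [2, 2, 2, 2, 2, 3, 3, 3, 4, 3, 4, 4, 5, 5, 5, 5, 5, 5, 5, 3, 6, 7]), ([3, 3, 3, 2, 2, 2, 3, 4, 4, 4, 5, 5, 5, 5, 5, 3, 3], [3, 3, 2, 3, 2, 2, 4, 4, 4, 5, 5, 5, 3, 6, 3, 3]), ([2, 2, 3, 2, 2, 2, 4, 3, 4, 4, 4, 5, 5, 5, 5, 5, 5, 5, 5, 5, 3, 3], [2, 3, 3, 2, 2, 3, 2, 4, 5, 5, 3, 3, 3]), ([3, 2, 3, 2, 2, 2, 2, 2, 3, 3, 4, 4, 4, 5, 5, 5, 5, 5, 6, 6], [2, 3, 2, 3, 2, 2, 3, 4, 4, 3, 3, 4, 5, 5, 3, 6, 7]), ([2, 2, 2, 2, 3, 3, 2, 4, 4, 3, 4, 5, 5, 5, 5, 5, 3], [2, 2, 2, 3, 2, 2, 2, 3, 3, 4, 3, 4, 4, 5, 5, 5, 5, 5, 5, 5,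 5, 6, 3]), ([3, 3, 3, 2, 3, 2, 3, 2, 4, 3, 3, 3, 4, 3, 4, 5, 5, 5, 5, 5, 3, 6, 7], [2, 3, 2, 2, 2, 3, 2, 2, 3, 3, 4, 5, 5, 5, 5, 5, 5, 5, 3, 6, 7, 3]), ([2, 2, 3, 3, 3, 2, 2, 4, 3, 4, 3, 4, 3], [3, 3, 3, 2, 3, 2, 4, 3, 4, 4, 4, 3, 4, 5, 5, 5, 5, 6, 6, 3]), ([3, 3, 3, 2, 2, 2, 3, 2, 4, 3, 3, 3, 4, 3, 4, 5, 5, 5, 6, 6, 6, 3, 3, 3], [3, 2, 2, 3, 4, 4, 3, 4, 5, 5, 5, 5, 5, 6, 3, 3]), ([2, 3, 3, 3, 2, 4, 3, 3, 4, 4, 4, 5, 6, 7, 3, 3, 3], [3, 2, 3, 3, 3, 2, 4, 3, 4, 5, 5, 5, 5, 5, 3, 6, 7]), ([2, 2, 3, 3, 2, 2, 2, 4, 3, 4, 3, 4, 5, 5, 5, 5, 5, 5, 6, 7], [2, 2, 2, 2, 3, 2, 3, 3, 3]), ([3, 2, 3, 2, 2, 2, 2, 2, 4, 4, 4, 3, 4,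 5, 5, 5, 5, 5, 5, 3, 3, 3], [3, 3, 2, 2, 3, 3, 2, 3, 4, 3, 4, 5, 5, 5, 3, 3]), ([3, 3, 3, 2, 2, 2, 3, 2, 4, 4, 5, 5, 5, 5, 5, 5, 5, 3, 6, 7, 3], [3, 2, 2, 3, 2, 2, 2, 2, 4, 4, 3, 4, 5, 5, 6, 3, 3]), ([2, 3, 2, 3, 2, 3, 3, 2, 3, 3, 4, 4, 3, 4, 5, 5, 5, 5, 5, 6, 6, 3], [3, 2, 2, 3, 3, 2, 3, 4, 4, 4, 3, 4, 5, 5, 5, 5, 5, 5, 5, 6, 6, 3, 3, 3]), ([2, 2, 2, 2, 3, 3, 2, 4, 3, 4, 5, 5, 5, 5, 5, 3, 3, 3], [2, 2, 3, 2, 2, 3, 2, 3, 2, 3, 4, 4, 3, 3, 4, 5, 5, 5, 5, 5, 5, 6, 6, 6, 7, 3, 3, 3]), ([3, 3, 3, 2, 3, 2, 3, 2, 4, 4, 4, 3, 4, 5, 5, 3, 6, 7, 3, 3, 3], [3, 3, 2, 2, 4, 3, 3, 4, 4, 3, 4, 6, 6, 7, 3, 3, 3]), ([3, 4, 5, 5, 5,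 5, 5, 5, 6, 6, 6, 3, 3], [3, 2, 2, 2, 3, 2, 3, 3, 3, 4, 5, 5, 5, 3, 6, 3]), ([2, 3, 3, 3, 2, 2, 3, 4, 3, 4, 5, 5, 5, 5, 3, 3, 3], [3, 2, 2, 3, 3, 3, 2, 2, 3, 4, 4, 4, 3, 4, 5, 5, 5, 5, 5, 5, 5, 5, 5, 6, 6, 6]), ([3, 3, 3, 2, 2, 2, 3, 2, 3, 3, 3, 4, 7], [3, 2, 2, 2, 3, 2, 3, 3, 4, 4, 5, 5, 5, 5, 5, 5, 5, 5, 6, 6, 6, 7, 3, 3, 3]), ([2, 3, 2, 3, 3, 2, 3, 4, 4, 4, 5, 5, 5, 5, 5, 5, 5, 5, 7, 3, 3, 3], [3, 3, 3, 2, 3, 3, 2, 3, 3, 4, 4, 3, 4, 5, 5, 5, 5, 5, 5, 5, 5, 5, 6, 6, 7, 3, 3]), ([3, 3, 4, 4, 4, 3, 4, 5, 5, 5, 5, 5, 5, 5, 5, 5, 6, 6, 3, 3, 3], [3, 2, 3, 2, 2, 2, 3, 2, 2, 4, 4, 3, 4, 6, 7, 3, 3, 3]), ([3, 2, 2, 3, 3,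 2, 4, 3, 4, 5, 5, 5, 5, 5, 5, 5, 7, 3, 3, 3], [2, 2, 3, 2, 3, 2, 4, 3, 4, 4, 4, 3, 6, 7, 3, 3]), ([3, 2, 2, 2, 2, 2, 3, 4, 3, 3, 4, 3, 4, 5, 5, 5, 6, 6, 6, 3, 3], [2, 3, 2, 3, 2, 3, 4, 3, 3, 4, 3, 4, 5, 5, 5, 5, 5, 5, 6, 6, 6, 7]), ([2, 3, 2, 3, 3, 2, 4, 4, 3, 3, 4, 6, 6, 6], [3, 2, 3, 2, 2, 2, 2, 2, 3, 3, 4, 3, 4, 5, 5, 5, 5, 5, 5, 5, 5, 5, 6, 6, 6, 7, 3, 3, 3])],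
    [([3, 2, 2, 2, 2, 3, 4, 4, 4, 6, 6, 6, 7], [2, 2, 2, 3, 2, 2, 3, 4, 4, 4, 5, 5, 5, 5, 5, 5, 6, 6, 7, 3, 3]), ([2, 3, 2, 2, 3, 2, 4, 3, 4, 4, 4, 3, 4, 5, 5, 5, 5, 5, 5, 5, 5, 5, 6, 6, 6, 3, 3, 3], [2, 3, 2, 2, 2, 3, 2, 4, 3, 3, 4, 3, 3, 3]), ([3, 2, 2, 2, 3, 2, 3, 2, 4, 3, 4, 4, 5, 6, 7], [2, 2, 2, 2, 2, 2, 3, 4, 3, 4, 4, 5, 5, 5, 5, 5, 5, 5, 5, 5, 6, 6, 6, 7, 3, 3]), ([2, 3, 2, 2, 2, 2, 3, 3, 3, 4, 3, 4, 4, 5, 5, 5, 6, 6, 6, 7, 3], [2, 3, 3, 3, 2, 3, 3, 2, 3, 3, 3, 4, 3, 4, 4, 5, 5, 6, 6, 6, 3, 3]), ([3, 3, 2, 2, 2, 2, 3, 3, 3, 4, 3, 4, 4, 5, 5, 5, 6, 3, 3, 3], [3, 2, 2, 2, 2, 2, 2, 3, 3, 4, 5, 5, 5, 5, 5, 5, 5,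 5, 5, 6, 6, 6, 7, 3, 3]), ([3, 2, 3, 2, 2, 2, 2, 2, 3, 3, 4, 3, 4, 4, 5, 5, 5, 3, 6, 3], [3, 2, 2, 3, 3, 2, 2, 2, 4, 3, 3, 4, 5, 5, 6, 6, 6]), ([3, 3, 2, 2, 2, 3, 2, 4, 4, 5, 5, 5, 5, 5, 5, 5, 5, 6, 6, 7, 3, 3], [2, 2, 3, 2, 2, 2, 2, 2, 2, 3, 3, 4, 4, 4, 3, 4, 5, 5, 5, 5, 5, 5, 5, 5, 6, 3, 3]), ([3, 2, 2, 3, 3, 3, 2, 2, 4, 4, 3, 4, 5, 5, 5, 5, 5, 5, 5, 5, 5, 6, 3, 3], [2, 2, 3, 3, 3, 2, 3, 2, 3, 4, 4, 5, 5, 5, 5, 5, 5, 5, 5, 5, 6, 6, 7, 3]), ([3, 3, 2, 2, 2, 3, 3, 2, 4, 4, 3, 3, 4, 5, 5, 5, 5, 5, 5, 5, 5, 5, 6, 3], [3, 3, 3, 2, 2, 2, 3, 2, 3]), ([3, 2, 2, 3, 3, 4, 4, 3, 4, 5, 5, 5, 5, 5, 5, 5, 5], [3, 3, 2, 2, 3, 2,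 3, 4, 3, 4, 4, 5, 5, 5, 5, 5, 5, 5, 5, 6, 7]), ([3, 2, 3, 2, 2, 3, 3, 2, 3, 3, 4, 4, 4, 5, 5, 5, 5], [3, 3, 2, 2, 2, 3, 3, 2, 3, 3, 3, 4, 3, 4, 4, 5, 5, 5, 5, 5, 5, 5, 5, 5, 6, 6, 3]), ([3, 3, 3, 2, 2, 2, 3, 2, 4, 3, 3, 4, 4, 3, 4, 5, 5, 5, 5, 5, 5, 5, 5, 6], [3, 2, 2, 2, 3, 2, 2, 3, 3, 3, 4, 5, 3, 6, 7, 3, 3]), ([3, 3, 2, 2, 2, 2, 4, 4, 3, 3, 4, 5, 5, 5, 5, 5, 5, 6, 6, 6, 7, 3, 3], [3, 3, 3, 2]), ([2, 2, 3, 2, 4, 3, 3, 4, 4, 3, 4, 5, 5, 5, 5, 5, 5, 6, 7], [3, 3, 2, 3, 2, 2, 3, 4, 3, 4, 4, 5, 5, 5, 5, 6, 6, 6, 3, 3, 3]), ([2, 2, 2, 3, 4, 4, 4, 5, 5, 5, 5, 6, 6, 6, 7, 3], [3, 2, 3, 3, 3, 2, 2, 3, 3, 4, 3, 4, 4, 5, 5,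 5, 5, 5, 5, 5, 5, 5, 6, 6, 7, 3, 3]), ([2, 2, 3, 2, 3, 3, 3, 2, 4, 4, 3, 3, 4, 5, 5, 5, 5, 5, 6, 7], [2, 2, 2, 2, 2, 3, 2, 4, 3, 3, 4, 4, 3, 4, 5, 5, 5, 5, 5, 5, 5, 5, 6, 6, 7, 3]), ([3, 3, 4, 3, 4, 4, 5, 5, 5, 5, 6, 6, 6], [2, 2, 3, 2, 2, 3, 4, 5, 5, 7]), ([3, 3, 2, 3, 2, 2, 4, 3, 3, 4, 5, 5, 5, 5, 5, 5, 5, 5, 5, 6, 6, 7, 3, 3], [2, 3, 2, 3, 2, 3, 2, 3, 4, 3, 4, 5, 5, 5, 5, 5, 5, 5, 6, 7]), ([3, 3, 2, 2, 2, 3, 3, 3, 4, 3, 4, 4, 5, 5, 5, 5, 5, 3, 6], [2, 2, 3, 2, 3, 2, 3, 2, 3, 3, 4, 4, 4, 5, 6, 7, 3, 3]), ([3, 3, 3, 2, 2, 4, 4, 4, 3, 4, 6, 6, 7, 3, 3, 3], [2, 2, 3, 3, 4, 4, 3, 4, 5, 5, 6, 7, 3]), ([2, 3, 3, 2, 2, 2,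 2, 2, 4, 4, 6, 7, 3, 3], [3, 2, 3, 3, 3, 2, 3, 2, 4, 3, 4, 4, 4, 3, 4, 5, 5, 5, 5, 6, 3, 3]), ([2, 3, 2, 3, 3, 3, 2, 4, 4, 3, 3, 4, 5, 5, 3, 6, 3, 3], [2, 2, 2, 3, 4, 3, 4, 4, 5, 5, 5, 6, 3, 3]), ([3, 3, 3, 2, 3, 3, 2, 4, 3, 4, 4, 4, 5, 5, 5, 5, 5, 5, 6, 7, 3, 3], [3, 3, 3, 2, 2, 2, 2, 3, 2, 3, 3, 3, 4, 3, 4, 4, 5, 5, 5, 5, 5, 5, 3, 6, 7, 3, 3]), ([3, 3, 2, 2, 2, 3, 3, 2, 4, 3, 3, 3, 4, 3, 4, 5, 5, 5, 5, 5, 6, 6, 6, 7], [2, 2, 3, 2, 2, 2, 3, 3, 4, 4, 4, 5, 5, 5, 5, 3, 6, 7, 3, 3]), ([3, 3, 2, 3, 3, 4, 5, 5, 5, 5, 5, 5, 5, 5, 6, 7], [3, 2, 3, 2, 2, 2, 3, 2, 2, 4, 3, 3, 4, 4, 4, 6, 6, 6, 7, 3, 3, 3]), ([3, 3, 2, 3, 2,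 2, 3, 4, 4, 3, 3, 4, 5, 5, 3, 6, 3, 3], [2, 2, 3, 3, 2, 2, 2, 3, 4, 3, 4, 4, 5, 5, 5, 5, 5, 5, 5, 5, 5, 3, 3]), ([2, 2, 3, 3, 3, 4, 5, 5, 5, 5, 5, 5, 7], [2, 3, 3, 2, 2, 2, 2, 2, 6, 6, 7, 3]), ([2, 2, 3, 2, 3, 2, 3, 2, 3, 4, 3, 4, 4, 5, 5, 5, 5, 5, 5, 5, 6, 7, 3], [3, 2, 3, 2, 2, 2, 3, 2, 2, 3, 4, 3, 4, 5, 6, 7, 3]), ([3, 2, 3, 3, 2, 2, 2, 4, 3, 4, 4, 5, 6, 3], [3, 2, 3, 2, 2, 2, 2, 2, 3, 3, 3, 4, 3, 4, 4, 5, 5, 5, 5, 5, 5, 5, 5, 5, 6, 6, 7, 3, 3, 3]), ([2, 2, 3, 2, 3, 2, 3, 2, 3, 4, 3, 4, 4, 5, 5, 5, 5, 5, 5, 5, 6, 6, 6, 7, 3, 3, 3], [2, 3, 2, 2, 3, 2]), ([3, 2, 2, 2, 3, 2, 4, 4, 5, 5, 5, 5, 5, 5, 3, 6, 3, 3], [3,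 2, 2, 3, 3, 3, 2, 2, 4, 4, 4, 5, 5, 5, 5, 5]), ([3, 3, 3, 2, 3, 3, 2, 4, 3, 4, 4, 4, 5, 5, 5, 5, 5, 5, 3, 3], [2, 3, 2, 3, 2, 3, 3, 2, 3, 3, 4, 4, 4, 3, 4, 5, 5, 5, 5, 5, 5, 5, 5, 6, 3, 3]), ([3, 2, 3, 3, 4, 6, 3, 3], [2, 3, 3, 3, 2, 2, 2, 3, 2]), ([2, 2, 3, 2, 2, 3, 2, 3, 2, 4, 3, 3, 4, 4, 3, 4, 5, 5, 5, 5, 5, 5, 5, 5, 5, 7, 3], [2, 3, 3, 2, 2, 3, 3, 2, 4, 3, 3, 4, 4, 4, 5, 5, 5, 5, 5, 5, 5, 5, 5, 6, 7, 3, 3]), ([3, 3, 2, 2, 2, 2, 2, 4, 3, 3, 4, 5, 5, 5, 5, 5, 5, 5, 5, 3, 6], [3, 2, 2, 2, 2, 2, 2, 3, 3, 4, 3, 4, 5, 5, 5, 5, 5, 5, 5, 5, 5, 6, 6, 3, 3]), ([3, 2, 2, 2, 3, 2, 2, 4, 3, 3, 4, 4, 3, 4, 5, 5, 5, 5, 5, 5, 5,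 5, 5, 3, 6, 3], [3, 2, 2, 3, 2, 2, 2, 2, 4, 4, 4, 5, 5, 6, 7, 3]), ([3, 2, 3, 2, 3, 3, 2, 3, 3, 4, 5, 5, 5, 5, 5, 5, 5, 5, 7, 3, 3, 3], [3, 2, 2, 3, 3, 4, 3, 4, 4, 5, 5, 5, 5, 5, 5, 5, 5, 5, 6, 6, 7, 3]), ([2, 2, 3, 2, 2, 3, 2, 3, 2, 4, 4, 4, 5, 5, 5, 5, 5, 5, 5, 3, 6, 7], [3, 3, 3, 2, 3, 2, 2, 4, 4, 6, 6, 7, 3, 3]), ([3, 2, 3, 3, 3, 2, 5, 5, 5, 5, 5, 5, 6, 3, 3, 3], [3, 3, 2, 3, 3, 2, 4, 3, 3, 4, 3, 4, 5, 5, 5, 5, 5, 5, 5, 6, 7]), ([2, 3, 2, 2, 2, 2, 2, 3, 4, 4, 4, 3, 4, 5, 3, 6, 3, 3, 3], [3, 2, 3, 2, 2, 2, 2, 4, 3, 3, 4, 4, 3, 4, 5, 5, 5, 5, 6, 7]), ([2, 3, 2, 3, 2, 3, 3, 2, 4, 4, 5, 5, 5, 5, 5, 5, 5, 5, 6, 7, 3,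 3], [3, 3, 3, 2, 3, 2, 2, 4, 3, 4, 4, 5, 6, 7, 3, 3, 3]), ([3, 3, 2, 3, 2, 2, 2, 4, 4, 5, 5, 3, 6, 7, 3, 3], [3, 2, 4, 4, 5, 5, 5, 5, 5, 5, 5, 6, 7, 3, 3, 3]), ([3, 2, 3, 3, 2, 2, 2, 3, 4, 3, 3, 4, 3, 4, 5, 5, 5, 5, 5, 6, 6, 7], [3, 3, 3, 2, 2, 3, 3, 4, 3, 4, 4, 5, 5, 5, 5, 5, 5, 5, 5, 5, 6, 6, 7]), ([3, 3, 2, 3, 2, 3, 4, 4, 3, 4, 5, 5, 5, 6, 7, 3, 3, 3], [3, 3, 2, 3, 2, 2, 4, 5, 5, 5, 5, 5, 5, 6, 6]), ([3, 3, 2, 2, 2, 2, 3, 2, 3, 4, 3, 4, 4, 5, 5, 5, 5, 5, 5, 5, 5, 5, 6, 6, 7, 3, 3], [2, 3, 3, 3, 2, 3, 2, 2, 4, 5, 5, 5, 5, 5, 5, 6, 6]), ([4, 3, 3, 4, 4, 3, 4, 5, 5, 3, 6, 7, 3, 3], [2, 2, 2, 3, 2, 3, 2, 2, 4, 4, 5,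 5, 5, 5, 6, 6, 3]), ([2, 2, 3, 2, 3, 2, 2, 3, 3, 4, 4, 4, 3, 4, 5, 5, 5, 5, 3, 6, 7, 3, 3], [2, 2, 2, 2, 3, 3, 2, 3, 4, 4, 3, 3, 4, 5, 5, 5, 5, 5, 5, 5, 5, 6, 6, 6, 7, 3]), ([3, 2, 3, 2, 2, 2, 2, 2, 3, 4, 4, 5, 5, 5, 5, 5, 3, 6, 3, 3, 3], [3, 2, 3, 3, 2, 2, 2, 3, 4, 4, 3, 4, 5, 6, 6, 6, 7, 3]), ([2, 2, 3, 3, 2, 2, 2, 4, 3, 4, 3, 4, 5, 5, 5, 5, 5, 5, 6, 6, 3, 3], [2, 3, 2, 3, 3, 3, 2, 3, 4, 5, 5, 5, 5, 5, 5, 5, 5, 5, 3, 6, 7, 3, 3, 3]), ([2, 2, 3, 2, 2, 3, 2, 4, 3, 4, 4, 4, 3, 4, 5, 5, 5, 5, 5, 5, 3, 6, 7, 3], [2, 2, 3, 2, 3, 3, 3, 2, 4, 4, 4, 5, 5, 5, 5, 5, 5, 5, 5, 6, 6]), ([2, 2, 3, 2, 2, 3, 2, 4, 3, 4, 4, 4, 3, 4,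 5, 5, 5, 5, 5, 5, 5, 5, 6, 6, 7, 3, 3, 3], [3, 2, 2, 2, 3, 3, 3, 2, 4, 4, 3, 3, 4, 6, 6, 6, 3, 3, 3]), ([2, 3, 2, 2, 3, 2, 3, 2, 3, 4, 3, 3, 4, 3, 4, 6, 7, 3, 3, 3], [3, 3, 3, 2, 2, 2, 2, 4, 3, 3, 3, 4, 3, 4, 5, 5, 5, 5, 5, 7, 3, 3]), ([2, 2, 2, 3, 2, 2, 2, 4, 5, 5, 5, 6, 7, 3], [2, 2, 2, 3, 2, 3, 3, 4, 4, 3, 4, 6, 6, 6, 7, 3, 3]), ([3, 3, 3, 4, 3, 4, 5, 5, 5, 5, 5, 3, 3], [3, 3, 3, 2, 3, 2, 2]), ([3, 2, 2, 3, 2, 3, 3, 4, 5, 5, 5, 5, 5, 5, 5, 5, 5, 6, 3], [2, 2, 2, 3, 2, 2, 2, 4, 3, 4, 4, 4, 5, 5, 5, 3, 6, 7, 3, 3, 3]), ([2, 2, 3, 2, 3, 2, 2, 3, 3, 4, 3, 4, 4, 5, 5, 5, 5, 5, 5, 5, 5, 5, 7, 3, 3], [3, 2, 2, 2, 2, 2,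 4, 3, 3, 4, 3, 4, 6, 6, 7, 3, 3, 3]), ([3, 3, 3, 2, 2, 2, 3, 2, 3, 4, 4, 3, 3, 4, 5, 5, 5, 5, 5, 3, 6, 7], [2, 2, 3, 3, 3, 2, 3, 4, 4, 5, 5, 5, 5, 5, 5, 5, 3, 6, 3]), ([2, 2, 2, 3, 2, 3, 4, 3, 4, 4, 5, 5, 5, 5, 5, 5, 5, 5, 5, 6, 6, 6, 3, 3], [2, 2, 2, 3, 2, 3, 2, 2, 4, 4, 5, 5, 5, 5, 6, 6]), ([2, 2, 2, 3, 2, 3, 2, 3, 4, 4, 3, 4, 5, 5, 5, 3, 6, 7, 3, 3, 3], [3, 3, 3, 2, 2, 2, 3, 4, 3, 4, 5, 6, 6, 6, 3]), ([2, 3, 3, 3, 2, 3, 4, 4, 3, 4, 5, 5, 5, 5, 6, 7, 3], [2, 2, 2, 3, 3, 3]), ([2, 2, 3, 2, 3, 2, 3, 2, 3, 4, 3, 4, 6, 6, 3, 3, 3], [2, 2, 3, 3, 2, 3, 4, 3, 4, 4, 5, 5, 5, 5, 5, 5, 5, 5, 6, 6, 6, 3]), ([3, 2, 2, 2, 2, 3,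 4, 5, 5, 5, 5, 5, 3, 6, 7, 3], [3, 3, 3, 2, 2, 2, 2, 4, 3, 4, 4, 4, 5, 5, 5, 5, 3, 6, 3, 3]), ([3, 2, 3, 3, 3, 2, 4, 4, 3, 3, 4, 5, 5, 5, 5, 5, 5, 5, 6, 7, 3, 3], [3, 3, 3, 2, 2, 2, 3, 2, 4, 3, 3, 4, 3, 4, 5, 5, 5, 5, 5, 3, 6, 7, 3, 3, 3]), ([2, 2, 2, 3, 2, 4, 3, 3, 3, 4, 3, 4, 5, 5, 5, 6, 6, 6, 3, 3], [3, 3, 2, 2, 3, 4, 4, 3, 4, 5, 5, 5, 5, 5, 6, 3, 3])],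
    [([2, 3, 3, 3, 2, 3, 3, 2, 4, 3, 4, 5, 5, 3, 6], [3, 3, 2, 3, 3, 2, 4, 4, 3, 3, 4, 5, 5, 5, 6, 6]), ([2, 2, 3, 2, 2, 3, 2, 3, 2, 5, 5, 5, 5, 5, 5, 5, 5, 7, 3, 3], [3, 3, 2, 2, 2, 3, 3, 2, 3, 3, 3, 4, 3, 4, 4, 5, 5, 5, 5, 5, 5, 5, 5, 5, 6, 6, 3, 3, 3]), ([3, 2, 2, 2, 2, 2, 4, 3, 4, 4, 5, 5, 7, 3], [2, 3, 3, 3, 2, 3, 2, 2, 4, 4, 4, 5, 5, 5, 3, 6, 3, 3]), ([3, 3, 3, 2, 3, 3, 2, 3, 3, 4, 3, 4, 4, 5, 5, 5, 5, 5, 5, 5, 5, 5, 6, 6], [2, 3, 2, 2, 3, 3, 2, 4, 3, 4, 4, 5, 5, 7, 3, 3]), ([3, 3, 2, 3, 4, 4, 3, 4, 5, 5, 5, 5, 5, 6, 6, 7, 3, 3, 3], [2, 3, 3, 3, 2, 3, 3, 2, 4, 3, 3, 4, 3, 4, 5, 6, 7]), ([2, 2, 3, 3, 3, 2, 3, 3,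 3, 4, 5, 5, 5, 6, 6, 7, 3], [3, 3, 2, 2, 3, 3, 2, 2, 2, 3, 4, 3, 4, 6, 6, 3, 3]), ([3, 3, 2, 2, 3, 2, 4, 3, 4, 4, 4, 5, 5, 5, 6, 6, 3, 3], [3, 2, 2, 3, 3, 2, 2, 2, 3, 4, 3, 4, 6, 6, 3, 3]), ([3, 2, 3, 4, 4, 3, 4, 5, 5, 5, 5, 5, 6, 6, 3, 3, 3], [3, 3, 2, 3, 2, 2, 2, 3, 4, 4, 5, 5, 5, 3, 6, 7, 3, 3, 3]), ([3, 2, 3, 2, 2, 2, 2, 3, 4, 4, 3, 3, 4, 5, 5, 5, 6, 6, 6, 3, 3], [3, 2, 2, 3, 3, 2, 3, 4, 4, 5, 5, 5, 5, 5, 5, 5, 3, 6, 3]), ([2, 2, 3, 2, 2, 3, 2, 3, 2, 4, 3, 4, 3, 4, 5, 5, 5, 3], [2, 2, 3, 3, 2, 2, 2, 3, 4, 4, 3, 4, 5, 6, 6, 6, 7, 3]), ([3, 3, 2, 2, 3, 4, 4, 3, 3, 4, 5, 5, 5, 5, 5, 5, 5, 5, 3, 6, 7], [2, 3, 3, 3,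 2, 2, 4, 3, 3, 4, 4, 4, 5, 5, 5, 6, 6, 7, 3]), ([3, 3, 2, 2, 2, 3, 3, 2, 3, 4, 5, 5, 3, 6, 7], [2, 2, 3, 2, 2, 3, 2, 3, 2, 3, 3, 4, 4, 4, 5, 5, 3, 6, 7, 3, 3]), ([2, 2, 3, 2, 3, 2, 3, 3, 3, 4, 3, 4, 5, 5, 5, 5, 5, 5, 5, 5, 5, 6, 6, 6, 3, 3, 3], [3, 2, 3, 2]), ([3, 3, 2, 3, 2, 4, 3, 4, 3, 4, 5, 3, 3, 3], [3, 3, 3, 2, 3, 2, 3, 3, 4, 4, 4, 5, 6, 7, 3, 3, 3]), ([2, 3, 2, 3, 3, 3, 4, 3, 4, 4, 3, 6, 3], [3, 3, 2, 2, 2, 3, 2, 2, 2, 3, 3, 3, 4, 3, 4, 4, 5, 5, 5, 5, 5, 6, 6, 6, 3, 3]), ([2, 3, 2, 2, 2, 4, 4, 5, 5, 3, 6, 7], [3, 3, 3, 2, 4, 4, 5, 5, 5, 5, 5, 5, 5, 6, 7, 3, 3, 3]), ([2, 3, 3, 2, 3, 4, 3, 3, 4, 3, 4, 5, 6, 6, 6,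 7], [3, 3, 2, 2, 3, 2, 4, 6, 6, 7, 3, 3]), ([2, 2, 2, 2, 2, 2, 3, 4, 5, 5, 5, 5, 5, 5, 5, 6, 6, 7, 3, 3], [2, 3, 3, 3, 2, 2, 3, 3, 4, 3, 4, 6, 6, 3, 3, 3]), ([3, 2, 3, 2, 2, 2, 2, 4, 4, 5, 5, 5, 6, 7, 3, 3], [2, 3, 2, 2, 2, 3, 2, 4, 4, 3, 4, 5, 5, 5, 5, 3, 6, 3]), ([2, 2, 3, 3, 3, 2, 2, 3, 4, 4, 4, 5, 5, 5, 5, 5, 5, 5, 3, 3], [2, 2, 3, 3, 2, 3, 3, 4, 3, 4, 5, 5, 5, 5, 5, 5, 5, 5, 5, 6, 6, 6, 7, 3, 3]), ([3, 3, 2, 2, 2, 3, 3, 2, 4, 3, 4, 4, 4, 3, 4, 5, 5, 5, 5, 5, 5, 5, 6, 7], [2, 3, 2, 2, 2, 2, 2, 3, 3, 3, 4, 3, 4, 4, 5, 5, 5, 5, 5, 5, 5, 3, 6, 7, 3, 3, 3]), ([2, 3, 2, 3, 2, 4, 4, 5, 5, 3, 6, 7, 3, 3, 3], [3, 3, 2,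 2, 2, 2, 2, 4, 3, 3, 4, 3, 4, 6, 6, 7, 3]), ([2, 3, 3, 3, 2, 4, 4, 3, 3, 4, 5, 6, 7, 3], [3, 2, 2, 2, 3, 3, 3, 2, 3, 3, 4, 3, 4, 4, 5, 5, 5, 5, 5, 5, 5, 6, 6, 6, 7, 3, 3]), ([3, 3, 2, 4, 3, 4, 4, 5, 5, 5, 5, 5, 5, 5, 5, 3, 6, 3], [3, 2, 2, 3, 2, 3, 3]), ([3, 3, 2, 4, 3, 4, 4, 5, 5, 6, 7, 3, 3, 3], [2, 2, 2, 3, 2, 3, 2, 3, 3, 4, 4, 4, 3, 4, 7, 3, 3, 3]), ([3, 2, 3, 3, 2, 3, 4, 4, 3, 3, 4, 5, 5, 5, 5, 5, 5, 5, 3, 3], [3, 3, 2, 3, 2, 2, 3, 3]), ([3, 2, 2, 2, 3, 2, 3, 2, 4, 3, 3, 4, 4, 4, 5, 5, 5, 5, 5, 5, 3, 3, 3], [3, 3, 2, 3, 3, 2, 3, 3, 3, 4, 3, 4, 4, 5, 3, 6, 7]), ([3, 2, 2, 2, 2, 4, 4, 3, 4, 5, 5, 3, 6, 7, 3], [3,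 3, 2, 3, 3, 2, 4, 3, 4, 4, 4, 3, 4, 5, 5, 6, 6, 6, 3]), ([3, 2, 2, 4, 3, 4, 3, 4, 5, 5, 5, 5, 5, 5, 5, 5, 3, 6, 3], [3, 2, 2, 3, 2, 2, 2, 2, 4, 3, 4, 4, 4, 5, 5, 5, 5, 5, 5, 5, 5, 5, 3, 3, 3]), ([3, 3, 2, 3, 2, 2, 4, 3, 3, 3, 4, 3, 4, 5, 5, 5, 5, 5, 3, 6, 3], [3, 2, 2, 2, 3, 2, 3, 4, 3, 3, 4, 3, 4, 5, 3, 6, 7, 3, 3]), ([2, 3, 2, 2, 2, 2, 3, 3, 3, 4, 3, 4, 4, 5, 5, 5, 5, 5, 5, 5, 5, 6, 7, 3], [3, 2, 2, 3, 3, 2, 2, 2, 3, 4, 3, 4, 5, 6, 6, 6, 3]), ([3, 2, 2, 2, 3, 3, 2, 4, 5, 5, 6, 6, 7, 3, 3], [2, 2, 2, 2, 2, 2, 3, 3, 4, 4, 3, 4, 5, 5, 5, 5, 5, 5, 5, 5, 3, 6, 7, 3]), ([3, 3, 2, 2, 3, 2, 5, 5, 5, 5, 7, 3, 3], [3, 2, 2,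 2, 2, 2, 3, 4, 3, 4, 4, 3, 6, 7, 3, 3, 3]), ([2, 2, 2, 2, 2, 2, 3, 3, 4, 3, 4, 5, 5, 5, 5, 5, 5, 5, 6, 6, 6, 7, 3], [3, 2, 3, 2, 2, 2, 2, 3, 4, 4, 4, 3, 4, 5, 5, 6, 6]), ([3, 3, 2, 3, 3, 2, 3, 3, 3, 4, 3, 4, 4, 5, 5, 5, 6, 6], [2, 3, 2, 2, 3, 2, 3, 2, 4, 3, 3, 4, 4, 3, 4, 5, 5, 5, 5, 5, 5, 6, 6]), ([4, 3, 3, 3, 4, 3, 4, 5, 5, 5, 5, 5, 5, 6, 3], [3, 2, 3, 3, 2, 4, 4, 3, 3, 4, 5, 5, 5, 7, 3, 3]), ([2, 3, 3, 2, 3, 2, 3, 4, 3, 4, 5, 5, 5, 3], [2, 3, 2, 3, 2, 3]), ([2, 3, 3, 2, 2, 2, 2, 2, 3, 4, 4, 3, 4, 5, 5, 5, 5, 6, 7, 3, 3], [3, 2, 3, 2, 3, 3, 2, 4, 3, 3, 4, 3, 4, 5, 5, 5, 5, 5, 5, 5, 6, 7, 3, 3]), ([2, 2, 3, 2, 2, 2,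 2, 2, 4, 3, 4, 3, 4, 5, 5, 3], [2, 3, 2, 3, 3, 2, 4, 3, 3, 4, 3, 4, 5, 5, 5, 5, 5, 5, 5, 6, 7, 3, 3]), ([2, 2, 3, 2, 2, 2, 2, 2, 3, 4, 4, 4, 5, 5, 5, 5, 5, 5, 5, 5, 7, 3, 3, 3], [2, 2, 2, 2, 2, 2, 3, 3, 4, 4, 4, 5, 5, 5, 6, 6, 6, 7, 3]), ([2, 2, 2, 3, 2, 3, 2, 4, 4, 4, 3, 4, 5, 5, 5, 5, 5, 5, 5, 5, 5, 3, 6, 7, 3, 3], [3, 3, 2, 3, 3, 3, 2, 3, 3, 4, 4, 3, 4, 5, 5, 6, 7, 3]), ([2, 3, 3, 2, 3, 3, 4, 4, 4, 3, 4, 5, 5, 5, 5, 5, 5, 5, 5, 5, 7, 3, 3], [3, 3, 2, 2, 2, 3, 2, 2, 2, 3, 3, 4, 3, 4, 4, 5, 5, 6, 6, 6, 3, 3]), ([2, 2, 3, 2, 3, 3, 2, 2, 2, 3, 3, 4, 4, 3, 4, 5, 5, 5, 3, 6, 3, 3], [3, 2, 2, 3, 2, 3, 2, 4, 4, 5, 5, 5,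 5, 5, 6, 7, 3, 3]), ([2, 3, 3, 2, 4, 3, 4, 4, 4, 5, 5, 5, 5, 5, 5, 3], [2, 3, 2, 2, 3, 3, 2, 4, 3, 4, 4, 4, 3, 4, 5, 5, 5, 5, 7, 3]), ([3, 3, 2, 2, 3, 3, 2, 2, 2, 4, 3, 4, 3, 4, 5, 5, 5, 6, 6, 6, 3], [2, 2, 3, 3, 2, 3, 3, 4, 3, 4, 5, 5, 5, 5, 5, 5, 5, 5, 5, 6, 6, 6, 7, 3, 3, 3]), ([2, 3, 2, 3, 2, 3, 3, 2, 3, 4, 4, 4, 5, 5, 5, 5, 3, 3, 3], [2, 3, 3, 3, 2, 2, 2, 3, 2, 5, 5, 5, 5, 5, 5, 5, 6, 6, 7]), ([3, 3, 3, 2, 2, 2, 3, 2, 4, 3, 3, 4, 4, 3, 4, 5, 6, 6, 6, 7, 3, 3, 3], [3, 3, 2, 3, 2, 2, 2, 3, 3, 3, 4, 5, 5, 5, 5, 5, 5, 5, 5, 6, 6, 6, 7]), ([2, 2, 2, 2, 3, 3, 2, 4, 3, 4, 4, 4, 3, 4, 6, 6], [3, 2, 2, 3, 3, 2, 2, 2, 3,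 4, 3, 4, 6, 6]), ([3, 3, 3, 2, 2, 2, 3, 3, 4, 4, 4, 5, 5, 5, 6, 6, 7], [2, 3, 2, 2, 2, 2, 2, 3]), ([2, 3, 2, 2, 3, 3, 2, 2, 2, 3, 3, 4, 4, 5, 5, 5, 5, 5, 5, 5, 5, 5, 3, 6, 7, 3, 3], [2, 2, 3, 3, 2, 3, 3, 4, 4, 5, 5, 5, 5, 5, 5, 5, 6, 6, 6, 7, 3]), ([3, 2, 2, 3, 3, 3, 2, 2, 4, 3, 4, 4, 4, 3, 4, 5, 5, 5, 5, 5, 5, 5, 5, 5, 3, 6, 7, 3], [3, 3, 2, 3, 2, 3, 4, 4, 4, 5, 5, 5, 5, 7, 3]), ([2, 3, 3, 2, 3, 2, 2, 2, 4, 3, 4, 3, 4, 5, 5, 3, 6, 7, 3, 3], [2, 3, 2, 3, 3, 2, 2, 2, 4, 4, 4, 3, 4, 5, 5, 6, 6, 6, 3, 3, 3]), ([2, 2, 3, 2, 2, 3, 3, 3, 4, 3, 4, 4, 5, 5, 5, 5, 5, 5, 5, 6, 7, 3], [3, 3, 3, 2, 2, 2, 3]), ([2, 3, 2, 3, 2, 2,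 2, 2, 2, 3, 3, 4, 4, 5, 5, 5, 3, 6, 7, 3], [3, 2, 3, 3, 2, 2, 3, 2, 4, 3, 3, 3, 4, 3, 4, 5, 5, 5, 5, 5, 5, 5, 5, 6, 6, 6, 3, 3, 3]), ([2, 3, 3, 2, 2, 3, 2, 4, 3, 4, 3, 4, 5, 5, 5, 5, 5, 5, 5, 5, 6, 6, 3], [2, 2, 3, 2, 3, 2, 3, 2, 4, 4, 3, 3, 4, 5, 5, 5, 3, 6, 7, 3, 3, 3]), ([2, 3, 3, 3, 2, 3, 3, 2, 3, 4, 4, 5, 5, 5, 5, 5, 5, 5, 3, 6, 7, 3], [2, 2, 3, 2, 2, 2, 2, 2, 4, 3, 4, 4, 4, 3, 4, 5, 5, 5, 5, 5, 5, 5, 5, 3]), ([2, 3, 2, 2, 2, 3, 2, 2, 4, 3, 4, 5, 5, 3, 6, 7, 3, 3], [3, 2, 2, 2, 4, 3, 4, 3, 4, 5, 5, 6, 6]), ([2, 3, 3, 2, 3, 3, 2, 2, 2, 3, 4, 3, 4, 4, 5, 5, 5, 5, 6, 6, 3, 3], [2, 3, 2, 2, 3, 3, 2, 3, 3, 4, 3, 4,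 5, 5, 5, 5, 3, 6, 7, 3, 3, 3]), ([3, 2, 3, 3, 3, 2, 3, 3, 3, 4, 3, 4, 5, 5, 5, 5, 5, 5, 5, 7, 3, 3, 3], [3, 2, 2, 3, 3, 3, 2, 2, 4, 3, 4, 4, 5, 5, 5, 5, 5, 5, 5, 5, 5, 6, 6, 7, 3, 3, 3]), ([3, 3, 3, 2, 3, 2, 3, 2, 6, 7, 3, 3, 3], [2, 2, 3, 2, 2, 2, 3, 3, 4, 4, 5, 5, 5, 5, 5, 5, 5, 6, 6, 6, 7]), ([3, 3, 3, 2, 2, 3, 3, 4, 3, 4, 4], [2, 2, 3, 2, 3, 2, 3, 2, 4, 3, 4, 5, 5, 5, 3, 3]), ([2, 2, 2, 2, 3, 3, 2, 3, 3, 4, 4, 5, 5, 5, 5, 5, 6, 6], [2, 3, 3, 3, 2, 3, 3, 4, 4, 3, 4, 5, 5, 6, 7, 3]), ([2, 2, 3, 2, 2, 2, 2, 2, 4, 5, 5, 3, 3, 3], [3, 3, 2, 2, 2, 3, 2, 2, 2, 4, 4, 3, 3, 4, 5, 5, 5, 5, 6, 6, 6, 7]), ([2, 3, 2, 2, 3, 3,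 2, 4, 3, 3, 3, 4, 3, 4, 5, 5, 5, 5, 5, 6, 6, 3, 3, 3], [3, 2, 2, 3, 3, 2, 2, 2, 4, 3, 4, 4, 5, 5, 3])]]

/-- part of a table -/
def conjs9 : List (List (List ℕ × List ℕ)) :=
  [[([3, 3, 2, 2, 2, 2, 3, 2, 4, 3, 4, 3, 4, 5, 7], [3, 3, 2, 3, 2, 2, 2, 3, 3, 4, 3, 4, 4, 5, 5, 5, 5, 5, 5, 5, 5, 6]), ([2, 2, 3, 2, 3, 2, 2, 3, 4, 5, 5, 5, 5, 5, 5, 5, 5, 6, 6, 7, 3, 3], [2, 2, 2, 3, 2, 3, 2, 2, 3, 3, 4, 3, 4, 4, 5, 5, 5, 5, 5, 5, 5, 5, 6, 7, 3, 3]), ([5, 5, 5, 5, 5, 5, 6, 6, 6, 7, 3, 3], [3, 3, 2, 4, 4, 3, 3, 4, 5, 5, 5, 7, 3, 3]), ([3, 3, 3, 2, 2, 2, 2, 3, 2, 4, 3, 4, 4, 4, 3, 4, 5, 5, 5, 5, 5, 5, 5, 6, 6, 6, 7, 3, 3], [3,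 3, 3, 2, 3, 2, 3, 2, 4, 4, 4, 3, 4, 5, 5, 5, 5, 5, 5, 5, 6, 6, 3, 3]), ([2, 2, 2, 3, 3, 3, 2, 3, 3, 4, 4, 5, 5, 5, 5, 5, 5, 5, 3, 3, 3], [3, 3, 3, 2, 2, 2, 3, 2, 3, 4, 4, 3, 4, 5, 5, 5, 5, 5, 6, 6, 7, 3]), ([2, 2, 2, 3, 2, 3, 2, 2, 4, 4, 3, 4, 5, 5, 5, 5, 5, 5, 5, 5, 5, 6, 6, 3], [3, 2, 3, 3, 2]), ([4, 4, 3, 3, 4, 5, 5, 5, 5, 5, 6, 6, 6, 3, 3, 3], [2, 2, 2, 3, 2, 3, 2, 4, 3, 4, 4, 4, 3, 4, 5, 5, 5, 5, 5, 5, 5, 5, 3, 6, 7, 3, 3]), ([3, 3, 2, 3, 3, 3, 2, 3, 3, 3, 4, 3, 4, 5, 6, 6, 6, 3, 3], [3, 2, 2, 2, 2, 2, 3, 3, 4, 3, 4, 5, 5, 5, 5, 5, 5, 5, 7, 3, 3, 3]), ([2, 2, 3, 2, 2, 3, 3, 4, 3, 4, 4, 5, 5, 5, 5, 5, 5, 5, 3, 6,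 7, 3, 3, 3], [3, 3, 2, 3, 3, 4, 4, 3, 4, 5, 5, 5, 5, 5, 6, 6, 6, 7]), ([3, 3, 3, 2, 3, 2, 3, 2, 4, 4, 5, 5, 5, 5, 6, 6, 3, 3, 3], [3, 3, 2, 2, 3, 4, 3, 4, 4, 5, 5, 5, 6, 3, 3]), ([3, 3, 2, 2, 3, 3, 2, 3, 3, 3, 4, 3, 4, 4, 5, 5, 5, 5, 5, 5, 3, 3], [2, 2, 3, 2, 2, 3, 2, 3, 2, 3, 3, 4, 4, 5, 5, 5, 5, 5, 5, 5, 5, 5]), ([3, 2, 2, 4, 3, 4, 4, 5, 5, 5, 6, 6, 7, 3], [2, 2, 3, 3, 2, 2, 2, 4, 3, 4, 3, 4, 6, 6]), ([2, 3, 3, 2, 3, 3, 2, 2, 2, 3, 4, 3, 4, 5, 5, 5, 7, 3, 3, 3], [3, 2, 2, 3, 3, 2, 3, 4, 4, 3, 3, 4, 5, 5, 5]), ([2, 2, 2, 3, 2, 4, 3, 3, 4, 4, 4, 5, 5, 6, 6, 3], [2, 3, 2, 3, 2, 3, 2, 3, 3, 3, 4, 3, 4, 5, 6, 6, 3, 3,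 3]), ([2, 3, 2, 3, 2, 3, 3, 2, 4, 4, 3, 3, 4, 5, 5, 6, 7], [2, 2, 3, 3, 3, 2, 3]), ([2, 2, 3, 2, 2, 2, 2, 2, 5, 5, 5, 5, 5, 5, 6, 6, 6, 7, 3, 3, 3], [2, 2, 3, 3, 3, 2, 4, 3, 4, 5, 5, 5, 5, 5, 3, 6, 7, 3, 3]), ([3, 3, 2, 2, 3, 3, 3, 4, 3, 4, 7, 3], [3, 3, 3, 2, 4, 4, 3, 3, 4, 5, 5, 5, 7]), ([2, 2, 3, 2, 2, 3, 2, 3, 2, 3, 3, 4, 3, 4, 4, 5, 5, 5, 5, 5, 3, 6, 7, 3], [2, 3, 2, 3, 3, 2, 2, 2, 3, 4, 3, 3, 4, 3, 4, 5, 5, 5, 5, 5, 5, 5, 5, 5, 6, 6, 7]), ([3, 3, 2, 2, 2, 3, 2, 2, 2, 4, 4, 3, 4, 5, 5, 3, 3], [3, 2, 2, 2, 3, 3]), ([2, 3, 3, 2, 2, 3, 2, 3, 3, 4, 4, 4, 5, 5, 5, 5, 5, 5, 5, 5, 5, 3, 3, 3], [3, 3, 2, 3, 3, 2, 4, 3,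 3, 4, 4, 4, 5, 5, 5, 5, 3, 6, 7, 3, 3]), ([2, 2, 3, 3, 3, 2, 2, 3, 4, 3, 3, 4, 3, 4, 5, 5, 5, 3, 6, 7], [2, 3, 3, 3, 2, 2, 2, 3, 2, 4, 4, 3, 3, 4, 5, 5, 5, 5, 5, 5, 5, 7, 3, 3, 3]), ([3, 2, 3, 2, 2, 2, 2, 2, 4, 3, 3, 3, 4, 3, 4, 5, 5, 5, 5, 5, 5, 5, 5, 3, 3], [2, 2, 3, 2, 4, 3, 3, 4, 3, 4, 5, 5, 5, 5, 5, 3, 6, 7, 3, 3, 3]), ([2, 2, 3, 3, 2, 2, 2, 3, 3, 4, 3, 4, 4, 5, 5, 5, 5, 5, 5, 5, 5, 6, 6, 3], [3, 2, 3, 3, 3, 2, 2, 4, 4, 5, 5, 5, 5, 5, 5, 5, 5, 5]), ([2, 3, 2, 2, 2, 2, 2, 3, 4, 4, 3, 3, 4, 5, 5, 5, 3, 6, 7, 3], [2, 2, 2, 2, 2, 3, 2, 3, 4, 4, 4, 5, 5, 6, 3]), ([3, 2, 3, 2, 3, 3, 2, 3, 3, 4, 4, 5, 5, 5, 5, 5, 3, 6],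 [2, 2, 2, 3, 2, 3, 2, 4, 3, 4, 4, 5, 5, 5, 5, 5, 3, 3]), ([2, 3, 3, 2, 4, 3, 3, 4, 5, 5, 5, 6, 7], [2, 3, 3, 3, 2, 3, 2, 3, 3, 4, 4, 4, 5, 6, 7, 3, 3, 3]), ([2, 3, 2, 2, 3, 2, 3, 4, 3, 4, 4, 5, 5, 5, 5, 5, 5, 3, 6, 7, 3, 3, 3], [2, 2, 3, 2, 3, 3, 3, 2, 4, 3, 3, 4, 4, 4, 5, 5, 5, 3, 3]), ([3, 2, 2, 2, 2, 2, 4, 3, 3, 4, 4, 3, 4, 5, 5, 5, 5, 3, 6, 3, 3], [2, 2, 2, 2, 3, 4, 3, 4, 4, 5, 5, 6, 6, 6, 3, 3, 3]), ([3, 3, 2, 2, 2, 3, 3, 2, 3, 4, 3, 3, 4, 3, 4, 5, 5, 5, 5, 5, 5, 5, 5, 5, 6, 7, 3, 3], [2, 2, 2, 2, 2, 3, 2, 3, 4, 4, 5, 5, 3, 6]), ([2, 2, 2, 2, 2, 2, 3, 3, 4, 5, 5, 5, 5, 3, 6, 7, 3], [3, 3, 2, 2, 2, 3, 4, 3, 4, 4,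 5, 5, 5, 5, 5, 5, 5, 5, 5, 3, 3]), ([2, 2, 2, 2, 3, 3, 2, 3, 3, 3, 4, 3, 4, 5, 5, 5, 5, 5, 3, 3], [2, 3, 2, 3, 3, 3, 2, 4, 3, 3, 4, 4, 4, 5, 5, 5, 5, 5, 7, 3, 3]), ([2, 3, 2, 2, 3, 3, 2, 4, 4, 3, 3, 4, 5, 5, 5, 7, 3, 3], [3, 3, 2, 2, 2, 2, 2, 3, 3, 4, 4, 3, 4, 5, 5, 5, 5, 5, 5, 5, 5, 5, 6, 3]), ([2, 2, 2, 3, 4, 4, 4, 5, 5, 5, 5, 5, 3], [3, 3, 3, 2, 3, 2, 2, 4, 4, 4, 5, 5, 5, 3, 6, 3, 3]), ([3, 3, 2, 3, 3, 2, 3, 3, 3, 4, 5, 5, 5, 6, 6, 6, 7, 3], [2, 2, 2, 3, 3, 2, 3, 3, 4, 3, 4, 5, 5, 5, 5, 5, 5, 5, 5, 5, 6, 6, 6, 7, 3, 3]), ([2, 2, 2, 2, 2, 2, 4, 3, 3, 4, 4, 4, 5, 5, 5, 5, 5, 7, 3, 3, 3], [2, 2, 3, 3, 3, 2, 3, 2, 2,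 4, 3, 4, 5, 5, 5, 5, 5, 6, 7, 3, 3]), ([3, 2, 2, 2, 2, 2, 4, 3, 3, 4, 4, 3, 4, 5, 5, 5, 5, 5, 5, 5, 5, 5, 6, 6, 3, 3], [3, 2, 3, 3, 4, 4, 3, 4, 5, 5, 6, 7, 3, 3, 3]), ([2, 3, 2, 3, 2, 2, 3, 3, 3, 4, 3, 4, 4, 5, 5, 5, 5, 5, 5, 5, 5, 5, 6, 6, 6, 7, 3, 3], [3, 2, 3, 3, 3, 2, 3, 3, 3, 4, 5, 5, 5, 5, 5, 5, 6, 7, 3]), ([2, 3, 2, 3, 2, 3, 3, 2, 3, 3, 4, 3, 4, 4, 5, 5, 5, 5, 5, 5, 5, 5, 3], [2, 2, 3, 3, 3, 2, 4, 3, 3, 4, 4, 4, 5, 5, 5, 5, 5, 7, 3, 3, 3]), ([3, 2, 2, 2, 2, 4, 3, 4, 4, 5, 5, 7, 3], [3, 3, 2, 2, 2, 2, 4, 3, 3, 4, 5, 5, 5, 6]), ([3, 2, 3, 3, 3, 2, 4, 3, 3, 4, 4, 4, 5, 6, 7, 3, 3], [2, 2, 3, 3, 3, 2, 2, 3, 3]),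 ([3, 3, 2, 2, 2, 3, 2, 4, 4, 5, 5, 5, 5, 5, 3, 3, 3], [3, 3, 2, 3, 2, 3, 4, 3, 4, 4, 5, 5, 5, 5, 5, 5, 6, 3]), ([2, 3, 3, 3, 2, 2, 2, 3, 2, 4, 3, 3, 4, 4, 3, 4, 5, 5, 5, 5, 5, 5, 7], [3, 3, 3, 2, 2, 2, 2, 3, 4, 3, 3, 4, 3, 4, 6, 6, 3, 3]), ([2, 3, 2, 2, 2, 2, 2, 4, 4, 4, 5, 5, 5, 5, 5, 5, 3, 6, 3], [3, 2, 2, 3, 3, 2, 2, 2, 3, 3, 3, 4, 3, 4, 4, 5, 5, 5, 6, 6, 3]), ([2, 2, 3, 2, 2, 2, 3, 3, 4, 4, 4, 3, 4, 5, 5, 5, 6, 6], [2, 3, 2, 2, 3, 2, 4, 6, 6, 7, 3, 3, 3]), ([3, 3, 2, 3, 2, 2, 2, 4, 3, 4, 4, 5, 5, 5, 5, 5, 5, 5, 3, 6], [3, 2, 3, 3, 3, 4, 3, 4, 4, 5, 5, 5, 5, 5, 5, 5, 5, 5, 6, 6, 6, 3, 3, 3]), ([2, 3, 2, 2, 3, 3,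 2, 2, 2, 4, 3, 4, 5, 5, 5, 5, 5, 5, 5, 5, 5, 6, 7], [2, 2, 3, 3, 3, 2, 3, 2, 3, 4, 4, 3, 4, 5, 5, 5, 5, 5, 5, 3, 3]), ([3, 3, 2, 3, 2, 2, 2, 3, 4, 4, 3, 3, 4, 5, 5, 5, 5, 3, 6, 7, 3, 3, 3], [3, 3, 2, 2, 2, 3, 3, 2, 3, 4, 4, 3, 3, 4, 5, 5, 5, 5, 5, 6, 6, 7, 3]), ([2, 2, 2, 5, 5, 6, 6, 6, 7, 3, 3], [3, 2, 3, 2, 3, 3, 2, 3, 3, 3, 4, 5, 5, 5, 5, 5, 5, 5, 5, 6, 3]), ([2, 2, 4, 3, 4, 4, 5, 5, 5, 6, 6, 7, 3, 3], [2, 3, 2, 3, 2, 2, 4, 3, 3, 4, 4, 3, 4, 5, 5, 3, 6]), ([2, 3, 3, 2, 3, 2, 2, 2, 3, 3, 3, 4, 3, 4, 5, 5, 5, 5, 5, 5, 5, 5, 5, 6, 6, 3, 3, 3], [3, 2, 3, 3, 2, 2, 3, 2, 4, 3, 4, 4, 4, 5, 6, 6, 7, 3, 3, 3]), ([3, 3, 2,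 2, 2, 2, 2, 4, 3, 4, 4, 4, 5, 5, 5, 5, 5, 6], [2, 2, 3, 3, 4, 3, 4, 4, 5, 5, 5, 5, 5, 5, 5, 5, 5, 6, 6, 7, 3, 3, 3]), ([2, 3, 3, 3, 2, 3, 3, 2, 3, 4, 6, 6, 7, 3, 3, 3], [2, 3, 3, 2, 3, 3, 4, 3, 4, 4, 5, 5, 5, 5, 3, 3, 3]), ([2, 3, 3, 3, 2, 5, 5, 5, 5, 5, 5, 5, 6, 6, 6], [2, 3, 2, 3, 2, 2, 3, 4, 3, 4, 4, 5, 5, 5, 5, 6, 6, 6, 3]), ([3, 2, 2, 2, 2, 2, 2, 4, 4, 4, 5, 5, 5, 5, 5, 5, 5, 5, 7, 3, 3], [2, 2, 3, 2, 2, 2, 2, 4, 3, 3, 4, 4, 4, 5, 5, 6, 7, 3]), ([3, 3, 2, 3, 2, 3, 2, 3, 4, 3, 3, 4, 3, 4, 5, 5, 5, 6, 6, 6, 7], [3, 2, 2, 2, 3, 3, 3, 2, 4, 4, 5, 7, 3, 3]), ([2, 2, 2, 3, 3, 4, 4, 4, 5, 5, 5, 5, 5, 5, 5, 5, 6, 6, 6,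 7], [3, 2, 2, 2, 3, 3, 4, 3, 4, 4, 5, 5, 5, 5, 5, 5, 5, 5, 5, 6, 6, 7, 3]), ([3, 2, 2, 2, 3, 2, 2, 4, 3, 3, 4, 3, 6], [3, 2, 2, 2, 3, 3, 4, 3, 4, 4, 5, 5, 5, 5, 5, 5, 5, 5, 5, 6, 6, 7, 3, 3]), ([3, 3, 3, 2, 2, 3, 4, 4, 4, 5, 5, 5, 5, 6, 7, 3, 3], [2, 2, 3, 2, 3, 2, 3, 2, 3, 3, 3]), ([3, 2, 3, 2, 2, 3, 3, 2, 3, 4, 4, 3, 6, 7], [2, 3, 2, 2, 3, 3, 2, 3, 3, 3, 4, 5, 5, 5, 5, 5, 5, 5, 5, 5, 6, 6, 3]), ([2, 3, 2, 2, 2, 4, 3, 4, 4, 5, 5, 5, 5, 5, 5, 5, 3, 6, 3, 3], [2, 2, 3, 2, 3, 2, 4, 3, 4, 3, 4, 5, 5, 3]), ([3, 2, 3, 3, 3, 2, 2, 3, 4, 4, 3, 3, 4, 5, 6, 6, 6], [2, 3, 3, 2, 2, 2, 4, 3, 3, 3, 4, 3, 4, 5, 5, 5, 5, 5, 5, 5,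 5]), ([2, 3, 2, 2, 2, 2, 4, 3, 4, 5, 5, 5, 5, 5, 5, 5, 5, 6, 3], [3, 3, 2, 3, 3, 2, 4, 3, 4, 4, 4, 3, 4, 5, 5, 6, 6, 6, 3, 3]), ([3, 2, 2, 3, 2, 2, 2, 2, 3, 3, 3, 4, 3, 4, 6, 6, 6, 3], [3, 2, 2, 3, 3, 2, 2, 2, 4, 3, 3, 4, 5, 5, 5, 5, 5, 6, 6, 6, 7, 3, 3]), ([3, 2, 3, 2, 3, 3, 2, 4, 3, 4, 3, 4, 5, 5, 5, 5, 5, 5, 5, 6, 3, 3, 3], [2, 2, 3, 2, 2, 2, 2, 4, 3, 3, 4, 4, 3, 4, 3, 6])],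
    [([2, 3, 3, 2, 2, 2, 2, 2, 4, 3, 4, 4, 5, 5, 5, 5, 6, 6, 7, 3, 3], [3, 2, 2, 2, 2, 2, 2, 3, 3, 4, 4, 4, 5, 5, 5, 6, 6, 6, 7, 3]), ([3, 3, 3, 2, 3, 2, 3, 2, 5, 5, 5, 5, 5, 5, 5, 3], [3, 3, 3, 2, 2, 2, 2, 3, 2, 3, 4, 3, 4, 4, 5, 5, 5, 7]), ([2, 2, 3, 2, 2, 3, 4, 5, 5, 5, 5, 5, 5, 5, 3, 6, 7, 3, 3, 3], [3, 3, 2, 3, 2, 3, 2, 3, 3, 4, 4, 4, 5, 5, 5, 5, 5, 3, 6, 3]), ([3, 3, 2, 2, 2, 2, 2, 4, 3, 3, 4, 4, 3, 4, 5, 5, 5, 5, 3, 6, 3], [3, 2, 2, 2, 2, 3, 4, 3, 4, 4, 5, 5, 6, 6, 6, 3, 3, 3]), ([3, 2, 2, 2, 3, 2, 2, 4, 3, 3, 4, 5, 5, 5, 3, 6, 3, 3], [2, 2, 3, 2, 4, 3, 3, 4, 4, 4, 5, 5, 6, 7]), ([2, 2, 3, 3, 3, 2, 3, 2, 2, 3,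 3, 3, 4, 5, 5, 5, 5, 5, 5, 6], [3, 2, 3, 2, 2, 2, 2, 2, 4, 3, 3, 3, 4, 3, 4, 5, 5, 5, 5, 5, 5, 6, 6, 6, 7, 3, 3, 3]), ([3, 3, 3, 4, 5, 5, 5, 6], [3, 3, 3, 2, 2, 2, 3, 2]), ([2, 2, 2, 3, 3, 2, 3, 3, 3, 4, 3, 4, 5, 5, 6, 6, 7, 3], [2, 2, 3, 2, 2, 3, 2, 3, 4, 4, 3, 3, 4, 5, 5, 5, 5, 6, 6, 6, 7, 3, 3]), ([3, 2, 3, 2, 2, 2, 2, 2, 2, 4, 4, 4, 3, 4, 6, 6, 6], [2, 3, 2, 2, 3, 2, 3, 4, 3, 4, 6, 6, 6, 7, 3, 3, 3]), ([3, 2, 2, 2, 2, 3, 3, 3, 4, 3, 4, 4, 5, 6, 6, 3], [3, 2, 3, 3, 2, 2, 3, 2, 3, 4, 4, 3, 3, 4, 5, 5, 5, 5, 6, 6, 6, 7, 3, 3]), ([3, 2, 3, 3, 3, 2, 2, 3, 4, 3, 4, 5, 5, 5, 6, 6, 3, 3], [2, 3, 2, 4, 4, 5, 5, 5, 5, 5,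 5, 3, 6, 7, 3, 3, 3]), ([3, 3, 2, 3, 2, 2, 2, 4, 3, 3, 4, 4, 3, 4, 6, 6, 6, 7, 3, 3], [2, 2, 2, 2, 2, 2, 3, 4, 4, 4, 3, 4, 5, 5, 5, 5, 5, 5, 6, 6, 3, 3, 3]), ([3, 3, 2, 2, 2, 3, 3, 4, 4, 4, 5, 5, 5, 5, 5, 5, 5, 5, 5, 3, 3], [2, 2, 3, 2, 4, 4, 5, 5, 5, 5, 5, 5, 3, 6, 7, 3, 3, 3]), ([2, 4, 3, 4, 4, 5, 5, 7, 3, 3], [3, 2, 3, 3, 2, 2, 2, 5, 5, 5, 5, 5, 5, 7, 3, 3, 3]), ([3, 3, 4, 4, 3, 4, 3, 6, 3, 3, 3], [3, 2, 2, 2, 2, 2, 3, 3, 3]), ([3, 2, 2, 3, 2, 4, 3, 4, 4, 5, 5, 5, 5, 6], [2, 2, 3, 2, 2, 2, 2, 2, 2, 4, 3, 3, 4, 3, 4, 5, 5, 5, 3, 6, 7]), ([2, 2, 2, 3, 2, 2, 2, 4, 4, 3, 4, 5, 5, 5, 5, 6, 6], [2, 2, 3, 2, 2, 2, 2, 2,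 3, 3, 3, 4, 3, 4, 4, 5, 5, 7, 3, 3, 3]), ([2, 2, 3, 3, 2, 4, 3, 3, 4, 5, 5, 5, 5, 3, 6, 7, 3, 3, 3], [2, 3, 2, 3, 3, 2, 4, 4, 3, 3, 4, 5, 5, 5, 3, 6, 3]), ([3, 3, 3, 4, 5, 5, 5, 5, 5, 5, 6, 6, 6], [3, 3, 3, 2, 2, 2, 3, 2, 3, 3, 3, 4, 5, 5, 5, 3, 6, 3]), ([3, 2, 2, 2, 3, 2, 2, 2, 4, 5, 5, 5, 5, 6, 6, 6, 7, 3, 3], [2, 2, 3, 2, 2, 3, 3, 3]), ([3, 2, 2, 3, 3, 2, 2, 2, 3, 4, 3, 3, 4, 3, 4, 5, 5, 5, 5, 6, 6, 7], [2, 3, 2, 3, 3, 2, 2, 2, 3, 3, 3, 4, 3, 4, 4, 5, 5, 5, 5, 5, 5, 5, 7]), ([4, 4, 5, 5, 5, 3, 3], [3, 2, 2, 3, 3, 2, 2, 2, 3, 3, 3, 4, 5, 5, 5, 5, 5, 5, 5, 5, 5, 6, 3, 3, 3]), ([2, 3, 3, 2, 3, 2, 3, 3, 4, 4, 3, 4, 5,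 5, 5, 5, 5, 5, 5, 5, 7, 3, 3, 3], [2, 2, 3, 2, 3, 2, 3, 4, 3, 3, 4, 3, 4, 5, 5, 5, 7, 3, 3, 3]), ([3, 6, 7, 3, 3, 3], [2, 2, 3, 3, 3, 2, 4, 3, 3, 4, 5, 5, 5, 5, 5, 5, 5, 6, 6, 6, 7]), ([2, 2, 2, 2, 2, 4, 3, 4, 4, 4, 5, 5, 5, 5, 5, 5, 5, 6], [3, 3, 2, 2, 2, 2, 2, 3]), ([2, 2, 2, 2, 2, 3, 3, 4, 4, 5, 5, 5, 5, 5, 5, 5, 6, 6, 6, 7], [2, 2, 3, 2, 3, 3, 2, 2, 2, 4, 4, 4, 5, 5, 6, 7]), ([3, 3, 2, 3, 2, 2, 2, 4, 3, 3, 4, 4, 3, 4, 5, 5, 5, 5, 3, 6, 3, 3], [3, 3, 3, 2, 2, 2, 2, 4, 4, 3, 4, 5, 5, 5, 5, 5, 5, 7]), ([3, 3, 2, 2, 2, 3, 3, 4, 4, 4, 5, 5, 5, 6, 6, 7, 3], [2, 2, 2, 2, 2, 3, 2]), ([2, 3, 3, 3, 2, 2, 2, 3, 2, 4, 3, 3,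 3, 4, 3, 4, 5, 3, 3], [3, 3, 2, 3, 2, 2, 2]), ([2, 3, 3, 3, 2, 2, 2, 3, 2, 3, 4, 3, 4, 4, 6, 6, 6, 3, 3, 3], [3, 3, 3, 2, 2, 2, 2, 3, 2, 3, 3, 3, 4, 5, 5, 5, 5, 3, 6, 7]), ([3, 2, 2, 2, 2, 4, 3, 3, 4, 5, 5, 3, 6, 3], [3, 2, 3, 3, 3, 2, 3, 2, 3, 4, 4, 5, 5, 5, 5, 5, 5, 5, 5, 5, 6, 6, 7]), ([2, 2, 2, 3, 2, 3, 2, 4, 3, 4, 4, 5, 6, 7, 3], [3, 2, 3, 3, 3, 2, 3, 2, 4, 3, 4, 3, 4, 5, 5, 5, 5, 5, 5, 5, 5, 5, 6, 6, 7, 3]), ([2, 3, 2, 3, 2, 2, 4, 4, 4, 3, 4, 5, 5, 5, 5, 5, 5, 5, 3], [3, 2, 3, 3, 3, 2, 2, 4, 3, 3, 4, 4, 4, 5, 5, 5, 6, 6, 7, 3, 3, 3]), ([3, 2, 2, 2, 2, 2, 2, 4, 4, 5, 5, 5, 6, 6, 6, 3, 3], [3, 2, 3, 3, 3, 2, 3,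 2, 4, 4, 5, 5, 5, 5, 5, 5, 3, 6, 7, 3]), ([3, 3, 2, 3, 2, 2, 4, 4, 4, 3, 4, 5, 5, 5, 5, 5, 5, 5, 6, 6, 7, 3], [3, 3, 2, 3, 2, 2, 2, 4, 4, 4, 6, 6, 7, 3, 3, 3]), ([3, 2, 3, 3, 2, 2, 2, 3, 4, 5, 5, 5, 5, 5, 3, 6, 7, 3], [3, 3, 2, 2, 2, 2, 3, 2, 4, 5, 5, 6, 6, 7, 3]), ([2, 3, 2, 3, 3, 2, 5, 5, 5, 5, 5, 6, 3, 3], [3, 2, 2, 3, 3, 3, 2, 2, 4, 3, 4, 5, 5, 5, 5, 5, 5, 5, 5, 5, 6, 6, 6, 3, 3, 3]), ([2, 3, 2, 2, 2, 2, 4, 3, 4, 4, 4, 5, 5, 5, 5, 5, 6, 6, 7, 3], [3, 2, 2, 2, 3]), ([3, 3, 2, 2, 3, 3, 2, 3, 4, 3, 3, 4, 3, 4, 5, 5, 5, 5, 5, 5, 5, 5, 5, 6, 3, 3, 3], [3, 2, 2, 2, 3, 2, 3, 2, 5, 5, 5, 5, 5, 6, 3]), ([3, 3, 3, 2, 3, 2,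 3, 2, 4, 4, 5, 5, 3, 6, 7], [3, 2, 2, 2, 2, 4, 3, 4, 5, 6, 6, 3]), ([3, 3, 3, 2, 3, 3, 2, 4, 4, 4, 3, 4, 5, 5, 5, 7, 3, 3, 3], [2, 2, 3, 4, 3, 3, 4, 3, 4, 5, 5, 5, 5, 5, 5, 6, 6, 6, 3]), ([2, 3, 2, 3, 2, 2, 4, 3, 3, 4, 4, 3, 4, 5, 5, 5, 5, 5, 5, 5, 3, 6, 7], [2, 2, 3, 3, 3, 2, 3, 2]), ([2, 3, 2, 3, 2, 5, 5, 5, 5, 5, 6, 6, 6, 7, 3, 3], [3, 3, 2, 3, 3, 2, 3]), ([2, 3, 2, 2, 2, 3, 2, 2, 4, 5, 5, 5, 5, 5, 5, 5, 5, 5, 6, 3, 3, 3], [2, 3, 3, 2, 3, 3, 2, 2, 2, 3, 4, 3, 4, 5, 5, 5]), ([3, 2, 2, 2, 3, 2, 3, 2, 4, 3, 4, 5, 5, 5, 5, 5, 5, 3, 3], [2, 2, 3, 2, 3, 3, 2, 2, 2, 4, 4, 5, 5, 5, 5, 5, 5, 5, 5, 6, 6, 6, 7, 3, 3, 3]), ([3,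 2, 3, 3, 3, 2, 2, 3, 4, 3, 4, 5, 5, 5, 5, 3, 3], [2, 3, 3, 2, 3, 3, 2, 2, 2, 3, 4, 5, 5, 3, 6, 7, 3, 3]), ([3, 3, 2, 2, 3, 2, 5, 5, 5, 5, 3, 6, 3, 3, 3], [2, 2, 3, 2, 3, 2, 3, 3, 4, 4, 4, 5, 6, 7, 3, 3, 3]), ([2, 2, 3, 3, 3, 2, 4, 3, 4, 3, 4, 5, 5, 5, 3, 6, 7], [2, 2, 2, 2, 2, 2, 3, 3, 4, 4, 3, 4, 5, 5, 5, 5, 6, 6, 6, 3]), ([3, 3, 2, 2, 2, 3, 3, 4, 4, 4, 5, 5, 5, 5, 5, 5, 5, 5, 6, 6, 6, 7, 3, 3], [2, 2, 3, 2, 4, 4, 3, 4, 5, 5, 5, 5, 5, 5, 5, 5, 6, 6, 7, 3, 3, 3]), ([3, 2, 3, 2, 3, 3, 2, 3, 3, 3, 4, 3, 4, 5, 5, 5, 5, 5, 7, 3, 3, 3], [3, 2, 3, 2, 2, 2, 3, 2, 2, 3, 3, 3, 4, 5, 5, 3, 6, 3, 3]), ([2, 2, 3, 2, 3, 3, 2, 2,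 2, 4, 3, 4, 3, 4, 3], [3, 3, 2, 3, 3, 2, 4, 4, 4, 5, 5, 5, 3, 6, 7, 3, 3]), ([2, 3, 3, 2, 3, 3, 3, 4, 5, 5, 5, 6, 6, 6, 7, 3, 3, 3], [3, 3, 2, 2, 2, 3, 2, 2, 2, 3, 4, 4, 3, 4, 5, 5, 5, 3, 6, 3, 3, 3]), ([3, 2, 3, 3, 2, 2, 2, 4, 3, 3, 4, 3, 4, 5, 5, 6, 3], [2, 2, 3, 3, 3, 2, 3, 3, 3]), ([3, 2, 3, 2, 3, 3, 2, 4, 3, 4, 4, 5, 3, 6, 7, 3, 3], [2, 3, 2, 2, 2, 3, 2, 2, 3, 3, 3, 4, 3, 4, 5, 5, 5, 3, 6, 3]), ([3, 3, 2, 2, 2, 3, 2, 4, 3, 3, 3, 4, 3, 4, 5, 5, 5, 6, 6, 6], [2, 2, 3, 4, 4, 3, 4, 5, 5, 5, 5, 5, 6, 3, 3]), ([3, 3, 2, 3, 2, 3, 4, 3, 3, 4, 3, 4, 5, 5, 5, 5, 7, 3, 3], [2, 3, 2, 3, 3, 2, 2, 2, 3, 3, 4, 4, 3, 4, 5, 5,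 6, 6, 6, 7, 3]), ([2, 2, 3, 2, 2, 2, 2, 2, 4, 3, 4, 5, 5, 5, 5, 5, 5, 5, 5, 3, 6, 7, 3, 3, 3], [2, 2, 3, 2, 2, 2, 2, 2, 2, 3, 3, 4, 4, 5, 5, 5, 5, 5, 6, 6]), ([2, 3, 2, 2, 2, 2, 3, 3, 4, 4, 4, 3, 4, 5, 5, 5, 5, 5, 5, 5, 5, 5], [2, 2, 3, 2, 2, 2, 2, 2, 2, 4, 3, 3, 4, 3, 4, 5, 5, 5, 3, 6, 7, 3, 3, 3]), ([3, 3, 2, 3, 2, 2, 4, 4, 3, 4, 5, 5, 5, 5, 5, 5, 5, 3, 6, 3, 3], [3, 3, 2, 2, 2, 3, 4, 4, 3, 4, 5, 6, 6, 6, 7, 3]), ([3, 2, 2, 4, 5, 3, 3, 3], [2, 2, 3, 2, 3, 3, 2, 2, 2, 4, 3, 3, 4, 4, 3, 4, 5, 5, 5, 5, 5, 5, 5, 5, 5, 7, 3, 3, 3]), ([2, 3, 2, 2, 3, 3, 2, 3, 3, 4, 4, 4, 5, 5, 5, 5, 3], [3, 2, 2, 2, 3, 3, 2, 3, 3, 3, 4,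 3, 4, 4, 5, 5, 5, 5, 5, 5, 5, 5, 5, 6, 6, 3]), ([3, 3, 2, 2, 2, 2, 3, 4, 4, 4, 6, 6, 6, 7, 3, 3, 3], [3, 2, 2, 2, 3, 2, 2, 3, 4, 4, 4, 5, 5, 5, 5, 5, 5, 6, 6, 7, 3, 3]), ([3, 3, 2, 2, 3, 3, 2, 4, 3, 4, 5, 5, 3, 6, 7], [3, 2, 2, 2, 3, 2, 2, 4, 5, 6]), ([3, 3, 2, 3, 3, 4, 5, 5, 3, 3], [2, 3, 2, 3, 2, 2, 3, 4, 3, 4, 4, 5, 5, 5, 5, 6, 6, 6])],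
    [([2, 2, 3, 3, 3, 2, 3, 3, 4, 4, 5, 7, 3, 3], [2, 3, 2, 3, 2, 3, 3, 4, 4, 3, 4, 5, 5, 5, 5, 5, 6, 6, 6, 7]), ([6, 7], [3, 3, 2, 2, 3, 2, 3, 3, 4, 5, 5, 6, 6, 7]), ([2, 3, 3, 2, 3, 2, 3, 3, 4, 4, 3, 4, 5, 5, 5, 5, 5, 5, 5, 5, 6, 6, 7, 3], [3, 2, 3, 3, 2, 2, 2, 3, 3, 3, 4, 3, 4, 4, 5, 5, 5, 5, 5, 5, 5, 6, 3, 3, 3]), ([2, 2, 3, 2, 2, 2, 2, 4, 5, 5, 5, 5, 5, 5, 5, 5, 6, 6, 6, 7, 3], [2, 2, 3, 2, 3, 2, 2, 4, 4, 5, 5, 5, 5, 6, 6, 3]), ([2, 2, 3, 2, 2, 2, 2, 4, 5, 5, 5, 5, 6, 6, 7], [3, 3, 2, 2, 3, 3, 2, 3, 3, 3, 4, 5, 5, 5, 5, 5, 5, 5, 5, 6, 6]), ([3, 3, 2, 2, 2, 2, 3, 2, 4, 3, 3, 4, 3, 4, 6, 6, 7, 3, 3, 3], [2, 2, 4,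 4, 5, 5, 5, 5, 6, 3]), ([2, 3, 2, 2, 3, 2, 3, 2, 3, 4, 3, 3, 4, 3, 4, 5, 5, 5, 5, 5, 5, 6, 6, 3], [3, 2, 3, 3, 3, 2, 3, 2, 4, 3, 4, 3, 4, 5, 5, 5, 5, 5, 5, 5, 5, 5, 6, 6, 7, 3, 3]), ([4, 3, 4, 4, 4, 6, 6, 3, 3, 3], [3, 3, 2, 3, 3, 2, 4, 3, 3, 3, 4, 3, 4, 5, 5, 5, 5, 5, 5, 3, 3, 3]), ([2, 3, 2, 2, 2, 3, 2, 3, 4, 3, 4, 5, 5, 6, 3], [2, 3, 2, 2, 3, 2, 3, 2, 3, 3, 4, 4, 5, 5, 5, 5, 5, 5, 5, 5, 5]), ([2, 2, 2, 3, 2, 2, 2, 3, 4, 4, 4, 3, 4, 5, 5, 5, 5, 5, 5, 6], [2, 3, 3, 2, 2, 2, 2, 2, 3, 3, 4, 3, 4, 5, 5, 5, 5, 5]), ([3, 3, 2, 2, 2, 3, 2, 2, 2, 3, 3, 3, 4, 3, 4, 4, 5, 5, 5, 5, 5, 5, 5, 5, 6, 6, 7], [2, 2, 3, 2, 2, 2, 3,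 3, 4, 4, 5, 5, 5, 5, 5, 5, 5, 6, 6, 6, 7, 3]), ([2, 2, 3, 2, 3, 3, 4, 5, 5, 5, 5, 5, 5, 5, 5, 5, 6, 3, 3], [3, 3, 2, 3, 2, 2, 3, 3, 4, 4, 3, 4, 5, 5, 5, 5, 5, 5, 5, 6, 6, 6, 7]), ([2, 3, 3, 3, 2, 3, 3, 2, 3, 3, 3, 4, 3, 4, 5, 5, 6, 6, 6, 7, 3], [3, 2, 3, 3, 2, 2, 2, 4, 4, 3, 4, 5, 5, 5, 5, 5, 6, 6, 6, 3, 3, 3]), ([2, 2, 3, 2, 3, 3, 2, 2, 2, 5, 5, 5, 5, 5, 5, 5, 5, 3, 6, 3], [3, 2, 3, 3, 2, 2, 3, 2, 3, 4, 4, 3, 3, 4, 5, 5, 5, 5, 6, 6, 6, 7, 3, 3, 3]), ([3, 2, 3, 2, 2, 2, 2, 4, 4, 3, 4, 5, 5, 5, 5, 5, 5, 5, 6, 6, 7], [3, 2, 3, 3, 3, 2, 3, 2]), ([2, 2, 2, 2, 2, 4, 3, 4, 4, 4, 5, 5, 5, 5, 5, 6, 3, 3], [3, 3, 2, 3, 2, 3,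 2, 3, 3, 4, 4, 5, 5, 5, 6, 3]), ([2, 2, 2, 2, 2, 3, 3, 3, 4, 5, 6, 6, 7, 3, 3], [2, 2, 3, 3, 3, 2, 3, 2, 3, 3, 4, 3, 4, 5, 5, 5, 5, 6, 6, 6, 7, 3, 3, 3]), ([3, 3, 3, 2, 3, 2, 2, 2, 4, 4, 4, 3, 4, 5, 5, 5, 5, 7], [3, 2, 3, 3, 3, 2, 5, 5, 3, 6, 7, 3, 3, 3]), ([2, 2, 3, 2, 2, 3, 2, 3, 3, 3, 4, 5, 5, 5, 5, 5, 5, 6, 6, 7], [3, 3, 2, 4, 3, 4, 5, 5, 5, 5, 5, 5, 5, 6, 7, 3, 3]), ([2, 2, 2, 3, 3, 2, 3, 4, 4, 4, 3, 4, 5, 5, 5, 5, 5, 5, 3, 6], [3, 2, 2, 3, 4, 3, 4, 4, 5, 5, 5, 6, 3]), ([3, 3, 2, 3, 3, 2, 2, 2, 3, 3, 4, 4, 3, 4, 5, 5, 5, 5, 5, 5, 6, 6, 6, 3, 3], [2, 2, 3, 2, 2, 4, 4, 4, 3, 4, 5, 5, 5, 5, 3, 6, 3, 3, 3]), ([3, 2,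 3, 2, 2, 2, 3, 4, 3, 4, 5, 7, 3], [2, 2, 3, 2, 2, 2, 2, 2, 3, 4, 3, 4, 4, 3, 6, 7, 3, 3]), ([2, 2, 3, 2, 2, 3, 2, 3, 2, 4, 3, 3, 3, 4, 3, 4, 3, 6, 7, 3, 3], [2, 2, 3, 3, 3, 2, 2, 3, 3, 4, 4, 4, 3, 4, 5, 5, 5, 5, 5, 5, 6, 6, 6, 3, 3, 3]), ([3, 2, 3, 3, 2, 2, 2, 5, 5, 5, 5, 5, 5, 6, 6, 6, 7, 3, 3, 3], [2, 3, 2, 2, 3, 2, 3, 2, 3, 3, 3, 4, 5, 5, 5, 5, 5, 5, 5, 5, 5, 6, 3, 3]), ([3, 3, 2, 3, 2, 2, 4, 3, 4, 4, 4, 5, 5, 6, 6], [2, 2, 2, 4, 4, 5, 5, 5, 5, 5, 5, 5, 6, 7, 3, 3, 3]), ([3, 3, 2, 2, 2, 3, 3, 2, 3, 4, 4, 3, 4, 5, 5, 5, 5, 6, 6, 6, 7], [2, 3, 3, 2, 2, 3, 2, 4, 3, 3, 3, 4, 3, 4, 5, 5, 5, 5, 5, 5, 5, 5, 6, 6, 6, 3,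 3, 3]), ([3, 2, 2, 2, 3, 3, 2, 5, 5, 5, 6, 6, 6, 7, 3, 3, 3], [3, 3, 2, 2, 2, 2, 4, 3, 3, 4, 4, 3, 4, 5, 5, 5, 5, 5, 5, 6, 6, 6, 7, 3, 3, 3]), ([3, 3, 2, 2, 3, 2, 3, 3, 4, 3, 4, 4, 5, 5, 5, 5, 5, 6, 6, 7, 3, 3, 3], [2, 2, 2, 2, 4, 4, 3, 4, 5, 5, 5, 5, 5, 5, 7, 3, 3, 3]), ([2, 2, 3, 2, 3, 3, 3, 2, 4, 5, 5, 5, 5, 5, 5, 5, 5, 5, 3, 6], [2, 3, 2, 3, 3, 2, 2, 2, 3, 3, 3, 4, 3, 4, 4, 5, 5, 5, 6, 6, 3]), ([2, 2, 3, 3, 3, 2, 3, 2, 4, 3, 4, 5, 5, 5, 5, 5, 5, 5, 6, 6, 6, 7, 3, 3, 3], [2, 3, 3, 2, 4, 4, 3, 3, 4, 5, 5, 5, 3, 6, 3, 3, 3]), ([4, 4, 3, 4, 3, 6, 3], [2, 2, 3, 2, 2, 3, 2, 3, 3, 3, 4, 3, 4, 4, 3, 6, 7, 3, 3, 3]), ([3,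 3, 2, 2, 2, 3, 2, 4, 4, 4, 3, 4, 5, 5, 5, 5, 5, 5, 5, 6, 6, 6, 3], [3, 3, 3, 2, 3, 3, 2, 3, 3, 4, 3, 4, 5, 5, 5, 5, 5, 5, 5, 5, 5, 6, 6, 6, 7, 3]), ([2, 3, 3, 3, 2, 3, 4, 4, 3, 4, 6, 7, 3, 3, 3], [3, 2, 2, 3, 3, 3]), ([2, 2, 2, 2, 2, 3, 2, 4, 3, 3, 3, 4, 3, 4, 6, 6, 6, 7, 3], [2, 2, 2, 2, 3, 3, 2, 3]), ([2, 2, 2, 2, 2, 3, 2, 4, 3, 4, 4, 5, 5, 7, 3, 3, 3], [2, 3, 3, 2, 2, 3, 3, 2, 4, 4, 3, 4, 5, 5, 5, 5, 5, 5, 5, 5, 5, 6, 7, 3]), ([3, 2, 2, 2, 3, 3, 2, 3, 4, 4, 5, 5, 5, 5, 5, 5, 5, 5], [3, 2, 2, 2, 2, 2, 2, 3, 3, 4, 3, 4, 4, 5, 5, 5, 5, 5, 5, 5, 5, 6, 6, 7]), ([3, 2, 2, 2, 3, 3, 2, 4, 4, 5, 5, 5, 5, 5, 6, 3, 3], [2,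 3, 2, 2, 2, 3, 2, 2, 4, 3, 4, 4, 5, 5, 5, 5, 5, 5, 5, 5, 5, 6, 6, 7, 3, 3]), ([3, 3, 2, 2, 2, 3, 2, 2, 2, 4, 4, 3, 4, 5, 5, 5, 5, 5, 5, 5, 5, 5, 3, 6, 3, 3], [2, 2, 2, 2, 2, 3, 2, 4, 3, 4, 4, 4, 3, 4, 5, 7, 3, 3]), ([2, 2, 3, 2, 3, 2, 3, 2, 4, 4, 3, 3, 4, 5, 5, 5, 5, 6, 6, 7, 3, 3], [3, 2, 2, 2, 3, 2, 2, 2, 3, 4, 3, 4, 4, 5, 5, 5, 5, 7, 3, 3]), ([2, 3, 2, 3, 2, 4, 4, 5, 5, 5, 5, 6, 6, 3, 3], [3, 3, 3, 2, 2, 3, 4, 3, 4, 4, 5, 5, 5, 6, 3, 3]), ([2, 2, 3, 3, 2, 2, 2, 3, 4, 3, 3, 4, 3, 4, 5, 5, 5, 3, 6, 3, 3], [2, 2, 2, 2, 3, 3, 2, 4, 4, 5, 5, 5, 5, 5, 5, 5, 6, 7, 3, 3, 3]), ([3, 3, 2, 2, 2, 3, 2, 2, 2, 4, 4, 3, 4, 5, 5,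 5, 5, 6, 6, 3, 3], [2, 2, 3, 2, 2, 2, 2, 2]), ([3, 2, 3, 3, 2, 4, 3, 3, 4, 5, 5, 5, 5, 5, 5, 5, 5, 6, 6, 6, 7, 3, 3, 3], [3, 3, 2, 3, 2, 4, 3, 4, 4, 4, 5, 5, 5, 5, 5, 5, 5, 5, 5, 3, 6]), ([3, 2, 2, 2, 2, 2, 3, 3, 3, 4, 5, 6, 6, 7, 3], [3, 2, 2, 3, 2, 3, 3, 3, 4, 3, 4, 4, 5, 5, 5, 5, 5, 5, 5, 5, 7, 3]), ([3, 2, 2, 2, 3, 3, 2, 3, 4, 4, 4, 3, 4, 5, 5, 5, 5, 5, 5, 3, 6, 3, 3, 3], [3, 3, 2, 2, 4, 3, 3, 4, 4, 4, 5, 5, 5, 5, 5, 5, 6]), ([3, 3, 3, 2, 2, 2, 2, 3, 2, 4, 3, 3, 4, 4, 3, 4, 5, 3, 6, 3], [2, 3, 3, 2, 3, 3, 3, 4, 3, 4, 4, 5, 5, 5, 5, 5, 5, 5, 6, 3]), ([2, 2, 2, 3, 2, 3, 2, 2, 3, 4, 3, 4, 5, 5, 5, 6, 6, 6, 3, 3, 3],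 [2, 3, 2, 2, 3, 2, 3, 3, 3, 4, 3, 4, 4, 5, 5, 5, 6, 7, 3, 3]), ([3, 2, 2, 2, 3, 2, 2, 2, 3, 4, 4, 4, 3, 4, 5, 6, 3, 3, 3], [3, 3, 2, 2, 2, 2, 2, 3, 3, 3, 4, 3, 4, 4, 5, 5, 6, 7]), ([2, 2, 3, 3, 2, 4, 5, 5, 5, 5, 5, 5, 5, 6, 6, 7, 3], [3, 2, 3, 3, 2, 2, 3, 2, 4, 5, 5, 3, 3, 3]), ([3, 3, 4, 4, 3, 4, 5, 6, 6, 7, 3, 3], [2, 3, 3, 3, 2, 3, 3]), ([3, 2, 2, 3, 3, 3, 2, 2, 3, 4, 4, 4, 5, 5, 5, 5, 5, 5, 5, 3], [3, 2, 2, 3, 3, 2, 3, 3, 4, 3, 4, 5, 5, 5, 5, 5, 5, 5, 5, 5, 6, 6, 6, 7, 3, 3]), ([2, 2, 3, 2, 3, 2, 3, 4, 3, 4, 4, 6, 6, 7, 3, 3, 3], [3, 2, 2, 2, 3, 2, 2, 2, 3, 4, 4, 3, 4, 5, 5, 5, 5, 5, 5, 5, 3, 6, 7, 3]), ([2, 2,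 2, 3, 2, 2, 2, 4, 3, 4, 3, 4, 5, 5, 5, 5, 6, 6, 6, 7, 3, 3, 3], [3, 3, 2, 2, 3, 3, 2, 4, 3, 4, 4, 3, 3]), ([2, 2, 2, 3, 2, 2, 2, 4, 3, 4, 3, 4, 5, 5, 5, 5, 5, 5, 5, 5, 3, 6, 3, 3, 3], [3, 2, 3, 2, 3, 3, 2, 3, 4, 4, 3, 4, 5, 6, 6, 6, 3, 3]), ([2, 3, 2, 3, 2, 3, 3, 3, 4, 3, 4, 4, 5, 5, 5, 5, 5, 5, 5, 5, 6, 7], [2, 2, 3, 2, 2, 2, 2, 2, 3, 3, 3, 4, 3, 4, 4, 5, 5, 5, 5, 5, 5, 5, 5, 5, 6, 6, 7, 3]), ([2, 2, 3, 2, 4, 4, 3, 4, 5, 5, 5, 5, 5, 3, 6], [2, 3, 3, 2, 2, 2, 4, 4, 4, 3, 4, 5, 5, 5, 5, 7, 3, 3, 3]), ([2, 2, 2, 3, 2, 3, 2, 3, 3, 3, 4, 5, 5, 5, 5, 5, 5, 5, 5, 5, 6, 6, 6, 7, 3, 3, 3], [2, 3, 2, 3, 2, 2, 2, 2, 2, 3, 4,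 6, 6, 7, 3, 3]), ([2, 3, 3, 3, 2, 3, 3, 2, 3, 3, 3, 4, 5, 5, 5, 7, 3, 3, 3], [2, 3, 2, 4, 3, 4, 3, 4, 3, 6]), ([3, 3, 2, 2, 3, 3, 4, 4, 3, 4, 5, 5, 5, 5, 5, 5, 5, 5, 3, 3, 3], [3, 2, 2, 2, 2, 2, 4, 3, 4, 4, 5, 5, 5, 6, 3, 3, 3]), ([2, 3, 2, 2, 2, 2, 2, 2, 4, 4, 3, 3, 4, 5, 5, 5, 5, 5, 6, 6, 7], [3, 2, 2, 3, 3, 4, 4, 4, 5, 5, 5, 5, 5, 5, 5, 5, 5, 3, 6]), ([3, 2, 3, 2, 2, 2, 2, 2, 4, 3, 3, 4, 5, 5, 5, 5, 6, 6], [2, 3, 3, 2, 2, 3, 3, 2, 3, 4, 4, 5, 5, 6, 6, 7, 3, 3, 3]), ([3, 2, 3, 3, 3, 2, 2, 3, 4, 3, 4, 5, 5, 5, 5, 5, 5, 5, 5, 6, 6, 3, 3], [2, 3, 3, 3, 2, 3, 3, 4, 4, 5, 5, 5, 5, 5, 5, 3, 6]), ([2, 3, 2, 2, 2, 3, 2, 2,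 3, 4, 4, 4, 3, 4, 5, 5, 5, 5, 5, 5, 5, 6, 6, 7, 3], [3, 2, 2, 3, 3, 3, 2, 2, 4, 4, 3, 4, 5, 5, 5, 3, 3, 3]), ([2, 3, 2, 2, 3, 3, 2, 4, 4, 6], [2, 3, 2, 2, 2])],
    [([3, 3, 4, 3, 4, 5, 3, 6, 7], [2, 3, 2, 2, 2, 3, 2, 2, 3, 4, 4, 3, 4, 5, 5, 5, 5, 5, 5, 5, 5, 5, 6, 3, 3, 3]), ([3, 2, 2, 3, 3, 2, 2, 2, 4, 3, 3, 3, 4, 3, 4, 5, 5, 5, 6, 6, 6, 3, 3], [3, 2, 3, 3, 2, 2, 3, 2, 4, 4, 3, 3, 4, 6, 6, 6, 3, 3, 3]), ([3, 2, 3, 3, 2, 2, 2, 4, 4, 4, 3, 4, 5, 5, 5, 5, 5, 5, 5, 5, 5, 3, 6, 3, 3], [2, 3, 3, 2, 3, 2, 3, 4, 4, 5, 5, 5, 5, 5, 5, 5, 5, 5, 6]), ([3, 2, 3, 2, 2, 2, 2, 4, 3, 4, 5, 5, 5, 5, 5, 5, 5, 6, 6, 6], [2, 3, 3, 3,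 2, 2, 3]), ([3, 2, 2, 2, 3, 2, 3, 2, 3, 4, 4, 3, 4, 5, 5, 5, 3, 6, 7, 3, 3], [2, 3, 2, 2, 2, 2, 4, 3, 3, 4, 4, 3, 4, 5, 5, 5, 5, 5, 5, 6, 6, 6, 7, 3, 3, 3]), ([3, 3, 2, 2, 3, 3, 2, 5, 5, 5, 5, 5, 5, 5, 5, 6, 6, 6, 3], [2, 2, 3, 3, 2, 2, 2, 3, 4, 3, 4, 6, 6, 3, 3, 3]), ([2, 3, 3, 2, 3, 3, 2, 2, 2, 3, 4, 4, 5, 6, 6, 6, 7, 3, 3, 3], [3, 2, 2, 2, 3, 2, 2, 2, 3, 3, 3, 4, 3, 4, 3, 3, 3]), ([3, 3, 2, 2, 2, 3, 3, 2, 3, 4, 4, 4, 3, 4, 5, 5, 5, 5, 5, 5, 3, 6, 3, 3], [2, 2, 3, 2, 2, 3, 2, 3, 2, 3, 3, 4, 4, 5, 5, 5, 5, 5, 5, 5, 5, 5, 3, 3]), ([2, 2, 3, 2, 2, 3, 2, 3, 2, 4, 3, 4, 5, 5, 5, 5, 5, 3, 6, 7, 3, 3, 3], [3, 3, 2, 3, 2,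 2, 4, 3, 3, 4, 4, 3, 4, 5, 5, 5, 5, 6, 6, 3]), ([3, 3, 2, 3, 2, 4, 3, 4, 4, 4, 5, 5, 5, 5, 5, 6, 6, 3, 3], [2, 3, 2, 3, 2, 2, 2, 2, 2, 3, 3, 4, 4, 4, 3, 4, 5, 5, 5, 5, 5, 5, 6, 6, 6, 3]), ([2, 2, 3, 2, 2, 2, 4, 3, 4, 4, 4, 3, 4, 5, 5, 6, 6, 6, 7, 3, 3, 3], [2, 2, 3, 3, 3, 2, 3, 2, 4, 3, 3, 3, 4, 3, 4, 5, 5, 5, 5, 5, 5, 6, 3]), ([3, 3, 2, 2, 4, 3, 4, 4, 5, 5, 5, 6, 6, 7], [3, 2, 2, 3, 3, 2, 2, 2, 5, 5, 5, 5, 5, 5, 5, 5, 5, 3, 3, 3]), ([3, 3, 2, 3, 2, 2, 4, 3, 3, 4, 3, 4, 5, 5, 5, 5, 6, 6, 6, 7, 3, 3], [2, 3, 3, 3, 2, 2, 2, 3, 2, 3, 3, 4, 4, 4, 3, 4, 5, 5, 5, 5, 5, 5, 5, 5, 5, 3, 6, 7, 3, 3, 3]), ([3, 3, 2, 2, 4, 3, 4,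 3, 4, 5, 5, 5, 5, 5, 5, 5, 5, 3, 6], [2, 2, 3, 2, 3, 2, 3, 2]), ([3, 2, 3, 2, 2, 2, 2, 2, 3, 4, 3, 4, 5, 5, 5, 5, 5, 6, 6, 6, 7, 3, 3], [2, 2, 3, 2, 3, 3, 3, 2, 3, 4, 4, 3, 3, 4, 5, 5, 5, 5, 5, 3, 6, 3, 3]), ([2, 3, 2, 2, 2, 3, 3, 4, 3, 4, 4, 5, 5, 5, 5, 5, 5, 3, 6, 7, 3], [2, 3, 2, 3, 2, 2, 3, 3, 4, 3, 4, 4, 5, 5, 5, 5, 5, 5, 5, 5, 5, 6, 6, 7, 3, 3]), ([2, 2, 3, 2, 2, 3, 2, 3, 2, 4, 3, 3, 4, 4, 4, 5, 5, 5, 5, 5, 5, 5, 7, 3, 3], [2, 2, 3, 3]), ([2, 2, 3, 2, 3, 2, 4, 3, 3, 4, 3, 4, 5, 6, 6, 3, 3, 3], [3, 2, 3, 3, 2, 2, 3, 2, 3, 3, 3, 4, 3, 4, 5, 5, 5, 6, 6, 6, 7, 3, 3, 3]), ([2, 3, 3, 3, 2, 3, 2, 2, 3, 3, 4, 4, 6, 6,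 6, 7, 3, 3], [3, 3, 2, 2, 3, 3, 2, 4, 4, 5, 5, 5, 5, 6, 6, 7, 3]), ([2, 3, 3, 3, 2, 3, 2, 2, 4, 4, 4, 3, 4, 6], [3, 2, 2, 3, 3, 2, 4, 3, 3, 4, 4, 3, 4, 6, 7, 3, 3]), ([2, 2, 2, 2, 2, 3, 2, 3, 3, 4, 5, 5, 5, 5, 3, 6, 7, 3, 3], [2, 2, 4, 3, 4, 4, 5, 5, 5, 5, 5, 5, 7, 3]), ([2, 2, 2, 2, 2, 3, 2, 3, 3, 3, 4, 5, 5, 5, 5, 7, 3], [2, 3, 2, 3, 2, 3, 3, 4, 4, 4, 5, 6, 7, 3, 3]), ([2, 3, 3, 3, 2, 3, 2, 2, 4, 3, 3, 4, 4, 3, 4, 6], [2, 2, 3, 2, 3, 3, 3, 2, 4, 3, 4, 5, 5, 7, 3, 3, 3]), ([2, 3, 3, 3, 2, 3, 2, 2, 4, 4, 4, 5, 5, 5, 5, 5, 6, 6, 7, 3, 3, 3], [3, 3, 2, 2, 2, 3, 2, 2, 2, 3, 3, 4, 5, 5, 5, 5, 5, 5, 5, 5, 5, 3, 6, 7]), ([3,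 2, 2, 3, 3, 3, 2, 2, 4, 3, 3, 4, 4, 4, 5, 6, 7], [2, 2, 2, 3, 2, 2, 2, 3, 3, 3, 4, 3, 4, 3, 3, 3]), ([3, 2, 2, 3, 3, 3, 2, 2, 3, 4, 3, 3, 4, 3, 4, 5, 5, 5, 3, 6, 7, 3, 3, 3], [2, 3, 2, 3, 2, 3, 3, 2, 4, 3, 4, 5, 5, 5, 5, 5, 5, 5, 5, 5, 6, 6, 7, 3, 3, 3]), ([3, 3, 2, 2, 2, 4, 4, 3, 3, 4, 5, 5, 5, 5, 5, 5, 5, 5, 5, 6, 6, 7, 3, 3, 3], [2, 2, 3, 3, 3, 2, 3, 2, 2, 4, 4, 5, 5, 5, 5, 5, 6, 6, 3]), ([2, 3, 2, 3, 3, 2, 3, 3, 3, 4, 3, 4, 5, 5, 5, 5, 5, 7], [3, 3, 2, 2, 2, 2, 3, 2, 3, 3, 3, 4, 3, 4, 4, 5, 5, 5, 5, 5, 5, 6]), ([2, 2, 2, 4, 3, 4, 3, 4, 5, 5, 5, 5, 5, 5, 5, 3, 3], [2, 3, 2, 3, 2, 3, 2, 3, 3, 4, 4, 4, 5, 6, 7, 3,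 3]), ([2, 3, 2, 3, 2, 2, 4, 4, 3, 4, 5, 5, 5, 7], [2, 2, 3, 2, 3, 2, 3, 4, 5, 5, 5, 5, 3, 6, 7]), ([3, 3, 3, 2, 2, 2, 3, 4, 4, 4, 5, 5, 5, 5, 6, 6, 6, 7, 3, 3], [2, 3, 3, 3, 2, 2, 3, 3, 4, 3, 4, 4, 5, 5, 5, 5, 5, 5, 5, 5, 5, 6, 6, 7, 3, 3]), ([3, 2, 3, 2, 2, 2, 2, 4, 3, 3, 4, 4, 4, 5, 5, 5, 6, 6, 7, 3], [3, 2, 3, 3, 4, 4, 3, 4, 5, 5, 5, 5, 5, 6, 6, 6, 7]), ([3, 3, 2, 2, 4, 3, 4, 4, 5, 5, 7], [2, 2, 3, 2, 3, 2, 3, 2, 4, 4, 3, 3, 4, 6, 6, 6, 7, 3]), ([2, 2, 3, 2, 2, 2, 4, 3, 4, 4, 4, 3, 4, 5, 5, 5, 5, 5, 6, 6, 3], [2, 2, 3, 2, 2, 2, 2, 2, 3, 4, 3, 4, 4, 3, 6, 7, 3, 3, 3]), ([3, 2, 2, 2, 2, 2, 2, 4, 3, 3, 3, 4, 3, 4, 6,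 3, 3], [3, 3, 2, 2, 2, 2, 4, 3, 3, 4, 5, 5, 5, 6, 7]), ([3, 3, 2, 2, 2, 3, 2, 2, 2, 3, 4, 5, 5, 5, 5, 5, 5, 6, 6, 6, 3], [2, 2, 3, 2, 2, 2, 3]), ([2, 3, 2, 3, 2, 3, 4, 3, 3, 4, 3, 4, 5, 5, 5, 6, 6, 6, 7, 3, 3], [2, 3, 2, 2, 2, 3, 2, 3, 3, 3, 4, 5, 5, 5, 3, 6]), ([2, 3, 2, 3, 2, 2, 2, 2, 2, 4, 3, 3, 3, 4, 3, 4, 3, 6, 3, 3], [2, 3, 2, 2, 2, 2, 2, 3, 3, 4, 4, 5, 5, 3, 6]), ([2, 3, 2, 3, 3, 2, 3, 3, 3, 4, 5, 5, 5, 5, 5, 5, 6, 6], [3, 3, 3, 2, 2, 3, 3, 4, 4, 4, 5, 5, 5, 5, 5, 5, 5, 5, 5, 3, 6]), ([3, 2, 3, 3, 3, 2, 2, 4, 3, 4, 3, 4, 5, 5, 5, 5, 5, 5, 6, 6], [2, 3, 2, 3, 2, 2, 2, 2, 2, 4, 3, 3, 4, 5, 5, 5, 5, 5, 5, 5, 5,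 5, 6, 6, 6, 7]), ([2, 2, 2, 2, 3, 3, 2, 4, 5, 5, 5, 5, 5, 5], [3, 3, 2, 3, 2, 2, 4, 4, 3, 3, 4, 6, 6, 7, 3]), ([3, 3, 3, 2, 3, 2, 3, 2, 4, 5, 5, 5, 5, 5, 5, 3], [2, 2, 2, 3, 2, 2, 2, 4, 3, 4, 4, 4, 5, 5, 5, 3, 6, 7]), ([3, 2, 3, 3, 3, 2, 2, 3, 4, 3, 4, 5, 5, 5, 5, 5, 5, 5, 5, 5, 7, 3], [3, 2, 2, 2, 3, 2, 4, 4, 3, 3, 4, 3]), ([3, 2, 2, 2, 2, 3, 3, 3, 4, 3, 4, 4, 5, 5, 5, 6], [3, 3, 2, 2, 3, 3, 2, 2, 2, 4, 4, 4, 5, 5, 5, 5, 3, 6, 3]), ([2, 3, 3, 2, 2, 3, 2, 4, 3, 4, 6, 7, 3, 3], [2, 3, 2, 3, 3, 2, 2, 2, 4, 3, 4, 3, 6, 7, 3, 3, 3]), ([3, 2, 2, 2, 3, 2, 3, 2, 4, 3, 3, 4, 4, 3, 4, 5, 5, 5, 5, 5, 5, 5, 5, 6, 6, 3, 3], [3,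 2, 2, 3, 3, 2, 4, 4, 5, 5, 5, 5, 5, 5, 5, 6, 7]), ([3, 2, 3, 2, 2, 4, 3, 3, 4, 5, 5, 5, 5, 5, 5, 5, 6, 6, 6, 3], [2, 3, 3, 2, 3, 2, 4, 3, 3, 3, 4, 3, 4, 5, 7, 3]), ([3, 2, 3, 2, 2, 4, 3, 3, 4, 5, 5, 5, 5, 5, 5, 5, 5, 5, 3, 3], [2, 2, 2, 3, 2, 3, 2, 3, 3, 4, 4, 4, 5, 5, 5, 5, 5, 3, 6, 3, 3, 3]), ([2, 2, 3, 2, 2, 2, 2, 2, 2, 3, 3, 4, 3, 4, 4, 5, 5, 5, 5, 5, 5, 5, 5, 5, 6, 6], [3, 2, 3, 2, 2, 2, 3, 2, 2, 3, 3, 3, 4, 5, 5, 3, 6]), ([3, 3, 3, 2, 3, 2, 2, 3, 4, 4, 3, 3, 4, 5, 5, 3, 6, 3], [3, 2, 2, 3, 3, 2, 2, 2, 3, 4, 3, 4, 4, 5, 5, 5, 5, 5, 5, 5, 5, 5, 3, 3]), ([2, 3, 2, 2, 2, 4, 4, 4, 5, 5, 5, 5, 5, 3, 6, 3, 3, 3], [3,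 2, 2, 3, 2, 3, 4, 4, 3, 3, 4, 5, 5, 5, 5, 6, 6, 6, 7, 3, 3]), ([3, 3, 2, 3, 2, 3, 3, 3, 4, 3, 4, 4, 3, 6, 3, 3, 3], [3, 3, 2, 2, 2, 3, 2, 3, 4, 4, 3, 3, 4, 5, 5, 5, 5, 5, 5, 5, 6, 3]), ([3, 2, 3, 2, 2, 3, 3, 4, 4, 4, 3, 4, 5, 5, 5, 5, 5, 5, 5, 6, 6, 6], [3, 3, 3, 2, 3, 2, 3, 2, 3, 4, 3, 4, 4, 5, 5, 5, 6, 3, 3, 3]), ([3, 3, 3, 2, 3, 2, 2, 3, 4, 4, 4, 5, 5, 7, 3, 3], [3, 3, 2, 2, 2, 3, 3, 2, 4, 3, 4, 4, 5, 5, 5, 5, 5, 5, 6, 3, 3, 3]), ([3, 3, 3, 2, 2, 2, 3, 4, 4, 3, 3, 4, 5, 5, 5, 5, 5, 5, 5, 6, 6, 7, 3], [3, 3, 3, 2, 2, 2, 2, 3, 2, 4, 4, 5, 5, 5, 5, 5, 5, 3]), ([3, 2, 2, 2, 3, 2, 3, 2, 3, 4, 4, 3, 3, 4, 5, 5, 5, 6, 6,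 7, 3, 3, 3], [3, 3, 3, 2, 2, 2, 2, 4, 3, 3, 4, 4, 3, 4, 5, 5, 5, 5, 3, 6, 7]), ([3, 2, 2, 3, 3, 3, 4, 3, 4, 7, 3, 3], [3, 3, 2, 4, 4, 3, 3, 4, 5, 5, 5, 7]), ([2, 3, 3, 2, 3, 3, 2, 2, 2, 3, 3, 4, 4, 3, 4, 5, 5, 5, 5, 5, 5, 5, 5, 3, 6, 7, 3, 3], [2, 2, 2, 3, 2, 3, 2, 2]), ([2, 2, 3, 2, 2, 2, 2, 4, 3, 4, 5, 6, 6, 6, 3, 3, 3], [3, 2, 3, 2, 3, 3, 2, 4, 3, 3, 4, 3, 4, 5, 5, 5, 5, 5, 5, 5, 6, 7, 3]), ([2, 2, 3, 2, 2, 2, 2, 4, 3, 4, 5, 5, 5, 5, 5, 5, 5, 5, 5, 6, 7, 3, 3], [3, 3, 2, 3, 2, 2, 2, 3, 3, 4, 3, 4, 5, 5, 5, 5, 5, 6, 3, 3, 3]), ([2, 2, 3, 2, 2, 2, 2, 4, 4, 4, 3, 4, 5, 5, 5, 5, 5, 5, 3, 6, 7, 3], [2, 2, 3, 2, 2, 3,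 2, 3, 2, 3]), ([2, 2, 3, 2, 2, 2, 2, 4, 4, 4, 3, 4, 5, 5, 5, 5, 5, 5, 5, 5, 6, 6, 7, 3, 3, 3], [3, 2, 2, 2, 3, 2, 2, 2, 3, 3, 4, 3, 4, 4, 5, 5, 6, 6, 6, 3]), ([2, 2, 3, 2, 2, 2, 2, 2, 2, 3, 3, 4, 4, 6, 7, 3, 3, 3], [3, 2, 3, 3, 2, 3, 4, 4, 3, 6, 7, 3]), ([2, 2, 3, 2, 2, 2, 2, 2, 2, 3, 3, 4, 4, 5, 5, 5, 5, 5, 5, 3, 6, 3], [2, 3, 2, 2, 3, 2, 3, 4, 4, 3, 3, 4, 5, 5, 5, 5, 6, 6, 6, 7, 3, 3, 3])]]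

/-- part of a table -/
def conjs10 : List (List (List ℕ × List ℕ)) :=
  [[([3, 3, 3, 2, 3, 2, 2, 3, 4, 4, 4, 3, 4, 5, 5, 5, 5, 5, 5, 6, 6], [3, 2, 3, 2, 2, 2, 3, 2, 2, 4, 4, 3, 4, 5, 6, 6, 6, 3, 3, 3]), ([3, 2, 3, 3, 3, 2, 3, 2, 3, 4, 4, 4, 3, 4, 5, 5, 5, 5, 5, 5, 5, 7], [3, 2, 3, 3, 2, 2, 3, 2, 4, 3, 3, 4, 3, 4, 5, 5, 5, 3]), ([3, 4, 3, 4, 5, 5, 5, 5, 5, 5, 5, 6, 6, 3, 3], [3, 2, 2, 2, 2, 3, 3]), ([2, 2, 3, 2, 3, 3, 3, 2, 3, 4, 4, 4, 5, 5, 5, 5, 5, 5, 5, 5, 5, 3, 3, 3], [3, 3, 3, 2, 3, 2, 3, 2, 3, 3, 4, 4, 4, 5, 6, 7, 3, 3]), ([4, 3, 3, 4, 4, 4, 5, 3, 6, 7, 3], [3, 3, 2, 3, 3, 3, 4, 3, 4, 4, 5, 6, 7, 3, 3]), ([2,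 3, 3, 2, 3, 2, 4, 3, 4, 3, 4, 7], [2, 3, 2, 3, 2, 3, 2, 3, 4, 3, 3, 4, 3, 4, 5, 5, 5, 5, 5, 5, 6, 6, 6, 7]), ([3, 2, 5, 5, 5, 5, 5, 6, 6, 6, 7, 3], [2, 3, 3, 2, 3, 2, 2, 2, 4, 3, 3, 3, 4, 3, 4, 5, 5, 6, 6, 6, 3, 3]), ([2, 2, 3, 3, 3, 2, 4, 4, 3, 4, 5, 5, 5, 5, 5, 6, 6, 7, 3, 3, 3], [2, 3, 3, 2, 3, 2, 2, 2, 3, 3, 3]), ([3, 3, 2, 4, 3, 3, 4, 5, 5, 5, 5, 3, 6], [3, 3, 2, 3, 2, 3, 2, 3, 3, 3]), ([3, 3, 2, 2, 3, 2, 4, 3, 4, 4, 4, 3, 4, 5, 5, 6, 6, 7], [3, 2, 3, 2, 2, 2, 3, 2, 2, 4, 3, 3, 4, 3, 4, 5, 5, 6, 6, 7, 3]), ([2, 2, 2, 2, 3, 2, 4, 3, 3, 4, 4, 3, 4, 5, 5, 5, 5, 5, 6, 6, 6, 3], [3, 2, 2, 3, 2, 2, 2, 2, 3, 3, 3, 4,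 3, 4, 4, 5, 5, 5, 5, 5, 3, 6]), ([4, 3, 4, 3, 4, 5, 5, 5, 5, 5, 7, 3], [2, 2, 2, 2, 3, 2, 4, 4, 3, 3, 4, 3]), ([3, 2, 3, 2, 2, 2, 2, 2, 3, 3, 3, 4, 5, 5, 5, 5, 3, 6, 7], [3, 3, 2, 2, 4, 3, 4, 4, 5, 5, 5, 5, 5, 5, 7, 3]), ([2, 3, 3, 3, 2, 3, 4, 4, 4, 5, 5, 5, 6, 6, 6, 3, 3, 3], [3, 3, 2, 2, 2, 2, 3, 2, 4, 3, 3, 4, 3, 4, 5, 5, 5, 5, 3, 6, 7, 3, 3]), ([2, 3, 2, 2, 4, 4, 4, 3, 4, 5, 5, 5, 5, 5, 5, 5, 6, 6, 7, 3, 3, 3], [3, 2, 2, 3, 2, 3, 3, 3, 4, 3, 4, 4, 3, 6, 7, 3, 3, 3]), ([2, 3, 2, 2, 3, 4, 4, 3, 3, 4, 5, 5, 3, 6], [2, 2, 3, 3, 3, 2, 3, 3, 4, 4, 3, 4, 5, 5, 6, 7, 3]), ([2, 3, 2, 2, 2, 3, 2, 2, 4, 3, 4, 4, 4, 3, 4, 5,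 5, 5, 5, 6, 6, 6, 3], [3, 3, 2, 2, 3, 3]), ([2, 3, 2, 2, 2, 3, 4, 4, 4, 3, 4, 5, 5, 5, 6, 3, 3], [3, 3, 3, 2, 3, 2, 3, 2, 4, 3, 4, 4, 4, 5, 5, 5, 5, 5, 3, 6, 7, 3, 3]), ([2, 3, 2, 3, 3, 2, 2, 2, 4, 3, 4, 4, 4, 3, 4, 5, 5, 5, 5, 5, 5, 7], [3, 3, 3, 2, 3, 2]), ([2, 3, 3, 3, 2, 3, 3, 2, 3, 3, 4, 3, 4, 4, 5, 5, 5, 5, 5, 5, 5, 5, 6, 3], [2, 3, 2, 3, 3, 4, 3, 4, 4, 5, 5, 5, 5, 3, 3, 3]), ([2, 3, 2, 2, 2, 2, 2, 4, 4, 3, 3, 4, 5, 5, 6, 6, 6, 7, 3], [3, 3, 2, 2, 2, 2, 2, 3, 3, 3, 4, 3, 4, 4, 5, 5, 5, 6, 3, 3, 3]), ([3, 3, 2, 2, 3, 3, 3, 4, 5, 5, 7], [3, 3, 3, 2, 3, 3, 2, 4, 3, 3, 4, 4, 4, 5, 5, 6]), ([3, 2, 2, 3, 3, 3, 4, 5,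 5, 7, 3], [2, 3, 2, 3, 2, 3, 3, 2, 6, 6, 6, 7, 3, 3, 3]), ([3, 3, 2, 2, 2, 2, 4, 3, 3, 3, 4, 3, 4, 6, 6, 6, 3, 3, 3], [3, 3, 3, 2, 2, 2, 3, 3, 3, 4, 5, 6, 6, 7, 3, 3, 3]), ([2, 3, 2, 2, 2, 3, 2, 2, 3, 4, 4, 3, 3, 4, 5, 5, 5, 5, 5, 5, 5, 6, 7, 3], [2, 3, 3, 2, 2, 2, 2, 2, 6, 6, 7, 3, 3]), ([3, 2, 2, 2, 3, 2, 2, 4, 3, 4, 3, 4, 5, 7, 3, 3, 3], [3, 2, 2, 3, 3, 2, 4, 4, 5, 5, 5, 5, 5, 5, 5, 6, 7, 3, 3, 3]), ([2, 3, 2, 2, 2, 2, 2, 3, 4, 3, 4, 5, 5, 5, 5, 5, 6, 6, 6, 7, 3, 3, 3], [3, 2, 3, 2, 2, 2, 2, 2, 4, 3, 3, 4, 4, 3, 4, 3, 6, 3, 3, 3]), ([3, 3, 3, 2, 2, 2, 2, 4, 4, 3, 3, 4, 5, 5, 5, 5, 5, 5, 6, 6, 6, 7, 3], [2]), ([3,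 3, 3, 2, 2, 2, 2, 3, 3, 4, 4, 3, 4, 5, 5, 6, 6, 6, 3], [3, 2, 2, 2, 3, 2, 2, 3, 3, 4, 5, 5, 5, 5, 5, 5, 5, 3, 6, 7, 3]), ([2, 3, 3, 2, 3, 3, 2, 2, 2, 4, 4, 4, 5, 5, 3, 6], [3, 3, 2, 3, 2, 2, 2, 3, 3, 4, 3, 4, 4, 5, 5, 5, 5, 5, 5, 5, 5, 6, 3, 3, 3]), ([3, 2, 3, 2, 2, 3, 3, 2, 3, 4, 4, 3, 4, 5, 5, 5, 3, 6], [2, 2, 2, 3, 3, 2, 4, 5, 5, 5, 5, 5, 5, 6, 6, 3, 3]), ([3, 2, 3, 3, 2, 2, 3, 2, 4, 4, 4, 3, 4, 7], [2, 3, 2, 3, 2, 2, 3, 3, 4, 4, 4, 3, 4, 5, 5, 5, 3, 6, 7, 3]), ([2, 2, 2, 2, 3, 3, 2, 3, 3, 4, 4, 4, 5, 5, 5, 5, 5, 5, 6, 6, 7, 3, 3, 3], [3, 3, 2, 2, 2, 2, 4, 3, 4, 4, 4, 3, 4, 5, 5, 6, 6, 7, 3, 3]), ([3, 2, 3, 2, 2,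 2, 2, 3, 3, 3, 4, 3, 4, 4, 5, 3, 6, 7, 3, 3, 3], [3, 2, 3, 2, 3, 2, 3, 3, 4, 4, 4, 5, 5, 5, 5, 5, 3, 6, 3]), ([2, 3, 3, 3, 2, 3, 3, 2, 4, 3, 4, 3, 4, 5, 5, 5, 5, 5, 5, 6], [2, 3, 2, 2, 2, 2, 2, 2, 3, 3, 4, 4, 3, 4, 5, 5, 5, 5, 5, 5, 5, 5, 3, 6, 7, 3, 3]), ([3, 2, 3, 2, 2, 3, 3, 2, 4, 4, 6, 3, 3, 3], [3, 2, 3, 2, 2, 2]), ([3, 3, 2, 3, 2, 3, 3, 4, 4, 4, 3, 4, 6, 6, 7, 3, 3, 3], [3, 2, 3, 2, 3, 2, 3, 3]), ([3, 2, 2, 3, 3, 3, 2, 2, 3, 3, 4, 4, 3, 4, 5, 5, 5, 5, 7], [2, 3, 2, 3, 2, 2, 2, 2, 2, 3, 3, 4, 5, 5, 6, 6, 7, 3, 3, 3]), ([2, 2, 2, 3, 2, 3, 2, 2, 3, 4, 4, 4, 5, 5, 5, 5, 5, 5, 3, 6, 7], [3, 2, 2, 2, 3, 2, 2, 3, 3,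 3, 4, 5, 5, 5, 6, 6, 6, 7, 3]), ([3, 2, 2, 2, 2, 3, 2, 4, 3, 3, 4, 4, 3, 4, 5, 5, 5, 5, 5, 6, 6, 6], [3, 3, 3, 2, 3, 3, 4, 5, 6, 6, 3]), ([2, 2, 2, 3, 2, 2, 2, 3, 4, 4, 4, 3, 4, 5, 6], [2, 3, 3, 3, 2, 2, 2, 3, 2, 4, 4, 5, 5, 5, 3, 6, 7, 3]), ([3, 2, 2, 3, 3, 2, 4, 3, 4, 3, 4, 5, 6, 6, 7, 3, 3], [3, 2, 3, 3, 3, 2, 2, 3, 4, 5, 5, 5, 5, 5, 5, 5, 5, 6, 6, 6]), ([4, 3, 4, 4, 4, 3, 4, 5, 5, 5, 5, 5, 5, 5, 5, 7, 3], [3, 2, 3, 3, 3, 2, 3, 3]), ([2, 3, 3, 3, 2, 3, 3, 2, 3, 4, 4, 3, 3, 4, 3, 6, 7, 3], [2, 3, 2, 2, 3, 3, 2, 2, 2, 4, 3, 3, 4, 4, 4, 5, 5, 5, 5, 5, 5, 5, 5, 3]), ([2, 2, 3, 2, 2, 3, 2, 3, 2, 3, 4, 4, 4, 3, 4, 5, 5,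 3, 6, 3], [3, 3, 3, 2, 3, 2, 2, 3, 3, 4, 4, 4, 5, 5, 5, 5, 5, 5, 5, 5, 5, 3, 6]), ([3, 2, 2, 3, 2, 2, 2, 2, 3, 3, 3, 4, 3, 4, 3, 6, 7, 3], [2, 2, 3, 2, 2, 2, 3, 3, 4, 4, 3, 4, 5, 5, 5, 5, 5, 5, 5, 5, 6, 6]), ([2, 3, 2, 2, 2, 2, 2, 3, 4, 3, 3, 4, 3, 4, 5, 5, 5, 5, 5, 3], [3, 3, 3, 2, 3, 2, 2, 4, 3, 4, 4, 4, 3, 4, 5, 5, 5, 5, 5, 5, 5, 5, 3, 6, 7, 3, 3]), ([2, 3, 2, 2, 3, 2, 3, 4, 4, 5, 5, 5, 5, 5, 5, 5, 3, 6, 3], [3, 2, 3, 3, 2, 2, 2, 4, 3, 3, 4, 4, 4, 5, 5, 5, 5, 5, 5, 7, 3, 3]), ([3, 2, 2, 3, 3, 3, 2, 2, 4, 3, 4, 4, 4, 5, 5, 5, 6, 6, 6], [3, 3, 3, 2, 3, 3, 2, 3, 3, 4, 4, 5, 6, 6, 6, 3, 3]), ([2, 2, 3, 2, 2, 3, 2, 3,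 2, 5, 5, 5, 5, 5, 5, 5, 5, 6, 6, 3], [2, 3, 3, 2, 3, 3, 2, 2, 2, 4, 3, 4, 4, 5, 5, 5, 5, 5, 5, 5, 5, 5, 7, 3]), ([3, 3, 2, 2, 2, 3, 2, 2, 2, 4, 5, 5, 5, 5, 6, 6, 6, 7, 3], [3, 2, 2, 3, 2, 2, 3, 3, 3]), ([3, 3, 2, 2, 3, 3, 2, 2, 2, 4, 3, 4, 4, 3], [2, 2, 3, 2]), ([3, 3, 2, 2, 2, 2, 2, 4, 4, 3, 3, 4, 5, 5, 5, 5, 5, 3, 3], [2, 3, 3, 2, 3, 2, 2, 2, 3, 3, 4, 4, 3, 4, 5, 7, 3, 3, 3]), ([2, 2, 3, 3, 3, 2, 2, 4, 3, 4, 4, 5, 5, 5, 5, 5, 5, 5, 5, 5, 6, 6, 7, 3], [2, 3, 2, 2, 3, 2, 4, 4, 5, 5, 5, 5, 5, 5, 3, 6, 7, 3, 3]), ([3, 2, 3, 2, 3, 3, 2, 4, 3, 3, 4, 3, 4, 5, 5, 5, 5, 5, 5, 5, 5, 6], [2, 2, 2, 2, 2, 2, 4, 4, 4, 3, 4, 5,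 5, 5, 5, 6, 6, 7, 3, 3, 3]), ([2, 3, 2, 3, 3, 3, 2, 4, 3, 4, 4, 4, 5, 5, 6], [2, 3, 2, 3, 3, 2, 2, 2, 4, 3, 4, 3, 4, 6, 7, 3, 3, 3]), ([2, 3, 2, 3, 2, 3, 3, 2, 4, 5, 5, 5, 5, 5, 6, 6, 7, 3], [3, 3, 3, 2, 3, 2, 2, 4, 4, 5, 5, 5, 5, 5, 6, 6, 3, 3]), ([2, 2, 3, 2, 2, 3, 4, 5, 5, 5, 6, 7, 3, 3], [3, 2, 3, 3, 2, 2, 2, 4, 3, 4, 3, 4, 6, 7, 3, 3, 3]), ([2, 3, 2, 2, 3, 3, 2, 4, 3, 4, 4, 5, 5, 6, 3, 3, 3], [2, 2, 3, 2, 4, 6, 6, 7, 3, 3, 3]), ([2, 3, 2, 3, 2, 3, 3, 2, 4, 3, 4, 6, 3, 3], [3, 3, 2, 3, 2, 2, 3, 3, 4, 4, 3, 4, 5, 5, 5, 6, 6, 7, 3, 3, 3]), ([2, 2, 3, 2, 2, 2, 3, 4, 3, 4, 5, 5, 5, 5, 5, 5, 5, 6, 6, 6, 7, 3, 3, 3],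 [3, 2, 2, 3, 2, 2, 4, 3, 3, 3, 4, 3, 4, 6, 3, 3]), ([2, 3, 2, 3, 2, 4, 4, 4, 3, 4, 5, 5, 3, 6, 7, 3, 3], [3, 3, 3, 2, 2, 4, 3, 3, 4, 4, 3, 4, 6, 6, 7, 3, 3, 3]), ([3, 2, 3, 3, 2, 5, 5, 5, 5, 5, 5, 5, 5, 5, 3, 6, 7, 3, 3], [3, 2, 4, 3, 4, 3, 4, 5, 6, 6, 6, 3, 3]), ([2, 2, 3, 2, 3, 2, 2, 3, 3, 3, 4, 5, 5, 5, 5, 5, 5, 3, 6, 3, 3, 3], [3, 2, 2, 3, 3, 3, 2, 2, 3, 4, 3, 3, 4, 3, 4, 5, 5, 5, 5, 5, 5, 5, 5, 6, 6, 3, 3])],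
    [([4, 3, 4, 5, 5, 5, 5, 5, 5, 5, 5, 5, 6, 6, 6, 7, 3], [3, 2, 3, 3, 2, 2, 2, 4, 4, 3, 3, 4, 6, 6, 6, 7]), ([3, 3, 2, 3, 3, 3, 2, 5, 5, 5, 5, 5, 5, 6, 3, 3], [3, 3, 3, 2, 3, 3, 2, 4, 3, 3, 4, 3, 4, 5, 5, 5, 5, 5, 5, 5, 6, 7]), ([2, 3, 3, 3, 2, 2, 4, 4, 3, 3, 4, 5, 5, 5, 3, 3, 3], [3, 3, 2, 2, 3]), ([3, 3, 3, 2, 3, 2, 4, 3, 4, 3, 4, 5, 5, 5, 5, 6, 7], [2, 3, 2, 3, 3, 2, 3, 4, 4, 5, 5, 5, 5, 5, 5, 6, 7]), ([3, 3, 2, 2, 2, 2, 2, 4, 3, 3, 4, 4, 3, 4, 5, 5, 3, 6, 3, 3, 3], [2, 2, 2, 3, 2, 2, 3, 3, 4, 3, 4, 5, 5, 5, 5, 5, 6, 6, 6, 7, 3, 3, 3]), ([2, 2, 2, 2, 2, 2, 3, 4, 4, 3, 3, 4, 5, 5, 5, 5, 5, 5, 3, 6, 7, 3, 3], [3,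 2, 3, 2, 3, 3, 2, 3, 3, 4, 4, 3, 4, 6, 3, 3, 3]), ([2, 3, 2, 2, 3, 3, 2, 3, 4, 4, 3, 6, 7, 3], [2, 3, 2, 3, 2, 3, 3, 2, 3, 4, 4, 3, 4, 5, 6, 6, 6, 3, 3, 3]), ([2, 3, 2, 3, 3, 3, 2, 4, 3, 4, 3, 4, 6, 6], [3, 3, 3, 2, 3, 2, 2, 4, 4, 3, 3, 4, 6, 6, 7, 3]), ([2, 2, 3, 3, 3, 2, 2, 3, 3, 4, 4, 3, 4, 5, 5, 5, 5, 7, 3], [3, 3, 2, 2, 2, 3, 3, 2, 3, 3, 4, 4, 4, 6, 6, 6, 7, 3]), ([2, 2, 3, 3, 2, 2, 2, 4, 3, 3, 3, 4, 3, 4, 5, 5, 5, 5, 5, 5, 6, 3, 3, 3], [2, 3, 2, 2, 2, 2]), ([3, 2, 3, 2, 3, 3, 2, 4, 3, 3, 4, 5, 5, 6, 6, 6, 7], [2, 3, 3, 3, 2, 2, 4, 3, 4, 4, 4, 5, 5, 5, 6, 3, 3, 3]), ([3, 3, 2, 2, 2, 3, 2, 2, 2, 4, 5, 5, 5, 5, 5,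 5, 5, 6, 7, 3], [3, 3, 2, 2, 3, 2, 4, 4, 5, 5, 5, 5, 5, 5, 3, 6, 7, 3]), ([2, 2, 2, 2, 2, 2, 3, 4, 3, 4, 4, 5, 3, 6], [3, 2, 2, 3, 2, 2, 3, 3, 3, 4, 3, 4, 5, 5, 5, 5, 5, 7, 3, 3]), ([3, 3, 3, 2, 2, 2, 4, 4, 4, 5, 5, 3, 6, 3], [3, 2, 2, 3, 2, 2, 4, 4, 4, 5, 5, 5, 5, 5, 5, 6, 6, 7, 3, 3, 3]), ([3, 3, 3, 2, 2, 2, 2, 3, 2, 3, 3, 4, 4, 3, 4, 5, 5, 6, 7, 3, 3, 3], [3, 2, 3, 2, 2, 2, 2, 2, 4, 3, 3, 3, 4, 3, 4, 5, 5, 5, 5, 5, 5, 6, 6, 6, 7, 3, 3]), ([3, 3, 4, 3, 4, 4, 5, 5, 7], [3, 3, 3, 2, 3, 2, 2, 3, 4, 4, 4, 5, 5, 5, 5, 5, 6, 6, 7, 3]), ([3, 2, 2, 2, 2, 3, 2, 4, 3, 3, 4, 4, 3, 4, 5, 3, 6, 3, 3, 3], [2, 3, 3, 3, 2, 2, 3,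 3, 4, 3, 4, 6, 6]), ([2, 3, 3, 3, 2, 2, 3, 4, 5, 5, 5, 5, 5, 5, 5, 5, 6, 6, 3, 3], [3, 3, 2, 2, 2, 3, 3, 2, 3, 3, 3, 4, 3, 4, 5, 5, 5, 5, 5, 3]), ([3, 2, 2, 3, 2, 4, 3, 3, 4, 4, 3, 4, 5, 5, 5, 5, 5, 5, 6, 7, 3, 3, 3], [3, 3, 3, 2, 3, 2, 2, 3, 4, 3, 4, 4, 5, 5, 5, 5, 6, 6, 6, 3, 3, 3]), ([3, 3, 4, 3, 4, 3, 6, 7, 3, 3], [2, 2, 2, 2, 2, 2, 3, 3, 4, 4, 3, 4, 5, 5, 5, 5, 5, 5, 5, 5, 3, 6, 7]), ([2, 2, 3, 3, 2, 4, 4, 4, 3, 4, 5, 5, 5, 6, 7, 3, 3, 3], [3, 2, 3, 2, 2, 2, 3, 2, 2, 3, 4, 5, 5, 6, 7, 3, 3]), ([2, 3, 3, 3, 2, 2, 4, 3, 4, 3, 4, 5, 5, 5, 5, 5, 5, 6, 6, 3], [3, 3, 2, 2, 2, 3, 3, 2, 4, 5, 5, 5, 5, 5, 5, 6, 6, 3, 3,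 3]), ([3, 2, 2, 3, 3, 2, 2, 2, 4, 4, 5, 5, 5, 5, 5, 5, 5, 5, 5, 6, 6, 6], [2, 2, 3, 2, 2, 2, 2, 3, 3, 3, 4, 5, 5, 5, 5, 5, 5, 5, 6, 6, 6, 7, 3, 3]), ([4, 4, 3, 3, 4, 5, 5, 5, 5, 5, 5, 7, 3, 3, 3], [3, 3, 3, 2, 3, 2, 2, 2, 3, 4, 3, 3, 4, 3, 4, 5, 5, 5, 7, 3, 3, 3]), ([2, 3, 3, 3, 2, 2, 3, 3, 4, 4, 4, 3, 4, 5, 5, 5, 5, 5, 5, 5, 6, 3], [2, 2, 3, 2, 3, 2, 3, 4, 4, 5, 5, 5, 5, 3, 6, 7, 3]), ([3, 3, 2, 2, 2, 3, 2, 4, 5, 5, 5, 5, 6], [2, 3, 3, 2, 2, 3, 2, 4, 4, 4, 5, 5, 5, 5, 5, 5, 5, 3, 6, 7]), ([2, 2, 2, 2, 2, 2, 4, 3, 4, 4, 4, 3, 4, 5, 5, 5, 5, 5, 5, 5, 5, 5, 6, 6, 6, 3], [2, 3, 2, 3, 3, 2, 3, 3, 3]), ([3, 2, 2, 2, 2, 2,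 2, 3, 4, 5, 5, 5, 5, 5, 5, 5, 6, 6, 7, 3], [3, 2, 2, 2, 3, 2, 3, 2, 4, 3, 3, 4, 4, 3, 4, 5, 5, 5, 5, 5, 5, 6, 6, 6, 3, 3, 3]), ([2, 3, 2, 3, 2, 2, 2, 2, 2, 4, 3, 4, 4, 4, 5, 5, 5, 5, 5, 5, 5, 3, 3, 3], [2, 2, 3, 3, 3, 2, 3, 2, 3, 3, 4, 3, 4, 5, 5, 5, 5, 3, 6, 7, 3]), ([2, 2, 2, 3, 3, 4, 4, 4, 5, 5, 5, 6, 6, 7, 3, 3, 3], [3, 2, 3, 2, 2, 2, 2, 2, 3]), ([3, 2, 3, 3, 2, 4, 3, 4, 4, 4, 5, 5, 5, 5, 5, 5, 6, 7], [2, 3, 3, 2, 3, 2, 2, 2, 4, 3, 4, 4, 4, 5, 5, 5, 3, 6, 7]), ([3, 3, 2, 2, 2, 3, 2, 2, 2, 3, 4, 4, 4, 3, 4, 5, 5, 5, 5, 5, 5, 6, 3, 3], [2, 3, 3, 2, 2, 2, 2, 2, 3]), ([3, 3, 2, 3, 3, 3, 2, 3, 3, 3, 4, 5, 5, 5, 5, 5,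 5, 5, 3, 6, 3, 3], [2, 3, 2, 3, 2, 2, 2, 2, 2, 3, 3, 4, 4, 3, 4, 5, 5, 5, 5, 6, 6, 6, 3, 3, 3]), ([3, 3, 2, 3, 3, 3, 2, 4, 3, 3, 3, 4, 3, 4, 5, 5, 5, 5, 5, 6], [3, 3, 2, 2, 2, 3, 3, 2, 4, 4, 5, 5, 5, 5, 5, 5, 5, 6, 6, 6, 3]), ([3, 3, 2, 3, 3, 3, 2, 3, 3, 3, 4, 3, 4, 3, 3, 3], [3, 3, 3, 2, 2, 2, 2, 3, 2, 4, 3, 4, 4, 4, 3, 4, 5, 7, 3, 3]), ([2, 3, 2, 3, 2, 4, 4, 3, 3, 4, 3, 6, 3, 3], [2, 2, 2, 3, 2, 2, 4, 4, 3, 3, 4, 5, 6, 6]), ([2, 2, 3, 2, 3, 2, 3, 2, 3, 4, 3, 4, 4, 5, 5, 5, 5, 5, 5, 5, 6, 6, 3], [2, 2, 3, 2, 3, 3, 2, 2, 2, 3]), ([2, 3, 3, 2, 2, 3, 3, 2, 5, 5, 5, 5, 5, 5, 5, 5, 6, 6, 7, 3, 3, 3], [3, 3, 2, 2, 2, 3,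 2, 4, 6, 6, 7]), ([2, 3, 3, 2, 2, 2, 3, 3, 4, 5, 5, 5, 5, 5, 6, 6, 6, 7], [3, 3, 2, 3, 3, 2, 2, 2, 4, 4, 3, 4, 5, 5, 5, 5, 5, 6, 6, 6, 3, 3, 3]), ([4, 4, 3, 4, 5, 5, 5, 5, 5, 3, 6, 3, 3, 3], [3]), ([3, 3, 2, 3, 2, 2, 2, 3, 4, 3, 3, 4, 3, 4, 5, 5, 5, 5, 5, 5, 7], [3, 2, 3, 3, 3, 2, 3, 2, 4, 3, 4, 4, 4, 3, 4, 5, 5, 5, 5, 6, 3, 3, 3]), ([2, 2, 2, 4, 4, 3, 3, 4, 5, 5, 5, 5, 5, 5, 5, 5, 5, 6, 6, 7, 3], [2, 3, 3, 2, 2, 3, 2, 4, 6, 6, 7, 3, 3, 3]), ([3, 3, 2, 2, 2, 3, 3, 4, 4, 4, 5, 5, 5, 5, 5, 5, 5, 5, 5, 3, 6], [2, 3, 2, 2, 2, 3, 2, 4, 4, 3, 3, 4, 3]), ([2, 3, 2, 3, 2, 4, 4, 5, 7, 3], [2, 3, 3, 3, 2, 2, 3, 4, 3, 3, 4, 3,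 4, 5, 5, 5, 5, 5, 5, 6, 6, 6, 3]), ([2, 2, 3, 2, 3, 2, 3, 2, 3, 4, 4, 4, 5, 5, 7, 3, 3, 3], [3, 3, 2, 2, 3, 2, 4, 5, 5]), ([3, 2, 3, 3, 2, 4, 3, 4, 4, 4, 5, 5, 5, 5, 5, 6, 6, 6, 7], [2, 2, 2, 4, 4, 5, 5, 5, 5, 6, 3]), ([3, 2, 2, 2, 3, 2, 3, 2, 3, 3, 4, 4, 3, 4, 5, 5, 5, 5, 5, 5, 6, 6, 3, 3], [2, 3, 3, 2, 2, 2, 2, 2, 3, 3, 3, 4, 3, 4, 4, 5, 5, 5, 5, 5, 5, 5, 3, 6, 7, 3, 3, 3]), ([3, 2, 3, 3, 3, 2, 3, 2, 3, 3, 4, 5, 5, 5, 6, 6, 6, 7, 3, 3, 3], [2, 3, 2, 3, 3, 2, 2, 2, 4, 4, 4, 3, 4, 5, 5, 6, 6, 6, 3, 3]), ([3, 3, 3, 2, 3, 2, 2, 4, 3, 3, 4, 4, 4, 6, 7, 3, 3], [3, 3, 2, 2, 2, 3, 2, 2, 2, 4, 3, 4, 4, 4, 3, 4, 5, 5, 5, 5,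 5, 5, 5, 5]), ([3, 3, 2, 3, 3, 2, 4, 3, 3, 4, 5, 5, 5, 6, 7, 3, 3], [2, 3, 3, 3, 2, 2, 2, 3, 2, 3]), ([3, 2, 3, 3, 3, 2, 3, 4, 4, 3, 4, 5, 5, 5, 5, 5, 6, 6, 6, 7, 3, 3], [3, 2, 3, 3]), ([2, 2, 3, 2, 2, 3, 2, 3, 2, 5, 5, 5, 5, 7], [2, 2, 3, 2, 2, 2, 2, 3, 4, 4, 4, 3, 4, 5, 5, 6, 6]), ([2, 2, 2, 3, 2, 3, 2, 3, 4, 4, 4, 5, 5, 5, 3, 6, 7, 3, 3], [2, 2, 3, 2, 2, 2, 2, 2, 3, 4, 3, 4, 5, 5, 5]), ([2, 3, 3, 2, 3, 2, 3, 4, 3, 4, 5, 5, 5, 3, 6, 7], [2, 3, 2, 3, 3, 2, 2, 2, 5, 5, 6, 6]), ([4, 3, 3, 3, 4, 3, 4, 5, 5, 5, 5, 5, 5, 3, 6, 3, 3], [2, 3, 2, 2, 2, 2, 2, 3, 3, 4, 4, 3, 4, 5, 5, 5, 5, 6, 6, 6, 3, 3, 3]), ([2, 2, 2, 3, 2,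 3, 2, 2, 4, 3, 4, 5, 5, 6, 6, 6, 7, 3], [3, 3, 2, 2, 2, 3, 2, 2, 2, 3, 4, 4, 4, 5, 5, 5, 5, 3, 6, 7, 3]), ([4, 4, 3, 3, 4, 5, 7, 3], [2, 2, 2, 3, 2, 3, 2, 2, 4, 3, 3, 3, 4, 3, 4, 5, 5, 5, 5, 5, 5, 5, 5, 3, 6, 3]), ([2, 3, 2, 2, 2, 2, 2, 2, 3, 3, 4, 5, 5, 5, 3, 6, 3, 3, 3], [2, 2, 3, 2, 2, 3, 2, 3, 2, 4, 3, 3, 4, 5, 5, 5, 3]), ([3, 3, 2, 2, 2, 2, 2, 3, 3, 3, 4, 5, 6, 6, 7], [3, 3, 2, 2, 3, 2, 3, 3, 3, 4, 3, 4, 4, 5, 5, 5, 5, 5, 5, 5, 5, 7, 3]), ([2, 2, 3, 2, 2, 4, 3, 3, 4, 4, 3, 4, 5, 5, 5, 5, 5, 5, 5, 5, 3, 3], [2, 2, 3, 3, 3, 2, 4, 4, 5, 5, 5, 5, 5, 5, 5, 6, 7]), ([2, 3, 3, 3, 2, 3, 2, 3, 3, 3, 4, 3, 4, 4, 5, 5, 5,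 5, 5, 5, 5, 6, 6, 6, 3, 3, 3], [2, 3, 2, 2, 2, 3, 3]), ([2, 3, 2, 2, 2, 2, 2, 2, 4, 3, 3, 4, 5, 6, 6, 3, 3, 3], [3, 2, 2, 2, 2, 2, 4, 3, 4, 4, 4, 3, 4, 5, 3, 6, 7]), ([2, 3, 2, 3, 2, 5, 5, 5, 5, 5, 5, 5], [3, 2, 3, 2, 3, 3, 2, 3, 3, 3, 4, 7, 3]), ([3, 2, 3, 2, 2, 2, 2, 2, 3, 4, 4, 5, 5, 5, 5, 5, 3, 6, 7], [3, 3, 2, 3, 3, 2, 2, 2, 3, 3, 4, 3, 4, 4, 5, 5, 3])],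
    [([4, 3, 4, 4, 4, 3, 4, 5, 5, 5, 5, 5, 6, 6, 7, 3], [3, 2, 3, 3, 3, 2, 4, 4, 5, 5, 5, 5, 5, 5, 5, 6, 7]), ([2, 3, 3, 2, 2, 3, 3, 2, 5, 5, 5, 5], [2, 3, 2, 3, 3, 2, 4, 3, 3, 4, 3, 4, 5, 5, 5, 5, 5, 5, 5, 6, 7, 3]), ([2, 3, 3, 2, 2, 3, 3, 2, 4, 4, 3, 4, 5, 5, 5, 5, 5, 5, 5, 5, 6, 6, 7], [2, 3, 2, 3, 2, 3, 3, 2, 3, 3, 4, 4, 3, 4, 6, 3, 3, 3]), ([3, 3, 4, 3, 4, 4, 5, 5, 5, 5, 5, 5, 5, 6, 6, 7], [2, 3, 3, 2, 2, 3, 3, 2, 3, 4, 4, 3, 3, 4, 5, 5, 5, 5, 5, 5, 5, 3, 6, 7, 3, 3, 3]), ([3, 3, 2, 3, 3, 3, 2, 3, 3, 3, 4, 3, 4, 6, 3, 3], [3, 2, 3, 2, 2, 2, 2, 4, 3, 4, 4, 4, 5, 5, 5, 5, 5, 5, 5, 5, 3, 6, 3, 3]), ([3, 3, 2, 3, 3,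 3, 2, 3, 3, 3, 4, 3, 4, 5, 5, 5, 5, 3], [2, 2, 3, 3, 2, 2, 2, 3, 3, 3]), ([3, 2, 3, 3, 3, 2, 3, 3, 3, 4, 5, 5, 5, 5, 5, 5, 5, 3, 6, 3, 3, 3], [2, 2, 2, 4, 3, 3, 4, 3, 4, 6, 6, 6, 7, 3, 3, 3]), ([3, 2, 2, 2, 2, 4, 3, 3, 4, 3, 4, 5, 5, 6, 3], [2, 3, 2, 3, 2, 2, 3, 3, 4, 4, 5, 5, 3, 6, 7, 3, 3, 3]), ([2, 3, 2, 2, 2, 2, 3, 3, 3, 4, 3, 4, 4, 5, 5, 5, 5, 5, 5, 5, 5, 7, 3, 3], [3, 3, 2, 4, 3, 3, 3, 4, 3, 4, 5, 5, 5, 5, 5, 5, 5, 5, 5, 6, 6, 6, 7, 3, 3]), ([3, 2, 2, 2, 3, 3, 2, 3, 3, 4, 3, 4, 4, 5, 5, 7, 3], [3, 2, 2, 3, 3, 2, 4, 3, 3, 4, 3, 4, 5, 5, 5, 5, 5, 5, 5, 5, 5, 3, 3, 3]), ([3, 4, 4, 3, 3, 4, 5, 5, 5, 5, 5, 5, 5, 5,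 6, 6, 7], [2, 3, 2, 3, 2, 2, 2, 2, 2, 4, 3, 3, 4, 5, 5, 5, 5, 5, 5, 5, 5, 5, 6, 6, 6, 7, 3, 3]), ([2, 2, 2, 3, 2, 3, 2, 2, 3, 4, 3, 3, 4, 3, 4, 5, 5, 5, 5, 5, 7, 3], [3, 3, 2, 2, 2, 3, 3, 2, 3, 3, 4, 4, 4, 6, 6, 6, 7, 3, 3, 3]), ([2, 3, 2, 3, 2, 3, 2, 4, 4, 3, 4, 5, 5, 5, 5, 6, 6, 7, 3], [3, 2, 2, 2, 2, 3, 2, 4, 3, 3, 4, 3, 4, 5, 5, 5, 5, 3, 6, 7, 3, 3]), ([2, 3, 2, 3, 2, 3, 2, 3, 4, 3, 4, 5, 5, 5, 5, 5, 5, 5, 6, 6, 6], [3, 3, 2, 2, 2, 2, 2, 3, 3, 3, 4, 3, 4, 4, 5, 5, 5, 5, 5, 5, 5, 5, 5, 6, 6, 7, 3]), ([4, 3, 4, 4, 5, 5, 5, 5, 5, 5, 5, 6, 6, 7, 3, 3], [3, 2, 2, 2, 3, 3, 2, 3, 3]), ([2, 5, 5, 5, 5, 5, 5, 5, 5, 5, 6,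 6, 3, 3], [2, 3, 3, 2, 3, 3, 2, 2, 2, 3, 4, 4, 4, 5, 5, 5, 5, 5, 6, 6, 6, 7, 3]), ([3, 2, 2, 2, 3, 2, 2, 2, 3, 4, 4, 4, 3, 4, 5, 5, 6, 6, 6, 3, 3, 3], [2, 3, 3, 3, 2, 2, 3, 3, 4, 4, 4, 3, 4, 5, 5, 5, 5, 6, 6, 6, 3, 3]), ([3, 2, 2, 2, 3, 2, 2, 2, 4, 3, 4, 4, 4, 5, 5, 5, 5, 5, 5, 5, 5, 5, 3, 6, 7], [3, 3, 2, 2, 3, 2, 4, 3, 3, 4, 5, 5, 5, 5, 5, 5, 5, 5, 3, 6]), ([2, 2, 3, 3, 3, 2, 3, 2, 2, 4, 4, 3, 4, 5, 5, 5, 5, 5, 5, 6, 6, 7], [2, 3, 2, 2, 2, 3, 4, 4, 4, 5, 5, 5, 7]), ([3, 3, 4, 5, 5, 5, 5, 5, 5, 5, 7, 3, 3, 3], [2, 2, 3, 3, 3, 2, 3, 2, 2, 3, 4, 3, 4, 4, 5, 5, 5, 5, 6, 6, 6, 3, 3, 3]), ([2, 3, 2, 2, 2, 2, 2, 4, 5, 5,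 5, 5, 7], [3, 2, 3, 2, 3, 2, 3, 3, 4, 4, 4, 5, 6, 7, 3, 3]), ([3, 2, 2, 2, 3, 2, 2, 4, 3, 3, 4, 5, 5, 5, 5, 5, 5, 5, 5, 5, 7, 3], [3, 3, 3, 2, 2, 2, 3, 2, 3, 3]), ([2, 3, 2, 3, 2, 2, 4, 3, 3, 4, 4, 3, 4, 5, 5, 5, 5, 5, 5, 5, 5, 3, 6, 7, 3, 3], [2, 3, 3, 3, 2]), ([2, 2, 2, 2, 2, 2, 3, 3, 4, 4, 4, 5, 5, 5, 6, 6, 6, 3, 3, 3], [3, 2, 2, 2, 3, 3, 2, 3, 3, 4, 4, 5, 5, 5, 5, 5, 5, 5, 6, 6, 6, 7]), ([3, 2, 2, 2, 2, 2, 4, 3, 4, 4, 4, 5, 5, 5, 5, 5, 5, 5, 5], [3, 2, 2, 2, 2, 3, 4, 4, 3, 4, 5, 5, 5]), ([3, 2, 2, 2, 3, 2, 2, 2, 3, 3, 4, 5, 7, 3], [3, 2, 3, 2, 3, 2, 3, 4, 4, 4, 3, 4, 5, 3, 6, 7, 3, 3]), ([3, 2, 2, 2, 3, 2, 2, 2,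 4, 5, 5, 5, 5, 5, 5, 5, 6, 7, 3, 3], [3, 2, 2, 3, 2, 4, 4, 5, 5, 5, 5, 5, 5, 3, 6, 7, 3]), ([3, 2, 2, 3, 3, 2, 5, 5, 5, 5, 5, 5, 5, 5, 6, 6, 6, 3, 3], [2, 3, 2, 3, 2, 2]), ([2, 2, 2, 2, 3, 2, 3, 3, 4, 4, 3, 4, 5, 5, 5, 5, 5, 6, 6, 6, 7, 3, 3], [3, 2, 2, 3, 2, 3, 2, 4, 4, 5, 5, 5, 5, 5, 5, 3, 6, 7, 3, 3]), ([3, 2, 3, 2, 3, 2, 4, 4, 4, 3, 4, 5, 5, 5, 5, 5, 5, 5, 5, 5, 3, 6, 7, 3, 3, 3], [2, 2, 4, 3, 4, 4, 4, 5, 5, 5, 5, 5, 6, 6, 6, 7, 3]), ([3, 3, 2, 2, 2, 2, 2, 4, 3, 4, 4, 4, 5, 5, 5, 5, 5, 5, 6, 7, 3, 3, 3], [3, 2, 3, 2, 2, 2, 2, 2, 3, 3, 4, 3, 4, 5, 5, 5, 5, 5, 5, 5, 5, 5, 6, 6, 6, 7, 3, 3]), ([2, 3, 3, 2, 3, 3, 2,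 2, 2, 3, 4, 4, 4, 5, 5, 5, 6, 6, 6, 7, 3, 3, 3], [3, 2, 3, 3, 2, 2, 3, 2, 3, 3]), ([2, 2, 3, 3, 3, 2, 3, 3, 3, 4, 5, 5], [3, 3, 2, 3, 3, 4, 3, 4, 4, 5, 5, 5, 5, 3, 3, 3]), ([3, 3, 2, 2, 2, 3, 4, 4, 4, 5, 5, 5, 5, 6, 6, 6, 7, 3, 3, 3], [3, 2, 2, 2, 3, 3, 2, 3, 3, 3, 4, 3, 4, 4, 5, 5, 5, 5, 5, 5, 5, 5, 5, 3, 6, 7, 3, 3]), ([3, 3, 2, 2, 3, 2, 4, 3, 4, 4, 4, 5, 5, 5, 5, 5, 5, 5, 5, 7, 3, 3, 3], [3, 2, 3, 3, 4, 3, 4, 4, 5, 5, 5, 5, 3, 3, 3]), ([3, 2, 3, 3, 3, 2, 2, 4, 3, 4, 4, 5, 5, 5, 5, 5, 5, 5, 5, 5, 6, 6, 7], [3, 2, 2, 3, 2, 2, 2, 2, 4, 3, 3, 4, 5, 5, 5, 6]), ([2, 2, 2, 2, 2, 2, 3, 4, 4, 5, 5, 5, 5, 5, 6, 6, 7], [3,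 3, 2, 3, 2, 2, 2, 3, 3]), ([2, 3, 2, 2, 2, 2, 3, 4, 3, 3, 4, 3, 4, 5, 5, 5, 3, 6, 3], [2, 2, 2, 3, 3, 2, 4, 4, 4, 3, 4, 6, 6, 6, 7, 3, 3, 3]), ([3, 3, 3, 2, 2, 2, 2, 3, 4, 4, 3, 3, 4, 5, 5, 5, 5, 5, 5, 5, 6, 6, 6, 3], [2, 3, 3, 2, 3, 2, 3, 4, 4, 4, 5, 5, 5, 5, 7, 3]), ([3, 3, 3, 2, 2, 2, 2, 3, 3, 4, 4, 4, 3, 4, 5, 5, 5, 5, 6, 3, 3, 3], [3, 2, 2, 2, 2, 2, 3, 3, 3, 4, 3, 4, 4, 5, 5, 5, 5, 5, 5, 5, 5, 5, 6, 6, 7, 3, 3, 3]), ([3, 2, 2, 2, 2, 2, 4, 3, 3, 4, 4, 3, 4, 5, 5, 5, 5, 5, 5, 5, 5, 5, 3, 6, 3, 3], [3, 2, 2, 2, 3, 3, 3, 2, 3, 3]), ([2, 2, 2, 2, 2, 2, 4, 5, 5, 5, 5, 6, 6, 3, 3], [2, 2, 2, 2, 2, 3, 2, 4, 3, 4, 4, 3,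 6, 7, 3, 3]), ([2, 3, 2, 2, 3, 2, 3, 2, 4, 3, 4, 4, 4, 3, 4, 5, 5, 5, 5, 6, 3, 3], [3, 2, 2, 2, 2, 3, 4, 4, 5, 5, 5, 5, 5, 6, 6, 6, 7, 3]), ([2, 3, 2, 2, 3, 2, 3, 2, 3, 4, 4, 3, 3, 4, 5, 5, 5, 5, 5, 5, 5, 3, 6, 7, 3, 3, 3], [2, 2, 3, 2, 2, 2, 3, 3, 4, 3, 4, 4, 5, 5, 5, 5, 5, 5, 5, 5, 6, 3]), ([3, 3, 3, 2, 2, 2, 3, 2, 4, 4, 5, 5, 5, 5, 5, 7, 3], [2, 3, 2, 2, 3, 3, 2, 2, 2, 4, 3, 4, 4, 5, 5, 3]), ([2, 3, 2, 3, 2, 3, 3, 2, 3, 3, 4, 4, 3, 4, 5, 7], [3, 2, 3, 3, 3, 2, 2, 4, 3, 3, 3, 4, 3, 4, 5, 5, 5, 5, 5, 5, 5, 5, 5, 3, 6, 7, 3]), ([2, 3, 3, 2, 2, 2, 2, 2, 4, 4, 3, 3, 4, 5, 5, 5, 5, 5, 5, 5, 5, 6, 6, 6, 7, 3, 3], [3, 2,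 2, 2, 3, 3, 2, 3, 4, 3, 4, 4, 6, 7, 3, 3]), ([2, 3, 2, 3, 2, 3, 3, 2, 4, 4, 4, 5, 5, 6, 6, 7, 3, 3, 3], [2, 3, 3, 2, 3, 3, 2, 2, 2, 3, 3, 3, 4, 3, 4, 4, 5, 5, 5, 6, 6, 3]), ([2, 3, 2, 3, 3, 3, 2, 3, 4, 4, 4, 5, 6, 6, 7], [2, 2, 3, 3, 3, 2, 3, 2, 3, 3, 4, 5]), ([4, 3, 3, 4, 4, 4, 5, 6, 6], [3, 2, 3, 2, 2, 2, 2, 2, 3, 3, 4, 4, 3, 4, 5, 5, 5, 5, 6, 6, 6, 3, 3, 3]), ([2, 3, 3, 2, 3, 2, 4, 3, 4, 3, 4, 6, 3, 3], [2, 2, 3, 3, 3, 2, 2]), ([3, 2, 2, 2, 3, 3, 2, 4, 3, 3, 4, 5, 6, 6, 6, 7, 3, 3, 3], [2, 2, 2, 2, 2, 2, 3, 3, 4, 4, 3, 4, 5, 5, 5, 5, 6, 6, 6, 3, 3, 3]), ([2, 2, 2, 3, 3, 4, 3, 4, 4, 5, 5, 7, 3, 3], [3, 2, 3, 2, 2,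 3, 3, 2, 4, 4, 3, 3, 4, 5, 5, 5, 3, 6, 3]), ([3, 2, 2, 2, 3, 2, 3, 2, 5, 5, 5, 5, 5, 3, 3, 3], [3, 2, 2, 2, 2, 2, 2, 4, 6, 6, 6, 7, 3, 3]), ([3, 3, 2, 3, 3, 3, 2, 4, 4, 3, 3, 4, 5, 6, 7, 3, 3, 3], [2, 3, 2, 2, 2, 3, 2, 3]), ([3, 3, 2, 3, 3, 3, 2, 4, 4, 3, 4, 5, 5, 5, 5, 5, 5, 5, 5, 5, 6, 3, 3, 3], [2, 3, 2, 3, 2, 2, 2, 2, 2, 3, 3, 4, 4, 5, 5, 3, 6]), ([3, 3, 2, 2, 2, 2, 3, 2, 4, 3, 3, 4, 4, 3, 4, 5, 5, 5, 5, 5, 6, 6, 6, 3, 3, 3], [3, 2, 2, 2, 3, 2, 4, 3, 4, 4, 5, 5, 5, 5, 5, 6, 6]), ([2, 3, 3, 3, 2, 2, 4, 4, 3, 4, 5, 3, 6, 3, 3], [3, 2, 2, 2, 3, 2, 2, 2, 3, 4, 4, 4, 5, 5, 5, 7, 3, 3, 3]), ([2, 3, 2, 2, 2, 3, 2, 3, 3,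 4, 3, 4, 5, 5, 5, 5, 5, 5, 3], [3, 3, 2, 3, 2, 3, 2, 3, 3, 3, 4, 3, 4, 4, 5, 5, 5, 5, 5, 5, 5, 5, 7, 3]), ([2, 2, 2, 2, 3, 3, 2, 4, 4, 3, 3, 4, 5, 5, 5, 5, 5], [3, 3, 2, 2, 2, 2, 3, 2, 4, 4, 3, 4, 5, 5, 5, 5, 6, 7]), ([3, 3, 3, 2, 3, 2, 3, 2, 5, 5, 5, 5, 5, 6, 6, 6, 7, 3, 3, 3], [3, 2, 3, 3, 2, 3]), ([3, 3, 2, 3, 3, 2, 4, 3, 4, 4, 4, 5, 5, 5, 5, 5, 6, 6, 6, 7, 3, 3, 3], [3, 2, 2, 2, 4, 4, 5, 5, 5, 5, 6, 3]), ([3, 2, 2, 2, 3, 2, 4, 4, 4, 3, 4, 5, 5, 5, 5, 5, 5, 5, 5, 7], [3, 2, 2, 2, 3, 2, 2, 2, 4, 4, 3, 3, 4, 5, 6, 7, 3]), ([3, 3, 2, 3, 2, 3, 2, 4, 4, 4, 3, 4, 5, 5, 3, 6, 7], [3, 2, 2, 3, 2, 3, 2, 4, 4, 3, 4, 5, 5,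 6, 7, 3, 3])],
    [([3, 2, 3, 4, 4, 3, 4, 5, 5, 5, 5, 5, 6, 6, 7], [3, 3, 2, 3, 3, 2, 2, 2, 3]), ([3, 2, 3, 3, 3, 2, 2, 4, 3, 4, 4, 5, 5, 5, 5, 5, 5, 6, 6, 6], [3, 2, 2, 3, 3, 2, 2, 2, 3, 3, 4, 4, 4, 3, 4, 5, 5, 5, 5, 5, 5, 5, 6, 6, 3, 3, 3]), ([3, 2, 2, 2, 3, 3, 2, 3, 4, 5, 5, 3, 6, 7, 3], [3, 3, 2, 2, 2, 2, 3, 2, 3]), ([2, 3, 3, 3, 2, 2, 2, 3, 2, 3, 3, 4, 3, 4, 4, 5, 5, 5, 5, 5, 6, 7, 3], [3, 2, 2, 3, 3, 3, 2, 2, 3, 3, 4, 5, 5, 5, 5, 3, 6, 7, 3]), ([2, 2, 3, 3, 3, 2, 4, 3, 4, 5, 5, 6, 6, 6, 7], [2, 3, 3, 3, 2, 3, 3, 2, 3]), ([2, 3, 2, 2, 3, 2, 3, 2, 3, 4, 3, 3, 4, 3, 4, 5, 5, 5, 5, 5, 5, 5, 3, 6, 3, 3, 3], [3, 2,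 2, 3, 2, 2, 2, 2, 3, 3, 4, 4, 5, 5, 5, 3, 6, 7, 3]), ([2, 3, 2, 2, 3, 2, 3, 2, 3, 4, 3, 3, 4, 3, 4, 5, 5, 5, 6, 6, 6, 7, 3, 3, 3], [3, 3, 2, 2, 2, 2, 3, 2, 4, 3, 4, 3, 4, 5, 3, 3, 3]), ([3, 2, 3, 2, 3, 2, 4, 4, 5, 5, 5, 5, 6, 6, 3], [2, 2, 3, 4, 3, 4, 4, 5, 5, 5, 6, 3, 3]), ([2, 2, 2, 2, 3, 2, 3, 3, 3, 4, 3, 4, 4, 5, 5, 5, 5, 5, 5, 5, 3, 6, 7], [2, 3, 3, 2, 2, 3, 2, 4, 3, 3, 4, 3, 4, 5, 5, 5, 5, 5, 3, 6, 7]), ([3, 2, 2, 3, 3, 2, 3, 4, 3, 4, 5, 5, 5, 5, 5, 5, 5, 5, 6, 6, 6, 3, 3], [3, 2, 2, 3, 2, 3, 2, 4, 4, 3, 3, 4, 5, 5, 5, 5, 5, 5, 5, 3]), ([3, 4, 4, 5, 5, 5, 3], [3, 3, 2, 2, 3, 3, 2, 2, 2, 3, 3, 3, 4, 5, 5, 5, 5,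 5, 5, 5, 5, 5, 6, 3, 3, 3]), ([3, 2, 2, 3, 2, 4, 4, 4, 5, 5, 6, 7], [2, 2, 2, 3, 3, 2, 3, 4, 4, 4, 3, 4, 5, 5, 5, 5, 5, 6, 6, 6, 7, 3, 3, 3]), ([3, 2, 3, 2, 2, 2, 2, 2, 3, 4, 4, 4, 3, 4, 5, 3, 6, 3, 3], [3, 3, 3, 2, 4, 3, 3, 4, 3, 4, 5, 5, 5, 3, 6, 3, 3, 3]), ([2, 2, 3, 2, 3, 2, 3, 2, 3, 4, 4, 4, 6, 6, 6, 3, 3, 3], [2, 2, 2, 3, 3, 2, 4, 4, 3, 3, 4, 5, 5, 5, 7, 3, 3]), ([2, 3, 2, 2, 3, 2, 3, 3, 4, 3, 4, 5, 5, 5, 5, 5, 5, 5, 5, 5, 6, 6, 3, 3, 3], [2, 2, 2, 2, 3, 3, 2]), ([2, 3, 2, 2, 3, 3, 2, 4, 3, 4, 4, 4, 5, 5, 5, 5, 3, 6, 3, 3], [2, 3, 3, 2, 2, 3, 2, 3, 4, 4, 3, 3, 4, 5, 5, 5, 5, 6]), ([3, 3, 2, 5, 5, 5, 5, 5, 5, 5,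 5, 5, 6, 6], [3, 2, 2, 3, 2, 3, 2, 3, 3, 4, 4, 4, 5, 6, 7, 3, 3]), ([3, 2, 2, 2, 2, 2, 2, 4, 5, 5, 3, 6, 3, 3, 3], [3, 3, 2, 3, 3, 2, 2, 2, 3, 3, 4, 4, 4, 6, 6, 6, 3, 3, 3]), ([3, 3, 2, 2, 2, 3, 2, 4, 3, 3, 4, 4, 3, 4, 5, 5, 5, 5, 5, 5, 5, 6, 6], [2, 3, 2, 3, 3, 3, 2, 3, 4, 3, 4, 5, 5, 5, 5, 5, 5, 5, 5, 6, 6, 7, 3, 3]), ([2, 2, 2, 2, 2, 2, 4, 4, 3, 4, 6, 6, 6], [2, 2, 2, 3, 2, 3, 2, 3, 4, 4, 3, 3, 4, 5, 5, 5, 5, 5, 5, 5, 5, 5, 6, 3, 3, 3]), ([3, 3, 3, 2, 2, 2, 2, 3, 3, 3, 4, 3, 4, 4, 5, 5, 5, 6, 3, 3], [2, 3, 3, 3, 2, 3, 2, 4, 4, 3, 3, 4, 5, 5, 5, 5, 6, 6, 6, 3]), ([3, 2, 3, 3, 3, 2, 4, 4, 3, 3, 4, 5, 5, 3, 6], [2,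 2, 2, 3, 3, 2, 3, 3, 4, 3, 4, 5, 5, 5, 5, 5, 5, 5, 5, 5, 6, 6, 6, 7, 3]), ([2, 3, 2, 2, 3, 3, 2, 3, 3, 4, 5, 5, 5, 5, 5, 5, 3, 6, 3], [3, 3, 2, 2, 2, 2, 2, 3, 4, 4, 4, 3, 4, 5, 5, 5, 5, 5, 5, 6, 6, 3, 3, 3]), ([2, 3, 3, 3, 2, 2, 2, 3, 2, 3, 3, 3, 4, 3, 4, 4, 5, 5, 5, 5, 5, 6, 6, 6, 7], [2, 3, 2, 3, 2, 2, 2, 2, 2, 4, 3, 3, 4, 4, 3, 4, 3, 6]), ([2, 3, 2, 3, 2, 4, 4, 5, 5, 5, 3, 6, 3, 3], [3, 2, 2, 3, 2, 3, 2, 3, 4, 4, 5, 5, 5, 5, 5, 5, 5, 7, 3, 3, 3]), ([3, 3, 3, 2, 2, 2, 2, 4, 3, 4, 4, 4, 5, 6, 3, 3, 3], [2, 3, 3, 2, 3, 4, 4, 4, 3, 4, 5, 5, 5, 5, 5, 5, 5, 6, 6, 3, 3, 3]), ([2, 2, 2, 3, 2, 4, 4, 5, 5, 5, 5, 5, 3], [2,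 3, 2, 2, 3, 3, 2, 2, 2, 4, 3, 3, 4, 4, 4, 5, 5, 5, 5, 5, 5, 5, 5, 3, 3, 3]), ([2, 2, 2, 2, 2, 2, 3, 3, 3, 4, 5, 5, 5, 5, 6, 6, 3, 3, 3], [3, 2, 2, 2, 3, 3, 3, 2, 4, 3, 4, 7, 3, 3, 3]), ([3, 2, 3, 2, 2, 2, 2, 2, 3, 3, 4, 5, 5, 5, 5, 5, 6, 6, 7, 3], [2, 2, 2, 3, 3, 2, 3, 3, 4, 4, 5, 5, 5, 5, 5, 5, 5, 6, 6, 6, 7, 3]), ([3, 2, 3, 3, 2, 2, 3, 2, 3, 3, 4, 4, 4, 3, 4, 5, 6, 6, 3], [3, 3, 3, 2, 2, 2, 3, 2, 4, 4, 3, 3, 4, 3]), ([3, 2, 2, 2, 3, 3, 2, 3, 3, 4, 3, 4, 5, 5, 5, 5, 5, 5, 5, 5, 5], [3, 2, 2, 2, 2, 2, 2]), ([2, 3, 2, 3, 2, 3, 3, 2, 4, 3, 3, 4, 4, 4, 5, 5, 5, 5, 5, 5, 5, 5, 5, 6, 6, 3, 3], [3, 3, 3, 2, 3, 2, 2, 2]),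 ([2, 3, 2, 2, 3, 3, 2, 2, 2, 4, 3, 4, 4, 4, 3, 4, 5, 5, 5, 5, 5, 5, 5, 3, 6, 3], [2, 3, 2, 2, 2, 2, 2, 4, 4, 3, 4, 5, 5, 5, 5, 5, 5, 5, 5, 6, 6, 7, 3, 3]), ([3, 2, 3, 2, 3, 3, 2, 4, 4, 4, 3, 4, 5, 5, 5, 5, 5, 5, 5, 5, 5, 7, 3, 3], [3, 3, 2, 2, 2, 4, 3, 4, 4, 5, 5, 3]), ([3, 2, 4, 3, 4, 4, 5, 5, 5, 5, 5, 5, 5, 5, 6, 7, 3, 3], [2, 2, 3, 3, 3, 2, 2, 4, 3, 4, 5, 5, 5, 6, 3, 3, 3]), ([2, 3, 2, 2, 3, 4, 4, 3, 4, 5, 5, 5, 5, 5, 5, 6, 7, 3, 3, 3], [3, 2, 3, 2, 2, 3, 3, 2, 4, 3, 3, 4, 4, 3, 4, 6, 7, 3, 3]), ([2, 2, 2, 4, 4, 4, 5, 5, 5, 5, 5, 5, 5, 5, 7, 3, 3, 3], [3, 2, 3, 2, 2, 3, 3, 2, 3, 3, 4, 4, 5, 5, 5, 5, 5, 5, 5, 6, 6,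 6, 7, 3]), ([3, 2, 2, 2, 3, 2, 3, 2, 3, 4, 3, 4, 5, 5, 5, 5, 5, 5, 5, 5, 5, 3, 6, 3, 3, 3], [3, 2, 3, 3, 3, 2, 2]), ([3, 3, 2, 2, 2, 3, 2, 2, 2, 4, 4, 3, 4, 5, 5, 5, 5, 5, 5, 5, 3, 6], [3, 3, 3, 2, 3, 2, 2, 2, 3, 3, 4, 3, 4, 5, 5, 5, 5, 5, 6]), ([2, 3, 2, 3, 2, 2, 2, 2, 2, 4, 3, 4, 3, 4, 5, 3, 6, 3, 3], [3, 2, 3, 2, 3, 4, 3, 4, 4, 5, 5, 5, 5, 5, 5, 5, 6, 6, 6, 3, 3]), ([2, 3, 2, 2, 4, 3, 3, 4, 5, 5, 5, 5, 5, 5, 5, 5, 5, 3, 3, 3], [2, 2, 3, 2, 2, 3, 2, 3, 2, 3, 3, 4, 4, 4, 5, 5, 5, 5, 7]), ([2, 3, 2, 2, 2, 2, 4, 3, 4, 4, 4, 5, 5, 5, 5, 6, 6, 3, 3], [3, 2, 3, 2, 2, 2, 2, 2, 3, 3]), ([2, 3, 2, 3, 3, 4, 4, 4, 3, 4, 5, 5,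 5, 5, 5, 6, 7, 3, 3], [3, 3, 3, 2, 4, 3, 3, 4, 4, 4, 5, 5, 5, 5, 5, 7, 3, 3, 3]), ([3, 2, 2, 2, 3, 2, 3, 2, 3, 4, 4, 4, 3, 4, 5, 5, 5, 5, 5, 5, 3], [3, 2, 3, 2, 3, 4, 4, 3, 3, 4, 5, 5, 5, 5, 5, 5, 6, 6, 3, 3]), ([2, 3, 2, 3, 2, 3, 3, 2, 4, 3, 3, 3, 4, 3, 4, 5, 5, 5, 5, 5, 5, 5, 5, 3, 6, 7, 3, 3, 3], [3, 2, 2, 2, 2, 2, 3, 3, 4, 4, 3, 4, 5, 5, 5, 5, 5, 5, 5, 5, 5, 6, 3]), ([2, 3, 2, 3, 3, 2, 2, 2, 3, 4, 3, 4, 5, 5, 6, 6, 6], [2, 2, 3, 2, 2, 2, 2, 3, 3, 4, 4, 5, 5, 5, 3, 6, 7, 3]), ([2, 2, 3, 2, 3, 2, 3, 2, 4, 4, 3, 3, 4, 5, 5, 5, 5, 5, 5, 5, 5, 3, 6, 3], [3, 2, 2, 2, 3, 2, 4, 6, 6, 7]), ([3, 2, 3, 2, 3, 3, 2, 3, 4, 3,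 4, 5, 5, 6, 6, 3, 3], [2, 2, 3, 2, 2, 3, 4, 4, 4, 5, 5, 5, 5, 5, 5, 6, 6, 7, 3, 3]), ([3, 2, 3, 3, 2, 2, 2, 4, 3, 4, 4, 4, 5, 6, 6, 3, 3], [2, 3, 2, 2, 2, 2, 2, 4, 3, 3, 4, 3, 4, 5, 5, 5, 6, 7, 3, 3, 3]), ([3, 3, 3, 2, 2, 2, 4, 4, 3, 3, 4, 5, 5, 5, 5, 5, 5, 5, 5, 5, 6, 6, 7, 3, 3], [2, 3, 2, 3, 2, 2, 2, 2, 2, 3, 3, 4, 3, 4, 5, 5, 5, 5, 5, 5, 5, 5, 5, 6, 6, 6, 7, 3, 3]), ([3, 3, 2, 2, 3, 3, 2, 2, 2, 3, 4, 3, 3, 4, 3, 4, 5, 5, 5, 5, 6, 6, 7, 3, 3, 3], [2, 3, 2, 2, 3, 2, 3, 2, 3, 4, 4, 3, 4, 6, 6, 3, 3]), ([2, 2, 2, 2, 2, 2, 3, 4, 4, 4, 3, 4, 5, 6, 6, 6, 3, 3, 3], [2, 3, 2, 3, 2, 3, 4, 3, 4, 5, 5, 5, 5, 6, 6, 3, 3, 3]),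 ([2, 3, 2, 3, 3, 3, 2, 4, 5, 5, 5, 6, 3], [2, 2, 3, 3, 3, 2, 3, 2, 3, 3, 4, 4, 4, 5, 6, 7, 3, 3, 3]), ([2, 3, 2, 3, 2, 3, 3, 2, 3, 4, 5, 5, 5, 5, 5, 5, 5, 5, 5, 7], [3, 2, 2, 2, 2, 3, 3, 4, 3, 4, 4, 5, 5, 5, 5, 5, 5, 5, 5, 5, 6, 6, 7, 3]), ([3, 3, 2, 2, 2, 3, 2, 3, 4, 3, 4, 4, 5, 5, 5, 5, 5, 5, 5, 5, 5, 6, 6, 6], [2, 2, 2, 3, 3, 2, 4, 4, 5, 5, 5, 5, 5, 5, 5, 6, 7, 3, 3, 3]), ([2, 2, 3, 2, 2, 2, 3, 3, 4, 4, 4, 3, 6, 3], [2, 3, 2, 2, 2, 2, 2, 2, 3, 3, 4, 4, 3, 4, 5, 5, 5, 5, 5, 5, 5, 5, 3, 6, 7]), ([3, 3, 2, 3, 2, 2, 4, 3, 3, 4, 4, 4, 6, 7, 3, 3, 3], [3, 2, 2, 2, 3, 2, 2, 2, 4, 3, 4, 4, 4, 3, 4, 5, 5, 5, 5, 5, 5, 5, 5]),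 ([3, 3, 2, 2, 3, 3, 2, 4, 3, 4, 5, 5, 5, 5, 3, 6, 7, 3, 3], [2, 2, 3, 2, 3, 2, 2, 4, 3, 3, 4, 4, 4, 3, 6, 7]), ([2, 3, 2, 2, 2, 3, 2, 2, 3, 3, 3, 4, 3, 4, 4, 5, 5, 5, 5, 5, 5, 5, 5, 6, 6, 6, 3, 3, 3], [3, 3, 3, 2, 3, 2, 4, 3, 3, 3, 4, 3, 4, 5, 5, 5, 5, 5, 5, 5, 6, 6, 7, 3]), ([2, 3, 2, 2, 3, 2, 3, 4, 4, 4, 5, 5, 5, 5, 5, 5, 6, 6, 7], [2, 3, 3, 2, 2, 2, 3, 3, 3, 4, 3, 4, 4, 5, 5, 5, 5, 5, 5, 5, 7, 3]), ([3, 2, 4, 3, 3, 4, 5, 5, 5, 5, 5, 5, 6, 6, 3, 3, 3], [2, 3, 3, 2, 3, 2, 2, 2, 3, 3, 3, 4, 5, 5, 5, 5, 5, 5, 5, 5, 6, 6, 6, 7]), ([3, 4, 3, 4, 4, 5, 5, 5, 5, 5, 6, 3], [3, 3, 2, 2, 2, 3, 3, 2, 4, 3, 4, 4, 5, 5, 5, 5, 5,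 5, 6, 3, 3]), ([2, 2, 3, 2, 3, 2, 2, 3, 3, 3, 4, 5, 5, 5, 5, 5, 5, 5, 5, 5, 6, 6, 3], [2, 2, 3, 2, 3, 2, 3, 2, 3, 3, 4, 4, 4, 5, 6, 7, 3, 3, 3]), ([2, 2, 3, 2, 2, 2, 3, 3, 4, 4, 4, 3, 4, 5, 5, 5, 5, 5, 5, 5, 5, 3, 6, 3, 3], [3, 2, 3, 3, 2, 2, 2, 4, 3, 4, 5, 5, 5, 5, 6, 7, 3, 3])]]

/-- part of a table -/
def conjs11 : List (List (List ℕ × List ℕ)) :=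
  [[([3, 3, 2, 2, 4, 5, 6, 6, 6, 3, 3, 3], [2, 2, 3, 4, 4, 3, 4, 5, 5, 5, 5, 5, 6, 3, 3, 3]), ([3, 2, 3, 2, 2, 3, 3, 2, 4, 4, 3, 3, 4, 5, 5, 5, 7, 3], [2, 2, 3, 2, 2, 3, 2, 4, 4, 4, 5, 5, 5, 5, 5, 5, 5, 5, 5, 6, 7, 3, 3]), ([2, 2, 3, 2, 3, 2, 3, 4, 3, 4, 4, 5, 5, 5, 5, 7, 3, 3, 3], [2, 2, 3, 2, 3, 2, 3, 2, 3, 3, 4, 3, 4, 4, 5, 5, 5, 5, 5, 5, 5, 5, 5, 6, 6, 7]), ([3, 3, 2, 2, 2, 3, 2, 3, 3, 4, 3, 4, 4, 5, 5, 5, 5, 5, 5, 5, 5, 5, 6, 3], [2, 3, 2, 2, 2, 2, 2, 2, 3, 3, 4, 3, 4, 4, 5, 5, 5, 5, 5, 5, 5, 5, 5, 3, 6, 3]), ([2, 3, 2, 3, 2, 2, 2, 2, 2, 4, 3, 3, 4, 4, 4, 5, 5, 5, 3, 6, 3, 3], [2, 2, 2, 3, 2, 4, 4, 3, 4, 5, 5,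 5, 5, 5, 5, 5, 5, 6, 6, 7, 3, 3]), ([3, 2, 3, 3, 2, 2, 3, 2, 3, 3, 4, 4, 4, 5, 5, 5, 5, 5, 6, 7, 3, 3], [2, 2, 2, 3, 2, 2, 2, 3, 4, 4, 4, 5, 5, 5, 7, 3, 3, 3]), ([2, 2, 2, 3, 2, 4, 3, 3, 4, 4, 3, 4, 5, 5, 5, 5, 5, 5, 5, 5, 6, 3, 3, 3], [3, 3, 2, 3, 3, 3, 2, 4, 4, 3, 4, 5, 5, 5, 5, 5, 5, 5, 5, 6, 7, 3, 3, 3]), ([3, 2, 3, 3, 2, 2, 2, 3, 4, 3, 4, 4, 5, 5, 5, 6, 6, 7], [3, 2, 3, 3, 3, 2, 4, 3, 4, 5, 5, 5, 5, 3, 6, 3]), ([3, 2, 2, 2, 3, 3, 3, 2, 3, 4, 4, 4, 5, 6], [2, 2, 3, 2, 3, 3, 3, 2, 3, 4, 5, 5, 5, 7, 3, 3, 3]), ([2, 2, 2, 2, 3, 3, 2, 4, 3, 4, 4, 5, 5, 7, 3, 3], [3, 2, 4, 5, 5, 5, 5, 5, 5, 6, 7]), ([2, 2, 2, 2, 3, 3,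 2, 4, 3, 3, 4, 5, 5, 5, 5, 6, 6, 7, 3, 3, 3], [2, 3, 3, 2, 2, 3, 2, 4, 5, 5, 5, 5, 5, 5, 5, 5, 5, 6, 6]), ([3, 3, 2, 2, 3, 3, 2, 4, 3, 4, 5, 5, 5, 5, 5, 5, 5, 7, 3, 3], [3, 2, 2, 3, 2, 3, 2, 4, 3, 4, 4, 4, 3, 6, 7, 3, 3]), ([3, 2, 2, 4, 5, 6, 6, 6], [3, 3, 3, 2, 2, 3, 4, 4, 3, 4, 5, 5, 5, 5, 5, 6, 3, 3, 3]), ([3, 2, 3, 3, 2, 2, 3, 2, 4, 4, 4, 3, 4, 5, 5, 3, 6, 3], [2, 2, 3, 2, 3, 3, 4, 4, 4, 3, 4, 5, 5, 5, 6, 6, 6, 3, 3]), ([2, 2, 2, 3, 2, 4, 4, 4, 3, 4, 5, 5, 5, 5, 5, 5, 5, 6, 6, 6, 3, 3, 3], [3, 2, 3, 3, 2, 3, 3, 4, 3, 4, 5, 5, 5, 5, 5, 5, 5, 5, 5, 6, 6, 6, 7, 3]), ([2, 3, 2, 3, 4, 4, 3, 4, 5, 5, 5, 6, 7, 3], [2,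 3, 2, 2, 4, 5, 5, 5, 5, 5, 5, 6, 6]), ([2, 3, 2, 3, 3, 2, 2, 2, 4, 3, 4, 4, 4, 3, 4, 5, 5, 5, 5, 5, 5, 5, 5, 6, 3, 3], [2, 2, 3, 2, 4, 3, 3, 4, 4, 3, 4, 5, 5, 5, 5, 5, 5, 5, 6, 6, 7, 3, 3, 3]), ([2, 3, 3, 2, 2, 3, 2, 3, 4, 3, 4, 5, 5, 5, 5, 5, 5, 5, 5, 5, 6, 6, 3], [2, 2, 2, 3, 3, 2, 4, 5, 5, 5, 5, 5, 5, 6, 6, 3, 3, 3]), ([3, 2, 2, 2, 2, 3, 3, 4, 3, 4, 5, 5, 5, 5, 6, 6, 7, 3], [2, 2, 3, 2, 3, 3, 2, 2, 2, 4, 3, 3, 4, 4, 3, 4, 5, 5, 5, 5, 5, 5, 5, 5, 7, 3]), ([3, 3, 4, 3, 4, 5, 5, 5, 5, 5, 5, 5, 5, 6, 6, 6, 7, 3], [3, 2, 2, 3, 3, 3, 2, 2, 4, 4, 5, 5, 5, 5, 6, 3]), ([3, 2, 3, 2, 3, 2, 5, 5, 5, 5, 5, 5, 5, 5, 6, 6, 3, 3,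 3], [3, 2, 3, 3, 2, 2, 2, 3, 3, 4, 3, 4, 4, 5, 5, 3, 3]), ([2, 3, 2, 2, 2, 2, 4, 3, 4, 3, 4, 5, 7, 3, 3], [2, 3, 3, 2, 3, 2, 4, 3, 4, 4, 4, 5, 5, 5, 5, 5, 5, 5, 5, 5, 3, 6]), ([3, 2, 2, 2, 2, 2, 2, 3, 4, 4, 4, 3, 4, 5, 6, 6, 6, 3, 3], [3, 2, 3, 2, 2, 2, 4, 4, 5, 5, 5, 6, 6, 7, 3, 3, 3]), ([3, 3, 4, 4, 5, 5, 5, 5, 5, 6, 6, 3, 3], [3, 3, 2, 3, 2, 2, 2, 3, 4, 4, 5, 5, 5, 3, 6, 7, 3, 3]), ([4, 4, 3, 4, 5, 5, 5, 5, 7], [3, 3, 2, 4, 4, 5, 5, 5, 5, 5, 5, 5, 6, 7]), ([4, 4, 3, 3, 4, 5, 5, 3, 6, 3, 3], [2, 2, 2, 2, 2, 3, 3, 4, 3, 4, 5, 5, 5, 5, 5, 5, 5, 5, 5, 6, 6, 3, 3]), ([3, 3, 3, 4, 3, 4, 5, 5, 6, 7, 3, 3], [2, 2, 3, 2,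 3, 2, 2, 3, 4, 3, 4, 4, 5, 5, 5, 5, 6, 6, 6, 3, 3]), ([2, 2, 3, 2, 3, 2, 2, 4, 3, 4, 3, 4, 5, 5, 5, 5, 5, 5, 5, 5, 5, 3, 6, 7, 3, 3, 3], [3, 2, 2, 3, 2, 3, 3, 4, 5, 6, 6, 3, 3, 3]), ([2, 3, 2, 3, 3, 2, 2, 2, 4, 3, 4, 4, 4, 3, 4, 5, 5, 5, 5, 5, 5, 5, 6, 6, 7], [3, 2, 3, 2, 3, 3, 2, 3, 3]), ([2, 3, 2, 3, 4, 4, 3, 4, 5, 5, 5, 5, 5, 5, 6, 6, 6, 7, 3], [3, 2, 2, 3, 2, 3, 2, 3, 4, 3, 4, 4, 5, 5, 5, 5, 5, 5, 7, 3, 3, 3]), ([3, 2, 3, 3, 2, 4, 3, 3, 4, 5, 5, 5, 6, 7, 3, 3, 3], [3, 2, 3, 3, 3, 2, 3, 2, 3, 3, 4, 4, 4, 5, 6, 7, 3, 3, 3]), ([3, 2, 2, 2, 2, 2, 2, 3, 4, 4, 4, 5, 5, 6, 6], [3, 2, 3, 2, 3, 2, 3, 3, 4, 4, 4, 5, 6, 7,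 3, 3, 3]), ([2, 2, 3, 2, 3, 2, 3, 2, 4, 4, 3, 3, 4, 5, 5, 5, 5, 6, 6, 6, 7, 3], [2, 2, 2, 2, 3, 3, 2, 3, 3, 4, 4, 5, 5, 5, 5, 5, 5, 5, 6, 6, 6, 7]), ([2, 3, 2, 2, 2, 4, 3, 3, 4, 4, 3, 4, 5, 5, 5, 5, 6, 6], [2, 2, 3, 3, 3, 2, 3, 2, 2, 3, 4, 4, 3, 3, 4, 5, 5, 5, 5, 5]), ([2, 2, 3, 2, 2, 3, 3, 3, 4, 3, 4, 4, 5, 5, 5, 5, 5, 5, 7, 3, 3], [2, 2, 2, 2, 2, 3, 2, 3]), ([2, 2, 3, 2, 2, 2, 2, 2, 2, 3, 4, 5, 5, 5, 5, 5, 5, 3, 6, 3, 3], [3, 2, 3, 2, 2, 2, 2, 3, 4, 4, 5, 5, 5, 5, 5, 5, 5, 3, 6, 7]), ([3, 2, 3, 2, 2, 4, 4, 3, 3, 4, 5, 6, 6], [3, 2, 3, 2, 2, 3, 3, 2, 3, 4, 3, 4, 4, 5, 5, 6, 7, 3, 3]), ([2, 2, 3, 2, 2, 2, 3, 3, 4, 4,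 4, 3, 4, 5, 5, 5, 5, 5, 6, 6, 3, 3], [2, 2, 3, 2, 3, 2, 2, 3, 3, 4, 3, 4, 4, 5, 5, 3, 6, 3, 3, 3]), ([2, 3, 3, 3, 2, 3, 3, 2, 4, 3, 3, 4, 4, 3, 4, 5, 6, 3, 3, 3], [3, 2, 3, 3, 4, 4, 3, 4, 6, 3, 3, 3]), ([2, 2, 3, 2, 2, 3, 2, 4, 3, 4, 4, 4, 3, 4, 5, 5, 5, 5, 5, 5, 5, 5, 5, 7, 3, 3, 3], [3, 2, 2, 3, 3, 4, 3, 4, 4, 5, 5, 7, 3, 3, 3]), ([2, 2, 3, 2, 2, 3, 2, 3, 3, 4, 3, 4, 5, 5, 5, 5, 5, 5, 5, 5, 5, 6, 6, 7], [2, 3, 2, 2, 3, 3, 2, 3, 3, 3, 4, 5, 5, 5, 5, 5, 5, 5, 5, 6, 6, 3]), ([2, 2, 4, 6, 3], [2, 3, 2, 3, 2, 2, 4, 4, 4, 5, 5, 5, 3, 6, 3, 3]), ([2, 3, 3, 2, 3, 2, 2, 2, 3, 4, 6, 6, 6, 3, 3, 3], [3, 2, 3, 3, 2, 2, 3, 2,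 4, 4, 5, 5, 5, 5, 5, 5, 5, 5, 5, 6, 6, 6]), ([2, 3, 2, 3, 4, 3, 3, 4, 3, 4, 5, 5, 5, 3, 6, 7, 3, 3], [3, 2, 2, 2, 3, 2, 4, 4, 3, 3, 4, 3, 3]), ([2, 3, 2, 3, 3, 2, 2, 2, 3, 4, 4, 3, 4, 5, 5, 5, 6, 6, 7], [3, 3, 2, 2, 3, 3, 4, 4, 4, 5, 5, 5, 5, 5, 5, 5, 5, 5, 3, 6, 3]), ([3, 3, 2, 3, 2, 2, 2, 3, 3, 4, 4, 5, 5, 5, 5, 6, 7, 3, 3, 3], [2, 2, 2, 3, 2, 2, 3, 4, 4, 3, 4, 5, 5, 5, 5, 5, 5, 5, 5, 5, 6, 3, 3]), ([2, 3, 3, 3, 2, 4, 3, 3, 3, 4, 3, 4, 5, 5, 5, 5, 5, 6, 3, 3], [2, 2, 2, 3, 2, 3, 2, 3, 4, 3, 4, 5, 6, 6, 7, 3, 3]), ([3, 3, 2, 2, 2, 2, 3, 2, 4, 3, 4, 4, 4, 3, 4, 5, 5, 5, 5, 5, 5, 5, 6, 6, 6, 7, 3, 3, 3], [3, 3, 3, 2,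 3, 2, 3, 4, 4, 4, 5, 6, 6, 6, 3, 3]), ([4, 4, 5, 5, 5, 5, 5, 5, 5, 5, 6, 7, 3, 3], [2, 2, 2, 3, 3, 2, 4, 4, 3, 3, 4, 5, 5, 5, 5, 5, 5, 5, 3, 6, 7, 3]), ([4, 4, 3, 3, 4, 6, 6, 6, 3], [3, 2, 2, 2, 3, 2, 3, 2, 3, 4, 4, 4, 6, 3, 3, 3]), ([2, 2, 2, 3, 3, 3, 2, 3, 3, 4, 3, 4, 5, 5, 5, 6, 6, 7, 3, 3, 3], [3, 2, 2, 2, 3, 2, 2, 2, 4, 3, 4, 5, 5, 6, 7, 3, 3, 3]), ([2, 2, 2, 3, 2, 4, 4, 4, 3, 4, 5, 5, 5, 5, 5, 5, 5, 5, 7, 3], [2, 2, 2, 3, 2, 2, 2, 4, 4, 3, 3, 4, 5, 6, 7, 3]), ([3, 2, 3, 3, 2, 2, 3, 2, 4, 4, 4, 3, 4, 5, 3, 6, 3, 3, 3], [3, 3, 3, 2, 2, 2, 2, 3, 4, 4, 4, 3, 4, 5, 5, 5, 5, 5, 6, 3, 3]), ([3, 2, 2, 3, 2, 3, 2, 4, 3,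 3, 3, 4, 3, 4, 5, 5, 5, 5, 5, 6, 6, 6], [2, 3, 3, 2, 2, 3, 3, 2, 4, 4, 5, 5, 5, 5, 5, 5, 5, 6, 6, 7, 3]), ([3, 2, 2, 3, 2, 3, 2, 4, 3, 3, 4, 3, 4, 5, 5, 5, 5, 5, 5, 5, 5, 6, 6, 6, 7], [2, 3, 3, 3, 2, 2, 3, 4, 4, 4, 5, 5, 5, 5, 5, 5, 5, 5, 6, 3, 3]), ([3, 2, 2, 3, 2, 3, 2, 4, 3, 4, 4, 4, 3, 4, 5, 5, 6, 6, 6], [2, 2, 2, 2, 4, 3, 4, 4, 4, 3, 4, 5, 5, 6, 6, 7]), ([3, 2, 2, 3, 2, 3, 2, 3, 3, 3, 4, 3, 4, 5, 5, 5, 6, 6, 7], [2, 2, 3, 3, 3, 2, 3, 3, 4, 6, 6, 3, 3]), ([3, 2, 3, 2, 3, 3, 4, 4, 4, 3, 4, 5, 5, 5, 5, 5, 6, 7, 3], [2, 4, 3, 3, 4, 4, 4, 5, 5, 5, 5, 5, 7, 3, 3, 3]), ([3, 2, 3, 2, 4, 3, 4, 5, 5, 5, 5, 5, 5, 5, 5, 6,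 7, 3], [2, 3, 3, 2, 3, 2, 3, 3, 4, 4, 4, 5, 6, 7, 3, 3]), ([3, 2, 3, 2, 3, 4, 4, 3, 3, 4, 6, 6, 6, 3, 3], [3, 3, 2, 2, 3, 3, 2, 3, 4, 4, 3, 3, 4, 5, 5, 5, 5, 5, 5, 5, 6, 6, 6, 7, 3, 3]), ([2, 2, 3, 2, 3, 2, 3, 2, 3, 4, 4, 4, 5, 5], [3, 2, 3, 2, 2, 2, 3, 2, 2, 4, 4, 3, 3, 4, 5, 6, 6]), ([2, 2, 3, 3, 2, 2, 2, 3, 4, 3, 3, 4, 3, 4, 5, 5, 5, 5, 6, 6, 7, 3], [3, 2, 2, 3, 2, 3, 2, 3, 4, 5, 5, 5, 5, 3, 6, 7]), ([2, 3, 2, 3, 2, 2, 2, 2, 2, 5, 5, 5, 5, 5, 5, 7, 3], [2, 2, 2, 3, 2, 3]), ([2, 2, 3, 2, 2, 2, 2, 2, 2, 4, 3, 4, 5, 5, 5, 5, 5, 5, 5, 5, 6, 3], [3, 3, 2, 2, 4, 3, 3, 3, 4, 3, 4, 5, 5, 5, 5, 5, 7])],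
    [([3, 2, 3, 2, 2, 4, 3, 3, 3, 4, 3, 4, 5, 5, 5, 5, 5, 3, 6, 3, 3], [2, 2, 2, 3, 2, 3, 4, 3, 3, 4, 3, 4, 5, 3, 6, 7, 3, 3]), ([3, 2, 3, 2, 2, 2, 2, 2, 3, 4, 4, 5, 5, 5, 5, 5, 6, 6, 6, 7, 3], [2, 2, 3, 2, 3, 3, 2, 2, 2, 4, 3, 4, 4, 5, 5, 6, 6, 6, 7, 3, 3]), ([2, 2, 3, 3, 2, 2, 2, 4, 3, 4, 3, 4, 5, 5, 5, 5, 5, 5, 6, 3, 3, 3], [3, 2, 3, 3, 3, 2]), ([3, 2, 3, 3, 2, 2, 2, 3, 3, 4, 4, 3, 4, 6, 6, 6, 3], [3, 2, 3, 2, 2, 2, 2, 2, 2]), ([2, 3, 2, 2, 3, 3, 2, 3, 3, 4, 4, 3, 4, 5, 5, 5, 5, 5, 5, 5, 5, 5, 6, 6, 6, 7, 3, 3], [3, 2, 3, 3, 3, 2, 2, 3, 3, 4, 3, 4, 4, 5, 5, 3]), ([3, 3, 2, 2, 2, 3, 3, 2, 3, 3, 4, 3, 4, 5, 5, 5, 5,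 5, 6], [2, 3, 2, 2, 2, 2, 2, 3, 3, 3, 4, 3, 4, 4, 5, 5, 5, 5, 5, 5, 5, 5, 5, 6, 6, 7, 3]), ([2, 2, 3, 2, 3, 3, 2, 2, 2, 3, 4, 4, 4, 3, 4, 5, 5, 5, 6, 6, 6], [2, 3, 3, 2, 4, 3, 4, 5, 5, 5, 5, 5, 5, 5, 6, 7, 3, 3]), ([3, 3, 2, 2, 2, 2, 4, 3, 3, 4, 3, 4, 5, 5, 6], [3, 3, 3, 2, 2, 2, 2, 3, 2, 3, 4, 3, 3, 4, 3, 4, 7, 3, 3, 3]), ([3, 3, 2, 2, 2, 2, 3, 4, 4, 5, 5, 5, 6, 6, 7], [2, 3, 3, 3, 2, 2, 4, 3, 3, 4, 3, 4, 5, 5, 5, 6, 6, 6, 3, 3, 3]), ([2, 3, 2, 3, 3, 2, 4, 3, 4, 5, 5, 5, 5, 5, 5, 5, 5, 3, 6], [3, 3, 2, 2, 2, 2, 4, 3, 4, 4, 4, 3, 4, 5, 5, 6, 6, 7, 3, 3, 3]), ([2, 3, 3, 3, 2, 2, 2, 3, 2, 3, 3, 4, 5, 5], [2, 2, 2, 2,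 3, 3, 4, 3, 4, 4, 5, 5, 5, 5, 5, 5, 5, 5, 5, 6, 6, 7, 3]), ([2, 2, 3, 2, 2, 3, 4, 4, 4, 3, 4, 3], [2, 2, 2, 3, 2, 3, 2, 3, 4, 3, 3, 4, 3, 4, 3, 6, 7, 3, 3]), ([2, 3, 2, 2, 2, 3, 2, 3, 3, 4, 3, 4, 5, 5, 5, 5, 3, 3, 3], [2, 2, 3, 2, 2, 2, 2, 2, 4, 3, 3, 4, 4, 3, 4, 3, 6]), ([2, 2, 2, 3, 2, 3, 2, 2, 3, 4, 4, 5, 5, 5, 5, 5, 5, 5, 5, 6, 7, 3, 3, 3], [2, 2, 3, 2, 3, 3, 2, 2, 2, 3, 4, 3, 3, 4, 3, 4, 5, 5, 6, 7, 3]), ([2, 2, 3, 3, 2, 3, 4, 3, 4, 5, 5, 5, 5, 6, 6, 6, 3], [2, 3, 3, 3, 2, 4, 3, 3, 4, 4, 4, 5, 5, 5, 5, 5, 7, 3, 3, 3]), ([3, 2, 3, 3, 2, 2, 2, 4, 3, 3, 3, 4, 3, 4, 5, 5, 5, 5, 6, 6, 3, 3, 3], [3, 3, 2, 3, 2, 3, 3,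 4, 3, 4, 4, 5, 5, 5, 5, 3, 3, 3]), ([3, 3, 3, 2, 2, 3, 3, 3, 4, 5, 5, 7, 3, 3, 3], [2, 2, 2, 2, 3, 3, 2, 3, 4, 4, 3, 4, 5, 5, 5, 5, 5, 7, 3, 3]), ([3, 3, 2, 3, 3, 4, 6, 6, 6, 7, 3, 3], [3, 2, 2, 2, 2, 2, 3, 3, 4, 4, 5, 5, 5, 5, 5, 5, 5, 5, 7, 3, 3, 3]), ([3, 3, 2, 2, 2, 2, 2, 4, 3, 3, 4, 4, 3, 4, 5, 5, 5, 5, 5, 5, 5, 5, 5, 6, 6, 3], [2, 3, 2, 3, 4, 4, 5, 5, 5, 5, 5, 5, 5, 3, 6, 3]), ([2, 3, 3, 2, 3, 3, 2, 2, 2, 3, 3, 4, 3, 4, 4, 5, 5, 5, 5, 5, 5, 5, 6, 7, 3], [2, 3, 2, 3, 2, 3, 3, 2, 4, 4, 3, 3, 4, 5, 5, 5, 3, 6, 3]), ([3, 3, 2, 2, 3, 2, 3, 3, 4, 4, 5, 5, 5, 5, 5, 5, 5, 5, 5, 6, 6, 3, 3, 3], [2, 2, 3, 2, 2, 2, 2, 2,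 2, 3, 4, 4, 5, 5, 5, 5, 5, 5, 5, 3, 6, 3]), ([3, 2, 3, 3, 4, 5, 5, 5, 5, 5, 5, 5, 5, 6, 6, 7], [2, 2, 2, 3, 2, 2, 3]), ([2, 3, 2, 2, 3, 3, 2, 2, 2, 3, 3, 4, 4, 4, 5, 5, 5, 5, 5, 6], [3, 3, 2, 2, 2, 3, 2, 2, 2]), ([4, 4, 3, 3, 4, 5, 5, 5, 5, 6, 3, 3, 3], [3, 3, 2, 2, 2, 2, 2, 3, 3, 4, 3, 4, 5, 5, 5, 5, 5, 5, 5, 5, 5, 6, 6, 3, 3]), ([2, 2, 3, 2, 3, 3, 3, 2, 3, 4, 3, 3, 4, 3, 4, 5, 5, 5, 5, 5, 5, 5, 5, 6, 7, 3, 3], [3, 3, 2, 2, 3, 3, 2, 2, 2, 4, 3, 3, 4, 5, 5, 6, 6, 6]), ([3, 2, 3, 2, 3, 2, 3, 4, 3, 3, 4, 3, 4, 5, 5, 5, 6, 6, 6, 7, 3], [2, 2, 2, 3, 3, 3, 2, 4, 4, 5, 7, 3, 3]), ([2, 2, 2, 3, 3, 3, 2, 4, 3, 4, 5, 5, 5, 5,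 5, 5, 5, 5, 3, 6, 7, 3], [2, 2, 2, 3, 2, 3, 2, 3]), ([3, 4, 3, 3, 4, 3, 4, 6, 6, 6, 3], [3, 3, 2, 2, 3, 3, 2, 2, 2, 4, 3, 4, 3, 4, 5, 5, 5, 5, 5, 5, 5, 5, 5, 6, 6, 7]), ([2, 2, 2, 2, 3, 2, 3, 3, 3, 4, 3, 4, 4, 5, 5, 5, 5, 5, 5, 5, 6, 6, 6], [2, 2, 2, 3, 2, 2, 4, 3, 4, 4, 5, 6, 7, 3, 3, 3]), ([2, 2, 2, 3, 2, 3, 2, 2, 4, 5, 5, 5, 5, 6, 6, 6, 7, 3, 3], [3, 3, 2, 3, 3, 2]), ([3, 4, 4, 4, 5, 5, 5, 5, 5, 5, 6, 6, 7, 3, 3], [3, 3, 3, 2, 3, 2, 2, 2, 3, 4, 4, 4, 5, 5, 5, 7, 3, 3, 3]), ([3, 2, 3, 3, 2, 4, 3, 4, 4, 4, 5, 5, 5, 5, 5, 6, 6, 7, 3], [3, 3, 2, 3, 3, 4, 3, 4, 4, 5, 5, 5, 5]), ([3, 2, 2, 2, 3, 2, 3, 2, 3, 3, 4, 4, 3,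 4, 5, 5, 5, 5, 5, 5, 7, 3, 3, 3], [3, 2, 2, 2, 2, 3, 4, 4, 4, 3, 4, 5, 5, 6, 6]), ([3, 2, 2, 2, 3, 3, 2, 4, 4, 3, 3, 4, 5, 5, 5, 5, 5, 5, 5, 5, 5, 6, 3, 3], [3, 3, 2, 2, 2, 3, 2, 3]), ([3, 3, 2, 2, 2, 2, 2, 4, 3, 4, 4, 5, 5, 7], [2, 2, 3, 2, 3, 3, 2, 2, 2, 4, 3, 4, 5, 5, 5, 5, 7, 3, 3]), ([2, 3, 2, 3, 3, 2, 4, 4, 4, 5, 5, 5, 5, 5, 5, 5, 5, 6, 7, 3, 3, 3], [3, 2, 2, 3, 3, 3, 2, 2, 3, 3, 4, 4, 4, 3, 4, 5, 5, 5, 5, 6, 6, 6, 3]), ([2, 2, 2, 2, 3, 2, 3, 3, 3, 4, 3, 4, 4, 5, 5, 5, 5, 5, 5, 5, 5, 5, 3], [2, 2, 4, 3, 4, 4, 4, 5, 5, 5, 6, 3, 3, 3]), ([3, 2, 2, 3, 2, 4, 3, 4, 4, 4, 5, 5, 5, 5, 5, 5, 5, 5, 7], [2, 2, 2, 2, 2,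 3, 2, 4, 3, 3, 4, 4, 4, 5, 3, 6, 3]), ([2, 2, 3, 3, 2, 3, 4, 3, 4, 5, 5, 5, 5, 5, 5, 5, 5, 6, 6, 6, 3, 3, 3], [2, 2, 3, 2, 3, 2, 4, 4, 3, 3, 4, 5, 5, 5, 5, 5, 5, 5, 3]), ([3, 2, 3, 3, 4, 5, 5, 5, 5, 5, 5, 3, 6, 3], [2, 3]), ([3, 3, 2, 3, 2, 2, 3, 4, 3, 3, 4, 3, 4, 5, 5, 3, 6, 7, 3, 3], [3, 2, 3, 2, 3, 2, 4, 3, 4, 4, 4, 5, 5, 5, 5, 5, 5, 5, 5, 5, 3, 6]), ([3, 3, 3, 2, 2, 3, 3, 3, 4, 5, 5, 5, 5, 5, 5, 7, 3], [2, 2, 3, 2, 2, 2, 2, 2, 3, 3, 4, 4, 4, 3, 4, 5, 5, 5, 6, 6, 6, 3]), ([2, 3, 2, 2, 2, 4, 5, 5, 5, 5, 5, 5, 5, 5, 6, 6, 7, 3, 3], [2, 2, 2, 2, 2, 3, 2, 3, 3, 4, 4, 3, 4, 5, 6, 6, 3]), ([2, 2, 3, 2, 2, 3, 4, 5, 5, 5,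 5, 5, 5, 6, 6, 7, 3], [2, 4, 3, 3, 4, 4, 4, 5, 5, 5, 5, 5, 7]), ([3, 3, 2, 3, 3, 4, 5, 5, 5, 5, 3, 6, 7, 3, 3, 3], [2, 2, 4, 3, 4, 4, 5, 5, 5, 5, 5, 6, 6, 7, 3, 3, 3]), ([2, 3, 2, 2, 3, 2, 3, 4, 3, 3, 4, 3, 4, 5, 5, 5, 5, 5, 5, 5, 6, 6, 7, 3], [3, 2, 3, 2, 2, 2, 3, 2, 2]), ([2, 2, 3, 3, 3, 2, 3, 3, 4, 4, 5, 3], [3, 3, 3, 2, 3, 2, 3, 2, 4, 4, 3, 4, 5, 5, 5, 5, 5, 5, 5, 6, 6, 6, 7, 3]), ([2, 3, 3, 3, 2, 3, 2, 4, 4, 5, 5, 5, 5, 5, 5, 6, 7], [3, 2, 3, 2, 2, 2, 2, 2, 2, 3, 3, 3, 4, 3, 4, 4, 5, 5, 5, 5, 5, 5, 5, 5, 3, 6, 7, 3]), ([3, 3, 2, 2, 2, 3, 2, 2, 2, 3, 4, 4, 4, 3, 4, 5, 6, 3, 3], [2, 2, 3, 3, 2, 3, 3, 3]), ([3, 2,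 2, 2, 3, 2, 3, 2, 3, 3, 4, 4, 3, 4, 5, 5, 5, 5, 5, 5, 3, 3], [3, 3, 3, 2, 3, 2, 2, 2, 3, 3, 3]), ([2, 2, 2, 2, 3, 2, 5, 5, 5, 5, 5, 5, 5, 6, 6, 3, 3, 3], [2, 3, 3, 3, 2, 3, 2, 2, 4, 4, 4, 3, 4, 5, 5, 5, 5, 5, 6, 6]), ([5, 5, 5, 5, 5, 5, 5, 5, 6, 6], [3, 3, 2, 2, 2, 3, 3, 2, 3, 4, 4, 4, 3, 4, 5, 5, 5, 5, 5, 6, 6, 6, 7]), ([2, 2, 2, 3, 2, 3, 2, 2, 4, 4, 5, 5, 5, 5, 5, 5, 5, 5, 3, 6, 3, 3], [2, 2, 2, 3, 2, 2, 3, 3, 3, 4, 5, 5, 5, 6, 6, 6, 7, 3]), ([2, 2, 3, 2, 3, 2, 2, 4, 3, 4, 4, 4, 3, 4, 5, 5, 5, 5, 5, 5, 5, 5, 3, 6, 7, 3], [2, 3, 3, 2, 2, 2, 3, 4, 3, 4, 4, 5, 5, 5, 5, 5, 5, 5, 5, 5, 3, 3]), ([3, 2, 2, 3, 3, 2, 2, 2,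 4, 3, 3, 3, 4, 3, 4, 5, 5, 5, 7, 3, 3], [2, 2, 3, 2, 2, 2, 3, 3, 4, 3, 4, 4, 5, 5, 5, 5, 5, 5, 5, 5, 6, 3, 3, 3]), ([3, 2, 3, 2, 3, 2, 5, 5, 5, 5, 5, 6, 6, 6, 7, 3], [3, 3, 3, 2, 3, 3, 2, 3]), ([3, 2, 2, 3, 3, 2, 2, 2, 3, 4, 3, 3, 4, 3, 4, 5, 5, 5, 5, 3, 6, 3, 3, 3], [3, 3, 2, 3, 3, 3, 2, 4, 3, 4, 5, 5, 5, 5, 5, 3, 6, 7, 3]), ([3, 3, 2, 2, 2, 2, 3, 2, 4, 3, 4, 4, 4, 3, 4, 5, 5, 5, 5, 5, 5, 5, 5, 6, 7, 3, 3, 3], [3, 3, 2, 3, 3, 2, 3, 3, 4, 3, 4, 5, 5, 5, 5, 5, 5, 5, 6, 6, 3, 3, 3]), ([2, 2, 2, 3, 3, 3, 2, 3, 3, 3, 4, 3, 4, 4, 5, 5, 6, 6, 6, 7, 3, 3, 3], [2, 2, 3, 2, 3, 3, 4, 3, 4, 4, 5, 5, 5, 5, 3, 3, 3]), ([2, 2, 3,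 2, 3, 2, 3, 2, 3, 4, 3, 4, 4, 5, 5, 5, 6, 6, 7, 3, 3], [2, 2, 3, 3, 3, 2, 4, 3, 4, 5, 5, 5, 5, 5, 3, 6, 7, 3]), ([2, 3, 2, 2, 3, 2, 4, 3, 3, 4, 4, 4, 5, 5, 6, 6, 6, 7, 3, 3], [3, 3, 2, 3, 2, 2, 3, 4, 4, 5, 5, 5, 5, 5, 5, 5, 5, 3, 6]), ([3, 2, 3, 2, 2, 2, 2, 2, 4, 4, 3, 3, 4, 5, 5, 6, 6, 6, 7], [2, 3, 3, 2, 2, 3, 2, 4, 3, 4, 4, 4, 3, 4, 5, 6, 6, 6, 7, 3]), ([3, 3, 3, 4, 3, 4, 5, 5, 5, 5, 5, 5, 6, 6, 3, 3], [2, 2, 3, 2, 2, 3]), ([2, 2, 3, 2, 3, 3, 3, 2, 4, 4, 4, 3, 4, 5, 5, 5, 5, 5, 5, 6, 6, 6], [2, 3, 2, 2, 3, 2, 3, 2, 3])],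
    [([2, 2, 2, 3, 3, 3, 2, 3, 3, 4, 4, 4, 3, 4, 5, 5, 3, 6, 7, 3, 3, 3], [3, 3, 2, 3, 3, 2, 3, 3]), ([5, 5, 5, 5, 5, 5, 3, 6, 7, 3, 3, 3], [3, 3, 2, 2, 3, 3, 2, 4, 3, 3, 4, 4, 3, 4, 6, 7, 3, 3, 3]), ([3, 2, 3, 2, 3, 2, 4, 3, 3, 3, 4, 3, 4, 5, 5, 5, 5, 5, 3, 6, 7, 3, 3], [2, 2, 2, 3, 3, 3, 2, 4, 3, 4, 5, 5, 5, 5, 5, 3, 6, 7, 3, 3]), ([3, 2, 3, 2, 3, 3, 2, 3, 4, 4, 3, 3, 4, 5, 5, 5, 5, 5, 5, 6, 6, 3, 3, 3], [2, 2, 2, 2, 4, 5, 5, 5, 5, 5, 5, 5, 5, 5, 3, 6, 7, 3, 3]), ([2, 3, 3, 2, 3, 2, 2, 2, 4, 3, 4, 4, 4, 5, 5, 5, 5, 5, 6, 6], [2, 2, 3, 2, 3, 2, 3, 4, 3, 4, 4, 5, 5, 5, 6]), ([2, 2, 3, 3, 3, 2, 2, 4, 3, 3, 4, 4, 4, 5,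 6, 7, 3], [2, 3, 2, 2, 3, 3, 2, 2, 2]), ([2, 3, 2, 2, 3, 2, 3, 2, 3, 4, 4, 3, 3, 4, 5, 5, 5, 5, 5, 5, 3, 3], [2, 2, 2, 2, 3, 2, 4, 6, 6, 7, 3, 3]), ([2, 3, 2, 2, 3, 2, 3, 2, 3, 4, 4, 3, 3, 4, 5, 5, 5, 5, 6, 6, 6, 3], [3, 2, 2, 2, 2, 2, 3, 3, 3, 4, 5, 5, 5, 5, 6, 3, 3]), ([3, 3, 2, 3, 3, 3, 2, 4, 4, 3, 3, 4, 5, 5, 5, 5, 5, 5, 5, 5, 6, 6, 7], [3, 3, 2, 2, 2, 3, 3, 2, 4, 3, 4, 3, 4, 5, 3, 6]), ([3, 3, 2, 3, 3, 3, 2, 4, 4, 3, 3, 4, 5, 5, 6, 6, 6, 7, 3], [3, 3, 2, 2, 2, 3, 2, 2, 2, 4, 3, 3, 4, 4, 4, 5, 5, 5, 5, 5, 5, 5, 5, 6, 6, 6, 3, 3]), ([2, 3, 2, 2, 2, 2, 2, 2, 4, 4, 5, 5, 5, 5, 5, 5, 5, 5, 3], [2, 2, 3, 2, 2, 3, 2,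 3, 2, 3, 3, 3, 4, 3, 4, 4, 5, 5, 5, 5, 5, 5, 5, 6, 7, 3, 3]), ([2, 2, 3, 2, 2, 3, 3, 4, 3, 4, 4, 5, 5, 5, 5, 5, 5, 3, 6, 7, 3], [2, 3, 2, 3, 2, 2, 4, 4, 5, 5, 5, 5, 6, 6, 3]), ([3, 3, 2, 2, 2, 2, 2, 4, 3, 3, 4, 5, 5, 5, 3, 6, 3, 3], [3, 2, 2, 2, 3, 2, 2, 4, 3, 4, 4, 5, 5, 5, 5, 5, 5, 5, 5, 5, 6, 6, 7, 3, 3]), ([2, 3, 3, 3, 2, 3, 2, 4, 3, 4, 4, 6, 6, 6], [2, 3, 2, 2, 2, 3, 2, 3, 3, 4, 3, 4, 5, 5, 3, 6, 7, 3, 3, 3]), ([2, 3, 2, 2, 3, 2, 3, 4, 3, 3, 4, 3, 4, 5, 6, 6, 6, 7, 3, 3], [3, 2, 2, 2, 3, 2, 2, 2, 3, 3, 3]), ([3, 3, 2, 3, 3, 4, 5, 5, 5, 5, 5, 5, 6, 6], [3, 2, 3, 3, 3, 2, 4, 4, 5, 5, 5, 5, 3, 6, 3, 3, 3]), ([2, 2,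 3, 2, 2, 2, 2, 4, 4, 4, 3, 4, 5, 5, 5, 5, 5, 5, 5, 5, 3, 3], [2, 3, 2, 2, 3, 2, 3, 4, 4, 5, 5, 3, 6, 3]), ([2, 2, 3, 2, 2, 2, 2, 4, 4, 4, 3, 4, 5, 5, 5, 5, 5, 5, 6, 6, 6, 3], [2, 2, 2, 3, 2, 3, 2, 3, 4, 4, 3, 3, 4, 5, 5, 5, 5, 5, 5, 5, 5, 5, 6]), ([2, 2, 3, 2, 5, 5, 5, 5, 5, 6, 6, 7], [2, 2, 3, 2, 2, 2, 3, 3, 3, 4, 5, 6, 6, 3, 3, 3]), ([2, 3, 3, 3, 2, 3, 2, 3, 4, 3, 3, 4, 3, 4, 5, 5, 6, 3, 3, 3], [3, 3, 3, 2, 3, 2, 3, 3, 3, 4, 5, 5, 5, 5, 5, 6, 6, 6]), ([2, 2, 2, 3, 2, 3, 2, 4, 4, 4, 5, 5, 5, 5, 5, 5, 5, 5, 5], [2, 3, 2, 3, 3, 2, 2, 2, 4, 4, 3, 4, 5, 5, 5, 5, 5, 6, 6, 6, 3, 3, 3]), ([2, 2, 3, 2, 4, 4, 4, 5, 5, 6, 7,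 3], [2, 3, 2, 3, 2, 2, 2, 2, 2, 3, 3, 3, 4, 3, 4, 4, 5, 5, 5, 5, 5, 5, 5, 5, 3, 3]), ([2, 2, 3, 2, 3, 3, 2, 2, 2, 3, 3, 3, 4, 5, 5, 5, 5, 5, 5, 5, 6, 6, 6, 7], [2, 2, 3, 3, 3, 2, 3, 2, 3, 4, 3, 4, 4, 5, 5, 5, 5, 5, 5, 5, 5, 5, 3, 3, 3]), ([2, 3, 2, 2, 2, 2, 2, 2, 4, 3, 4, 4, 5, 5, 5, 5, 5, 6, 3], [3, 3, 3, 2, 3, 3, 4, 4, 3, 4, 5, 5, 5, 5, 5, 5]), ([2, 2, 2, 4, 4, 4, 5, 5, 5, 5, 5, 5, 5, 5, 6, 6, 6, 7], [2, 2, 2, 3, 2, 2, 4, 3, 3, 4, 5, 5, 5, 5, 5, 6, 6, 6, 7, 3, 3, 3]), ([2, 3, 2, 3, 2, 2, 2, 2, 2, 4, 3, 4, 3, 4, 5], [3, 3, 3, 2, 2, 3, 4, 4, 4, 5, 5, 5, 5, 5, 5, 5, 5, 6, 3, 3]), ([3, 2, 2, 2, 2, 2, 2, 4, 5, 5, 3], [2,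 3, 2, 2, 3, 3, 4, 4, 3, 4, 5, 5, 6, 7, 3]), ([3, 2, 3, 3, 3, 2, 4, 4, 3, 3, 4, 5, 5, 6, 6, 6, 7, 3, 3], [3, 2, 2, 2, 3, 2, 2, 2, 4, 3, 3, 4, 4, 4, 5, 5, 5, 5, 5, 5, 5, 5, 6, 6, 6, 3, 3]), ([2, 2, 3, 2, 2, 2, 2, 4, 3, 4, 5, 3, 3], [2, 3, 2, 2, 3, 3, 2, 2, 2, 3, 4, 3, 4, 6, 6]), ([2, 2, 3, 2, 2, 2, 2, 4, 3, 4, 5, 5, 5, 5, 5, 5, 5, 5, 5, 6, 6, 6, 3], [2, 3, 2, 3, 4, 4, 4, 5, 3, 6, 7]), ([2, 3, 2, 2, 3, 3, 2, 2, 2, 4, 4, 4, 3, 4, 5, 5, 5, 5, 5, 5, 5, 6, 6, 6, 3], [2, 2, 3, 2, 2, 2, 2, 2, 3, 4, 5, 5, 5, 5, 5, 5, 5, 3, 6, 3, 3]), ([3, 3, 3, 2, 2, 2, 3, 2, 4, 4, 5, 5, 5, 5, 5, 5, 5, 5, 6, 6, 7, 3], [2, 2, 3, 3, 3, 2, 2, 4,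 4, 4, 3, 4, 6, 7, 3, 3]), ([3, 2, 3, 2, 2, 2, 4, 3, 4, 4, 5, 5, 5, 5, 5, 5, 5, 3, 6, 3], [2, 3, 2, 2, 3, 2, 5, 3, 3, 3]), ([3, 2, 3, 2, 2, 2, 3, 2, 2, 4, 3, 4, 5, 5, 3, 6, 7, 3], [2, 2, 3, 2, 3, 2, 3, 2, 4, 3, 3, 4, 5, 5, 5, 5, 6, 3, 3, 3]), ([3, 2, 3, 2, 4, 3, 3, 4, 3, 4, 5, 5, 5, 5, 5, 5, 5, 5, 5, 3, 6, 3], [2, 3, 3, 2, 3, 2, 4, 4, 3, 3, 4, 5, 5, 5, 5, 5, 5, 5, 5, 3, 6, 3]), ([3, 2, 3, 2, 3, 4, 3, 3, 4, 3, 4, 5, 5, 5, 5, 5, 3, 3], [3, 3, 2, 3, 2, 4, 5, 5, 5, 5, 5, 5, 5, 5, 5, 3, 6, 7, 3, 3, 3]), ([2, 3, 2, 3, 2, 3, 3, 2, 3, 4, 4, 3, 3, 4, 5, 5, 5, 5, 3], [3, 3, 2, 2, 2, 3, 2, 3, 4, 5, 5, 5, 5, 5, 5, 5, 5, 3, 3, 3]),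 ([2, 3, 2, 3, 2, 3, 3, 2, 4, 4, 4, 3, 4, 5, 3, 3, 3], [2, 3, 2, 2, 3, 3, 2, 3, 4, 4, 3, 4, 5, 5, 3, 6]), ([2, 3, 2, 3, 2, 4, 4, 4, 3, 4, 5, 5, 5, 5, 5, 5, 6, 7, 3], [2, 2, 2, 3, 2, 2, 4, 3, 4, 5, 5, 5, 3]), ([3, 2, 4, 3, 3, 4, 5, 5, 5, 5, 6, 6, 3], [3, 3, 2, 2, 3, 3, 4, 4, 3, 4, 6, 3, 3, 3]), ([2, 2, 3, 2, 2, 3, 2, 3, 2, 3, 3, 4, 7], [2, 2, 3, 2, 2, 2, 2, 2, 2, 3, 3, 3, 4, 3, 4, 4, 5, 5, 5, 5, 5, 5, 6, 6, 6, 3, 3]), ([3, 2, 3, 2, 2, 3, 3, 2, 3, 4, 5, 5, 5, 5, 6, 6, 6, 3, 3], [2, 2, 2, 3, 2, 3, 3, 3]), ([3, 2, 2, 2, 3, 3, 2, 3, 4, 3, 3, 4, 3, 4, 5, 5, 5, 5, 5, 5, 5, 5, 5, 6, 7, 3, 3, 3], [2, 2, 3, 2, 3, 3, 3, 2, 4, 4,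 4, 3, 4, 5, 5, 5, 5, 5, 5, 3, 6, 7, 3]), ([3, 2, 3, 2, 2, 2, 2, 2, 2, 4, 3, 3, 3, 4, 3, 4, 5, 5, 5, 5, 5, 5, 5, 3, 6, 7, 3, 3, 3], [2, 3, 2, 2, 2, 2, 2, 3, 4, 6, 6, 7, 3, 3]), ([3, 2, 3, 2, 2, 2, 4, 3, 3, 3, 4, 3, 4, 5, 5, 5, 6, 6, 7, 3], [3, 2, 2, 3, 2, 3, 2, 3, 3]), ([2, 2, 2, 2, 2, 2, 3, 4, 4, 4, 5, 5, 6, 6, 3], [2, 3, 2, 3, 2, 3, 3, 4, 4, 4, 5, 6, 7, 3, 3, 3]), ([2, 2, 2, 2, 2, 2, 4, 3, 3, 3, 4, 3, 4, 6, 3, 3, 3], [2, 2, 3, 3, 2, 4, 3, 4, 5, 5, 5, 5, 5, 5, 5, 6, 7, 3, 3]), ([2, 3, 2, 2, 2, 3, 2, 2, 3, 3, 4, 4, 4, 3, 4, 5, 5, 5, 5, 5, 5, 5, 5, 3, 6, 7, 3, 3], [3, 2, 3, 2, 2, 4, 4, 6, 6, 7, 3, 3]), ([3, 3, 2, 2, 2,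 3, 2, 2, 2, 4, 5, 5, 5, 6, 7, 3, 3, 3], [3, 3, 2, 2, 2, 3, 2, 4, 4, 4, 3, 4, 5, 5, 5, 5, 5, 5, 5, 5, 5, 6, 6, 6, 7]), ([3, 3, 2, 2, 2, 3, 3, 2, 4, 4, 4, 3, 4, 5, 5, 5, 6, 6, 3], [3, 2, 2, 2, 3, 2, 3, 2, 3, 4, 5, 5, 5, 5, 5, 5, 3, 6, 7, 3, 3]), ([3, 3, 2, 4, 3, 4, 3, 4, 6, 7], [2, 3, 2, 2, 2, 2, 2, 4, 5, 5, 5, 5, 5, 5, 5, 7]), ([2, 3, 3, 3, 2, 2, 2, 3, 2, 3, 3, 4, 4, 4, 3, 4, 5, 5, 5, 5, 6, 6, 3], [3, 2, 3, 3, 2, 2, 2, 3, 3, 3]), ([3, 2, 3, 3, 3, 2, 3, 3, 4, 4, 3, 4, 5, 5, 5, 6], [2, 3, 3, 3, 2, 3, 3, 4, 4, 4, 3, 4, 5, 5, 5, 5, 5, 5, 5, 5, 6, 6, 6, 7, 3]), ([2, 3, 2, 2, 2, 3, 3, 4, 4, 3, 4, 5, 5, 5, 5, 5, 5, 6, 7], [2,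 2, 2, 3, 3, 3, 2, 3]), ([2, 2, 3, 2, 3, 2, 2, 4, 3, 4, 4, 4, 3, 4, 5, 5, 5, 5, 5, 5, 5, 5, 5, 3, 6, 7, 3, 3, 3], [3, 2, 3, 2, 2, 2, 2, 2, 4, 3, 3, 4, 3, 4, 5, 5, 5, 6, 7]), ([3, 3, 4, 3, 4, 5, 5, 5, 5, 5, 5, 6, 6, 3, 3, 3], [3, 2, 3, 2, 2, 2, 2, 3, 3, 4, 4, 5, 5, 5, 3, 6, 7, 3, 3]), ([3, 3, 3, 2, 3, 2, 2, 3, 4, 3, 4, 5, 5, 5, 5, 5, 5, 6, 7, 3, 3], [2, 3, 2, 2, 2, 3, 2, 3, 3, 3, 4, 5, 5, 5, 3, 6, 3]), ([3, 2, 3, 2, 2, 3, 4, 4, 5, 5, 5, 5, 3, 6, 3, 3, 3], [3, 2, 3, 3, 2, 2, 3, 2, 4, 3, 3, 4, 5, 5, 5, 5, 5, 5, 5, 5, 3, 6, 3, 3, 3]), ([3, 3, 3, 2, 3, 2, 2, 3, 3, 4, 4, 4, 6, 6, 7, 3], [2, 2, 3, 3, 3, 2, 2, 3, 3, 4, 4, 5,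 5, 5, 6, 6, 3, 3, 3]), ([2, 2, 3, 2, 2, 2, 2, 2, 2, 3, 4, 4, 5, 6, 6, 6, 3, 3, 3], [3, 2, 3, 2, 2, 2, 3, 3, 3, 4, 5, 6, 6, 3, 3, 3]), ([3, 3, 3, 2, 3, 2, 3, 2, 4, 4, 4, 3, 4, 5, 5, 5, 5, 5, 6, 6, 6, 7, 3, 3], [2, 2, 2, 3, 2, 2, 4, 5, 5, 5, 5, 5, 5, 5, 3, 3, 3]), ([3, 2, 5, 5, 5, 5, 5, 5, 5, 5, 5, 6, 6, 3], [2, 2, 3, 2, 3, 2, 3, 3, 4, 4, 4, 5, 6, 7, 3, 3]), ([3, 2, 3, 2, 2, 3, 3, 2, 3, 3, 4, 3, 4, 5, 3, 6, 7], [2, 3, 2, 2, 2, 2, 2, 2, 4, 4, 5, 5, 6, 6, 6, 7, 3, 3, 3]), ([3, 3, 2, 3, 2, 2, 3, 4, 3, 4, 5, 5, 5, 5, 5, 5, 6, 7, 3, 3, 3], [2, 3, 3, 2, 2, 3, 2, 3, 3, 4, 5, 6, 6, 3, 3, 3])],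
    [([3, 2, 2, 3, 3, 3, 2, 2, 3, 4, 3, 4, 4, 5, 5, 5, 5, 5, 5, 3, 6, 3, 3], [3, 2, 2, 2, 3, 3, 3, 2, 4, 3, 3, 3, 4, 3, 4, 5, 5, 5, 5, 5, 5, 6, 7, 3, 3, 3]), ([3, 3, 3, 2, 2, 2, 2, 3, 2, 4, 3, 3, 4, 4, 3, 4, 5, 5, 5, 5, 5, 6, 6, 6, 3, 3], [2, 2, 3, 2, 2, 2, 2, 3, 3, 3, 4, 3, 4, 4, 5, 5, 5, 5, 5, 3, 6]), ([3, 2, 2, 3, 3, 2, 2, 2, 3, 4, 4, 3, 3, 4, 5, 5, 5, 5, 6, 6], [3, 2, 3, 2, 2, 3, 3, 3, 4, 3, 4, 4, 5, 5, 5, 5, 5, 5, 5, 5, 6, 6, 6, 7, 3]), ([3, 2, 3, 2, 3, 2, 3, 3, 3, 4, 3, 4, 4, 5, 5, 5, 5, 5, 5, 5, 5, 6, 7, 3, 3, 3], [2, 3, 3, 2, 2, 2, 2, 2, 3, 3, 4, 4, 3, 4, 5, 5, 5, 5, 6, 6, 6]), ([3, 2, 2, 2, 2, 3, 2, 4, 3, 4,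 4, 4, 3, 4, 5, 5, 5, 5, 5, 5, 5, 6, 6, 6, 7], [3, 2, 3, 2, 3, 2, 4, 4, 4, 3, 4, 5, 5, 5, 5, 5, 5, 5, 6, 6, 3, 3]), ([4, 3, 4, 4, 5, 5, 7, 3, 3], [3, 2, 3, 2, 2, 3, 4, 4, 4, 5, 5, 5, 5, 5, 6, 6, 7, 3]), ([3, 3, 3, 2, 3, 2, 2, 2, 4, 4, 3, 3, 4, 5, 6, 6], [2, 3, 2, 2, 3, 3, 2, 3]), ([3, 3, 2, 3, 3, 2, 2, 2, 4, 3, 3, 4, 4, 4, 5, 5, 5, 5, 5, 5], [3, 2, 2, 3, 3, 4, 3, 4, 4, 5, 5, 5, 5, 5, 5, 5, 5, 5, 6, 6, 7, 3, 3]), ([3, 2, 2, 3, 2, 3, 2, 3, 4, 3, 4, 4, 5, 5, 5, 5, 5, 6, 7, 3, 3, 3], [3, 3, 2, 3, 2, 2, 2, 4, 4, 4, 6, 6, 7, 3]), ([2, 2, 2, 3, 3, 2, 3, 4, 5, 5, 3, 6, 7, 3, 3], [3, 2, 2, 2, 2, 3, 2, 3]), ([3, 2, 3, 2, 2, 2,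 3, 2, 2, 4, 5, 5, 5, 5, 5, 5, 5, 5, 5, 6, 3, 3], [3, 3, 2, 2, 2, 4, 3, 4, 4, 5, 5, 3, 3]), ([2, 2, 3, 2, 3, 2, 4, 4, 3, 6, 7, 3], [3, 3, 3, 2, 2, 2, 2, 4, 3, 4, 4, 4, 3, 4, 5, 5, 5, 5, 5, 5, 6, 6, 6, 3]), ([3, 2, 2, 2, 2, 2, 4, 4, 3, 3, 4, 5, 5, 5, 5, 5, 5, 5, 5, 6, 6, 3, 3, 3], [2, 4, 3, 4, 5, 5, 5, 5, 5, 5, 5, 6, 7, 3, 3]), ([3, 2, 3, 2, 2, 2, 2, 2, 3, 4, 3, 3, 4, 3, 4, 5, 5, 5, 5, 5], [3, 2, 3, 3, 2, 2, 2, 3, 3, 3, 4, 3, 4, 5, 5, 7, 3]), ([2, 2, 3, 2, 3, 3, 2, 2, 2, 4, 3, 3, 4, 4, 4, 5, 5, 5, 6, 6, 6, 7, 3], [2, 2, 3, 3, 2, 4, 3, 3, 4, 4, 3, 4, 6, 7, 3, 3]), ([2, 2, 3, 3, 3, 2, 3, 4, 3, 4, 3, 6, 3], [2, 3, 2, 3,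 3, 4, 3, 4, 4, 5, 5, 5, 5]), ([3, 2, 3, 3, 2, 3, 3, 3, 4, 5, 5, 5, 6, 6, 6, 7, 3, 3], [2, 3, 2, 2, 3, 3, 2, 2, 2, 3, 4, 3, 4, 6, 6, 3, 3]), ([2, 3, 2, 2, 2, 2, 2, 2, 4, 3, 4, 4, 4, 3, 4, 5, 5, 5, 5, 5, 5, 5, 5, 3, 6, 3, 3, 3], [3, 3, 3, 2, 3, 3, 2, 3, 3, 4, 3, 4, 5, 5, 5, 5, 5, 5, 5, 5, 5, 6, 6, 6, 7, 3, 3]), ([3, 2, 2, 3, 2, 2, 2, 2, 3, 4, 4, 4, 3, 4, 5, 6, 6, 7, 3], [2, 3, 2, 2, 2, 3, 2, 2, 4, 4, 3, 3, 4, 5, 6, 6]), ([3, 3, 3, 2, 3, 2, 3, 2, 4, 4, 5, 7, 3, 3], [2, 3, 3, 3, 2, 2, 5, 5, 5, 5, 5, 5, 5, 5, 5, 7, 3, 3]), ([2, 2, 2, 3, 4, 3, 4, 4, 5, 5, 5, 5, 5, 3, 6, 3, 3], [2, 2, 2, 3, 3, 2, 3, 3, 4, 3, 4, 4, 5, 5, 5,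 5, 5, 6, 6, 7, 3, 3, 3]), ([2, 3, 3, 2, 3, 3, 2, 2, 2, 4, 3, 4, 4, 4, 5, 5, 5, 5, 5, 5, 5, 5, 5, 6, 7, 3], [2, 2, 2, 3, 2, 2, 4, 4, 3, 3, 4, 5, 6, 6, 3, 3, 3]), ([4, 4, 5, 5, 5, 5, 6, 6, 6, 7], [3, 2, 3, 2, 2, 2, 3, 3, 3, 4, 5, 5, 5, 5, 5, 5, 5, 5, 6, 6, 6, 7, 3, 3, 3]), ([2, 2, 2, 3, 3, 3, 2, 3, 3, 3, 4, 3, 4, 4, 5, 6, 7, 3, 3, 3], [3, 3, 3, 2, 3, 3, 2, 3, 3, 4, 4, 3, 4, 5, 5, 5, 5, 5, 6, 6, 6, 7, 3]), ([2, 3, 3, 2, 4, 3, 4, 4, 4, 5, 5, 5, 5, 5, 5, 6, 7, 3], [2, 3, 3, 2, 2, 3, 2, 4, 3, 3, 4, 4, 3, 4, 5, 5, 5, 5, 5, 5, 5, 6, 6, 7, 3, 3, 3]), ([3, 3, 2, 2, 3, 3, 2, 2, 2, 4, 3, 4, 3, 4, 5, 5, 5, 7, 3], [2, 2, 3, 2, 2,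 3, 2, 3, 2, 3, 3, 3, 4, 3, 4, 4, 5, 5, 5, 5, 5, 5, 5, 6, 6, 7, 3, 3, 3]), ([3, 3, 2, 3, 2, 2, 3, 3, 4, 4, 3, 4, 5, 5, 5, 5, 5, 5, 5, 5, 5, 6, 3], [2, 3, 2, 2, 2, 3, 2, 2, 3, 3, 3, 4, 5, 5, 3, 6, 3]), ([3, 2, 2, 2, 3, 3, 3, 2, 3, 3, 3, 4, 3, 4, 5, 5, 6, 7, 3, 3], [3, 2, 2, 3, 2, 3, 2]), ([2, 2, 3, 2, 3, 2, 3, 2, 3, 4, 3, 4, 5, 5, 5, 5, 3, 3, 3], [2, 2, 2, 3, 2, 3, 2, 2, 3, 4, 3, 4, 4, 5, 5, 5, 5, 6, 6, 6]), ([2, 3, 3, 2, 3, 2, 2, 2, 3, 3, 4, 4, 3, 4, 5, 5, 5, 5, 5, 5, 5, 3, 3], [2, 3, 3, 2, 3, 3]), ([2, 3, 2, 3, 2, 3, 2, 3, 4, 4, 6, 7, 3, 3], [2, 3, 2, 3, 3, 3, 2, 4, 3, 4, 5, 5, 5, 5, 3, 6, 3]), ([2, 3, 2, 3, 2, 3, 2,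 3, 4, 4, 4, 5, 5, 5, 3, 6, 7, 3], [3, 3, 3, 2, 2, 2, 3, 3, 3]), ([2, 3, 2, 2, 4, 3, 3, 4, 3, 4, 5, 5, 5, 5, 6, 6, 6, 7], [2, 3, 2, 2, 3, 3, 2]), ([2, 3, 2, 2, 3, 4, 3, 4, 5, 5, 5, 5, 5, 5, 6, 7, 3], [3, 2, 3, 3, 4, 4, 3, 4, 5, 5, 5, 5, 5, 6, 6, 6, 7, 3]), ([2, 2, 3, 2, 4, 3, 4, 4, 5, 5, 5, 5, 6, 3], [2, 3, 3, 2, 3, 3, 2, 2, 2, 4, 3, 4, 4, 4, 5, 5, 6, 6, 6, 3, 3, 3]), ([3, 3, 2, 4, 3, 4, 3, 4, 6, 6, 7, 3, 3, 3], [3, 3, 2, 2, 2, 3, 2, 2, 2, 3, 4, 4, 4, 5, 6, 6, 6, 3]), ([3, 3, 3, 4, 3, 4, 3, 6, 7, 3], [3, 2, 2, 2, 2, 2, 2, 3, 3, 4, 4, 3, 4, 5, 5, 5, 5, 5, 5, 5, 5, 3, 6, 7]), ([3, 2, 2, 3, 2, 5, 5, 5, 5, 3, 6], [2, 3,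 2, 2, 3, 2, 3, 2, 4, 4, 3, 4, 5, 5, 5, 5, 5, 5, 5, 5, 6, 6, 3, 3]), ([3, 3, 2, 3, 2, 3, 2, 4, 3, 3, 4, 5, 6, 6, 6, 3], [3, 2, 2, 2, 3, 2, 2, 4, 4, 3, 4, 5, 6, 6, 6, 3, 3, 3]), ([2, 2, 3, 2, 3, 2, 3, 2, 4, 3, 3, 3, 4, 3, 4, 5, 5, 5, 5, 7, 3, 3], [3, 2, 2, 2, 3, 2, 2, 3, 4, 5, 5, 6, 7, 3, 3]), ([2, 3, 3, 2, 2, 3, 2, 4, 3, 4, 4, 4, 5, 3, 3], [2, 3, 3, 2, 2, 2, 2, 2, 4, 4, 5, 5, 5, 5, 5, 5, 5, 5, 6, 6, 7, 3]), ([3, 2, 3, 3, 2, 4, 3, 4, 4, 4, 5, 5, 5, 5, 5, 6, 6, 6, 3, 3, 3], [3, 3, 3, 2, 2, 2, 4, 3, 3, 4, 4, 4, 5, 5, 5, 5, 5, 5, 5, 5, 7, 3, 3]), ([3, 2, 2, 2, 3, 2, 3, 2, 3, 3, 4, 4, 5, 5, 5, 6, 3, 3], [2, 2, 3, 2, 3, 2,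 3, 3, 4, 4, 4, 5, 6, 7]), ([3, 2, 2, 2, 3, 2, 2, 4, 4, 4, 3, 4, 5, 5, 5, 5, 5, 5, 3, 6, 3, 3, 3], [2, 2, 2, 3, 2, 2, 4, 4, 3, 4, 5, 6, 6, 6]), ([2, 3, 2, 2, 2, 2, 2, 4, 3, 3, 4, 3, 4, 5, 5, 5, 5, 5, 5, 5, 5, 5, 6, 6, 6, 7, 3, 3], [2, 3, 3, 3, 2, 2, 4, 4, 4, 5, 5, 5, 5, 5]), ([2, 3, 2, 2, 2, 2, 2, 4, 3, 3, 4, 4, 4, 5, 5, 5, 5, 5, 5, 5, 5, 5, 6, 3, 3], [2, 3, 2, 3, 3, 3, 2, 4, 3, 3, 4, 4, 4, 5, 5, 5, 3, 3]), ([2, 3, 2, 2, 2, 2, 2, 3, 3, 4, 3, 4, 4, 5, 5, 5, 3, 6, 3, 3], [3, 2, 2, 3, 3, 2, 2, 2, 3, 4, 4, 5, 5, 5, 5, 5, 5, 5, 6, 6, 6, 7, 3, 3]), ([2, 3, 2, 3, 3, 3, 2, 4, 3, 3, 3, 4, 3, 4, 5, 5, 5, 5, 5, 5, 5, 5, 5], [3,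 2, 2, 3, 2, 3, 2, 3, 3, 4, 4, 4, 6, 6, 6, 3, 3]), ([2, 2, 3, 2, 2, 2, 2, 2, 3, 3, 3, 4, 3, 4, 4, 5, 5, 5, 5, 5, 5, 5, 5, 6, 6, 7, 3, 3], [2, 3, 2, 2, 2, 2, 2, 3, 3, 3, 4, 5, 5, 5, 5, 6, 3, 3]), ([2, 3, 3, 3, 2, 3, 3, 2, 4, 3, 3, 4, 3, 4, 5, 5, 5, 5, 5, 5, 5, 5, 5, 6, 6, 6, 7, 3, 3], [3, 2, 2, 3, 2, 3, 2, 4, 5, 5, 5, 5, 5, 5, 5, 6, 3]), ([3, 3, 3, 2, 2, 2, 3, 3, 4, 4, 4, 5, 5, 5, 5, 5, 5, 5, 5, 5, 3, 6, 3, 3, 3], [2, 2, 2, 3, 3, 3, 2, 3, 3, 3, 4, 3, 4, 4, 5, 5, 5, 5, 5, 5, 5, 5, 5, 6]), ([2, 3, 2, 2, 2, 3, 2, 2, 3, 3, 4, 6, 3], [2, 3, 3, 3, 2, 3, 2, 3, 3, 4, 4, 4, 5, 6, 7, 3, 3]), ([3, 3, 2, 2, 2, 2, 3, 3, 3, 4, 5, 7],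 [3, 3, 3, 2, 3, 2, 3, 2, 3, 3, 4, 5, 5, 5, 5, 5, 5, 6, 6, 7, 3, 3]), ([3, 2, 3, 3, 2, 2, 2, 4, 3, 3, 4, 4, 4, 5, 5, 5, 5, 5, 5, 3], [2, 2, 3, 3, 4, 3, 4, 4, 5, 5, 5, 5, 5, 5, 5, 5, 5, 6, 6, 7, 3, 3]), ([3, 3, 2, 4, 3, 3, 4, 5, 5, 5, 5, 5, 5, 6, 3, 3, 3], [3, 3, 2, 2, 2, 4, 3, 4, 3, 4, 5, 5, 6, 6, 3, 3, 3]), ([3, 2, 2, 2, 3, 2, 2, 4, 4, 4, 3, 4, 5, 5, 5, 3, 6, 3], [2, 2, 3, 2, 2, 3, 2, 3, 2, 3, 4, 3, 4, 4, 5, 5, 5, 5, 5, 5, 5, 5, 3, 6]), ([3, 2, 2, 2, 2, 3, 2, 3, 3, 4, 4, 3, 4, 5, 5, 5, 5, 5, 5, 5, 5, 5, 3, 3, 3], [3, 2, 2, 2, 2, 2, 2, 4, 5, 5, 5, 5, 6, 6, 6, 3, 3, 3]), ([2, 2, 2, 3, 2, 2, 2, 4, 4, 3, 4, 5, 5], [3, 2,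 2, 3, 3, 2, 2, 2]), ([3, 3, 4, 5, 5, 6, 6, 7, 3, 3, 3], [3, 3, 3, 2, 3, 2, 3, 2, 4, 4, 5, 5, 6, 6, 6, 3, 3]), ([3, 3, 2, 2, 2, 2, 3, 2, 3, 4, 4, 5, 5, 5, 5, 5, 5, 5, 5, 3, 3], [2, 3, 2, 3, 2, 3, 3, 2, 4, 3, 4, 4, 4, 5, 5, 6, 3, 3]), ([3, 2, 2, 3, 3, 2, 2, 2, 4, 3, 4, 4, 4, 3, 4, 5, 3, 6, 7], [3, 2, 4, 3, 4, 4, 4, 3, 4, 5, 5, 5, 5, 5, 5, 5, 5, 5, 6, 6, 6, 3, 3, 3]), ([3, 3, 3, 2, 3, 2, 2, 2, 3, 4, 3, 3, 4, 3, 4, 5, 5, 5, 5, 5, 5, 7, 3, 3, 3], [2, 2, 3, 3, 3, 2, 3, 2, 2, 3, 4, 3, 4, 4, 5, 5, 5, 5, 6, 6, 6]), ([3, 2, 3, 2, 2, 2, 2, 2, 2, 3, 3, 3, 4, 5, 6, 7, 3], [3, 3, 3, 2, 2, 3, 3, 4, 3, 4, 4, 5, 5, 5, 5, 5, 5, 5, 5,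 5, 6, 6, 7, 3]), ([3, 2, 2, 3, 2, 3, 2, 3, 4, 3, 4, 4, 5, 5, 5, 5, 5, 5, 5, 5, 5, 6, 6, 6, 7, 3, 3, 3], [3, 2, 2, 2, 2, 4, 3, 3, 3, 4, 3, 4, 5, 5, 5, 5, 5, 7, 3, 3])]]

/-- part of a table -/
def conjs12 : List (List (List ℕ × List ℕ)) :=
  [[([3, 3, 2, 3, 3, 2, 2, 2, 3, 4, 4, 4, 3, 4, 5, 5, 5, 5, 5, 6, 6, 7, 3], [3, 3, 3, 2, 3, 2, 4, 3, 4, 3, 4, 3, 6]), ([2, 2, 2, 3, 3, 2, 3, 3, 3, 4, 3, 4, 4, 5, 5, 5, 5, 5, 5, 5, 5, 6, 7, 3, 3], [2, 3, 2, 2, 2, 3, 4, 4, 3, 4, 5, 6, 6, 6, 7, 3]), ([3, 3, 3, 2, 2, 2, 3, 2, 3, 4, 4, 3, 3, 4, 5, 5, 5, 5, 5, 5, 5, 5, 3, 6, 7, 3, 3], [3, 3, 2, 3, 3, 2, 4, 3, 3, 4, 4, 3, 4, 5, 5, 5, 5, 3,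 6, 7, 3]), ([3, 2, 2, 2, 3, 2, 3, 2, 4, 4, 3, 4, 5, 3, 6], [2, 2, 3, 2, 3, 3, 3]), ([3, 3, 2, 2, 3, 3, 2, 3, 4, 3, 4, 5, 5, 5, 5, 5, 5, 5], [2, 3, 3, 3, 2, 3, 3, 2, 3, 4, 5, 5, 6, 3, 3, 3]), ([2, 2, 2, 3, 2, 3, 2, 4, 5, 5, 5, 6, 6, 6, 3, 3, 3], [2, 3, 2, 2, 2, 3, 2, 2, 5, 5, 5, 5, 5, 5, 5, 5, 5, 3, 3, 3]), ([3, 3, 2, 2, 3, 2, 4, 4, 4, 5, 5, 5, 5, 5, 5, 5, 6, 6, 6, 7, 3, 3, 3], [3, 3, 3, 2, 3, 2, 3, 2, 3, 3, 4, 4, 4, 5, 5, 5, 5, 5, 3, 6, 3, 3, 3]), ([2, 3, 3, 3, 2, 3, 2, 3, 4, 4, 3, 4, 3, 6, 3, 3], [2, 2, 4, 3, 4, 3, 4, 5, 6, 6, 6, 3, 3]), ([2, 2, 3, 3, 2, 2, 2, 3, 4, 4, 4, 5, 5, 5, 5, 5, 5, 5, 5, 5, 6, 6, 3], [3, 2,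 2, 2, 2, 2, 2, 3, 4, 3, 4, 4, 3, 6, 7, 3, 3]), ([3, 3, 2, 2, 2, 2, 3, 4, 3, 4, 5, 5, 3, 6, 7, 3], [2, 3, 2, 2, 3, 3, 2, 2, 2, 3, 3, 4, 5, 6, 6, 3]), ([3, 2, 3, 2, 3, 3, 2, 4, 3, 3, 4, 4, 4, 5, 5, 5, 5, 6, 6, 6, 3, 3, 3], [2, 3, 3, 3, 2, 2, 2, 3, 2, 3, 4, 5, 5, 5, 5, 5, 5, 5, 5, 5, 6, 6, 6, 3, 3, 3]), ([2, 3, 3, 3, 2, 5, 5, 5, 5, 5, 5, 6], [3, 2, 3, 3, 2, 4, 3, 3, 4, 3, 4, 5, 5, 5, 5, 5, 5, 5, 6, 7]), ([3, 2, 3, 3, 2, 2, 2, 3, 4, 4, 5, 5, 5, 6, 7], [2, 3, 2, 3, 3, 4, 4, 3, 4, 5, 5, 6, 7, 3, 3, 3]), ([3, 2, 2, 2, 3, 2, 3, 2, 3, 4, 5, 5, 5, 5, 5, 5, 5, 5, 6, 6, 6, 7], [2, 2, 3, 3, 2, 2, 2, 3, 4, 3, 4, 6, 6]), ([2, 3, 2,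 2, 2, 2, 2, 3, 3, 4, 4, 4, 3, 4], [2, 2, 3, 2, 3, 2, 2, 4, 3, 4, 3, 4, 5, 5, 5, 6, 6, 7, 3, 3]), ([3, 3, 2, 2, 3, 3, 2, 2, 2, 4, 3, 3, 4, 5, 5, 5, 5, 6, 3, 3, 3], [3, 2, 3, 3, 3, 2, 4, 3, 4, 4, 5, 5, 5, 5, 5, 5, 5, 6, 6, 3, 3, 3]), ([2, 2, 2, 3, 2, 2, 2, 3, 3, 3, 4, 3, 4, 4, 5, 5, 5, 5, 5, 5, 5, 5, 6, 6, 7, 3, 3], [3, 2, 2, 3, 3, 2, 3]), ([2, 2, 2, 3, 2, 2, 2, 4, 5, 5, 5, 5, 5, 5, 5, 6, 7, 3, 3, 3], [2, 2, 3, 2, 4, 4, 5, 5, 5, 5, 5, 5, 3, 6, 7, 3]), ([2, 3, 2, 2, 3, 3, 2, 2, 2, 4, 5, 5, 5, 5, 5, 6, 3, 3], [2, 2, 3, 2, 4, 3, 3, 4, 5, 5, 5, 5, 5, 5, 5, 5, 3, 6]), ([3, 2, 2, 3, 3, 3, 2, 2, 3, 3, 3, 4, 5, 6, 6, 6, 7, 3,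 3, 3], [2, 3, 3, 3, 2, 2, 2, 3, 2, 3, 3, 4, 4, 4, 3, 4, 5, 5, 5, 5, 5, 5, 5, 5, 5, 3, 6, 7, 3]), ([2, 3, 2, 2, 3, 2, 3, 4, 4, 3, 3, 4, 5, 5, 5, 7, 3, 3], [3, 3, 2, 2, 2, 2, 2, 4, 3, 3, 4, 3, 4, 6, 6, 7, 3, 3, 3]), ([3, 3, 2, 2, 2, 2, 3, 3, 4, 3, 4, 5, 5, 5, 5, 6, 6, 7], [2, 3, 3, 3, 2, 3, 2, 2, 5, 5, 5, 3, 6, 7]), ([2, 3, 2, 2, 2, 4, 4, 3, 3, 4, 5, 6, 6, 3, 3, 3], [3, 2, 3, 2, 2, 3, 3, 2, 3]), ([3, 3, 2, 2, 2, 3, 2, 2, 2, 3, 4, 3, 4, 6, 6, 6, 7, 3, 3, 3], [2, 3, 2, 3, 3, 4, 4, 3, 4, 5, 5, 5, 5, 5, 6, 6, 6, 7]), ([2, 3, 2, 3, 2, 3, 2, 4, 3, 3, 4, 4, 3, 4, 5, 6, 6, 6, 7, 3, 3], [2, 3, 3, 3, 2, 4, 3, 4, 5, 5, 5, 5, 5,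 3, 6, 7]), ([2, 3, 2, 3, 2, 3, 2, 4, 4, 5, 5, 5, 5, 5, 5, 5, 3, 6, 3], [3, 2, 2, 2, 3, 2, 4, 3, 3, 4, 3, 4, 5, 5, 5, 5, 5, 3, 6, 7, 3, 3, 3]), ([2, 2, 3, 2, 2, 2, 2, 4, 5, 5, 5, 5, 5, 5, 5, 5, 6, 7, 3, 3, 3], [2, 2, 3, 3, 2, 2, 2, 3, 4, 3, 4, 4, 5, 5, 7, 3]), ([2, 2, 3, 2, 2, 2, 2, 4, 5, 5, 5, 5, 3, 6, 3], [3, 3, 2, 3, 2, 2, 4, 4, 3, 3, 4, 6, 6, 7, 3, 3]), ([2, 3, 2, 2, 3, 3, 2, 4, 3, 3, 4, 3, 4, 5, 5, 5, 6, 7, 3, 3], [2, 3, 2, 2, 3, 3, 3, 4, 3, 4, 5, 5, 5, 5, 5, 6, 3, 3, 3]), ([3, 2, 2, 3, 3, 3, 2, 2, 3, 3, 4, 3, 4, 5, 5, 5, 5, 5, 5, 6, 7, 3], [2, 2, 3, 3, 3, 2, 3, 2, 3, 6, 3, 3]), ([3, 3, 2, 3, 2, 2, 4, 4, 4, 5, 6,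 6, 7, 3, 3], [3, 3, 3, 2, 3, 2, 3, 2, 3, 4, 3, 4, 4, 5, 5, 5, 6, 3]), ([3, 2, 3, 2, 2, 2, 2, 2, 3, 3, 4, 4, 5, 5, 6, 6, 6, 7, 3, 3], [2, 3, 2, 3, 3, 2, 2, 2, 4, 3, 3, 4, 4, 3, 4, 5, 5, 5, 5, 5, 5, 5, 5, 7, 3, 3]), ([2, 3, 3, 2, 2, 3, 2, 4, 3, 4, 3, 4, 5, 5, 5, 5, 5, 5, 5, 5, 5, 3], [3, 2, 3, 3, 2, 2, 2, 4, 3, 3, 3, 4, 3, 4, 5, 5, 5, 5, 5, 5, 5, 5]), ([2, 3, 3, 3, 2, 3, 2, 3, 3, 4, 4, 5, 5, 5, 5, 5, 5, 5, 5, 6, 6, 6, 3, 3, 3], [2, 2, 2, 2, 3, 3, 2, 3, 4, 5, 5, 5, 5, 5, 3, 6]), ([3, 3, 2, 2, 2, 2, 2, 4, 3, 3, 3, 4, 3, 4, 5, 5, 5, 5, 5, 5, 6, 6, 7, 3], [2, 3, 2, 2, 3, 2, 3, 4, 4, 4, 5, 5, 5, 5, 5, 5, 5, 6, 3, 3, 3]), ([2,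 3, 2, 2, 2, 2, 2, 2, 4, 4, 4, 5, 5, 5, 5, 5, 5, 5, 5, 5, 3, 3, 3], [3, 3, 2, 3, 3, 3, 2, 3, 3, 4, 5, 5, 5, 5, 5, 5, 5, 5, 5, 7]), ([2, 2, 3, 2, 2, 3, 3, 4, 4, 5, 5, 5, 5, 5, 5, 5, 6, 7, 3, 3, 3], [2, 3, 2, 2, 3, 3, 2, 2, 2, 3, 4, 4, 3, 4, 5, 6, 6, 6, 7, 3]), ([2, 3, 2, 2, 3, 3, 2, 2, 2, 4, 3, 4, 4, 4, 3, 4, 5, 5, 5, 5, 5, 3, 6, 3, 3, 3], [2, 2, 3, 3, 2, 3, 3, 4, 3, 4, 4, 5, 5, 5, 5, 3, 3, 3]), ([3, 2, 4, 3, 4, 4, 5, 5, 6, 7], [2, 3, 2, 3, 3, 3, 2, 4, 3, 3, 4, 4, 4, 5, 5, 5, 5, 5, 7, 3, 3, 3]), ([2, 3, 2, 3, 2, 3, 2, 4, 4, 5, 5, 5, 5, 5, 5, 5, 5, 5, 3, 6, 3, 3, 3], [2, 2, 2, 3, 3, 3, 2, 3, 3, 4, 3, 4, 4, 5, 5, 5, 5,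 5, 5, 5, 6, 6, 6, 7, 3, 3]), ([2, 3, 2, 3, 2, 3, 2, 3, 4, 3, 3, 4, 3, 4, 5, 7], [3, 2, 3, 3, 2, 4, 3, 3, 4, 3, 4, 5, 5, 5, 5, 5, 5, 5, 6, 7, 3, 3]), ([2, 2, 2, 3, 3, 3, 2, 3, 4, 4, 3, 4, 5, 5, 5, 5, 5, 5, 5, 5, 3, 6, 3, 3, 3], [3, 3, 2, 2, 2, 2]), ([3, 2, 2, 2, 3, 2, 2, 2, 3, 4, 4, 4, 3, 4, 5, 5, 5, 5, 5, 5, 6, 3, 3, 3], [2, 2, 2, 2, 2, 2, 3, 3]), ([3, 3, 3, 2, 3, 2, 3, 3, 4, 4, 4, 3, 4, 6, 6, 7, 3, 3], [3, 3, 2, 3, 2, 3, 2, 3, 3]), ([3, 3, 2, 2, 2, 2, 3, 2, 3, 4, 5, 5, 5, 5, 6, 3, 3, 3], [3, 2, 2, 2, 3, 2, 2, 2, 3, 3, 3, 4, 3, 4, 4, 5, 5, 5, 5, 5, 6, 6, 6]), ([4, 4, 5, 5, 5, 5, 5, 5, 5, 5, 5, 3, 6, 7, 3, 3, 3], [2,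 2, 2, 3, 2, 3, 2, 3, 4, 4, 3, 3, 4, 5, 6, 6, 6, 3, 3]), ([3, 3, 2, 3, 2, 2, 2, 3, 4, 4, 4, 3, 4, 5, 5, 5, 6], [3, 2, 3, 2, 3, 2, 4, 3, 4, 4, 4, 5, 5, 5, 5, 5, 3, 6, 7, 3, 3]), ([2, 2, 3, 2, 3, 2, 4, 3, 4, 4, 4, 3, 4, 5, 5, 6, 6, 6, 3], [3, 3, 3, 2, 2, 2, 2, 4, 3, 4, 4, 4, 3, 4, 5, 5, 6, 6, 7]), ([3, 2, 2, 2, 2, 4, 3, 4, 4, 4, 3, 4, 6, 6, 7], [3, 2, 3, 3, 2, 2, 2, 4, 3, 4, 4, 5, 5, 5, 5, 5, 6, 6, 3, 3, 3]), ([3, 3, 2, 2, 3, 3, 2, 4, 3, 4, 3, 4, 5, 6, 6, 7, 3], [2, 3, 2, 3, 2, 2, 3, 3, 4, 4, 4, 5, 5, 5, 5, 5, 5, 5, 5, 5, 3, 6]), ([2, 3, 2, 2, 3, 2, 3, 3, 4, 3, 4, 5, 3, 3, 3], [2, 2, 3, 3, 3, 2, 3, 2, 4, 4, 5, 5, 5, 5,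 5, 5, 3, 6, 7, 3]), ([3, 3, 2, 5, 5, 5, 5, 5, 6, 6, 6, 7], [3, 3, 3, 2, 2, 2, 2, 3, 2, 3, 3, 4, 4, 5, 5, 5, 5, 5, 5, 5, 3, 3, 3]), ([3, 3, 2, 5, 5, 5, 5, 5, 5, 5, 5, 5, 3, 6], [3, 2, 2, 2, 3, 3, 2, 3, 4, 3, 4, 4, 6, 7, 3]), ([3, 3, 2, 2, 2, 2, 4, 3, 4, 4, 4, 3, 4, 6, 6, 7, 3, 3, 3], [3, 3, 2, 3, 3, 2, 2, 2, 4, 3, 4, 4, 5, 5, 5, 5, 5, 6, 6, 3, 3, 3]), ([3, 2, 2, 2, 2, 2, 4, 3, 3, 4, 5, 5, 5, 5, 5, 5, 5, 7, 3, 3], [2, 2, 3, 3, 2, 4, 4, 4, 3, 4, 6, 6, 6, 7, 3, 3, 3]), ([5, 5, 5, 5, 3, 3], [3, 2, 2, 2, 2, 2, 2, 3, 3, 3]), ([2, 3, 3, 2, 2, 3, 3, 2, 3, 3, 4, 4, 4, 3, 4, 5, 5, 5, 5, 5, 5, 5, 5, 3, 6, 7, 3, 3], [2, 3, 2, 3,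 2, 2, 3, 4, 3, 4, 4, 5, 5, 5, 5, 6, 6, 6, 3, 3]), ([3, 2, 2, 3, 2, 2, 2, 2, 4, 5, 5, 5, 5, 6, 6, 7, 3, 3, 3], [2, 2, 3, 2, 2, 2, 3, 3, 3, 4, 5, 5, 5, 5, 5, 5, 5, 5, 6, 6, 6, 7]), ([3, 2, 2, 2, 3, 2, 4, 4, 5, 5, 5, 5, 5, 5, 5, 5, 6, 6, 7, 3, 3, 3], [3, 2, 2, 2, 3, 3, 2, 3, 4, 3, 4, 4, 5, 5, 5, 5, 5, 5, 5, 5, 6, 6, 6, 3, 3]), ([3, 3, 2, 2, 2, 3, 3, 2, 4, 3, 3, 4, 3, 4, 5, 7], [3, 2, 3, 2, 3, 2, 3, 3, 4, 4, 4, 5, 5, 5, 5, 5, 3, 6]), ([2, 3, 3, 2, 2, 3, 2, 3, 3, 3, 4, 3, 4, 5, 5, 5, 5, 5, 5, 5, 5, 6, 7, 3, 3, 3], [2, 3, 3, 2, 2, 3, 3, 2, 4, 3, 3, 4, 3, 4, 5, 5, 5, 5, 5, 5, 5, 5, 5, 3, 3, 3]), ([2, 2, 2, 2, 3, 3, 2, 4, 3,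 4, 3, 4, 3, 6], [2, 3, 2, 3, 3, 2, 2, 2, 3, 4, 3, 4, 5, 5, 5]), ([3, 3, 3, 2, 2, 2, 3, 2, 4, 4, 4, 3, 4, 5, 5, 5, 5, 6], [2, 2, 3, 3, 2, 3, 4, 3, 3, 4, 3, 4, 5, 5, 5, 6, 7, 3, 3]), ([3, 2, 2, 3, 3, 3, 2, 2, 4, 5, 5, 5, 5, 5, 5, 5, 3, 6, 3, 3], [2, 2, 2, 3, 2, 2, 2, 3, 4, 3, 4, 4, 5, 5, 5, 5, 7, 3])],
    [([3, 2, 4, 3, 4, 4, 5, 5, 5, 5, 5, 5, 5, 5, 3, 6, 3, 3], [2, 2, 3, 2, 3, 3]), ([2, 3, 3, 2, 2, 3, 3, 2, 3, 3, 4, 4, 4, 3, 4, 5, 5, 5, 5, 5, 5, 5, 5, 3], [2, 2, 2, 3, 2, 2, 2, 3, 3, 4, 3, 4, 4, 5, 5, 5, 5, 5, 5, 5, 5, 6, 3, 3, 3]), ([5, 5, 5, 5, 6, 7], [3, 3, 2, 3, 4, 3, 4, 4, 5, 6, 6, 6, 7, 3, 3, 3]), ([3, 2, 2, 3,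 2, 2, 2, 2, 4, 5, 5, 5, 5, 7, 3], [3, 2, 2, 2, 2, 2, 2, 4, 3, 3, 4, 3, 4, 5, 5, 5, 6, 7, 3, 3, 3]), ([2, 2, 3, 3, 3, 4, 5, 5, 7, 3, 3], [3, 3, 3, 2, 3, 2, 2, 2, 3, 4, 3, 4, 5, 5, 5, 5, 5, 5, 6, 7, 3]), ([2, 2, 3, 2, 2, 3, 2, 3, 2, 4, 4, 6, 6, 6, 7, 3], [2, 3, 3, 2, 3, 3, 2, 2, 2, 4, 3, 4, 3, 4, 6, 7, 3, 3, 3]), ([3, 2, 2, 2, 3, 2, 2, 4, 3, 4, 5, 5, 6, 6, 3], [3, 3, 2, 3, 3, 2, 2, 2, 3, 3, 3, 4, 3, 4, 4, 5, 5, 5, 5, 5, 5, 5, 7, 3]), ([3, 2, 3, 2, 2, 2, 2, 2, 4, 4, 4, 5, 5, 5, 5, 5, 5, 3, 6], [3, 3, 2, 3, 3, 2, 2, 2, 4, 4, 4, 5, 5, 5, 5, 5, 3, 6, 3, 3, 3]), ([2, 3, 2, 2, 3, 2, 3, 2, 3, 3, 3, 4, 3, 4, 5, 5, 5, 5, 5, 5,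 5, 7, 3, 3], [2, 3, 2, 2, 2, 2, 2, 2, 4, 3, 3, 4, 3, 4, 5, 5, 5, 3, 6, 7]), ([2, 3, 2, 3, 2, 3, 2, 3, 4, 3, 4, 5, 5, 5, 5, 5, 5, 5, 5, 5, 6, 6, 6, 3, 3], [2, 2, 2, 2, 3, 3, 2, 3, 3, 3]), ([3, 4, 3, 4, 5, 5, 5, 5, 5], [3, 2, 3, 2, 2]), ([2, 2, 3, 2, 3, 2, 2, 3, 3, 3, 4, 6, 6, 7], [3, 3, 2, 2, 2, 2, 2, 4, 3, 3, 3, 4, 3, 4, 5, 5, 5, 5, 5, 5, 5, 6, 6, 7, 3]), ([3, 2, 2, 3, 3, 2, 2, 2, 4, 4, 3, 3, 4, 5, 5, 6, 6, 3], [3, 2, 3, 2, 2, 3]), ([2, 3, 3, 4, 5, 5, 5, 5, 5, 5, 3, 6, 3, 3], [3, 3, 3, 2, 3]), ([5, 5, 5, 5, 5, 5, 6, 6], [3, 2, 2, 2, 3, 3, 2, 3, 4, 4, 4, 3, 4, 5, 5, 5, 5, 5, 6, 6, 6, 7]), ([2, 3, 2, 2, 3, 3, 2, 2, 2,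 4, 3, 4, 4, 4, 5, 5], [3, 2, 3, 2, 3, 3, 4, 4, 3, 4, 5, 5, 5, 5, 5, 6, 6, 6, 7]), ([2, 2, 3, 2, 3, 2, 3, 2, 3, 4, 3, 4, 4, 5, 5, 5, 3, 6, 3, 3, 3], [3, 2, 3, 2, 3, 4, 4, 3, 3, 4, 5, 5, 5, 5, 5, 5, 6, 6]), ([3, 2, 2, 2, 3, 2, 3, 2, 4, 3, 3, 3, 4, 3, 4, 5, 5, 5, 5, 5, 6, 6, 7, 3, 3], [2, 2, 2, 2, 3, 3, 2, 3, 3]), ([2, 2, 3, 2, 2, 3, 2, 4, 3, 3, 4, 3, 4, 5, 5, 6, 6, 3, 3, 3], [2, 2, 3, 2, 2, 3, 2, 3, 2, 3, 3, 3, 4, 5, 5, 5, 5, 5, 5, 5, 5, 5, 6, 3, 3]), ([2, 2, 3, 2, 2, 3, 2, 3, 3, 3, 4, 5, 5, 5, 5, 5, 3, 6, 3], [2, 3, 3, 2, 2, 2, 2, 2, 3, 3, 4, 4, 3, 4, 5, 5, 5, 5, 6, 6, 6, 3]), ([3, 2, 3, 2, 4, 4, 3, 4, 5, 5, 5, 7, 3,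 3], [2, 3, 2, 2, 2, 2, 3, 3]), ([3, 2, 3, 2, 3, 4, 4, 3, 4, 5, 5, 5, 5, 5, 5, 6, 6, 6, 7], [2, 3, 2, 3, 3, 2, 2, 2, 3, 4, 3, 4, 5, 5, 5, 5, 5, 5, 5, 5, 7]), ([3, 3, 3, 2, 3, 2, 2, 2, 4, 4, 5, 5, 3, 6, 7, 3], [3, 3, 2, 4, 4, 5, 5, 5, 5, 5, 5, 5, 6, 7, 3, 3, 3]), ([3, 3, 2, 3, 3, 2, 2, 2, 3, 3, 4, 4, 3, 4, 3, 6, 7], [3, 3, 2, 2, 2, 4, 3, 3, 4, 4, 4, 5, 5, 5, 5, 5, 7, 3, 3]), ([3, 2, 3, 2, 2, 2, 3, 2, 2, 5, 5, 5, 5, 5, 5, 7, 3, 3], [3, 3, 2, 2, 2, 3, 3, 2, 3, 4, 4, 4, 3, 4, 5, 5, 5, 5, 5, 5, 5, 6, 3, 3]), ([2, 2, 2, 2, 2, 4, 3, 3, 4, 5, 5, 5, 5, 5, 5, 5, 7, 3, 3, 3], [2, 2, 3, 2, 2, 2, 3, 3, 4, 3, 4, 4, 5, 5, 5, 5, 5,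 5, 5, 5, 6]), ([3, 2, 3, 2, 2, 2, 3, 4, 4, 4, 3, 4, 5, 5, 5, 6, 3], [2, 3, 2, 3, 2, 4, 3, 4, 4, 4, 5, 5, 5, 5, 5, 3, 6, 7, 3, 3]), ([3, 3, 3, 2, 2, 4, 5, 5, 5, 5, 5, 5, 5, 5, 3, 6, 3, 3, 3], [3, 3, 2, 2, 3, 3, 2, 4, 3, 3, 4, 4, 3, 4, 6, 7, 3]), ([3, 2, 2, 2, 3, 3, 3, 2, 4, 3, 4, 4, 6, 7, 3], [2, 3, 3, 2, 2, 2, 2, 2, 4, 3, 4, 4, 4, 5, 5, 5, 5, 6, 7]), ([3, 3, 3, 2, 2, 4, 6, 3, 3], [3, 2, 2, 3, 4, 3, 4, 5, 5, 5, 5, 5, 7, 3]), ([3, 2, 2, 2, 3, 3, 3, 2, 4, 3, 4, 4, 5, 5, 5, 5, 5, 5, 5, 5, 6, 7, 3, 3, 3], [3, 3, 3, 2, 3, 3, 4, 4, 5, 5, 5, 5, 5, 5, 7]), ([3, 3, 2, 2, 2, 3, 2, 2, 2, 4, 3, 4, 3, 4, 5, 5, 5, 5, 5, 5, 5, 5, 6,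 6, 6, 7, 3, 3, 3], [3, 2, 3, 3, 2, 4, 4, 4, 3, 4, 5, 5, 5, 5, 5, 5, 5, 5, 6]), ([2, 2, 3, 2, 3, 2, 3, 2, 3, 4, 3, 4, 4, 5, 5, 5, 5, 5, 5, 5, 3, 3, 3], [2, 2, 2, 3, 2, 3, 2, 3, 4, 4, 3, 3, 4, 5, 5, 5, 5, 5, 5, 5, 5, 5, 3, 6, 3, 3, 3]), ([2, 2, 3, 2, 2, 3, 2, 3, 2, 4, 3, 4, 4, 4, 3, 4, 5, 5, 5, 5, 5, 3, 6, 7], [3, 2, 2, 2, 2, 3, 4, 4, 3, 4, 5, 5, 5, 3]), ([2, 3, 3, 2, 3, 2, 2, 2, 4, 3, 3, 4, 3, 4, 5, 5, 5, 5, 5, 5, 5, 5], [2, 2, 2, 2, 4, 3, 4, 4, 4, 3, 4, 5, 5, 6, 6, 7, 3]), ([2, 2, 3, 2, 2, 3, 4, 4, 5, 5, 5, 6, 6], [2, 2, 2, 3, 3, 3, 2, 3, 3, 3, 4, 3, 4, 4, 5, 5, 5, 5, 5, 5, 5, 5, 5, 6, 6, 6, 3, 3]), ([3, 2, 3, 2, 2,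 3, 3, 2, 3, 3, 4, 4, 5, 5, 5, 5, 5, 5, 5, 6, 7, 3, 3], [3, 2, 2, 3, 2, 2, 2, 2, 4, 3, 3, 3, 4, 3, 4, 5, 5, 5, 5, 5, 7, 3, 3]), ([2, 2, 3, 4, 4, 4, 5, 5, 5, 5, 6, 7, 3], [2, 3, 3, 2, 2, 3, 3, 2, 3, 4, 4, 3, 3, 4, 5, 5, 5, 5, 5, 5, 5, 3, 6, 7, 3]), ([2, 2, 3, 2, 2, 2, 2, 2, 4, 4, 4, 3, 4, 6, 6, 6, 7, 3, 3], [2, 2, 3, 3, 3, 2, 4, 3, 4, 3, 4, 5, 5, 3, 6, 3, 3]), ([3, 3, 2, 3, 2, 2, 3, 4, 4, 3, 4, 5, 5, 5, 5, 5, 5, 5, 5, 6, 6, 6, 3, 3], [2, 2, 3, 3, 2, 2, 2, 3, 4, 3, 3, 4, 3, 4, 3, 3]), ([3, 2, 2, 2, 3, 2, 4, 3, 4, 4, 4, 5, 3], [3, 3, 3, 2, 2]), ([3, 2, 3, 3, 2, 2, 2, 3, 3, 4, 4, 3, 4, 5, 5, 5, 5, 5, 5, 6, 6, 6, 3, 3, 3],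 [3, 2, 3, 2, 2, 2, 2, 3, 3, 4, 4, 4, 5, 5, 5, 5, 3, 6, 7, 3]), ([2, 3, 2, 2, 2, 3, 2, 2, 4, 4, 3, 4, 5, 5, 7, 3, 3], [3, 2, 3, 2, 2, 4, 4, 5, 5, 5, 5, 5, 6, 6, 3]), ([3, 3, 2, 2, 2, 2, 2, 3, 4, 3, 4, 4, 5, 5, 7, 3], [2, 3, 3, 3, 2, 3, 2, 2, 3, 3, 4, 4, 4, 5, 6, 6, 7, 3]), ([2, 3, 3, 2, 4, 4, 4, 3, 4, 5, 5, 5, 7, 3, 3], [3, 3, 2, 2, 2, 4, 3, 4, 4, 5, 5, 3, 3, 3]), ([3, 2, 2, 2, 3, 2, 3, 2, 3, 3, 3, 4, 5, 5, 5, 5, 5, 5, 5, 5, 5, 6, 6, 6, 7, 3, 3], [2, 3, 2, 2, 3, 3, 2, 2, 2, 3, 4, 4, 3, 4, 5, 5, 6, 6, 7]), ([3, 2, 3, 2, 2, 3, 3, 2, 4, 3, 4, 4, 5, 5, 6, 3, 3], [3, 2, 2, 3, 2, 4, 6, 6, 7, 3, 3, 3]), ([2, 2, 3, 2, 2, 2,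 2, 2, 3, 4, 3, 3, 4, 3, 4, 5, 5, 5, 5, 5, 5, 5, 6, 7, 3], [3, 3, 2, 2, 2, 3, 3, 2, 3, 4, 3, 4, 4, 6, 7, 3, 3]), ([2, 3, 3, 3, 2, 3, 3, 3, 4, 3, 4, 5, 6, 6, 6], [2, 2, 3, 2, 2, 3, 2, 3, 4, 3, 4, 6, 6, 6, 7]), ([2, 3, 3, 2, 3, 3, 2, 2, 2, 4, 3, 3, 4, 4, 4, 5, 5, 5, 6, 6, 3, 3], [2, 2, 2, 3, 3, 2, 3, 3, 4, 4, 4, 6, 6, 6, 7, 3]), ([2, 3, 3, 3, 2, 2, 2, 3, 2, 4, 3, 3, 4, 4, 3, 4, 5, 5, 5, 5, 6, 6, 6, 7, 3, 3, 3], [2, 2, 3, 3, 2, 3, 4, 4, 4, 3, 4, 5, 5, 5, 5, 5, 5, 5, 6, 6, 3, 3, 3]), ([2, 2, 2, 2, 3, 2, 3, 3, 4, 4, 3, 4, 5, 5, 6, 7, 3, 3], [2, 2, 3, 2, 3, 3, 3, 2, 3, 3, 4, 4, 4, 5, 5, 5, 5, 5, 5, 6, 6, 6]), ([3, 2, 3, 2,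 3, 2, 4, 4, 4, 3, 4, 5, 5, 3, 6, 7, 3], [2, 2, 4, 3, 3, 4, 4, 3, 4, 6, 6, 7, 3, 3, 3]), ([3, 2, 2, 3, 3, 2, 5, 5, 5, 6, 3, 3], [3, 3, 2, 2, 3, 3, 4, 4, 5, 5, 5, 5, 6, 7]), ([3, 3, 2, 3, 2, 2, 2, 4, 4, 4, 5, 5, 5, 5, 5, 3, 6, 3], [2, 2, 3, 3, 3, 2, 4, 3, 3, 3, 4, 3, 4, 5, 5, 5, 5, 5, 5, 3, 6, 7, 3, 3, 3]), ([2, 3, 2, 4, 3, 4, 3, 4, 5, 5, 5, 6, 6, 6, 7, 3, 3, 3], [2, 2, 2, 3, 3, 2, 3, 3, 4, 4, 5, 5, 5, 5, 5, 5, 5, 5, 5, 3, 3, 3]), ([2, 3, 3, 3, 2, 3, 3, 2, 4, 3, 4, 4, 4, 3, 4, 5, 5, 5, 5, 5, 5, 3, 6, 7], [2, 2, 2, 3, 3, 2, 3, 3, 3]), ([3, 2, 3, 3, 2, 2, 3, 2, 4, 3, 4, 6, 7, 3], [3, 3, 2, 3, 2, 3, 2, 3, 4, 5, 5, 5, 6,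 3, 3]), ([3, 3, 2, 2, 2, 2, 4, 4, 4, 5, 5, 5, 5, 5, 5, 5, 6, 7, 3, 3], [3, 2, 3, 3, 3, 2, 3, 3, 3, 4, 3, 4, 4, 5, 6, 6, 3, 3, 3]), ([3, 2, 2, 3, 3, 3, 2, 2, 3, 3, 4, 5, 5, 5], [3, 2, 3, 2, 3, 3, 2]), ([2, 3, 2, 3, 3, 2, 2, 2, 4, 3, 3, 4, 3, 4, 6, 6, 6, 7, 3, 3], [2, 2, 2, 3, 4, 4, 4, 3, 4, 6, 6, 6, 7, 3, 3]), ([2, 2, 3, 3, 3, 2, 2, 3, 3, 4, 3, 4, 4, 5, 7, 3], [2, 2, 3, 2, 2, 2, 2, 2, 3, 4, 6, 6, 7, 3, 3]), ([2, 3, 2, 2, 3, 3, 2, 3, 3, 3, 4, 3, 4, 4, 5, 5, 5, 5, 5, 5, 5, 5, 3, 3, 3], [2, 3, 2, 3, 4, 4, 3, 4, 6, 3, 3, 3]), ([3, 3, 2, 3, 2, 3, 2, 5, 5, 5, 5, 5, 5, 5, 3, 3], [3, 2, 3, 2, 2, 2, 2, 2, 2, 4, 4, 3, 3, 4, 5,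 5, 5, 6, 7, 3, 3, 3])],
    [([2, 3, 3, 3, 2, 3, 3, 2, 4, 4, 5, 5, 5, 6, 6, 7, 3, 3], [3, 3, 2, 3, 2, 4, 4, 5, 5, 5, 5, 5, 5, 3, 6, 7, 3]), ([3, 2, 2, 2, 2, 5, 5, 5, 5, 5, 5, 6, 6, 7, 3, 3], [3, 2, 2, 2, 3, 2, 2, 3, 4, 3, 4, 4, 5, 5, 5, 5, 6, 6, 6, 3, 3, 3]), ([2, 2, 2, 3, 2, 3, 4, 4, 3, 3, 4, 5, 5, 5, 5, 5, 3, 6, 7, 3, 3, 3], [2, 2, 3, 2, 3, 2, 2, 4, 3, 3, 4, 4, 3, 4, 5, 6, 6]), ([2, 2, 2, 2, 3, 3, 2, 3, 4, 3, 3, 4, 3, 4, 5, 5, 5, 3, 3], [2, 3, 2, 2, 2, 3, 3, 3]), ([3, 3, 2, 3, 3, 2, 4, 3, 4, 4, 4, 5, 5, 5, 5, 5, 6, 6, 7], [2, 3, 2, 3, 2, 2, 4, 4, 5, 5, 5, 5, 6, 6, 3, 3]), ([2, 3, 2, 3, 2, 2, 3, 3, 3, 4, 5, 5, 5, 5,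 5, 5, 5, 5, 6, 6, 6, 7, 3], [2, 2, 2, 2, 2, 2, 3, 4, 3, 4, 4, 3, 6, 7, 3, 3]), ([2, 3, 2, 3, 2, 3, 3, 2, 3, 4, 3, 4, 4, 5, 6, 6], [3, 2, 2, 3, 2, 4, 3, 4, 4, 4, 5, 5, 5, 5, 5, 6, 7, 3, 3]), ([2, 3, 2, 2, 2, 2, 2, 3, 4, 4, 5, 5, 5, 5, 5, 3, 6], [2, 3, 3, 2, 2, 2, 3, 4, 4, 3, 4, 5, 6, 6, 6, 7, 3]), ([2, 2, 2, 3, 3, 4, 4, 4, 5, 5, 6, 6], [3, 3, 3, 2, 3, 2, 2, 3, 3, 4, 4, 3, 4, 6, 6, 6, 3, 3]), ([2, 3, 2, 3, 2, 3, 3, 2, 4, 3, 4, 4, 4, 5, 5, 3, 3, 3], [3, 3, 3, 2, 3, 2, 2, 3, 3, 3, 4, 3, 4, 5, 5, 5, 5, 5, 6, 3, 3, 3]), ([2, 2, 2, 2, 3, 3, 2, 3, 4, 3, 3, 4, 3, 4, 5, 5, 5, 7, 3, 3, 3], [3, 3, 2, 2, 2, 2, 3, 4, 4, 4, 3, 4,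 5, 5, 6, 6]), ([3, 2, 3, 3, 3, 2, 3, 3, 3, 4, 3, 4, 5, 6, 6, 6, 3, 3, 3], [2, 2, 2, 2, 2, 3, 3, 4, 3, 4, 5, 5, 5, 5, 5, 5, 5, 7, 3, 3, 3]), ([2, 2, 2, 2, 2, 2, 3, 4, 3, 3, 4, 3, 4, 5, 5, 5, 5, 5, 6, 6], [3, 3, 3, 2, 3, 2, 2, 3, 3, 3, 4, 3, 4, 5, 5, 5, 5, 5, 5, 5, 5, 6, 3, 3]), ([2, 2, 2, 2, 2, 2, 5, 5, 6, 6, 6, 7, 3, 3], [2, 3, 2, 2, 3, 2, 3, 2, 3, 3, 4, 4, 5, 5, 5, 5, 5, 5, 5, 5, 5, 3, 3, 3]), ([3, 3, 2, 3, 3, 2, 3, 3, 4, 3, 4, 4, 5, 5, 5, 5, 5, 5, 5, 5, 5, 6, 6, 3], [3, 3, 2, 3, 2, 2, 4, 4, 4, 5, 5, 5, 3, 6, 3, 3, 3]), ([2, 3, 2, 3, 2, 2, 4, 3, 3, 4, 4, 3, 4, 5, 5, 5, 5, 5, 5, 5, 5, 6, 6, 7, 3, 3], [2, 2, 2, 2, 3,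 3, 2, 4, 4, 3, 3, 4, 5, 5, 5, 5, 5, 5, 5, 3, 6, 7, 3]), ([2, 3, 2, 2, 2, 2, 2, 3, 4, 4, 5, 5, 5, 5, 5, 3, 6, 7, 3], [3, 2, 3, 3, 2, 2, 2, 3, 3, 4, 3, 4, 4, 5, 5, 3]), ([2, 3, 3, 2, 5, 5, 5, 5, 5, 5, 5, 5, 3, 3], [2, 3, 2, 3, 2, 3, 2, 4, 3, 3, 4, 5, 5, 5, 5, 6, 3, 3, 3]), ([2, 3, 2, 2, 2, 3, 2, 2, 3, 3, 4, 4, 4, 5, 5, 7, 3], [3, 3, 2, 2, 2, 3, 2, 3, 3, 4, 3, 4, 5, 5, 5, 5, 5, 7, 3, 3, 3]), ([3, 2, 3, 2, 2, 2, 2, 2, 3, 3, 4, 4, 3, 4, 5, 5, 5, 5, 3, 6, 3, 3, 3], [3, 3, 2, 3, 3, 3, 2, 4, 3, 4, 5, 5, 5, 5, 5, 3, 6, 7, 3, 3, 3]), ([2, 3, 2, 2, 2, 3, 2, 4, 4, 3, 3, 4, 5, 5, 5, 5, 5, 7, 3], [3, 2, 2, 3, 2, 3, 2, 4, 4, 4, 3,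 4, 5, 6, 3, 3, 3]), ([2, 3, 3, 3, 2, 2, 4, 3, 4, 4, 5, 5, 5, 5, 5, 5, 5, 5, 7, 3], [2, 3, 2, 3, 3, 2, 2, 2, 3, 3, 4, 3, 4, 5, 5, 5, 5, 5, 5, 3, 6, 7]), ([3, 3, 2, 2, 2, 2, 3, 2, 3, 3, 4, 4, 3, 4, 5, 5, 5, 5, 5, 6, 6, 6, 7], [2, 3, 2, 2, 3, 2, 3, 2, 3, 3, 4, 4, 4, 5, 5, 3, 6, 7, 3]), ([2, 3, 3, 2, 2, 3, 2, 4, 4, 4, 3, 4, 5, 3, 6], [3, 3, 2, 2, 2, 2, 3, 4, 4, 4, 3, 4, 5, 5, 5, 6]), ([2, 3, 2, 2, 2, 2, 4, 3, 4, 5, 5, 6, 6, 6, 3], [3, 3, 3, 2, 2, 2]), ([3, 3, 2, 2, 2, 3, 2, 4, 4, 4, 3, 4, 5, 5, 5, 5, 6, 3], [2, 2, 3, 2, 2, 2, 3, 3, 4, 4, 4, 5, 5, 5, 5, 3, 6, 7, 3]), ([2, 3, 3, 3, 2, 3, 4, 4, 3, 4, 5, 5, 5, 5, 5, 6, 6, 6,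 7, 3, 3, 3], [2, 3, 3]), ([3, 2, 3, 3, 3, 2, 2, 3, 4, 4, 4, 5, 5, 5, 3, 6, 7, 3, 3], [3, 3, 2, 3, 3, 3, 2, 4, 5, 5, 5, 5, 5, 5, 5, 5, 5, 3, 6, 7, 3]), ([2, 3, 3, 3, 2, 3, 2, 3, 3, 4, 5, 5, 5, 6, 6, 6, 7], [3, 2, 2, 3, 2, 3, 2, 3, 3, 3]), ([2, 3, 2, 2, 2, 2, 2, 3, 3, 4, 4, 3, 4, 5, 5, 5, 5, 3, 6], [3, 2, 3, 3, 3, 2, 4, 3, 4, 5, 5, 5, 5, 5, 3, 6, 7, 3, 3, 3]), ([2, 3, 2, 2, 2, 2, 2, 2, 3, 3, 4, 4, 3, 4, 5, 5, 5, 5, 5, 5, 5, 5, 6, 6, 3, 3], [3, 2, 2, 3, 2, 3, 2, 4, 5, 5, 5, 5, 5, 5, 5, 6, 3, 3]), ([2, 2, 2, 2, 3, 3, 2, 3, 4, 4, 3, 3, 4, 5, 5, 5, 5, 5, 5, 6, 6, 3, 3, 3], [3, 2, 2, 2, 3, 3, 2, 3, 3, 4, 4, 5, 5, 5, 5, 5,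 5, 5, 5, 6, 6, 7, 3, 3]), ([3, 3, 2, 2, 2, 3, 3, 4, 3, 4, 4, 5, 5, 7], [2, 2, 2, 2, 2, 3, 2, 3, 4, 3, 6, 7]), ([2, 3, 2, 2, 2, 2, 2, 2, 3, 4, 4, 5, 5, 5, 5, 5, 5, 5, 5, 5, 6, 6, 7, 3], [2, 3, 2, 3, 3, 3, 2, 4, 3, 4, 5, 5, 5, 5, 5, 3, 6, 7, 3]), ([2, 2, 3, 2, 2, 4, 3, 3, 4, 3, 4, 5, 5, 5, 5, 5, 6, 6, 7, 3], [3, 3, 2, 3, 3, 3, 2, 5, 5, 3, 6, 7, 3, 3]), ([3, 3, 2, 2, 2, 2, 2, 4, 4, 5, 5, 5, 5, 5, 6, 6], [3, 2, 2, 2, 3, 2, 4, 4, 5, 5, 5, 5, 5, 5, 3, 6, 7, 3, 3]), ([2, 3, 3, 3, 2, 3, 2, 4, 3, 4, 4, 4, 5, 5, 5, 5, 5, 5, 5, 3, 6, 3, 3, 3], [3, 3, 3, 2, 2, 2, 2, 4, 3, 3, 4, 5, 5, 5, 6, 7]), ([3, 3, 3, 2, 3, 2, 2, 2, 3, 4, 4,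 3, 4, 5, 5, 5, 5], [2, 3, 3, 2, 3, 3, 2, 2, 2, 3, 3, 4, 5, 5, 6, 6, 7, 3]), ([2, 2, 2, 2, 2, 4, 3, 3, 4, 4, 3, 4, 5, 5, 5, 5, 3, 6, 3, 3, 3], [3, 3, 3, 2, 2, 2, 2, 3, 4, 3, 4, 4, 5, 5, 6, 6, 6, 3, 3, 3]), ([3, 2, 3, 2, 2, 2, 3, 2, 2, 4, 3, 4, 3, 4, 5, 5, 5, 5, 5, 5, 5, 6, 6, 6], [2, 2, 3, 2, 3, 3, 2, 2, 2, 4, 3, 4, 3, 6, 7, 3, 3, 3]), ([3, 2, 3, 2, 2, 2, 2, 2, 2, 4, 3, 4, 4, 5, 5, 5, 5, 5, 6], [2, 3, 3, 4, 4, 3, 4, 5, 5, 5, 5, 5, 5]), ([2, 2, 2, 3, 3, 2, 3, 3, 4, 5, 5, 5, 5, 5, 5, 6, 6, 6, 7], [3, 3, 3, 2, 2, 4, 3, 4, 4, 4, 5, 5, 5, 6]), ([2, 2, 2, 2, 2, 4, 3, 3, 4, 4, 3, 4, 5, 5, 3, 6, 3], [2, 3, 2, 3, 2, 3, 3, 2,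 3, 3, 4, 4, 4, 3, 4, 5, 5, 5, 5, 5, 5, 6, 7, 3, 3, 3]), ([2, 2, 2, 3, 3, 2, 3, 4, 3, 3, 4, 3, 4, 5, 5, 5, 5, 5, 5, 5, 5, 5, 6, 7], [3, 2, 3, 2, 2, 2, 2, 2, 3, 3, 4, 4, 5, 5, 3, 6]), ([3, 3, 2, 3, 3, 2, 2, 2, 4, 3, 3, 4, 5, 6, 3], [2, 3, 3, 2, 3, 2, 2, 2, 3, 3, 4, 5, 5, 5, 5, 5, 5, 6, 7]), ([3, 2, 3, 2, 2, 2, 2, 2, 2, 3, 4, 3, 3, 4, 3, 4, 5, 5, 5, 5, 5, 5, 5, 5, 3, 3], [3, 2, 3, 2, 2, 3, 3, 4, 3, 4, 4, 5, 5, 5, 5, 5, 5, 5, 5, 5, 6, 6, 7, 3, 3]), ([3, 2, 3, 2, 2, 2, 3, 2, 2, 4, 3, 3, 4, 3, 4, 5, 5, 5, 5, 5, 6, 6], [3, 3, 2, 3, 2, 2, 2, 4, 5, 3, 6, 7, 3, 3]), ([4, 3, 4, 5, 5, 5, 5, 5, 5, 5, 5, 6, 6, 6, 7, 3, 3, 3], [3,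 3, 2, 2, 2, 3, 2, 4, 4, 3, 3, 4, 6, 6, 6, 7, 3]), ([2, 2, 2, 3, 3, 3, 2, 4, 3, 4, 4, 5, 5, 5, 5, 5, 5, 5, 5, 5, 6, 3], [2, 2, 3, 2, 2, 3, 4, 3, 4, 4, 5, 5, 5, 5, 6, 6, 6, 3, 3, 3]), ([3, 3, 2, 3, 3, 3, 2, 5, 5, 5, 5, 5, 5, 5, 6, 6, 6, 3, 3], [3, 2, 2, 3, 3, 2, 2, 2, 3, 4, 3, 4, 4, 5, 5, 7]), ([3, 2, 2, 3, 3, 2, 2, 2, 4, 3, 3, 4, 5, 5, 5, 5, 6], [2, 2, 3, 2, 3, 2, 3, 2, 3, 3, 3, 4, 3, 4, 5, 5, 3, 6, 7, 3]), ([2, 3, 2, 3, 2, 3, 2, 3, 4, 4, 4, 5, 5, 5, 5, 5, 5, 5, 5, 5, 3, 6, 7, 3, 3, 3], [2, 2, 3, 3, 3]), ([3, 4, 4, 4, 3, 4, 5, 5, 5, 5, 5, 5, 5, 5, 5, 6, 6], [2, 3, 2, 2, 2, 3, 2, 2, 3, 3]), ([2, 2, 3, 3, 2, 4, 3, 4, 5,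 5, 5, 5, 5, 5, 5, 7], [2, 3, 2, 2, 3, 2, 3, 2, 3, 3, 4, 4, 4, 5, 6, 7]), ([2, 3, 3, 3, 2, 4, 6, 6, 7, 3, 3], [3, 3, 2, 3, 3, 2, 4, 3, 3, 4, 3, 4, 5, 5, 5, 5, 5, 5, 5, 6, 7, 3, 3]), ([2, 3, 2, 2, 2, 2, 2, 5, 5, 5, 5, 5, 5, 5, 5, 3, 6, 3], [2, 2, 2, 3, 2, 3, 2, 2, 3]), ([3, 3, 2, 3, 3, 2, 2, 2, 3, 3, 4, 4, 3, 4, 6, 6, 6], [2, 3, 2, 3, 3, 2, 3, 4, 3, 3, 4, 3, 4, 5, 5, 5, 3, 6, 7, 3, 3, 3]), ([2, 2, 2, 3, 3, 2, 4, 3, 4, 4, 5, 6, 6, 6, 3, 3], [3, 3, 2, 3, 2, 2, 2, 3, 3, 4, 3, 4, 5, 5, 5, 5, 5, 6, 3]), ([2, 3, 3, 3, 2, 3, 2, 4, 4, 3, 3, 4, 5, 5, 5, 5, 5, 5, 5, 5, 5, 3, 6], [3, 2, 2, 2, 3, 2, 2, 3, 3, 3, 4, 5, 3, 6, 7]), ([3,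 2, 3, 2, 3, 3, 2, 3, 3, 3, 4, 5, 5, 5, 5, 5, 5, 6, 6, 3, 3, 3], [3, 2, 3, 2, 2, 4, 3, 4, 3, 4, 5, 5, 5, 5, 6, 3]), ([3, 2, 2, 2, 3, 2, 3, 2, 3, 3, 4, 4, 4, 5, 5, 5, 5, 5, 5, 5, 5, 3], [3, 3, 3, 2, 2, 3, 4, 4, 4, 3, 4, 6, 6, 6, 7, 3, 3, 3]), ([3, 2, 3, 2, 2, 3, 3, 2, 3, 4, 3, 4, 5, 5, 5, 5, 5, 5, 5, 5, 5, 7, 3], [3, 2, 3, 2, 2, 3, 4, 3, 4, 4, 5, 5, 5, 5, 6, 6, 6]), ([3, 3, 2, 2, 2, 3, 3, 4, 4, 4, 5, 5, 6, 6, 3, 3], [2, 2, 2, 3, 2, 2, 3, 3, 4, 4, 3, 4, 5, 5, 5, 5, 5, 6, 3]), ([3, 3, 3, 2, 3, 2, 4, 3, 4, 3, 4, 5, 5, 5, 6, 6, 6, 7], [2, 3, 2, 3, 2, 2, 2, 2, 2, 4, 3, 3, 4, 4, 3, 4, 3, 6, 3, 3, 3])],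
    [([2, 2, 3, 3, 2, 4, 3, 3, 4, 4, 3, 4, 6, 6, 6, 7, 3], [3, 3, 3, 2, 3, 2, 3, 3]), ([2, 3, 2, 2, 3, 2, 3, 2, 3, 4, 4, 4, 3, 4, 5, 5, 5, 5, 6, 3, 3], [2, 3, 3, 2, 3, 4, 4, 5, 5, 5, 5, 5, 5, 5, 3, 6, 3]), ([2, 3, 2, 2, 2, 3, 2, 4, 3, 3, 4, 4, 3, 4, 5, 5, 5, 5, 7, 3, 3], [2, 3, 2, 2, 3, 2, 3, 2, 3, 4, 4, 5, 5, 5, 5, 5, 5, 5, 7, 3, 3, 3]), ([4, 3, 4, 5, 5, 5, 5, 3, 3, 3], [3, 2, 2, 2, 2, 2, 3, 4, 3, 4, 5, 5, 5, 6, 6, 3, 3, 3]), ([3, 3, 3, 2, 2, 2, 2, 3, 2, 3, 4, 4, 4, 5, 6, 6, 6, 3, 3], [2, 3, 3, 3, 2, 2, 3, 3, 3, 4, 3, 4, 4, 5, 5, 5, 5, 5, 5, 5, 7]), ([3, 3, 3, 2, 2, 2, 2, 3, 2, 4, 3, 4, 4, 4, 3, 4, 5, 5, 5, 5, 5],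 [3, 3, 2, 3, 2, 3]), ([2, 2, 3, 2, 3, 3, 4, 4, 4, 5, 5, 5, 5, 5, 5, 5, 5, 5, 6, 3, 3], [2, 2, 2, 3, 3, 2]), ([3, 2, 4, 3, 3, 4, 5, 5, 5, 5, 3, 6, 3], [3, 2, 3, 2, 3, 2, 3, 3, 3]), ([3, 2, 2, 2, 3, 2, 3, 3, 3, 4, 7, 3, 3], [2, 3, 2, 2, 4, 3, 3, 3, 4, 3, 4, 5, 5, 5, 5, 5, 7, 3, 3, 3]), ([2, 3, 2, 3, 3, 2, 3, 3, 3, 4, 3, 4, 4, 5, 3], [3, 3, 2, 2, 2, 2, 3, 2, 3, 4, 5, 7, 3, 3, 3]), ([2, 3, 3, 2, 4, 3, 3, 4, 5, 5, 5, 5, 5, 5, 5, 5, 6, 6, 6, 7], [3, 2, 3, 2, 4, 3, 4, 4, 4, 5, 5, 5, 5, 5, 5, 5, 5, 5, 3, 6]), ([3, 3, 2, 2, 3, 3, 2, 2, 2, 3, 4, 3, 3, 4, 3, 4, 5, 5, 5, 5, 3, 6, 3, 3], [2, 3, 2, 3, 2, 3, 2, 3, 3]), ([2, 2, 4,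 4, 3, 3, 4, 5, 6, 6, 6, 7], [3, 2, 2, 2, 2, 2, 2, 3, 3, 3, 4, 5, 5, 5, 5, 6, 3, 3]), ([2, 3, 2, 3, 3, 2, 3, 3, 4, 4, 5, 5, 5, 5, 5, 3, 6, 3], [2, 3, 2, 2, 2, 3, 2, 2, 4, 5, 5, 5, 5, 5, 5, 5, 3, 3, 3]), ([2, 2, 3, 2, 2, 2, 2, 2, 4, 5, 5, 5, 5, 5, 5, 5, 5, 5, 6, 6, 3, 3, 3], [2, 2, 3, 3, 3, 2, 3, 2, 2, 3, 3, 4, 4, 3, 4, 6, 6, 6, 3, 3]), ([2, 3, 3, 2, 2, 2, 2, 2, 4, 4, 3, 3, 4, 5, 5, 5, 5, 5, 5, 5, 5, 6, 6, 6, 7], [3, 2, 2, 4, 3, 3, 4, 3, 4, 5, 5, 5, 5, 5, 5, 6, 6, 7, 3]), ([3, 4, 4, 4, 3, 4, 5, 5, 5, 5, 5, 6, 7, 3, 3], [3, 3, 2, 3, 2, 2, 2, 4, 4, 4, 6, 6, 7, 3, 3]), ([2, 2, 3, 3, 2, 4, 3, 4, 5, 5, 5, 5, 5, 5, 5, 5, 5,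 6, 6, 7], [3, 3, 2, 2, 2, 3, 2, 2, 2, 3, 3, 4, 5, 5, 5, 5, 5, 5, 6, 6, 6, 7, 3]), ([2, 2, 2, 2, 2, 4, 4, 3, 3, 4, 5, 3, 3], [2, 2, 3, 2, 2, 3, 4, 4, 4, 5, 5, 5, 6, 6, 7, 3, 3]), ([3, 3, 2, 3, 3, 2, 2, 2, 3, 3, 4, 4, 4, 3, 4, 5, 5, 5, 5, 5, 5, 5, 5, 6, 6, 3], [3, 3, 2, 3, 2, 2, 4, 3, 4, 3, 4, 5, 5, 3, 3]), ([3, 2, 3, 2, 2, 2, 2, 2, 2, 3, 3, 4, 5, 5, 5, 3, 6, 3, 3], [3, 3, 2, 2, 2, 3, 2, 3, 3, 4, 4, 3, 4, 5, 6, 3, 3, 3]), ([3, 2, 3, 2, 2, 2, 4, 4, 4, 3, 4, 5, 5, 5, 5, 7, 3, 3], [2, 3, 2, 3, 2, 3, 2, 3, 3, 4, 4, 4, 5, 6, 7, 3, 3, 3]), ([3, 3, 3, 2, 3, 2, 2, 2, 4, 3, 3, 4, 4, 3, 4, 5, 5, 5, 5, 3, 6, 3], [2, 2, 2, 2, 4,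 4, 3, 4, 5, 5, 5, 5, 5, 5, 7]), ([3, 3, 2, 2, 2, 3, 3, 2, 3, 3, 4, 4, 3, 4, 5, 5, 5, 5, 5, 5, 5, 5, 5, 6, 7, 3, 3, 3], [2, 3, 3, 2, 2, 3, 2, 4, 3, 3, 4, 4, 3, 4, 5, 5, 5, 5, 5, 5, 5, 6, 6, 7]), ([3, 3, 2, 3, 2, 3, 2, 4, 3, 4, 4, 5, 5, 5, 5, 6, 6, 6, 7, 3], [2, 3, 3, 2, 2, 2, 4, 5, 5, 5, 5, 5, 5, 5, 5, 5, 3, 6, 7, 3, 3]), ([2, 3, 3, 2, 3, 3, 3, 4, 3, 4, 4, 5, 5, 5, 6, 6, 3, 3], [3, 2, 2, 3, 2, 3, 2, 3, 4, 4, 4, 6, 3, 3, 3]), ([2, 3, 2, 3, 3, 3, 2, 3, 4, 5, 6, 6, 3, 3, 3], [3, 3, 3, 2, 2, 2, 2, 3, 2, 4, 4, 3, 4, 5, 5, 5, 5, 6, 7]), ([2, 2, 3, 2, 3, 2, 3, 4, 3, 4, 4, 5, 5, 5, 5, 5, 5, 5, 5, 5, 6, 6, 6, 7], [2, 2, 2, 2,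 3, 4, 4, 3, 4, 5, 6, 6, 6, 7, 3]), ([3, 3, 2, 3, 2, 3, 4, 3, 3, 4, 3, 4, 5, 5, 5, 5, 6, 6, 3], [2, 2, 2, 3, 2, 4, 5, 5, 5, 5, 5, 5, 5, 5, 6, 6, 6, 7, 3]), ([2, 3, 2, 2, 2, 2, 2, 2, 3, 3, 3, 4, 3, 4, 5, 5, 5, 5, 5, 5, 5, 5, 5, 6, 7, 3, 3, 3], [3, 3, 2, 2, 2, 3, 3, 3, 4, 5, 6, 6, 7, 3, 3]), ([3, 3, 3, 2, 3, 2, 3, 2, 5, 5, 5, 5, 5, 5, 5, 5, 6, 6, 3], [3, 3, 2, 2, 2, 2, 3, 2, 4, 3, 4, 4, 4, 3, 4, 5, 7, 3, 3, 3]), ([2, 3, 2, 2, 2, 4, 6, 7, 3], [3, 3, 2, 3, 2, 4, 3, 3, 3, 4, 3, 4, 5, 5, 5, 5, 5, 5, 6, 6, 6, 7, 3, 3, 3]), ([2, 3, 2, 2, 3, 3, 2, 2, 2, 3, 4, 5, 5, 5, 5, 5, 5, 5, 5, 6, 6, 7, 3, 3, 3], [2, 2, 3, 3, 2, 3]), ([3,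 3, 2, 4, 3, 4, 3, 4, 5, 5, 5, 5, 6, 6, 6, 7], [2, 2, 2, 3, 2, 3, 2, 2, 3, 4, 3, 3, 4, 3, 4, 5, 3, 6, 3, 3, 3]), ([3, 2, 3, 2, 2, 3, 3, 2, 4, 3, 3, 4, 4, 4, 5, 5, 5, 3, 3], [2, 2, 3, 2, 2, 3, 2, 3, 4, 5, 5, 5, 5, 5, 5, 5, 3, 6, 7]), ([3, 3, 2, 2, 3, 3, 3, 4, 5, 5, 5, 5, 5, 5, 5, 5, 5, 3], [3, 2, 2, 3, 2, 2, 2, 2, 4, 3, 3, 4, 3, 4, 5, 5, 5, 5, 5, 5, 5, 5, 5, 6, 6, 6, 3, 3]), ([3, 2, 2, 4, 3, 4, 3, 4, 5, 6, 6, 6], [3, 3, 3, 2, 2, 4, 3, 3, 4, 4, 3, 4, 6, 6, 7]), ([3, 3, 2, 2, 3, 3, 2, 5, 5, 5, 5, 5, 5, 5, 6, 3, 3, 3], [3, 2, 3, 2, 2, 2, 3]), ([2, 2, 3, 2, 2, 2, 2, 2, 2, 4, 4, 4, 5, 5, 5, 5, 5, 5, 5, 5, 6], [2, 2, 2, 3,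 3, 2, 3, 4, 3, 4, 4, 5, 5, 5, 5, 5, 5, 5, 5, 6, 6, 6, 3]), ([3, 2, 3, 3, 3, 2, 3, 2, 4, 3, 3, 3, 4, 3, 4, 5, 3, 6, 7], [2, 3, 2, 2, 2, 2, 3, 4, 4, 4, 3, 4, 5, 5, 6, 6]), ([2, 3, 2, 2, 3, 3, 2, 2, 2, 3, 3, 4, 4, 4, 5, 5, 5, 5, 5, 5, 5, 6, 3, 3], [2, 3, 2, 3, 3, 2, 4, 4, 3, 3, 4, 5, 5, 5, 3, 6, 3, 3]), ([3, 2, 3, 3, 4, 5, 5, 5, 5, 3, 6, 7], [3, 3, 3, 2, 2, 3, 4, 3, 4, 3, 6, 7, 3]), ([2, 3, 2, 2, 3, 2, 3, 4, 3, 3, 4, 3, 4, 5, 6, 3], [2, 3, 2, 3, 3, 3, 2, 3, 3, 3, 4, 3, 4, 4, 5, 6, 6, 3]), ([3, 3, 2, 3, 3, 4, 5, 5, 5, 5, 5, 5, 3, 6], [3, 2, 3]), ([3, 2, 3, 2, 2, 2, 2, 4, 3, 4, 4, 4, 7], [3, 2, 2, 3, 2, 3, 3, 4, 4, 4, 3,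 4, 3]), ([3, 3, 3, 2, 2, 2, 3, 3, 4, 4, 4, 5, 5, 6, 6, 3], [3, 2, 2, 2, 3, 2, 2, 3, 4, 3, 4, 4, 6, 6, 6, 7, 3]), ([2, 3, 3, 3, 2, 2, 2, 3, 2, 5, 5, 5, 5, 5, 7, 3, 3, 3], [3, 3, 2, 2, 2, 3, 2, 2, 2, 4, 3, 4, 4, 5, 5, 5, 5, 5, 5, 5, 5, 6, 3]), ([3, 2, 3, 2, 2, 2, 2, 2, 4, 3, 3, 4, 3, 4, 5, 5, 5, 5, 5, 5, 5, 5, 5, 6, 6, 6, 7, 3], [3, 2, 3, 3, 3, 2, 2, 4, 4, 4, 5, 5, 5, 5, 5]), ([3, 2, 3, 3, 3, 2, 4, 3, 3, 3, 4, 3, 4, 5, 5, 5, 5, 5, 6, 3], [3, 3, 3, 2, 2, 2, 2, 3, 2, 3, 4, 3, 3, 4, 3, 4, 5, 5, 6, 6, 6]), ([5, 5, 6, 6], [2, 3, 3, 3, 2, 3, 2, 3, 3, 4, 5, 3, 3, 3]), ([2, 3, 3, 2, 3, 2, 3, 3, 4, 4, 3, 4, 5, 5, 5, 5, 5, 5, 5,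 5, 3, 3], [3, 2, 2, 3, 2, 2, 2, 2, 4, 3, 3, 4, 4, 4, 5, 5, 5, 6, 6, 6, 3, 3, 3]), ([2, 3, 3, 2, 2, 3, 3, 2, 3, 3, 4, 4, 4, 3, 4, 3, 6, 3], [3, 2, 3, 2, 2, 2, 2, 2, 2, 3, 4, 4, 3, 4, 5, 5, 5, 5, 5, 5, 5, 5, 3]), ([5, 5, 6, 6, 6, 7, 3, 3], [2, 2, 3, 2, 2, 2, 2, 3, 3, 3, 4, 5, 5, 5, 5, 5, 5, 5, 6, 6, 6, 7, 3]), ([2, 3, 3, 2, 3, 2, 3, 3, 4, 4, 3, 4, 5, 5, 5, 5, 5, 5, 5, 5, 6, 6], [2, 3, 2, 2, 3, 2, 3, 2, 3, 4, 3, 4, 4, 5, 5, 5, 5, 5, 5, 7, 3, 3, 3]), ([2, 3, 3, 2, 2, 3, 3, 2, 3, 3, 4, 4, 4, 3, 4, 6, 6, 7], [2, 3, 3, 2, 3, 2, 4, 3, 4, 3, 4, 5, 5, 5, 7, 3, 3, 3]), ([3, 3, 3, 2, 3, 2, 3, 2, 4, 3, 3, 4, 5, 6, 6, 6], [2, 2,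 3, 2, 3, 2, 2, 3, 4, 3, 3, 4, 3, 4, 5, 5, 5, 5, 5, 5, 5, 5, 5, 6, 6, 6, 3]), ([3, 2, 2, 2, 3, 2, 3, 2, 3, 4, 4, 4, 5, 5, 5, 3, 6, 7, 3], [2, 3, 3, 2, 2, 2, 2, 2, 4, 3, 3, 4, 5, 5, 5, 6, 7]), ([2, 2, 3, 2, 2, 3, 2, 3, 4, 5, 5, 5, 5, 5, 5, 5, 5, 3, 3, 3], [2, 2, 2, 3, 2, 2, 4, 3, 4, 5, 5, 5]), ([2, 2, 3, 2, 2, 3, 2, 4, 3, 4, 3, 4, 5, 5, 5, 5, 5, 5, 5, 5, 5, 6, 6, 6, 7], [3, 3, 3, 2, 3, 3, 4, 4, 3, 4, 5, 5, 6, 7, 3, 3, 3]), ([2, 2, 3, 2, 2, 3, 2, 4, 4, 5, 5, 5, 5, 5, 5, 6, 3, 3, 3], [2, 2, 3, 2, 3, 3, 3, 2, 4, 3, 3, 4, 4, 4, 5, 5, 5, 5, 5, 7, 3, 3]), ([2, 2, 2, 3, 2, 3, 2, 2, 4, 3, 4, 5, 6, 7, 3], [3, 3, 2, 3, 3, 3, 2,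 4, 3, 4, 4, 4, 5, 5, 5, 5, 5, 5, 5, 7, 3, 3, 3]), ([4, 4, 3, 3, 4, 5, 5, 5, 5, 5, 5, 5, 5, 6, 6, 7, 3], [3, 3, 2, 2, 2, 3, 3, 2, 4, 5, 5, 5, 5, 5, 5, 6, 6, 3]), ([3, 2, 2, 2, 2, 2, 2, 3, 3, 4, 4, 4, 5, 5, 5, 6, 6, 6, 3, 3], [3, 3, 2, 2, 2, 3, 3, 2, 3, 3, 4, 4, 5, 5, 5, 5, 5, 5, 5, 6, 6, 6, 7]), ([3, 2, 3, 3, 3, 2, 3, 3, 3, 4, 3, 4], [3, 3, 2, 2, 2, 2, 3, 2, 4, 3, 4, 4, 4, 3, 4, 5, 7, 3, 3])]]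

/-- part of a table -/
def conjs13 : List (List (List ℕ × List ℕ)) :=
  [[([2, 2, 2, 3, 3, 4, 4, 4, 5, 5, 5, 5, 5, 5, 5, 5, 5, 3, 6, 3, 3], [3, 2, 3, 2, 3, 2, 4, 4, 4, 3, 4, 5, 5, 5, 5, 5, 5, 5, 6, 6, 7, 3, 3]), ([2, 3, 2, 3, 2, 2, 2, 2, 2, 4, 3, 4, 4, 4, 5, 5, 5, 5, 5, 6, 6, 3, 3, 3], [3, 2, 2, 3, 2, 2, 2, 2, 4, 4, 4, 5, 7, 3, 3]), ([2, 3, 3, 3, 2, 2, 2, 3, 2, 3, 4, 4, 5, 6, 6, 3, 3, 3], [3, 3, 2, 2, 3, 2, 4, 6, 6, 7, 3, 3, 3]), ([2, 2, 3, 3, 3, 2, 3, 4, 3, 4, 5, 5, 5, 6, 6, 6], [2, 3, 2, 3, 2, 3, 3, 4, 4, 4, 5, 5, 5, 5, 5, 3, 6, 3, 3, 3]), ([3, 3, 2, 3, 2, 3, 2, 4, 4, 5, 5, 5, 5, 6, 6], [3, 2, 2, 3, 4, 3, 4, 4, 5,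 5, 5, 6, 3, 3]), ([3, 2, 2, 2, 3, 2, 4, 3, 3, 4, 4, 3, 4, 5, 5, 5, 5, 5, 5, 5, 5, 6, 3, 3], [3, 2, 2, 3, 4, 4, 3, 3, 4, 5, 5, 5, 5, 6]), ([4, 3, 4, 3, 6, 7], [2, 3, 3, 3, 2, 3, 2, 3, 3]), ([2, 2, 3, 3, 3, 2, 3, 2, 3, 4, 4, 3, 4, 6, 6, 3, 3], [3, 3, 2, 2, 2, 2, 3, 4, 3, 3, 4, 3, 4, 5, 5, 6, 6, 7]), ([3, 2, 3, 3, 4, 5, 5, 5, 5, 7, 3, 3], [3, 2, 2, 2, 3, 3, 3, 2, 3, 4, 3, 4, 5, 5, 5, 5, 5, 5, 5, 5, 6, 3, 3]), ([2, 3, 2, 2, 3, 3, 2, 2, 2, 3, 3, 4, 4, 4, 5, 5, 5, 5, 5, 5, 5, 6, 6, 6, 7, 3, 3, 3], [3, 2, 2, 2, 3, 2, 2, 3, 3, 3, 4, 3, 4, 4, 6, 6, 6, 7, 3, 3, 3]), ([3, 3, 2, 2, 2, 2, 2, 4, 4, 3, 3, 4, 5, 5, 5, 5, 5, 5, 5, 5,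 6, 6, 3, 3], [2, 3, 3, 2, 2, 3, 2, 4, 4, 3, 3, 4, 5, 5, 5, 5, 5, 5, 5, 5, 6, 7, 3]), ([3, 3, 2, 3, 2, 3, 4, 3, 3, 4, 3, 4, 5, 5, 5, 5, 5, 5, 6], [2, 2, 2, 2, 2, 3, 2, 3, 4, 3, 3, 4, 3, 4, 5, 5, 5, 3, 6, 3]), ([2, 2, 3, 2, 3, 3, 2, 2, 2, 3, 4, 4, 3, 3, 4, 5, 5, 5, 5, 5, 5, 3, 6, 7, 3, 3, 3], [3, 2, 3, 2, 2, 2, 2, 3, 3, 4, 4, 4, 5, 5, 5, 5, 3, 6, 7, 3, 3, 3]), ([3, 2, 2, 2, 2, 3, 3, 3, 4, 5, 7, 3], [2, 2, 2, 3, 2, 4, 3, 4, 3, 4, 5, 5, 5, 5, 5, 3, 3, 3]), ([3, 3, 3, 2, 3, 2, 3, 2, 4, 4, 4, 3, 4, 5, 5, 5, 5, 5, 5, 5, 5, 5, 3, 6, 7, 3], [3, 3, 2, 2, 4, 3, 3, 4, 3, 4, 5, 5, 5, 6, 6, 6]), ([3, 4, 3, 4, 5, 5, 5, 5, 5, 5, 5,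 5, 6, 6, 6, 7, 3, 3], [2, 2, 3, 3, 3, 2, 2, 4, 4, 5, 5, 5, 5, 6, 3]), ([2, 3, 3, 2, 2, 2, 4, 3, 3, 4, 3, 4, 5, 5, 6, 3, 3], [2, 2, 2, 3, 2, 2, 2, 4, 3, 4, 4, 5, 5, 5, 5, 5, 5, 5, 5, 6]), ([4, 3, 4, 5, 5, 5, 5, 5, 5, 5, 6, 6, 3, 3, 3], [2, 2, 2, 2, 3, 3]), ([2, 2, 2, 2, 3, 4, 5, 5, 5, 5, 5, 3, 6, 7, 3, 3], [3, 3, 2, 2, 2, 2, 4, 4, 3, 3, 4, 5, 5, 5, 5, 5, 5]), ([2, 2, 2, 2, 3, 4, 4, 3, 4, 5, 7, 3], [2, 2, 2, 3, 3, 2, 3, 3, 4, 3, 4, 6, 6, 6, 7]), ([2, 3, 3, 2, 3, 2, 3, 4, 3, 4, 5, 5, 5, 3, 6, 3, 3, 3], [2, 2, 3, 2, 2, 2, 2, 2, 2, 3, 4, 3, 4, 4, 5, 5, 5, 5, 5, 5, 5, 5, 6, 7, 3, 3, 3]), ([3, 3, 3, 4, 3, 4, 5, 5, 5, 5, 5,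 5, 5, 6, 6], [2, 3, 2, 2, 2, 2, 2]), ([3, 3, 2, 2, 3, 3, 2, 2, 2, 4, 3, 3, 3, 4, 3, 4, 5, 5, 5, 5, 5, 5, 6, 3], [2, 2, 3, 2, 2, 3, 4, 3, 4, 6, 6]), ([2, 3, 3, 2, 5, 5, 5, 5, 5, 5, 5, 5, 3, 6, 7, 3], [2, 3, 3, 2, 2, 3, 2, 3, 4, 4, 3, 3, 4, 5, 5, 5, 5, 6, 6, 6, 7, 3]), ([3, 2, 3, 2, 2, 3, 3, 2, 3, 3, 3, 4, 3, 4, 4, 5, 5, 5, 5, 5, 5, 5, 5, 3, 3], [3, 3, 3, 2, 2, 2, 2, 3, 3, 4, 4, 5, 6, 6, 7, 3, 3]), ([2, 2, 2, 3, 2, 3, 4, 4, 5, 5, 5, 5, 6, 6, 6, 7], [2, 3, 2, 3, 3, 2, 3, 3, 3, 4, 5, 5, 5, 5, 5, 5, 5, 5, 6, 3, 3]), ([2, 2, 3, 3, 3, 2, 3, 3, 4, 4, 5, 6, 6, 7, 3, 3], [2, 3, 2, 2, 2, 3, 2, 3, 4, 3, 3, 4, 3, 4, 5, 3, 6, 7,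 3, 3]), ([2, 3, 2, 2, 3, 2, 3, 4, 3, 3, 4, 3, 4, 5, 5, 5, 5, 5, 5, 5, 3, 6, 7, 3], [3, 3, 2, 2, 2, 3, 2, 2, 2, 4, 4, 4, 3, 4, 5, 5, 6, 6, 7, 3, 3]), ([3, 3, 2, 3, 3, 4, 5, 5, 5, 5, 7, 3], [2, 3, 3, 2, 3, 2, 2, 2, 4, 4, 4, 6, 6, 7, 3, 3]), ([3, 2, 2, 2, 2, 3, 4, 4, 5, 5, 5, 6, 6, 7, 3], [3, 2, 2, 2, 3, 2, 3, 2, 3, 4, 4, 3, 3, 4, 5, 6, 6, 6, 3, 3, 3]), ([3, 3, 2, 3, 3, 2, 4, 3, 4, 4, 4, 5, 5, 5, 5, 5, 5, 6, 7, 3, 3, 3], [3, 3, 2, 2, 2, 2, 3, 2, 3, 3, 3, 4, 3, 4, 4, 5, 5, 5, 5, 5, 5, 3, 6, 7, 3, 3]), ([3, 2, 2, 2, 2, 2, 2, 3, 3, 4, 4, 4, 5, 5, 5, 5, 5, 3, 3, 3], [2, 3, 3, 2, 2, 2, 4, 3, 4, 4, 5, 5, 3, 3]), ([3, 3, 2, 3,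 2, 2, 2, 4, 3, 3, 3, 4, 3, 4, 5, 5, 5, 6, 6, 7], [2, 3, 2, 3, 3, 2, 2, 2, 4, 4, 4, 3, 4, 5, 5, 6, 6, 6, 3]), ([2, 3, 2, 3, 2, 2, 4, 3, 3, 4, 4, 3, 4, 5, 5, 5, 5, 5, 5, 5, 3], [3, 2, 3, 2, 2, 3, 3, 2, 3, 4, 4, 5, 5]), ([2, 3, 2, 3, 2, 2, 2, 2, 2, 4, 3, 4, 4, 4, 5, 5, 5, 5, 5, 5, 5, 6, 3, 3], [3, 2, 3, 3, 3, 2, 3, 2, 3, 3, 4, 5]), ([3, 2, 2, 2, 3, 2, 3, 2, 4, 3, 4, 4, 4, 3, 4, 5, 5, 3, 6, 7], [2, 2, 2, 3, 3, 2, 4, 4, 4, 3, 4, 6, 6, 6, 7, 3, 3]), ([3, 3, 2, 3, 3, 2, 4, 5, 5, 5, 5, 5, 5, 6, 6, 6, 7, 3, 3], [2, 2, 2, 3, 2, 3, 2, 3, 4, 3, 4, 5, 5, 5, 5, 5, 5, 5, 5]), ([3, 3, 2, 3, 2, 3, 2, 4, 5, 5, 5, 5, 5, 5, 3, 3], [2,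 3, 2, 2, 3, 3, 2, 2, 2, 4, 5, 6, 6, 6, 3, 3]), ([3, 2, 2, 3, 2, 2, 2, 2, 4, 4, 4, 3, 4, 5, 5, 5, 5, 5, 5, 5, 5, 6, 6, 7, 3, 3], [3, 3, 2, 2, 2, 3, 2, 2, 2, 3, 3, 4, 3, 4, 4, 5, 5, 6, 6, 6, 3]), ([3, 3, 2, 2, 3, 2, 3, 3, 4, 4, 5, 5, 5, 5, 5, 5, 5, 5, 5, 6], [2, 3, 2, 2, 3, 2, 4, 4, 3, 4, 5, 5, 5, 5, 5, 5, 5, 5, 6, 6, 7, 3, 3]), ([3, 2, 3, 3, 4, 5, 5, 5, 5, 5, 5, 5, 5, 6, 7, 3], [2, 2, 3, 3, 3, 2, 3, 2, 2, 5, 5, 5, 3, 6, 7]), ([2, 3, 2, 2, 3, 3, 2, 2, 2, 3, 3, 4, 4, 4, 5, 5, 5, 5, 5, 6, 6, 3, 3, 3], [3, 2, 2, 3, 3, 2, 4, 3, 4, 4, 3, 3]), ([2, 3, 3, 2, 2, 2, 2, 2, 3, 4, 3, 3, 4, 3, 4, 5, 3, 3], [2, 3, 3, 2, 3, 2, 3, 4,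 4, 3, 3, 4, 5, 5, 5, 5, 5, 5, 6, 6, 3, 3]), ([2, 2, 3, 2, 2, 2, 2, 2, 3, 4, 3, 3, 4, 3, 4, 5, 5, 5, 5, 5, 5, 5, 6, 7, 3, 3, 3], [3, 3, 2, 2, 4, 3, 3, 4, 3, 4, 5, 5, 5, 5, 5, 5, 6, 6, 7, 3]), ([2, 3, 2, 4, 3, 4, 4, 4, 5, 5, 5, 5, 5, 6, 6], [3, 2, 2, 2, 3, 3, 2, 3, 3, 3, 4, 3, 4, 5, 6, 6, 3, 3]), ([2, 3, 2, 2, 2, 3, 2, 2, 3, 4, 3, 3, 4, 3, 4, 5, 5, 5, 5, 5, 5, 5, 3, 6, 7, 3, 3, 3], [3, 2, 2, 2, 2, 3, 2, 3, 3, 4, 4, 4, 5, 5, 5, 5, 5, 5, 5, 5, 3, 6, 7, 3]), ([2, 3, 3, 3, 2, 3, 2, 4, 4, 3, 4, 5, 6, 6, 7], [2, 2, 3, 3, 3, 2, 3, 2, 2, 4, 3, 4, 4, 5, 5, 5, 5, 5, 5, 5, 5, 5, 6, 6, 7, 3, 3]), ([3, 2, 2, 2, 3, 2, 2, 4, 3, 3, 4,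 5, 5, 5, 5, 6, 6, 7, 3], [3, 2, 3, 2, 2, 4, 3, 4, 4, 5, 5, 5, 5, 5, 5, 7, 3]), ([2, 3, 3, 2, 3, 3, 2, 2, 2, 3, 3, 4, 3, 4, 4, 5, 5, 5, 5, 5, 6, 6, 7, 3, 3], [2, 2, 3, 2, 3, 2, 2, 3, 3, 4, 3, 4, 4, 5, 5, 5, 5, 5, 5, 5, 5, 6, 7, 3, 3]), ([2, 3, 3, 2, 3, 2, 4, 3, 4, 3, 4, 3, 3, 3], [3, 2, 3, 2, 3, 2, 3]), ([2, 3, 3, 2, 2, 2, 4, 4, 4, 3, 4, 5, 5, 5, 5, 5, 5, 5, 5, 5, 3, 6, 3, 3, 3], [2, 3, 3, 2, 3, 2, 3]), ([4, 4, 3, 3, 4, 5, 5, 5, 5, 5, 5, 5, 3, 6], [2, 3, 2, 3, 2, 3, 2, 3, 4, 3, 4, 4, 5, 5, 5, 6, 3, 3, 3]), ([2, 3, 2, 2, 2, 2, 2, 2, 3, 4, 4, 4, 3, 4, 5, 5, 5, 5, 5, 6, 6, 7], [3, 2, 3, 3, 2, 4, 3, 3, 4, 4, 3, 4, 5, 5,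 5, 5, 3, 6, 7]), ([3, 3, 3, 2, 3, 3, 2, 3, 3, 3, 4, 5, 5, 5, 6, 6, 6, 7], [3, 2, 2, 2, 3, 3, 2, 3, 3, 4, 3, 4, 5, 5, 5, 5, 5, 5, 5, 5, 5, 6, 6, 6, 7, 3, 3]), ([2, 3, 2, 2, 2, 3, 2, 2, 4, 4, 5, 5, 5, 5, 5, 5, 5, 5, 6, 6, 7, 3, 3, 3], [2, 2, 3, 2, 2, 2, 2, 2, 2]), ([2, 3, 2, 2, 3, 3, 2, 2, 2, 3, 3, 4, 3, 4, 4, 5, 7, 3, 3, 3], [3, 3, 3, 2, 3, 2, 3, 2, 4, 4, 3, 3, 4, 5, 5, 5, 5, 5, 5, 5, 3]), ([2, 2, 3, 2, 3, 3, 2, 2, 2, 3, 4, 5, 3, 6, 3, 3], [3, 2, 2, 3, 3, 3, 2, 2, 4, 3, 4, 5, 5, 5, 5, 3, 3]), ([3, 3, 2, 3, 2, 3, 2, 3, 4, 5, 5, 5, 6, 6, 3, 3, 3], [2, 3, 3, 3, 2, 2, 2, 3, 2, 4, 3, 4, 5, 5, 5, 5, 5, 5, 5, 5, 6, 7, 3]),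 ([3, 3, 3, 2, 2, 2, 5, 5, 6, 6, 6, 7, 3, 3, 3], [2, 3, 2, 3, 3, 2, 3, 3, 3, 4, 5, 5, 5, 5, 5, 5, 5, 5, 6, 3]), ([3, 3, 3, 2, 3, 3, 2, 3, 3, 4, 4, 4, 3, 4, 5, 5, 5, 5, 5, 5, 5, 5, 5, 7, 3, 3, 3], [3, 2, 2, 2, 3, 2, 2, 2, 3, 3, 4, 3, 4, 4, 5, 5, 6, 6, 6, 3, 3]), ([2, 3, 3, 3, 2, 3, 2, 3, 4, 4, 4, 5, 5, 5, 5, 5, 5, 6, 7, 3], [2, 3, 2, 2, 2, 3, 2, 2, 3, 4, 4, 4, 5, 5, 5, 5, 5, 3, 6, 7, 3, 3]), ([3, 2, 3, 2, 2, 3, 3, 2, 4, 3, 3, 4, 3, 4, 5, 5, 5, 6, 7, 3], [3, 2, 3, 2, 2, 3, 3, 3, 4, 3, 4, 5, 5, 5, 5, 5, 6, 3, 3, 3]), ([2, 2, 3, 2, 2, 2, 3, 4, 4, 5, 5, 5, 5, 5, 5, 5, 5, 3, 6, 7, 3], [3, 3, 2, 2, 2, 3, 2, 2, 2, 3, 4, 4, 3,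 4, 7]), ([2, 3, 2, 2, 3, 2, 4, 4, 4, 3, 4, 5, 5, 5, 5, 5, 5, 6, 6, 3, 3, 3], [2, 2, 2, 3, 2, 3, 2, 2, 3, 4, 3, 4, 5, 5, 5, 5, 6, 6, 6, 3, 3])],
    [([2, 2, 2, 3, 2, 3, 2, 4, 4, 3, 4, 5, 3, 6, 3], [2, 3, 3, 2, 2, 2, 2, 2, 4, 4, 4, 5, 5, 5, 5, 6]), ([2, 3, 3, 2, 3, 2, 2, 2, 4, 3, 3, 3, 4, 3, 4, 5, 5, 5, 5, 5, 6, 6, 6, 7, 3, 3, 3], [3, 2, 3, 3, 2, 2, 2, 3, 3, 3, 4, 5, 5, 5, 5, 5, 5, 6, 3, 3, 3]), ([3, 2, 2, 3, 2, 5, 5, 5, 5, 5, 6, 6, 7, 3, 3, 3], [2, 2, 3, 3, 2, 3, 3, 3, 4, 5, 5, 5, 5, 5, 5, 5, 3, 6, 7]), ([3, 3, 3, 4, 3, 4, 5, 3, 6, 7, 3, 3, 3], [3, 2, 3, 2, 2, 2, 3, 2, 2, 3, 3, 4, 4, 3, 4, 5, 5, 5, 5, 5, 3]), ([2, 3,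 3, 2, 2, 2, 2, 2, 4, 3, 3, 3, 4, 3, 4, 5, 5, 5, 5, 3, 6, 3, 3], [2, 2, 3, 3, 3, 2, 2, 3, 3, 4, 3, 4, 4, 5, 5, 5, 5, 5, 5, 5, 5, 6, 6, 6]), ([3, 2, 3, 2, 2, 3, 3, 2, 4, 4, 4, 3, 4, 5, 5, 5, 5, 6, 6, 7, 3, 3], [2, 2, 3, 3, 3, 2, 2, 3, 3, 4, 5, 5, 5, 5, 3, 6, 7, 3]), ([3, 2, 3, 2, 3, 3, 2, 3, 3, 3, 4, 3, 4, 4, 5], [2, 3, 3, 3, 2, 2, 2, 3, 2, 4, 5, 5, 5, 5, 5, 5, 5, 5, 6, 6, 6, 7, 3]), ([3, 2, 3, 2, 2, 3, 3, 2, 3, 3, 4, 3, 4, 4, 5, 5, 5, 5, 5, 5, 3, 6, 7], [3, 2, 3, 2, 2, 4, 3, 4, 4, 5, 6, 7, 3, 3, 3]), ([2, 2, 3, 3, 3, 2, 4, 3, 3, 4, 5, 5, 5, 5, 5, 5, 5, 5, 6, 6, 3, 3, 3], [3, 3, 2, 2, 3, 3, 4, 4, 4, 3, 4, 5, 5, 5, 3,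 6, 3]), ([2, 3, 3, 2, 3, 2, 2, 2, 4, 3, 4, 4, 4, 3, 4, 5, 5, 5, 5, 5, 5, 6, 6, 6, 7, 3, 3, 3], [3, 2, 3, 2, 2, 3, 4, 3, 4, 4, 5, 5, 5, 5, 6, 6, 6, 3, 3]), ([3, 3, 2, 3, 2, 4, 3, 4, 5, 5, 5, 5, 5, 5, 5, 5, 6, 7], [2, 3, 3, 2, 3, 2, 4, 3, 4, 4, 4, 3, 4, 5, 7]), ([3, 2, 3, 2, 2, 2, 3, 3, 4, 4, 3, 4, 5, 5, 5, 5, 5, 5, 6, 7, 3, 3, 3], [3, 2, 2, 2, 3, 3, 3, 2, 3]), ([3, 2, 3, 2, 2, 2, 2, 2, 2, 4, 3, 3, 4, 5, 6, 6, 3, 3], [2, 2, 3, 3, 3, 2, 2, 3, 3, 4, 4, 4, 3, 4, 5, 5, 5, 5, 6, 6, 6, 3]), ([3, 3, 2, 3, 3, 2, 2, 2, 4, 3, 3, 4, 3, 4, 5, 5, 6], [3, 3, 2, 2, 2, 3, 2, 2, 2, 4, 3, 4, 4, 5, 5, 5, 5, 5, 5, 5, 5, 6]), ([3, 2, 3, 2,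 2, 2, 3, 2, 2, 4, 3, 3, 3, 4, 3, 4, 5, 5, 5, 5, 5, 5, 5, 5, 6, 6, 6], [2, 2, 3, 2, 2, 2, 2, 2, 2, 3, 4, 3, 4, 4, 3, 6, 7, 3, 3]), ([3, 2, 2, 3, 2, 3, 2, 4, 3, 3, 4, 3, 4, 5, 5, 5, 5, 5, 5, 3, 3], [3, 2, 2, 2, 2, 2, 2, 3, 3, 3, 4, 3, 4, 4, 5, 5, 5, 5, 5, 5, 5, 3, 6, 7, 3, 3, 3]), ([2, 3, 3, 2, 2, 3, 2, 3, 4, 3, 4, 4, 5, 5, 5, 5, 5, 5, 5, 7, 3, 3], [2, 2, 3]), ([3, 3, 2, 2, 2, 3, 3, 2, 4, 4, 3, 4, 5, 5, 5, 5, 5, 5, 5, 5, 5, 7, 3, 3], [3, 3, 3, 2, 3, 3, 2, 4, 3, 3, 4, 4, 4, 6, 6, 6, 3, 3]), ([2, 2, 3, 2, 2, 2, 3, 4, 3, 4, 5, 5, 5, 3], [2, 3, 3, 2, 2, 2, 3, 3, 3, 4, 3, 4, 4, 5, 5, 5, 6, 6, 3]), ([2, 2, 2, 3, 2, 3, 2, 3,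 4, 4, 3, 3, 4, 5, 5, 5, 6, 6, 7], [3, 3, 2, 2, 2, 2, 4, 3, 3, 4, 4, 3, 4, 5, 5, 5, 5, 3, 6, 7]), ([2, 3, 2, 3, 3, 2, 2, 2, 3, 4, 4, 4, 3, 4, 5, 5, 5, 5, 5, 7], [3, 2, 3, 3, 2, 2, 2, 3, 4, 3, 4, 5, 6, 6, 6, 3]), ([2, 2, 3, 2, 3, 3, 2, 2, 2, 4, 3, 4, 5, 5, 5, 5, 5, 5, 5, 5, 6, 6, 7, 3], [2, 3, 2, 2, 3, 3, 2, 2, 2, 3, 3, 4, 3, 4, 4, 5, 5, 5, 5, 5, 5, 5, 5, 5, 3, 6, 7]), ([3, 2, 3, 2, 2, 2, 2, 4, 3, 4, 4, 4, 5, 5, 5, 5, 6, 6, 3], [2, 2, 3, 2, 3, 3, 3, 2, 3, 3, 4, 4, 4, 3, 4, 5, 5, 5, 5, 5, 6, 3]), ([3, 2, 3, 3, 3, 2, 4, 6, 6, 7, 3], [3, 3, 3, 2, 3, 3, 2, 4, 3, 3, 4, 3, 4, 5, 5, 5, 5, 5, 5, 5, 6, 7, 3, 3]), ([3, 2, 3, 3,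 2, 2, 2, 3, 3, 4, 3, 4, 4, 5, 5, 5, 5, 5, 5, 5, 5, 5, 6, 7], [3, 3, 2, 2, 2, 2, 2, 3, 3, 4, 4, 3, 4, 5, 5, 5, 5, 6, 6, 6, 3]), ([3, 3, 2, 2, 3, 3, 2, 2, 2, 4, 4, 3, 3, 4, 5, 5, 6, 6], [3, 3, 2, 3, 2, 2, 3]), ([3, 2, 2, 2, 3, 2, 4, 5, 5, 5, 5, 6, 3], [3, 3, 2, 2, 2, 2, 2, 6, 6, 7]), ([2, 2, 3, 3, 3, 2, 2, 3, 4, 4, 5, 5, 5, 5, 5, 7, 3, 3, 3], [2, 3, 3, 3, 2, 3, 3, 2, 3, 4, 5, 5, 5, 5, 6, 6]), ([3, 3, 2, 2, 3, 2, 4, 4, 4, 5, 5, 6, 6, 6, 7, 3, 3, 3], [2, 2, 2, 3, 3, 4, 4, 3, 4, 5, 5, 6, 7, 3]), ([3, 2, 2, 2, 3, 3, 2, 4, 4, 4, 5, 5, 5, 5, 3, 6, 7, 3, 3], [2, 2, 3, 3, 2, 4, 3, 3, 4, 3, 4, 5, 5, 5, 5, 5, 5, 5, 6, 7, 3]), ([2,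 2, 3, 2, 2, 2, 3, 4, 3, 4, 5, 5, 5, 6, 6, 7, 3, 3], [3, 3, 3, 2, 3, 3, 2, 3, 3, 3, 4, 3, 4, 5, 5, 5, 5, 5, 6, 3, 3, 3]), ([3, 3, 2, 2, 3, 3, 3, 4, 5, 5, 5, 5, 5, 5, 7, 3, 3], [2, 3, 3, 2, 2, 2, 2, 2, 3, 4, 3, 4, 4, 3, 6, 7, 3, 3]), ([2, 3, 2, 3, 3, 2, 2, 2, 4, 3, 3, 4, 5, 5, 5, 5, 5, 5, 3, 6, 3, 3, 3], [3, 2, 3, 2, 3, 2, 3, 3, 3, 4, 3, 4, 6, 7, 3]), ([2, 3, 3, 3, 2, 3, 3, 2, 3, 3, 4, 4, 4, 5, 5, 6, 6, 6, 3, 3], [2, 3, 2, 2, 3, 3, 3]), ([2, 2, 4, 3, 4, 3, 4, 5, 5, 5, 5, 5, 5, 5, 5, 3, 6, 3, 3], [2, 2, 3, 2, 2, 2, 2, 4, 3, 4, 4, 4, 5, 5, 5, 5, 5, 5, 5, 5, 5, 3, 3, 3]), ([2, 3, 3, 2, 3, 2, 2, 2, 4, 3, 4, 4, 4, 5, 5, 5,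 6, 6, 3, 3], [3, 2, 3, 3, 2, 4, 4, 3, 3, 4, 5, 5, 5, 3, 6, 3, 3]), ([3, 3, 3, 2, 2, 4, 4, 3, 3, 4, 5, 6, 6, 6, 7, 3], [2, 2, 2, 2, 2, 2, 3, 3, 3, 4, 5, 5, 5, 5, 6, 3, 3]), ([2, 3, 2, 2, 3, 3, 2, 4, 5, 5, 5, 5, 5, 5, 5, 5, 5, 3], [2, 2, 2, 2, 2, 3, 4, 4, 4, 3, 4, 5, 5, 6, 6]), ([2, 2, 4, 3, 4, 3, 4, 5, 6, 6, 6, 3], [3, 3, 2, 2, 4, 3, 3, 4, 4, 3, 4, 6, 6, 7]), ([2, 3, 3, 2, 3, 2, 2, 2, 4, 3, 4, 4, 4, 5, 5, 5, 5, 5, 5, 5, 5, 3, 3], [2, 3, 2, 2, 2, 3, 3, 4, 3, 4, 4, 5, 5, 5, 5, 5, 5, 5, 5, 5, 6, 6, 7, 3, 3]), ([2, 3, 2, 2, 2, 3, 2, 2, 3, 4, 3, 4, 5, 5, 5, 5, 3, 6, 3, 3], [3, 2, 3, 3, 2, 4, 4, 3, 3, 4, 5, 5, 5, 3, 6, 3,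 3, 3]), ([3, 3, 2, 2, 3, 3, 2, 2, 2, 4, 3, 4, 4, 4, 3, 4, 5, 3, 6, 7, 3, 3, 3], [3, 3, 2, 4, 3, 4, 4, 4, 3, 4, 5, 5, 5, 5, 5, 5, 5, 5, 5, 6, 6, 6, 3, 3, 3]), ([3, 3, 2, 3, 2, 3, 2, 4, 3, 3, 3, 4, 3, 4, 5, 5, 5, 5, 5, 3, 6, 7, 3], [3, 2, 2, 2, 3, 3, 3, 2, 4, 3, 4, 4, 5, 5, 5, 5, 5, 5, 5, 5, 5, 3, 6, 7]), ([3, 3, 2, 2, 3, 2, 4, 3, 3, 4, 4, 3, 4, 5, 5, 5, 5, 5, 5, 6, 7, 3, 3], [2, 3, 2, 2, 3, 4, 3, 4, 4, 5, 5, 5, 5, 6, 6, 6, 3, 3, 3]), ([2, 3, 2, 2, 3, 3, 2, 4, 4, 4, 3, 4, 5, 5, 5, 5, 6, 6, 7, 3, 3, 3], [2, 2, 3, 2, 2, 2, 2, 2, 2, 4, 3, 4, 3, 4, 5, 5, 3, 6, 3]), ([3, 2, 2, 3, 4, 4, 3, 3, 4, 5, 5, 5, 5, 5, 5, 5, 5, 3, 6,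 7, 3], [3, 2, 3, 3, 2, 2, 3, 2, 4, 4, 3, 3, 4, 6, 6, 6, 3]), ([2, 3, 2, 2, 2, 3, 2, 2, 3, 4, 4, 3, 4, 5, 6, 6, 3, 3], [2, 3, 2, 2, 2, 2, 4, 3, 3, 4, 4, 3, 4, 3, 6, 3, 3]), ([3, 2, 3, 2, 2, 2, 3, 2, 2, 4, 3, 3, 4, 4, 4, 5, 5, 5, 5, 5, 5, 5, 6, 6, 7], [2, 2, 3, 2, 2, 4, 3, 3, 4, 5, 5, 5, 5, 5, 6, 6, 6, 7, 3, 3, 3]), ([3, 2, 3, 2, 2, 2, 2, 2, 2, 4, 3, 4, 3, 4, 5, 5, 5, 6, 6, 6, 7], [3, 2, 3, 3, 3, 2, 4, 3, 4, 5, 5, 5, 5, 5, 3, 6, 7, 3, 3]), ([3, 3, 3, 2, 3, 2, 2, 2, 4, 4, 4, 5, 5, 5, 5, 5, 3, 6], [2, 2, 3, 2, 3, 4, 4, 3, 3, 4, 5, 5, 5, 5, 6, 6, 6, 7, 3, 3]), ([3, 2, 2, 3, 2, 3, 2, 3, 3, 3, 4, 3, 4, 5, 5, 5, 5, 5, 5, 5,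 5, 5, 6, 6, 6, 3, 3], [3, 3, 2, 3, 2]), ([3, 2, 3, 2, 2, 2, 4, 3, 4, 4, 4, 3, 4, 5, 5, 3, 6, 7, 3, 3, 3], [3, 2, 2, 3, 3, 3, 2, 2, 5, 5, 5, 5, 6, 7, 3, 3, 3]), ([2, 2, 3, 2, 2, 3, 2, 3, 2, 3, 4, 3, 4, 5, 5, 5, 5, 3, 6, 7], [3, 3, 3, 2, 3, 3, 2, 4, 4, 3, 3, 4, 5, 5, 5, 3, 6, 3, 3, 3]), ([3, 2, 3, 3, 2, 2, 3, 2, 3, 4, 3, 4, 4, 5, 5, 5, 5, 5, 5, 5, 7, 3], [3, 2, 2, 3]), ([3, 3, 3, 2, 2, 2, 4, 4, 4, 5, 5, 5, 5, 5, 5, 5, 5, 7], [2, 3, 2, 2, 3, 3, 2, 3, 3, 4, 4, 5, 5, 5, 5, 5, 5, 5, 6, 6, 6, 7, 3]), ([2, 2, 3, 2, 3, 3, 2, 2, 2, 3, 4, 4, 3, 4, 5, 5, 5, 5, 5, 5, 5, 3, 6, 3], [3, 2, 3, 2, 2, 3, 3, 2, 4, 3, 4, 3, 4, 5, 5, 5,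 5, 5, 5, 5, 5, 5, 6, 3, 3]), ([2, 3, 3, 3, 2, 4, 4, 3, 4, 5, 5, 5, 5, 5, 5, 5, 5, 5, 6, 3], [2, 3, 2, 2, 2, 3, 3, 4, 3, 4, 4, 5, 5, 5, 5, 5, 5, 5, 5, 5, 6, 6, 7, 3]), ([2, 3, 3, 2, 2, 2, 2, 2, 3, 3, 4, 4, 3, 4, 5, 5, 3, 6, 3, 3, 3], [3, 2, 3, 2, 2, 2, 2, 2, 3, 3, 3, 4, 5, 5, 5, 5, 6, 3, 3]), ([3, 3, 2, 3, 2, 2, 3, 3, 4, 3, 4, 4, 5, 5, 5, 5, 6, 6], [2, 3, 3, 3, 2, 3, 3, 2, 3, 4, 3, 4, 5, 5, 6, 3, 3]), ([2, 2, 2, 3, 3, 3, 4, 3, 4, 4, 5, 5, 5, 5, 5, 3, 6, 3, 3], [3, 2, 2, 3, 3, 2, 3, 4, 4, 3, 4, 5, 5, 3, 6]), ([3, 3, 2, 2, 4, 5, 5, 5], [3, 2, 3, 3, 2, 4, 3, 4, 3, 4, 5, 5, 5, 7]), ([2, 2, 2, 3, 2, 3, 2, 4, 3, 4, 4, 4, 3,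 4, 5, 5, 3, 6, 7, 3], [2, 3, 2, 3, 2, 2, 2, 2, 2, 4, 3, 3, 4, 4, 3, 4, 5, 5, 5, 5, 5, 5, 5, 6, 7, 3, 3, 3]), ([2, 2, 3, 3, 3, 2, 2, 4, 4, 5, 5, 5, 5, 5, 5, 6], [2, 2, 2, 3, 2, 3, 2, 2, 4, 3, 4, 4, 4, 5, 5, 5, 5, 5, 5, 5, 3, 6, 7]), ([2, 2, 3, 3, 4, 3, 4, 4, 3, 3, 3], [2, 3, 3, 2, 2, 3, 3, 2, 4, 4, 5, 5, 5, 5, 5, 5, 5, 6, 6, 7, 3, 3])],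
    [([3, 2, 3, 2, 2, 2, 2, 3, 3, 3, 4, 3, 4, 4, 5, 5, 5, 6, 6, 6, 7], [3, 3, 2, 3, 2, 2, 4, 4, 5, 5, 5, 5, 5, 6, 6, 3, 3, 3]), ([3, 3, 3, 2, 2, 2, 4, 4, 4, 5, 5, 5, 5, 5, 5, 5, 5, 6, 6, 6, 7, 3], [2, 2, 2, 3, 2, 2, 2, 4, 4, 4, 5, 5, 5, 5, 5, 5, 5, 5, 5, 3, 6]), ([2, 3, 3, 3, 2, 3, 3, 2, 3, 4, 4, 3, 4, 5, 5, 5, 5, 5, 5, 6, 3, 3], [2, 2, 2, 2, 2, 3, 3, 4, 4, 3, 4, 5, 5, 5, 5, 6, 6, 6, 3]), ([3, 2, 3, 3, 2, 2, 3, 2, 4, 3, 4, 4, 5, 5, 5, 5, 6, 6, 6, 3, 3], [3, 3, 3, 2, 2, 2, 3, 2, 3, 4, 3, 4, 4, 5, 5, 3, 6, 3, 3]), ([3, 3, 2, 3, 2, 3, 2, 5, 5, 5, 5, 5, 6, 6, 6, 7], [2, 3, 3, 2, 3]), ([3, 2, 2, 2, 3, 2, 3, 4, 4, 3, 3, 4,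 5, 5, 5, 5, 5, 5, 5, 5, 3, 6, 7], [2, 2, 2, 2, 3, 3, 3, 4, 3, 4, 5, 5, 5, 5, 3, 3, 3]), ([3, 3, 3, 2, 2, 3, 4, 4, 3, 3, 4, 5, 5, 5, 5, 5, 5, 5, 5, 3, 6, 7, 3, 3, 3], [3, 2, 3, 3, 3, 2, 2, 4, 3, 3, 4, 4, 4, 5, 5, 5, 6, 6, 7, 3]), ([3, 2, 3, 2, 3, 3, 2, 4, 4, 4, 5, 5, 5, 5, 5, 5, 5, 5, 6, 7, 3, 3], [3, 3, 2, 3, 3, 3, 2, 4, 3, 4, 4, 4, 3, 4, 5, 5, 5, 5, 5, 3, 6]), ([3, 3, 2, 3, 2, 3, 2, 5, 5, 5, 5, 5, 5, 5, 5, 6, 6, 3, 3], [3, 2, 2, 2, 2, 3, 2, 4, 3, 4, 4, 4, 3, 4, 5, 7, 3, 3, 3]), ([3, 2, 2, 2, 3, 2, 3, 4, 4, 3, 3, 4, 5, 5, 5, 5, 5, 3, 6, 7, 3, 3], [2, 3, 2, 2, 3, 2, 4, 3, 4, 4, 4, 3, 4, 5, 5, 5, 6, 6, 6, 7]), ([3, 3,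 2, 2, 2, 3, 2, 3, 4, 4, 3, 3, 4, 5, 5, 5, 5, 5, 3, 6, 7, 3], [2, 3, 3, 3, 2, 3, 3, 2, 4, 4, 3, 3, 4, 5, 5, 5, 6, 6]), ([2, 3, 2, 2, 2, 3, 4, 4, 3, 4, 5, 5, 5, 5, 3, 3, 3], [3, 2, 3, 3, 2, 2, 3, 2, 3, 4, 4, 5, 5, 6, 6, 7, 3, 3]), ([2, 2, 3, 2, 3, 3, 2, 2, 2, 3, 3, 3, 4, 3, 4, 5, 5, 5, 5, 6, 7, 3], [2, 2, 2, 3, 3, 3, 2, 4, 3, 4, 3, 4, 5, 5, 3, 6, 3, 3, 3]), ([3, 2, 2, 2, 3, 3, 2, 3, 4, 4, 3, 4, 5, 5, 5, 5, 6, 6, 6, 7, 3], [3, 2, 3, 3, 3, 2, 2, 4, 4, 5, 5, 5, 5, 6, 3]), ([2, 2, 3, 2, 2, 3, 2, 3, 2, 3, 3, 4, 3, 4, 5, 5, 5, 6, 6, 3, 3], [2, 2, 3, 2, 2, 2, 2, 2, 2, 3, 3, 4, 4, 5, 5, 5, 5, 5, 6, 6, 7, 3]), ([3, 4, 3, 4, 3,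 6, 7, 3, 3, 3], [3, 2, 3, 3, 3, 2, 3, 2, 3, 3]), ([3, 3, 2, 3, 3, 3, 2, 3, 4, 4, 3, 4, 6, 7, 3], [3, 3, 3, 2, 2, 3, 3, 3]), ([2, 3, 2, 2, 2, 3, 2, 4, 3, 3, 4, 4, 3, 4, 5, 5, 5, 5, 5, 5, 6, 6, 7, 3, 3], [3, 3, 2, 2, 2, 4, 3, 4, 4, 5, 5, 5, 5, 5, 5, 5, 5, 5, 6, 6, 7, 3, 3, 3]), ([2, 3, 2, 3, 2, 3, 2, 3, 4, 3, 4, 5, 5, 5, 5, 5, 5, 5, 5, 6], [3, 2, 2, 3, 2, 2, 2, 2, 3, 4, 4, 4, 3, 4, 5, 5, 6, 6, 3, 3, 3]), ([2, 3, 3, 3, 2, 2, 3, 4, 4, 4, 5, 5, 5, 3, 6, 7, 3, 3, 3], [3, 2, 3, 3, 3, 2, 4, 5, 5, 5, 5, 5, 5, 5, 5, 5, 3, 6, 7, 3]), ([2, 2, 2, 2, 3, 2, 4, 3, 4, 4, 4, 3, 4, 6, 6, 3, 3, 3], [2, 3, 3, 2, 2, 3, 2, 3, 3, 4, 4, 4,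 3, 4, 5, 5, 5, 6, 6, 3, 3, 3]), ([3, 4, 4, 5, 5, 5, 5, 5, 6, 6, 3, 3, 3], [3, 2, 3, 2, 2, 2, 3, 4, 4, 5, 5, 5, 3, 6, 7, 3, 3]), ([2, 2, 3, 2, 3, 2, 4, 3, 3, 4, 3, 4, 5, 5, 5, 5, 5, 5, 3, 3, 3], [2, 2, 2, 2, 2, 2, 3, 3, 3, 4, 3, 4, 4, 5, 5, 5, 5, 5, 5, 5, 3, 6, 7, 3, 3, 3]), ([3, 3, 2, 3, 2, 3, 4, 4, 3, 4, 5, 5, 5, 5, 5, 5, 5, 5, 6, 7, 3, 3, 3], [3, 3, 3, 2, 2, 3, 4, 4, 4, 3, 4, 6, 6, 6, 7, 3, 3]), ([2, 2, 3, 2, 2, 2, 3, 3, 4, 4, 5, 5, 5, 5, 5, 5, 6, 6, 6], [3, 3, 2, 3, 2, 2, 2, 3]), ([3, 3, 2, 2, 4, 3, 4, 3, 4, 5, 6, 6, 6, 3, 3, 3], [3, 2, 2, 2, 3, 2, 3, 2, 4, 3, 3, 4, 4, 3, 4, 5, 5, 5, 5, 5, 5, 6, 6, 6, 3]), ([2, 2,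 3, 2, 4, 3, 4, 4, 4, 3, 4, 5, 5, 6, 6, 7, 3, 3], [2, 2, 3, 3, 3, 2, 3, 2, 4, 4, 3, 3, 4, 5, 7, 3, 3]), ([3, 3, 2, 2, 2, 3, 3, 2, 4, 3, 4, 4, 5, 6, 6, 6], [3, 2, 3, 2, 2, 3, 3, 2, 4, 3, 3, 3, 4, 3, 4, 5, 5, 5, 5, 5]), ([3, 2, 3, 2, 2, 2, 3, 2, 2, 3, 4, 3, 4, 4, 5, 5, 5, 5, 5, 5, 5, 3, 3, 3], [3, 3, 3, 2, 3, 2, 2, 4, 4, 5, 5, 5, 5, 6, 6, 3]), ([3, 2, 2, 3, 2, 3, 2, 4, 3, 3, 4, 3, 4, 5, 6, 6, 3, 3], [2, 3, 3, 3, 2, 2, 3, 3, 4, 4, 4, 3, 4, 5, 5, 5, 5, 5, 5, 6, 6, 6, 3, 3, 3]), ([3, 2, 3, 2, 2, 2, 4, 4, 5, 5, 3, 6, 7, 3, 3, 3], [2, 4, 4, 5, 5, 5, 5, 5, 5, 5, 6, 7, 3, 3, 3]), ([3, 3, 3, 2, 3, 2, 2, 2, 4, 5, 5, 5, 5, 5, 5,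 5, 5, 3, 3], [2, 3, 2, 3, 2, 3, 3, 2, 4, 3, 3, 4, 4, 4, 3, 6]), ([2, 2, 2, 3, 3, 2, 4, 3, 4, 3, 4, 5, 5, 5, 5, 5, 5, 5, 5, 6, 6, 6, 3], [3, 3, 2, 2, 2, 2, 2, 3, 3, 3, 4, 3, 4, 4, 5, 5, 5, 5, 5, 5, 5, 3, 6, 7, 3, 3, 3]), ([2, 2, 2, 3, 2, 3, 3, 3, 4, 7, 3, 3, 3], [3, 3, 2, 2, 2, 3, 2, 3, 3, 4, 4, 5, 5, 5, 5, 5, 5, 5, 5, 6, 6, 6, 7, 3, 3, 3]), ([3, 3, 2, 3, 3, 2, 4, 4, 4, 3, 4, 5, 5, 5, 7], [3, 3, 3, 2, 2, 3, 4, 3, 3, 4, 3, 4, 5, 5, 5, 5, 5, 5, 6, 6, 6, 3]), ([3, 2, 3, 2, 3, 3, 2, 3, 3, 4, 4, 4, 3, 6], [2, 2, 2, 2, 3, 3, 2, 3, 4, 4, 5, 5, 5, 6, 3, 3, 3]), ([2, 2, 3, 2, 2, 3, 2, 3, 2, 3, 4, 4, 3, 4, 5, 5, 5, 5, 5, 5, 3,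 3, 3], [3, 2, 2, 2, 2, 3, 4, 3, 3, 4, 3, 4, 5, 5, 6, 6, 7]), ([2, 2, 3, 2, 3, 2, 4, 4, 5, 5, 5, 5, 5, 5, 3, 3], [3, 3, 2, 2, 2, 2, 2, 3, 3, 3, 4, 5, 5, 5, 5, 6, 3, 3]), ([3, 2, 3, 2, 2, 2, 3, 4, 3, 3, 4, 3, 4, 5, 5, 5, 5, 5, 5, 7, 3], [2, 2, 3, 3, 3, 2, 3, 2, 2, 3, 3, 4, 3, 4, 4, 5, 5, 5, 5, 5, 5, 5, 5, 6, 6, 6, 3]), ([3, 3, 2, 3, 3, 2, 2, 2, 3, 3, 4, 3, 4, 5, 5, 5, 5, 7], [3, 3, 3, 2, 3, 2, 3, 3, 3, 4, 3, 4, 4, 5, 5, 5, 5, 5, 5, 5, 5, 6, 6, 3, 3, 3]), ([3, 2, 2, 3, 2, 3, 2, 3, 3, 3, 4, 3, 4, 7], [2, 3, 2, 3, 3, 2, 3, 3]), ([3, 2, 3, 2, 2, 2, 2, 2, 2, 4, 3, 4, 4, 4, 3, 4, 5, 5, 5, 5, 5, 5, 5, 5, 3, 6, 3, 3], [2, 3,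 3, 2, 3, 3, 4, 3, 4, 5, 5, 5, 5, 5, 5, 5, 5, 5, 6, 6, 6, 7, 3, 3]), ([2, 2, 2, 3, 3, 2, 4, 4, 4, 3, 4, 5, 5, 5, 6, 6, 3, 3, 3], [2, 3, 2, 3, 2, 3, 3, 4, 4, 4, 5, 6, 7]), ([3, 3, 2, 2, 2, 3, 3, 2, 3, 3, 3, 4, 3, 4, 4, 5, 5, 5, 5, 5, 5, 5, 5, 6, 7], [3, 2, 2, 2, 3, 2, 3, 3, 3, 4, 5, 5, 5, 3, 6]), ([3, 3, 2, 2, 3, 3, 2, 3, 4, 3, 4, 5, 5, 5, 3, 6, 7, 3, 3, 3], [2, 3, 3, 2, 2, 3, 2, 4, 5, 5, 5, 5, 5, 5, 5, 5, 5, 6, 6, 3, 3]), ([2, 3, 2, 3, 2, 2, 4, 4, 4, 5, 5, 5, 5, 5, 5, 5, 5, 5, 6, 6, 6, 7], [3, 3, 3, 2, 3, 2, 2, 3]), ([2, 3, 2, 2, 3, 3, 2, 5, 5, 5, 5, 5, 5, 5, 3, 6, 7], [2, 3, 3, 3, 2, 3, 3, 2, 4, 4, 3, 3, 4, 5, 5, 5,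 3, 6, 3, 3, 3]), ([2, 3, 2, 4, 3, 4, 5, 5, 5, 5, 5, 5, 5, 5, 6, 7, 3, 3], [2, 3, 3, 2, 3, 2, 3, 3, 3, 4, 3, 4, 5, 5, 5, 5, 5, 5, 6, 7, 3, 3, 3]), ([2, 3, 3, 3, 2, 2, 4, 3, 4, 4, 5, 5, 5, 5, 5, 5, 5, 5, 5, 6, 6, 7, 3], [2, 2, 3, 2, 2, 2, 2, 4, 3, 3, 4, 5, 5, 5, 6]), ([3, 3, 2, 2, 2, 2, 3, 2, 3, 3, 4, 4, 3, 4, 5, 5, 5, 5, 5, 5, 5, 5, 6, 6, 3, 3], [3, 3, 3, 2, 2, 2, 2, 3, 2, 4, 4, 4, 3, 4, 5, 5, 5, 5, 5, 5, 5, 5, 5, 7]), ([2, 3, 2, 2, 2, 3, 2, 4, 4, 3, 3, 4, 5, 5, 5, 5, 5, 5, 6, 6, 7, 3], [2, 3, 3, 2, 2, 2, 2, 2, 5, 5, 3, 6, 7, 3, 3, 3]), ([3, 2, 3, 2, 4, 3, 4, 3, 4, 5, 5, 5, 5, 6, 7, 3, 3], [2, 2, 3, 3, 2, 3, 3, 4, 3,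 4, 6, 6, 6, 7]), ([3, 2, 3, 2, 2, 2, 3, 4, 4, 4, 5, 5, 5, 5, 6, 6, 3, 3, 3], [3, 2, 3, 2, 2, 4, 3, 4, 4, 4, 5, 5, 5, 5, 3, 3]), ([3, 2, 3, 2, 2, 2, 3, 2, 2, 4, 3, 3, 3, 4, 3, 4, 3], [3, 2, 3, 3, 3, 2, 3]), ([2, 2, 2, 3, 3, 2, 4, 4, 4, 5, 5, 5, 5, 3, 6, 7, 3, 3, 3], [3, 3, 2, 2, 3, 2, 4, 5, 5, 3, 3, 3]), ([3, 2, 3, 2, 2, 2, 2, 2, 2, 3, 4, 4, 4, 3, 4, 5, 5, 5, 5, 5, 6, 6, 7, 3, 3, 3], [3, 3, 2, 3, 3, 2, 4, 3, 3, 4, 4, 3, 4, 5, 5, 5, 5, 3, 6, 7]), ([3, 2, 3, 3, 2, 2, 3, 2, 3, 3, 4, 4, 3, 4, 5, 5, 5, 5, 5, 5, 5, 5, 5, 6], [2, 2, 3, 2, 2, 2, 2, 2, 2, 4, 4, 4, 5, 5, 5, 5, 5, 5, 5, 3, 3, 3]), ([2, 2, 3, 2, 2, 3, 2, 3, 2, 3,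 3, 4, 4, 4, 3, 4, 6, 6, 3, 3], [3, 3, 2, 3, 3, 3, 2, 3]), ([2, 2, 3, 4, 4, 3, 3, 4, 5, 5, 5, 5, 5, 5, 5, 5, 3, 6, 7, 3, 3], [2, 3, 3, 2, 2, 3, 2, 4, 4, 3, 3, 4, 6, 6, 6, 3]), ([3, 2, 3, 2, 2, 3, 3, 2, 3, 4, 4, 4, 3, 4, 6, 6, 6, 7, 3, 3], [3, 3, 2, 3, 2, 3, 4, 3, 3, 4, 3, 4, 5, 5, 5, 5, 5, 5, 6, 6, 6, 7, 3]), ([2, 2, 3, 3, 2, 2, 2, 3, 4, 4, 3, 3, 4, 5, 5, 5, 5, 6, 6, 3], [2, 3, 2, 2, 3, 3, 3, 4, 3, 4, 4, 5, 5, 5, 5, 5, 5, 5, 5, 6, 6, 6, 7, 3]), ([3, 2, 3, 2, 2, 2, 3, 4, 4, 5, 5, 5, 5, 5, 5, 5, 6, 6, 6, 3, 3], [2, 3, 3, 2, 3, 2, 3, 3, 3, 4, 5, 5, 5, 5, 5, 6, 6, 6]), ([2, 2, 2, 3, 3, 2, 4, 3, 4, 4, 4, 3, 4, 5, 5, 5, 5,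 5, 5, 5, 6, 7, 3, 3], [2, 3, 2, 2, 2, 3, 2, 2, 3, 3, 3, 4, 5, 5, 6, 6, 3, 3, 3]), ([3, 2, 3, 2, 2, 2, 2, 2, 2, 4, 3, 4, 3, 4, 5, 5, 5, 5, 5, 5, 5, 5, 5, 6, 6, 7, 3, 3, 3], [3, 3, 2, 2, 3, 4, 3, 3, 4, 3, 4, 5, 5, 5, 5, 3, 6])],
    [([3, 2, 3, 2, 2, 2, 3, 2, 2, 4, 4, 4, 5, 7], [2, 3, 2, 3, 2, 2, 4, 5, 5, 5, 5, 5, 5, 6, 6]), ([2, 2, 3, 2, 2, 3, 2, 3, 3, 4, 4, 4, 3, 4, 5, 5, 5, 5, 3, 3, 3], [2, 2, 3, 3, 2, 3, 3, 4, 4, 5, 6, 6, 6, 3, 3]), ([3, 2, 2, 2, 3, 2, 3, 3, 4, 3, 4, 4, 5, 5, 5, 5, 5, 5, 5, 5, 5, 6, 3, 3], [3, 2, 3, 2, 3, 3, 2, 3, 4, 4, 5, 5, 5, 5, 6, 6, 6, 7, 3]), ([2, 3, 2, 2, 2, 3, 2, 2, 4, 3, 4, 4, 4, 6, 6, 6,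 7, 3], [3, 2, 3, 2, 2, 3, 3, 4, 4, 4, 5, 5, 5, 5, 5, 5, 5, 5, 5, 3, 6]), ([3, 2, 3, 3, 2, 3, 3, 4, 3, 4, 4, 5, 5, 5, 5, 5, 5, 5, 5, 5, 6, 6, 3, 3], [3, 2, 3, 2, 2, 4, 4, 4, 5, 5, 5, 5, 5, 5, 5, 5, 3, 6, 3, 3, 3]), ([3, 3, 2, 2, 2, 3, 3, 2, 3, 3, 4, 3, 4, 4, 5, 5, 7], [3, 3, 2, 2, 3, 3, 2, 4, 3, 3, 4, 3, 4, 5, 5, 5, 5, 5, 5, 5, 5, 5, 3, 3, 3]), ([2, 3, 2, 3, 3, 2, 2, 2, 3, 3, 4, 6, 7, 3], [3, 2, 2, 2, 2, 2, 3, 3, 4, 4, 3, 4, 5, 5, 5, 5, 6, 6, 6, 3, 3, 3]), ([3, 4, 4, 3, 4, 5, 6, 6, 7, 3, 3, 3], [3, 2, 3, 2, 2, 3, 4, 3, 4, 4, 5, 5, 5, 5, 6, 6, 6, 3]), ([2, 2, 3, 3, 3, 2, 3, 2, 2, 3, 3, 3, 4, 3, 3, 3], [2, 2, 3, 3, 3,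 2, 3, 2, 3, 3, 4, 4, 4, 5, 6, 7, 3, 3]), ([2, 2, 3, 3, 3, 2, 3, 2, 4, 3, 4, 4, 5, 5, 5, 5, 5, 6, 6, 7, 3, 3], [2, 3, 2, 3, 2, 3, 2, 4, 4, 3, 3, 4, 5, 5, 5, 3, 6, 7, 3]), ([2, 4, 3, 4, 4, 5, 5, 5, 5, 5, 5, 5, 5, 6, 7, 3, 3, 3], [2, 2, 3, 2, 2, 2, 2, 2, 2, 3, 4, 3, 3, 4, 3, 4, 5, 7, 3]), ([3, 4, 4, 3, 4, 5, 5, 5, 5, 5, 3, 6, 3, 3], [3, 3]), ([2, 2, 3, 3, 3, 2, 3, 2, 3, 3, 4, 3, 4, 4, 5, 5, 5, 5, 6, 6, 7, 3, 3], [2, 2, 3, 2, 2, 2, 2, 2, 2, 3, 4, 4, 4, 5, 5, 5, 5, 5, 5, 5, 5, 5]), ([2, 2, 2, 3, 3, 2, 3, 4, 4, 5, 5, 5, 5, 5, 5, 5, 5, 3], [2, 2, 2, 2, 2, 2, 4, 4, 4, 3, 4, 5, 5, 5, 5, 6, 6, 7]), ([3, 2, 3, 2, 2, 2, 2, 2, 2,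 4, 3, 4, 3, 4, 5, 5, 5, 7, 3, 3, 3], [2, 3, 2, 2, 2, 3, 2, 4, 6, 6, 7, 3, 3, 3]), ([3, 3, 2, 2, 3, 3, 2, 2, 2, 3, 3, 4, 3, 4, 4, 5, 5, 5, 6, 6, 7], [3, 2, 3, 2, 2, 2, 2, 3]), ([2, 3, 3, 2, 3, 4, 4, 3, 3, 4, 5, 5, 7], [2, 3, 2, 3, 2]), ([2, 3, 3, 2, 3, 3, 2, 2, 2, 3, 3, 4, 4, 4, 5, 5, 5, 5, 5, 5, 6, 6, 7, 3, 3, 3], [2, 3, 3, 2, 3, 2, 3, 4, 4, 4, 3, 4, 5, 5, 5, 5, 5, 5, 5, 5, 6, 6, 6, 7, 3]), ([2, 3, 2, 2, 2, 2, 4, 3, 3, 4, 4, 4, 6, 6, 6, 3, 3], [3, 2, 3, 2, 2, 4, 3, 3, 4, 4, 3, 4, 5, 5, 3, 6]), ([2, 3, 3, 3, 2, 2, 2, 3, 2, 4, 4, 4, 3, 4, 5, 5, 5, 5, 5, 5, 5, 5, 5, 6, 6, 6, 7, 3], [3, 2, 3, 2, 2, 3, 3, 2, 3, 3, 3, 4,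 5, 5, 5, 5, 5, 5, 5, 5, 5, 6, 6, 3]), ([2, 2, 2, 3, 2, 3, 2, 3, 4, 4, 4, 3, 4, 5, 5, 5, 5, 5, 5, 3, 3], [3, 2, 3, 2, 2, 4, 4, 5, 5, 5, 5, 6, 6, 3, 3]), ([3, 3, 2, 2, 2, 3, 3, 2, 5, 5, 5, 6, 6, 6, 7, 3, 3], [3, 3, 2, 2, 3, 3, 2, 2, 2, 4, 4, 4, 5, 5, 5, 5, 6]), ([2, 2, 2, 2, 3, 2, 4, 3, 3, 4, 4, 3, 4, 5, 5, 5, 5, 5, 5, 5, 5, 6, 6, 6, 7, 3, 3], [3, 2, 3, 3, 3, 2, 2, 3, 3, 4, 3, 4, 4, 5, 5, 5, 5, 5, 5, 5, 5, 6, 6, 6]), ([3, 2, 2, 3, 3, 2, 3, 4, 3, 3, 4, 3, 4, 5, 5, 5, 5, 5, 5, 5, 5, 5, 6], [2, 2, 2, 3, 4, 4, 4, 3, 4, 6, 6, 7, 3, 3]), ([2, 3, 2, 2, 3, 2, 3, 2, 3, 4, 4, 4, 3, 4, 5, 6, 6, 6, 3, 3], [2, 3, 3, 3, 2, 3, 2, 2,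 4, 4, 5, 5, 5, 5, 5, 6, 6, 3]), ([2, 3, 2, 3, 2, 3, 2, 3, 4, 4, 4, 5, 5, 5, 5, 5, 5, 5, 5, 3, 6, 7, 3], [3, 3, 3, 2, 3, 3]), ([4, 3, 4, 5, 3, 6, 7, 3, 3], [3, 2, 3, 2, 2, 3, 3, 2, 4, 4, 5, 5, 5, 5, 5, 5, 5, 5, 5, 3, 6, 7]), ([3, 4, 4, 3, 3, 4, 5, 5, 5, 5, 5, 5, 7, 3, 3], [2, 2, 2, 3, 2, 3, 2, 3, 4, 4, 4, 6, 3, 3, 3]), ([2, 3, 2, 2, 2, 3, 2, 4, 4, 3, 4, 5, 5, 5, 5, 5, 5, 5, 6], [2, 2, 2, 3, 2, 2, 2, 4, 3, 4, 5, 5, 6, 7, 3, 3, 3]), ([2, 2, 3, 2, 2, 3, 2, 3, 2, 3, 3, 3, 4, 3, 4, 5, 5, 5, 5, 5, 3, 6, 7], [2, 3, 3, 2, 3, 3, 2, 2, 2, 3]), ([2, 2, 3, 2, 3, 4, 3, 3, 4, 3, 4, 5, 5, 5, 5, 5, 5, 5, 5, 5, 6, 6, 7], [2, 3, 3, 2,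 3, 3, 2, 2, 2, 4, 3, 4, 4, 5, 5, 5, 5, 5, 5, 5, 5, 5, 7, 3, 3]), ([3, 3, 2, 3, 2, 3, 3, 4, 4, 4, 3, 4, 5, 5, 5, 5, 5, 6, 7], [2, 3, 2, 2, 2, 3, 2]), ([2, 3, 2, 3, 3, 3, 2, 3, 3, 4, 4, 5, 5, 5, 5, 3, 6, 7, 3], [3, 3, 3, 2, 3, 2, 3, 4, 4, 3, 3, 4, 5, 5, 5, 5, 5, 5, 6, 6, 3, 3]), ([3, 2, 3, 2, 2, 2, 2, 3, 3, 3, 4, 3, 4, 4, 5, 5, 5, 5, 5, 5, 5, 5, 6, 7], [2, 2, 2, 2, 2, 3, 3, 4, 3, 4, 4, 5, 5, 5, 5, 5, 5, 5, 5, 5, 6, 6, 7, 3, 3, 3]), ([3, 3, 3, 2, 2, 2, 4, 4, 4, 5, 5, 5, 5, 5, 5, 5, 5, 5, 3], [3, 3, 2, 2, 3, 3, 2, 2, 2, 3, 4, 3, 4, 4, 5, 5, 7, 3, 3]), ([2, 2, 3, 2, 2, 2, 3, 4, 3, 4, 5, 5, 5, 5, 5, 5, 7], [2, 3, 3, 2, 3,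 2, 2, 2, 3, 3, 4, 3, 4, 5, 5, 5, 5, 5, 6, 3]), ([3, 3, 2, 2, 3, 3, 3, 4, 5, 5, 5, 6, 6, 7], [3, 3, 3, 2, 2, 2, 2, 3, 2, 3, 4, 3, 4, 4, 5, 5, 5, 5, 5, 5, 5, 6, 6, 6, 3, 3]), ([2, 2, 3, 2, 3, 2, 4, 4, 6, 6, 7, 3], [3, 2, 2, 2, 2, 3, 2, 4, 6, 6, 7, 3, 3]), ([3, 3, 2, 3, 2, 3, 3, 4, 4, 4, 3, 4, 5, 5, 5, 5, 7, 3, 3, 3], [3, 2, 3, 2, 3, 4, 4, 5, 5, 5, 5, 5, 5, 5, 5, 5, 6, 6, 7]), ([3, 3, 4, 4, 5, 5, 5, 5, 5, 5, 3, 6, 7, 3, 3, 3], [4, 3, 4, 4, 4, 3, 4, 5, 5, 5, 5, 5, 5, 5, 5, 5, 6, 6, 6, 3, 3, 3]), ([3, 2, 3, 2, 3, 2, 4, 4, 4, 3, 4, 5, 5, 5, 5, 5, 5, 6, 7], [2, 2, 2, 3, 2, 3, 2, 3, 3]), ([2, 3, 2, 3, 3, 2, 2, 2, 3, 3, 3, 4,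 3, 4, 6, 7, 3, 3, 3], [3, 2, 3, 3, 3, 2, 2, 3, 3, 4, 4, 4, 3, 4, 5, 5, 5, 5, 5, 5, 6, 6, 6, 3, 3, 3]), ([2, 3, 2, 4, 3, 4, 3, 4, 5, 3], [3, 2, 3, 2, 3, 3, 4, 4, 4, 5, 6, 7, 3, 3, 3]), ([3, 3, 2, 3, 2, 2, 3, 4, 4, 3, 4, 5, 5, 5, 5, 5, 5, 3, 6, 3], [3, 2, 3, 2, 2, 2, 3, 2, 2, 4, 4, 3, 4, 5, 5, 5, 6, 6, 7]), ([3, 2, 3, 2, 3, 3, 2, 5, 5, 5, 5, 5, 6, 3], [2, 3, 3, 2, 3, 3, 2, 2, 2, 4, 4, 5, 5, 5, 6, 6]), ([3, 2, 2, 3, 3, 3, 4, 5, 5, 5, 5, 5, 5, 7, 3, 3, 3], [2, 2, 3, 2, 2, 3, 2, 4, 6, 6, 7, 3, 3]), ([3, 3, 2, 2, 3, 3, 2, 3, 4, 3, 4, 5, 5, 5, 5, 5, 5, 5, 6, 3, 3, 3], [3, 2, 2, 2, 3, 2, 4, 3, 3, 4, 5, 5, 5, 3]), ([3, 2, 3,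 2, 2, 2, 2, 3, 3, 3, 4, 3, 4, 4, 6, 6, 6, 3], [3, 2, 3, 2, 3, 4, 4, 5, 5, 5, 5, 5, 5, 3, 6, 3, 3, 3]), ([2, 3, 2, 2, 2, 3, 2, 2, 4, 3, 4, 3, 4, 5, 5, 5, 5, 5, 5, 5, 6, 6, 6, 3], [3, 2, 2, 3, 2, 2, 2, 2, 4, 3, 3, 4, 4, 3, 4, 3, 6, 3, 3]), ([3, 3, 2, 2, 2, 3, 3, 2, 3, 3, 4, 3, 4, 4, 5, 5, 5, 5, 5, 5, 3, 6, 3], [3, 3, 2, 2, 3, 4, 4, 4, 5, 5, 5, 5, 5, 5, 5, 5, 6, 3, 3]), ([2, 2, 3, 2, 3, 3, 2, 2, 2, 4, 3, 4, 4, 5, 7, 3], [3, 2, 3, 2, 2, 2, 2, 2, 3, 3, 3, 4, 5, 5, 5, 6, 3, 3]), ([3, 2, 3, 3, 2, 2, 2, 3, 3, 4, 3, 4, 5, 5, 5, 5, 5, 5, 5, 5, 7, 3, 3, 3], [3, 3, 3, 2, 2, 2, 2, 3, 2, 4, 3, 3, 3, 4, 3, 4, 5, 5, 5, 7, 3, 3, 3]),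 ([2, 3, 2, 2, 3, 3, 2, 4, 3, 3, 4, 4, 4, 5, 5, 5, 3, 3, 3], [3, 3, 2, 2, 2, 2, 2, 4, 3, 3, 3, 4, 3, 4, 5, 5, 5, 5, 5, 5, 5, 6, 6, 7, 3, 3]), ([2, 2, 2, 3, 3, 2, 4, 3, 3, 4, 3, 4, 5, 7, 3, 3], [2, 2, 3, 3, 2, 4, 4, 3, 3, 4, 5, 5, 5, 3, 6, 3]), ([3, 2, 3, 2, 2, 2, 3, 2, 2, 4, 3, 3, 3, 4, 3, 4, 5, 5, 5, 5, 5, 5, 5, 5, 3, 3, 3], [2, 2, 3, 3, 3, 2, 2, 3, 4, 3, 3, 4, 3, 4, 5, 5, 5, 5, 5, 5, 6, 6, 6, 3]), ([3, 2, 3, 2, 2, 2, 2, 4, 3, 4, 5, 5, 6, 6, 6], [2, 2, 2]), ([3, 3, 3, 2, 2, 2, 4, 3, 4, 3, 4, 5, 5, 3, 3, 3], [3, 2, 3, 2, 3, 3, 2, 3]), ([2, 3, 2, 2, 2, 2, 2, 2, 3, 3, 4, 4, 6], [2, 3, 3, 3, 2, 3, 3, 2, 3, 3, 4, 3, 4, 5,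 5, 5, 5, 5, 5, 5, 5, 5, 6, 6, 6, 7, 3, 3]), ([3, 3, 3, 2, 2, 4, 3, 4, 4, 4, 5, 7, 3, 3, 3], [3, 2, 2, 2, 2, 3, 2, 3, 4, 3, 4, 4, 5, 5, 7, 3, 3, 3]), ([3, 2, 2, 3, 3, 3, 4, 5, 5, 5, 6, 6, 6, 7], [2, 3, 2, 2, 2, 2, 3, 3, 4, 4, 5, 5, 5, 3, 6, 7, 3]), ([2, 3, 2, 3, 3, 3, 2, 4, 3, 3, 4, 5, 5, 5, 5, 5, 5, 5, 5, 6, 7], [2, 2, 2, 3, 2, 3, 2, 3, 3, 4, 4, 4, 5, 6, 7, 3, 3]), ([3, 3, 2, 2, 2, 2, 3, 2, 3, 3, 4, 4, 3, 4, 5, 5, 5, 5, 5, 5, 5, 5, 5, 3, 3], [3, 3, 3, 2, 3, 2, 2, 2, 3, 4, 3, 4, 6, 6, 6, 3, 3]), ([4, 3, 4, 4, 4, 5, 5, 5, 5, 5, 5, 5, 5, 3], [3, 3, 3, 2, 3, 2, 2, 2, 3, 4, 4, 5, 5, 5, 3, 6, 7, 3, 3]), ([2, 2, 2, 3, 2, 3,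 4, 4, 3, 3, 4, 5, 6, 6, 6, 7], [3, 3, 3, 2, 3, 2, 3, 4, 5, 6, 6, 7, 3, 3])]]

/-- part of a table -/
def conjs14 : List (List (List ℕ × List ℕ)) :=
  [[([3, 2, 3, 3, 2, 2, 3, 2, 4, 3, 4, 3, 4, 5, 5, 5, 5, 5, 5, 5, 5, 6, 6], [2, 3, 2, 2, 3, 3, 2, 4, 4, 5, 5, 5, 5, 5, 5, 5, 6, 7, 3, 3, 3]), ([2, 2, 2, 3, 2, 3, 2, 4, 3, 3, 3, 4, 3, 4, 5, 5, 5, 5, 5, 6, 6, 7, 3, 3, 3], [3, 2, 2, 2, 3, 2, 3, 2, 3, 3, 4, 4, 4, 5, 6, 7, 3, 3]), ([2, 2, 3, 2, 2, 3, 2, 3, 2, 3, 3, 4, 4, 4, 3, 4, 5, 5, 5, 5, 5, 5, 5, 5, 6, 6], [3, 2, 2, 2, 2, 2, 3, 3, 4, 4, 3, 4, 5, 5, 5, 5, 5, 5, 5, 5, 5, 6, 3, 3, 3]), ([3, 3, 2, 3, 2, 2, 4, 3, 3, 4, 5, 5, 5,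 5, 5, 5, 5, 6, 6, 6], [2, 3, 3, 2, 3, 2, 4, 3, 4, 4, 4, 3, 4, 5, 5, 5, 6, 6, 6, 7, 3, 3, 3]), ([3, 2, 3, 2, 3, 3, 2, 4, 3, 3, 4, 4, 3, 4, 5, 5, 5, 5, 5, 5, 6, 6, 6, 7, 3, 3, 3], [2, 3, 2, 2, 3, 2, 3, 2, 4, 3, 3, 4, 5, 5, 5, 3]), ([3, 2, 2, 3, 3, 3, 2, 2, 4, 3, 3, 4, 4, 3, 4, 5, 6, 6, 6, 7, 3, 3, 3], [3, 2, 3, 2, 2, 2, 3, 3, 4, 3, 4, 4, 5, 5, 5, 5, 5, 5, 5, 5, 6, 3, 3, 3]), ([2, 2, 2, 4, 3, 4, 4, 5, 5, 7, 3, 3], [2, 3, 2, 3, 3, 2, 2, 2, 5, 5, 5, 5, 5, 5, 7, 3, 3, 3]), ([3, 3, 3, 2, 2, 3, 3, 3, 4, 3, 4, 7], [2, 4, 4, 3, 3, 4, 5, 5, 5, 7]), ([2, 3, 3, 3, 2, 3, 2, 4, 5, 5, 6, 6, 3, 3], [2, 3, 3, 3, 2, 3, 2, 2, 4, 3, 4,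 4, 5, 5, 5, 5, 5, 5, 5, 5, 5, 6, 6, 7, 3, 3, 3]), ([3, 3, 2, 3, 2, 2, 2, 4, 3, 3, 4, 4, 4, 5, 5, 5, 5, 5, 5, 3, 6, 7, 3, 3], [3, 2, 2, 2, 3, 2, 3, 4, 3, 3, 4, 3, 4, 5, 5, 5, 3, 6, 3]), ([2, 3, 2, 3, 3, 2, 4, 3, 3, 4, 4, 3, 4, 5, 5, 5, 5, 5, 5, 6, 6, 6, 7], [3, 2, 3, 2, 2, 2, 2, 2, 3, 4, 6, 6, 7, 3, 3]), ([2, 3, 3, 3, 2, 3, 3, 2, 3, 3, 4, 4, 4, 3, 4, 5, 5, 5, 5, 5, 5, 5, 5, 5, 6, 6, 3, 3], [2, 3, 2, 2, 3, 4, 5, 5, 5, 6, 6, 6, 3, 3, 3]), ([2, 2, 3, 2, 3, 3, 2, 2, 2, 4, 4, 3, 3, 4, 5, 5, 5, 5, 5, 5, 5, 5, 3, 6, 7, 3, 3], [3, 2, 3, 3, 3, 2, 3, 2, 4, 3, 3, 4, 4, 4, 5, 5, 6, 7]), ([3, 2, 3, 3, 2, 4, 3, 4, 4, 4, 5, 5, 5, 5,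 5, 5], [3, 2, 3, 2, 2, 3, 3, 2, 4, 3, 4, 4, 4, 3, 4, 5, 5, 5, 5, 7, 3]), ([2, 2, 2, 3, 2, 3, 2, 3, 4, 3, 4, 5, 5, 5, 5, 5, 5, 5, 5, 5, 3, 6], [2, 3, 3, 3, 2, 2]), ([2, 2, 3, 3, 2, 2, 2, 4, 3, 4, 3, 4, 5, 5, 5, 7, 3, 3, 3], [2, 3, 2, 2, 2, 3, 2, 2, 3, 3, 3, 4, 5, 5, 6, 6]), ([2, 3, 3, 3, 2, 3, 3, 2, 3, 3, 4, 5, 5, 5, 6, 3, 3], [2, 2, 3, 2, 3, 2, 3, 2, 4, 4, 3, 3, 4, 6, 6, 6, 7]), ([3, 2, 2, 2, 2, 4, 4, 5, 5, 5, 5, 7], [3, 2, 3, 3, 3, 2, 3, 2, 4, 3, 4, 3, 4, 5, 5, 5, 5, 5, 5, 5, 3]), ([2, 3, 2, 3, 3, 2, 4, 3, 3, 4, 3, 4, 5, 5, 5, 5, 5, 5, 5, 5, 6, 3], [3, 2, 3, 3, 3, 2, 3, 2, 3, 4, 4, 3, 4, 5, 5, 6, 6, 7, 3, 3]), ([3,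 2, 3, 2, 2, 2, 3, 3, 4, 3, 4, 4, 5, 5, 5, 5, 5, 5, 3, 6, 7], [2, 2, 3, 3, 2, 2, 2, 4, 4, 3, 4, 5, 6, 6, 7, 3, 3, 3]), ([3, 3, 2, 3, 3, 2, 2, 2, 4, 3, 3, 4, 4, 3, 4, 5, 5, 5, 5, 5, 5, 5, 5, 6, 6, 7], [2, 2, 2, 4, 3, 3, 4, 4, 4, 5, 5, 5, 5, 5, 7, 3, 3, 3]), ([2, 2, 2, 3, 3, 2, 4, 4, 5, 5, 5, 5, 5, 6, 3, 3, 3], [3, 2, 2, 3, 2, 2, 2, 2, 4, 4, 4, 5, 7]), ([3, 3, 3, 2, 3, 2, 2, 2, 4, 3, 3, 4, 4, 3, 4, 6, 6, 6, 7, 3], [2, 3, 2, 2, 3, 2, 3, 2, 4, 4, 3, 4, 5, 5, 6, 7, 3, 3, 3]), ([3, 2, 3, 2, 3, 4, 4, 3, 4, 5, 5, 5, 6, 7], [3, 2, 3, 2, 2, 4, 5, 5, 5, 5, 5, 5, 6, 6]), ([3, 3, 3, 2, 3, 2, 3, 4, 4, 3, 4, 5, 5, 5, 5, 5, 5, 5, 5,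 6, 7, 3, 3], [2, 2, 3, 4, 4, 4, 3, 4, 6, 6, 6, 7, 3, 3]), ([3, 4, 3, 4, 5, 5, 5, 6, 7, 3, 3], [2, 3, 2, 3, 3, 3, 2, 3, 3, 3, 4, 5, 5, 5, 5, 6, 6, 7]), ([3, 3, 2, 3, 3, 3, 2, 3, 4, 4, 3, 4, 5, 5, 5, 5, 5, 6, 6, 6, 7, 3], [3, 3, 2, 3, 3]), ([2, 2, 2, 2, 3, 2, 4, 3, 3, 4, 4, 3, 4, 5, 5], [2, 2, 3, 2, 2, 3, 2, 3, 2, 3, 4, 4, 3, 4, 5, 5, 5, 5, 5, 5, 5, 7, 3]), ([2, 2, 3, 3, 2, 3, 4, 3, 4, 4, 5, 6, 6, 7, 3, 3, 3], [2, 3, 2, 2, 3, 2, 3, 3, 3, 4, 3, 4, 4, 3, 6, 7, 3, 3, 3]), ([3, 3, 3, 2, 3, 2, 3, 3, 4, 4, 4, 3, 4, 5, 5, 5, 5, 7, 3, 3], [3, 3, 2, 3, 2, 3, 4, 4, 5, 5, 5, 5, 5, 5, 5, 5, 5, 6, 6, 7]), ([3, 3, 4, 3, 4, 5, 5, 5,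 5, 5, 5, 5, 5, 5, 6, 6, 6, 7, 3, 3, 3], [2, 3, 3, 3, 2, 3, 3, 2, 3, 3, 4, 3, 4, 5, 5, 5, 5, 5, 5, 5, 5, 5, 6, 6, 6, 7, 3]), ([2, 2, 3, 2, 3, 2, 2, 4, 3, 3, 4, 5, 5, 5, 5, 5, 5, 5, 5, 5, 3, 6, 7, 3, 3, 3], [3, 2, 2, 2, 3, 3, 3, 2, 4, 4, 3, 3, 4, 6, 6, 6]), ([3, 2, 3, 2, 3, 2, 3, 4, 5, 5, 5, 6, 6], [3, 2, 3, 2, 2, 3, 3, 2, 4, 3, 3, 4, 3, 4, 5, 5, 5, 7, 3]), ([3, 2, 2, 2, 3, 2, 2, 2, 4, 5, 5, 5, 6, 7], [3, 2, 3, 2, 2, 4, 3, 4, 3, 4, 5, 5, 5, 5, 5, 5, 6, 7]), ([3, 3, 2, 3, 2, 3, 2, 4, 4, 5, 5, 3, 6, 7, 3], [2, 3, 3, 2, 4, 3, 4, 4, 5, 5, 5, 5, 5, 6, 6, 7, 3, 3, 3]), ([3, 2, 2, 2, 3, 2, 4, 3, 3, 4, 4, 3, 4, 5, 5, 7], [3,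 3, 2, 2, 3, 3, 2, 3, 3, 3, 4, 5, 5, 5, 5, 5, 5, 5, 5, 6, 6, 3]), ([2, 2, 4, 5, 5, 5, 5, 5, 5, 5, 5, 3, 6, 3, 3], [3, 2, 3, 3, 3, 2, 3, 3, 3, 4, 3, 4, 4, 5, 6, 6, 3, 3]), ([2, 3, 3, 2, 3, 2, 2, 2, 3, 4, 5, 5, 5, 5, 5, 5, 5, 5, 6, 6, 7, 3], [2, 2, 3, 2, 2, 2, 2, 3, 3, 4, 4, 5, 5, 5, 3, 6, 7, 3, 3]), ([3, 3, 2, 2, 2, 4, 3, 4, 3, 4, 5, 5, 5, 5, 5, 5, 5], [2, 3, 4, 4, 3, 4, 6, 3, 3, 3]), ([2, 3, 2, 2, 3, 3, 2, 4, 3, 3, 4, 4, 3, 4, 5, 3, 6], [2, 3, 2, 2, 4, 4, 5, 5, 5, 5, 5, 6, 6, 3, 3]), ([2, 3, 2, 2, 3, 2, 3, 4, 4, 5, 5, 5, 5, 5, 6, 6, 7, 3, 3], [3, 3, 3, 2, 2, 2, 3, 3, 4, 3, 4, 4, 5, 5, 5, 5, 7, 3, 3]), ([3, 3, 2, 2, 4,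 5, 3, 3], [2, 3, 3, 3, 2, 3, 2, 2, 3]), ([2, 3, 2, 2, 2, 3, 3, 4, 4, 5, 5, 5, 5, 6, 7, 3], [2, 3, 2, 3, 3, 2, 2, 2, 3, 3, 4, 3, 4, 4, 5, 5, 3, 3]), ([3, 3, 3, 2, 3, 2, 2, 2, 4, 3, 3, 4, 5, 5, 5, 6, 6, 7, 3, 3, 3], [3, 2, 2, 2, 2, 2]), ([3, 2, 3, 2, 2, 2, 4, 3, 4, 3, 4, 5, 5, 5, 5, 5, 5, 5, 6, 3], [2, 2, 2, 2, 2, 3, 3]), ([2, 2, 3, 2, 3, 2, 3, 2, 3, 4, 3, 4, 6], [3, 3, 2, 3, 2, 3, 3, 3]), ([3, 2, 2, 2, 2, 2, 2, 4, 4, 4, 3, 4, 5, 5, 5, 5, 5, 5, 5, 5, 6, 6, 6, 3, 3, 3], [2, 3, 3, 2, 3, 2, 2, 2, 3, 3, 4, 5, 5, 5, 5, 5, 5, 5, 5, 7, 3]), ([2, 3, 2, 3, 3, 3, 2, 4, 4, 5, 5, 5, 5, 5, 6, 6, 6, 7], [2, 2, 3, 2, 2, 2, 2, 2, 3]),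 ([2, 2, 3, 3, 3, 2, 3, 4, 3, 4, 6], [3, 3, 2, 2, 2, 3, 3, 2, 3, 4, 4, 4, 3, 4, 5, 5, 5, 5, 5, 6, 6, 6, 7, 3, 3, 3]), ([3, 3, 2, 3, 2, 2, 3, 4, 4, 5, 5, 5, 5, 3, 6, 3, 3], [2, 3, 3, 3, 2, 2, 3, 3, 4, 3, 4, 4, 5, 5, 5, 5, 5, 5, 5, 5, 5, 6, 6, 7, 3]), ([3, 3, 3, 2, 2, 2, 2, 3, 2, 4, 3, 4, 4, 4, 3, 4, 6, 6], [3, 2, 3, 3, 3, 2, 2, 3, 4, 3, 4, 5, 5, 5, 5, 5, 7, 3]), ([2, 3, 3, 3, 2, 2, 3, 4, 4, 5, 5, 5, 5, 5, 5, 5, 6, 6, 7, 3], [2, 2, 2, 3, 2, 3, 4, 3, 4, 4, 5, 5, 3, 6, 3, 3]), ([3, 3, 2, 2, 2, 2, 3, 2, 3, 3, 4, 4, 5, 5, 5, 5, 5, 5, 6, 7, 3], [3, 2, 2, 2, 2, 2, 2, 3, 3, 4, 4, 4, 3, 4, 5, 5, 5, 5, 5, 5, 5, 5, 6, 3, 3]), ([4,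 3, 3, 4, 4, 4, 3, 6, 7, 3, 3, 3], [2, 2, 3, 3, 2, 2, 2, 3, 3, 4, 3, 4, 4, 5, 5, 3]), ([3, 2, 2, 2, 3, 2, 2, 2, 4, 4, 3, 4, 5, 5, 3, 3, 3], [2, 2, 2, 3, 3]), ([3, 3, 2, 2, 3, 2, 4, 4, 4, 5, 5, 5, 5, 5, 5, 5, 6, 7, 3, 3, 3], [3, 2, 3, 3, 3, 2, 3, 2, 3]), ([2, 3, 2, 3, 3, 3, 2, 4, 4, 3, 4, 5, 5, 5, 5, 5, 5, 5, 5, 3, 6, 3, 3, 3], [3, 2, 3, 3, 3, 2, 3, 2, 3, 3, 3, 4, 3, 4, 5, 5, 5, 5, 5, 5, 3, 6, 3, 3]), ([3, 2, 3, 3, 2, 2, 2, 3, 3, 4, 4, 5, 5, 7, 3, 3], [2, 2, 3, 2, 2, 2, 2, 4, 3, 4, 5, 5, 5, 6, 6, 6]), ([2, 2, 3, 2, 3, 2, 3, 2, 4, 3, 3, 3, 4, 3, 4, 6, 7, 3, 3, 3], [3, 2, 3, 3, 3, 2, 3, 2, 4, 3, 3, 3, 4, 3, 4, 5, 5, 5,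 5, 5, 5, 5, 5, 3, 6, 7, 3, 3]), ([2, 3, 2, 3, 2, 2, 2, 2, 2, 4, 4, 3, 3, 4, 5, 6, 6, 6, 7, 3, 3], [3, 3, 3, 2, 2, 3, 4, 3, 4, 5, 5, 5, 5, 3, 6, 3]), ([3, 3, 3, 2, 3, 2, 2, 2, 3, 4, 3, 4, 4, 5, 3, 6], [3, 2, 3, 3, 3, 2, 3, 2, 4, 4, 4, 3, 4, 5, 5, 5, 5, 5, 5, 5, 5, 5, 6, 6, 7, 3, 3]), ([2, 2, 2, 2, 2, 4, 4, 3, 3, 4, 5, 5, 5, 5, 5, 5, 5, 5, 6, 6], [3, 3, 3, 2, 4, 3, 4, 5, 5, 5, 5, 5, 5, 5, 6, 7, 3, 3]), ([3, 2, 3, 2, 2, 2, 4, 3, 4, 5, 5, 5, 5, 5, 5, 6, 6, 3], [3, 3, 3, 2, 2, 2, 3, 2, 4, 6, 6, 7, 3, 3]), ([3, 2, 3, 2, 2, 2, 3, 2, 2, 3, 3, 3, 4, 3, 4, 5, 5, 5, 5, 5, 5, 5, 5, 5, 3, 6, 7], [3, 2, 2, 2, 3, 3, 2, 3, 3, 3, 4,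 3, 4, 4, 5, 5, 5, 5, 5, 5, 5, 5, 5, 6, 6, 3, 3, 3])],
    [([2, 2, 2, 3, 3, 2, 3, 4, 3, 4, 5, 5, 5, 6, 7], [3, 3, 2, 2, 4, 3, 3, 4, 3, 4, 5, 5, 5, 6, 6, 6, 3, 3]), ([3, 2, 3, 3, 3, 2, 3, 4, 4, 3, 4, 5, 5, 5, 5, 6, 7], [3, 2, 2, 2, 3, 3, 3]), ([2, 3, 3, 2, 4, 5, 5, 5, 5, 5, 5, 6, 6, 6, 7], [2, 2, 2, 2, 3, 3, 2, 4, 3, 3, 4, 5, 5, 5, 3, 6, 7, 3, 3, 3]), ([3, 2, 5, 5, 5, 5, 5, 7], [3, 2, 2, 2, 3, 4, 4, 3, 4, 5, 6, 6, 6, 7, 3, 3]), ([2, 3, 2, 2, 3, 3, 2, 3, 4, 3, 3, 4, 3, 4, 5, 5, 5, 5, 5, 5, 3, 6, 7, 3, 3], [3, 3, 3, 2, 4, 3, 4, 4, 5, 5, 5, 5, 5, 6, 6, 7, 3, 3, 3]), ([3, 2, 3, 3, 2, 5, 5, 5, 5, 5, 5, 5, 5, 3], [2, 2, 3,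 3, 3, 2, 3, 2, 3, 4, 4, 5, 5, 5, 5, 5, 5, 5, 5, 5, 6, 6, 7]), ([3, 2, 3, 2, 3, 3, 2, 3, 4, 3, 4, 4, 6, 6, 3, 3], [3, 2, 2, 2, 3, 3, 3, 4, 5, 6, 6, 7, 3, 3]), ([2, 2, 2, 4, 3, 4, 3, 4, 5, 5, 5, 5, 5, 5, 5, 5, 6, 6, 3, 3], [3, 3, 2, 2, 2, 3, 2, 2, 2, 4, 3, 4, 4, 4, 3, 4, 5, 5, 5, 5, 5, 6, 6, 6, 7, 3]), ([2, 2, 3, 3, 2, 2, 2, 4, 3, 3, 3, 4, 3, 4, 5, 5, 5, 6, 6, 6, 3, 3, 3], [2, 3, 3, 2, 2, 3, 2, 4, 4, 3, 3, 4, 6, 6, 6, 3, 3, 3]), ([3, 3, 2, 4, 3, 3, 4, 5, 5, 5, 5, 6, 6], [3, 3, 3, 2, 2, 4, 3, 4, 3, 4, 5, 5, 5, 6, 6, 3, 3]), ([2, 2, 3, 2, 2, 2, 2, 2, 4, 3, 3, 4, 5, 6, 7, 3], [3, 2, 2, 3, 2, 3]), ([2, 3, 2, 2, 3, 3, 2, 2,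 2, 3, 3, 3, 4, 5, 5, 5, 5, 5, 5, 5, 5, 6, 6, 6, 7, 3, 3], [2, 2, 3, 3, 3, 2, 4, 4, 4, 5, 5, 5, 5, 5, 5, 6, 6, 7]), ([2, 3, 3, 2, 3, 3, 2, 2, 2, 3, 3, 3, 4, 3, 4, 4, 5, 5, 5, 5, 5, 5, 5, 5], [2, 3, 2, 2, 2, 2, 2, 2, 4, 3, 3, 4, 3, 4, 5, 5, 5, 3, 6, 7, 3, 3]), ([3, 2, 3, 2, 2, 2, 2, 4, 3, 4, 4, 4, 6, 6, 6, 7, 3], [2, 2, 2, 2, 2, 3, 2, 4, 3, 3, 4, 3, 4, 5, 5, 5, 5, 3, 6, 7, 3, 3]), ([3, 2, 3, 3, 3, 2, 2, 3, 4, 4, 3, 3, 4, 5, 5, 5, 5, 5, 5, 6], [2, 2, 3, 3, 3, 2, 3, 2, 2, 4, 4, 4, 3, 4, 5, 5, 5, 5, 5, 5, 5, 5, 5, 3]), ([3, 2, 3, 2, 3, 3, 2, 4, 3, 4, 5, 5, 5, 5, 5, 5, 5, 5, 3, 6, 3, 3, 3], [3, 3, 2, 3, 2, 4, 4, 3, 3, 4,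 5, 7]), ([3, 3, 3, 2, 3, 3, 2, 3, 4, 4, 3, 3, 4, 5, 5, 7, 3], [3, 3, 3, 2, 3, 2, 3, 2]), ([2, 2, 3, 2, 4, 3, 4, 4, 4, 5, 5, 5, 5, 5, 5, 5, 5, 6, 6, 7, 3], [2, 3, 2, 2, 2, 2, 4, 3, 3, 4, 4, 3, 4, 3, 6, 3, 3, 3]), ([3, 2, 3, 3, 2, 5, 5, 5, 5, 5, 5, 5, 5, 3, 6, 7], [2, 3, 3, 2, 3, 2, 2, 2, 3, 4, 4, 5, 5, 5, 3, 6, 7, 3, 3, 3]), ([2, 3, 2, 4, 3, 3, 4, 4, 4, 5, 6, 7, 3, 3, 3], [3, 2, 3, 2, 2, 2, 2, 3, 3, 4, 4, 5, 5, 5, 3, 6, 7, 3, 3, 3]), ([3, 2, 2, 2, 3, 2, 2, 4, 4, 4, 3, 4, 5, 5, 5, 5, 6, 6, 7], [2, 3, 2, 2, 2, 2, 2, 4, 3, 3, 4, 3, 4, 5, 5, 5, 6, 7]), ([3, 2, 2, 2, 3, 3, 2, 4, 4, 4, 3, 4, 5, 5, 5, 6, 6, 3, 3], [3, 2, 3,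 2, 3, 2, 3, 3, 4, 4, 4, 5, 6, 7]), ([3, 3, 2, 3, 2, 2, 4, 3, 3, 4, 5, 5, 5, 5, 5, 5, 5, 5, 5, 3], [3, 2, 2, 2, 3, 2, 4, 4, 3, 3, 4, 6, 6, 6, 7, 3, 3]), ([2, 2, 3, 2, 2, 3, 2, 3, 2, 3, 3, 4, 4, 4, 3, 4, 5, 5, 5, 5, 5, 5, 5, 5, 3, 6], [2, 2, 3, 3, 3, 2, 2, 5, 5, 5, 5, 6, 7, 3, 3]), ([2, 2, 2, 2, 3, 3, 2, 3, 4, 3, 4, 5, 5, 7, 3], [3, 2, 3, 2, 2, 2, 2, 4, 3, 3, 4, 4, 3, 4, 5, 5, 5, 5, 5, 5, 6, 6, 6, 7, 3, 3, 3]), ([3, 2, 3, 3, 3, 2, 2, 3, 4, 4, 3, 3, 4, 5, 5, 5, 7], [2, 3, 2, 4, 3, 3, 4, 4, 4, 5, 5, 6, 7]), ([2, 3, 3, 2, 3, 3, 4, 3, 4, 4, 5, 5, 5, 5, 5, 5, 5, 5, 5, 6, 6, 3, 3, 3], [3, 2, 3, 2, 2, 3, 3, 2, 4, 3, 4, 4, 5,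 5, 7, 3, 3]), ([2, 2, 3, 3, 3, 2, 3, 4, 3, 4, 5, 5, 5, 3, 6, 3, 3, 3], [2, 2, 2, 2, 2, 2, 3, 3, 4, 4, 3, 4, 5, 5, 5, 5, 5, 5, 5, 5, 3, 6, 7, 3, 3, 3]), ([3, 2, 2, 2, 3, 2, 2, 2, 4, 4, 3, 4, 5, 5, 5, 5, 6, 6, 3, 3, 3], [3, 2, 3, 3, 3, 2, 3, 3, 3, 4, 3, 4, 4, 5, 6, 6]), ([3, 2, 2, 3, 3, 2, 4, 3, 3, 4, 4, 3, 4, 6, 6, 6, 7], [2, 3, 2, 3, 3]), ([4, 3, 3, 3, 4, 3, 4, 5, 5, 5, 5, 5, 5, 5, 5, 5, 3, 6], [2, 3, 2, 3, 2, 2, 4, 3, 3, 4, 4, 3, 4, 5, 6, 6, 3, 3, 3]), ([3, 2, 3, 2, 3, 2, 4, 5, 5, 5, 5, 5, 5, 3, 3, 3], [3, 3, 2, 2, 2, 3, 2, 2, 2, 4, 3, 4, 4, 4, 5, 5, 5, 3, 6, 7]), ([2, 2, 2, 3, 2, 2, 2, 4, 5, 5, 5, 5, 6, 6, 6, 7, 3,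 3, 3], [3, 2, 3, 2, 2, 2, 2, 3, 3, 3, 4, 5, 5, 5, 5, 6, 7, 3]), ([3, 2, 3, 2, 2, 2, 2, 2, 2, 4, 4, 4, 3, 4, 5, 5, 6, 6, 7, 3, 3], [2, 3, 3, 3, 2, 2, 2, 3, 2, 3, 4, 4, 3, 3, 4, 5, 5, 5, 6, 6, 3]), ([2, 2, 2, 3, 3, 2, 4, 3, 3, 4, 5, 6, 6, 6, 7], [2, 2, 2, 2, 3, 3, 4, 5, 6, 7, 3, 3]), ([3, 2, 3, 2, 2, 2, 4, 3, 3, 4, 4, 4, 5, 5, 5, 5, 5, 5, 3, 6, 7, 3, 3, 3], [2, 2, 2, 3, 2, 3, 4, 3, 3, 4, 3, 4, 5, 5, 5, 3, 6, 3]), ([2, 2, 2, 2, 2, 4, 3, 3, 4, 5, 5, 5, 5, 5, 5, 5, 5, 3, 6, 3, 3], [2, 2, 3, 3, 3, 2, 2, 4, 3, 4, 3, 6, 7, 3, 3, 3]), ([3, 3, 2, 3, 3, 2, 2, 2, 4, 3, 4, 4, 4, 5, 6, 6, 3], [3, 2, 3, 2, 2, 2, 2, 2, 4, 3, 3, 4,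 3, 4, 5, 5, 5, 6, 7, 3, 3, 3]), ([2, 2, 2, 3, 2, 3, 2, 2, 3, 3, 4, 4, 4, 3, 4, 5, 5, 5, 5, 6, 6, 6], [3, 3, 3, 2, 3, 3, 2]), ([2, 3, 2, 3, 2, 3, 2, 4, 3, 3, 4, 4, 4, 5, 5, 5, 5, 6], [2, 3, 3, 2, 3, 2, 2, 2, 3, 3]), ([2, 3, 2, 2, 2, 3, 2, 3, 4, 5, 5, 6, 7, 3, 3, 3], [3, 2, 3, 3, 2, 3, 3]), ([3, 2, 2, 2, 2, 3, 2, 3, 3, 4, 4, 3, 4, 5, 5, 6, 7, 3], [2, 2, 2, 2, 2, 3, 2, 3, 4, 3, 3, 4, 3, 4, 5, 5, 5, 3, 6, 7, 3, 3]), ([3, 4, 4, 3, 3, 4, 5, 5, 5, 5, 5, 5, 5, 3, 6, 3, 3, 3], [2, 3, 2, 3, 3, 3, 2, 3, 3, 3, 4, 3, 4, 4, 5, 6, 6]), ([3, 3, 2, 3, 3, 2, 2, 2, 3, 3, 4, 5, 5, 5, 5, 5, 6, 6, 6, 7, 3, 3], [2, 3, 3, 3, 2, 3, 3, 4, 4,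 3, 4, 5, 5, 5, 5, 5, 5]), ([3, 2, 3, 2, 2, 2, 4, 3, 3, 4, 3, 4, 5, 5, 5, 5, 5, 5, 5, 5, 3, 6, 3], [2, 2, 2, 2, 2, 4, 3, 3, 4, 4, 4, 5, 5, 5, 5, 5, 7, 3, 3]), ([3, 3, 2, 3, 3, 2, 3, 4, 4, 3, 3, 4, 5, 5, 7, 3, 3], [3, 3, 2, 3, 2, 3, 2]), ([2, 3, 2, 2, 2, 2, 2, 2, 3, 3, 3, 4, 5, 6, 7, 3, 3], [3, 3, 2, 2, 3, 3, 4, 3, 4, 4, 5, 5, 5, 5, 5, 5, 5, 5, 5, 6, 6, 7, 3]), ([3, 3, 2, 3, 2, 2, 3, 3, 4, 3, 4, 5, 5, 5, 5, 5, 5, 5, 3, 3], [3, 3, 3, 2, 3, 3, 4, 4, 4, 5, 5, 5, 5, 6, 6, 7, 3, 3, 3]), ([3, 3, 2, 3, 2, 4, 3, 3, 4, 4, 4, 5, 6, 7, 3], [3, 2, 2, 3, 2, 2, 3, 3]), ([2, 3, 2, 2, 3, 2, 3, 3, 4, 3, 4, 5, 5, 5, 5, 5, 5, 6, 3, 3],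 [2, 3, 3, 2, 2, 3, 3, 2, 4, 3, 3, 4, 4, 3, 4, 6, 7, 3, 3]), ([2, 3, 2, 2, 3, 3, 2, 2, 2, 4, 3, 4, 4, 4, 3, 4, 3], [2, 2, 3, 3, 2, 2, 2]), ([3, 2, 2, 3, 3, 4, 3, 4, 4, 3, 3], [2, 2, 3, 2, 2, 2, 2, 3]), ([2, 3, 3, 3, 2, 3, 2, 3, 4, 5, 5, 5, 6, 6, 3], [3, 2, 2, 3, 3, 2, 3, 3]), ([3, 2, 3, 3, 2, 2, 2, 4, 4, 5, 5, 5, 5, 5, 5, 5, 3, 6, 7, 3, 3], [2, 3, 2, 4, 4, 5, 5, 5, 5, 5, 5, 3, 6, 7, 3]), ([2, 3, 2, 3, 2, 2, 4, 3, 3, 4, 3, 4, 5, 5, 5, 6, 6, 6], [2, 2, 3, 2, 3, 2, 3]), ([2, 2, 2, 3, 2, 4, 3, 4, 4, 4, 5, 3, 3], [3, 3, 2, 2]), ([2, 3, 3, 3, 2, 2, 2, 3, 2, 4, 3, 3, 4, 3, 4, 5, 5, 5, 5, 5, 5, 5, 5, 6, 6, 6, 7, 3, 3, 3], [2,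 2, 3, 2, 3, 3, 2, 2, 2, 3, 4, 5, 5, 3, 6, 3, 3, 3]), ([3, 2, 3, 3, 2, 2, 2, 3, 3, 4, 3, 4, 5, 5, 5, 5, 6, 7], [2, 3, 3, 3, 2, 3, 2, 2, 4, 5, 5, 5, 5, 6, 3, 3, 3]), ([2, 2, 3, 3, 2, 2, 2, 4, 3, 3, 3, 4, 3, 4, 5, 5, 5, 7, 3, 3, 3], [3, 3, 3, 2, 2, 2, 3, 2, 5, 5, 5, 5, 5, 5, 5, 6, 6, 7]), ([3, 3, 3, 2, 3, 2, 3, 2, 4, 4, 4, 3, 4, 5, 5, 5, 5, 5, 5, 6, 7, 3, 3], [2, 3, 2, 2, 3, 2, 3, 4, 4, 4, 5, 5, 5, 5, 5, 5, 5, 6]), ([2, 2, 3, 2, 2, 2, 2, 2, 3, 4, 3, 4, 4, 5, 5, 5, 5, 5, 5, 5, 5, 5, 6, 6, 3], [3, 3, 2, 2, 2, 3, 2, 2, 2, 4, 3, 3, 3, 4, 3, 4, 6, 6, 6, 3]), ([2, 3, 3, 2, 2, 2, 2, 2, 3, 4, 4, 5, 5, 5, 5, 5, 5, 5, 6, 6, 6],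 [2, 2, 4, 3, 3, 4, 4, 4, 5, 5, 5, 5, 5, 7, 3, 3, 3]), ([3, 2, 3, 3, 2, 2, 2, 3, 3, 4, 5, 5, 5, 5, 5, 6, 6, 6, 7, 3, 3, 3], [2, 2, 2, 2, 2, 2, 3, 3, 4, 3, 4, 4, 5, 5, 5, 5, 5, 5, 5, 5, 5, 6, 6, 7, 3, 3, 3]), ([3, 3, 2, 3, 2, 3, 2, 3, 4, 4, 4, 3, 4, 5, 5, 5, 5, 5, 5, 7, 3, 3, 3], [3, 2, 2, 2, 2, 2, 2, 3, 3, 3, 4, 5, 5, 5, 5, 5, 5, 5, 5, 5, 6, 6, 3, 3, 3])],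
    [([3, 3, 2, 2, 2, 3, 3, 2, 3, 3, 4, 3, 4, 4, 5, 5, 5, 5, 5, 5, 6, 6, 3], [2, 3, 2, 3, 4, 3, 4, 4, 5, 5, 5, 5, 5, 5, 5, 6, 6, 6, 3, 3]), ([3, 3, 2, 2, 2, 4, 3, 4, 3, 4, 5, 5, 5, 5, 5, 5, 5, 5, 6, 6], [2, 2, 3, 3, 2, 2, 2, 4, 4, 4, 3, 4, 5, 5, 5, 5, 5, 5, 6, 6, 6, 7, 3, 3]), ([2, 3, 2, 2, 2, 2, 2, 4, 3, 3, 4, 5, 5, 5, 5, 6, 6, 3], [2, 2, 3, 2, 3, 2, 3, 2, 3, 3, 4, 4, 4, 3, 4, 5, 5, 5, 5, 5, 5, 5, 5, 6, 7]), ([2, 2, 3, 2, 2, 2, 2, 2, 3, 4, 3, 4, 5, 5, 5, 5, 5, 5, 6, 6, 6, 7, 3], [3, 2, 2, 3, 3, 3, 2, 2, 3, 3, 4, 4, 4, 5, 5, 5, 5, 5, 5, 5, 5, 5, 6, 7, 3, 3, 3]), ([3, 3, 2, 2, 3, 2, 4, 4, 4, 5, 5, 6, 7, 3, 3, 3], [3,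 2, 2, 2, 3, 3, 2, 3, 4, 4, 4, 3, 4, 5, 5, 5, 5, 5, 6, 6, 6, 7, 3, 3, 3]), ([2, 3, 2, 3, 2, 3, 2, 4, 3, 3, 4, 4, 4, 5, 5, 6, 3, 3], [3, 2, 2, 3, 2, 3, 3, 3, 4, 3, 4, 4, 3, 6, 7]), ([3, 2, 2, 3, 2, 3, 4, 3, 3, 4, 3, 4, 5, 5, 5, 5, 5, 5, 5, 5, 5, 6, 6, 7, 3, 3, 3], [2, 3, 3, 2, 3, 3, 2, 2, 2, 4, 3, 3, 3, 4, 3, 4, 5, 5, 5, 5, 5, 5, 5, 5]), ([3, 4, 4, 5, 5, 5, 5, 5, 5, 3, 6, 7], [3, 3, 4, 4, 3, 4, 6, 3, 3, 3]), ([3, 2, 2, 2, 2, 3, 2, 4, 3, 4, 4, 4, 3, 4, 6, 6, 3, 3], [2, 2, 4, 4, 5, 5, 5, 5, 5, 5, 5, 6, 7, 3, 3, 3]), ([2, 2, 2, 2, 3, 2, 3, 4, 4, 5, 5, 5, 5, 5, 5, 5, 5], [3, 2, 3, 2, 2, 3, 3, 2, 4, 3, 3, 4, 3, 4, 5, 5, 5,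 7]), ([3, 2, 2, 2, 2, 2, 4, 4, 3, 3, 4, 5, 5, 5, 5, 5, 3, 3, 3], [3, 2, 2, 2, 3, 3, 3, 2, 3, 3, 4, 4, 4, 3, 4, 5, 5, 5, 5, 5, 5, 5, 5, 3, 6]), ([3, 2, 3, 3, 2, 2, 3, 2, 3, 4, 3, 4, 5, 5, 5, 5, 5, 5, 5, 5, 5, 6, 6], [3, 3, 2, 3, 3, 3, 4, 3, 4, 4, 5, 5, 5, 6, 3]), ([3, 2, 3, 3, 2, 2, 2, 3, 3, 4, 4, 3, 4, 3, 6, 7, 3], [3, 2, 2, 2, 4, 3, 3, 4, 4, 4, 5, 5, 5, 5, 5, 7, 3, 3]), ([2, 3, 2, 2, 3, 3, 2, 2, 2, 3, 3, 3, 4, 5, 5, 5, 6, 7, 3, 3], [2, 3, 2, 2, 2, 2, 3, 3, 4, 4, 5, 5, 5, 3, 6, 7]), ([3, 2, 2, 2, 2, 2, 2, 5, 5, 6, 6, 6, 7, 3], [2, 2, 3, 2, 3, 2, 3, 3, 3]), ([2, 2, 3, 3, 3, 2, 3, 2, 4, 5, 5, 5, 5, 5, 5, 6, 7, 3, 3],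 [3, 2, 2, 3, 3, 2, 2, 2, 3, 4, 4, 3, 4, 5, 6, 6, 6, 7, 3]), ([3, 4, 3, 4, 5, 3, 6, 7, 3], [2, 3, 3, 3, 2, 2, 2, 3, 2, 4, 3, 3, 3, 4, 3, 4, 5, 5, 5, 5, 3, 6]), ([3, 3, 3, 2, 3, 3, 2, 3, 4, 3, 3, 4, 3, 4, 5, 6, 6, 6, 7, 3], [3, 2, 2, 3, 2, 4, 6, 6, 7, 3, 3]), ([2, 2, 3, 2, 3, 3, 2, 2, 2, 3, 3, 4, 4, 5, 5, 5, 6, 7, 3, 3, 3], [2, 3, 2, 2, 3, 2, 3, 2, 3, 4, 4, 3, 3, 4, 5, 5, 5, 5, 5, 5, 5, 5, 5, 3, 6, 3, 3, 3]), ([3, 2, 3, 3, 2, 4, 5, 5, 5, 5, 5, 5, 6, 6, 6, 7, 3, 3, 3], [2, 3, 2, 3, 3, 3, 2, 4, 3, 4, 5, 5, 5, 5, 5, 3, 6, 7, 3, 3, 3]), ([2, 3, 3, 3, 2, 3, 2, 4, 3, 4, 3, 4, 5, 5, 5, 5, 5, 5, 5, 6, 6], [3, 2, 3, 2, 2, 2, 2,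 3, 4, 3, 4, 5, 5, 5, 5, 5, 5, 5, 5, 5, 6, 3, 3]), ([2, 3, 3, 3, 2, 3, 2, 4, 3, 4, 4, 4, 3, 4, 5, 5, 3, 6, 7, 3], [2, 3, 2, 2, 3, 2, 3, 2]), ([3, 3, 2, 2, 2, 2, 2, 4, 3, 4, 4, 4, 5, 5, 5, 5, 5, 5, 5, 6, 3, 3], [2, 2, 2, 2, 2, 3]), ([3, 2, 3, 3, 2, 3, 4, 4, 3, 3, 4, 5, 5, 7, 3, 3, 3], [3, 2, 3, 2, 3, 2]), ([2, 3, 2, 2, 2, 2, 2, 2, 4, 5, 5, 3, 6, 7], [3, 2, 2, 2, 3, 3, 3, 2, 4, 3, 4, 4, 4, 5, 5, 6, 6, 6]), ([2, 2, 3, 3, 2, 2, 2, 4, 4, 3, 3, 4, 5, 5, 6, 6, 3, 3], [2, 3, 2, 2, 3]), ([2, 3, 2, 2, 2, 2, 2, 2, 4, 4, 4, 3, 4, 5, 5, 6, 6, 7, 3, 3, 3], [3, 2, 2, 3, 2, 2, 3, 4, 4, 4, 5, 5, 5, 5, 5, 5, 6, 6, 7, 3, 3]), ([2, 2, 3,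 2, 2, 3, 3, 3, 4, 3, 4, 4, 5, 5, 5, 5, 5, 3], [2, 2, 2, 2, 2, 4, 3, 3, 4, 4, 4, 5, 5, 5, 5, 5, 7, 3, 3, 3]), ([2, 2, 3, 3, 2, 2, 2, 3, 3, 4, 3, 4, 4, 5, 5, 5, 6, 6, 7, 3, 3], [3, 2, 2, 3, 2, 3, 2, 3]), ([3, 3, 2, 2, 2, 3, 2, 4, 3, 3, 4, 4, 3, 4, 5, 6, 6, 6, 7], [3, 2, 3, 2, 2, 2, 3, 3, 3, 4, 5, 5, 5, 5, 5, 5, 5, 5, 6, 6, 6, 7]), ([2, 3, 3, 3, 2, 2, 2, 3, 2, 3, 4, 4, 3, 4, 5, 5, 7, 3, 3, 3], [3, 2, 3, 2, 2, 4, 4, 4, 3, 4, 6, 6, 3, 3]), ([2, 2, 3, 3, 3, 2, 3, 3, 4, 5, 5, 5, 5, 5, 5, 5, 5, 5, 6, 3, 3], [3, 2, 3, 2, 2, 3, 4, 3, 4, 4, 5, 5, 5, 5, 6, 6, 6, 3, 3, 3]), ([3, 3, 2, 2, 2, 2, 3, 3, 4, 4, 3, 4, 5, 5, 6, 6, 6, 3,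 3], [3, 3, 2, 2, 2, 3, 3, 2, 4, 3, 3, 4, 5, 5, 5, 5, 5, 5, 5, 5, 5, 7, 3, 3, 3]), ([3, 2, 3, 3, 3, 2, 4, 4, 3, 4, 5, 5, 5, 5, 5, 5, 5, 5, 5, 6], [3, 2, 3, 2, 2, 2, 3, 3, 4, 3, 4, 4, 5, 5, 5, 5, 5, 5, 5, 5, 5, 6, 6, 7, 3]), ([3, 2, 2, 2, 3, 3, 2, 3, 3, 3, 4, 3, 4, 5, 5, 6, 6, 7], [2, 2, 2, 2, 2, 4, 3, 3, 4, 3, 4, 6, 6, 7, 3, 3]), ([2, 3, 2, 2, 2, 2, 4, 3, 4, 4, 4, 6, 6, 6, 7, 3, 3], [3, 3, 3, 2, 3, 2, 4, 4, 3, 3, 4, 5, 7, 3, 3]), ([3, 3, 2, 2, 3, 2, 3, 4, 3, 3, 4, 3, 4, 5, 5, 5, 5, 5, 5, 5, 5, 5, 6, 6, 7, 3, 3], [2, 2, 3, 2, 2, 2, 2, 2, 2, 3, 3, 4, 4, 4, 3, 4, 5, 5, 3]), ([2, 3, 3, 3, 2, 2, 2, 3, 2, 4, 4, 3, 3, 4, 5,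 5, 5, 5, 5, 5, 6, 6, 6, 3, 3, 3], [3, 2, 3, 2, 2, 3, 3, 4, 4, 3, 4, 5, 5, 5, 6, 6, 7, 3, 3, 3]), ([3, 3, 2, 3, 4, 4, 3, 4, 5, 5, 5, 5, 5, 6, 6, 3, 3], [3, 2, 2, 2, 3, 3, 3, 2, 4, 3, 3, 3, 4, 3, 4, 5, 5, 5, 5, 5, 5, 5, 5, 3, 6, 7, 3, 3, 3]), ([3, 3, 2, 2, 2, 3, 4, 4, 4, 5, 5, 5, 5, 5, 3, 3, 3], [3, 2, 3, 2, 2, 4, 4, 4, 5, 5, 5, 3, 6, 3, 3]), ([2, 2, 3, 2, 5, 5, 5, 5, 5, 3, 6, 3, 3, 3], [3, 2, 3, 2, 2, 2, 2, 4, 4, 3, 3, 4, 5, 5, 5, 5, 5, 5, 5, 3, 6, 7, 3, 3]), ([3, 3, 3, 2, 3, 3, 2, 5, 5, 5, 5, 5, 5, 5, 5, 5, 3, 6, 7], [3, 2, 3, 2, 2, 2, 2, 3, 3, 4, 3, 4, 4, 5, 5, 5, 5, 5, 5, 5, 5, 5, 6, 6, 7, 3]), ([2, 3, 2, 4, 3, 3,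 4, 3, 4, 5, 5, 5, 5, 5, 5, 5, 5, 5, 3, 6, 3, 3], [2, 3, 3, 2, 3, 2, 3, 4, 4, 5, 5, 5, 5, 5, 5, 5, 5, 5, 6, 6, 7]), ([3, 2, 2, 2, 2, 2, 2, 3, 4, 3, 4, 4, 5, 3, 6, 3, 3, 3], [2, 3, 2, 2, 2, 2, 3, 4, 3, 4, 5, 5, 5, 5, 5, 5, 5, 5, 5, 6, 3, 3]), ([3, 3, 3, 2, 3, 3, 2, 4, 3, 3, 4, 5, 5, 5, 5, 5, 5, 5, 5, 6, 6, 6, 7, 3], [2, 3, 3, 2, 3, 2, 3, 3, 3, 4, 6, 7, 3, 3]), ([2, 2, 3, 2, 4, 4, 4, 5, 5, 6, 6, 6, 7, 3], [3, 2, 3, 2, 3, 3, 4, 3, 4, 4, 5, 5, 5, 5]), ([2, 3, 2, 3, 2, 2, 2, 2, 2, 3, 4, 3, 3, 4, 3, 4, 5, 6, 3], [3, 3, 2, 2, 2, 3, 2, 3, 3, 3, 4, 5, 5, 5, 3, 6]), ([2, 2, 2, 3, 2, 3, 3, 4, 3, 4, 4, 5, 5, 5, 5, 5, 5, 5, 5, 5,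 6, 3, 3, 3], [2, 3, 2, 2, 4, 3, 4, 4, 4, 5, 5, 5, 6, 3, 3, 3]), ([2, 3, 3, 2, 2, 2, 2, 2, 3, 4, 3, 4, 5, 5, 5, 5, 5, 3, 6, 7, 3, 3, 3], [2, 2, 3, 2, 3]), ([2, 2, 2, 2, 3, 3, 2, 4, 4, 4, 3, 4, 5, 5, 5, 5, 5, 5, 5, 5, 5, 3, 6, 3], [2, 3, 2, 2, 2, 3, 2, 4, 5, 5, 5, 5, 5, 5, 5, 5, 6, 6, 6, 7, 3]), ([3, 2, 2, 2, 3, 2, 4, 3, 3, 4, 4, 4, 5, 5, 6, 6], [3, 2, 2, 2, 2, 3, 4, 3, 3, 4, 3, 4, 5, 5, 6, 6, 7, 3]), ([2, 2, 3, 2, 3, 3, 2, 2, 2, 3, 4, 4, 4, 5, 5, 6, 6, 6, 7, 3, 3], [3, 2, 2, 2, 3, 2, 2, 2, 3, 4, 4, 4, 5, 5, 5, 5, 3, 6, 7, 3, 3]), ([3, 3, 2, 2, 2, 2, 4, 3, 4, 3, 4, 5, 5, 5, 5, 5, 6, 6, 6, 3], [3, 2, 2, 3, 3, 2, 2, 2,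 3, 3, 4, 3, 4, 4, 5, 5, 7, 3, 3]), ([3, 2, 3, 3, 3, 2, 2, 3, 3, 4, 3, 4, 4, 6, 7, 3, 3, 3], [3, 3, 2, 3, 3, 2, 2, 2, 4, 4, 4, 3, 4, 5, 5, 5, 5, 7, 3, 3]), ([3, 2, 2, 3, 3, 2, 2, 2, 4, 3, 4, 3, 4, 5, 5, 5, 6, 6, 6, 3, 3], [2, 3, 2, 2, 2, 3, 2, 2, 3, 4, 5, 5]), ([4, 3, 3, 4, 3, 4, 6, 6, 6, 3, 3], [3, 2, 3, 2, 2, 2, 2, 2, 2, 4, 3, 4, 3, 4, 5, 5, 5, 5, 5, 6, 7, 3]), ([2, 2, 4, 3, 4, 4, 4, 5, 7, 3, 3], [3, 3, 2, 2, 2, 2, 3, 2, 3, 4, 3, 4, 4, 5, 5, 7, 3, 3, 3]), ([2, 2, 2, 3, 2, 3, 2, 3, 3, 4, 3, 4, 5, 5, 5, 5, 5, 5, 5, 5, 6, 6, 7, 3, 3], [2, 2, 3, 2, 2, 3, 2, 3, 3]), ([3, 2, 2, 3, 3, 3, 2, 2, 3, 3, 4, 3, 4, 4, 5, 7], [2,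 3, 3, 2, 2, 2, 2, 2, 3, 3, 4, 3, 4, 5, 5, 5, 5, 3, 3, 3]), ([3, 3, 2, 2, 2, 4, 3, 4, 4, 5, 5, 7], [2, 2, 3, 2, 2, 4, 4, 4, 5, 5, 5, 3, 6, 3, 3]), ([3, 2, 2, 3, 3, 2, 2, 2, 4, 3, 4, 3, 4, 5, 5, 5, 7, 3, 3], [3, 2, 3, 2, 2, 2, 3, 2, 2, 3, 3, 3, 4, 5, 5, 6, 6]), ([4, 3, 3, 4, 3, 4, 7, 3, 3], [2, 2, 2, 2, 2, 2, 3, 4, 3, 4, 4, 3, 6, 7]), ([2, 2, 3, 2, 4, 3, 4, 4, 4, 5, 5, 5, 5, 5, 5, 5, 5, 7, 3], [2, 2, 3, 2, 3, 3, 3, 2, 4, 3, 3, 4, 4, 4, 5, 5, 5, 3, 3, 3]), ([3, 3, 3, 2, 3, 3, 2, 3, 4, 4, 3, 3, 4, 5, 5, 6, 6, 7, 3], [3, 3, 2, 3, 3, 3, 2, 4, 5, 5, 5, 5, 5, 5, 5, 5, 5, 3, 6, 7, 3, 3])],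
    [([3, 2, 3, 2, 3, 3, 2, 3, 3, 4, 3, 4, 4, 5, 5, 5, 5, 5, 6, 6, 7, 3, 3], [3, 2, 2, 2, 2, 2, 2, 4, 3, 3, 4, 3, 4, 6, 6, 7, 3, 3]), ([2, 2, 3, 3, 4, 4, 3, 4, 5, 5, 5, 5, 5, 5, 5, 5, 3], [3, 2, 2, 3, 2, 3, 4, 3, 4, 4, 5, 5, 5, 5, 5, 5, 5, 5, 6, 7]), ([3, 3, 3, 2, 2, 2, 2, 3, 2, 3, 3, 3, 4, 3, 4, 4, 5, 5, 5, 5, 5, 5, 5, 5, 5, 6, 6, 7, 3, 3, 3], [2, 2, 3, 2, 3, 3, 2, 2, 2, 4, 4, 4, 3, 4, 5, 5, 6, 6, 6, 3]), ([3, 3, 3, 2, 2, 2, 2, 3, 2, 3, 3, 3, 4, 3, 4, 4, 5, 5, 5, 5, 5, 5, 5, 3, 6, 7, 3], [3, 2, 2, 3, 2, 4, 3, 3, 4, 4, 4, 5, 5, 5, 5, 5, 7, 3, 3]), ([2, 3, 3, 3, 2, 2, 2, 3, 2, 3, 3, 4, 4, 5, 5, 5, 5, 5, 6, 7, 3, 3],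 [2, 2, 3, 3, 3, 2, 2, 3, 3, 4, 4, 4, 5, 5, 5, 5, 5, 5, 5, 5, 5, 3, 6]), ([3, 3, 3, 2, 2, 2, 3, 2, 3, 4, 4, 5, 5, 5, 5, 6, 6, 6, 7, 3], [3, 2, 3, 2, 2, 2, 2, 2, 2, 4, 4, 3, 3, 4, 5, 5, 5, 5, 5, 5, 5, 5, 5, 6, 6, 6, 7, 3, 3]), ([3, 3, 2, 3, 2, 2, 3, 4, 3, 4, 4, 5, 5, 5, 5, 5, 5, 5, 5, 5, 3, 6, 7, 3, 3], [2, 3, 2, 3, 2, 3, 3, 2, 3]), ([2, 3, 3, 2, 3, 2, 2, 2, 3, 4, 4, 4, 3, 4, 5, 5, 5, 5, 5, 5, 5, 6, 6, 7, 3, 3], [2, 2, 2, 2]), ([2, 3, 2, 2, 3, 3, 2, 4, 4, 4, 5, 5, 5, 5, 5, 3, 6, 3, 3, 3], [3, 2, 2, 2, 2, 3, 2, 3, 3, 3, 4, 3, 4, 4, 5, 5, 5, 5, 5, 5, 3, 6, 7, 3, 3, 3]), ([2, 2, 2, 3, 2, 3, 2, 4, 3, 4, 5, 5, 5, 5, 5, 5,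 3, 3, 3], [2, 3, 3, 3, 2, 3, 2, 2, 4, 3, 4, 4, 4, 3, 4, 5, 5, 3, 6, 7]), ([3, 2, 3, 2, 3, 3, 2, 3, 3, 4, 4, 4, 3, 4, 5, 5, 5, 5, 5, 5, 6, 6, 3], [3, 2, 2, 3, 2, 2, 2, 2, 4, 3, 3, 4, 4, 3, 4, 3, 6, 3, 3, 3]), ([2, 2, 3, 2, 3, 3, 2, 2, 2, 4, 3, 3, 4, 3, 4, 5, 5, 5, 5, 5, 5, 5, 5, 5, 3, 6, 3, 3], [3, 2, 3, 3, 4, 4, 5, 5, 5, 5, 5, 5, 7, 3, 3]), ([2, 3, 2, 2, 3, 3, 2, 3, 3, 4, 3, 4, 4, 5, 5, 5, 5, 5, 5, 3, 6, 7, 3], [2, 3, 2, 2, 4, 3, 4, 4, 5, 6, 7, 3, 3, 3]), ([2, 2, 2, 3, 2, 3, 2, 3, 4, 5, 5, 5, 5, 5, 5, 5, 5, 6, 6, 6, 7, 3], [2, 3, 2, 3, 2, 2, 3]), ([2, 3, 2, 3, 2, 4, 3, 3, 3, 4, 3, 4, 5, 5, 5, 5, 5, 3, 6, 7, 3, 3, 3],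 [2, 3, 2, 2, 2, 3, 2, 3, 3, 4, 3, 4, 5, 5, 5, 5, 5, 7]), ([2, 3, 3, 2, 3, 3, 2, 2, 2, 4, 4, 4, 3, 4, 5, 5, 6, 6, 3], [2, 3, 2, 2, 2, 3, 2, 2, 3, 3, 3, 4, 5, 5, 3, 6]), ([2, 3, 2, 2, 3, 3, 2, 3, 4, 4, 3, 4, 5, 5, 5, 3, 6, 3], [2, 3, 2, 3, 2, 2, 2, 2, 2, 4, 3, 3, 4, 5, 5, 5, 5, 5, 5, 5, 5, 5, 6, 6, 6, 7, 3, 3, 3]), ([3, 2, 2, 2, 3, 2, 3, 4, 3, 4, 4, 5, 5, 5, 5, 5, 5, 5, 5, 5, 6, 6, 6, 3], [3, 2, 3, 2, 2, 2, 2, 2, 4, 3, 3, 4, 5, 5, 5, 5, 5, 5, 5, 5, 5, 7, 3, 3]), ([2, 3, 2, 2, 3, 2, 3, 4, 4, 5, 5, 5, 5, 3, 6, 3, 3, 3], [3, 3, 2, 2, 3, 2, 3, 3, 4, 5, 6, 6, 3, 3, 3]), ([2, 3, 2, 3, 2, 2, 2, 2, 2, 4, 4, 3, 4, 5, 5, 5, 6,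 6, 6], [2, 3, 2, 2, 3, 3, 3, 4, 3, 4, 5, 5, 5, 5, 5, 6, 3, 3]), ([3, 3, 3, 2, 2, 2, 3, 2, 3, 4, 4, 3, 3, 4, 5, 6, 6, 6, 7, 3], [3, 3, 3, 2, 2, 2, 2, 3, 2, 4, 5, 5, 5, 5, 5, 5, 6, 3, 3]), ([3, 3, 2, 3, 2, 2, 3, 4, 4, 3, 4, 5, 5, 5, 5, 5, 5, 6, 7, 3], [2, 3, 3, 3, 2, 3, 3, 2, 4, 4, 5, 5, 5, 5, 5, 5, 5, 6, 6, 7, 3]), ([2, 3, 2, 3, 3, 2, 2, 2, 4, 3, 4, 4, 4, 5, 5, 5, 5, 5, 6, 6, 7, 3, 3, 3], [3, 2, 3, 4, 4, 3, 3, 4, 5, 5, 5]), ([2, 2, 2, 2, 2, 2, 4, 3, 4, 4, 5, 5, 7, 3, 3], [2, 3, 2, 2, 2, 2, 4, 3, 3, 4, 5, 5, 5, 6]), ([3, 3, 2, 2, 3, 3, 4, 3, 4, 4, 3], [3, 2, 2, 3, 2, 2, 2, 2, 3]), ([3, 3, 2, 3, 2, 2, 4, 3, 4, 4, 4, 3,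 4, 5, 5, 5, 3, 3, 3], [2, 3, 3, 2, 3, 2]), ([3, 3, 2, 2, 2, 3, 3, 2, 4, 3, 4, 4, 4, 6, 6, 6, 7, 3], [3, 3, 2, 3, 3, 2, 2, 2, 4, 3, 4, 3, 6, 7, 3, 3, 3]), ([3, 2, 3, 2, 2, 2, 2, 4, 3, 3, 4, 3, 4, 5, 5, 5, 5, 5, 5, 6, 6, 6, 3, 3], [3, 2, 3, 3, 3, 2, 5, 5, 3, 6, 7, 3, 3]), ([2, 3, 2, 3, 2, 3, 3, 2, 3, 3, 3, 4, 3, 4, 4, 5, 5, 5, 5, 5, 5, 5, 5, 5], [3, 3, 2, 3, 3, 2, 2, 2, 3, 3, 3]), ([3, 2, 3, 3, 2, 2, 2, 4, 3, 3, 4, 5, 6, 3, 3], [3, 2, 2, 2, 3, 3, 3, 2, 4, 3, 4, 3, 4, 5, 5, 3, 6, 3, 3]), ([2, 2, 3, 2, 2, 3, 2, 3, 2, 3, 4, 4, 5, 6, 6, 6, 7, 3, 3], [3, 3, 2, 3, 3, 3, 2, 3, 3, 3, 4, 3, 4, 4, 5, 6, 6, 3]), ([2, 2, 3, 3, 2,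 5, 5, 5, 5, 5, 5, 5, 6, 3], [3, 2, 3, 2, 2, 3, 3, 2, 4, 4, 5, 5, 5, 5, 5, 5, 5, 5, 5, 3, 6, 7, 3]), ([3, 4, 4, 5, 5, 5, 5, 6, 6, 6, 7, 3, 3, 3], [3, 3, 2, 3, 2, 2, 2, 3, 3, 3, 4, 5, 5, 5, 5, 5, 5, 5, 5, 6, 6, 6, 7, 3, 3, 3]), ([3, 2, 2, 2, 3, 3, 3, 2, 3, 3, 3, 4, 3, 4, 4, 5, 5, 5, 5, 5, 5, 5, 5], [2, 3, 3, 2, 4, 4, 3, 3, 4, 5, 5, 5, 3, 6, 3, 3]), ([3, 3, 3, 2, 2, 4, 3, 4, 3, 4, 5, 5, 5, 5, 5, 5, 5, 5, 3, 6, 3, 3, 3], [2, 3, 3, 2, 2, 3, 3, 2, 3, 4, 4, 3, 3, 4, 5, 5, 5, 5, 5, 5, 5, 3, 6, 7, 3, 3]), ([2, 2, 3, 3, 2, 3, 3, 3, 4, 3, 4, 4, 5, 5, 5, 5, 5, 5], [2, 3, 2, 2, 2, 3, 2, 2, 3, 3, 4, 4, 5, 5, 5, 5, 5, 5, 6, 6, 6,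 3, 3]), ([3, 4, 4, 3, 3, 4, 5, 5, 5, 5, 5, 5, 5, 5, 5, 6], [3, 2, 2, 2, 2, 3, 4, 3, 3, 4, 3, 4, 5, 5, 6, 6, 7, 3, 3, 3]), ([3, 2, 2, 2, 3, 3, 3, 2, 3, 3, 4, 3, 4, 5, 5, 5, 5, 5, 6, 6, 6], [2, 3, 2, 2, 2, 3, 2, 3, 3, 3]), ([3, 3, 3, 2, 2, 4, 3, 4, 4, 5, 5, 7, 3, 3, 3], [2, 3, 3, 2, 2, 3, 3, 2, 3]), ([2, 3, 2, 2, 2, 2, 2, 2, 4, 3, 3, 4, 3, 4, 5, 5, 5, 5, 7, 3, 3, 3], [2, 2, 3, 2, 2, 2, 2, 2, 2, 3, 3, 4, 5, 3, 6, 7, 3]), ([2, 3, 2, 2, 2, 3, 2, 2, 4, 3, 3, 4, 4, 4, 5, 5, 5, 5, 5, 5, 5, 6, 6, 7, 3], [3, 2, 3, 2, 2, 2, 2, 3, 3, 4, 3, 4, 4, 5, 5, 5, 5, 5, 5, 5, 5, 6, 3]), ([3, 3, 3, 2, 2, 2, 3, 2, 4, 4, 5, 5, 5, 5, 5, 5, 3,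 6], [2, 2, 3, 2, 2, 2, 2, 2, 2, 3, 4, 4, 4, 5, 5, 5, 5, 5, 5, 5, 6, 6, 6, 3]), ([2, 2, 3, 2, 3, 3, 2, 2, 2, 3, 3, 4, 3, 4, 4, 3, 6, 3, 3], [3, 3, 2, 2, 2, 3, 2, 3, 4, 4, 3, 3, 4, 5, 5, 5, 6, 6, 3, 3, 3]), ([2, 3, 2, 2, 2, 3, 4, 4, 5, 5, 5, 5, 5, 5, 5, 6, 6, 6, 3, 3, 3], [2, 3, 3, 2, 3, 3, 2, 2, 2, 4, 4, 4, 5, 5, 5, 5, 5, 3, 6, 3, 3]), ([3, 2, 3, 2, 2, 3, 3, 2, 4, 3, 3, 4, 4, 3, 4, 5, 3, 6, 3, 3, 3], [3, 3, 3, 2, 2, 2, 2, 4, 3, 3, 4, 3, 4, 5, 5, 5, 5, 5, 3, 6, 3, 3]), ([2, 2, 2, 3, 2, 3, 2, 4, 3, 3, 4, 4, 3, 4, 5, 5, 5, 5, 5, 5, 5, 5, 6, 6, 3, 3, 3], [2, 2, 3, 3, 2, 4, 4, 5, 5, 5, 5, 5, 5, 5, 6, 7]), ([2, 3, 3, 3, 2,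 3, 2, 3, 3, 3, 4, 5, 6, 6, 6], [3, 2, 3, 2, 2, 3, 3, 4, 4, 3, 4, 5, 5, 5, 6, 6, 7, 3, 3]), ([2, 3, 3, 2, 3, 3, 2, 2, 2, 3, 3, 4, 4, 4, 3, 4, 5, 5, 5, 5, 5, 6, 7, 3], [2, 3, 3, 2, 3, 2, 4, 3, 3, 3, 4, 3, 4, 5, 7]), ([3, 2, 2, 2, 2, 2, 4, 3, 3, 4, 4, 3, 4, 5, 5, 3, 6], [2, 3, 2, 2, 3, 2, 4, 4, 5, 5, 5, 5, 5, 5, 3, 6, 7, 3])]]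

/-- a table -/
def conjs : List (List (List ℕ × List ℕ)) :=
  conjs0 ++ conjs1 ++ conjs2 ++ conjs3 ++ conjs4 ++ conjs5 ++ conjs6 ++ conjs7 ++ conjs8 ++ conjs9 ++ conjs10 ++ conjs11 ++ conjs12 ++ conjs13 ++ conjs14

end Cfsg.Agent.RigidGraph.He.Invol
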