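import Cfsg.Agent.Lib.RigidGraph.Defs

/-! The centraliser of an involution with matching matrices. -/

set_option autoImplicit false
set_option maxRecDepth 100000

namespace Cfsg.Agent.RigidGraph.He.Invol
/-- part of a table -/
def entries0 : Trie := (.node (.node (.node (.node (.node (.node (.node (.node (.leaf 0x25000111000000000002000110410410180dd14102c0db025000) (.leaf 0x19a913d500012d603ac01d6c0c550531f21bf6a9153538537262)) (.node (.leaf 0x4a21fa0000013412176315604d304531f00c5a331a059428333) (.leaf 0))) (.node (.node (.leaf 0x204a51b0000009171b181a940e850557cf1972a272371c5372c7) (.leaf 0x4c153570000044813b69517b1ca184b52811430f7f0186734180)) (.node (.leaf 0x36f04eff00011eec1832398a16378417937a160226d20314970b) (.leaf 0)))) (.node (.node (.node (.leaf 0x161e3956000104650e29029d0ac185d57a0f12c20e81cc2c7786) (.leaf 0x1ec2b8053a20000370150ae4e6512510418021aa7577ee60e025586)) (.node (.leaf 0x42154a72000018de099915271a2284b7201442d27d0027546734) (.leaf 0))) (.node (.node (.leaf 0x45a0eef00010e03045826cf04c485516f7926e23d461818b113)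 (.leaf 0)) (.node (.leaf 0xec12089000025b6188548a3089504333939b43764360e7bd32d) (.leaf 0))))) (.node (.node (.node (.node (.leaf 0x8f93b7300000228074c074b06978535aa0717854c269c53718b) (.leaf 0x308c0256000031e327a449c714320590331af43166f4da3352cb)) (.node (.leaf 0x86952e2000015f71e70343d06870537ee1713174450ba4862ab) (.leaf 0))) (.node (.node (.leaf 0x1fb9310900000b8c211a21190e558534be5821915da0ba537262) (.leaf 0)) (.node (.leaf 0x14425aa0000222f428741f604660493b74947e85120c51136de) (.leaf 0)))) (.node (.node (.node (.leaf 0x4c75179c000006b814c614c51ca684b24c4ba7030ab03f68a124) (.leaf 0x6a7176900013ce929214478065504f24666d5762b25806de734)) (.node (.leaf 0x4ee5191300001bcf3e983e971e3504b2722c60f92712e72cb180) (.leaf 0))) (.node (.node (.leaf 0xdb2a030000109423fc252704568574290e96682a17d624d295) (.leaf 0)) (.node (.leaf 0x436d44d90001295e2b82432b1a4705b68e4d23766a226851870b) (.leaf 0)))))) (.node (.node (.node (.node (.node (.leaf 0x45fa50ee0000010f03ba03b91a978557c175680780267e1562ab) (.leaf 0x11dd27c100012f9012553cbf08f485b3eb06c71b2c330d7d924d))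 (.node (.leaf 0xfd288b450e0000149c087b010910d10576917946ee3781cc70a586) (.leaf 0))) (.node (.node (.leaf 0x5127373200000a4d1e1e1e1d1e8204f54b0c643f5336c55fc70a) (.leaf 0x2af022ab000149b82708295d123784136f65239f4556fe180546)) (.node (.leaf 0xd1015ea0001207c44194418086484121e3944b86a036b7d928f) (.leaf 0)))) (.node (.node (.node (.leaf 0x9b647790001058e1181118006b384d6d45312a61d615429570b) (.leaf 0x2df83fd4000139dd2fe94b5912b78516152713655964a2262546)) (.node (.leaf 0xeb21cdb00001a530f95091e08938452ce7297851003d50252ab) (.leaf 0))) (.node (.node (.leaf 0x5075006100000f48298f298e1e6684b0090e52f418103f68a025) (.leaf 0)) (.node (.leaf 0x13d42d0e0000278619d12ed30a7684946760c47f7e138615f486) (.leaf 0))))) (.node (.node (.node (.node (.leaf 0x4f2c18c8000003460ac50ac41e4305926b4564fb2ce2406de049) (.leaf 0x3455201b000034653415482d14c484b3296845a949c61d2ab113)) (.node (.leaf 0x11b274e3af800001765384f216b10a605d59e1c560b7972f115f000) (.leaf 0))) (.node (.node (.leaf 0x402e45af00010cc52410240f18a205d6a473c6cc5771be546214)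 (.leaf 0)) (.node (.leaf 0x38cb1e31000123e80cb6421b16740572f610b55d7782f062128f) (.leaf 0)))) (.node (.node (.node (.leaf 0x3ede4c34000007e717fb17fa187485d74932063711258b54628f) (.leaf 0x4dfe29ad0000408b1dcb4d941cd585d41c60d31901c58e428124)) (.node (.leaf 0x39a6372b00011d5a40872381169304d54968278524f71c53718b) (.leaf 0))) (.node (.node (.leaf 0x37e206fe000111ec2ed6207316560450a56e51484d50d828f149) (.leaf 0)) (.node (.leaf 0x493d2b9f00012b601e3a29361c4385b44970609d4f92406de049) (.leaf 0))))))) (.node (.node (.node (.node (.node (.node (.leaf 0x52420b740001008501e601e51ea40451141f514b49323433315f) (.leaf 0x3e950daa00012e7a4e431ecb187184b1526173ea55213e0006de)) (.node (.leaf 0x7010f3000013ef328d328c04478411aa21a7646e16be486335) (.leaf 0))) (.node (.node (.leaf 0x526929a1000009b41ca11ca01ea605341c0fc6a97c518a113262) (.leaf 0x33bc2189000146f4239243e314938593556864263575384862ab)) (.node (.leaf 0x10394d9f00011fbb0af821b508c385376f7512a609c61970a70b) (.leaf 0)))) (.node (.node (.node (.leaf 0x2ac46a6000104fa01700fd904930596c128a8072125626de2ab)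 (.leaf 0x34bd504600003887427806b914d285b7b02be66840251d18b295)) (.node (.leaf 0x2005dd000119942dc21965044504108c71e51512c42055a214) (.leaf 0))) (.node (.node (.leaf 0x1885124f00000ea2282f282e0c3404b1c77760fd3a770d33515f) (.leaf 0)) (.node (.leaf 0x1c3610840000269d3d2649340cc284d19f23d30f65d61818b41d) (.leaf 0))))) (.node (.node (.node (.node (.leaf 0x40882f6f000002b6090800b718b105149a8053ce53b7ae000295) (.leaf 0x40700c20000332a4e28368404c204f0100a403e02f3b818b149)) (.node (.leaf 0x2d1436aa000016b42af3373212a284953e61e30c16332e049000) (.leaf 0))) (.node (.node (.leaf 0x38b03e1200010c261bc5229a16728415e925265a5a16b570b6de) (.leaf 0)) (.node (.leaf 0x51de0083000123070c51296a1e9585d00b3482b442908255a2c7) (.leaf 0)))) (.node (.node (.node (.leaf 0xe4909f8000107521662166108850530ef4e92ef389714025428) (.leaf 0x15d8193b00013eac28d252f30ab485127461e5fa5904d904968a)) (.node (.leaf 0x2bdf4fa100001c9d1c491735125585f7a306130c1a67777bd586) (.leaf 0))) (.node (.node (.leaf 0x22e32b2b0001113d0f262d880ed704744251a29e5ee6f1428049)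 (.leaf 0)) (.node (.leaf 0x10ef346600012a55357b35bb08d705f50e48a1a707975b70a621) (.leaf 0)))))) (.node (.node (.node (.node (.node (.leaf 0x3920115d0001019b0583010016830411b272a68b4fe0ba4862ab) (.leaf 0x40ca06d9000030b64f4c192918b40550a25ba01e23a0a954668a)) (.node (.leaf 0x19941f300001540110a126104748536461db71b0a424e33328f) (.leaf 0))) (.node (.node (.leaf 0x1ec0f9500000aed1f9b1f9a04770591893e003d42c6352145be) (.leaf 0x37bb42e700014d3353f453d7165385765f37d3e42fd340486333)) (.node (.leaf 0x26df2cec0001216618f130af107585f4655aa6d66105ff41d156) (.leaf 0)))) (.node (.node (.node (.leaf 0x198d2d8300010621131e131d0c5405b4702c314b5f90e25fc15f) (.leaf 0x121b35bd00013b5a24e74d4f0a2485752d77e5d36d24f47d9113)) (.node (.leaf 0x4da11e7900011b1009143da61cd30432fd59800f59f23632d049) (.leaf 0))) (.node (.node (.leaf 0xd0451600000ff02ae51e6c045684169325165121b37928f149) (.leaf 0)) (.node (.leaf 0x2393255f000128781e793e900ef18473ae7192a06d704b2957bd) (.leaf 0))))) (.node (.node (.node (.node (.leaf 0x140c3c26000003d50c7c0c7b0a810595c03fd4907c672e7bd32d)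 (.leaf 0x3ae83be5000135af2b74278e16d70515b91981727b01ee32d333)) (.node (.leaf 0x2333c3c00011822170c286d04838475c17a34ef59908255a18b) (.leaf 0))) (.node (.node (.leaf 0x1c0a224400010d62112a256e0cc105536728501155117432d262) (.leaf 0)) (.node (.leaf 0x21f81d4f000024d145d647ff0eb78512d680000f36717d2cb049) (.leaf 0)))) (.node (.node (.node (.leaf 0x14744f2d0000087e086719910a878497966937481bd7147bd18b) (.leaf 0x437316ca00004272451e50941a478472384be1a72327db15670b)) (.node (.leaf 0x20453b9700011e1f417f13580e8504b5b021a6783636be4862c7) (.leaf 0))) (.node (.node (.leaf 0x6b73a280001129625b53019065584f58d38951512c17f55a214) (.leaf 0)) (.node (.leaf 0x2c4f098800012c6e3ef744ac126505f0e64005dc43c41741d518) (.leaf 0)))))))) (.node (.node (.node (.node (.node (.node (.node (.leaf 0x44172f520000004200f600f51a6184f49915307a4654e200055a) (.leaf 0x3dee0cde00012df711760cf2185705d13879167507920e518621)) (.node (.leaf 0xe931d5b000013992815320408918472db4f17545613d5025428) (.leaf 0))) (.node (.node (.leaf 0x8f253f8000009691be1006a06978458093fe80780264f4862ab)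 (.leaf 0x2ebf3cde000045c03b4b436e12d385f5d16462eb44f51370a546)) (.node (.leaf 0x22c8394100001f5742d40d240ed405157916808133122618b7b2) (.leaf 0)))) (.node (.node (.node (.leaf 0x50e73aba000004b10f040f031e7604f5984ad3803ec5c368a025) (.leaf 0x60136d1000137c9473f2bce064404354108d42d6a45b25be113)) (.node (.leaf 0x13924d770001193a3b0a074a0a7484576b4474b864b4b17d924d) (.leaf 0))) (.node (.node (.leaf 0x94468200010e50178f278104548496bf0af0f03754045be113) (.leaf 0)) (.node (.leaf 0x27904595000026321068434110b28416a22b77087da36b7d9000) (.leaf 0))))) (.node (.node (.node (.node (.leaf 0x2d2311520001026e082f082e12a30471b20ce75978c5bc41d12d) (.leaf 0x33c042650001327f13e44c9014960416505a67540f85cb24d32d)) (.node (.leaf 0x10f2902100e0001165736a436a310e10451967ee1ef44313241d518) (.leaf 0))) (.node (.node (.leaf 0x511b40b700000bd621df15c61e8185762b4a93fa7433404862c7) (.leaf 0)) (.node (.leaf 0x31ca0f18000022a04616461514540551733bb5f733a12a5be68a) (.leaf 0)))) (.node (.node (.node (.leaf 0x26532eda0001070215921591106584748d4aa3277a977a180518)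 (.leaf 0x44462ed100003dcb28d452cf1a6404d48d10837418c6b812d24d)) (.node (.leaf 0x2fa27c700011c363f11302904978553eb4ee1bc2762a75372ab) (.leaf 0))) (.node (.node (.leaf 0x2ed5274000010e92cd70d0d049705b7e32ca7853b95385372ab) (.leaf 0)) (.node (.leaf 0x4a580981000029dc4bbd4bbc1c658510e60210127942d7295025) (.leaf 0)))))) (.node (.node (.node (.node (.node (.leaf 0x7701df300010154005c04a006678412ec27511d5845ae2145fc) (.leaf 0x32171881000030124ad3128d146184f2630b13a87491c8786486)) (.node (.leaf 0x33fa4715000114ec3461346014978556ca38579863a0ff6de2ab) (.leaf 0))) (.node (.node (.leaf 0x3f1b249600000a9e1eda1ed918818573a02d42ef2387db51832d) (.leaf 0x3d4533b700014b5329484d9d184504b4fd35a24831d047156786)) (.node (.leaf 0x39bd1f16000020f031023da8169385b3112102cd3af7815372ab) (.leaf 0)))) (.node (.node (.node (.leaf 0x41df29a9000005d91253125218f485f41c4f34b851458b54628f) (.leaf 0x2fd41c8600003a9c5074523912f58492c64c95ab7df435262156)) (.node (.leaf 0x1098106900011ab408f03d2b08d185119d76b0062a36192c7786) (.leaf 0)))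 (.node (.node (.leaf 0x359026d500000f9e2a3a29d514f18413d4496772348203149486) (.leaf 0)) (.node (.leaf 0x2fa83366000127fd409f28bb12f20514f62db5dc4e532e7d9518) (.leaf 0))))) (.node (.node (.node (.node (.leaf 0xad207620000038e0ba10ba006d48450ad18c57303c74c2ab113) (.leaf 0x6122439000035051c50066506448453964580f03752fa5be113)) (.node (.leaf 0x39da05c0000117c407d3338116968550880224370a50d824d428) (.leaf 0))) (.node (.node (.leaf 0x1da5183700000d1324b624b50cf204b25b4303fb42129c335025) (.leaf 0)) (.node (.leaf 0x46e6284f00002463194047a61ab704d3f97cf7dd3267e2000333) (.leaf 0)))) (.node (.node (.node (.leaf 0x94c160c0001083318cc18cb06a60592206da0065552ad1132cb) (.leaf 0x1e3e30aa000041755298535a0e2585d4b73640726a84c573441d)) (.node (.leaf 0x17df534700011dbc3a7a41080af485f7f64474b83bb6ed7d928f) (.leaf 0))) (.node (.node (.leaf 0x187a4601000012442f702f6f0c278556ac1df4fb32f26a149049) (.leaf 0)) (.node (.leaf 0x6610d7a00012be72980100b064704314e6543f51a96be486335) (.leaf 0))))))) (.node (.node (.node (.node (.node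 (.node (.leaf 0x3a1b14f4000000ca02cf02ce16c185720928551539705932d734) (.leaf 0x34cf10d100002f011d144e8614d405f1a80705af4786182ab113)) (.node (.leaf 0x2fdd39f6000014400e90332212f585b5893395ab5414a2262156) (.leaf 0))) (.node (.node (.leaf 0x427f114500000a001d6207911a2585f1b02d67b44e4118000295) (.leaf 0x4348031c0000483634c84b521a450510465540062c9268518786)) (.node (.leaf 0x1b3c4a420001201c2f5b43b30ca285971d19608775d63b70b124) (.leaf 0)))) (.node (.node (.node (.leaf 0x403e2abe000105430a1c10a718a285d4386fc4575401e4546734) (.leaf 0x83c0dfe0000392e51392c40068385915971e4ef0744a655a18b)) (.node (.leaf 0x52883f21000019f61bbf3c211eb105160411430f16f5b473441d) (.leaf 0))) (.node (.node (.leaf 0x8b2509f00000ef5234328e206938457ba7fd2cd4480ff55a2ab) (.leaf 0)) (.node (.leaf 0xfa43ae800002711369f49c008b304959d3d75f454e27a41d333) (.leaf 0))))) (.node (.node (.node (.node (.leaf 0x398d3432000102fe09ea09e9169205b5091da75c7060e25fc428) (.leaf 0x3cbe398f000133c5443d4763183385d57e7b348709c4e2586333)) (.node (.leaf 0x35a449340000170d37c5013114f30496fd1b53287c25b42145be)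 (.leaf 0))) (.node (.node (.leaf 0x83d3c7100000c77235a2359068385b5c91bb68b3c04fa55a18b) (.leaf 0)) (.node (.leaf 0x1b6e01310000237946de30890ca705d01b099697029347786049) (.leaf 0)))) (.node (.node (.node (.leaf 0x3c301e460000079c12aa172c18238412f74334255077b5000335) (.leaf 0x237942d700003f9b47cd4c3f0ee685365d54e2f42fe0c568a7bd)) (.node (.leaf 0x1c5c47d000011cf830cd35490cc48596dc04f14a5dd4502ab7b2) (.leaf 0))) (.node (.node (.leaf 0x4c44063c0001119307112e301ca40490936e607f2b729c33315f) (.leaf 0)) (.node (.leaf 0x36793e9800002ada2495385c16278535f34e01e2634202295621) (.leaf 0)))))) (.node (.node (.node (.node (.node (.leaf 0x42514f56000001e2066706661a2484379a3a75d356f29154668a) (.leaf 0x2cf508bd000131404f8b4253127684b0d460c10c64838615f156)) (.node (.leaf 0x338b23b60000159d14383589149205738b4450cd1bb0c95be428) (.leaf 0))) (.node (.node (.leaf 0x1ef43b6200000b3c205d205c0e378495a80446976570c21497d9) (.leaf 0x533530c300014f5d445c53d81ec384b4ba19b0c83320cc4287d9)) (.node (.leaf 0x33fc3f4e000021c93db030f2149785960679a1bc72f24055a2ab)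 (.leaf 0)))) (.node (.node (.node (.leaf 0xc9b414c0001066d13ee13ed08348576395b35730a736a049113) (.leaf 0xe5b4f7000003c2e528f2145088585779e00e15a79a60a7bd32d)) (.node (.leaf 0x34ef369000011b6e0dad3c4114d705f53d00c5a36446f1428335) (.leaf 0))) (.node (.node (.leaf 0x39df04e9000010432b972b96169685f06e5360cd3f669524d32d) (.leaf 0)) (.node (.leaf 0x1b313384000128ef376748980ca28434f82526a922423f70b262) (.leaf 0))))) (.node (.node (.node (.node (.leaf 0x55b52700000041e0d500d4f04e48577e30354b83b922c62124d) (.leaf 0x37473261000136414422513d164404f4dd0c65014e66b65fc113)) (.node (.leaf 0x4f5b027c0000187f302339fa1e448570366d514a46b0c95be7b2) (.leaf 0))) (.node (.node (.leaf 0x274399200010db42620261f048784957f1713174bc33e48618b) (.leaf 0)) (.node (.leaf 0x48c122a100002543484b45ce1c3404336f09651645523f6217b2) (.leaf 0)))) (.node (.node (.node (.leaf 0xbd93b78000008cb1a531a5206f48535aa23b5250bd7f970b28f) (.leaf 0x190536b000014364508022b00c4404b53f08d0815045b25be15f)) (.node (.leaf 0x3a9222f000011e8941f13b9b16d184537500c3b32bb059428734)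 (.leaf 0))) (.node (.node (.leaf 0x3573997000112f030b430b304a684f57f3550c324a0951132cb) (.leaf 0)) (.node (.leaf 0x396512fe00012ce710f11a0c168704b1d977b50f2c305d6de18b) (.leaf 0)))))))))

/-- part of a table -/
def entries1 : Trie := (.node (.node (.node (.node (.node (.node (.node (.node (.leaf 0x20ad232600000000000400030e9205b37a2c36986634765fc70a) (.leaf 0x539d07fa00002d624b79434a1ed285b0bb59359b44122618b41d)) (.node (.leaf 0xc5605d10001134109313157082684d08c0324eb70e4987b2734) (.leaf 0))) (.node (.node (.leaf 0x44c7397c000109171b1911fb1a7404f57c64976d7c01be12d24d) (.leaf 0x47682aae0001448132334d841ae505143662a5df4a913e5866de)) (.node (.leaf 0x539c2cbe00001eed426f426e1ed28594605db1046b945018b41d) (.leaf 0)))) (.node (.node (.node (.leaf 0xb312bb3000004660e2b0e2a06e384344c1870f404579c7865fc) (.leaf 0x27fb4ab300013704516d516c10b78577264400c46bb314262546)) (.node (.leaf 0x288d23b9000118de3a843a8310d105b38b4f03346b91112c7586) (.leaf 0))) (.node (.node (.leaf 0x23de474a00010e0426d126d00ef585d6d15f62576ac54a734025)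 (.leaf 0)) (.node (.leaf 0x495f0313000125b60d823fbb1c4485f04615816c01f3465be15f) (.leaf 0))))) (.node (.node (.node (.node (.leaf 0x3cd54a5a00010228074e074d183484b71e67b5fa7003f412d113) (.leaf 0x4c10183000131e53fc64dc204d404302315201e4e657418b113)) (.node (.leaf 0x42c43ea7000115f73618350a1a340495f536901e4d13e654668a) (.leaf 0))) (.node (.node (.leaf 0x3eb50c4d00010b8c211c211b187284b1295cc7391903e612d537) (.leaf 0)) (.node (.leaf 0x40a70ebb0000223045ad45ac18b204f16a5ba2d221b0a9546214) (.leaf 0)))) (.node (.node (.node (.leaf 0x20583936000006b914c814c70e8585157836f19c6ac33e53770a) (.leaf 0x1cf019c600003cea509332700cd78412822d02132fc62f32d7d9)) (.node (.leaf 0x179019fc00011bcf3e9910690af18412886723d049237b1806de) (.leaf 0))) (.node (.node (.leaf 0x113b35c5000010952c3e2c3d08e385752e0ee11d5194de1245be) (.leaf 0)) (.node (.leaf 0x2c4530d70000295f40033f1a126504b4bb39a0f5701653180156) (.leaf 0)))))) (.node (.node (.node (.node (.node (.leaf 0x4d809540001010f03bc03bb04d48510e32736e24d06ba18b68a) (.leaf 0x161b177a00002f924d1a44510ac18572496104cf1145132c72cb))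 (.node (.leaf 0x335144e50001149c21e633c8148684368f2127d127c56028f428) (.leaf 0))) (.node (.node (.leaf 0x4a6e282a00000a4e1e201e1f1c6605d3f750701243c28768a025) (.leaf 0x3652d1a000149ba49972c0b04a704b4685174f243032b214621)) (.node (.leaf 0x37301970000207e299c441a04a784702438f3ed1dd416214621) (.leaf 0)))) (.node (.node (.node (.leaf 0x22ba01b80000058f105011820ed28550294192da18808e2ab41d) (.leaf 0x38cf0094000139e0186a49a4167405f00c1a976d79264d62124d)) (.node (.leaf 0x133061108df00011a533ca63ca506448430d68025fa43805e5fc68a) (.leaf 0))) (.node (.node (.leaf 0x5a72a4e00010f4804c8299004f304f42e5f103d4fe2472cb5fc) (.leaf 0)) (.node (.leaf 0x25bc42ee000127864a163ddb105385965f7df1e33327147bd546) (.leaf 0))))) (.node (.node (.node (.node (.leaf 0x2fa517cc000103460ac70ac612f204b25246b0f50d64d97d9156) (.leaf 0x94653f40001346550a114f806a604d80926f43118f61368a786)) (.node (.leaf 0x21eb4c11000117672d9430c50eb70577450b109d35e25a786049) (.leaf 0))) (.node (.node (.leaf 0x2941d5f00000cc62412241104928492db7287546e405e5be428)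 (.leaf 0)) (.node (.leaf 0x519722fc000123e9474e3b8a1e9184f3756876980f33404862c7) (.leaf 0)))) (.node (.node (.node (.leaf 0x163b3c72000107e709ab17fc0ac38575c91d11e21b27612c770b) (.leaf 0x2a104a760000408e4f42058e122284172043a3517ee740049586)) (.node (.leaf 0x5299140800011d5b408940881eb18531f55172f27b8783214180) (.leaf 0))) (.node (.node (.leaf 0x34411742000111ed2d002ed714c404324426350149a5742ab113) (.leaf 0)) (.node (.leaf 0x34160e5700002b6110fa4ca114c184d16247d45704058e32d734) (.leaf 0))))))) (.node (.node (.node (.node (.node (.node (.leaf 0x445828270000008601e801e71a648513f73a738273741f54628f) (.leaf 0x3eaf0fa300002e7c41861d8b187205f18c1362226226b8546537)) (.node (.leaf 0x420d375b000113ef328e149d1a2205b54d5ef680323291546214) (.leaf 0))) (.node (.node (.leaf 0xbea2c21000109b41ca31ca206f50554541921cf21925a786537) (.leaf 0x30303c86000146fa35b0123c14238415ca1c05081d663573470b)) (.node (.leaf 0x263b05bc00001fbc434c434b10628570865963277a96ed049518) (.leaf 0)))) (.node (.node (.node (.leaf 0x4250164e000004fb0fdb0fda1a248412297796e225e17a54668a)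 (.leaf 0x201e48a80000388951ca446b0e8185d6f06431b970c4636de70a)) (.node (.leaf 0x3fd40698000019953b92329f189584909b4b20cd39c3da156428) (.leaf 0))) (.node (.node (.leaf 0x4a1b0b6d00010ea2210028301c618571127262a076b6ad2147bd) (.leaf 0)) (.node (.leaf 0x2dd251c30000269e30ff17f612b68457d02433513e82d87b2000) (.leaf 0))))) (.node (.node (.node (.node (.leaf 0x4d76328b000102b6090a09091cc584d4e047d0877f66f132d262) (.leaf 0x184122110001332a456c4ff70c260433630802e165d0c5113124)) (.node (.leaf 0x4e702780000016b52cfa37331e258413e501530180143d78641d) (.leaf 0))) (.node (.node (.leaf 0x2fa716e500000c27229c229b12f204f23a40c612729747049518) (.leaf 0)) (.node (.leaf 0x349f200a0000230845f03e2c14d185f32651a01d066059428734) (.leaf 0)))) (.node (.node (.node (.leaf 0x447c2e1e00010753166416631a6785947d5b01074067ae5865be) (.leaf 0x390b450400003eb05187289316820576915224e87022fa5fc32d)) (.node (.leaf 0x29d291900011c9d09b23f9a049285b40c4bc7546790e25be428) (.leaf 0))) (.node (.node (.leaf 0xe7e01e10000113e26992d89088785d02c22e50f54d35f7bd2ab)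 (.leaf 0)) (.node (.leaf 0x4db230ca00002a5622774c0d1cd38454ba51a29e4f96f1428049) (.leaf 0)))))) (.node (.node (.node (.node (.node (.leaf 0xca0dd30001019c05850584045605515726b1483f94ea28f149) (.leaf 0x105e0e10000130b649264f4d08c585d15c0a17f27c13042c72cb)) (.node (.leaf 0x363217d00001154034f734f6162384525306e37608032a73470b) (.leaf 0))) (.node (.node (.leaf 0x46e8308400000aee1f9d1f9c1ab70514b421f48762b7c4586333) (.leaf 0x379625bd00004d373cb84ed7165184d3b978706418f17f55a214)) (.node (.leaf 0xc2836170000216727782e2608250515333f36685f14a2124149) (.leaf 0)))) (.node (.node (.node (.leaf 0x3fa26f4000106221320131f04b78553d82c167513132a21470b) (.leaf 0x516a324200013b5b4f182d531e860554db20c19c4c769528f2c7)) (.node (.leaf 0x177510b500001b113da71a050ae684b1a510947f7b130b15f486) (.leaf 0))) (.node (.node (.leaf 0x4e1f03d400010ff02ae72ae61e2285f05749a4d83dd2f070b124) (.leaf 0)) (.node (.leaf 0x52a047ba0000287a19472e5d1eb30416da58c2135e32022957d9) (.leaf 0))))) (.node (.node (.node (.node (.leaf 0x1f8b1bbc000103d50c7e0c7d0e540572b851407f2ee0435be15f)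 (.leaf 0x353606b0000135b046fa139114e384d0a00e81072d34c52145fc)) (.node (.leaf 0x7ef2eb8000118231bef396d067705f48a5643280860b02145fc) (.leaf 0))) (.node (.node (.leaf 0x9e2596250900000d632570256f105184d3a952d60b15c718025000) (.leaf 0)) (.node (.leaf 0xc2705d9000024d21d1b4800082504f08c44008b70e314262149) (.leaf 0)))) (.node (.node (.node (.leaf 0x31ce0cd10001087e19931992145405d1380570f75092fa5be113) (.leaf 0x11bc0fb20001427a49321b2008f385918d15e25f3c05c71245fc)) (.node (.leaf 0x3f1a31e500001e210f87418018818554d02fe4e83e511a51832d) (.leaf 0))) (.node (.node (.leaf 0x1b052d7700001297301b301a0ca104b46f3291046616282cb41d) (.leaf 0)) (.node (.leaf 0x4987415000012c6f3ca84d321c5104f63a03627f6c23ef486262) (.leaf 0)))))))) (.node (.node (.node (.node (.node (.node (.node (.leaf 0x15352bb60000004300f800f70aa384b44c40e16e6da41441d335) (.leaf 0x17ba024200012df84df820970af385503216f25f3c078d1245fc)) (.node (.leaf 0x1f14253c00011399064c32050e448493ac63a17635e05e5fc7b2) (.leaf 0))) (.node (.node (.leaf 0x3cde3cef0001096910571be2183485d5d26fc6e24d01e454668a)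 (.leaf 0x4bf10e84000145c02db93c6d1c968431672531b422e7f828f2c7)) (.node (.leaf 0x3ace151b00001f5842d50f9816d405d20b61155049174c2ab113) (.leaf 0)))) (.node (.node (.node (.leaf 0xbb45098000104b102ad0f0506f38497ba3f925f59979c2cb5fc) (.leaf 0x5255426c000037ca180a512c1ea484b65078e1202db04a3337b2)) (.node (.leaf 0x9d653540001193b085c3b0b06b684d7f733b0a31fa2871132cb) (.leaf 0))) (.node (.node (.leaf 0x164265c00000e512783278204670493c66507ef1687832145fc) (.leaf 0)) (.node (.leaf 0x363e0ada00002633372d0b79162385d1056155ea4ad6ad734621) (.leaf 0))))) (.node (.node (.node (.node (.leaf 0x1cef50650000026f065b08300cd705f7b32014d4108174428049) (.leaf 0x36cc1013000032815001500016360591971b20c3122218113786)) (.node (.leaf 0x129f167b0000165836a636a50a3485f22e4476e262b6ed7d968a) (.leaf 0))) (.node (.node (.leaf 0x41c71b3e00010bd621bd21e018f404f2aa5ba55d61c7dc54624d) (.leaf 0)) (.node (.leaf 0x4422447e000022a1461739c91a620456845bb4b30500a912d537) (.leaf 0)))) (.node (.node (.node (.leaf 0x12250d7b00000703159415930a2504b14e6947d248b0bf262295)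 (.leaf 0x42b5525d00013dcc1e2639d01a3384b7e06583e408013e586333)) (.node (.leaf 0x3169199a00011c373f133f12144605327c44803e0e856024d149) (.leaf 0))) (.node (.node (.leaf 0x1f03253d000010ea25bb1e640e440473ac67d1dc5cc12a5fc15f) (.leaf 0)) (.node (.leaf 0x172d2123000129dc4bbe3eb00ae305b34b2717ac2124a22625fc) (.leaf 0)))))) (.node (.node (.node (.node (.node (.leaf 0x30ab2a790000015504a204a114330574325585ea0140b073470b) (.leaf 0x1ce21c7d000030134f060a020cd70452c57490c83690594287d9)) (.node (.leaf 0x51e323f7000014ed346334621e960473916141b44c61e828f70a) (.leaf 0))) (.node (.node (.leaf 0x534411d700010a9e1edb160f1ec40491c04995167a858f2ab15f) (.leaf 0x1a2b37f800014b544fb750ed0c820575594523fa35b2fa5fc2c7)) (.node (.leaf 0x4232a44000120f24482448104c304742e0e648701462632d335) (.leaf 0)))) (.node (.node (.node (.leaf 0x167a2c2f000105d901b412540ac78554547415b12327612c770b) (.leaf 0x37f3482400013a9f494d283f16568476e41b36680536d024d295)) (.node (.leaf 0x379539100001ab70d130d6304a785380105360250963573470b) (.leaf 0)))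 (.node (.node (.leaf 0x2d793bd700010f9e0e582a3b12a78535b837839f5c0435124546) (.leaf 0)) (.node (.leaf 0x2c8839b9000027fe14e54a6f12710515843780f51e91ec124518) (.leaf 0))))) (.node (.node (.node (.node (.leaf 0x47a62ddf0000038f0ba30ba21af304d4757cf03d4fe3bd0005fc) (.leaf 0x2fc40f2200003506499150d512f504917513a0f53964a2124156)) (.node (.leaf 0x419b3905000017c51fe838d918f28575723313984c3804546537) (.leaf 0))) (.node (.node (.leaf 0x17715e800010d1324b824b7046784f21e25c11d5844c52145fc) (.leaf 0)) (.node (.leaf 0xaf527eb000124633c0f47a706d584b3f057c51558c3cb32d734) (.leaf 0)))) (.node (.node (.node (.leaf 0x3eea46e00000083418cd05e818770556c70012e92e547c5865be) (.leaf 0x3d3a09b30000417646e2377718438550e92fe7445657e9518621)) (.node (.leaf 0x76a2c7a00001dbe302026dc066705545b4e45215e96ad2145fc) (.leaf 0))) (.node (.node (.leaf 0xe52c0330be000112442f722f7112610474b95880f580338c124156) (.leaf 0)) (.node (.leaf 0x579346400012be84ce3030704e585350e2c668d0772832cb486) (.leaf 0))))))) (.node (.node (.node (.node (.node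 (.node (.leaf 0x27c337ca000100ca02d0029b10b60475556ce14155b49815f586) (.leaf 0x2bee237100012f024e871e9a125705d38306123501f7777bd546)) (.node (.leaf 0x2ff2880000114401d0f3323049785f4000462cd03334053718b) (.leaf 0))) (.node (.node (.leaf 0x1c891fb200010a0003061d630cd10533200920da67023632d262) (.leaf 0x409f20060000483950051ca518b185f3263956512f57e2586149)) (.node (.leaf 0x17031ba40000201d43b434630ae10472b74006a336f5bc41d55a) (.leaf 0)))) (.node (.node (.node (.leaf 0x18791ddb0000054410a910a80c278532e648509d7a70732957d9) (.leaf 0x53db05c20000392f2c3d294e1ed485708826414a3592982ab7b2)) (.node (.leaf 0x2cca1e3e000019f73c2224b012750552f67e33417605bc180156) (.leaf 0))) (.node (.node (.leaf 0xc962e6500010ef5253128e3083484d48334e66216174704968a) (.leaf 0)) (.node (.leaf 0x4542110b000027123b6e49c11a850451ac5a476e07111a15632d) (.leaf 0))))) (.node (.node (.node (.node (.leaf 0xea44674000002ff09ec09eb08930496bc14e38a7e072e7bd2ab) (.leaf 0x272d52ae000033c6506843bb10a305b7e77f76bd2611d2180546)) (.node (.leaf 0x407815190001170d255d137a18a785120b5c43f14917ae000335)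 (.leaf 0))) (.node (.node (.leaf 0x525b1ca700000c78235b02cf1ea48572c950916c5b62503357b2) (.leaf 0)) (.node (.leaf 0x2d53016c0001237a46e046df12a68470215e33120ab5a77b2000) (.leaf 0)))) (.node (.node (.node (.leaf 0x3a0b37dd0001079c172e172d16c105755762257632917432d214) (.leaf 0x32e31f5900013f9b3bf51bd4147704731864503d2631c82cb5be)) (.node (.leaf 0xb401b4100001cf93a99111406e40412ac09676d45863b62124d) (.leaf 0))) (.node (.node (.leaf 0x4309434e0001119412602e311a410536696c443142f79f518786) (.leaf 0)) (.node (.leaf 0x125b230b00002adc39fa0a6d0a2685737752e6cc2dd18e7b2734) (.leaf 0)))))) (.node (.node (.node (.node (.node (.leaf 0x1085466e000101e20669066808d104b6bb76b0061f31452c72cb) (.leaf 0x3099442d000031414a4b486a143285367d59752a42f543333786)) (.node (.leaf 0x4c551c0c0001159d358a183b1ca484b2bd4d16994883fc3357b2) (.leaf 0))) (.node (.node (.leaf 0x269c0ed000010b3c205f205e107185916d0d21ef5100b2124518) (.leaf 0x1a3c3bfb00014f614ff61d120c828595ba5752f84bd0e25fc2c7)) (.node (.leaf 0x15591c6f000121c90bce45520aa48532c46bb0f03a04d904968a)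 (.leaf 0)))) (.node (.node (.node (.leaf 0x4d4804e40000066e13f013ef1cc405106e26314b5c02262ab7b2) (.leaf 0x3824447100013c2f529021c7166204968409613c0d423f62155a)) (.node (.leaf 0x1fdf48b400011b7010523e190e5685f6f24fe59b6b04ea24d180) (.leaf 0))) (.node (.node (.leaf 0x1bd9013500011043051e2b980cb485301b15569945e63b62115f) (.leaf 0)) (.node (.leaf 0x36d0576000028f0161740ee04a705b07b4f705b6425ae214621) (.leaf 0))))) (.node (.node (.node (.node (.leaf 0x366032690001041e0d520d5116270414dd4965b15ec202149621) (.leaf 0x4a8d1891000136424eb73f621c7105b26412229f648186214025)) (.node (.leaf 0x42921fed0000188039fc39fb1a3284532472d11e55565c12d734) (.leaf 0))) (.node (.node (.leaf 0x166c22cf00000db5233d26210ac70593717c97666a561970a70b) (.leaf 0)) (.node (.leaf 0x3709434f000025444590484c164105366970645762e2406de734) (.leaf 0)))) (.node (.node (.node (.leaf 0x30f34a51000108cb1a551a54143784771e24a5ea13154529570b) (.leaf 0x161419f80000436852e30c270ac184928847341209b5c870a2cb)) (.node (.leaf 0x500e217100011e8b227041f21e6105d35410329f4094162147bd)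 (.leaf 0))) (.node (.node (.leaf 0x176d22ca000012f130b530580ae605b37159d7392723c17b2537) (.leaf 0)) (.node (.leaf 0x2367368100012ce910f24d760ee604f53c09c2f41f261368a7bd) (.leaf 0)))))))))

/-- part of a table -/
def entries2 : Trie := (.node (.node (.node (.node (.node (.node (.node (.node (.leaf 0x79e46470001000000060005067485d6b23b471b0a42f933328f) (.leaf 0x35f7039400012d6248c2451114f684f0530eb5bf3fe09511355a)) (.node (.leaf 0x4b23100c000113421fd731581c8204719667d2a250212a5fc2c7) (.leaf 0))) (.node (.node (.leaf 0x29280c2e000009181b1a0a3e10e205112679932747469b049156) (.leaf 0x27b904f50001448449623f1310b385306f3cf6bd73037b18012d)) (.node (.leaf 0x35f605a100011eed427020d814f684d08504d23767128711355a) (.leaf 0)))) (.node (.node (.node (.leaf 0xce50857000104660e2d0e2c083704b0c73e87647d32f341d333) (.leaf 0xb24082400003705233f3ce706e30490be2fb28449e17d7865fc)) (.node (.leaf 0x2142368b000118df1d1d35f80ea404553c44a1dc67b2f070b15f) (.leaf 0))) (.node (.node (.leaf 0xae14f2f00000e0526d326d206d50437967747ed28923632d734)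 (.leaf 0)) (.node (.leaf 0xe1a0d0d000125b7489d48a4088185513b7d54907c660a7bd32d) (.leaf 0))))) (.node (.node (.node (.node (.leaf 0x50cb21f6000002290750074f1e7505736033d1cb7c904b1497bd) (.leaf 0x4ad2381c000131e64fc438ed1c7584555e63209e648545295025)) (.node (.leaf 0x3f431949000115f817e231ed188504727548f2ef0ed20e51832d) (.leaf 0))) (.node (.node (.leaf 0x3548032200010b8d211e211d14e405104c03c3560334da33324d) (.leaf 0)) (.node (.leaf 0x50421055000022312e8f43ea1e6504519b24a0ec181545295025) (.leaf 0)))) (.node (.node (.node (.leaf 0x3ec41025000106b901fa14c918740491981435834b979012d28f) (.leaf 0x7bf464e00003cee49573c8b067585f6b271916647d26a295537)) (.node (.leaf 0x23fa438700001bd111463e9a0ef68556705423cc4b24e11137bd) (.leaf 0))) (.node (.node (.leaf 0x668408c0001109522481f5f064705162572a3f510b33e486335) (.leaf 0)) (.node (.leaf 0x1aaf334300012960416023e20c9205f4f30572410042fa5be2c7) (.leaf 0)))))) (.node (.node (.node (.node (.node (.leaf 0x2bcc05410000011003be03bd125505907708c75711c72e025000) (.leaf 0x2a5f3a8f00012f93365e38ef122685f59575a45a47e6237b2586))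 (.node (.leaf 0x50693b260000149d33c9136b1e660535a15491ca7684971137bd) (.leaf 0))) (.node (.node (.leaf 0x52c350400010a4e09f01e2104e305951e3297ac56c1ea2cb5fc) (.leaf 0x47e81aca000049bf52b322e21af505129b6615bf37d7b558655a)) (.node (.leaf 0x426e469d0001207e0b4741e41a2505d6c07167d25e87b7000149) (.leaf 0)))) (.node (.node (.node (.leaf 0x1d841fd0001058f1184118304768516464614955632ad68a55a) (.leaf 0x1a4ac1000139e14a47345b04448557270335a97840135be113)) (.node (.leaf 0x2ce539f00011a541f773ca7049605d8017f575c2e87d628f32d) (.leaf 0))) (.node (.node (.leaf 0x389e050b00000f4929911dcc167185d0705b907d47d347786537) (.leaf 0)) (.node (.leaf 0x3ab251d50001278738004a1716d28457d320665106274c2ab295) (.leaf 0))))) (.node (.node (.node (.node (.leaf 0x118a529c000003470ac90ac808f10557e65f07a40b75bc18055a) (.leaf 0x2f4600ee000134663c5a2fd912e504d01579e6272a966a124518)) (.node (.leaf 0x2c191eb80000176938513850126185330544161243c1ec124518) (.leaf 0))) (.node (.node (.leaf 0x1e13253000010cc603f024130e248473ac0021766ea4a83357b2)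 (.leaf 0)) (.node (.leaf 0x168e3e87000023ea32ef17f80ad105d5f226c69255876170a2cb) (.leaf 0)))) (.node (.node (.node (.leaf 0x48a72562000007e817fe17fd1c3304f3af26900f59f3472cb049) (.leaf 0x53811321000140901d60533a1ed20431dd15230180145018b41d)) (.node (.leaf 0x13d74d7e00011d5c408b408a0a7684f76b7bf16664e2f17b2537) (.leaf 0))) (.node (.node (.leaf 0x48dd1123000011ee2ed814691c3485b1ae1a31761f87f96217b2) (.leaf 0)) (.node (.leaf 0x11db272d00002b622b554ca208f48573dd5b370568836a04924d) (.leaf 0))))))) (.node (.node (.node (.node (.node (.node (.leaf 0x10ac350c0001008601ea01e908d305951e76b6750086192c770b) (.leaf 0x2837376a00012e7c35ae485110c384f54e6900c412f75b2c712d)) (.node (.leaf 0x391f1192000013f027f1328f168285f1ba15815a7873465be428) (.leaf 0))) (.node (.node (.leaf 0x314f23ce000009b51ca51ca4144405f38d67d1342160135fc113) (.leaf 0x22af1e6a000046fd4efc53180ed205f2fc6110726a874c2ab41d)) (.node (.leaf 0x1dc8242600001fbd434d39240cf505139512229f2cc6352147bd) (.leaf 0)))) (.node (.node (.node (.leaf 0x10843d27000104fb0fdd0fdc08d10495d754f4cf29372c2c72cb)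 (.leaf 0xd8a1200000138892e6c341908740551c301f3741fb7077d928f)) (.node (.leaf 0x38a61c13000119973b943b93167204d2be10b59c0782f062155a) (.leaf 0))) (.node (.node (.leaf 0x3e2345d400000ea40e8517c818620476a713622268c1e4546486) (.leaf 0)) (.node (.leaf 0xed6465b0001269e1daa495e089584d6b952d0cd7a377702532d) (.leaf 0))))) (.node (.node (.node (.node (.leaf 0x3821145b000002b7090c090b16620431fb49c6a360d0756216de) (.leaf 0x41ff02180000332b17540e2418f585f02f5245bf37d7e258655a)) (.node (.leaf 0x118400c8000116b53735373408f10490103d265a6df6fe41d55a) (.leaf 0))) (.node (.node (.leaf 0x38e2349000000c28229d1bc8167704551200b2e95003477865be) (.leaf 0)) (.node (.leaf 0x225c28a50000230a467e467d0ec48594031fb3876f32262ab7b2) (.leaf 0)))) (.node (.node (.node (.leaf 0x51152f7900000754057116651e8184b49c39c1b91aa6be5372c7) (.leaf 0x2ea42ddb00003eb23a67220112d304947550563678c5c82c712d)) (.node (.leaf 0x306c238400001c9e3f9b3b63142705938510f744430073149621) (.leaf 0))) (.node (.node (.leaf 0x2d4e2ee30000113f249c2d8a12a605d48e12f5f802a49815f586)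 (.leaf 0)) (.node (.leaf 0x1b330d5c00012a573f7041470ca28471436a419166164d621124) (.leaf 0)))))) (.node (.node (.node (.node (.node (.leaf 0x3f7343250000019d0587058618878476654f56b34ec4a151818b) (.leaf 0x37621a36000130b72ffd4f4e164604528c41a62d2bc0cf28f295)) (.node (.leaf 0x297815100001154134f934f810e685120b0603276390cb15f156) (.leaf 0))) (.node (.node (.leaf 0xafb1b1d00010aee1f9e12b206d58572a86967ff2aa626428734) (.leaf 0x53fd109b00004d384e994e221ed585b1a159827f62c0cc32d124)) (.node (.leaf 0x15c49060114000121670ba844e21c4104d01819e4106af340486124) (.leaf 0)))) (.node (.node (.node (.leaf 0x4fee270d00000623060413211e5605d3db58a30f16f0cf28f41d) (.leaf 0x1804221000003b5e36cf52630c2404936303c5165044da33315f)) (.node (.leaf 0x25ed2af800011b113da825aa105705b43e5021e32db1797bd546) (.leaf 0))) (.node (.node (.leaf 0x362247c500000ff12ae92ae816230456db20a6750080b021470b) (.leaf 0)) (.node (.leaf 0x114828890001287b293d4a5208e40514004881fd6d53b104924d) (.leaf 0))))) (.node (.node (.node (.node (.leaf 0x355e1a56000003d60c800c7f14e485d29025963752223433328f)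 (.leaf 0x316211c0000035b1494338ff14460451bf04508b1c00cf28f295)) (.node (.leaf 0x3478067700001824396e245214c785109938e14605a0de428335) (.leaf 0))) (.node (.node (.leaf 0x391d390700010d630423101f168285b57257576e4c34765fc32d) (.leaf 0)) (.node (.leaf 0x8383b03000024d346d9273a068385159f17c31726b24055a2ab) (.leaf 0)))) (.node (.node (.node (.leaf 0x1e9b4c9c0000087f199519940e348577526343874f84b53337b2) (.leaf 0x340914e80001427b4e1145fd14c105320837c11e57762f428214)) (.node (.leaf 0x53450b7600011e21418128eb1ec404b11426314b0105742ab15f) (.leaf 0))) (.node (.node (.leaf 0x29d70e8100001298301d301c10f584f1671305c653338c262156) (.leaf 0)) (.node (.leaf 0x393d20ae00002c714d332ba6168385b33b67950f1e56f853718b) (.leaf 0)))))))) (.node (.node (.node (.node (.node (.node (.node (.leaf 0xa7085f0001004300fa00f9045504f0c778706473e17f55a214) (.leaf 0x53b5097100012dfa4df90dde1ed384b0e505000f2e046c32d7d9)) (.node (.leaf 0xe63380b0000139a32060198088704755b4c46075686b47bd18b) (.leaf 0))) (.node (.node (.leaf 0x190d49ac0000096a1be307f60c4405b70c56d0fd32f4045be15f)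 (.leaf 0xbc24f22000045c14e8c0b1306f40457961a976d2ed23162128f)) (.node (.leaf 0x9dd2d2000011f5832c1393b06b685b46901472b0aa21868a786) (.leaf 0)))) (.node (.node (.node (.leaf 0x37ab1d0f000004b20f070f0616530572d168217241e71c537335) (.leaf 0x1dc31726000137ca170f39b70cf504723e3640ec3ac54a734025)) (.node (.leaf 0x12a280900120000193c3b0d3b0c10c10530021166ee0e078970a000) (.leaf 0))) (.node (.node (.leaf 0x3c28483100010e512784047e18230516e523e16e542401000333) (.leaf 0)) (.node (.leaf 0x4082373f000126330f2b48fc18b104554b7cc1483f97e2586149) (.leaf 0))))) (.node (.node (.node (.node (.leaf 0x26772dae0001026f00bf0831106684f4726f75c626c30a7b2156) (.leaf 0x219b421600013281434b107f0eb18576492ba34c18803478641d)) (.node (.leaf 0x276e3fdc0001165936a836a710a705d6156410c413b2df26212d) (.leaf 0))) (.node (.node (.leaf 0x37d80cd200000bd71e2b21e116548511381bd5ac0791775be68a) (.leaf 0)) (.node (.leaf 0x2eab18f2000122a13369461812d305726f18975944c30470a12d) (.leaf 0)))) (.node (.node (.node (.leaf 0x4f8a52da00010703021015951e510557ec44e31b4ed71c537262)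 (.leaf 0x10f14c4f00013dce3c321ab608d784374a8031e252b1112c7621)) (.node (.leaf 0x3a5a0c3100011c383f153f1416c48551280655d37d374c18b113) (.leaf 0))) (.node (.node (.leaf 0x1846263a000010eb2cd92cd80c2604d3c45cf6ae71661368a124) (.leaf 0)) (.node (.leaf 0x4233153b000029dd4bb54bbf1a2384720d6d116e54947c000335) (.leaf 0)))))) (.node (.node (.node (.node (.node (.leaf 0x170d3bab0000015604a404a30ae105b5b36723d039c65318055a) (.leaf 0x14220cea000030164f073bbb0a830451395fb6b361b60a02518b)) (.node (.leaf 0x1020bd00d2d000114ed152f080a06f484113f77d52543407570b28f) (.leaf 0))) (.node (.node (.leaf 0x1c37338200000a9f1edd1edc0cc284f4f80fb30157874c18b41d) (.leaf 0x1a79506600014b554e8120a40c868537b320f67850d37928f70a)) (.node (.leaf 0x25bf277a000020f344844483105385f3e34f16bd7303b002512d) (.leaf 0)))) (.node (.node (.node (.leaf 0x19cd3231000005da125612550c5605b4d70740ea62a7f824d180) (.leaf 0x3495065500003aa03dba3a6e14d184b0963184573f90cc32d214)) (.node (.leaf 0x426447e200011ab73d22248c1a250496df10a6514ae7b5586295) (.leaf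 0))) (.node (.node (.leaf 0x4f3c52b100000f9f0efb0dce1e438597ea03a00f33246455a7d9) (.leaf 0)) (.node (.leaf 0x39b317e9000127fe41a61d5e169384725427c42651964f4862ab) (.leaf 0))))) (.node (.node (.node (.node (.leaf 0x3afd1e290001038f0ba50ba416d785b2f557c4251a346c32d333) (.leaf 0x4c5c32a20000350b4d9e50d61ca48594e405269960924e3357b2)) (.node (.leaf 0x2e72322e000117c538cd38da12c78454d57ab2357fb4d62c712d) (.leaf 0))) (.node (.node (.leaf 0xb7468a00000d14054d24b9045584f6bf57b7ed4b45806de734) (.leaf 0)) (.node (.leaf 0x2ebb1f1f0000246447a947a812d385731176839f41530470a12d) (.leaf 0)))) (.node (.node (.node (.leaf 0x4384d950001083418cf18ce04c385176f3935f45cf43b428335) (.leaf 0xaa529610000417721233e2306d304b4150d44870140de32d335)) (.node (.leaf 0x42a7273e00011dbe33b11e471a3304f3df6704235e67e2000333) (.leaf 0))) (.node (.node (.leaf 0x2dfc3e0c0000124617c52f7312b78595e86602eb3161ec26212d) (.leaf 0)) (.node (.leaf 0x20471a2800002be93b3709f80e8504f28b2001b97912a753770a) (.leaf 0))))))) (.node (.node (.node (.node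 (.node (.node (.leaf 0x4ff82d39000000cb02d202d11e5685146a3c96c307b3de28f180) (.leaf 0x2d19517900002f03143f2c4112a28537cb5d7312631740049586)) (.node (.leaf 0x10664c42000014412b31332408c704d74a1e936156f7612c770b) (.leaf 0))) (.node (.node (.leaf 0x2c7123d300000a0117d31d64126684338e2ce10c60f30b15f518) (.leaf 0x90f257b0000483a53d11ec706a205f3b256f4cf1fc1a2333786)) (.node (.leaf 0x3f710b330000201e42a11e93188784310d3ad60766979f1562ab) (.leaf 0)))) (.node (.node (.node (.leaf 0x562c0045d000010544018710aa12610416a702310c60f5c7262518) (.leaf 0x16f70bd3000039324e0351ed0ad784f11c18974460430470a70b)) (.node (.leaf 0x8b90a37000119f708a43c2306938530f64dd79820c4fa6de18b) (.leaf 0))) (.node (.node (.leaf 0x4d452fcb00000ef628e528e41cc404b4a442c4ca2b758f2ab15f) (.leaf 0)) (.node (.leaf 0x22c531d7000127123f9f41710ed404b4ce1526b767b57418b15f) (.leaf 0))))) (.node (.node (.node (.node (.leaf 0x1610ff000102ff09ed017f044484d1aa7ec5733260435be68a) (.leaf 0x34e3047e000133c7149b4a2b14d70470677491466d2059428333)) (.node (.leaf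 0x2a6207c60000170e37c619b012270450b74001947355bc41d12d) (.leaf 0))) (.node (.node (.leaf 0x1dcd45ed00010c78235d235c0cf505b6a84ae3fb4211cd214025) (.leaf 0)) (.node (.leaf 0x466941e50000237b46e115f31aa70536454ce5a3489164586335) (.leaf 0)))) (.node (.node (.node (.leaf 0x287c32aa0000079d1730172f10c78594e41d36f96bb14570a546) (.leaf 0x3b1726da00003f9c4a0c3f9816e184f3d46017e4258545149537)) (.node (.leaf 0x1b9c3bf400001cfa401c401b0cb18595ba44418221f62878641d) (.leaf 0))) (.node (.node (.leaf 0x3b1d4b810000119529a22e3216e185b7380aa47f7b12d7295486) (.leaf 0)) (.node (.leaf 0x195258312ed00012adc3a1a46ed10510471d862560b6522e4025586) (.leaf 0)))))) (.node (.node (.node (.node (.node (.leaf 0x4f8087d000001e3066b066a04d58510ce68c5761d73cb32d734) (.leaf 0x85f168000003142427715e4068685f22f00d2ef3f84a324d428)) (.node (.leaf 0x16a3fa30001159e235f358b04670556102a325f3496007345fc) (.leaf 0))) (.node (.node (.leaf 0x6a8316200000b3d206010dd06550514c422972526956255a734) (.leaf 0xb5426c300004f62498952e406e48493d22774b832409762124d))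 (.node (.leaf 0x3e324dce000121ca2b2b28fa186284577371268d55e6b8546537) (.leaf 0)))) (.node (.node (.node (.leaf 0x1d6e01320001066e06a711a50ce605d01b0e169a2b809568a025) (.leaf 0xdff4e5f00013c323dce40a8087785f77f7aa7ef23d2df2625be)) (.node (.leaf 0x52ea3f0700001b7119dd3e1a1eb60556014ad0116525c368a262) (.leaf 0))) (.node (.node (.leaf 0x45373c63000010442b9913871a8384f5c52b831761467e1562ab) (.leaf 0)) (.node (.leaf 0x1893d2f533d000128f14b122368184305f7f576c74431158151870b) (.leaf 0))))) (.node (.node (.node (.node (.leaf 0x393030c10000041f089f0d5316838414ba0902796146be5372ab) (.leaf 0x299036f700003647513e197d10f18415443cf5c6061653180156)) (.node (.leaf 0x2aa12b870000188139fd3802123304344837839f1eb435124546) (.leaf 0))) (.node (.node (.leaf 0x253018000000db6186e2622048684702300d2ef23869524d32d) (.leaf 0)) (.node (.leaf 0x2d803aaa00012544484e484d12b20415976086fa2744d97d9586) (.leaf 0)))) (.node (.node (.node (.leaf 0xcda4140000008cc08b21a5608368556390324eb3912f17b2214) (.leaf 0x211c2c90000043694cb0532b0ea185945e00a3010bc1ea786180))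 (.node (.leaf 0x481445c300011e8c21c416421c228496a62526a93f06b570b124) (.leaf 0))) (.node (.node (.leaf 0x2be40f0c000112f111a630b6125704917174368928863c02512d) (.leaf 0)) (.node (.leaf 0x37b8277400012cea2fce4d7716538513e31bf5f44ad33e537335) (.leaf 0)))))))))

/-- part of a table -/
def entries3 : Trie := (.node (.node (.node (.node (.node (.node (.node (.node (.leaf 0x3e522da1000000010008000718648454723206375e91be54624d) (.leaf 0x3ac0284e00002d63364d45a816d40413f97a601e29761d18b113)) (.node (.leaf 0x39b22b300001343315a315904b28573702814314d52f93352cb) (.leaf 0))) (.node (.node (.leaf 0x3f644a92000109181b1c1b1b18870497220c050f68814d15618b) (.leaf 0x1d54172300004487382920f30ce584923e1f32575a87507347bd)) (.node (.leaf 0x2669055c00001eee14f22e00106605307873b5c61c30cb7b2156) (.leaf 0)))) (.node (.node (.node (.leaf 0x2df61172000004670e2f0e2e12b784d1b50e068962478d124546) (.leaf 0x1af62a800000370632472f3a0c9684d4330222414be0cf24d2c7)) (.node (.leaf 0x1758461f000018e03a863a850ae48516af7a876a45265e04928f)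 (.leaf 0))) (.node (.node (.leaf 0x2ad80cdd00010e0522e126d412368511387823301a63c115f586) (.leaf 0)) (.node (.leaf 0x50022e34000025b843a648a51e6104548029b2f4117600214025) (.leaf 0))))) (.node (.node (.node (.node (.leaf 0x17be351f00010229009907510af385d51f8013ee74b2421245be) (.leaf 0x3aae14ee000031e71c2749fb16d205d2086a07bc0a26182ab295)) (.node (.leaf 0x2bd23487000015f93619244712558455115335f815e7187bd000) (.leaf 0))) (.node (.node (.leaf 0x269e3fbf00000b8e0bf0211f107185d6117aa0b36102df262156) (.leaf 0)) (.node (.leaf 0x17a72960000122312ecd3b310af304f41507b2e94fe6772625fc) (.leaf 0)))) (.node (.node (.node (.leaf 0xa364eb8000006ba14cb14ca06c384d78c59448703758e32d333) (.leaf 0x52f22d5900013cef1a8a2c8a1eb684546d4270870b5613113124)) (.node (.leaf 0x6710f800001bd213263e9b044704f1aa43e7dd326664486333) (.leaf 0))) (.node (.node (.leaf 0x2e7c1af8000010962c402c3f12c78592a321e75906c61970a12d) (.leaf 0)) (.node (.leaf 0x101221a7000029611010442508c18453593730c31223d92c7786) (.leaf 0)))))) (.node (.node (.node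 (.node (.node (.leaf 0x89f2fdb0001011003c003bf069285f4a554c5ce1970435fc32d) (.leaf 0x422d040e00002f944c7247891a2305b05c63d5f41607c4586333)) (.node (.leaf 0x1a231e190000149e33cb33ca0c820472ee45d2f81e10435fc2c7) (.leaf 0))) (.node (.node (.leaf 0x1ab4108e00000a4f1e2210b60c9284919f4bc50c6c81775be70a) (.leaf 0x22c2b814b1a000149c153425381125104372f4c73307f6506025586)) (.node (.leaf 0x168a3ba40000207f441c441b0ad10555b31c37fa0931cc70a786) (.leaf 0)))) (.node (.node (.node (.leaf 0x5f0e6b27cb00010590019f118508870573eb5fd50f2c33b07bd18b) (.leaf 0x383e2931000039e24ef451ca166285d40f0283ea2f62f070b55a)) (.node (.leaf 0x23f74cde00001a5530433ca80ef684f75d6c61cb2e6287113025) (.leaf 0))) (.node (.node (.leaf 0x27b6400300010f492993299210b384d61a2206f90df30841d12d) (.leaf 0)) (.node (.leaf 0x31d0191a000127881eba4a1814548412724ec57325e05e5be68a) (.leaf 0))))) (.node (.node (.node (.node (.leaf 0x197c252a000103470aca01a40c478593ab51114c1444fa6de049) (.leaf 0x50fd46eb0001346731671e1c1e7685b6c741e0123b70c568a7bd)) (.node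 (.leaf 0x33a305350001176938520db914930470763fe80756c64f4862ab) (.leaf 0))) (.node (.node (.leaf 0x3e8e0fa500000cc720842414187105d18c3dc5df1013bd5866de) (.leaf 0)) (.node (.leaf 0x50b70e93000023eb474f169b1e7284f1682163807be4b5333025) (.leaf 0)))) (.node (.node (.node (.leaf 0x291f10e3000107e8180017ff10e185f1a92450b3157308180156) (.leaf 0x488053a10000409252373f9d1c320418020961916c223f621262)) (.node (.leaf 0x10d9087b00011d5d408d408c08d58530ce67c4316207892c7786) (.leaf 0))) (.node (.node (.leaf 0x231a01bd000111ee05b32ed90ee185502960129f603545149025) (.leaf 0)) (.node (.leaf 0x43764f5e00012b624ca33d2c1a4784d79a7527667e520e156621) (.leaf 0))))))) (.node (.node (.node (.node (.node (.node (.leaf 0x1b1710870000008701ec01eb0ca184f19f2f530f57903478641d) (.leaf 0xb2b1ee300002e7d3d2940b606e30573091064793252472cb5fc)) (.node (.leaf 0x4cc13377000113f029b732901cb40434f74300813b224e3357b2) (.leaf 0))) (.node (.node (.leaf 0x30d4e43000109b51ca71ca604a205b77e1f124831d543333786) (.leaf 0x7dc4f00000146fd537f48cb06768597940146a319b21868a55a))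 (.node (.leaf 0x3e74022100011fbd3dbb1129186784903018807c63e7b50005be) (.leaf 0)))) (.node (.node (.node (.leaf 0x38993fb6000004fc0fdf0fde167185361135c2222dc6282cb537) (.leaf 0x79d4f010000388b3c5d51cb067485b79405238250029c33524d)) (.node (.leaf 0x29314461000019983b963b9510e284368306c6d60f365e7d9156) (.leaf 0))) (.node (.node (.leaf 0x282b06ac00010ea42832283110c305709c6900c460c5132c7546) (.leaf 0)) (.node (.leaf 0x47560164000126a04960495f1ae484d02137a76a50b1e412d28f) (.leaf 0))))) (.node (.node (.node (.node (.leaf 0x52ae0284000102b7090e090d1eb305d03718f38452e2b61497d9) (.leaf 0x2b0a0b8e0001332c4dc7503312410551156393303d2718025000)) (.node (.leaf 0x33b13c68000116b63737373614938435c55a580741a33e48618b) (.leaf 0))) (.node (.node (.leaf 0x15b7041200010c28229f229e0ab384f0603cd5f453530841d335) (.leaf 0)) (.node (.leaf 0x4ae23ad00001230a41b10ca31c7604559a03714f1d009568a025) (.leaf 0)))) (.node (.node (.node (.leaf 0x41c90fca000107541666092418f405318f5ee37454d29112d24d) (.leaf 0x439f002600003eb3415152f41a5185f0034b705f1d711a1562cb))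 (.node (.leaf 0x2b037a700001c9f3f9d3f9c04938415533e51bc41a4a655a18b) (.leaf 0))) (.node (.node (.leaf 0x4b870dc6000011402d8c2d8b1c9104f15537d50c5233404862c7) (.leaf 0)) (.node (.leaf 0x3f7e1a5300002a584c0e260a188785d2901f268b11567e5182ab) (.leaf 0)))))) (.node (.node (.node (.node (.node (.leaf 0xa400e6f0001019d0589058806c404116377350126d61d2ab113) (.leaf 0x191d4602000030b84f4f3a980c4485b6ac2761b76f44765fc7b2)) (.node (.leaf 0x420b39d90000154234fb34fa1a220575876497ed2861be12d214) (.leaf 0))) (.node (.node (.leaf 0x14c6502d00000aef1fa01f9f0a9504d7ad7275ce1383b07bd32d) (.leaf 0x1aab204800014d394ac01e730c9205733144550c6eb0c95be70a)) (.node (.leaf 0x20173e580001216844e328090e8184f5ef2e81b93e15806de70a) (.leaf 0)))) (.node (.node (.node (.leaf 0xb9d2cf6000106231323132206f285b4661fe5df0b709770b55a) (.leaf 0x123308d900013b61197044c50a258470d63c845c8002df262149)) (.node (.leaf 0x7f8086b00001b123daa3da906778510ca4d55217921cd2145be) (.leaf 0))) (.node (.node (.leaf 0x468f14e700010ff1241f2aea1ab105f2083727bc5777b6000295)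 (.leaf 0)) (.node (.leaf 0x4d64c490000287c4350441d04d484d74a4190f02c808e2ab68a) (.leaf 0))))) (.node (.node (.node (.node (.leaf 0x96d09ea000103d60c820c8106a705b0ee2b31e26a575073470b) (.leaf 0x1e2249e344c000035b238fd48e0103285d50b62460b808707049000)) (.node (.leaf 0x7d64964000018253970396f067684d7013555df0e64e11136de) (.leaf 0))) (.node (.node (.leaf 0x62236d200000d642572257106450455411384eb32908255a214) (.leaf 0)) (.node (.leaf 0xc8c0ddf000124d3238e2b58083405915773501e2524d904968a) (.leaf 0)))) (.node (.node (.node (.leaf 0x353e161c00000880199614a314e385d2235643284320b02145fc) (.leaf 0x5d742710000427c25fa088404f484f65205a52543423170b28f)) (.node (.leaf 0x37f643e900001e2241834182165684d67944978f38f1e824d149) (.leaf 0))) (.node (.node (.leaf 0x58811f200001299301f301e04f20511c212579b05556e6216de) (.leaf 0)) (.node (.leaf 0x11eb279400012c724cc82d9b08f60573e734b07d6d32d815f486) (.leaf 0)))))))) (.node (.node (.node (.node (.node (.node (.node (.leaf 0x45d211780000004400fc00fb1a958451b531075c1717e9156428)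 (.leaf 0x414d4cac00012dfc4d1d4dfa18e405b7536ea3748021a412d28f)) (.node (.leaf 0x31493a810001139a32083207144405359508d42d6915b25be113) (.leaf 0))) (.node (.node (.leaf 0x4a2314540001096a1be51be41c620471fb1ba2a08037fe3357bd) (.leaf 0x2d583014000145c45066402b12a68514ab26175746938615f586)) (.node (.leaf 0x3c6239ab00001f5942d742d61825045582524668114147586295) (.leaf 0)))) (.node (.node (.node (.leaf 0xb8c3ba0000004b30f0802b606f20595b30381b807107570b6de) (.leaf 0xcb235dd000137cb399f4a3a083584552f7aa08b4cb66a262295)) (.node (.leaf 0x33430c000001193c2d8f3b0e14860471220457d16860cf28f32d) (.leaf 0))) (.node (.node (.leaf 0x27ba20a700000e522786278510b385533b53939e2b177a41d546) (.leaf 0)) (.node (.leaf 0x19ff4d80000126340dbb48fd0c5785f76c01a09d6f64cc6de7d9) (.leaf 0))))) (.node (.node (.node (.node (.leaf 0x6410cba0000027008330832064604313544803e73e56024d149) (.leaf 0x8934f40000032824fac28c5069284779902e75c0a50c95fc428)) (.node (.leaf 0x39a848e40001165a36a90fb916930516f51c14265926f848618b) (.leaf 0))) (.node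 (.node (.leaf 0x418016a500000bd821e321e218f204123214307e38d02712d537) (.leaf 0)) (.node (.leaf 0x1b6034e4000022a2461930df0ca704151b1754d44b02832cb049) (.leaf 0)))) (.node (.node (.node (.leaf 0x29b32f7a000007041596015e10f284749c3b23275d94f4049518) (.leaf 0x25bb3a5800003dd252d051a0105385759252d39e6bc777025546)) (.node (.leaf 0x41be3de900001c39397e018a18f385d5e65243ee1ad7e25865be) (.leaf 0))) (.node (.node (.leaf 0x984350000010ec2cda24c4045485166b08f5a96441b15be68a) (.leaf 0)) (.node (.leaf 0xa27082c000129de4bc0264d06c304f0be5633e45d117432d335) (.leaf 0)))))) (.node (.node (.node (.node (.node (.leaf 0x1fea4c9d0001015604a503850e5705575266d09d5ee0826de049) (.leaf 0x681091f000130164cfb2e2806540430dd7f350129703b5fc113)) (.node (.leaf 0x43d23826000114ee1c1d15ff1a558455614b705f2bd47a156786) (.leaf 0))) (.node (.node (.leaf 0x7441df600010a9f1ede13dd06660492ec47565a19821811355a) (.leaf 0x4eee24e200014b564e1622b71e3505d3a621b3010e017b78641d)) (.node (.leaf 0x1f35418b000120f4298e44850e4584b63f5617245c4538537262)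 (.leaf 0)))) (.node (.node (.node (.leaf 0x32372a3a000105da1257122d146284f42c4ac79b22522c6216de) (.leaf 0x2d5c134c00013aa040aa105e12a68591df5c16fa3f055c15f000)) (.node (.leaf 0x1336486d00001ab83d2c26d90a6584d6e87c52374655ff18055a) (.leaf 0))) (.node (.node (.leaf 0x29a4196500010f9f127e2a3c10f20492771f80b34df3b1049518) (.leaf 0)) (.node (.leaf 0x4bf91b85000028014a702e801c968532b22f727d5fd1ab28f2c7) (.leaf 0))))) (.node (.node (.node (.node (.leaf 0x53d0117a000003900ba70ba61ed48411b54066990d758f18b15f) (.leaf 0x41122a680000350c50d74f9118e28454304f33a82721be546537)) (.node (.leaf 0x32ee3f88000017c638dc38db147705d60d2b21070a425a2cb5fc) (.leaf 0))) (.node (.node (.leaf 0x2a1e143f00010d1424bb24ba122285d1f97b93302a86ed7d9586) (.leaf 0)) (.node (.leaf 0x4bf503490001246447aa37181c9684b04e5ca6987697fc28f70a) (.leaf 0)))) (.node (.node (.node (.leaf 0x2254378d0000083518d118d00ec48495516842a419f51d2ab7b2) (.leaf 0x4466105f0000417d22811d6a1a6704d19b7457ac6114e20005be)) (.node (.leaf 0x2734097400001dbf35191c5710a38490e511b22d2e027a41d546)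 (.leaf 0))) (.node (.node (.leaf 0x1ada3d3e000112462f752f740c958555d86821b455464f53770a) (.leaf 0)) (.node (.leaf 0x4b94ccb00002bea4109371904d385375a59a1727e746c32d333) (.leaf 0))))))) (.node (.node (.node (.node (.node (.node (.leaf 0x59a22b0000100cb02d402d304f285537005a1b807123170b6de) (.leaf 0x3fc51ef600012f03120f1cb3189504b30e3361e04463da156428)) (.node (.leaf 0x316c0276000114413326332514460590365196681f371324d295) (.leaf 0))) (.node (.node (.leaf 0x36bc42e800000a021d661d65163385965f37e05b6da1cd214621) (.leaf 0x33411bf70000483b5270125914860432bc51976e6c071324d428)) (.node (.leaf 0x1f9f4d100000201f358543b50e5485f76202e1202de0435fc15f) (.leaf 0)))) (.node (.node (.node (.leaf 0x45ac06ad0000054510ac10ab1a9305909c7151bc20f0475182ab) (.leaf 0x31fd1018000139324f112954145685b1972f762d2757fc28f295)) (.node (.leaf 0x2c2a0451000019f93c2439a9126205506513b64776b4b1049156) (.leaf 0))) (.node (.node (.leaf 0xcdc2a0f00000ef728e728e608368594297f457647738615f214) (.leaf 0)) (.node (.leaf 0x363f1167000127133b891ae4162385f1b33641a72c04c5734621)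 (.leaf 0))))) (.node (.node (.node (.node (.leaf 0x23c540a20001030009ef09ee0ef504b62a09b69a3c47507347bd) (.leaf 0x2a1545ca000133c848fe180b122284b6a64933123f03b1049000)) (.node (.leaf 0x20850d630001170e2c0a289c0e9104b1442382b45e04fa55a70a) (.leaf 0))) (.node (.node (.leaf 0xaf226a500000c791bc7235e06d58453cf4657ff77558e428734) (.leaf 0)) (.node (.leaf 0xaea01c00001237b453046e206d505502a0e74eb10f020428214) (.leaf 0)))) (.node (.node (.node (.leaf 0x206b43860001079d173104410e8605767043267872369528f2c7) (.leaf 0x415f1a5700003fa0531851ec18e485f2903206372e258b54628f)) (.node (.leaf 0xba9207600011cfb200d084106f30533372c603d0222e72cb5fc) (.leaf 0))) (.node (.node (.leaf 0x27e534b20001119511c62e3310b704b5171191e32db4a2262546) (.leaf 0)) (.node (.leaf 0x52964df300002add41cb168c1eb184d7762a32da0ef195734180) (.leaf 0)))))) (.node (.node (.node (.node (.node (.leaf 0x2a51497c000101e3066c00e1122684370260c5f841b38615f586) (.leaf 0x48aa2a7b00003144499c039f1c330554325f14d478c2472cb7d9)) (.node (.leaf 0x34fc3e7c0000159f358d358c14d78595f159a17277d3cb32d335)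 (.leaf 0))) (.node (.node (.leaf 0x882a9105ea00010b3d20611760123284308d5d7312245740049586) (.leaf 0xa0a3c2000004f6552a6248606c20555c011278f4a474c18b295)) (.node (.leaf 0x51244d27000021cb15a410c81e820497633b91b95d91b15be2c7) (.leaf 0)))) (.node (.node (.node (.leaf 0x3cfc11250000066f13f213f118358591ae2c503e2757ae000295) (.leaf 0xc4f042700003c33374e37c1082605f06133711e57730a15f214)) (.node (.leaf 0x1fa7488800001b722f28105a0e5504f6eb44e31b01b64f537124) (.leaf 0))) (.node (.node (.leaf 0x34cd06de000110440f5b2b9a14d405b0a27a601e77d6ba18b68a) (.leaf 0)) (.node (.leaf 0x2f521be6000128f23d7b4b1312e58452bb3c85dc7692df262156) (.leaf 0))))) (.node (.node (.node (.node (.leaf 0x40cc0ae80001041f0d550d5418b405910619f55077d29112d68a) (.leaf 0x503c16de000036481a39463d1e628592397800ec1813fc333025)) (.node (.leaf 0x519e0e430001188139fe36ef1e9185d16127c6984742274862c7) (.leaf 0))) (.node (.node (.leaf 0x4e4c331200010db60eda26231e240594ee0965167a863b62115f) (.leaf 0)) (.node (.leaf 0x1f32ac200002545484f3e6204778474391032846846002145fc)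 (.leaf 0)))) (.node (.node (.node (.leaf 0x2b131c5d000108cc1a581a5712418472c366b45a13f3b0025000) (.leaf 0x45c53d040000436f4c4535e61a9504b5d51e122809014d518428)) (.node (.leaf 0x4ce820d200001e8d41f441f31cb605133f31327f53918a113262) (.leaf 0))) (.node (.node (.leaf 0x4c2f4247000012f2125230b71ca305f64c28918503226a295049) (.leaf 0)) (.node (.leaf 0x2ead06ae00002ceb3fd94d7812d305b09c7a96365cd6192c712d) (.leaf 0)))))))))

/-- part of a table -/
def entries4 : Trie := (.node (.node (.node (.node (.node (.node (.node (.node (.leaf 0x16270ce200010001000a00090ac304f1391d11e25e62d92c7621) (.leaf 0x1a22bf122a400012d644db44db3125784336f1aa39f5f2714025546)) (.node (.leaf 0x1e3c345000011343315b0efc0e2585950d0936dd69d783214180) (.leaf 0))) (.node (.node (.leaf 0x3f024e64000009191b1e1b1d18810457801f20c121920e51832d) (.leaf 0x44695236000144873b0c53a11a670537de44228416d7c45865be)) (.node (.leaf 0xe2d46ab00011eee0aa44271088305b6c158d6b33c924b02518b) (.leaf 0)))) (.node (.node (.node (.leaf 0xca80a24000004680e3003bc08350510f311c01922a0bf262295)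 (.leaf 0x1a2a45f40001370734ac503f0c820556ab2e22f84bd6b65fc2c7)) (.node (.leaf 0x21700b1a000018e13a883a870ea784110a39d0896fc17d786049) (.leaf 0))) (.node (.node (.leaf 0x3263443a00000e0626d626d5146704767f5b95213492477865fc) (.leaf 0)) (.node (.leaf 0x225231db000025b948a604b20ec48454ce3541763aa03918b7b2) (.leaf 0))))) (.node (.node (.node (.node (.leaf 0x43f249840000022a075307521a578457063685081db7e9156621) (.leaf 0x1db721e9000131e82bf43c7a0cf284f35e50909e3682503357bd)) (.node (.leaf 0x2904562000115f9072b361a049284169f0183991994765be32d) (.leaf 0))) (.node (.node (.leaf 0x393500db00010b8e21200cfe168384b0146e460707410e53718b) (.leaf 0)) (.node (.leaf 0x3c380adb000022324410374318238511056163f54ad026000335) (.leaf 0)))) (.node (.node (.node (.leaf 0xcc22853000106ba14cd14cc08360453fd0a67ff48b18e15f734) (.leaf 0x10613b8e00003cf145cd52ae08c70435ad7512a61f561970a70b)) (.node (.leaf 0x3c0b375600011bd209613e9c182205754d47151558c65c546734) (.leaf 0))) (.node (.node (.leaf 0x38794250000010972c4100cd166785364e0152e90912e77865fc)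 (.leaf 0)) (.node (.leaf 0x1f451357000129614b664b650e4604b1e13af34c1881ab24d41d) (.leaf 0)))))) (.node (.node (.node (.node (.node (.leaf 0x50a63a6a00000111038603c11e7204d5935722a03ec234335025) (.leaf 0x1f0c345900012f95416b36630e4405950d3b96b74cd4045be15f)) (.node (.leaf 0x10125ac0001149e15f133cc04640433b76386661844da33324d) (.leaf 0))) (.node (.node (.leaf 0x7174d0400010a4f1e241e23066484f76021d38207023433528f) (.leaf 0x3c57169f000049c84b0952ab182484f2306ab5ac7a00a954668a)) (.node (.leaf 0x37df1810000020802ac62010165485f25802e6627380435fc68a) (.leaf 0)))) (.node (.node (.node (.leaf 0x29cf3699000005911187118610f505f53d41b50372738c124156) (.leaf 0xc9f0a2c000139e34330052e083485f0f362466264470704968a)) (.node (.leaf 0x23372fb500001a563c7d3ca90ee284f4a021d2f44f52503357bd) (.leaf 0))) (.node (.node (.leaf 0x112d46a100000f4a15a0299408e305b6c10ac3ee56c5c71245fc) (.leaf 0)) (.node (.leaf 0x48ac1520000027893e3e1c171c3305920c0156970602e77867d9) (.leaf 0))))) (.node (.node (.node (.node (.leaf 0x456829ae000003480acc0acb1a8705141c6c46b33bb79f5182ab)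 (.leaf 0x6b6294e0001346850a21e4a065584d41168e6cc3f246355a214)) (.node (.leaf 0x301343ff0000176b38543853142284767a7e52486051a2333786) (.leaf 0))) (.node (.node (.leaf 0x4d30376300010cc7241503161cc384154e38e08333746c4287d9) (.leaf 0)) (.node (.leaf 0x35bd36e3000123eb4750082214f385b54231d25f7c85ae7345fc) (.leaf 0)))) (.node (.node (.node (.leaf 0x332a2647000007e91801005714830553c54a931725134048618b) (.leaf 0x32a228c600014093325e44a814720454062563d019075570b55a)) (.node (.leaf 0x10ff266d00001d5f3437408e08d785f3c860f76621675b70a621) (.leaf 0))) (.node (.node (.leaf 0x32e108b1000011ef2edb2eda14770430d404e07c40f1ea7865fc) (.leaf 0)) (.node (.leaf 0x485047e900002b63373e4a351c248416df5301b763344b70b15f) (.leaf 0))))))) (.node (.node (.node (.node (.node (.node (.leaf 0x13224d010001008701ae01ed0a650457600ce5df4b65bc41d55a) (.leaf 0x12ee1b2300012e7d3bc427bc0a3705d2a90311727b077a180333)) (.node (.leaf 0x5177228a000013f1329232911e8684f36d65f43f0610d824d70a) (.leaf 0))) (.node (.node (.leaf 0x3eb714b4000009b61ca91ca8187284f20436768d1b67dc546486)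 (.leaf 0x3d6c39660000470453bd2a97184705957b35a05b7763da156621)) (.node (.leaf 0x1262246e00001fbe434f434e0a2704539b7af3e43755ff41d333) (.leaf 0)))) (.node (.node (.node (.leaf 0x22ed28a8000004fd0fe10fe00ed705b4032d02131430de32d049) (.leaf 0x30b715630001388b51cc114d143384f2122c16755354c5214621)) (.node (.leaf 0x456c1b6c0001199808803b971a870592af4d24ef56826851818b) (.leaf 0))) (.node (.node (.leaf 0x12720cb100010ea5048e1a7f0a2784513503117277d5ed180335) (.leaf 0)) (.node (.leaf 0x10eb0ee8000026a1477a496108d705716f43c77c53e30470a70b) (.leaf 0))))) (.node (.node (.node (.node (.leaf 0x2354e75000002b80910090f048384b7823c26077c84a66de18b) (.leaf 0x3aed1bdd0001332e14453f3716d705b2ba68c4235443cb32d335)) (.node (.leaf 0x38f41f54000116b728c0373816778493183297ac04f1ea2cb5fc) (.leaf 0))) (.node (.node (.leaf 0x2aac2a7d00000c2922a122a012330594326b963678c5c712412d) (.leaf 0)) (.node (.leaf 0x2ab24a8b0001230b467f3c89123384572158868956738c12412d) (.leaf 0)))) (.node (.node (.node (.leaf 0x37d626180000075516681667165484d3c254d6621ba3465fc68a)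 (.leaf 0x12e501700013eb41be21c22046505d7ab41c07e0e7545295537)) (.node (.leaf 0x1215243000011c9f3e483f9e0a2484b3960100f003869b049113) (.leaf 0))) (.node (.node (.leaf 0x38f73adb000011412d8e2d8d167784f59a53b7ef40540d7865be) (.leaf 0)) (.node (.leaf 0x3fde021e00002a59409b4c0f189585d02f79143719e20e51832d) (.leaf 0)))))) (.node (.node (.node (.node (.node (.leaf 0x215c4c7e0000019e058b058a0ea485974f76317635e0756217b2) (.leaf 0x502230b5000130b84ef21afe1e620454b92c81e62782f9333025)) (.node (.leaf 0x1b1f0cc70000154334fd34fc0ca185f13621b3013e217b78641d) (.leaf 0))) (.node (.node (.leaf 0x4fd91aa100010aef1fa21fa11e5485329908f38713b4045be15f) (.leaf 0x15c326b300014d3c4ea32c2a0ab40473d12e30f749f70704968a)) (.node (.leaf 0x4d112a6e0001216944e544e41cc28434306a70ea7aa61d2ab41d) (.leaf 0)))) (.node (.node (.node (.leaf 0x45bf13750001062401cb0d191a9385f1e72d579820c11a15618b) (.leaf 0x285247fe00003b6339662bc410c58456e07d814170f3d92c7586)) (.node (.leaf 0x3cb4154d00011b12350d176e183384920f69d423313164000335) (.leaf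 0))) (.node (.node (.leaf 0x11141e9600000ff22aec2aeb08e18492ff3e879b6e465341d55a) (.leaf 0)) (.node (.leaf 0x47323ddb0000287d3f8442c91ae38455e56d111d61f47c0005be) (.leaf 0))))) (.node (.node (.node (.node (.leaf 0x49e94faa000003d70c840c831c560537a33c00721a637924d41d) (.leaf 0x17164b5f000035b326e251040ae184d7357e34955e75bc18055a)) (.node (.leaf 0x249525b400001826180c3971103284b3b92b770840e4d97d9586) (.leaf 0))) (.node (.node (.leaf 0xd4c3fa100000d652574257308660596100be2220d43867b2486) (.leaf 0)) (.node (.leaf 0x48df3df6000024d4480144f91c3485f5e729712001f75570b15f) (.leaf 0)))) (.node (.node (.node (.leaf 0x466300e400010880199819971aa70470155793f117e7b6000333) (.leaf 0x1f3f30a70000427d484138b90e4585f4b72993195d864f486124)) (.node (.leaf 0x178e407000001e232c0d41840af105d62403123768777a18055a) (.leaf 0))) (.node (.node (.leaf 0x244a39650000129b30213020102605557b34b60b02373a15f586) (.leaf 0)) (.node (.leaf 0x32de2cee00012c7349471c90147485d4656e171b23975570b28f) (.leaf 0)))))))) (.node (.node (.node (.node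 (.node (.node (.node (.leaf 0x1cd43c590001004400fe00fd0cd48495c45931b736922618b7b2) (.leaf 0x41d60b4400002dfe3a0f4dfb18f484d10f3314b81f980454628f)) (.node (.leaf 0x657243a0000139b13861ed7064684f3965920190997d624d295) (.leaf 0))) (.node (.node (.leaf 0xcb145180000096b1be71be608358436933d165173e1ec124149) (.leaf 0x323324ce000145c653b60e9f14628473a36a47a459a64d62155a)) (.node (.leaf 0x1c043c9400011f590ad342d80cc10495cc37c41062a62f428262) (.leaf 0)))) (.node (.node (.node (.leaf 0x1efb4c9b000104b30f0a0f090e378577526064d467b2b62957d9) (.leaf 0x41613040000037cc329b296d18e50434ae0bc59c3887b500055a)) (.node (.leaf 0x282712170001193d156907e410c304f1c445b39e24375b2c712d) (.leaf 0))) (.node (.node (.leaf 0x5155433600010e5226b4070d1e8584b6672722f84dc56255a2c7) (.leaf 0)) (.node (.leaf 0x2e2b1c300001263513ad454112c30572c031e6365cd75b2c712d) (.leaf 0))))) (.node (.node (.node (.node (.leaf 0x4e8e21610001027000ae08341e3205d3521612e1424221621124) (.leaf 0x1895083c00013282500233d60c3484b0c07801b74a03fc3337b2)) (.node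 (.leaf 0x6420d720001165b36aa1e9d064604514e2d37d24027d628f295) (.leaf 0))) (.node (.node (.leaf 0x3864022400000bd921e521e4166704903036d7ef2042e77865fc) (.leaf 0)) (.node (.leaf 0x26480558000122a21519298410650510783cf5c6768653180156) (.leaf 0)))) (.node (.node (.node (.leaf 0x457e0fcc00010704061015971a8785d18f6f250f06b7e91562ab) (.leaf 0x364107c400003dd63427354816260430b73134cf5b818a113786)) (.node (.leaf 0x25e90ec200001c3a38453f16105705316b39665505660e7bd12d) (.leaf 0))) (.node (.node (.leaf 0x36134a78000110ec2cdb127d16228477204e64315694b53352cb) (.leaf 0)) (.node (.leaf 0xb5702d7000029df3a5c4bc106e484f04149163767d23170b28f) (.leaf 0)))))) (.node (.node (.node (.node (.node (.leaf 0x4c4127410000015704a704a61ca40433e003c5165f23fc3337b2) (.leaf 0x1d0c37f000003019154b4f080ce10595590631cb6eb08a1497bd)) (.node (.leaf 0x40f00075000114ef06d7346418b784100a23e16e4f6401000333) (.leaf 0))) (.node (.node (.leaf 0x53de04e100000aa01edf1bd21ed485d06e2063870563b82ab15f) (.leaf 0x7327900004b5934293b7d044404f4df5225500282fa5fc113))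 (.node (.leaf 0x436615a0000020f6448744861a4704d2190041a77cb20e156621) (.leaf 0)))) (.node (.node (.node (.leaf 0x2f213736000005db1259125812e204354b3590f55233b17d9518) (.leaf 0x5143f5a00013aa1523a1f2c04e284960853a0d036f23f70b55a)) (.node (.leaf 0x2ee1491700001ab93d2e3d2d12d70436fb5056364a57892c7546) (.leaf 0))) (.node (.node (.leaf 0xa9b015200000fa02a3e2a3d06d285701f09108b08508e2ab295) (.leaf 0)) (.node (.leaf 0x17f0b5a014b000128013a944a7106e485501c55773356d64d70b24d) (.leaf 0))))) (.node (.node (.node (.node (.leaf 0x1df63c580001039004900ba80cf684d5c45341ca3684e11137bd) (.leaf 0xc2f04250001350e1b763d5f082505f06122f7d24db4de262149)) (.node (.leaf 0x51ee067d000117c738de38dd1e9605d0996e549b4297d628f2c7) (.leaf 0))) (.node (.node (.leaf 0x4d8c450200000d1524bd24bc1cd20596911523017ad57418b180) (.leaf 0)) (.node (.leaf 0x2ac841c20001246547ab1dd312360516432e045a47e2947b2586) (.leaf 0)))) (.node (.node (.node (.leaf 0x4aea12330001083518d204671c760551c626f09e76039268a025) (.leaf 0xf1908e40000417f343c4ac908a18530d71190191fc0b2262295))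 (.node (.leaf 0x514b3e7000011dbf164b34501e850575f10a83fa4c74cc55a2c7) (.leaf 0))) (.node (.node (.leaf 0x4e6a23a9000012482f772f761e2505538957759b74a17b2cb41d) (.leaf 0)) (.node (.leaf 0x125c455400012bea4ce406440a2685969e26111e24434415f734) (.leaf 0))))))) (.node (.node (.node (.node (.node (.node (.leaf 0x15a03394000000cc02d602d50ab30414f94074234e32f341d333) (.leaf 0x3d75315c00002f044e882ace184784b4c3603361736178156621)) (.node (.leaf 0x4f0f374700011442332833271e4105f54c3836a97c53ef537262) (.leaf 0))) (.node (.node (.leaf 0x40900c1200010a021d681d6718b184112526003e73e164000149) (.leaf 0x15534fe0001483c4a2053d2046684b51c5c57a44b640a68a55a)) (.node (.leaf 0x402616f700002020245343b618a204d23b47151512c804546214) (.leaf 0)))) (.node (.node (.node (.leaf 0x3ad71c840001054510ae10ad16d484f2c64190f044a08e2ab68a) (.leaf 0x1992083a00003934355051ee0c548450c06691b75ef0135fc7b2)) (.node (.leaf 0x45a7372c000119f93c263c251a9304f5496a17853e34a115618b) (.leaf 0))) (.node (.node (.leaf 0xb42b15130b00010ef728e82341124184b1da6935f82ac7147bd000)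 (.leaf 0)) (.node (.leaf 0x34500f200000271429ed497d14c484117504f0f044a4502ab68a) (.leaf 0))))) (.node (.node (.node (.node (.leaf 0x249c2c080000030109f109f0103285945231670809a65e7d9586) (.leaf 0x4f64169a000133c9329e40ae1e460492304ff59b46837924d41d)) (.node (.leaf 0x30e508f0000170f37c837c704a205d7b97cb7f249d4a83352cb) (.leaf 0))) (.node (.node (.leaf 0x24da472200010c792360235f10368556cb15935d66018e7b2586) (.leaf 0)) (.node (.leaf 0x4f483d120001237c0e6c251a1e440515d60e407f45905e5be7b2) (.leaf 0)))) (.node (.node (.node (.leaf 0x48ed07200001079e024117321c3505b0a80153013f32e7786180) (.leaf 0x166a09e600013fa0522324840ac70550ee1d11e26e67612c770b)) (.node (.leaf 0x24d3520600001cfd401d1c6110368477d71eb35d33973a7b2586) (.leaf 0))) (.node (.node (.leaf 0x4930401e00001196212d2e341c4384161b77b14c0a605d6de7d9) (.leaf 0)) (.node (.leaf 0x18714aa100002ae036c74c540c278437231c92132fc2672957d9) (.leaf 0)))))) (.node (.node (.node (.node (.node (.leaf 0x19c33d9b000001e4066e066d0c560475e06140f94ce1e828f180) (.leaf 0x29120f4a000131444f8c476a10e184517e6af5c63fd77a180518))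 (.node (.leaf 0x157946150001159f358f358e0aa68536af26111e29a38615f214) (.leaf 0))) (.node (.node (.leaf 0x12f2176100000b3e153b05fd0a3784524611f5a35de5ff41d333) (.leaf 0x31d22bb00004f7148640ba504a285b3706c97f209329c335786)) (.node (.leaf 0x3bcf499a000121cb2b1e455316f405f7095ec37406b4b533524d) (.leaf 0)))) (.node (.node (.node (.leaf 0x221b01bc0001066f13f413f30ec18570295942e18056f132d262) (.leaf 0x20a250730e000013c3350c02aa5104104f4bc00e6aa3e960a7bd000)) (.node (.leaf 0x44ba4b7600011b7226cf35e31a7285573737a07e7321e412d486) (.leaf 0))) (.node (.node (.leaf 0xc5251803dd000010452b9c2b9b104185105776933442472e025000) (.leaf 0)) (.node (.leaf 0x278f5287000128f328030b7010b205f7e545135d7b836a7d9000) (.leaf 0))))) (.node (.node (.node (.node (.leaf 0x4fd722a8000004200d570d561e5484f36f58769919d3465fc15f) (.leaf 0x35a6290a000136481f141add14f304d40b5582e94fe0b07345fc)) (.node (.leaf 0x1fd03b6d0001188239ff2d6a0e568415a85ca1821337fc28f180) (.leaf 0))) (.node (.node (.leaf 0x131e0e0900000db7262526240a6485d15b4474b816d6ed7d928f)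 (.leaf 0)) (.node (.leaf 0x2a9c352d0000254616f83303123285952261e30c79632e049000) (.leaf 0)))) (.node (.node (.node (.leaf 0x4c87038c000008cd1a5a1a591cb104f0525e80ea2c40b073441d) (.leaf 0x24e722aa0000437152c7470e103704f36f5f00c40d75bc18012d)) (.node (.leaf 0x57a279200011e8d405241f504e58553e70b13a827225a786537) (.leaf 0))) (.node (.node (.leaf 0x29472894000112f230b930b810e504f4021a632766b38c262156) (.leaf 0)) (.node (.leaf 0x1a663c5300002cec431a2afb0c8604d5c42d12114b74a328f70a) (.leaf 0)))))))))

/-- part of a table -/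
def entries5 : Trie := (.node (.node (.node (.node (.node (.node (.node (.node (.leaf 0x4e3b52ba00000002000c000b1e238577ea26900f2e017b2cb7d9) (.leaf 0x375d238900002d684db5482f164485b3854c15fa56a5b25fc113)) (.node (.leaf 0x1bc3080200011344315d315c0cb40470bc2560fd32f75570b15f) (.leaf 0))) (.node (.node (.leaf 0x4d4c37e6000109191b201b1f1cc40595583a34ca0ae5b72ab15f) (.leaf 0x2db26f00000448a53a215fb04968573d80224375110d824d428)) (.node (.leaf 0x3043d2400011eef42722b4704a20495d73d42485d570d333786) (.leaf 0)))) (.node (.node (.node (.leaf 0x49163884000104680e320e311c4184d5681971917ee71c537262) (.leaf 0xe420cf80000370834711606088504513a2a94900546b47bd32d)) (.node (.leaf 0x26c824df000118e12451293e10750513a57bb6d66101d241d156) (.leaf 0))) (.node (.node (.leaf 0xf27268200010e06045926d708a304f3ca2204234e377a41d333) (.leaf 0)) (.node (.leaf 0x4aec0998000125b9405648a71c760590e756529f7511a0113025) (.leaf 0))))) (.node (.node (.node (.node (.leaf 0x4903f560001022a0755075404d28416084063ba06e22618b149) (.leaf 0x912850000131ea14934fc504548433fd0185a91614765be68a))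 (.node (.leaf 0x485f3d1e000015fa361b357c1c2485f5d66a414a68523162115f) (.leaf 0))) (.node (.node (.leaf 0x10ad4b2800000b8f20fc212108d305b73054f5b14ba3022c770b) (.leaf 0)) (.node (.leaf 0x35fe02130001223418fd45ae14f685d02f1e75bf03661311355a) (.leaf 0)))) (.node (.node (.node (.leaf 0x39d1063b000006bb14ce0c6a16968430935ca5ce5e77fc28f32d) (.leaf 0x3fb329b900003cf24e3b449e189384741e3e12ea4ff5815182ab)) (.node (.leaf 0x153a0dff00001bd32d143e9d0aa385515980866c549417180335) (.leaf 0))) (.node (.node (.leaf 0xfad4b23000110971bda2c4208b305b7303d25f467437b41d333) (.leaf 0)) (.node (.leaf 0x5e3452e000129620f30402a04f504769470e2223e51c82cb486) (.leaf 0)))))) (.node (.node (.node (.node (.node (.leaf 0x3bbd09c800010111004903c216f385b0eb4d55215997502145fc) (.leaf 0x40d6248c00002f9713ce033018b484d39d6ab5ac2660a954668a)) (.node (.leaf 0x2d0d158a0000149f33ce33cd12a205b2166086fa3d136b7d9000) (.leaf 0))) (.node (.node (.leaf 0x40c1433a00000a5010b11e2518b40436673aa5f74f641f12d113) (.leaf 0x9e226b4000149cb4d63525206b70453d143605b776195214621))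 (.node (.leaf 0x3e2630bc00002081441d1334186204d4b947171151a804546537) (.leaf 0)))) (.node (.node (.node (.leaf 0x27d4f3b0001059111891188048785b79765431708f6f848618b) (.leaf 0x38302a33000039e733015219166284142c16a23746509762155a)) (.node (.leaf 0x16b549d700011a573caa02170ad384b7102784f25651112c7621) (.leaf 0))) (.node (.node (.leaf 0x6f042a00010f4a29962995044705f06144d7a22bf2a7486333) (.leaf 0)) (.node (.leaf 0x29144756000127894a19187610e18496d23d21ef44337b41d518) (.leaf 0))))) (.node (.node (.node (.node (.leaf 0xacb2c2e000103480ace0acd06d40574546e35012555202ab68a) (.leaf 0xff443ae0000346a3d7c50a308b684967271068028629415f214)) (.node (.leaf 0x520c412f0001176b385517371ea10596346fb59b46832b73441d) (.leaf 0))) (.node (.node (.leaf 0x142c1eeb00000cc80f5224160a830593096937487c27147bd18b) (.leaf 0)) (.node (.leaf 0xc463253000123ec47514540082604d4dc30911e3f262315f214) (.leaf 0)))) (.node (.node (.node (.leaf 0x40461d79000107e91803180218a404d2dd5ba01e49a7dc546113) (.leaf 0x3ff94a27000140941d6346ec189785371953f2cd03314d15618b))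 (.node (.leaf 0x377433b400011d5f25541b8b16468494fd1f63d631d5cb28f149) (.leaf 0))) (.node (.node (.leaf 0xf3537a5000111ef2edd2edc08a384b55311b3e42fd27a41d333) (.leaf 0)) (.node (.leaf 0x23074e1e00012b634ca41c750ee104f7797531e64f52072957bd) (.leaf 0))))))) (.node (.node (.node (.node (.node (.node (.leaf 0x2f54433b0000008801ef01ee12e584966742b34141155f124156) (.leaf 0x1af9013700002e7e4e454e440c9685301b20d69800471328f2c7)) (.node (.leaf 0x5c53990000113f13294329304f404b57f1253564bc56e62128f) (.leaf 0))) (.node (.node (.leaf 0x2cd0eee000009b71cab1caa049605b16f6db0cd17c1ab24d428) (.leaf 0x31cf2d36000147064ae443d6145405f46a1f901e2816b65be113)) (.node (.leaf 0x1552851328100001fbf3d872f5d10c58434e01166ee0ce78970a000) (.leaf 0)))) (.node (.node (.node (.leaf 0x2cf43ad7000104fd0fe30fe2127684959a2cf5dc11629415f156) (.leaf 0x11612d190000388c4fc54c6108e604346841516646a0cb7b2537)) (.node (.leaf 0x17ee1c63000019992c933b980af605d2c412f3a83f849815f486) (.leaf 0))) (.node (.node (.leaf 0xb0258b314400000ea62834283310510574c237714155b6b4025586)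 (.leaf 0)) (.node (.leaf 0x3fe920d9000126a22d464962189705333f5b57982e226815618b) (.leaf 0))))) (.node (.node (.node (.node (.leaf 0x120036de000102b800c309110a240415415b642d12669b7d9113) (.leaf 0x27d438940000332f48334c4d10b684956944c6ee0b538615f586)) (.node (.leaf 0x27dc1b62000116b837390edb10b68592af06030040e0cb15f586) (.leaf 0))) (.node (.node (.leaf 0x51930f4700010c2922a322a21e9184717e6712803fd2a748670a) (.leaf 0)) (.node (.leaf 0x14df299c0000230e401346800a9585f41b7464370776b47bd32d) (.leaf 0)))) (.node (.node (.node (.leaf 0x3943bc900010755022a166904b28495b61db6564f724e3332cb) (.leaf 0x4b9a1c2a00003eb952f551fa1c918552bf4ee24158d2a753770a)) (.node (.leaf 0x1365127500001ca03fa03f9f0a6704b1d01f07ef15255f2625fc) (.leaf 0))) (.node (.node (.leaf 0xfb3187f000111412d902d8f08b38472617f616e6da41741d335) (.leaf 0)) (.node (.leaf 0x225942de00012a594c1035880ec485365d77816c2de5b72ab15f) (.leaf 0)))))) (.node (.node (.node (.node (.node (.leaf 0x4ac21cfc0001019e0071058c1c750452d070929f6e82b6149025) (.leaf 0x28cc2a58000130b912f2374710d505942f54f60b6723022c7586))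 (.node (.leaf 0x2df26690001154434fe31d2049685f3c84fe7540a84ea24d32d) (.leaf 0))) (.node (.node (.leaf 0x2eb52cc300000af01fa41fa312d384b4611173650be5c82c712d) (.leaf 0x4a061ad100004d3f52ef34481c6104d29d23c25748a0b0734025)) (.node (.leaf 0x4fc706f80001216a0bb9236c1e5404f0a54456b71c20c95be7b2) (.leaf 0)))) (.node (.node (.node (.leaf 0xadd22cb000006251325132406d485b3716295d36e657418b113) (.leaf 0x38db099200003b663827481716748570e72053827736cd62124d)) (.node (.leaf 0x1fa046cb00001b133dac3dab0e550416c46864107cc10e486124) (.leaf 0))) (.node (.node (.leaf 0x46f61d7600000ff32aee2aed1ab784d2dd4033f12973bd000335) (.leaf 0)) (.node (.leaf 0x34e827fb0001287d4aca151a14d70513f25123f554743b32d335) (.leaf 0))))) (.node (.node (.node (.node (.leaf 0x51b2918000103d70c85087c04e285740c4786a36792f062155a) (.leaf 0x19e03d98000135b315b6455b0c570415e04dd1f73034fa6de049)) (.node (.leaf 0x45183e390001182630fc39721a818515ec5a84e878715d518428) (.leaf 0))) (.node (.node (.leaf 0x9f2524052900010d652575199c10430490744e90c4553714025546)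 (.leaf 0)) (.node (.leaf 0x502c0a6e000124d520d248021e620590fb7762f443970d335025) (.leaf 0)))) (.node (.node (.node (.leaf 0x2a7928610000088119990bcf12278533fe09a1945b365341d546) (.leaf 0x369325020000427e3617236a16328473a92597fa24c1a2333786)) (.node (.leaf 0x1ff93b3200011e23418526c50e578535a428a0c86ab5626de049) (.leaf 0))) (.node (.node (.leaf 0xec0e0e50890001129b3022012a088105d7b952376e4ee35f7bd428) (.leaf 0)) (.node (.leaf 0x29ae01a800012c761ab04c1910f205d0284a57587a536a7d9156) (.leaf 0)))))))) (.node (.node (.node (.node (.node (.node (.node (.leaf 0x42be0428800000045010000ff12570416544df2eb4a5714025546) (.leaf 0x16730e2f00012dfe4dfd4dfc0ac784715e7ab5b16c94d62c770b)) (.node (.leaf 0x488903770001139b320923b01c320530513c319153944b621262) (.leaf 0))) (.node (.node (.leaf 0x4f1e03d00001096b1be91be81e4185d05716b4d842464f486124) (.leaf 0x119a291a000045c838cf2d4908f185540c53959c21030841d6de)) (.node (.leaf 0x87527a000001f5c4267116a068784b3e80902791bd69c53718b) (.leaf 0)))) (.node (.node (.node (.leaf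 0x39e835a6000004b40f0b0150169705152c3e51bc4524a655a18b) (.leaf 0x184c29000037ce43cd43c704448517465755d37b04765fc68a)) (.node (.leaf 0x1bfd462c0000193e3b103b0f0cb785b6b02fb0833a717d786049) (.leaf 0))) (.node (.node (.leaf 0x361645cc00000e53278714cb162284d6a65295717191a2335786) (.leaf 0)) (.node (.leaf 0xce3451b0001263625571ded08370476934aa3f168377a180333) (.leaf 0))))) (.node (.node (.node (.node (.leaf 0x29972277000002710836083510f184f36c5391ef5bd30841d156) (.leaf 0x4a271ade000032832f214c711c6204f29d7382576b22f9335025)) (.node (.leaf 0x47d511f0000165c36ab129c04c585b7c57327257a162f428214) (.leaf 0))) (.node (.node (.leaf 0x15a1082d00010bd90d1c21e60ab30430be57f16e06f37b41d333) (.leaf 0)) (.node (.leaf 0x332e48e2000122a4252c1866148305d6f516b68b7ea64f4862ab) (.leaf 0)))) (.node (.node (.node (.leaf 0xf123bc3000107051599159808a18455b60987bc30e242124149) (.leaf 0x21860d6000013dd63de74f0b0eb104d1440b10ea52425a78641d)) (.node (.leaf 0x160204c100001c3b3f183f170ac104506c0f12c25e43042c72cb) (.leaf 0))) (.node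 (.node (.leaf 0x39431a78000010ed1d2f2cdc168604729341a0050710cf28f32d) (.leaf 0)) (.node (.leaf 0x30ed0f10000129df4bc207eb143705b1730aa1e21f10c229570b) (.leaf 0)))))) (.node (.node (.node (.node (.node (.leaf 0x1d472a8500010157047104a80ce504f4332c93804be0b0734025) (.leaf 0x4e5033b20000301b4a984efa1e248414fd1a31762e36b562115f)) (.node (.leaf 0x246b44aa000014f0307c3465102705768753939e60877a41d546) (.leaf 0))) (.node (.node (.leaf 0x1df8013b00010aa01ee11ee00cf685101b31a14f2cc0c568a7bd) (.leaf 0x9e30e2000014b5a4afb53b606b704715e02f4f2430416214621)) (.node (.leaf 0xbe510b9000020f71cd8216906f504b1a52443984c379c2cb537) (.leaf 0)))) (.node (.node (.node (.leaf 0x45ec12d0000105db125a03da1a970591d71e142606a1785182ab) (.leaf 0x1a34251f00013aa71d16523b0c828493aa8023fa63f05e5fc2c7)) (.node (.leaf 0x20f615ff00011ab93d303d2f0e9684d21f7ea28048f0cf24d2c7) (.leaf 0))) (.node (.node (.leaf 0xe7b511200010fa12a402a3f08878577c51ce7480af3b07bd18b) (.leaf 0)) (.node (.leaf 0x1962263b000028034a734a720c470453c45d20c85eb4cc6de7d9)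 (.leaf 0))))) (.node (.node (.node (.node (.leaf 0xf69288c000003910baa0ba908a60534005673b342f30b7b2214) (.leaf 0x4a760a8a0001350f154f4a321c6684d0fe6c61cb0ca287113025)) (.node (.leaf 0x30573b44000017c838e038df142684f5a533b0a36152871132cb) (.leaf 0))) (.node (.node (.leaf 0x357644ee00010d1524bf24be14e684d68f6c665a2993c71136de) (.leaf 0)) (.node (.leaf 0x195b0d3d0000246628dd41180c4685714065f0ea62a0d824d180) (.leaf 0)))) (.node (.node (.node (.leaf 0x12dd00ba0000083618d418d30a3685b00e60c35366734415f734) (.leaf 0x1f2e225b0001417f1e1f37050e4505d3685e71915da3ef537262)) (.node (.leaf 0x3089216800001dc03f4a410914320533524304126ca29c335786) (.leaf 0))) (.node (.node (.leaf 0x178f3e8b000112482f781e440af105f5f23e95bf03678b18055a) (.leaf 0)) (.node (.leaf 0x2c5452d00002bec35514a04049604b6945a675403a7f824d428) (.leaf 0))))))) (.node (.node (.node (.node (.node (.node (.leaf 0x6b313af000100cc02d802d706558471ed7fd3532960ff55a734) (.leaf 0x4ca4058c00012f0548f8412b1cb30490806e01f77ba2672957d9)) (.node (.leaf 0x39250bfa0000144333292bee168304b1216543175ca6f848618b)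 (.leaf 0))) (.node (.node (.leaf 0x1f8637ba00000a031d6a1d690e5404d5543bb0813200c95be7b2) (.leaf 0x3739364c0000483f30364bc7164385353656117226f538537333)) (.node (.leaf 0x156284e178f000120200c9943b710c505d24a7d81417e34d62c7000) (.leaf 0)))) (.node (.node (.node (.leaf 0x4eca14980000054610b010af1e340552004895167a82f062115f) (.leaf 0x503d05bd000139343cd64a131e6285b0865971e67a9543333025)) (.node (.leaf 0xf570189000119fa3c272c0608a484f02334e6621ba74704968a) (.leaf 0))) (.node (.node (.leaf 0x4c81470400000ef828e908ee1cb10436c92750f97aa5b421441d) (.leaf 0)) (.node (.leaf 0x25e104d1000127152d1a1be7105704306d0d66f92e324b7bd12d) (.leaf 0))))) (.node (.node (.node (.node (.leaf 0x451126d90001030100d809f21a818433d45544e8348268518428) (.leaf 0x4d370e37000033ca4f321ea31cc384f1602dc14c6ce58e32d7d9)) (.node (.leaf 0x1828275c0001170f37ca37c90c250513e130e2f2315186214180) (.leaf 0))) (.node (.node (.leaf 0x47844e6800000c7a236103b21af20497803ae3984dd027546537) (.leaf 0)) (.node (.leaf 0x28a42f380000237d277e16bc10d30494944f00c45c16d82c7546)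 (.leaf 0)))) (.node (.node (.node (.leaf 0x231b0afd0000079f173417330ee185710862e1ca0c026a149025) (.leaf 0x2ca13d6800013fa1219027ed12720435db2ff62737332e7d9518)) (.node (.leaf 0x1416259300011cfd167237e30a8184d3b54740c104635f025428) (.leaf 0))) (.node (.node (.leaf 0x2f291a94000111962e362e3512e20532972ff6275fd32e7d9518) (.leaf 0)) (.node (.leaf 0x2c0850d000012ae04c553bf812610517c00245dc79474d262518) (.leaf 0)))))) (.node (.node (.node (.node (.node (.leaf 0x323912be000101e40670066f14628531d577d3d00e707570b6de) (.leaf 0x2f80be0000031454f8d2e3f049785111f0ed2ea7ec33e48618b)) (.node (.leaf 0x445e0554000015a02f9d35901a6485d0781705256e30a912d28f) (.leaf 0))) (.node (.node (.leaf 0x3198442900010b3e20632062145185167d4134eb2924a655a734) (.leaf 0x2421136e00014f7352e137f310230431e57ad39e2431ec12412d)) (.node (.leaf 0x10ba40e7000021cc427a27b408d385563043c77c40b30470a70b) (.leaf 0)))) (.node (.node (.node (.leaf 0x258753a80000067013f613f5105104f8024e57080ce35f025000) (.leaf 0xb600bb500003c36529129c206e504111936d4b364343d786486))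 (.node (.leaf 0x51ad2dfd00001b730a5104321e9205b47872027d6bf4045fc70a) (.leaf 0))) (.node (.node (.leaf 0x39032fa0000110452b9d227a168204749f0032ef6d30435fc32d) (.leaf 0)) (.node (.leaf 0x22b43e5a000028f44aa44b140ed28495ef4062f274222618b41d) (.leaf 0))))) (.node (.node (.node (.node (.leaf 0x1db10d5d000104200d590d580cf284314373d1ca4b724e3337bd) (.leaf 0x172c1ee000003649513f4ade0ae305930902447972155f2625fc)) (.node (.leaf 0x45d83fd10000188318ce2f351a958516151e12283f617851832d) (.leaf 0))) (.node (.node (.leaf 0x3da22b8500010db7235e262618530454482e65b121758151870b) (.leaf 0)) (.node (.leaf 0x9ea10c1000025474850383106b70551a60e84f25284c5214621) (.leaf 0)))) (.node (.node (.node (.leaf 0x2e630395000008ce1a5c1a5b12c70470530f11947313042c712d) (.leaf 0x2cb4211a000143724c2a3faa127284934943a341760740049156)) (.node (.leaf 0x2044430d00001e8e41f61e670e850496614a72115b57814862c7) (.leaf 0))) (.node (.node (.leaf 0x3cf90a4a000012f330ba051a18358530f869d7d25e8164000149) (.leaf 0)) (.node (.leaf 0x2dbf137100002ced38e9433112b385f1e70ce75934b41741d546)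 (.leaf 0)))))))))

/-- part of a table -/
def entries6 : Trie := (.node (.node (.node (.node (.node (.node (.node (.node (.leaf 0x12983196600010002000e000d10f10472772450b34c778b180518) (.leaf 0x22d4b2900002d6a3c6834f4048305b7305f57482f74a655a18b)) (.node (.leaf 0x3df44a56000113450630315e185784971e53f5ea4d114d15670b) (.leaf 0))) (.node (.node (.leaf 0x9333ca50001091a1b221b2106a38475cd2907662fd15414970b) (.leaf 0x27530b310000448e531d510710a684710d0f66aa70f6237b2586)) (.node (.leaf 0x2e3700d800011ef04273288312c384f01431e6361c55132c7546) (.leaf 0)))) (.node (.node (.node (.leaf 0x2e0217f8000004690e340e3312c10452553ec5f87f04d62c7000) (.leaf 0x494c44a700013708374613561c4405968732407f2b75b25be15f)) (.node (.leaf 0x4eb82773000118e23a891b7e1e338513e31754d46c12832cb049) (.leaf 0))) (.node (.node (.leaf 0x2076416900000e0726d926d80e8684d63d28d2f82e60d824d70a) (.leaf 0)) (.node (.leaf 0x12db51fc000025ba148348a80a368577d56302d22fb18e7b2734) (.leaf 0))))) (.node (.node (.node (.node (.leaf 0x322d04520000022b07570756146205b0651621b85126b570b6de)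 (.leaf 0x224124aa000031ec4f0e363f0ec40433a14995167124502ab7b2)) (.node (.leaf 0x23080ef5000115fa22a713da0ee10511703622f42fe0c21497bd) (.leaf 0))) (.node (.node (.leaf 0x5f361d00010b8f03882122044685f53357e7b41066d024d295) (.leaf 0)) (.node (.leaf 0x266152620000223537f145af10660437e10be7586463867b2156) (.leaf 0)))) (.node (.node (.node (.leaf 0x2ae54af1000006bc14cf0b0d123704b72a0b536528837b41d12d) (.leaf 0x3a58369c00013cf21e154ecd16c485153d6845a948951d2ab68a)) (.node (.leaf 0xa8386300011bd33e933e9e04550515664082d25894646de214) (.leaf 0))) (.node (.node (.leaf 0x4b982baa000110982c442c431c9185144a5a52801ce0ba4862c7) (.leaf 0)) (.node (.leaf 0x268d189800012963293a4b67107105b26447b7586595c7262518) (.leaf 0)))))) (.node (.node (.node (.node (.node (.leaf 0x6c409100001011203c403c306560490dd04201936e37924d149) (.leaf 0x5ef346a00002f9836a52efb04f505f50e64507e57b0342cb537)) (.node (.leaf 0x45c01f8e0001149f204233cf1a9504131d71543716b04751832d) (.leaf 0))) (.node (.node (.leaf 0x105540cf00010a50031e1e2608c584b62c7516924d361970a786)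 (.leaf 0xfc742fb000049cc4e014b6108b404f6604665500023227d9113)) (.node (.leaf 0x50b10c4b000120823e9135b71e728431294c02a03ec70d335025) (.leaf 0)))) (.node (.node (.node (.leaf 0x16650d1700000592118b118a0ac704b13d4737666386d870a70b) (.leaf 0xba3082e000039e84d493bb506f30470be73e0f42533477865be)) (.node (.leaf 0x1342f9122f900011a5808cc25c012f184337567261242a37b180518) (.leaf 0))) (.node (.node (.leaf 0x4cf5389100000f4b2997253c1cb684b5690e54d865b40a68a262) (.leaf 0)) (.node (.leaf 0x2fe503a0000278a496a4a1a049785d7af5d67854c266453718b) (.leaf 0))))) (.node (.node (.node (.node (.leaf 0x254e23c4000003490ad00acf104505d38d22e6ee3e735f7bd000) (.leaf 0x2b5d43660001346a30e950a4124585b66d4c63510d30db7bd000)) (.node (.leaf 0x221622650000176c3856380e0ec184d3692850117cc05932d124) (.leaf 0))) (.node (.node (.leaf 0x68f1b2400010cc8209a0766065405f2a90570f74912fa5be113) (.leaf 0)) (.node (.leaf 0x41d84a26000023ed1977475218f485171925b5250bd41f12d28f) (.leaf 0)))) (.node (.node (.node (.leaf 0x233b421b000107ea180518040ee285764950909e603234335025)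 (.leaf 0x450a23b00000409521db3c221a8105538b1697d17024a115632d)) (.node (.leaf 0x50a4192f00011d604090408f1e720492736e601221e04a3337bd) (.leaf 0))) (.node (.node (.leaf 0x2a2f483d000011f00a312ede122305f6e57da39f5c9242124546) (.leaf 0)) (.node (.leaf 0x48b4e4200002b644c0a4ca504d205777e16d35831d0392ab149) (.leaf 0))))))) (.node (.node (.node (.node (.node (.node (.leaf 0x137e0e080000008901f101f00a6785d15b3c85e253266a2625fc) (.leaf 0x55d4f3d00002e7f42c72ec304e485b79777d52502d09770b24d)) (.node (.leaf 0x3dd60f0a000113f232963295185584d17170c0060167e9518786) (.leaf 0))) (.node (.node (.leaf 0x13014d09000009b81cac08c60a640437602ff3741847407d924d) (.leaf 0x187c49a5000147074585180f0c2785970c2aa3a45f92d7295049)) (.node (.leaf 0x32e03ad200011fc00afa36fc147704159a0620f41d517d7865fc) (.leaf 0)))) (.node (.node (.node (.leaf 0x4dbd2180000104fe0fe402991cd385b35519809d73b1ee32d049) (.leaf 0x1f52569114e0001388c514851cd10470531b07696bd37024b02512d)) (.node (.leaf 0x2bf7382f000119993b9a3b99125784f5617cd3654553d57bd546)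 (.leaf 0))) (.node (.node (.leaf 0x3311495400010ea62836283514828437001d84905955b25fc428) (.leaf 0)) (.node (.leaf 0x4a1e0046000026a33b9849631c6185d0074363d34220b0214025) (.leaf 0))))) (.node (.node (.node (.node (.leaf 0x51aa0264000002b9091309121e9205503544550c4c60c95be70a) (.leaf 0x145150210001332f45f44cf40a858437ad0c77d13217147bd428)) (.node (.leaf 0x496716c7000016b90835373a1c4604f23843218341b69528f180) (.leaf 0))) (.node (.node (.leaf 0x9d946bc00000c2a10a822a406b68536c24ba05f1d740a68a2cb) (.leaf 0)) (.node (.leaf 0x4c014e6c0000230f399a46811ca10437805e418341b186214180) (.leaf 0)))) (.node (.node (.node (.leaf 0x3c792f1e00000756166b166a18258534927423ce2c9401000295) (.leaf 0x442d0a6700003ebb318b3c831a6205b0fb36968d0923e6546537)) (.node (.leaf 0x5164007900011ca13fa23fa11e8604900a3df2f808c7f824d2c7) (.leaf 0))) (.node (.node (.leaf 0x19a11243000011422d922d910c550431c72105a26d16f8537262) (.leaf 0)) (.node (.leaf 0x3be91ac200012a5a3ea34c1116f605329b1215bf0362ad11355a) (.leaf 0)))))) (.node (.node (.node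 (.node (.node (.leaf 0xb3049d60000019f058e058d06e384171016707c2d32e77865fc) (.leaf 0x15df51a4000030ba212242690ab485f7ce1c25a95727477d968a)) (.node (.leaf 0x1d662a8700001545102227010ce604d4334ad3807625c368a025) (.leaf 0))) (.node (.node (.leaf 0x304233b900000af11fa61fa514260454fd53524868f3c768a786) (.leaf 0x316539a200014d40538a1cd9144604b5821006680537fc24d295)) (.node (.leaf 0x36293fc60001216b0ba944e616230536142333763551cd734621) (.leaf 0)))) (.node (.node (.node (.leaf 0x30d70f030001062513271326143684f1713110065f63c7113786) (.leaf 0x3b94ccd00013b66470f25f104b385375a6056752c0073149621)) (.node (.leaf 0x13fa4f0f00001b143dae3dad0a7785579479e3ee1fb66a1245fc) (.leaf 0))) (.node (.node (.leaf 0x4f4427d00010ff32af02aef04d584965259a3b666546c32d214) (.leaf 0)) (.node (.leaf 0x2bf543eb0000287e4acc4acb125784b6794dc7595d063c02512d) (.leaf 0))))) (.node (.node (.node (.node (.leaf 0x2c25035b000003d80c570c86126204b04f69f6274f065e7d9156) (.leaf 0x2fd21ae9000035b451054e9712f58452a15880f539638c124156)) (.node (.leaf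 0x1d803c9100001827397439730cf10415cc10d14f3102672957bd) (.leaf 0))) (.node (.node (.leaf 0x35b030cf00000d662577257614f38414ba68f4796e55b47345be) (.leaf 0)) (.node (.leaf 0x28c21250000124d614d0480310d50451c90ca6aa55b51370a586) (.leaf 0)))) (.node (.node (.node (.leaf 0x314456e00000882199a0d8404a284969f4d17f23e03fc335786) (.leaf 0x4e3717dd0001428147ba53161e2384f2535401f771f3472cb049)) (.node (.leaf 0xadf299100011e240a4f418606d485f41b1845ac59034a2ab68a) (.leaf 0))) (.node (.node (.leaf 0x473b46d90001129c05f230231ae38576c631511d4484e20005be) (.leaf 0)) (.node (.leaf 0x2b4528e800002c7749514d34124504b4084436fa3d11797bd000) (.leaf 0)))))))) (.node (.node (.node (.node (.node (.node (.node (.leaf 0x20b73e2c00010045010201010e9284f5eb5871b448f2fa5fc2c7) (.leaf 0x68053dc00012dff45504dfe06540418067205500284045fc113)) (.node (.leaf 0x4c7447f00000139c320b320a1ca68496e00080da7f71a068a124) (.leaf 0))) (.node (.node (.leaf 0x33504c6e0001096c02d51bea148684174e72115a1b01ab28f428) (.leaf 0x1f7d4cb8000145c822522a150e4785b7562722b025b2b555a7d9))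 (.node (.leaf 0x1f9a003b00001f5d42da42d90e548550045876994f82fa5fc7b2) (.leaf 0)))) (.node (.node (.node (.leaf 0x15dd2e20000104b40f0d0f0c0ab485b47e0100f03d469b049113) (.leaf 0x243017b1000037d14303519c102384125113d6bd0df74d26212d)) (.node (.leaf 0x2c5449460001193e3b11019012658496ff30764776b1d241d156) (.leaf 0))) (.node (.node (.leaf 0x4c88182700010e53262f27881cb10512594a40f913032b21441d) (.leaf 0)) (.node (.leaf 0x2075202b0000263748ff48fe0e8684b32c49e21153f71328f2c7) (.leaf 0))))) (.node (.node (.node (.node (.leaf 0x397c2a500001027108380837168785942f2727481bd2b555a18b) (.leaf 0x3a2e48050000328436a7091716c205d6e130578f19203918b149)) (.node (.leaf 0x2a4415ae0001165c36ad36ac12260492196bc3123d16e97b2000) (.leaf 0))) (.node (.node (.leaf 0xb5d01c200010bda03a009e306e485b02a1554b83b963b62124d) (.leaf 0)) (.node (.leaf 0x457c4056000022a5461a1a4b1a878596203816b301814d51818b) (.leaf 0)))) (.node (.node (.node (.leaf 0x82b1ee200000706159b159a06830573090a87482f74cc55a18b) (.leaf 0x1809275f00013dd752d148730c240533e16a26b76f65433337b2))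 (.node (.leaf 0x1fc5320500011c3b3f1a3f190e5604b4d21e57886177fc24d180) (.leaf 0))) (.node (.node (.leaf 0x21c43780000110ed2cde2cdd0eb40495510381dc67b09770b15f) (.leaf 0)) (.node (.leaf 0x3bba1f17000129e04bc44bc316f385531123c28e6db0b07345fc) (.leaf 0)))))) (.node (.node (.node (.node (.node (.leaf 0x4f90be50000015804aa04a904d585311f2d04572920de32d734) (.leaf 0x28dd35f20001301d39254ef910d585b53108470840e3022c7586)) (.node (.leaf 0x1a0d45f3000114f006c834660c8105b6ab2722f871556255a2c7) (.leaf 0))) (.node (.node (.leaf 0xf6749cc00000aa11ee31ee208a604f70f67306418f62315f214) (.leaf 0x188d1d2200004b5b4ece10c40c3405b2d41af0811444da33515f)) (.node (.leaf 0x13ef086f000020f8448841240a7705f0ca7951070a478d2625fc) (.leaf 0)))) (.node (.node (.node (.leaf 0x4a0b0454000005dc0e53125b1c610570651fc69a0841957347bd) (.leaf 0x4844512400013aa851a7406b1c240497c617e4ca0ae63b70b15f)) (.node (.leaf 0x4ef0498000011aba08f23d311e358417060fa6c379517d2cb180) (.leaf 0))) (.node (.node (.leaf 0x33272dd600000fa20f8b2a41148304f47543e68b4fe3ef4862ab)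 (.leaf 0)) (.node (.leaf 0x262a0a640001280328f34a7410620550fb24937f4393227d9518) (.leaf 0))))) (.node (.node (.node (.node (.leaf 0x34254116c3000103910bac0bab10450432382467087da179025000) (.leaf 0x28744c6d000035112405193710c784974e6e86553bf78970a546)) (.node (.leaf 0x21003eca000117c838e238e10ea10415f96671837cc1ea786180) (.leaf 0))) (.node (.node (.leaf 0x3a8e0c2800010d161beb24c016d105d12660d4eb54058e428734) (.leaf 0)) (.node (.leaf 0x22b93c0d000124683cc416660ed28535bb5db10400157418b180) (.leaf 0)))) (.node (.node (.node (.leaf 0x259501ff000108360dca18d5105184b02d7df6ee62c5067bd586) (.leaf 0xff9087f0000418036741ed308b68530ce7f457660134415f734)) (.node (.leaf 0x4c7e35a700001dc1385d410a1ca685d52c4270874695c3113262) (.leaf 0))) (.node (.node (.leaf 0x26101dc8000012492f7a2f7910618412e547b758646435262156) (.leaf 0)) (.node (.leaf 0x292d14c600002bef4306466e10e205b2052885030c736b049518) (.leaf 0))))))) (.node (.node (.node (.node (.node (.node (.leaf 0x45c64c69000000cd02da02d91a9504d74e50d1e044d20e15632d)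 (.leaf 0x1250243d00002f064e8933020a2684139660c35300b38615f214)) (.node (.leaf 0x1aec3d5c00001444332a09f10c960595da5a62803815cb24d70a) (.leaf 0))) (.node (.node (.leaf 0xef90be600000a041d6c1d6b089785311f3962ea4c20db7bd18b) (.leaf 0x20d51bc80001484153d214240e9584b2b91bf2b460333e53770a)) (.node (.leaf 0x2d31400c000120212c90240212a384361a57f7596ce6fe41d546) (.leaf 0)))) (.node (.node (.node (.leaf 0xa912e9c0000054710b210b106d284348859378f43622618b149) (.leaf 0x373517b80000393827fe51ef164384b25136f42347533e537335)) (.node (.leaf 0x11b737a8000019fb13f53c2808f384f5534547ac58a3142625be) (.leaf 0))) (.node (.node (.leaf 0x46a54e3d00010ef928eb28ea1ab204b77d5ef680062291546214) (.leaf 0)) (.node (.leaf 0x2f43248f000127162d9a0b8812e504739d80161258d677124156) (.leaf 0))))) (.node (.node (.node (.node (.leaf 0x1cc641980000030209f307ae0cd404d6403be1dc3662982ab7b2) (.leaf 0x2f6e1b8d000133ca47624f2612e605d2b27676277d518e15f518)) (.node (.leaf 0x19e813d80000171037cc37cb0c570511f24c34d46495626de049) (.leaf 0))) (.node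 (.node (.leaf 0x2efd37e000010c7a0854236212d785b5580f22353161112c712d) (.leaf 0)) (.node (.leaf 0x4b7a165b0001237d294f067f1c8685522a4822a214e7d624d2c7) (.leaf 0)))) (.node (.node (.node (.leaf 0xdef18d40001079f17350759087705f26c2740f408638c1245fc) (.leaf 0x34360f4200003fa24e914eca14c284d17e23d1481a861818b295)) (.node (.leaf 0x4a8e39b800001cfe401f401e1c7105d5843640ec1e94c57347bd) (.leaf 0))) (.node (.node (.leaf 0xa174b340000119706a92e3706c284f73123d14820a61818b295) (.leaf 0)) (.node (.leaf 0x53c344eb00012ae24c5640911ed404768f61114b0103b82ab15f) (.leaf 0)))))) (.node (.node (.node (.node (.node (.leaf 0x126a32b6000001e5067206710a270554e542476417e77a41d333) (.leaf 0x1c824297000031464f8f4f8e0cd10456574651913a158e428124)) (.node (.leaf 0x10aa46a0000115a03259359108d30556c10175ea5c530470a70b) (.leaf 0))) (.node (.node (.leaf 0x3f0d19b300000b3f20652064188105b2810dc49028a04715632d) (.leaf 0x115827bf00014f7431013a8908e48513e97fb63752232e7d928f)) (.node (.leaf 0x437d2388000121ce455545541a4785b38538167505214d51870b)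 (.leaf 0)))) (.node (.node (.node (.leaf 0x222424f50000067113f813f70ec20493a72e56c351b61d2ab41d) (.leaf 0x2ae93df900013c3652921ccf12370535e757f75901f6fe41d546)) (.node (.leaf 0x3bd651c700011b7320dd3e1b16f484d7d038b7331f97fe33328f) (.leaf 0))) (.node (.node (.leaf 0x46844e3400001047102e19d21ab104977d28b3582fb164586149) (.leaf 0)) (.node (.leaf 0x1d64ff7000128f40efd4179047684d7a953459c64e09511355a) (.leaf 0))))) (.node (.node (.node (.node (.leaf 0x158b3c25000004210d5b0d5a0ab10575c03d845c650242262149) (.leaf 0x78f2ebd0000364a206d4152067405f48a7a01fd0654a833524d)) (.node (.leaf 0x1cde5186000118833a013a000cd485d7cc1842a445e34a2ab15f) (.leaf 0))) (.node (.node (.leaf 0x465c06da00000db8262826271aa48590a25f96e2038790546113) (.leaf 0)) (.node (.leaf 0x42f743ef0001254748513b3a1a3584f67974578f4364e2000149) (.leaf 0)))) (.node (.node (.node (.leaf 0x20e40b16000108ce1a5d02ae0e9604910a1e52b46637fc24d70a) (.leaf 0x39c74c63000143735389152a169604f74e1ad1e016b69528f32d)) (.node (.leaf 0x44c92ced00011e8e41f710a91a740534655dd1fd06517a54624d)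 (.leaf 0))) (.node (.node (.leaf 0xf02903366f000012f430bb232010e104753a7f650348341741d518) (.leaf 0)) (.node (.leaf 0x316f286000012cee2c073782144605f3fe0686517260d828f149) (.leaf 0)))))))))

/-- part of a table -/
def entries7 : Trie := (.node (.node (.node (.node (.node (.node (.node (.node (.leaf 0x4da9104b000000030010000f1cd305319a5851851590de32d049) (.leaf 0x14560e2a00012d6b4db63af20a8584d15e6394e8771718025428)) (.node (.leaf 0xee207ab000113473160315f08970450b56252cd3242e40252ab) (.leaf 0))) (.node (.node (.leaf 0x1cc12070001091b1b241b2304760591c31c40d048d2ad11355a) (.leaf 0x163604180000448f294d4e340ac384d06061067553575b2c7621)) (.node (.leaf 0x3c4038b300001ef212a54274182404156b1435f77e579012d113) (.leaf 0)))) (.node (.node (.node (.leaf 0x39c91b59000104690e360e3516960532ae5993994a93de24d32d) (.leaf 0x3ff704400001370a169a516e189784f0631402ea3527db51818b)) (.node (.leaf 0x53f83af1000018e31e043a8a1ed585159e0500da79746c32d262) (.leaf 0))) (.node (.node (.leaf 0x129b126a00000e0826da1d540a348571ce4595a949c4f47d9113)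 (.leaf 0)) (.node (.leaf 0x25930967000125ba48aa48a910518470e442a3343072e4025586) (.leaf 0))))) (.node (.node (.node (.node (.leaf 0x1cdf0ca80000022c075907580cd485f1332063876493b82ab15f) (.leaf 0x50ee0093000131ec4fc74fc61e7605d00c19a38031e28768a025)) (.node (.leaf 0x278e359b000115fb361c2d3e10b205d52b57a6aa02b4b17d9000) (.leaf 0))) (.node (.node (.leaf 0x3605011e00000b9021242123162204b01877657155504a3352cb) (.leaf 0)) (.node (.leaf 0xe25205d0001223545b031a9088304b3324e927925371402518b) (.leaf 0)))) (.node (.node (.node (.leaf 0x20922155000106bc14d114d00e918453503212410dc58055a70a) (.leaf 0x2a87415500013cf63cc2513b123204f63a40c3517ee747049586)) (.node (.leaf 0x45dd05cd00001bd434463e9f1a9585b08871543721a15d518428) (.leaf 0))) (.node (.node (.leaf 0x9c226ea000010992c450c6006b60453d750705f4d34e168a786) (.leaf 0)) (.node (.leaf 0x469a370f0000296427fb46161ab185554774578f167147000295) (.leaf 0)))))) (.node (.node (.node (.node (.node (.leaf 0x35711f870000011303c603c514e684331d21713c16b1a068a6de) (.leaf 0x2fe30f2e00012f99305d178012f604717571f0f57df30a15f156))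 (.node (.leaf 0x30233acb000014a033d133d014230475995b83616746ad734621) (.leaf 0))) (.node (.node (.leaf 0x647524400000a511e281e27064604f7df20c65121b69528f149) (.leaf 0x43b2154a000049cf4bdd17751a5384520f4b705b47547a156621)) (.node (.leaf 0x46a6366100002083441e43f01ab204d53a0294eb0401e412d734) (.leaf 0)))) (.node (.node (.node (.leaf 0x37ee0a4e00010592118d118c165605d0f87f53d623c7d628f295) (.leaf 0x4ed52474000039e935db27491e3484b39c23b1203bc7f970b7b2)) (.node (.leaf 0x31df3ce900011a593cab10d2145485f5d254c6e20bb0435fc68a) (.leaf 0))) (.node (.node (.leaf 0xb76502800010f4b2999299806e584d7ad5f12222587042cb537) (.leaf 0)) (.node (.leaf 0x51542b430000278b37f702691e8584944417c3fa48124055a2c7) (.leaf 0))))) (.node (.node (.node (.node (.leaf 0x20c4e46000103490ad20ad1048205977e3a97d15a51775be32d) (.leaf 0x211d4218000034713e6e50a50ea185b64939d30f34217d786180)) (.node (.leaf 0x341007190000176d0bdb385714c18410a73934eb70e236428734) (.leaf 0))) (.node (.node (.leaf 0x284251c600000cc92418241710c50457d037370809a3d92c7586)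 (.leaf 0)) (.node (.leaf 0x40725386000023f04754475318a78458003dc5a31424e2586333) (.leaf 0)))) (.node (.node (.node (.leaf 0x2ed33f34000007eb063c180612d58476051de3303e82d970a000) (.leaf 0x2a7413f9000040973df3271c12278491f457f75906c37b41d12d)) (.node (.leaf 0x403351d700001d614091213718a28477d33206800621be546214) (.leaf 0))) (.node (.node (.leaf 0x518016e1000111f02edf27e71e9104123a12e6980f37814862c7) (.leaf 0)) (.node (.leaf 0x38964fc500002b6531174ca6167184d7a62ba7e4069034786537) (.leaf 0))))))) (.node (.node (.node (.node (.node (.node (.leaf 0x31a42b8c0001008901f301f214530494484fd5a30a00ba537333) (.leaf 0x3666169400012e7f43b631c3162704d23029a5ea7a057d295621)) (.node (.leaf 0x3ba84241000013f31000329716f305164c09b2e90227507345fc) (.leaf 0))) (.node (.node (.leaf 0x43ac1529000109b81cae1cad1a5305920c4bd3ed1603da518621) (.leaf 0x1ac00801000147093bab4f760c950410bc1f42417627815372c7)) (.node (.leaf 0xca6451a00011fc12b134350083504d69347e3ce20b78d124295) (.leaf 0)))) (.node (.node (.node (.leaf 0x24c0b000104ff0fe60fe5044404574367d13415512a5fc68a)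 (.leaf 0x2d9241be0000388d51be3e3912b28456425d46fa3f336a7d9000)) (.node (.leaf 0x3de24e2d0000199a3b9b09e1185704577b79d37653e67e51870b) (.leaf 0))) (.node (.node (.leaf 0x23290efe00000ea71eff28370ee20531707762f44d704a3357bd) (.leaf 0)) (.node (.leaf 0x47230bf3000126a33d5b2c6d1ae30471215784793257b60005fc) (.leaf 0))))) (.node (.node (.node (.node (.leaf 0x3bd12f49000102b90915091416f48434964d13824343fc33528f) (.leaf 0x3e750a89000133301aae2e16186784b0fe5c40f42737ae0005be)) (.node (.leaf 0x5054fe3000116b908b4373b04e204b7a817e3ea65463b70b6de) (.leaf 0))) (.node (.node (.leaf 0x48f711a200010c2a22a622a51c3584f1bb10610441b7042cb180) (.leaf 0)) (.node (.leaf 0x8303ca900012310428415ed06838415cd5f57487f542055a2ab) (.leaf 0)))) (.node (.node (.node (.leaf 0x220e223c00010756166d166c0ec105d36664e0876a848c32d262) (.leaf 0x1b6f271c00003ebc1df041ed0ca705f3dc20b2b0108704786049)) (.node (.leaf 0x3d80313e00001ca225083fa318510414c172357141c79f156786) (.leaf 0))) (.node (.node (.leaf 0x3b814bb1000111432d93285716f104373d0213a87712d7295486)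 (.leaf 0)) (.node (.leaf 0x15eb3e6e00012a5d40474c120ab60575f073057610f62315f214) (.leaf 0)))))) (.node (.node (.node (.node (.node (.leaf 0xce4317d0001019f0590058f08370494c665b3e437537b41d333) (.leaf 0x12582a1c000030bb1dca4df10a2685142a78206458955c15f214)) (.node (.leaf 0x326c406500011545350034ff14670596223f925f7eb79c2cb5fc) (.leaf 0))) (.node (.node (.leaf 0x39e147fd00000af21fa81fa716970436e079a1bc45d05d55a18b) (.leaf 0x382466400004d414726339f04b20456bb25e0061ac2f93332cb)) (.node (.leaf 0x2cc539780000216c446e44e7127504b57c40e5dc1d01d241d156) (.leaf 0)))) (.node (.node (.node (.leaf 0xd445159000006261329132808660497c941516677455c7b2486) (.leaf 0x2b593e9600013b684623526412458535f34835f80ee63c7bd586)) (.node (.leaf 0x5310413b00011b1609253daf1ec284163868478858861d2ab41d) (.leaf 0))) (.node (.node (.leaf 0x494711c900010ff42af22af11c4404f1bf5225165f22fa5fc7b2) (.leaf 0)) (.node (.leaf 0x1ab3251c0001287e0ec71ff30c928473aa66927d3810135fc70a) (.leaf 0))))) (.node (.node (.node (.node (.leaf 0x45a8424d000103d801180c871a9305164c63f2ea48226851818b)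 (.leaf 0x493117da000035b551064d2b1c438432534564fb3372b56de7d9)) (.node (.leaf 0xd74265d0001182707f7397508678493c66e732859374d2625be) (.leaf 0))) (.node (.node (.leaf 0x85e500400000d6725781420068685d7aa24f4e87876d024d428) (.leaf 0)) (.node (.leaf 0x17365321000024d7480431be0ae384d7f402b32804538c2625fc) (.leaf 0)))) (.node (.node (.node (.leaf 0x1e23418700010882199b157c0e2504763f20a2f24330b021441d) (.leaf 0x23a94b02000142824cd04ff10ef205372d1f13d3140543333025)) (.node (.leaf 0x1ed93b3500001e25418841870e368535a441e26e5e121868a262) (.leaf 0))) (.node (.node (.leaf 0x10ee53930000129d3024251108d705d8010ca5ea5722d970a621) (.leaf 0)) (.node (.leaf 0x8863cc400012c77445841cc069204d5d03bb43716b12a5be32d) (.leaf 0)))))))) (.node (.node (.node (.node (.node (.node (.node (.leaf 0x368e037a0000004601040103163205d0515ec0c31a14b53352cb) (.leaf 0x234224a300012e0030261d740ee50453a120a1ca1c70b0214025)) (.node (.leaf 0xb670d190001139c1af30b3606e504f13d57768d3a617b2cb486) (.leaf 0))) (.node (.node (.leaf 0x524e38470000096d1bec1beb1ea405d56456f07f4591a23337b2)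 (.leaf 0x34243a4000045ca530945d804a604567219a72b3234e168a786)) (.node (.leaf 0x3c824b1200001f5e42db0214183204572f1363b346d1e4546734) (.leaf 0)))) (.node (.node (.node (.leaf 0x2adf1816000004b50f0f0f0e123685f2582433511306237b2586) (.leaf 0x510f2f62000137d13785519d1e8105f49a0f843f7a566e53770a)) (.node (.leaf 0xca22e630000193f2102055408350454832747b40fa314124149) (.leaf 0))) (.node (.node (.leaf 0x20c62b2d00000e541b0227890e9504d4426821b448f71c5372c7) (.leaf 0)) (.node (.leaf 0x3de5498300012638183a4900185704b7063637666e614d15670b) (.leaf 0))))) (.node (.node (.node (.node (.leaf 0x3de4505b00000272083a083918570497b15b577c3d426815670b) (.leaf 0x52e11fd100013284500450031eb604332307672411f1a0113124)) (.node (.leaf 0x32ac06160001165d36af36ae147205909149c6a347244b62155a) (.leaf 0))) (.node (.node (.leaf 0xce8386200000bdb21e702c008370515663d25f410b6fe41d335) (.leaf 0)) (.node (.leaf 0x4ce346b000122a50cd833f004d405d50e6a05012816182ab113) (.leaf 0)))) (.node (.node (.node (.leaf 0x4d5d064300000707159d159c1cc485b09429d3876096ba2ab7b2)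 (.leaf 0x18633bba00003dd8272843a20c270475b541c00f5eb09f2957d9)) (.node (.leaf 0x38b20e9000001c3c3f1c3f1b167284516812679b4bb22162155a) (.leaf 0))) (.node (.node (.leaf 0x4362315f000110ee2ce02cdf1a470454c376277c3d411a15670b) (.leaf 0)) (.node (.leaf 0x342814ed000029e14bc64bc514c205120864b08b2695b72ab149) (.leaf 0)))))) (.node (.node (.node (.node (.node (.leaf 0x1d633fe90000015904ac04ab0ce60476165070125a84e168a7bd) (.leaf 0x469c41d20000301e172f033e1ab185964410a65127e7b5586295)) (.node (.leaf 0x48b800a6000014f12f2a24a01c3385100d2fb08334b6287867d9) (.leaf 0))) (.node (.node (.leaf 0x254f3e9700010aa103391ee4104505f5f34c430016f7187bd000) (.leaf 0x435439a700004b6053ef10361a458495823814cf0531785182cb)) (.node (.leaf 0x46ed1657000020f9448901e41ab705b22a2b966c1507b5586335) (.leaf 0)))) (.node (.node (.node (.leaf 0x41273728000105dc0354125c18e304f5495da28e24f47c5865be) (.leaf 0x206433b017d00013aa918f950571a438570227527662fd58115670b)) (.node (.leaf 0x23963e5c00001abb3d1c1b150ef184d5ef6063d33e12b6295025) (.leaf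 0))) (.node (.node (.leaf 0x404b1e2700010fa22a432a4218a40572f54715af1a380454668a) (.leaf 0)) (.node (.leaf 0xd2c3faf000028044a764a7508650596107f71b857c1d21806de) (.leaf 0))))) (.node (.node (.node (.node (.leaf 0x359f51700000039202860bad14f185f7cb04c3a83f804b295486) (.leaf 0x82d43bc000135132ee419ae068305b6737062797c22b56de18b)) (.node (.leaf 0x28811ff000017c938e438e304920511c26a65ce1971775fc32d) (.leaf 0))) (.node (.node (.leaf 0xe132d4500000d1724c10f01088184746b2a94904fd6b47bd32d) (.leaf 0)) (.node (.leaf 0x199725400001246937c41ee30c5484f3ad06b1765bb6c55fc15f) (.leaf 0)))) (.node (.node (.node (.leaf 0x7a353bf0000083718d718d6067504780373f77237c57d149537) (.leaf 0x524c2cd7000141811e214f7e1ea40594624300816bb29c33515f)) (.node (.leaf 0xb6d2e2100011dc1295338a206e505b47e06725d17c79c786537) (.leaf 0))) (.node (.node (.leaf 0x392b3cb2000112492f7c2f7b16830575cf3f627925322753718b) (.leaf 0)) (.node (.leaf 0x3f613f3000012bef4b444ce518870436050dc3171100471562ab) (.leaf 0))))))) (.node (.node (.node (.node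 (.node (.node (.leaf 0x68d00bc000000ce02dc02db065405b00e67a1347631b15fc68a) (.leaf 0x501c06e900002f074e8a2cb81e618590a43e03fb7a9186214025)) (.node (.leaf 0x32560fd00001144421ae332b146484d1900354b86a075562128f) (.leaf 0))) (.node (.node (.leaf 0x3752295100010a041d6e1d6d16448454130515a97006b65be113) (.leaf 0x16cc4d3f00004842424547120ad50597657a905f4966192c7786)) (.node (.leaf 0x319d08480000202243b801d2145185b0c656b01d66505d55a214) (.leaf 0)))) (.node (.node (.node (.leaf 0x18d712410001054710b410b30c3684f1c70eb724578095113124) (.leaf 0x23b948ab0000393939801c1a0ef28536f06c91cb3ab29c335025)) (.node (.leaf 0x10e939ed000019fc3c2a3c2908d705358876b6755901452c7621) (.leaf 0))) (.node (.node (.leaf 0x21e106000000efa28ed28ec048285d19d15815a5fe3465be428) (.leaf 0)) (.node (.leaf 0x2f1736ff000027182b3b3e8712e184f5447970f54c4132180518) (.leaf 0))))) (.node (.node (.node (.node (.leaf 0x4a7811880001030209f509f41c668511b64ba3d342203f68a025) (.leaf 0x377013fe000033cb506907df16468411f472114829b7fc28f295)) (.node (.leaf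 0x263024cf0001171035be340f10628413a37fb5c61de7407d9156) (.leaf 0))) (.node (.node (.leaf 0x462e480800000c7b236300921aa205d6e14b03b62ba65c12d734) (.leaf 0)) (.node (.leaf 0x1c07440a0000237f1eaa15d20cc104f67b5942e165d58e32d124) (.leaf 0)))) (.node (.node (.node (.leaf 0x46f84bc7000007a0173616711ab785173e55176405a164586335) (.leaf 0xeb63f7a00013fa35319528c089384d60c52d79806877702518b)) (.node (.leaf 0x166608ad00001cff3f4440200ac704d0d37415b15ec2d92c7621) (.leaf 0))) (.node (.node (.leaf 0x2f734335000011982e392e3812e68476672433417692d87b2156) (.leaf 0)) (.node (.leaf 0x325e3b2200002ae34c573216146485d5a12083826e323162128f) (.leaf 0)))))) (.node (.node (.node (.node (.node (.leaf 0x253781313d000101e50674067316510434c16d368041c56255a734) (.leaf 0xd5634750001314639df1343086684d51015973900c18e7b2486)) (.node (.leaf 0x4eb7141d000015a1359335921e3384f1f653b2b012f034786049) (.leaf 0))) (.node (.node (.leaf 0x4d43063700010b3f206720661cc404709340f07f16508e18b15f) (.leaf 0x1d7d3d5b00014f78340444a10ce685b5da4ba3d34d240a68a7bd))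 (.node (.leaf 0x521613c1000021cf2dea44971ea184d1f108830f7da60073441d) (.leaf 0)))) (.node (.node (.node (.leaf 0x7c74d7b0001067113fa13f9067604f76b5cf1b807861368a55a) (.leaf 0x3aad302e00013c3752934eae16d205b4ac7a63ce36e61d18b149)) (.node (.leaf 0x2c900e9f00001b743e1c3c9612718411686606470a11ec262518) (.leaf 0))) (.node (.node (.leaf 0x53fb1ab6000110472b9f2b9e1ed585729a36026e307020428124) (.leaf 0)) (.node (.leaf 0x7690e0f000028f640c24471066705315b74e7ac3be6357345be) (.leaf 0))))) (.node (.node (.node (.node (.leaf 0x1fbc1bb5000104210d5d0d5c0e558592b82105a223e781537124) (.leaf 0x36b42f9d0001364a51415140163384949e5e44f2549186214621)) (.node (.leaf 0xd2a1f97000118853a02378b086505531e4697e85855ed41d6de) (.leaf 0))) (.node (.node (.leaf 0x10c80e1800010db8262a262908d505115c4674cf6067892c7786) (.leaf 0)) (.node (.leaf 0x4fbb2e5e000125480d4f1c9e1e538574827871853ca41855a7d9) (.leaf 0)))) (.node (.node (.node (.leaf 0x35d511b000008cf1a5f1a5e04a685b7c561a05f7d018a68a786) (.leaf 0x4a7e523f0000437429ae4e511c6685d7de5e6257017392113025))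 (.node (.leaf 0x3f6a4ca500011e8f0a8f41f818870557534704ef56811a51818b) (.leaf 0))) (.node (.node (.leaf 0x33690321000112f430bc1809148705304c03a3170bd46455a2ab) (.leaf 0)) (.node (.leaf 0x1db0f9000002cef1f682fbc047685718904d2373933c71136de) (.leaf 0)))))))))

/-- part of a table -/
def entries8 : Trie := (.node (.node (.node (.node (.node (.node (.node (.node (.leaf 0x297121dd000100030012001110e684335c71032756629415f156) (.leaf 0x3e72233000012d6c112e3d59186784537c01b32831c7e25865be)) (.node (.leaf 0x7244c850000134831623161066504975146d3986d9202149537) (.leaf 0))) (.node (.node (.leaf 0x2ffb07910000091c0d7c1b2512f68570b118d64714e2f17b2156) (.leaf 0x418b23bd000044934b8f072818f205738b71d2223e565c546486)) (.node (.leaf 0x1004403300011ef24276427508c104961e1166926fb78970a786) (.leaf 0)))) (.node (.node (.node (.leaf 0x3d2c04000000046a0e380e37184305905c0c050854e12b156621) (.leaf 0x28f505af0000371037042f6110d784b0857010c40101452c7546)) (.node (.leaf 0x1a6334e0000018e43a8c3a8b0c8604751b0451b94bd0cf28f2c7) (.leaf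 0))) (.node (.node (.leaf 0x394d184800000e0926db08b9168605b25c3df4904fd5cb24d32d) (.leaf 0)) (.node (.leaf 0x214a1f3f000125bb358b3bf40ea40553157b04ca65723170b15f) (.leaf 0))))) (.node (.node (.node (.node (.leaf 0x507044330001022c075b075a1e6684167f31a14f1de0c568a7bd) (.leaf 0x1c72b0030e9000131ed47864fc812410414bc4436fa4aa24b7bd586)) (.node (.leaf 0x2b3250f2000015fc361e361d12438457c20f339f33c3b002512d) (.leaf 0))) (.node (.node (.leaf 0x528a19bc00010b90212621251eb10552817260f91f054a214180) (.leaf 0)) (.node (.leaf 0x4c1211350000223645b13e281ca18451af38f6dd3f3416214180) (.leaf 0)))) (.node (.node (.node (.leaf 0x8db2e2f000006bd14d20453069685747e7ea0cd17c0d824d428) (.leaf 0xd40265e00003cf74a1852af08660413c675e6cf2256e97b2537)) (.node (.leaf 0x26ad061400001bd53ea00d71107205b0914881ef4733b1049518) (.leaf 0))) (.node (.node (.leaf 0x53bd36280000109b2c472c461ed385b53451218559d43b32d7d9) (.leaf 0)) (.node (.leaf 0x4df44f9100012964482b17d01cd58497a10d472465b62f32d262) (.leaf 0)))))) (.node (.node (.node (.node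 (.node (.leaf 0x21661bc60001011303c803c70ea704d2b91284fb13617b2cb7d9) (.leaf 0x2d1545b600012f9a4ec949a312a284b6a543a3510d336b049000)) (.node (.leaf 0x400f45a9000114a00c0833d218a105f6a45246682697e2586149) (.leaf 0))) (.node (.node (.leaf 0x4e882c5c00010a511e2903931e320514586d24d83dd63b70b124) (.leaf 0x498c52d1000049d6531f1ac81c510597ec1bf6a980933e537124)) (.node (.leaf 0x2edf032a00012083441f13e312d585f04c64645a76551370a586) (.leaf 0)))) (.node (.node (.node (.leaf 0x3f270a7c000005930662118e188304f0fc4704ef1b37e95182ab) (.leaf 0x1d933e44000139e93e834da20cf18475ee24a0ec0b9545295025)) (.node (.leaf 0x180a49ad00001a5a3cac3c600c2405570c5720fd5f923433515f) (.leaf 0))) (.node (.node (.leaf 0x1ac838f600000f4c0afe299a0c950515701bf2b41695385372c7) (.leaf 0)) (.node (.leaf 0x17c2bed14990000278d2be24a1b125705b2004c768948850602512d) (.leaf 0))))) (.node (.node (.node (.node (.leaf 0x4ab414bc0000034a0ad40ad31c7284920473d1ca2ec70d333025) (.leaf 0x2fde15ca000034722aab4a2712f585d21b50e341377314124518)) (.node (.leaf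 0x4f7338bb0000176e385827be1e4684756b57e0ea0244ea24d180) (.leaf 0))) (.node (.node (.leaf 0x240465700010cc918ef241904860416b93af4e83481ab24d428) (.leaf 0)) (.node (.leaf 0xa610886000123f01cdf215b06c50430d138e4eb52c0de428734) (.leaf 0)))) (.node (.node (.node (.leaf 0x2d12d15000107eb025a180704968434682512287a337928f32d) (.leaf 0x1a8231cf000140973f1b533b0c910454cd77127d4d258055a70a)) (.node (.leaf 0x15c8500c00001d6228bc40920ab40517aa5b642d69169b7d9113) (.leaf 0))) (.node (.node (.leaf 0x34b2728000011f12ee0276c04a60573dd4ad72b0aa13768a786) (.leaf 0)) (.node (.leaf 0x27be29fc00012b6538994ca710b385d4276c265575f5bc41d12d) (.leaf 0))))))) (.node (.node (.node (.node (.node (.node (.leaf 0x2eb117e50000008a01f501f412d38432541812356ce72c2c7546) (.leaf 0x1f7430fd00002e804d20243f0e478494bd71e2b046f42055a7d9)) (.node (.leaf 0x46f5289e000113f332981aa61ab784b40263d5f416a7c4586333) (.leaf 0))) (.node (.node (.leaf 0x182f4ed3000009b91cb01caf0c2505f7911d46c315354a734180) (.leaf 0x312002e000004710534c5391144304104209016e06f69c537333))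 (.node (.leaf 0x4ec115b000001fc2203a3e471e3404321a0381dc7b907570b7b2) (.leaf 0)))) (.node (.node (.node (.leaf 0x85d10c5000105000fe80fe7068685b1a620f00523037928f32d) (.leaf 0x112320590001388e48a951ce08e30473322c447949e78d2625fc)) (.node (.leaf 0x4101e940001199a3b9d3b9c04c28412ff29d3581d46ba2ab295) (.leaf 0))) (.node (.node (.leaf 0xb10541245e00010ea82839283804e404339a6836ef05144b70b24d) (.leaf 0)) (.node (.leaf 0x153d0247000026a428a817bb0aa385b03240742347565341d335) (.leaf 0))))) (.node (.node (.node (.node (.leaf 0x42ce2707000002ba091709161a3405d3db4b05f738b65c12d113) (.leaf 0x244801200001333150344df6102605101a0be33416f6e97b2000)) (.node (.leaf 0x75b44f6000016ba373c30ca06668576903117e857c3c71136de) (.leaf 0))) (.node (.node (.leaf 0x3e28217200010c2b03bb22a7186205135414307e0e702712d537) (.leaf 0)) (.node (.leaf 0x4ada453e0000231230301ba21c758556967c114f1d3154295025) (.leaf 0)))) (.node (.node (.node (.leaf 0x2b1245ce00000757166f166e12418456a65fb3123cf60a025000) (.leaf 0x4fa91d1c00003ebe506a509d1e530532d356b29e18d05d55a7d9))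 (.node (.leaf 0x4d1e140e00011ca23fa53fa41cc285d1f57c00f945452018b41d) (.leaf 0))) (.node (.node (.leaf 0x130b44f8000111442d952d940a6405769040c1fd31c74704928f) (.leaf 0)) (.node (.leaf 0x15dc09ef00002a5e228b4c130ab48590ee7a85736e665e049113) (.leaf 0)))))) (.node (.node (.node (.node (.node (.leaf 0x36c306f1000001a00592059116360470a519a72b4ae4e168a786) (.leaf 0x1be2580510a000130bb322e4d2c10510417c354130040072e7bd000)) (.node (.leaf 0x3cc14ef40000154634e83501183404379335e50126d79012d113) (.leaf 0))) (.node (.node (.leaf 0x2ad6498b00000af31faa1fa9123684d70663035164118e7b2586) (.leaf 0x11212a4700004d4353d3225108e304342e15e25f57e0bf1245be)) (.node (.leaf 0x23b83c060000216d44e833c60ef28515bb49f2576ac70d335025) (.leaf 0)))) (.node (.node (.node (.leaf 0x18fe4d8c00000627132b132a0c3785d76c63209d7a709f2957d9) (.leaf 0x4769021500013b6e526652651ae505302f32c65a4fc0485866de)) (.node (.leaf 0x1bac37f600001b17156c3db00cb20595593c319153c075621124) (.leaf 0))) (.node (.node (.leaf 0x51741bef00010ff52af42af31e868492bb7211b94dc1ab28f2c7)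 (.leaf 0)) (.node (.leaf 0x3258098f0000287f3c21496414648510e677d52573707570b28f) (.leaf 0))))) (.node (.node (.node (.node (.leaf 0x4db0578000003d90c890c8804d485707b5325a96422982ab113) (.leaf 0x2f2801a7000135b53acd23d412e205102846b0f500e36b7d9518)) (.node (.leaf 0x4dc5426600001828397739761cd404b6505e907f1655b718b15f) (.leaf 0))) (.node (.node (.leaf 0x1393377800000d68257a25790a7484754f5d438277336a7d924d) (.leaf 0)) (.node (.leaf 0x2d703dc2000024d84806480512a78415e413a39f5f24a2124546) (.leaf 0)))) (.node (.node (.node (.leaf 0x150404c200010883199c049e0aa104906c27178f1b50b2262295) (.leaf 0x44e5349200004284536f49e81a7704b51221f2e94997c45865be)) (.node (.leaf 0x32930da900011e252c231890147184715253d77248d0342cb537) (.leaf 0))) (.node (.node (.leaf 0x317447e50001129d0879259d14468496df20f1484d537928f149) (.leaf 0)) (.node (.leaf 0x340c302600002c7825d14d3514c10594ac48d2d2296236428734) (.leaf 0)))))))) (.node (.node (.node (.node (.node (.node (.node (.leaf 0x52912e7100010046001101051eb184348410234c7955ae214180)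 (.leaf 0x2f5c0aeb00002e014da3184512e5859106441612806435124156)) (.node (.leaf 0x367f01280000139d320d320c162785f01a52c77c38b207149621) (.leaf 0))) (.node (.node (.leaf 0x476068b0000096e1bee1bed04c584d09a5637ed28905932d734) (.leaf 0x486c4364000145ca2c8f3a581c2505966d35c2da47b6282cb41d)) (.node (.leaf 0x281a249d00011f5e4106325210c18553a06907084415132c7586) (.leaf 0)))) (.node (.node (.node (.leaf 0xe9b03c9000104b50f1006f9089185705652d0cd4af718025428) (.leaf 0x19c13f1c000137d2171349400c560436035a67885785cb24d41d)) (.node (.leaf 0x491c08140001193f085e3b121c418590bd21a0da7f76be486124) (.leaf 0))) (.node (.node (.leaf 0x44db46ed00010e54278a23aa1a748576c76f652564b1be12d24d) (.leaf 0)) (.node (.leaf 0x6ac00b50000263926231ac4065505900e3e501d04e42055a214) (.leaf 0))))) (.node (.node (.node (.node (.leaf 0x4161d5000010272083c083b04c284d2db0653ce5b874c18b295) (.leaf 0x51230eba0001328616b32bc11e8204716a50b3fa4c712a5fc2c7)) (.node (.leaf 0xc7f361b0000165e114536b0082785f5334aa3f15575ed180335) (.leaf 0))) (.node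 (.node (.leaf 0x311243f600010bdb21e921e8144184567a46a72506334555a214) (.leaf 0)) (.node (.leaf 0x21d31a25000022a6461b2ccc0eb484728b12617619f2216217b2) (.leaf 0)))) (.node (.node (.node (.leaf 0x12d532ee00000708159f159e0a3684b4e97820640673c115f734) (.leaf 0x491b2b5300003dd94a384ae21c418574452005a20d12a7537124)) (.node (.leaf 0x4cbc36ed00011c3c10da0cec1cb385954272229e73b2d7149049) (.leaf 0))) (.node (.node (.leaf 0x41741b9b000110ef2ce22ce118e58492b36163d04af02600055a) (.leaf 0)) (.node (.leaf 0x24dc1dec000029e2361f4b4110368592e85cd60b02329415f586) (.leaf 0)))))) (.node (.node (.node (.node (.node (.leaf 0x326904980001015904ae04ad14670530693297ac16d6282cb5be) (.leaf 0x4df238930001301e4f0a4f091cd58455693a54d8796174428262)) (.node (.leaf 0x1032f110654000114f11f6f346712e184309630764752341441d518) (.leaf 0))) (.node (.node (.leaf 0x1a28492900000aa21ee510010c820516fc3242112cc4765be70a) (.leaf 0x4e9f002000004b614cb145b71e3285f0031267037c5338621262)) (.node (.leaf 0x14c352fc000020fa140723ab0a950477f074643777b7187bd428)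 (.leaf 0)))) (.node (.node (.node (.leaf 0xfb93db3000005dd125e125d08b38535e313f4873c52f3180333) (.leaf 0x4d8417f300003aaa52393ae11cd204925520430f1a551d18b180)) (.node (.leaf 0xdf24ff300011abb3d32194b08778457a92c447968478d2625fc) (.leaf 0))) (.node (.node (.leaf 0x49d1428300000fa32a452a441c548436542ed16c4a55b25be15f) (.leaf 0)) (.node (.leaf 0x49220524000128044a773f181c430450743a64d47f44186de7d9) (.leaf 0))))) (.node (.node (.node (.node (.leaf 0x2d761ef0000103920baf0bae12a784d30e02b365455242262546) (.leaf 0x1b1e43d0000035144e5c3ed70ca185d67600b30f74f24778641d)) (.node (.leaf 0x181e4f64000117c938e638e50c2485d79d25938764923433315f) (.leaf 0))) (.node (.node (.leaf 0x3ad11aea00000d1824c21bf116d48432a163e5d325651d18b68a) (.leaf 0)) (.node (.leaf 0x20864e140000246b312e47ac0e9104d77938550c4f53456de2c7) (.leaf 0)))) (.node (.node (.node (.leaf 0x2aba3a5e0001083718d918d8123385559279e39f75e4de12412d) (.leaf 0x4c720b360001418439c852201ca684510d4e36a9809613113124)) (.node (.leaf 0x456d3f4b00011dc22b162f331a8705b6066c868b67a14d51818b)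 (.leaf 0))) (.node (.node (.leaf 0x6694aed0000124a2f7e2f7d064705372968142564410e486335) (.leaf 0)) (.node (.leaf 0x1531509100012bf24ce6263a0aa38437ba09a7a20372f341d333) (.leaf 0))))))) (.node (.node (.node (.node (.node (.node (.leaf 0x369601fa000100ce02de02dd163284d02d6342487094b53332cb) (.leaf 0x41a0058700012f073886451a18f304108043311d53613e0005fc)) (.node (.leaf 0x2f0901af00001445332c254012e10530287d40f51ce414180518) (.leaf 0))) (.node (.node (.leaf 0x1886090800000a051d701d6f0c3404d0dc4d007f1704a83337b2) (.leaf 0x414c1ab4000048433cd0535f18e405929a14358372f79012d28f)) (.node (.leaf 0x4a0a4ee500002024196e43b91c610557922c93807014167347bd) (.leaf 0)))) (.node (.node (.node (.leaf 0x27442d580000054810b610b510a604946d33c3344073c17b2586) (.leaf 0x16f906630001393a51f026e40ad78530981814f25093022c770b)) (.node (.leaf 0x317311e3000119fc3c2b0f3114468471c13e37bc37e69524d149) (.leaf 0))) (.node (.node (.leaf 0x1e0930ac00010efa04ad28ee0e240534b743008133124e3357b2) (.leaf 0)) (.node (.leaf 0x43f42c49000027192bf90a471a578494564bd3ed78e3da518621)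 (.leaf 0))))) (.node (.node (.node (.node (.leaf 0x124e2a1b00000303018909f60a2605d42a71f01d06649815f734) (.leaf 0xb4952eb000033cd474a506a06e40537ee49c76d7ec44b62124d)) (.node (.leaf 0x3a260eb00000171137ce37cd16c204d16a0a403e21b3b818b149) (.leaf 0))) (.node (.node (.leaf 0x2ec71fdf00010c7b1558236412d504f3237687576c23d970a586) (.leaf 0)) (.node (.leaf 0xd4334f20001237f46e31294086604751c0a607d31818e15f486) (.leaf 0)))) (.node (.node (.node (.leaf 0x38cc287c000007a117370aca16740593ff6d258329d7f970b28f) (.leaf 0x4256476600013fa444f6531a1a2484d6d337a5731f51e412d68a)) (.node (.leaf 0x158501000001d004022402104668517ab0086a30e71a068a6de) (.leaf 0))) (.node (.node (.leaf 0xee740cb000111982e3b2e3a089704f62c52d79800377702518b) (.leaf 0)) (.node (.leaf 0x474f2eed00012ae4401519fd1ae405f48e6f076d7ec7dc12d24d) (.leaf 0)))))) (.node (.node (.node (.node (.node (.leaf 0x3f1438a9000001e606760675188184956a60315a6d317815632d) (.leaf 0x26440068000031483e4b2b4c10650490092ac0b318137b180518)) (.node (.leaf 0xe7a4f3f000015a20bf718d908878557977d53174ec60a7bd18b)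 (.leaf 0))) (.node (.node (.leaf 0x38025fb00000b402069206804b20413bf48443156429c335786) (.leaf 0x4db0400e00004f7f439247e11cd384161a77414c6ce0cc32d7d9)) (.node (.leaf 0x41ea1460000121cf340d325b18f50551fc0015df12e11858655a) (.leaf 0)))) (.node (.node (.node (.leaf 0x1465535100010672020413fb0a8704b7f70c76075687147bd18b) (.leaf 0x2f711a8500003c3852940e1e12e68432962610f54c434415f518)) (.node (.leaf 0x33ba36ea00011b743e1d1a79149385554268278510064f5372ab) (.leaf 0))) (.node (.node (.leaf 0x4edb2ff7000010480f932ba01e348574a94ac16c60822c6217b2) (.leaf 0)) (.node (.leaf 0x42a42b8f000128f64b1545da1a330494486614874ba7b5586335) (.leaf 0))))) (.node (.node (.node (.node (.leaf 0x2ec91a52000004220d5f0d5e12d50532900f230c5391112c7586) (.leaf 0x3bc935aa0001364d3c01514216f405352c63866654d4da33324d)) (.node (.leaf 0x29dc3249000018863a031b6d10f58594db3d137f4c71ec124518) (.leaf 0))) (.node (.node (.leaf 0xbf508a200000db9262c262b06f584b0d33912223e543d2cb486) (.leaf 0)) (.node (.leaf 0x326252680000254929df485214670457e14b47ef20417b7865fc)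 (.leaf 0)))) (.node (.node (.node (.leaf 0x4e6215a3000108cf1a6003481e250452191a81046b925a2cb41d) (.leaf 0x27b50053000143775132538a10b384b0082ac5563ca653180546)) (.node (.leaf 0x15172e9900011e900a7e41f90aa184f4883d845c2ae38c262295) (.leaf 0))) (.node (.node (.leaf 0x143b0df9000012f510d51b070a838571594744ef0426b402518b) (.leaf 0)) (.node (.leaf 0x4e341e4000012cef10f54d791e238492f700a0c82b121c7867d9) (.leaf 0)))))))))

/-- part of a table -/
def entries9 : Trie := (.node (.node (.node (.node (.node (.node (.node (.node (.leaf 0x376f46950000000400140013164605f6c02d37d20880d828f149) (.leaf 0x743129b00012d6d2ac04db706660471d36f57a44b609568a55a)) (.node (.leaf 0x2aad1d080001134831643163123305b2d14412356d41ec12412d) (.leaf 0))) (.node (.node (.leaf 0xeff503d0001091c02bb1b26089785f7af7297857ec3b002518b) (.leaf 0x39f02d5600004494403f5213169784146d2304264584fa6de18b)) (.node (.leaf 0x5ba35c600001ef319a430d304f385552e12828e04217b2cb5fc) (.leaf 0)))) (.node (.node (.node (.leaf 0x342610020001046a0e3a0e3914c204d1960863ba6453b818b149)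 (.leaf 0x13e753b10001371138f8516f0a7704f80302b32800738c2625fc)) (.node (.leaf 0x3249055e000118e421803a8d14640530787d337453209770b24d) (.leaf 0))) (.node (.node (.leaf 0x21ca4c7a00010e0926dc1f1f0eb405574f64407f34375562115f) (.leaf 0)) (.node (.leaf 0x175050ae000025bc48ab34760ae48417bb6bb70567d32e04928f) (.leaf 0))))) (.node (.node (.node (.node (.leaf 0x44262e3a0000022d075d075c1a6204d4806497394651e412d486) (.leaf 0x247b2bd9000031ee3de92d1c102785744e5f00c4010132180546)) (.node (.leaf 0x4bac2f0a000115fc341c361f1c920594915686984114045fc70a) (.leaf 0))) (.node (.node (.leaf 0x259b2c0a00000b912127008610518574524e570857f6b4025586) (.leaf 0)) (.node (.leaf 0x31ab1b0c0000223731e20f1014530572a56873f531a340486333) (.leaf 0)))) (.node (.node (.node (.leaf 0x48d54442000106bd14d414d31c3484b68127769973556e6217b2) (.leaf 0x2a1743fe00003cfa29e52286122284f67a7c73305aa3227d9586)) (.node (.leaf 0x3f3143c200011bd53ea23ea118838436741c77487f51781562ab) (.leaf 0))) (.node (.node (.leaf 0x29f504340001109b2c48052810f684b06206032774330b15f518)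 (.leaf 0)) (.node (.leaf 0x457f20dc0000296519f14b681a8785f33f76260758747a1562ab) (.leaf 0)))))) (.node (.node (.node (.node (.node (.leaf 0x49c230520000011403ca03c91c540454af1f96b706c3465be15f) (.leaf 0x4f471a3700012f9c125c40b81e4404f28c4521dc5d42fa5fc7b2)) (.node (.leaf 0x11951d51000014a133d433d308f184b2db0ab49558227a1806de) (.leaf 0))) (.node (.node (.leaf 0x30a4219200000a521e2a15f9143304935712267500863521470b) (.leaf 0x154b2e29000049d7533912e50aa405747e40c13478e74704968a)) (.node (.leaf 0x13704d0d000120852da343ef0a6784176074a03d18455f1245fc) (.leaf 0)))) (.node (.node (.node (.leaf 0x344d0fea000105931190118f14c405b1925001345de2262ab68a) (.leaf 0x27041312000139ea462221e510a20491db2881414c9740049586)) (.node (.leaf 0x120d35bb00001a5b3cae3cad0a2405b52d69f50153a30d7d968a) (.leaf 0))) (.node (.node (.leaf 0x3e540a8400010f4c04ca205d18648490fe46f76a34902712d24d) (.leaf 0)) (.node (.leaf 0x18a6124c0000278e4a1d4a1c0c3504d1c75583015780b073441d) (.leaf 0))))) (.node (.node (.node (.node (.leaf 0x3b3f04fb0001034a00ed0ad516e385f06f6150f42a56ad7345fc)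 (.leaf 0x125333fd000034742a270d8d0a2684750276f5153975a77b2734)) (.node (.leaf 0x455d1afc0000176f385a38591a8585b2a35a84e812e04751832d) (.leaf 0))) (.node (.node (.leaf 0x4c580ac300000ccb241b241a1ca485110313114a2494da33515f) (.leaf 0)) (.node (.leaf 0xfd03b85000123f2295c406008b48415ad1656e21f57407d968a) (.leaf 0)))) (.node (.node (.node (.leaf 0x2e293635000107ec1809180812c30535353b739f5c914570a546) (.leaf 0x175602df0001409a2d97533c0ae484d0417e663745d34d7d928f)) (.node (.leaf 0x43d5482900011d6226ea0e2d1a5584b6e44210a368f14d518786) (.leaf 0))) (.node (.node (.leaf 0x48654f57000111f12ec42ee11c2504b79a3f92da11943d2cb41d) (.leaf 0)) (.node (.leaf 0x26e544c600002b6a333143a5107604b68c33c75865930b7b2518) (.leaf 0))))))) (.node (.node (.node (.node (.node (.node (.leaf 0x4bff02c70001008a01f701f61c9685f0404fe50c7d54ea24d2c7) (.leaf 0x1aa1b91338500002e8539e943210cb18434f82bb2f23721ea786180)) (.node (.leaf 0x2aee0a45000013f40a4a3299123705d0f83e963668578b180546) (.leaf 0))) (.node (.node (.leaf 0x3e034e09000109b91cb21cb118610477785701b85853bd5866de)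 (.leaf 0x49fb1de000004711472251c81c568572e80e934c47b7d624d41d)) (.node (.leaf 0x18da1d2700001fc343513be80c368552d431141062a3c7113262) (.leaf 0)))) (.node (.node (.node (.leaf 0x1de54549000005010fea0fe90cf604b69d5a01e64bd1a0113025) (.leaf 0xfa94d400001388f51cf50ec08b305376704176453441441d335)) (.node (.leaf 0x4c5f1b5f0000199b19533b9e1ca485f2ae7e512046623433315f) (.leaf 0))) (.node (.node (.leaf 0x3f63220f00010ea9283a082f188704736276c4ef6a64a151818b) (.leaf 0)) (.node (.leaf 0x15fb3652000126a52fc904a20ab685753918d5155554987b2734) (.leaf 0))))) (.node (.node (.node (.node (.leaf 0x169b2cfd000102ba049a09180ad18574667686922bd3d970a786) (.leaf 0x318821630001333245fa2ef6145105135228a11e29a05d6de214)) (.node (.leaf 0x3dde2396000116bc373d2d6e185585d3882e64cf1fc4a1518786) (.leaf 0))) (.node (.node (.leaf 0x31f12b6d00000c2c22a922a814568434465ca7d206e1ab28f149) (.leaf 0)) (.node (.leaf 0x173f13900001231222030e5b0ae385f1eb0e332843266a2625fc) (.leaf 0)))) (.node (.node (.node (.leaf 0x3388182f000107571671167014920512597f31e06cb03b5fc32d)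 (.leaf 0x2fb022f700013ebe1bea346e12f284137561e61272932e049518)) (.node (.leaf 0x212224f300001ca30f11332e0ea20453a722b5a223e75570b124) (.leaf 0))) (.node (.node (.leaf 0xd30e71292f000111452d961ef0088784340e8064ef02e60e0252ab) (.leaf 0)) (.node (.leaf 0x3dd04af900012a5e199f29db185584172a5b54125f6268156786) (.leaf 0)))))) (.node (.node (.node (.node (.node (.leaf 0x21942fba000101a0059405930eb18494a035c2da2826282cb41d) (.leaf 0x473c36e8000030bc3c2c4f501ae385954253c5e21004015865be)) (.node (.leaf 0x101525de0001154606e7329808c184b3bc6e87fa3e078970a786) (.leaf 0))) (.node (.node (.leaf 0xe923f5700010af310a51fab089184560842a0cd06d2e4025428) (.leaf 0x4496211900004d444a8c52f11a7184d34940313c7de3bd0006de)) (.node (.leaf 0x1fa0f910001216d3fb444e904778551890942844b96ad2145fc) (.leaf 0)))) (.node (.node (.node (.leaf 0x2c171dce00010627132d132c126184f2e57b810c60f314262518) (.leaf 0x2750328e00003b6f52674d0c10a68414e07ba6ee7af55c15f000)) (.node (.leaf 0x13e27da00011b17091636ce046585d3ec4ab7392f62b6149486) (.leaf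 0))) (.node (.node (.leaf 0x17a14b9f00010ff62af518f40af304373b6b903d1055c71245fc) (.leaf 0)) (.node (.leaf 0x92b21240001287f3e9c465506a305734b29a5ea0082b629570b) (.leaf 0))))) (.node (.node (.node (.node (.leaf 0x36500511000103d90c8b0c8a16268410710a043102f03f68a786) (.leaf 0x3bb33762000035b65107068816f384754e1d428e0744c57345fc)) (.node (.leaf 0x1d73172a0001182818d639780ce684723e5e62570d91371137bd) (.leaf 0))) (.node (.node (.leaf 0x3dbf398e00010d680425257b185385f57e7916752c020e518621) (.leaf 0)) (.node (.leaf 0x1ac63ff9000124d8396f25700c9504d6176876984be3404862c7) (.leaf 0)))) (.node (.node (.node (.leaf 0x441e12bd00000884199e199d1a6185d1d56d107a3607b600055a) (.leaf 0x23f0368c000042885334356e0ef684153c4ba3d33e103f68a025)) (.node (.leaf 0x26be457900001e263ca7224b107285d6a03b232731e34d049156) (.leaf 0))) (.node (.node (.leaf 0x74048680000129e250d302506660416e85a03d060d1a01136de) (.leaf 0)) (.node (.leaf 0x3a4500ed00002c791fc502df16c404b01577350153a51d2ab68a) (.leaf 0)))))))) (.node (.node (.node (.node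 (.node (.node (.node (.leaf 0x23d71a2900000047010701060ef584f28b23c2573e10b0734025) (.leaf 0x2ee023500012e014dff3b41049705d0313fe80745222748618b)) (.node (.leaf 0xf8b52970001139d064e281908b10577e647e3ce2bd2df124149) (.leaf 0))) (.node (.node (.leaf 0x2a4f210d0001096e0e231bef122605f34871f3301a649815f586) (.leaf 0x44331dcc000145cb44c437ad1a628472e572d07d0d465c12d486)) (.node (.leaf 0x13a3441000011f5f40e342dc0a7504767c03123738e5ed1806de) (.leaf 0)))) (.node (.node (.node (.leaf 0x4a0230b0000004b60f120f111c610454b901669a8036ad7347bd) (.leaf 0xaba3c78000037d3519e401a06d38555c93ff3f1494390428333)) (.node (.leaf 0x2f240d4a000019403b132d0d12e204914260810c1ed4d97d9156) (.leaf 0))) (.node (.node (.leaf 0x31f9237800000e55278c278b145685338325308b55837928f149) (.leaf 0)) (.node (.leaf 0x2a9501f00001263949024901123284b02d01030c11b30d049000) (.leaf 0))))) (.node (.node (.node (.node (.leaf 0x142f070300000273083e083d0a8305f0a60f368b7ea3d50252ab) (.leaf 0x4f6515ad0001328740d84dd71e4604b21961f1043785cb24d41d)) (.node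 (.leaf 0x1103704011f0001165e311336b1164104901877b3b66e005d6de214) (.leaf 0))) (.node (.node (.leaf 0x45060c9500000bdc21ea11a11a8104d1312b876e38d67e156428) (.leaf 0)) (.node (.leaf 0x4add21fe000122a60c2a461c1c7585b36072229f7602d7149025) (.leaf 0)))) (.node (.node (.node (.leaf 0x259d352b0001070815a115a0105185b52254130009a63c7bd586) (.leaf 0x470631f200013dd940fa1b421ae204d4d11084b364358b12d486)) (.node (.leaf 0x2271b7000001c3d3f1d245d048304f2b107750f5360ff6de2ab) (.leaf 0))) (.node (.node (.leaf 0x2c4a0aaa000010f02ce42ce312650551014245ab80330841d156) (.leaf 0)) (.node (.leaf 0x1419411d000129e24bc713650a818536336bf76e4ee0db7bd428) (.leaf 0)))))) (.node (.node (.node (.node (.node (.leaf 0xff38690000015a04b004af045785f5665d616e205664537333) (.leaf 0x3556073d000030204f0b34ea14e484d0aa69171b50b7fe33328f)) (.node (.leaf 0xa7c01c1000014f23468268f06c585902a0fe3b346d0de428734) (.leaf 0))) (.node (.node (.leaf 0x10a3fac00010aa21ee71ee604640556107381fd63e2f933528f) (.leaf 0x829473d00004b65507f419b06830536ce79350f0e94206de2ab))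 (.node (.leaf 0x4fdc2ff2000120fa448a09771e548594a92ed16c2ff4765be7b2) (.leaf 0)))) (.node (.node (.node (.leaf 0x416f3fd7000005de125f035d18e505f6153954951ae7e258655a) (.leaf 0x357e1b5000013aaa43a439fe14e685d2ae06f5df43e3921136de)) (.node (.leaf 0x40652ec600001abc3d33246618a704b48b2c54233c37ae000335) (.leaf 0))) (.node (.node (.leaf 0x23363e2a00010fa304e82a460ee284d5eb5293fb48f1a23357bd) (.leaf 0)) (.node (.leaf 0x19e3083b000128061bb42fbd0c570470c07711855ef58055a7d9) (.leaf 0))))) (.node (.node (.node (.node (.leaf 0x3eec03e1000003930bb10bb0187705905828211d64b7c40005be) (.leaf 0x4d4e3fd5000035161baa23631cc405d61530508159603918b7b2)) (.node (.leaf 0x16e91689000117ca07d538e70ad705322f4395084606192c770b) (.leaf 0))) (.node (.node (.leaf 0x3d3245c00010d1824c30a6204b684739a5d10064853921132cb) (.leaf 0)) (.node (.leaf 0x47dd50e00001246c47ad222f1af485b7c10b871b56817a54624d) (.leaf 0)))) (.node (.node (.node (.leaf 0x47a942480000083818db18da1af305364c2b92e90e90485865fc) (.leaf 0x410a19b500014186513745e318e20552812de6cf7b17dc546486))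 (.node (.leaf 0x435d234200001dc425473d241a4585b37d0d94cf09b3da5182cb) (.leaf 0))) (.node (.node (.leaf 0x12c128c0000124b2f802f7f04650591d16b17e459a265149486) (.leaf 0)) (.node (.leaf 0x24ab1d0900002bf3130e4ce710330572d147e65578278d124546) (.leaf 0))))))) (.node (.node (.node (.node (.node (.node (.leaf 0x47853aa6000000cf02df002b1af204b59736968d4083e6546537) (.leaf 0x25561a1100012f0d30634e8b104584d28a00e6aa0ef60a7bd000)) (.node (.leaf 0x39e219e000011445332e332d169704528601a4263b917f6de2ab) (.leaf 0))) (.node (.node (.leaf 0x4a18293500010a05113a1d711c6185140f114257017186734025) (.leaf 0x106809f10001484330902d3108c70510ef1162a63a078970a70b)) (.node (.leaf 0x376d445a0000202543bb43ba164605b6824ff03e12271324d295) (.leaf 0)))) (.node (.node (.node (.leaf 0x502f217800000549052d10b71e6205f35456f29f1891a23337bd) (.leaf 0x1fe26001adf0000393b4fdc4b71106104129d7f05031de4a2124156)) (.node (.leaf 0x4ea81d19000119fd1e5631221e330512d32c629e6302e72cb7d9) (.leaf 0))) (.node (.node (.leaf 0x44853d6d00000efb118a28ef1a7104b5db53c2373934015866de)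 (.leaf 0)) (.node (.leaf 0x4962d490001271949c2180304d284d46b5327d23642982ab149) (.leaf 0))))) (.node (.node (.node (.node (.leaf 0x2b87510c0001030309f809f7125104f7c364a30c5aa3d57bd586) (.leaf 0x19712068000033ce378c4e040c478433363c209d3664646de7d9)) (.node (.leaf 0x4d201214000117120d8a37cf1cc30411c437c0890f63cb428049) (.leaf 0))) (.node (.node (.leaf 0x487a4e9400000c7c236623651c258557872f530f1a540d786180) (.leaf 0)) (.node (.leaf 0x40d91b8a0000238046e546e418b48532b26575fa54702712d68a) (.leaf 0)))) (.node (.node (.node (.leaf 0x9bf3b0a000107a11739173806b385f59f48e2a63c554529570b) (.leaf 0x42313c8900013fa63d92531b1a238435ca53c1721d6401586333)) (.node (.leaf 0x1983431b00001d0121cd40230c540476634340815043465be15f) (.leaf 0))) (.node (.node (.leaf 0x3cf206f70001119905b50fe618358450a53956514ae147586295) (.leaf 0)) (.node (.leaf 0x3ade008900002ae540cf238416d485d00b5840f07b034a2ab68a) (.leaf 0)))))) (.node (.node (.node (.node (.node (.leaf 0x534b2cd2000101e6008506771ec405746223908143a34a18b15f) (.leaf 0x77822e40000314a2acd37de06678513732bc03d0917502145fc))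 (.node (.leaf 0x37411691000115a2359406ef16440432300e401e26d03b5be113) (.leaf 0))) (.node (.node (.leaf 0x183636b200010b40036d206a0c2584d53f0e86dd5794c521441d) (.leaf 0x43493d1500014f865036483d1a450535d63814cf1fc14d518786)) (.node (.leaf 0x2cd544ca000021d044953516127584b68c4533411166fe180156) (.leaf 0)))) (.node (.node (.node (.leaf 0x4ac344c300000673065913fc1c7504768c1fa1ca1d0154149025) (.leaf 0xee528d000013c384cc043bd089704b40713542608d5067bd2ab)) (.node (.leaf 0x10231b7500001b753e1e355608c30472b13735081603d92c7621) (.leaf 0))) (.node (.node (.leaf 0x1d9d3bf5000110482ba1052c0cf185b5ba46d3fb715202149025) (.leaf 0)) (.node (.leaf 0x19213bbc000028f7182e4b160c450435b5679724716781537124) (.leaf 0))))) (.node (.node (.node (.node (.leaf 0x1fc2236e000004230d610d600e560453816e53010bc0d828f180) (.leaf 0x1603077a0001364e161b05db0ac10470ae3ec4314f74d62c72cb)) (.node (.leaf 0x1195019000018873a053a0404648537ab4d13827373fc33528f) (.leaf 0))) (.node (.node (.leaf 0x53a147b500000dba262e262d1ed30436da3182132430cc32d7d9)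 (.leaf 0)) (.node (.leaf 0x135f0e040001254a3ea948530a6685f15b2437110586237b2537) (.leaf 0)))) (.node (.node (.node (.leaf 0x338a1588000008d01a621a61149205521651475471e0135be428) (.leaf 0x1da13c9d0001437b458d507c0cf20435cc70014f2d550a3357bd)) (.node (.leaf 0x14b4e00011300001e9141693dc21e220410181500da0317f9621262) (.leaf 0))) (.node (.node (.leaf 0x89386d000112f52bdc30bd04540535666881342055b25fc113) (.leaf 0)) (.node (.leaf 0x48dc149300002cf04d7a233e1c3485920015569979923f6217b2) (.leaf 0)))))))))

/-- part of a table -/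
def entries10 : Trie := (.node (.node (.node (.node (.node (.node (.node (.node (.leaf 0x21a84b0600010004001600150eb205172d37531b00156e70b124) (.leaf 0x4a56022800002d6f43d20b7a1c6584d0306202576b226a149025)) (.node (.leaf 0x413e0ff6000013493165100d18e385d1933dc10720c3bd5865fc) (.leaf 0))) (.node (.node (.leaf 0x1c4fbf0000091d1b281b2704448597a58025fa49c4045fc113) (.leaf 0x1c3824bc000044a04a6f52ba0cc28513a26847883e261d2ab41d)) (.node (.leaf 0x127f408000011ef320ee42770a2785f62502c0b420578b180333) (.leaf 0)))) (.node (.node (.node (.leaf 0x1e7d34540001046b01450e3b0e2785b50d24c4d467b0c22957d9) (.leaf 0x40702de40000371251703c9918a7841477282146028164000335)) (.node (.leaf 0x94d1b17000018e5164d014e06a605b2a85654cf2aa40a1132cb) (.leaf 0))) (.node (.node (.leaf 0x2469199000000e0a26de26dd102705327c0ab0c405641418012d) (.leaf 0)) (.node (.leaf 0x22e742a4000025bd48ac28470ed704f6580e73a467648c4287d9) (.leaf 0))))) (.node (.node (.node (.node (.leaf 0x2eaf12c20001022d075f075e12d305f1d61de68915951370a546) (.leaf 0x4f4c4454000131ef30494c891e440596823a90fd0100e25be15f))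 (.node (.leaf 0x9954b52000015fd3621362006b284b7352556922333fc335786) (.leaf 0))) (.node (.node (.leaf 0x391026d600010b912129212816828413d44c14e87715b25fc428) (.leaf 0)) (.node (.leaf 0x80d21300000223845b204dc068205b34e06a0c17c61775be32d) (.leaf 0)))) (.node (.node (.node (.leaf 0xd0634f0000006be14d503c8086404d51c01f3741844f47d924d) (.leaf 0x14104b5600003cfb258409260a8184173552f76e6c024b7bd428)) (.node (.leaf 0x929122900001bd60d6c3ea306a30531c546d77c6c6202149621) (.leaf 0))) (.node (.node (.leaf 0x316a3ef60000109c27852b6914460555fe4327d21ac6d028f295) (.leaf 0)) (.node (.leaf 0x4cd279e0001296542fd4b6904d405b3e77eb42d73d45018b68a) (.leaf 0)))))) (.node (.node (.node (.node (.node (.leaf 0x420a04b70000011503cc03cb1a2205506b45e3b66656b812d214) (.leaf 0x42d64efc00012f9d4eca04911a3484d7936f65fa5ec1e412d68a)) (.node (.leaf 0x4652c12000114a233d633d504c504b45319011e46e236428734) (.leaf 0))) (.node (.node (.leaf 0x401818a000010a521e2c1e2b18a18512661887bc5777b5000295) (.leaf 0x43c6444e000149d74a964ef51a5504d68175624836467e1562cb))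 (.node (.leaf 0x1dc13ff200002086107501da0cf50436172bc29f3107502147bd) (.leaf 0)))) (.node (.node (.node (.leaf 0x48d106fd00000594116b11911c348430a55de14a4516b562115f) (.leaf 0x3b0e2581000139eb45424fc716e105d3b424a4b32e809f295486)) (.node (.leaf 0x4380391a00011a5b2c973caf1a5104157563f7fa04c12b5182cb) (.leaf 0))) (.node (.node (.leaf 0xa26339300000f4d299b02da06c304d4f92dc7641e76f132d335) (.leaf 0)) (.node (.leaf 0x1d3f0cc90000278f4a1e0e520ce285f136259380169234333025) (.leaf 0))))) (.node (.node (.node (.node (.leaf 0x3ec0ee60000034b099b0ad604b705916f27577c3d45b421470b) (.leaf 0x43e7319d000034754f292d451a5704f4c86a15081f567e15670b)) (.node (.leaf 0x1ccb3da30001176f07b3385b0cd40575e116d14b0b808e2ab15f) (.leaf 0))) (.node (.node (.leaf 0x234f1d4500010ccb10d10fa50ee505f2d629b2f44d74162147bd) (.leaf 0)) (.node (.leaf 0x2ac20f3e000023f30eea4755123604517c7677571192f115f000) (.leaf 0)))) (.node (.node (.node (.leaf 0xb354eb0000007ed180b180a06e384b78c00a2e93af21c7865be) (.leaf 0x41f411040001409b388d506218f58491ac2607e81f47c40006de))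 (.node (.leaf 0x40f7043d00011d634094409318b784f0625e166c126118586333) (.leaf 0))) (.node (.node (.leaf 0x19b7431f000011f22ee32ee20c5584f6636822e157964f537124) (.leaf 0)) (.node (.leaf 0x32102a3600012b6d4ad01c05146184142c2a173900c2832cb486) (.leaf 0))))))) (.node (.node (.node (.node (.node (.node (.leaf 0x438b52de0000008b01f901f81a510577ec7562483624a1156786) (.leaf 0x1dcb47dd00002e864e474e460cf50576dc5581e663f0b0734025)) (.node (.leaf 0x20993c09000113f4066f329a0e918535bb5912802fe2406de2c7) (.leaf 0))) (.node (.node (.leaf 0x29950c10000009ba1cb3078c10f184b1250d10b34c7270180518) (.leaf 0xb18411e0001471153c2474706e28516337637e83f644b62155a)) (.node (.leaf 0x38112f5000011fc3331b4352166184349904e6cf22521c786537) (.leaf 0)))) (.node (.node (.node (.leaf 0x327f3b230001050101720feb146785f5a121b5e253217b7865fc) (.leaf 0x4b9c14f20001389051d0508f1c918592091c149b2466f848670a)) (.node (.leaf 0x2348474d0001199b08821e290ee50516d16fb0ec2d47507347bd) (.leaf 0))) (.node (.node (.leaf 0x30fb472f00000eaa283c283b14378576cb7531a74c015429570b)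 (.leaf 0)) (.node (.leaf 0x1ff8310a000026a74964262a0e578514be5910895592406de049) (.leaf 0))))) (.node (.node (.node (.node (.leaf 0xbb50415000002bb091a091906f384b06047728e1e52e72cb5fc) (.leaf 0x459d2493000033333a0b4c061a9185b3a01e122871e14d518428)) (.node (.leaf 0x3ba01f22000016bd373f373e16f30413131c05e25365ae7345fc) (.leaf 0))) (.node (.node (.leaf 0x7de3f9a00000c2d22aa008e067685d60f4e365a5945c31136de) (.leaf 0)) (.node (.leaf 0x341b0b290001231340b515aa14c185710b5637ed01517432d214) (.leaf 0)))) (.node (.node (.node (.leaf 0x37361e470000075816731672164384d2f743e7dd1d6664486333) (.leaf 0x297c367f00003ebf52044e5610e685953b7f41ef44334415f518)) (.node (.leaf 0x4d771fd800001ca41a103fa61cc584f32362227f7ee17432d262) (.leaf 0))) (.node (.node (.leaf 0x1f5621c9000111461be02d970e4684d35b4820727b37d624d41d) (.leaf 0)) (.node (.leaf 0x242d18c700012a5f4c154c14102305b26b3d1655782435124546) (.leaf 0)))))) (.node (.node (.node (.node (.node (.leaf 0x18c14313000001a1059605950c360436630fc6a937218a113262) (.leaf 0xdd5341d000130bd4d381f96087684b5057f43a847234415f537))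 (.node (.leaf 0x45f9178400001547350335021a9785324a4bd2ea7ec3da51818b) (.leaf 0))) (.node (.node (.leaf 0x10622d1f00000af413e61fac08c70454687d84f256a3d92c7621) (.leaf 0x4db8329b00014d442c9551b81cd38514e359a4fb67346c32d7d9)) (.node (.leaf 0x4e3d01710001216e205844ea1e2385b0221670c83322e77867d9) (.leaf 0)))) (.node (.node (.node (.leaf 0x4eae048000010628132e03401e3305d06800b21318d2477867d9) (.leaf 0x53a63b1400013b71197a40dd1ed304d5a01c638475a48c4287d9)) (.node (.leaf 0x1f2149fd00011b1821072e7d0e4504371572a27f3950ba486262) (.leaf 0))) (.node (.node (.leaf 0x3c3e364000000ff71c952af6182385d53601b5f45cf147586335) (.leaf 0)) (.node (.leaf 0x29a9480e0001288011304acd10f20536e173150372769b049156) (.leaf 0))))) (.node (.node (.node (.node (.leaf 0xdc2341c000003da0c8d0c8c08760455056ce47f7e149815f486) (.leaf 0x40ff41e9000135b625ae28ce18b785f6455700b44ac4e2586333)) (.node (.leaf 0x3f25385a000018292a030143188304b5655e07482f715d15618b) (.leaf 0))) (.node (.node (.leaf 0x3b6b4abe00010d69257d257c16e60577267e76a336f13768a55a)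 (.leaf 0)) (.node (.leaf 0x49f13eab000124d9480709211c568435f561b1827ce71328f180) (.leaf 0)))) (.node (.node (.node (.leaf 0x4da0493b0001088419a0199f1cd30416fd51218551f1ee32d049) (.leaf 0x32fa1e30000142884fbd3cac14778552f61064796842472cb5fc)) (.node (.leaf 0x45333ddc00011e263dcc31331a838475e56f250f5a67db15618b) (.leaf 0))) (.node (.node (.leaf 0xd4215e90000129f30273026086604521e3377e419849815f486) (.leaf 0)) (.node (.leaf 0x9c626c400012c793d1328b406b604d3d22c07fa04c39268a2cb) (.leaf 0)))))))) (.node (.node (.node (.node (.node (.node (.node (.leaf 0x3efb21fc000100470109010818778573606dc2846847b65865fc) (.leaf 0x3734153c00002e0249d94522164384920d6e416e0fc10e537335)) (.node (.leaf 0x435751210000139e22b8320e1a4584f7c600452a02f20e156786) (.leaf 0))) (.node (.node (.leaf 0x418131fe0000096f1bf11bf018f20434d16ea47f5f33e612d537) (.leaf 0xdee41f1000145cd4e3c3a01087705d64609807c2396771245fc)) (.node (.leaf 0x10253ae200011f603ac4382c08c304b59d1d33ed54e14570a621) (.leaf 0)))) (.node (.node (.node (.leaf 0x412e48e8000104b6015b0f1318e305d6f539528e5927e25865be)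 (.leaf 0xcde0a2b000137d348904c99083685d0f359f3b622a5a77b2734)) (.node (.leaf 0x45e935ad000119403b142d801a9705352c7151bc0c615d51818b) (.leaf 0))) (.node (.node (.leaf 0x213e48a000010e55278d02ee0ea285d6f002801171a2f070b124) (.leaf 0)) (.node (.leaf 0x2df51bf20000263b3fb7400712b784b2bc1f02eb7fb74d26212d) (.leaf 0))))) (.node (.node (.node (.node (.leaf 0x68c3ee9000102730806083f06540595fd5685af27705e5fc68a) (.leaf 0x28ef3eb10001328913eb500510d705f5f60ca6f93702d970a12d)) (.node (.leaf 0x533829f80000166036b2347f1ec385142748d1f775f236428049) (.leaf 0))) (.node (.node (.leaf 0x53c91acc00010bdc21ec21eb1ed405329b7a66b777e6ba18b7b2) (.leaf 0)) (.node (.leaf 0x305c4452000022a7461e461d142685968221772b2751a068a786) (.leaf 0)))) (.node (.node (.node (.leaf 0x4c0832cd0000070915a315a21ca10514e665018347e783214180) (.leaf 0x18a4d5b00013dda3987291704740557683a066648012333328f)) (.node (.leaf 0x2357378c00011c3e3f1e285f0ee584f5515581e61f24167347bd) (.leaf 0))) (.node (.node (.leaf 0x41310976000010f12ce62ce518e38430e518807c2d313e0005fc)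 (.leaf 0)) (.node (.leaf 0x1f73417000029e344db34a0047784f5052c17ef7c032a2145be) (.leaf 0)))))) (.node (.node (.node (.node (.node (.leaf 0x421243f20001015a04b204b11a2284567a17006460565c12d734) (.leaf 0x227f394c00003021443c32430ec785f5795a11856ab02032d049)) (.node (.leaf 0x1fd708f1000014f3323c13170e5684f0d90221043dc0d824d180) (.leaf 0))) (.node (.node (.leaf 0x40dc3e7300000aa31ee91ee818b48595f12ee0f03753f412d113) (.leaf 0x3ca8298900014b7651a64571183305141a282146534164000335)) (.node (.leaf 0x30470517000020fb22c942b3142604f0712c07fa2ae39268a2cb) (.leaf 0)))) (.node (.node (.node (.leaf 0x1c695180000105de126112600cc70537cc0301f70293cb428049) (.leaf 0x2c602da300003aab4d5f523c12660414723ca3410ca3447b2518)) (.node (.leaf 0x467330b00011abc16773d3404c504f4ed5943534ab6f132d214) (.leaf 0))) (.node (.node (.leaf 0x3eeb123f00000fa42a482a4718770571c671a5e23a37b75865be) (.leaf 0)) (.node (.leaf 0x237b4c1400002807499910d60ee685774531129f0dc287113025) (.leaf 0))))) (.node (.node (.node (.node (.leaf 0x43e3dba0001039301030bb204c385d5e33f73f54ad62632d335)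 (.leaf 0x1d6851830001351630ab11700ce60517cc0763cc0041a0113025)) (.node (.leaf 0x11f19de4d82000017cb38c501ad0c5685d76c1052f267069524d180) (.leaf 0))) (.node (.node (.leaf 0x1168266800000d1924c407d108e60513c84f91664bf3447b2537) (.leaf 0)) (.node (.leaf 0x99114290001246d24eb47ae06b28431f849f0c32ae04a3352cb) (.leaf 0)))) (.node (.node (.node (.leaf 0x3af2289500010838027118dc16d78454022015f476358e428333) (.leaf 0x6631830001418741dc535b044704d4c719e7a2256340486333)) (.node (.leaf 0x1cab224900011dc42144410b0cd20573673be0ea63d2982ab180) (.leaf 0))) (.node (.node (.leaf 0x2f4902c60000124c1f4210ea12e50530404c95ab7d55c7262518) (.leaf 0)) (.node (.leaf 0x1cb3487a00012bf431e84ce80cd28476ea5841835b06182ab41d) (.leaf 0))))))) (.node (.node (.node (.node (.node (.node (.leaf 0x2efc05ca000100cf02e102e012d78590885056365d05c82c712d) (.leaf 0x1e22135200002f0e4e8d4e8c0e250451e110334c80560021441d)) (.node (.leaf 0x3d7b44d7000014463330332f184785768e4703ed1dd7e9518621) (.leaf 0))) (.node (.node (.leaf 0x64d455200000a06183f1d72064605b69e1006682a17fc24d295)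 (.leaf 0x22a25911fe10000484551ac53d3105184332414e35d03172e7bd000)) (.node (.leaf 0x450c4505000120260b2633e61a810596915544e83e512b51832d) (.leaf 0)))) (.node (.node (.node (.leaf 0x3ba438530001054910b910b816f30495651f307c2f732b7345be) (.leaf 0x12ae35310000393d18653d4e0a3505d5230ef14857778d262295)) (.node (.leaf 0x40b50d84000019fe3976141c18b284b1503434eb4771a412d214) (.leaf 0))) (.node (.node (.leaf 0x53ba033300010efb20b528f01ed385504d2f60c82b148c4287d9) (.leaf 0)) (.node (.leaf 0x461920040001271a0f5949c31aa185332628b358066401586295) (.leaf 0))))) (.node (.node (.node (.node (.leaf 0x12034710000030409fa09f9046504151004471151a0c2149537) (.leaf 0x80604ca000133d046364fef068204d06c5224e81b03465fc428)) (.node (.leaf 0x4d4a3e000000171337d00d931cc40555e80a407f3163b818b15f) (.leaf 0))) (.node (.node (.leaf 0x170f257100010c7c236823670ae105f3b20ce5df43e41741d6de) (.leaf 0)) (.node (.leaf 0x24782f16000123810c87371510278514923d222d7e637b41d12d) (.leaf 0)))) (.node (.node (.node (.leaf 0x21f43683000007a2173b173a0eb784953c0fa4d44cd21c2cb7d9)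 (.leaf 0xa870e7700003fa74696531c06d204f16516d3581d408e2ab295)) (.node (.leaf 0x204c438e00001d0238b725ca0e8505967072a6784b20ba4862c7) (.leaf 0))) (.node (.node (.leaf 0x46d717450001119a2e3d2e3c1ab484f24437a5733261e412d68a) (.leaf 0)) (.node (.leaf 0x44ea453600002ae636b44c581a7705569631511d64b4e20005be) (.leaf 0)))))) (.node (.node (.node (.node (.node (.leaf 0x3be144e1000001e70679067816f604368f1b223767121811355a) (.leaf 0x3ca425680001314a4f90241218330493af51b4256747c4000333)) (.node (.leaf 0x1e1530f5000015a3359534da0e2484b4bd33a2a435e5433337b2) (.leaf 0))) (.node (.node (.leaf 0x350068000000b41206c206b04a684109a01472b6320c568a2cb) (.leaf 0x45d71bfc00004f884d6235651a9584f2bc7560cd3884a115632d)) (.node (.leaf 0x2b73f74000121d00bd04556049384f60c3857980453456de18b) (.leaf 0)))) (.node (.node (.node (.leaf 0x11373f730001067309f713fd08e384f60c3710f406866a1245fc) (.leaf 0x45fc4ca000003c3a2cd23d051a978597530b938a7c312b5182ab)) (.node (.leaf 0x41325500011b75093b3e1f04460434dc3af3ba2b21ab24d149) (.leaf 0)))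 (.node (.node (.leaf 0xc6310211b8000010490ce22ba214410451bd5d27ff1c94cc6de734) (.leaf 0)) (.node (.leaf 0x3b5037cd000128f80efe35bc16e484155573663745d04a33328f) (.leaf 0))))) (.node (.node (.node (.node (.leaf 0x38b94575000104230d630d6216728536a023a65a28556e70b6de) (.leaf 0x21be1ea50001364f496351430eb285d3034f626e6a8338621262)) (.node (.leaf 0x29e80c560001188837423a0610f605112c4f95c67272947b2156) (.leaf 0))) (.node (.node (.leaf 0x2ff84bc800010dba2630262f12f685173e5c15dc52d55c15f518) (.leaf 0)) (.node (.leaf 0x4be90c580000254b31103faf1c9605312c5a62801ce7f824d2c7) (.leaf 0)))) (.node (.node (.node (.leaf 0x792d5e0fc2000008d11a641a6312a685d18f2433512206237b2586) (.leaf 0x123e408e0000437f49b751120a2585d62579535853b78d262295)) (.node (.leaf 0x3b8b19b800011e911c940dfe16f105728133d68d28a545149537) (.leaf 0))) (.node (.node (.leaf 0x52dc05c8000012f630bf30be1eb485908849f14a3bc04a3357b2) (.leaf 0)) (.node (.leaf 0xa162e9400002cf1439a450806c284d4880fb45c10374c18b295) (.leaf 0)))))))))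

/-- part of a table -/
def entries11 : Trie := (.node (.node (.node (.node (.node (.node (.node (.node (.leaf 0x11074039000000050018001708e104f61e4697e80f878b41d55a) (.leaf 0x1723082b00012d6f4db84c560ae30470be50e2847e038c1245fc)) (.node (.leaf 0x3a6519a7000113491fc8316616c704b27e38e1466d246c428333) (.leaf 0))) (.node (.node (.leaf 0x360707890001091d1b2a1b29162204f0af4d052a18f7fe333786) (.leaf 0x74b2c74000144a053a31c79066605745b26f13c68c61368a55a)) (.node (.leaf 0x27ed1af700001ef44279427810b705b2a31635563bc435262546) (.leaf 0)))) (.node (.node (.node (.leaf 0x32861c180000046c0e3d0e3c147104d2be54016664e3472cb537) (.leaf 0x3abe0e420000371b4656517116d285d16118c7d24db3b82ab149)) (.node (.leaf 0x4ee2520b000118e527e30e031e350457d75c20ea339704786180) (.leaf 0))) (.node (.node (.leaf 0x1a0f49e700010e0a26df17b50c8105f7123db2a22cc17f6de70a) (.leaf 0)) (.node (.leaf 0x6c91670000025be48ad23c4065605322e0747bc5777f824d295) (.leaf 0))))) (.node (.node (.node (.node (.leaf 0x5320b020000022e0761076004e384510921b5e21007047865be)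 (.leaf 0x30a22569000131f0138c0fc014330453af6155ea5c532a73470b)) (.node (.leaf 0x18b33d93000115fd36220c920c358475e02ae18228b0b021441d) (.leaf 0))) (.node (.node (.leaf 0x17a1f9500010b921f1a212a046785531e46232831c54a2145be) (.leaf 0)) (.node (.leaf 0x4058067a000022394076023c18a485109946f0f020902712d68a) (.leaf 0)))) (.node (.node (.node (.leaf 0x673d2a111b000106be14d609da18430551ad4703ed1607e9518621) (.leaf 0x3bd3321900003cfc266f3f2616f48474d33b471b2c325033324d)) (.node (.leaf 0x12ac126800011bd63ea53ea40a350591ce4413ce2bb1ec124149) (.leaf 0))) (.node (.node (.leaf 0x1b2c20430001109c2c4913cb0ca205933117e31b4ce7f970b262) (.leaf 0)) (.node (.leaf 0x1e884d110000296643b144460e340517621f114b6ab5433337b2) (.leaf 0)))))) (.node (.node (.node (.node (.node (.leaf 0x2e834ecf00010115004a03cd12d104778e77f75716375b70a000) (.leaf 0x1b5499604a800012f9e4ecc4ecb1c5184d06a44e31b4aa64f537124)) (.node (.leaf 0xed94f19000014a333d706a2089585379554122817372e7bd32d) (.leaf 0))) (.node (.node (.leaf 0x1702536e00000a531e2e1e2d0ae10457fb7af79b6e45ff41d55a)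 (.leaf 0x13334f9000049d82be8509e046584751c33f68d09257d149537)) (.node (.leaf 0x3e7d0aac0001208644214420186785b10151b07c5937c40005be) (.leaf 0)))) (.node (.node (.node (.leaf 0x23162fb80001059401a011920ee184d4a02922f41f204b1497bd) (.leaf 0x20102fb7000039ec521930550e818414a02722f82e62b555a70a)) (.node (.leaf 0x35152a6700001a5c3cb0095314e184b4304853a87d7073295537) (.leaf 0))) (.node (.node (.leaf 0x12c313ac00010f4d0e91299c0a360471ed7676801872f115f214) (.leaf 0)) (.node (.leaf 0x3ca4f33000027922aff46f404b605579726f43110f39268a2cb) (.leaf 0))))) (.node (.node (.node (.node (.leaf 0x3c7007cf0001034b0ad80ad718258410b78053ce5b87ae000295) (.leaf 0x38a90fa00000347620b70d1b167205318c0381b862209770b55a)) (.node (.leaf 0x75922ec00001770385c27ff06668533736743ea3ff2ad68a55a) (.leaf 0))) (.node (.node (.leaf 0xa7142c700000ccc241d241c06c584365b37c11e24a62f428214) (.leaf 0)) (.node (.leaf 0x508e0f66000023f447560b8a1e7105d1845642a07410b0214025) (.leaf 0)))) (.node (.node (.node (.leaf 0x1ae5172f000107ee180d180c0c9604b23e7c82805a87fc24d70a)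 (.leaf 0x229092e0001409c45d313b604830530df7d768b44924055a2ab)) (.node (.leaf 0x52cc064000001d6440953e811eb405909403c51643a4da33315f) (.leaf 0))) (.node (.node (.leaf 0xde480d04b0000011f32ee52ee41c2205b06b0386ae3d209770b262) (.leaf 0)) (.node (.leaf 0x503e12b900012b6f4ca806111e6285d1d54e614f4097fe3357bd) (.leaf 0))))))) (.node (.node (.node (.node (.node (.node (.leaf 0x539441b40001008b01fb01fa1ed284964227359b74a61d18b41d) (.leaf 0x26f1062d00002e8a4e48429a10768430927ba0b33ec3c115f156)) (.node (.leaf 0x10b10b0c000113f53196329b08d384310976b6755351452c7621) (.leaf 0))) (.node (.node (.leaf 0x3e67379b000009bb1cb51cb4186704f5526dc2840707b75865be) (.leaf 0x389c25e60001471453c33e8816718593be3f947f7e143d2cb486)) (.node (.leaf 0x3b4c1b6500011fc54354435316e40592af1af3747c354333528f) (.leaf 0)))) (.node (.node (.node (.leaf 0x92d2bee000005020fed0fec06a305b44f7ca6755c50c214970b) (.leaf 0x4ef92d3a0001389149e727c21e3585346a4776c302b2e72cb180)) (.node (.leaf 0x3c521a1f0000199c25ad3b9f182484528a6fc6e23d46b8546113)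 (.leaf 0))) (.node (.node (.leaf 0x151e395800010eaa283d1b730aa185d57a3c845c4e466a262295) (.leaf 0)) (.node (.leaf 0x26b00c49000126a721553e2f10728411293946d63ec4d97d9156) (.leaf 0))))) (.node (.node (.node (.node (.leaf 0xcf12b3b000102bb091c091b08378434432ac0b44f637b180333) (.leaf 0x21234e1a00003337503548f60ea204777944a6a969d2f070b124)) (.node (.leaf 0x46fd0797000116bd2c3837401ab785b0b132c5a3155048586333) (.leaf 0))) (.node (.node (.leaf 0x48b0141500010c2d22ac22ab1c338411f62963a40a679c7867d9) (.leaf 0)) (.node (.leaf 0x39af12cd000023141a4e4682169305f1d65d678548266453718b) (.leaf 0)))) (.node (.node (.node (.leaf 0x40aa37d8000107581675167418b20555574715154cb65c546734) (.leaf 0x4acf3f8700003ec02b5152f61c7505f60d2903fb1e957d1497bd)) (.node (.leaf 0x17622e0100011ca40fe51c020ae604547b12f3a85f530a15f537) (.leaf 0))) (.node (.node (.leaf 0x4ce237c20000114728f92d981cb60455551d60da7f728768a124) (.leaf 0)) (.node (.leaf 0x2c304dcf00012a604c160eff12628417737a834160f3b1049518) (.leaf 0)))))) (.node (.node (.node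 (.node (.node (.leaf 0x321b06e4000101a10598059714618570a41921cf6d925a786537) (.leaf 0xc65325e000030be40014d31082704b4dc7f70b436c270180335)) (.node (.leaf 0x1b463fee0000154835040ff70ca404d61664407f36622c6217b2) (.leaf 0))) (.node (.node (.leaf 0x3168114700010af41fad085714460511b035778f4621ab24d149) (.leaf 0x3b29342500014d464fed53f116e30535072b325f48232b7345be)) (.node (.leaf 0x15d2a001e070000216f44ec44eb12220412ed3bc5f86af65e7d9586) (.leaf 0)))) (.node (.node (.node (.leaf 0x333d033d000006291330132f148385b04d72a68b6db33e48618b) (.leaf 0x11f30cf100003b72203e524d08f684713a0f64b30546237b2537)) (.node (.leaf 0x63536d300001b1a35de1772064584b54117c6cc48b24055a734) (.leaf 0))) (.node (.node (.leaf 0x3a050dcd00010ff72af82af716c104b15573272517562f428214) (.leaf 0)) (.node (.leaf 0x1e3f1f0b000028814acf4ace0e2585f3106150ea5da6ad73441d) (.leaf 0))))) (.node (.node (.node (.node (.leaf 0x253a52bf000103da0c8f0c8e10438557ea7d51e33323d57bd546) (.leaf 0x49cc107b000035b83d0e28e71c5405919e67a4ca16503b5fc15f)) (.node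 (.leaf 0x344f3c450001182926f531b614c405f5c21d50f755703918b113) (.leaf 0))) (.node (.node (.leaf 0x2c75240800000d6a1849257e126684b39355362776b29415f156) (.leaf 0)) (.node (.leaf 0x260d0a63000024dc0f343be1106105b0fb1a537f1810b2124518) (.leaf 0)))) (.node (.node (.node (.leaf 0x504430df000108850b4119a11e650494bb7d02f4439073149025) (.leaf 0x265b214e000142892afc2d58106585734f7650b3505417180518)) (.node (.leaf 0x200b4a1800001e272ffc11c90e810577174bf21153f41855a2c7) (.leaf 0))) (.node (.node (.leaf 0x252a18c00001129f30293028104305526b00e6552ce3d57bd546) (.leaf 0)) (.node (.leaf 0x42683d1400002c7a33994d361a250515d632c3ba088048586149) (.leaf 0)))))))) (.node (.node (.node (.node (.node (.node (.node (.leaf 0xc6c519800000048010b010a08270597cd2ac0b43c3653180335) (.leaf 0x40a8480d00012e02117c4e0018b20516e16ea0641921a412d214)) (.node (.leaf 0x1ca11e140001139e2fb3320f0cd20432ee20430f65d5b718b41d) (.leaf 0))) (.node (.node (.leaf 0x2879150a0001096f055a1bf210c785320a6481e37c75c870a12d) (.leaf 0x46f93c4b000045ce509c52f91ab78535c24423e4557026586335))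 (.node (.leaf 0x48b917a400001f6142dd0cd11c3385324f2bb3a430921c7867d9) (.leaf 0)))) (.node (.node (.node (.leaf 0x106b26ff000004b70f150f1408c70573d86904f21af75b2c7621) (.leaf 0x1ecd1bb3000037d430e711890e3605b2b81b2724616218113262)) (.node (.leaf 0x2a7b234f000019423b152ef7122785737d7e36362b75bc18012d) (.leaf 0))) (.node (.node (.leaf 0x3f1838e500010e56278e1b83188185156f1c776e66d268156428) (.leaf 0)) (.node (.leaf 0x1ad334ec0001263b490449030c9584751b5d61b46c466e53770a) (.leaf 0))))) (.node (.node (.node (.node (.leaf 0x4c59150200000274084108401ca485320a25516c01f50a33515f) (.leaf 0x133a2c7f0001328c39e420ed0a6585545b8081b857c4171806de)) (.node (.leaf 0x3c13531c00001661223736b318228477f36fc4570636b8546214) (.leaf 0))) (.node (.node (.leaf 0x1d83440900000bdd1b7f008a0cf104767b52c2f41e12b6149025) (.leaf 0)) (.node (.leaf 0x210b48f1000122a715fa461f0ea10576f61282da80517b2cb41d) (.leaf 0)))) (.node (.node (.node (.leaf 0x416411750001070915a515a418e50491b523e3ea6814010006de) (.leaf 0x23cb28a600003ddc477d2a960ef505740325c3cc7234c52147bd))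 (.node (.leaf 0x152f207e00011c40098e3f1f0aa305f3377af3e431113241d335) (.leaf 0))) (.node (.node (.leaf 0x3a6a3e7b000110f12ce70e8016c70555f15633e437505932d333) (.leaf 0)) (.node (.leaf 0x423a52b7000129e3482430081a238557ea15316e5a0147000335) (.leaf 0)))))) (.node (.node (.node (.node (.node (.leaf 0x1315486a0000015b04b404b30a6484b6e86bb7051294d904924d) (.leaf 0x4e7923c0000030224f0c2e4f1e2585338d00a3010e021c78641d)) (.node (.leaf 0x248b52d3000014f4284d346910320577ec24935d7d43227d9586) (.leaf 0))) (.node (.node (.leaf 0x1659461800010aa31eea06240ac58536af3b757153130270a786) (.leaf 0x5039004d00014b79430b4fc01e6285300773d1ca1c324e3337bd)) (.node (.leaf 0x4a4e4258000020fc27ac35111c6505d64e2893d301726a295025) (.leaf 0)))) (.node (.node (.node (.leaf 0xef551e8000005df126201aa089784b7d439b38a80260e7bd2ab) (.leaf 0x14a50ce900013aab523d48220a9304b1395d979820f5060252ab)) (.node (.leaf 0x2a633b4f00001abd3d35016f12270475a57af3652885ff41d12d) (.leaf 0))) (.node (.node (.leaf 0x439173000010fa42a4a2a4904c38532430095a30b60cc428335)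 (.leaf 0)) (.node (.leaf 0x138c4f07000028083f404a780a740597942ff3741fb32e7d928f) (.leaf 0))))) (.node (.node (.node (.node (.leaf 0x2a46315a000003940bb40bb3122604d4c351e3307aa73a15f586) (.leaf 0x1de2581415900003518165750d8105104363a5026ee7af1797bd000)) (.node (.leaf 0x38351dca000117cb08e41636166284b2e554b59c05063b6216de) (.leaf 0))) (.node (.node (.leaf 0x9b256033b300010d1924c5058010470414fd1ed6bd7f150602512d) (.leaf 0)) (.node (.leaf 0x28680d920000246e466716e910c70511511d06f93705c870a12d) (.leaf 0)))) (.node (.node (.node (.leaf 0x2dda4caf00000839117118dd12b68557537bf30c7bb2f17b2000) (.leaf 0x4bab37d00000418942f048d61c920575570bd2412460135be70a)) (.node (.leaf 0x271a2cb800001dc53f5e01a610a285546034e6ee6b9747049586) (.leaf 0))) (.node (.node (.leaf 0x8ea4d310001124c2f810c8f06970557650552cd0e42a75372ab) (.leaf 0)) (.node (.leaf 0x480e020100002bf54cb44ce91c2205d02e4384105f0221621124) (.leaf 0))))))) (.node (.node (.node (.node (.node (.node (.leaf 0x4ebe00a2000000d002e302e21e3385d00d20b2b0730704786049)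 (.leaf 0x448f0f6300012f0e12073a561a7105f1842d67e847d11800055a)) (.node (.leaf 0x39952e7900001447189d3331169284b4844bc7547d70e25be428) (.leaf 0))) (.node (.node (.leaf 0x4e82195500010a061d741d731e3204527643841039a338621262) (.leaf 0x1a5e38f1000148483ece53270c8585d5700f843f50d66e53770a)) (.node (.leaf 0x12c232eb000020272c6543930a360454e971f01d16730a15f214) (.leaf 0)))) (.node (.node (.node (.leaf 0x43b40ec0000054a10bb10ba04c38576305633e408005932d333) (.leaf 0x1ff4f9104a20001393d264625491e5184306a1bf6a93e9538537262)) (.node (.leaf 0x2e5c20c7000119fe08a83c2c12c585933d47345a2ac6d870a000) (.leaf 0))) (.node (.node (.leaf 0x6943a2d00010efc2200284c065484958d7285ac15003b5be113) (.leaf 0)) (.node (.leaf 0x139c29d70001271b27a649c40a748594224937335003b104924d) (.leaf 0))))) (.node (.node (.node (.node (.leaf 0x24283a000001030409cc068c102305158a0d239e7bf0b212412d) (.leaf 0x384630db000133d227b22dee166404d4bb62b58320622170b24d)) (.node (.leaf 0x1d6c3d300001171337d237d10ce60595d80802575540c51137bd) (.leaf 0))) (.node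 (.node (.leaf 0x4a33ae300000c7d236a236904d304759d2015f416058e428333) (.leaf 0)) (.node (.leaf 0x2aaf2985000023821c814599123305f41a0ef19403278d262546) (.leaf 0)))) (.node (.node (.node (.leaf 0x26dc1e3f000107a2173d173c10758592f67f75c67c9270180518) (.leaf 0x484139a600003faa388a1a271c2404358237508162456e70b7b2)) (.node (.leaf 0x35d1044f00001d03402425e414f484306378e7331f904a33328f) (.leaf 0))) (.node (.node (.leaf 0x4b537ab0001119b079205a304d384b55368c4231c43cb32d335) (.leaf 0)) (.node (.leaf 0x2ba434c900002ae7252e453312530495195d97595cd50602512d) (.leaf 0)))))) (.node (.node (.node (.node (.node (.leaf 0x21f63b9b000101e7067b067a0eb784d5b02ba0c84f3034786049) (.leaf 0x50d23ad50000314d4f911f061e7584559a2893d33c604b2957bd)) (.node (.leaf 0x4a8b3600000115a3359735961c710575320d509e6e8600734025) (.leaf 0))) (.node (.node (.leaf 0x4e6f210300010b410885206d1e2505f34812c2da7b81c82cb180) (.leaf 0x18fa1e8e00014f9553883ee70c378552fe7c13a45f9207295049)) (.node (.leaf 0x40380e44000121d14557157d18a28511613434eb4db3e612d734)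 (.leaf 0)))) (.node (.node (.node (.leaf 0x42293fc10000067413ff13fe1a2305361410a76404d7b5586335) (.leaf 0x24a8048100003c3c42221309103305106816355618d5c726212d)) (.node (.leaf 0x46501bee00001b763e213e201aa48412bb6ec5a91613e654668a) (.leaf 0))) (.node (.node (.leaf 0x270a3434000110492ba3264710a205550924935d0243227d9586) (.leaf 0)) (.node (.leaf 0x282147bd000028f934884b1710c30436da6481e35e35c870a12d) (.leaf 0))))) (.node (.node (.node (.node (.leaf 0x2fae0c22000004240d6402c112f205d1260d761252d4f4049518) (.leaf 0x22894b0c00003650462404ba0ed105372d77431b5d80cc32d124)) (.node (.leaf 0x2d9738af000018891cea3a0712b284f56a77e7576414f47d9586) (.leaf 0))) (.node (.node (.leaf 0x47f7063600000dbb263226311af584f0933e23d05d63bd0006de) (.leaf 0)) (.node (.leaf 0x43a903090001254c485429081a5305304563f60253426851870b) (.leaf 0)))) (.node (.node (.node (.leaf 0x23d33b92000008d2169c119c0ef58475b001669a3c46ad7347bd) (.leaf 0x40c61e57000143801fef321118b404d2fb2de1341267dc546113)) (.node (.leaf 0x4463b8100001e9241fa075d04c404d5ad0865f77e561818b113)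 (.leaf 0))) (.node (.node (.leaf 0x1795011000012f730c130c004678537ab1142e92641867345fc) (.leaf 0)) (.node (.leaf 0x32162f5b00002cf34cd73115146184d49958925d46540d786486) (.leaf 0)))))))))

/-- part of a table -/
def entries12 : Trie := (.node (.node (.node (.node (.node (.node (.node (.node (.leaf 0x1961479200010005001a00190c470436d717c6975bb24055a049) (.leaf 0x157302dd00002d7035a949b30aa684704175a2d23622d87b2734)) (.node (.leaf 0x351d07f40001134a3168316714e185b0bb1c925d03a267295537) (.leaf 0))) (.node (.node (.leaf 0x471502b50000091e1b2c1b2b1ae284b03c32f6cf3c21a4546486) (.leaf 0x42f62478000044a8537e32dd1a3584d39c40303e02f7e2000149)) (.node (.leaf 0x1a5b3da500011ef40aa637f00c858575e12001b90b92275372c7) (.leaf 0)))) (.node (.node (.node (.leaf 0x273e16150001046c0e3f0e3e10a385d22327b6bd73030818012d) (.leaf 0x3332740000371d515d4ad504458474df25801d27e34555a214)) (.node (.leaf 0xc8e3ed8000018e714f61385083405d5fb63342d2054b17d9113) (.leaf 0))) (.node (.node (.leaf 0xd9b4d5900000e0b26e126e0087485776834e52542c4b104924d)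 (.leaf 0)) (.node (.leaf 0x39fd50e7000025bf474448ae169785b7c14088077c34646de2ab) (.leaf 0))))) (.node (.node (.node (.node (.leaf 0x126733f50001022e076307620a2704f5023dd5a34385ed41d335) (.leaf 0x521c4b85000031f1294a18fc1ea18597382750f91f05ae214180)) (.node (.leaf 0x22bc4217000015fe16c810db0ed28596492be34c8055b718b41d) (.leaf 0))) (.node (.node (.leaf 0x5163043900000b93212c212b1e860470622d319c4817d628f2c7) (.leaf 0)) (.node (.leaf 0x164d365d0001223945b33c040ac505b53965957155511170a2cb) (.leaf 0)))) (.node (.node (.node (.leaf 0x18b82efa000006bf13a4056c0c3585148f2b36c3153750734180) (.leaf 0x4fe5520200003cfd1d2746721e5604b7d70740ea0247f824d180)) (.node (.leaf 0x293818a300011bd728553ea610e28512663946d61574d97d9156) (.leaf 0))) (.node (.node (.leaf 0x11922d4e0000109d26262c4a08f184546b6c27e84fd41741d6de) (.leaf 0)) (.node (.leaf 0x509752c4000129664b6a03ed1e7184f7eb1fc69a0f1600734025) (.leaf 0)))))) (.node (.node (.node (.node (.node (.leaf 0x1af434e50000011603cf03ce0c9684951b2531b46eb37928f70a) (.leaf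 0x1b62803131f00002f9f38f6431510c10471db7d81416943d92c7586)) (.node (.leaf 0x4f561cb2000114a32d9c33d81e4484d2ca0332a40d70435be15f) (.leaf 0))) (.node (.node (.leaf 0x145e168c00000a541e2f09070a8585d22f5fb2ef3892e4025428) (.leaf 0x13d3fad000149da497a528a046585b6107751cf585202295537)) (.node (.leaf 0x4007100d000020882b52442218a104f1966dc3ba2b27b7586149) (.leaf 0)))) (.node (.node (.node (.leaf 0x17bd0df40000059507e711930af385b1591f07ef04255f2625fc) (.leaf 0x4613804000039f1521a2e4404c504355b0fe3b333f46c428214)) (.node (.leaf 0x2d6c184000011a5c3cb23cb112a705925c0233653b55c726212d) (.leaf 0))) (.node (.node (.leaf 0x2147430300010f4e299e299d0ea404f66120908132064d70b7b2) (.leaf 0)) (.node (.leaf 0x1c5220ee00012794303b39fc0cc48453427c01b736903918b7b2) (.leaf 0))))) (.node (.node (.node (.node (.leaf 0x4fad152d0001034c0ada0ad91e5305b20c7020831094fa55a049) (.leaf 0x52b63767000134762dbd3cf11eb384d54e6064d412f57d295049)) (.node (.leaf 0x39b41f6900001771320a30fe169384931a5822cd4ff0ba5372ab) (.leaf 0))) (.node (.node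 (.leaf 0x4116113400000ccd21ca241e18e284d1af36768d3a67dc546486) (.leaf 0)) (.node (.leaf 0x14ad2be1000023f53a5144930a9305b44f08c80756c72e0252ab) (.leaf 0)))) (.node (.node (.node (.leaf 0x9dc365b000007ef180f180e06b68595395e57fa10d18a68a786) (.leaf 0x77448670001409d3ce345b806678496e84ae1074061cd2145be)) (.node (.leaf 0x23db51b200011d6434b940960ef58577cf2c93804b24167347bd) (.leaf 0))) (.node (.node (.leaf 0x35074ecb000111f32a6e2ee614e104f78e60616646a57d295537) (.leaf 0)) (.node (.leaf 0xa7a3e6400002b734ca92d4b06c58555f010106460505932d734) (.leaf 0))))))) (.node (.node (.node (.node (.node (.node (.leaf 0x21a9223f0000008c01be01fc0eb20533667d301171a07570b124) (.leaf 0xa430bb000002e8c12334ba006c40471190075f778008e18b68a)) (.node (.leaf 0x482c1114000013f6329d329c1c230591ad0fa4d478c21c2cb7d9) (.leaf 0))) (.node (.node (.leaf 0x4251fa8000109bb1cb607b904c304b31f4bb7dd61a0cc428335) (.leaf 0x1b5f38f200014717396d38d10ca485f57012617664933862115f)) (.node (.leaf 0x10864fed00011fc633fd435508d104d7a879465638f1cc70a786)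 (.leaf 0)))) (.node (.node (.node (.leaf 0x12a8167a000105020fef0fee0a3505122e42b7bc0a20b2124295) (.leaf 0x196b460a000138925116115c0c470576ac5480c86f40ff6de7d9)) (.node (.leaf 0x37ed11270000199d3ba0300e165605b1ae3c07b410237924d149) (.leaf 0))) (.node (.node (.leaf 0xc83085800010eab283f283e08340470c745155023a7477d968a) (.leaf 0)) (.node (.leaf 0x29402ec2000026a939b0496510e504148b15e6d60f30bf124156) (.leaf 0))))) (.node (.node (.node (.node (.leaf 0x27621bfe000002bc091e091d10a70452bc7aa55660866a262546) (.leaf 0x4b5721d10000333848f309381c8584f35c0a83fa72946355a70a)) (.node (.leaf 0x2ae62fef000016be0b142ca3123704d4a7808235633417180546) (.leaf 0))) (.node (.node (.leaf 0x1d881fbd00000c2e0a9b22ad0cf10513204e009e75608a2957bd) (.leaf 0)) (.node (.leaf 0x4fc92394000023152d7946831e540533881da1dc7c74765fc7b2) (.leaf 0)))) (.node (.node (.node (.leaf 0x8913f61000007590df8167606928436092ed0cd3884765be32d) (.leaf 0x1ac3454400013ec544cf48aa0c9504769d3fe50c6eb64f48670a)) (.node (.leaf 0x207c4c1500001ca53fa738a80e8685974532521133656028f2c7)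 (.leaf 0))) (.node (.node (.leaf 0x57013b70001114708e8069204e58411f04cb68d3a61ea2cb486) (.leaf 0)) (.node (.leaf 0x4c78499200012a610fb115821ca685170921726e2202ad68a262) (.leaf 0)))))) (.node (.node (.node (.node (.node (.leaf 0x510d2f04000001a2059a05991e8105b4910a53fa7437814862c7) (.leaf 0x310f4349000130be35d93098144105f6693a63b342f4636de214)) (.node (.leaf 0x4a48049c0001154806e827a81c65051069569257422202149025) (.leaf 0))) (.node (.node (.leaf 0x1dc28f700000af51faf1fae047685940954e07a6ff0c568a6de) (.leaf 0x21a207d600004d4f48a512c30eb20450b8266724282231621262)) (.node (.leaf 0x458d35810001216f43dc3cbe1a9105b5290b93997b1268518428) (.leaf 0)))) (.node (.node (.node (.leaf 0x464000770001062913310e631aa404100a3505af208790546113) (.leaf 0x2b7a44a900013b724eef526812478556874297592b771802512d)) (.node (.leaf 0x248d025f00011b1a3db23db1103205b03373560b4ed4d9049586) (.leaf 0))) (.node (.node (.leaf 0x33a9094900000ff82af9218c14930530e15822cd65f10e53718b) (.leaf 0)) (.node (.leaf 0x51ec165d0000288232844a541e9605922a6db50c52f3de24d70a)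 (.leaf 0))))) (.node (.node (.node (.node (.leaf 0x4b61289b000003db0c9000271c860434024483fa42a7fc24d70a) (.leaf 0x1d3a1d8a000135b82ddc4d810ce28552de6340120d91233337bd)) (.node (.leaf 0x48d32b6e0000182a397a39791c348474466e13876096cd70b7b2) (.leaf 0))) (.node (.node (.leaf 0x1d1e0cc500000d6b0e17257f0ce185d13618f3807522b6149025) (.leaf 0)) (.node (.leaf 0x53ec40df000124dd148445bf1ed505962e77431b45323632d262) (.leaf 0)))) (.node (.node (.node (.leaf 0x63208dc0000088619a319a206458450d664311e3974186de734) (.leaf 0x336f3afb0001428b43c53495148705f59e3db27944517f6de2ab)) (.node (.leaf 0x138e2ebf00011e2728893e000a7405d48a7f11fd23d4f404924d) (.leaf 0))) (.node (.node (.leaf 0x35be29f1000012a0302b302a14f385d42710328405c4162145be) (.leaf 0)) (.node (.leaf 0x228f0efb00012c7a10b738ea0ed105f17060d31900158e428124) (.leaf 0)))))))) (.node (.node (.node (.node (.node (.node (.node (.leaf 0x5310632f400010048010d010c144104d4ec2e83b34ab0826de214) (.leaf 0x1fd146cf00002e034a4d0c640e568436c47c21837cc3de28f180)) (.node (.leaf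 0x359645bc0001139f3211321014f184d6a57533a8771154295486) (.leaf 0))) (.node (.node (.leaf 0x38650a80000009701bf41bf3166704b0fe29652134979c7865fc) (.leaf 0x13201279000145cf457c4f650a650411d055b0d03a51d21806de)) (.node (.leaf 0x1f7607ee00001f6342df42de0e4784d0b96cb0896fc0826de049) (.leaf 0)))) (.node (.node (.node (.leaf 0x1f1f1f05000004b80f170f160e4485f31045814a5ba6c55be15f) (.leaf 0x410b343a000037d52818470018e205750947171170665c546486)) (.node (.leaf 0x14c20891000019432ef83b160a950450d206139945635f7bd428) (.leaf 0))) (.node (.node (.leaf 0x963076300000e57278f1f8f06a70470ad2ae77c03c0b021470b) (.leaf 0)) (.node (.leaf 0x5353322f0001263c490649051ec48474d57c01b72ff03918b7b2) (.leaf 0))))) (.node (.node (.node (.node (.leaf 0x6b14d6d000002750843084206558437695917ff1a82b56de214) (.leaf 0x313540140000328e4fae2f5a144384b61b21a7644946f8486333)) (.node (.leaf 0x2e0a158b00011661121336b412c10552166106fa0ac75b2c7000) (.leaf 0))) (.node (.node (.leaf 0xd7734fb00010bdd21ee21ed086784f51c47e03d18478d1245fc) (.leaf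 0)) (.node (.leaf 0x16328d102f6000022aa4620372910d584304454f60b3e972c2c7000) (.leaf 0)))) (.node (.node (.node (.leaf 0x31b015600000070a0c0c15a614538412120ed7a20370ba486333) (.leaf 0x2142598002400003ddd299a07a9105185100339635d7e30db7bd000)) (.node (.leaf 0x20fe474800001c413f202d410e9685d6d14fe50c2d44ea24d2c7) (.leaf 0))) (.node (.node (.leaf 0x1f4a4cb6000110f22ce92ce80e4605575620c2da2826d028f41d) (.leaf 0)) (.node (.leaf 0x27a80940000029e4472046f610b30510e104139e52e41441d12d) (.leaf 0)))))) (.node (.node (.node (.node (.node (.leaf 0x3da9298f0001015b04b604b5185305341a72376635515d156621) (.leaf 0x118d4e4800013022129b4f0d08f105b77e3d765a68627041d55a)) (.node (.leaf 0x3f1741b9000114f4138a346a188184f6424d70c101a47a518428) (.leaf 0))) (.node (.node (.leaf 0x387e055200000aa41eec1eeb166785d07804011d41925a2cb5fc) (.leaf 0x4fda107100014b7c511b42641e5485519e1151b76086b65fc7b2)) (.node (.leaf 0x308712e900002100448b3e3d143204f1d84604cf41c7fe333786) (.leaf 0)))) (.node (.node (.node (.leaf 0x375e0121000105df12641263164485d01a1585734d03465be68a)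 (.leaf 0xcf435d00003aac4fe2048d045605f66b7f53d622a7d628f295)) (.node (.leaf 0x3d1d081500001abe0fe02cb2184185b0bd35a248362047156786) (.leaf 0))) (.node (.node (.leaf 0xbc2b253b5d00000fa52a4c2a4b124304b5a652f23571024b7bd12d) (.leaf 0)) (.node (.leaf 0x43b115660001280839122dba1a538432124bd3ed03779f51870b) (.leaf 0))))) (.node (.node (.node (.node (.leaf 0x351483536b000103940bb60bb50a910477fb5bd2286e435f7bd428) (.leaf 0x1f3649f70000351a4e3a0b640e4584d71543e319133664486124)) (.node (.leaf 0x29a30d49000017cc122238e810f204714257a6d61aa6ed7d9518) (.leaf 0))) (.node (.node (.leaf 0x2f531e5100010d1a110224c612e58472fb0ef10c2464de262156) (.leaf 0)) (.node (.leaf 0x1a6e27110001246e0cf13b4d0c8605d3dc06867850d0d828f70a) (.leaf 0)))) (.node (.node (.node (.leaf 0xede26670001083914c318de089585d3c84f17544bf3b002532d) (.leaf 0x2c0644740000418a4ed510c0126104d68416f3410ca78d124518)) (.node (.leaf 0x454705a200011dc52951410c1a8504f0851697d167167e156428) (.leaf 0))) (.node (.node (.leaf 0x107320820000124d2f82030108c78473390a136133a1cc2c7621)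 (.leaf 0)) (.node (.leaf 0x365339a300012bf641a14cea16268475821e74cf1145c31132cb) (.leaf 0))))))) (.node (.node (.node (.node (.node (.node (.leaf 0x29960658000100d002e502e410f184d0964695035335ed41d156) (.leaf 0x80e257000002f0f1d1f4e8e068205d3b20032ef0360c95fc428)) (.node (.leaf 0x4cdb09a400011447333333321cb48570e821d1763b52503357b2) (.leaf 0))) (.node (.node (.leaf 0x27112e7500000a071d761d7510a284348439435d3c836b7d9000) (.leaf 0x21ff474700004849528e53d40eb785f6d14b40c86ab704786049)) (.node (.leaf 0x7bd01000000202843bc2fc3067585b017044711552265149486) (.leaf 0)))) (.node (.node (.node (.leaf 0x3784510e0000054b10bd10bc16510497c370272506346455a214) (.leaf 0x186a49ab0000393f517e418b0c2705570c53100f6f41542957d9)) (.node (.leaf 0x4be31bea000019ff2b3f3c2d1c960472bb58a6987691e828f70a) (.leaf 0))) (.node (.node (.leaf 0x2ed8178100000efd28f228f112d585124a2785f801c1112c7586) (.leaf 0)) (.node (.leaf 0x3acb046f0000271c3f0649c516d40570667371345de08e2ab68a) (.leaf 0))))) (.node (.node (.node (.node (.leaf 0x41ba36eb0000030509fc09fb18f38555426a825f5997b65865fc)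 (.leaf 0x47220539000133d52417501a1ae304507665d7ac56c1180005fc)) (.node (.leaf 0xff224590000171437d3078708b684539a51f7ed3236237b2214) (.leaf 0))) (.node (.node (.leaf 0xc574c0c00010c7d236c236b082684f7436f77252b218e7b2734) (.leaf 0)) (.node (.leaf 0x9da160b000023832f6f1b8e06b68552206c67f224c3c7113786) (.leaf 0)))) (.node (.node (.node (.leaf 0xc2b422c000007a3173f173e082505764a45403e39d677262295) (.leaf 0xf280c7500013fab259e40a008a305112f3f066c33b2f3180333)) (.node (.leaf 0x972075500011d031fd3402506a78450ac3641a76c954a73470b) (.leaf 0))) (.node (.node (.leaf 0xd62528483f0000119c2e3f2e3e10430516e580622d18d60e02512d) (.leaf 0)) (.node (.leaf 0x2b44326800002ae82c6e407e12450494dd4835f815e72e7bd000) (.leaf 0)))))) (.node (.node (.node (.node (.node (.leaf 0x42d03486000101e8067d067c1a348415115045ac7a029154668a) (.leaf 0x208e0efa0000314e4ee848260e9105d1705f32802fe4cc6de2c7)) (.node (.leaf 0x5e3c1c000015a432993598044685d5bd3e37bc5774a324d295) (.leaf 0))) (.node (.node (.leaf 0x1f3d1cc900000b42206f206e0e4585b2cc39c2e174269c537262)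 (.leaf 0x2d9e38e400004f9645eb38dc12b285d56f1c27571307477d9586)) (.node (.leaf 0x8021ba6000021d24559455806820452b745d4902ca0435fc32d) (.leaf 0)))) (.node (.node (.node (.leaf 0xff73800000006751401140008b684f55b0324eb1fa4987b2734) (.leaf 0x4b16446400013c3c32014d221c8184d6832001b97292a753770a)) (.node (.leaf 0x3f551b9100001b773e233e22188584b2b30dc49021004715632d) (.leaf 0))) (.node (.node (.leaf 0x11f42a2d0000104a2ba40e6b08f684942b6d43985910cb15f537) (.leaf 0)) (.node (.leaf 0x4b6f4bc2000128f927ba4b181c8605f73e2d319c4e50d828f70a) (.leaf 0))))) (.node (.node (.node (.node (.leaf 0x45f34a9a000104240d660d651a978477223688075757e91562ab) (.leaf 0x10d243ac000136515145514408d584567260f57148576170a2cb)) (.node (.leaf 0x3fdb2cdd0001188919452f06189585746270c5ce06d7e9518428) (.leaf 0))) (.node (.node (.leaf 0x1cf14bfd00010dbb263426330cd784374268c09d17046c32d7d9) (.leaf 0)) (.node (.leaf 0x4c3c36260000254d2ed433db1ca385953448509d567203295049) (.leaf 0)))) (.node (.node (.node (.leaf 0x51874e3b000008d3188c1a651e9104f77d44e2b466b71c5372c7)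 (.leaf 0x45745230001438452d5179504c484f6940fb5fa5ec34a18b68a)) (.node (.leaf 0xdde4e5100001e93199241fb087685d77f0f64b32852d87b2486) (.leaf 0))) (.node (.node (.leaf 0x422447cd000112f730c330c21a230496db62a5f40e513e586333) (.leaf 0)) (.node (.leaf 0x2d2f104a00012cf32bd94d7b12a305f19a40019415941741d546) (.leaf 0)))))))))

/-- part of a table -/
def entries13 : Trie := (.node (.node (.node (.node (.node (.node (.node (.node (.leaf 0x3ff512f300000006001c001b189784b1d936380757512b1562ab) (.leaf 0x25cb0f1e00012d704db949e5105505717369e33474a777025586)) (.node (.leaf 0x20033ec40000134b31690d950e810475f925867872334555a2c7) (.leaf 0))) (.node (.node (.leaf 0x28ed1caf0001091e1b2d18c410d705b2c980322d5b66d82c7546) (.leaf 0x1c903e4c000144a82a784a390cd18415ee59a2e165d3cb32d124)) (.node (.leaf 0x318a314e00001ef5427b427a14510554c27870647ca41855a734) (.leaf 0)))) (.node (.node (.node (.leaf 0x17240ce60000046d0e410e400ae30491394c97ac20f5c72625fc) (.leaf 0x12981b200000371e2db8471e0a348512a90100f07b030d04968a)) (.node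 (.leaf 0x3d125316000118e7382d2e8a18418457f34f50a36054a1518786) (.leaf 0))) (.node (.node (.leaf 0x43363c8400010e0b12bb26e21a4384d5ca1695ea5074a1156621) (.leaf 0)) (.node (.leaf 0xfd9095c000125bf48af1f0008b48530e35d06e20bb3b17d968a) (.leaf 0))))) (.node (.node (.node (.node (.leaf 0x4deb2a520000022f05d307641cd505742f2f65a22ac020428124) (.leaf 0x3673295c000131f54fca4fc916278474137096754d12b614970b)) (.node (.leaf 0x1de1333000115fe36231bae047685d1de2237e847d13711355a) (.leaf 0))) (.node (.node (.leaf 0xbc002d200010b93212e212d06f404104137558302e44b70b24d) (.leaf 0)) (.node (.leaf 0x37731cb00000223b45b41dd016468472ca00d01974e69524d149) (.leaf 0)))) (.node (.node (.node (.leaf 0x4415423f000106bf14d814d71a6184b64b75d1b85857c45866de) (.leaf 0x3bf02fc000003d0123c004eb16f68414a40086a35d61a068a6de)) (.node (.leaf 0xa06536500001bd83ea726af06c204d7fb23966815134a18b149) (.leaf 0))) (.node (.node (.leaf 0x1f7521c30001109d2c4c2c4b0e4784b35b1bb69734346455a7d9) (.leaf 0)) (.node (.leaf 0x3a8016fc000029674b6b0cb516d104123b68c5766453cb32d734)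 (.leaf 0)))))) (.node (.node (.node (.node (.node (.leaf 0x385f05500001011603d103d0166485f0780285257372f070b28f) (.leaf 0x334904e600012f9f125d2e36148605306e35749044e1ab24d428)) (.node (.leaf 0x2e3b20ac000014a433d924ee12c385733b61019433c75b2c712d) (.leaf 0))) (.node (.node (.leaf 0x283d1f1400000a551e311e3010c385b3111165562b178970a546) (.leaf 0x2d1002b6000049e243722c5f12a284103c49331241b65e049586)) (.node (.leaf 0x4d69410a00012088307144231cc50536324bb31901c0cc428124) (.leaf 0)))) (.node (.node (.node (.leaf 0x286a05c7000005961195119410c705508845b39e3bc5132c7546) (.leaf 0x19db3230000039f23265521b0c568574d70221046610cf24d41d)) (.node (.leaf 0xa0e2c3400001a5d37453cb306c205d45540f3ba08829818b149) (.leaf 0))) (.node (.node (.leaf 0x24e543e800000f4f29a0299f103704b6793d222d5b66fe41d546) (.leaf 0)) (.node (.leaf 0xb4e46b60000279524a14a1f06e405d6c222b1fd0336cd70b24d) (.leaf 0))))) (.node (.node (.node (.node (.leaf 0x180e4ede0000034d0adc0adb0c2405d7917a01dc37a4a83357b2) (.leaf 0x42223ac90001347814ff50a61a230455995784256747b6000333))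 (.node (.leaf 0x238e0ef800001772385e385d0ef105d1704ab2571402b6149025) (.leaf 0))) (.node (.node (.leaf 0x2e6f23ee00010ccd2420241f12c705f38f7be6366851cc2c7546) (.leaf 0)) (.node (.leaf 0x23dc0dba000123f6475847570ef58591534d52a03367502147bd) (.leaf 0)))) (.node (.node (.node (.leaf 0x48f21917000107ef181118101c358452723f26c36e725a2cb41d) (.leaf 0xf7607a10001409e1d69400008a684d0b51593b671918e7b2734)) (.node (.leaf 0x254b436a00001d65279a1efa104505766d5fd35d0232e47bd586) (.leaf 0))) (.node (.node (.leaf 0x1a9943dd000011f42ee7107a0c918536763e52412b842055a2c7) (.leaf 0)) (.node (.leaf 0x2f0c356c00002b744caa479612e1059527672612246653180156) (.leaf 0))))))) (.node (.node (.node (.node (.node (.node (.leaf 0x7ba29dd0001008c002401fd06758554226ca47f0092b6295486) (.leaf 0x35628dc00002e8f4e4919e904a684d4076c67f259e2871132cb)) (.node (.leaf 0x290416ff000113f6329f329e10e104923b7f75c63fd270180518) (.leaf 0))) (.node (.node (.leaf 0x5136065e000109bc1cb81cb71e8284d0966d56780610c95be70a) (.leaf 0x3985209f00004718487053c0169204b33a7f31e03061b15fc428))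 (.node (.leaf 0x207440a800001fc743563ebe0e8684962a20f6783c47f828f2c7) (.leaf 0)))) (.node (.node (.node (.leaf 0x417b1c490000050302a30ff018e58572c15d879b5617b658655a) (.leaf 0x4e801e8000038932d37491804d505102c57c51575346c32d214)) (.node (.leaf 0x9f60bd50000199f31573ba106b784d11c2c97440020b073470b) (.leaf 0))) (.node (.node (.leaf 0xd7342b600000eac2841284008678476592740f44063141245be) (.leaf 0)) (.node (.leaf 0x10fa507e000026aa4967496608d78557b87941a72554d670a70b) (.leaf 0))))) (.node (.node (.node (.node (.leaf 0x1a4434ef000102bc00c4091f0c8504951b6e41b97150ba5372c7) (.leaf 0x18cb2d85000033393b0449380c360574703c526e2b913768a124)) (.node (.leaf 0x468945a5000016bf13b537411ab10536a421f1480a27c4586295) (.leaf 0))) (.node (.node (.leaf 0x1d7b3dae00010c2f1b0a22ae0ce68575e16c61cb3813c71137bd) (.leaf 0)) (.node (.leaf 0x19dc1e8f000023160ffc457b0c568592fe7c21832b956028f41d) (.leaf 0)))) (.node (.node (.node (.leaf 0x189721b700010759167816770c3484f35a5296994b02f933515f) (.leaf 0x2ce82ce500003ec61dac456f12760514652b164769030b7b2518))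 (.node (.leaf 0x3962463e00011ca63fa808fc16870456b17a34ef1da08255a18b) (.leaf 0))) (.node (.node (.leaf 0x24472959000011482d9900d7102604f4136733005885a715f000) (.leaf 0)) (.node (.leaf 0x376109d800012a624c174b7d16460430ed51966861537924d149) (.leaf 0)))))) (.node (.node (.node (.node (.node (.leaf 0x47c0073c000101a2059b011d1af40410aa4a055d61c17a54624d) (.leaf 0x3f9b4b87000030bf333f4f4418918577383ab3997b147a518428)) (.node (.leaf 0xc6f4c2a0001154915e01123082705f7465aa7dd2095ff41d333) (.leaf 0))) (.node (.node (.leaf 0x4e3350fc00010af51fb11fb01e238477c264518559d1c82cb7d9) (.leaf 0x25b0eed00014d544f214a62048685716f65f4e82290cf24d32d)) (.node (.leaf 0x13611299000121700bab2b0e0a670431d34c97ac0704352625be) (.leaf 0)))) (.node (.node (.node (.leaf 0x3f1e14030001062a13331332188185d1f51f20c14e767e518428) (.leaf 0x47ce499700003b751c7d52691af405d7094b037454d65c12d24d)) (.node (.leaf 0xd5a3fab00001b1b3db3376208668556106f71cf57c30a7b2537) (.leaf 0))) (.node (.node (.leaf 0xc12a06011700000ff92afb2afa122204d0183703122456ed049586)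 (.leaf 0)) (.node (.leaf 0xbdf52e5000128823b43152906f485f7ee20838244523162128f) (.leaf 0))))) (.node (.node (.node (.node (.leaf 0x54351e4000103db0c920c9104e40477d416155d7c333862128f) (.leaf 0x3f561c02000135ba29282ff8188584d2bd2d42ef27c47a518428)) (.node (.leaf 0x231425540001182a397b2eec0ee18493ae32314f35a073295025) (.leaf 0))) (.node (.node (.leaf 0x4a7d3a7900000d6c258125801c6685b5945e538067c49768a7bd) (.leaf 0)) (.node (.leaf 0x171255103ab000024de42892409104584305458d14179572e025000) (.leaf 0)))) (.node (.node (.node (.leaf 0x248a478000010886028b19a410320556d501f6aa55b4f47d9586) (.leaf 0x3df70f3c0000428c44fa51f8185784f17c6ac3763b47e9518621)) (.node (.leaf 0x3459067c00001e2841893bd514c48530996a70f07b051d2ab68a) (.leaf 0))) (.node (.node (.leaf 0x46730476000112a0302d302c1aa78470672d67dd1967b7000335) (.leaf 0)) (.node (.leaf 0x19d2890413700012c7b46f13b6d10d18416384f03348016d82c7000) (.leaf 0)))))))) (.node (.node (.node (.node (.node (.node (.node (.leaf 0x1900a1700000049010f010e04748410f21dd71b1d53fc33328f)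 (.leaf 0x32bb481800012e034a15184214728576e34913ea7e123170b6de)) (.node (.leaf 0x36d143e4000113a012c83212163684367921772b29b2ad68a2cb) (.leaf 0))) (.node (.node (.leaf 0x283a09c0000009711bf503dc10c38550eb1e922d59d7612c7546) (.leaf 0x2e40681000145d0225c49a0049704909a07178508d6be5372ab)) (.node (.leaf 0x4481417600001f641f5138181a7104363e2b91b80787b558655a) (.leaf 0)))) (.node (.node (.node (.leaf 0x4aa13a6e000104b80f190f181c720435937762f40a104a3357bd) (.leaf 0x2863304f000137d51715129110c70474ae7d839e6083d92c7546)) (.node (.leaf 0x4fdd33a90001194315d5324a1e5485b4fc4bc14a46b1775be7b2) (.leaf 0))) (.node (.node (.leaf 0x42ee237f00010e57279127901a3505d3836d13ce2c97b6000295) (.leaf 0)) (.node (.leaf 0x31fc28190000263d3d04490714568593f63c96513e03de28f295) (.leaf 0))))) (.node (.node (.node (.node (.leaf 0x2b249900230001027508450844103285300339435d7c536b7d9000) (.leaf 0x2ad34efe0001328f473340d5123684779375a45a15e2d87b2000)) (.node (.leaf 0x2116215b0000166236b534e40ea184d3505f11273952472cb41d) (.leaf 0))) (.node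 (.node (.leaf 0x4661034a00000bde06c021ef1aa704304e62a5f41617ae586335) (.leaf 0)) (.node (.leaf 0x4853d2b000122ab2798384604d204b5d77a63ce5d561d18b149) (.leaf 0)))) (.node (.node (.node (.leaf 0x463d40bd0001070a0da815a71aa285b62b6ec6cc48b3e6546734) (.leaf 0x350b358c00003ddf52d2134f14e10575296ca47f7b12b6295486)) (.node (.leaf 0x32d4349100011c413f223f2114748495121a33824996b562124d) (.leaf 0))) (.node (.node (.leaf 0x527e20da000010f32ceb2cea1ea685d33f5d12e13dd137113124) (.leaf 0)) (.node (.leaf 0x4b560a51000129e44bc81a151c8584d0fa1732f862517f55a70a) (.leaf 0)))))) (.node (.node (.node (.node (.node (.leaf 0x52bc09c90000015c048104b71eb38590eb66f08959d2671497d9) (.leaf 0xd6115ec00013024468d4f0e086704321e3f33ee6a074d1245be)) (.node (.leaf 0x230f2234000014f51a2a346b0ee105f36624a0ec47009f2957bd) (.leaf 0))) (.node (.node (.leaf 0xfaa46af00010aa41eee1eed08b30556c17653f54615ff180333) (.leaf 0x514d324b00004b7d51df4f381e8505b4db45619c4df2406de2c7)) (.node (.leaf 0x4c1938e2000121000ea215cc1ca185356f0850ea4545b473441d)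 (.leaf 0)))) (.node (.node (.node (.leaf 0x2e1336ae000005e01266126512c184753e7be30c11c3042c7000) (.leaf 0x48114a7c00013aac1d9d2f8e1c2284372053027f7ee44b70b262)) (.node (.leaf 0x53020c9000011abe3d373d361ec204513100759b74a08e18b41d) (.leaf 0))) (.node (.node (.leaf 0x4969012700010fa62a4e2a4d1c4605301a4ff59b63171324d180) (.leaf 0)) (.node (.leaf 0x52a437240000280919714a791eb30495492aa3a47822d7295049) (.leaf 0))))) (.node (.node (.node (.node (.leaf 0x4a1a06e6000003950bb80bb71c618550a425c3cc54f4c52147bd) (.leaf 0x51bd2ea20000351b1f0734db1e9285b4892ed2800c74765be70a)) (.node (.leaf 0x3f7f35ae000117cc38ea38e9188785f52c76c4ef54d5815182ab) (.leaf 0))) (.node (.node (.leaf 0x3ced33af00000d1b24c824c7183505b4fc8053ce5d5048000149) (.leaf 0)) (.node (.leaf 0x302702e70001246f140024de142304f0422c97442230b073470b) (.leaf 0)))) (.node (.node (.node (.leaf 0x3e6b406d0001083a18e018df18670576226a825f1297b65865fc) (.leaf 0x39ad18f00001418a25b03ffc169305b26f0b779820f5384862ab)) (.node (.leaf 0x505f055700001dc611db0a871e6585f0781fa1ca1c357d1497bd)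 (.leaf 0))) (.node (.node (.leaf 0x341f2ab10000124e2f842f8314c185f4380694574db48c32d734) (.leaf 0)) (.node (.leaf 0xdc1157200002bf718a9113408760432150be2223f76e97b2537) (.leaf 0))))))) (.node (.node (.node (.node (.node (.node (.leaf 0xf092b76000000d102e702e608a10534473d16517261ec124149) (.leaf 0x1e8948b000012f0f449a4e8f0e340536f203c5165593fc3337b2)) (.node (.leaf 0xfb1b9e4ba2000014492d0333340cb185d73c12c2da3151c82cb180) (.leaf 0))) (.node (.node (.leaf 0x454c09ac00010a0703081d771a850590e86eb0c14fd04751832d) (.leaf 0x307e53720001484d445d22aa142785d7fd18f6025292b614970b)) (.node (.leaf 0x24b54a820001202843bd3c46103384b7210d239e31f55f124546) (.leaf 0)))) (.node (.node (.node (.leaf 0x2d9d07f90001054b10be019412b285b0bb4933120ac3b1049000) (.leaf 0x51021a4000039404e843c8504e28413591fe5df16b07570b6de)) (.node (.leaf 0x5514ea7000119ff3acb1e6204e484378a1fe71b00307570b28f) (.leaf 0))) (.node (.node (.leaf 0x2da057200010efd28f428f3049685507b4493993061e824d428) (.leaf 0)) (.node (.leaf 0x9d83b700001271c2746464906b68515aa0082482922ad68a2cb)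 (.leaf 0))))) (.node (.node (.node (.node (.leaf 0x246c3ef40000030609fe09fd10270595fe3f01e346b6fe180546) (.leaf 0x153c490d000033d64e963dfb0aa38596f757f16e0fc6fe41d335)) (.node (.leaf 0x3b1441330000171537d4096316e184963828647f3c208a295486) (.leaf 0))) (.node (.node (.leaf 0x3945110800000c7e236d0ac7168604b1ac44876e1f47fc24d32d) (.leaf 0)) (.node (.leaf 0x48f43193000123832a3c29651c358494c82bb2f20ad21c78641d) (.leaf 0)))) (.node (.node (.node (.leaf 0x6e49054ad7000107a3174013191c4104b72839c2e17bb69c537262) (.leaf 0x3cb817a300003fae262942f1183385124f2607a23c57c4000333)) (.node (.leaf 0x2d3a46df00001d04360e402612a38556c679739f33c5bc18012d) (.leaf 0))) (.node (.node (.leaf 0x4b2616e60001119c2e400bb41c8204d23a4523fa7293465fc70a) (.leaf 0)) (.node (.leaf 0x3b25053c00012ae91887124116e304b0766fb7ac2127507345fc) (.leaf 0)))))) (.node (.node (.node (.node (.node (.leaf 0x2d9a31ee000001e9067f067e12b28554d07e65f815e34d7d9000) (.leaf 0x86553fd0001314f2824414a068704b80972a68b67a33e48618b)) (.node (.leaf 0x1084e0111b7000115a432b235991e220431bd5447033e923f621262)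 (.leaf 0))) (.node (.node (.leaf 0x3ea1417b00010b4220712070187204363e5ee07d64e3f412d537) (.leaf 0x53c81b5b00014f974f4645571ed40512ae5e907f7c751d18b7b2)) (.node (.leaf 0x1e853b6e000121d21bf33e0a0e3404b5a863807f6574da33315f) (.leaf 0)))) (.node (.node (.node (.leaf 0x2b5e3a8c00010675140201f1124585d59566b45a3713d5025586) (.leaf 0x1fc646c000013c3d514c2e250e5604d6c405c0f95706d028f41d)) (.node (.leaf 0x22424cdb00011b77093d145f0ec404575d40f07f25b08e18b15f) (.leaf 0))) (.node (.node (.leaf 0x2b7d3ef90001104a2ba62ba5124785b5fe52f23539424b7bd12d) (.leaf 0)) (.node (.leaf 0x4304e7f000028fb4b1a4b1904c38417827e15a30e13cb428335) (.leaf 0))))) (.node (.node (.node (.node (.leaf 0x41b93293000104250d680d6718f38534e32607ac05c7c40005be) (.leaf 0x4f764974000036523a3650fe1e4684d70228d6dd50e0cf24d41d)) (.node (.leaf 0x11263ae10001188a256f3a0808e304d59d13052124f2422625be) (.leaf 0))) (.node (.node (.leaf 0xa40e6c269f00000dbc2636263508870593cd8064ef1da71402518b) (.leaf 0)) (.node (.leaf 0x2f4504320001254d1b512f5712e504b06202310c246435262156)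 (.leaf 0)))) (.node (.node (.node (.leaf 0x47da1ab7000108d31a671a661af485529a37a76a7201be12d24d) (.leaf 0x4a9c0ed50001438530f82c491c7185916d2b314f1d032b734025)) (.node (.leaf 0x11943f5f00001e943fe241fc08f18496087f71b82ca1d21806de) (.leaf 0))) (.node (.node (.leaf 0x301b25cd000012f830c530c414228573bb69105f7ca7fe333786) (.leaf 0)) (.node (.leaf 0x50074e0800002cf412f84d7c1e6104f7784e429f26c6ad2147bd) (.leaf 0)))))))))

/-- part of a table -/
def entries14 : Trie := (.node (.node (.node (.node (.node (.node (.node (.node (.leaf 0xa5652fd000100060000001d06c484d7f07926e225e3b818b68a) (.leaf 0x1ebe48b600002d714dba4da80e3585d6f25b859b71a32a734180)) (.node (.leaf 0x13862d030001134b0632316a0a7404d4670566ef7c036a04924d) (.leaf 0))) (.node (.node (.leaf 0x483e33cf0000091f1b2f1b2e1c2385d4fe73e3a43092477867d9) (.leaf 0xaab2be4000044ad51573ecd06d305744f1c67a25c548c428335)) (.node (.leaf 0x2712495600011ef5365b427c10a28457003b230042b4f4049586) (.leaf 0)))) (.node (.node (.node (.leaf 0x6e709110001046d0e430e42065704f0dd05548744a2a7537333)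 (.leaf 0x7504203000037221fd0509606668416482543ea74918a68a55a)) (.node (.leaf 0x3b0616af000018e818023a8e16e104d2327c11cf3a6154295486) (.leaf 0))) (.node (.node (.leaf 0x1e35135500000e0c257e26e30e2584b1e11b56dd0bc5ae214180) (.leaf 0)) (.node (.leaf 0x4a6c3833000125c00d8746c51c660595631212a04672ad1137bd) (.leaf 0))))) (.node (.node (.node (.node (.leaf 0x117f52230001022f0766076508e685f7da0f64b32e82d87b2486) (.leaf 0x46ce067e000131f63cb34fcb1ab405d0996f050105a7dc12d113)) (.node (.leaf 0x10c0e6d2720000115ff36253624088705b3dd0dd68b6880db02518b) (.leaf 0))) (.node (.node (.leaf 0xf5f39ea00000b942130212f08a485f5885f25fa59034d04968a) (.leaf 0)) (.node (.leaf 0x2c5d2e1d0000223c45b645b5126585b47d57f64767c6fe41d156) (.leaf 0)))) (.node (.node (.node (.leaf 0x2933475c000006c014da14d910e28476d25f21ef3fd4f4049518) (.leaf 0x4a752ed300013d03480a4cc11c6684b48d21769a0842ad68a7bd)) (.node (.leaf 0xef4380f00001bd93ea80865089784955b7df1bc72f5067bd2ab) (.leaf 0))) (.node (.node (.leaf 0x32890f600000109f2c4e2c4d147105318416707d47d2e7786537)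 (.leaf 0)) (.node (.leaf 0xbb0532f000129684b6c472c06f38417f480047961421c2cb5be) (.leaf 0)))))) (.node (.node (.node (.node (.node (.leaf 0xc890a280000011703d303d208340530f34885af47865e049113) (.leaf 0x4718517a00002fa24ecd147d1ae28517cb5f91660a83e6546537)) (.node (.leaf 0x36dc1073000014a533db33da163685919e4ba05f23303f68a786) (.leaf 0))) (.node (.node (.leaf 0x5162034000010a551e331e321e8604504e0451b94dc0cf28f2c7) (.leaf 0x10f52d1b000149e5274853e308d784b46854f5b16c93022c770b)) (.node (.leaf 0x4d0f3f240000208a442427551cc205f60430510447e03918b180) (.leaf 0)))) (.node (.node (.node (.leaf 0x1a6c000600010596119711960c860590013df2f80b97f824d2c7) (.leaf 0xdc0dd2000039f3423e395d045685915725308b2c67f828f295)) (.node (.leaf 0x1ec94d1400011a5d08ce3cb40e360537622fd31900103f113124) (.leaf 0))) (.node (.node (.leaf 0x430b0b8600000f5029a124731a410571152b857177567e1562cb) (.leaf 0)) (.node (.leaf 0x36e511a7000127954a214a20163704b1bb46e4f21af073295621) (.leaf 0))))) (.node (.node (.node (.node (.leaf 0x4a004e0b0001034d0aab0add1c610417785e43d36b2186214025)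 (.leaf 0x41a40bf90000347a4645454318f30491216160f45ca4010005be)) (.node (.leaf 0x45ed1a6a000017731e4134dd1a9705b29263f2ea32412b5182ab) (.leaf 0))) (.node (.node (.leaf 0x4d7347f100000cce242224211cc58476e00690da80939032d124) (.leaf 0)) (.node (.leaf 0x1c4e013e000023f747591cfc0cc405d01b40f07f71729818b7b2) (.leaf 0)))) (.node (.node (.node (.leaf 0x398a3582000007f01813181216920555290bd3994560135be428) (.leaf 0x3b65069d000140a0406c52df16e604b09b5a03d039c40a11355a)) (.node (.leaf 0x4ab152ce00001d6619cf40971c728437eb7800ec15b4da3337bd) (.leaf 0))) (.node (.node (.leaf 0x10171e9e000011f51c702ee808c184f2ff69005f1515132c72cb) (.leaf 0)) (.node (.leaf 0xa0d3a9200012b754c1432a006c205b5962e562d09351d2ab295) (.leaf 0))))))) (.node (.node (.node (.node (.node (.node (.leaf 0x4eb44a870000008d01ff01fe1e3384972147700f31f2e72cb7d9) (.leaf 0x3ea71c1a00012e9043074e4a187204f2be5ba1660780a9546537)) (.node (.leaf 0x46cd1bd2000113f732a031681ab405b2ba3505af1a33e654668a) (.leaf 0))) (.node (.node (.leaf 0x165b01c5000009bd1cba1cb90ac585702a1d14315697612c72cb)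 (.leaf 0x52da08c4000147184f844cbf1eb48550d52161203594b53337b2)) (.node (.leaf 0x32ce163500011fc743584357147405d22544a6ef0fb22c70b24d) (.leaf 0)))) (.node (.node (.node (.leaf 0x226c0dbc000105030ff20ff10ec705915355229e35e1ee428049) (.leaf 0x245003af0001389317962fef10268410547f41413c834415f000)) (.node (.leaf 0x3cfa101d0001199f2a5e3ba218358551976a862d1227b6586295) (.leaf 0))) (.node (.node (.leaf 0x37283fc400010eac28432842164305161421a7645346be486335) (.leaf 0)) (.node (.leaf 0x453829f9000026ab30f610051a8385142755427905c12b5182ab) (.leaf 0))))) (.node (.node (.node (.node (.leaf 0xd015154000002bd0921092008640437c91f855d5843b104924d) (.leaf 0x4d2902850001333a3c4550361cc30530371900896f7236428049)) (.node (.leaf 0x53f62208000116bf0bf515e91ed584d3626966a915c626428262) (.leaf 0))) (.node (.node (.leaf 0x156527e500000c3022b022af0aa604b3f031f3b64e055c7b2214) (.leaf 0)) (.node (.leaf 0x3837188700012316468444e3166284f2634913ea20122170b55a) (.leaf 0)))) (.node (.node (.node (.leaf 0x2ded32a70000075a167a167912b705b4e413a39f73574d12412d)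 (.leaf 0x36a40a9300003ec72e4c523a16330491002935080a01cd734621)) (.node (.leaf 0x488508400011ca709b52a1304d20517b920445c49d51d18b295) (.leaf 0))) (.node (.node (.leaf 0xd40e0325fc000111481cf12d9a08810473bf4c415a1c16b47bd32d) (.leaf 0)) (.node (.leaf 0x2e7f12a200002a633644096512c785f1d40f11945b31cc2c7546) (.leaf 0)))))) (.node (.node (.node (.node (.node (.leaf 0x26274e0e000001a3059d059c106204f7786855c61de7077d9156) (.leaf 0xe963bcd000030c04f511dba089184d5b64e51e016b6b402532d)) (.node (.leaf 0x27fd2cd50000154a1a88350510b785b4623f36f943a4a2124546) (.leaf 0))) (.node (.node (.leaf 0x1f16418d00000af61fb31fb20e4484d63f6d514a3a212a5be15f) (.leaf 0xfb03c3f00004d553fa353f508b38415c180948764c27a180333)) (.node (.leaf 0x3ab60e51000121711d9f44ed16d284d16209108b70e0392ab149) (.leaf 0)))) (.node (.node (.node (.leaf 0x230624f40000062b133409300ee104d3a729a0ec48f57d2957bd) (.leaf 0x3a12065100013b763fb8435b16c18450961b65152a148c32d734)) (.node (.leaf 0x2b23052d00011b1b3c0b3db412430470745fb2eb7f460a02512d) (.leaf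 0))) (.node (.node (.leaf 0x458b19b900010ff9280a2afc1a9105728150d1e0456581156428) (.leaf 0)) (.node (.leaf 0x15c052f4000028831b0d4ad00ab40417f02ff5f73b432e7d9113) (.leaf 0))))) (.node (.node (.node (.node (.leaf 0xfdd26f3000003dc0233018508b485b3d82b75ac1af36b7d9113) (.leaf 0x3f9d0567000135bb1a763aff189185b0793361e04563da156428)) (.node (.leaf 0x191f4f670000182b397d397c0c4485f79d3523871086c55be15f) (.leaf 0))) (.node (.node (.leaf 0xb2e070a00010d6c2583258206e305d0a63f225f28d40d2cb5be) (.leaf 0)) (.node (.leaf 0x21ef42dd000124df0d251a330eb705f65d73e3a42de2477867d9) (.leaf 0)))) (.node (.node (.node (.leaf 0x51140c1b00000887074719a51e8184912567919c4c77815372c7) (.leaf 0x2ba233df0000428d424c159912530454ff74663644c7187bd12d)) (.node (.leaf 0x94a365100011e28418b418a06a605553909c57102139268a2cb) (.leaf 0))) (.node (.node (.leaf 0x4f165314000012a1302f302e1e4184d7f34a96ae400340486124) (.leaf 0)) (.node (.leaf 0x2ca4f7100002c7d19554d37049605579e05c2287d76d028f428) (.leaf 0)))))))) (.node (.node (.node (.node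 (.node (.node (.node (.leaf 0x363b09ba000100490111011016238570e95e83766fd0b073470b) (.leaf 0x6d74d6400002e043eb54e01065684f7690e966870e1e824d149)) (.node (.leaf 0x13c23320000013a119612cc80a760454f00df25d37c2f115f537) (.leaf 0))) (.node (.node (.leaf 0x51652489000109711bf71bf61e8604b39d5193fa74371324d2c7) (.leaf 0x51a116ea000045d2468f1d281e9204323a5686985fb05e5fc2c7)) (.node (.leaf 0x53be3cd400011f640c7f22501ed385d5d12014d46c1174428049) (.leaf 0)))) (.node (.node (.node (.leaf 0xdd6157c000004b90f1b0f1a087684d2156f71cf1b618e7b2486) (.leaf 0x2d8b3580000037d8519f4aae12b205752905630c11936a049000)) (.node (.leaf 0x788464d000019440a3d3b1706740516b26a576d0fb70d33324d) (.leaf 0))) (.node (.node (.leaf 0x478e32c200000e58279327921af205d4e63037397877dc12d486) (.leaf 0)) (.node (.leaf 0x213b2c910001263d4908342f0ea285745e05a4d843323170b262) (.leaf 0))))) (.node (.node (.node (.node (.leaf 0x4d0a343300000276084708461cc20555092392f20ad74c18b41d) (.leaf 0x3aa416ee000032924ef6500616d204923a7eb3ce2bb45018b149)) (.node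 (.leaf 0xda20bac00011662075236b608750451176af0d003077a18055a) (.leaf 0))) (.node (.node (.leaf 0xae20bc200010bde21f121f006d504511b22572566f6f1428214) (.leaf 0)) (.node (.leaf 0x38b83fb1000022ac46210c4016728516111fe5df34f07570b6de) (.leaf 0)))) (.node (.node (.node (.leaf 0x287403b0000070b087715a8049204f61e5147545e70435be32d) (.leaf 0x49b72f9a00003de052d30b031c5384f49e57b14c0a65806de7d9)) (.node (.leaf 0x9a7339600001c433e683f2306b304f4f942f7441e754514970b) (.leaf 0))) (.node (.node (.leaf 0x469551da000010f414252cec1ab184b7d34ce65100a401586295) (.leaf 0)) (.node (.leaf 0x4faa1d0a000029e52a661d4e1e530552d14e74fb2ce3456de049) (.leaf 0)))))) (.node (.node (.node (.node (.node (.leaf 0x29d424850001015c005e04b810f584939d3f36d674374d124518) (.leaf 0x1fab4c9e00013025134e2a400e550577526822e174271c537262)) (.node (.leaf 0x13ea29d0000114f50862346c0a7705542207b2e95003142625be) (.leaf 0))) (.node (.node (.leaf 0x2ab1141700000aa51ef01eef12338431f63397590a64a2262546) (.leaf 0x49ac1d0100004b7e53f04f1d1c530592d10541f77ba2b56de7d9))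 (.node (.leaf 0x13c6496d000121013730448c0a7604d7016c13987de2d815f486) (.leaf 0)))) (.node (.node (.node (.leaf 0x33c912af000105e01268126714960531d47c87541977fc24d32d) (.leaf 0xb25339200003aad438c503a06e304b4f92bb3ee20f1ea7865fc)) (.node (.leaf 0x7004d0c00001abf3d393d38066404176043037418c29c33524d) (.leaf 0))) (.node (.node (.leaf 0x3427366600010fa72a4f08ca14c204f53a23966804034a18b149) (.leaf 0)) (.node (.leaf 0x466219ac0000280e1dc246a81aa704527e7161460a7118000333) (.leaf 0))))) (.node (.node (.node (.node (.leaf 0x4727058f000103950bba0bb91ae304f08074f7ef57e4e20005be) (.leaf 0x1c0f1fb60000351c2efa377d0cc105f3201b672474f39032d124)) (.node (.leaf 0x4042ad5000017cd38eb013d04c204943a42c08b29358f2ab295) (.leaf 0))) (.node (.node (.leaf 0x2c632edf00000d1c24c91bbb126604748d76762776b2f115f156) (.leaf 0)) (.node (.leaf 0x4b2035e70000247047b047af1c820415303a91b942a1775be70a) (.leaf 0)))) (.node (.node (.node (.leaf 0x4b930c180000083b05ac18e11c918471254922414e93ef53770a) (.leaf 0x42443a4d0000418c535c506c1a240495916f41341db02754668a))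 (.node (.leaf 0x1307129200011dc7373a3baa0a6404f1d313b66618c4b104924d) (.leaf 0))) (.node (.node (.leaf 0x2d4612fb0001124e2f862f8512a604d1d975f6fa4aa62315f586) (.leaf 0)) (.node (.leaf 0x3e570fd800002bf849dd4ceb186484f1903314b81ff80454628f) (.leaf 0))))))) (.node (.node (.node (.node (.node (.node (.leaf 0x192f1dd5000100d1003702e80c4505f2e616b4d83e264f486124) (.leaf 0xba04b9a00002f1044eb4e9006f304173b40203d4fe1ea2cb5fc)) (.node (.leaf 0x29cd0c3b0000144a333517c210f505b1286e73275d974d262518) (.leaf 0))) (.node (.node (.leaf 0x53c24c6c00000a081d791d781ed404574e6a05167a834a2ab15f) (.leaf 0x3f5c1c4a0000485252d83e2a18858592c16634902ca12b15632d)) (.node (.leaf 0x389d4b780001202943be184c167185b73747707e67f2832cb486) (.leaf 0)))) (.node (.node (.node (.leaf 0x22a63ece0000054c10c010bf0ed204d5f973707239508e2ab41d) (.leaf 0x1e6713540001394051f13f920e2704f1e11a10831362b62957d9)) (.node (.leaf 0x352d264800001a00183c3c2e14e305b3c55172847e07832145fc) (.leaf 0))) (.node (.node (.leaf 0x45a347b400000efe28f628f51a930476da2d579872147a1562ab)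 (.leaf 0)) (.node (.leaf 0x4bc50cc0001271d49c749c604d38597bf4b642331343b32d335) (.leaf 0))))) (.node (.node (.node (.node (.leaf 0x1a0a2041000103060a0009ff0c8105533107719c35b3456de2c7) (.leaf 0x2197226c000033d7506b07d80eb184f36953b1837cc40d786180)) (.node (.leaf 0x27ec17000001171537d50e8c10b705923c0d31e35b60bf262546) (.leaf 0))) (.node (.node (.leaf 0x21c231d800010c7e03d521e90eb40454ce1616b74cd33862115f) (.leaf 0)) (.node (.leaf 0x192726380000238446e62e060c4504f3c44a96ae578340486124) (.leaf 0)))) (.node (.node (.node (.leaf 0x1d31971000007a41544174104768472781e75bf67f5c31136de) (.leaf 0x1ff5488900003faf4eee51270e5784b6eb4c34d465705d6de7d9)) (.node (.leaf 0x4bc41be200011d043d803f671c950492bb2306984114fa6de70a) (.leaf 0))) (.node (.node (.leaf 0x10da27260000119d2e422e4108d58553dd43c4122aa30470a2cb) (.leaf 0)) (.node (.leaf 0x1aed45e300002aea36990a690c9605b6a804250c55437924d70a) (.leaf 0)))))) (.node (.node (.node (.node (.node (.leaf 0x3fd60b78000101e9064d0680189584d1143ab3991997db51832d) (.leaf 0x4ae308b5000031504f923e521c760470d41d609e6e828768a025))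 (.node (.leaf 0x2d1326df000015a5266203f112a28473d47b933047b4b17d9000) (.leaf 0))) (.node (.node (.leaf 0xc124c0a00000b432073207208248457435f25fa5444f4049113) (.leaf 0x289d390b00014f994c3a526e10d185b57267c60b0245c82c7586)) (.node (.leaf 0x10d051e2000021d4455b455a08d58417d408443173f3022c7786) (.leaf 0)))) (.node (.node (.node (.leaf 0x18aa323a00000676140414030c350554d75e80ea10a416734180) (.leaf 0x3161e9f00013c3f2fda504404a284d2ff69105f6154a83332cb)) (.node (.leaf 0x2a93096200001b7a3e2431a712328470e41c27577bb36a7d9000) (.leaf 0))) (.node (.node (.leaf 0x1e3329c20001104b29182ba70e2584742106e3012c532a734180) (.leaf 0)) (.node (.leaf 0x39574264000028fc2d7a24b2168684f6505924904921e824d428) (.leaf 0))))) (.node (.node (.node (.node (.leaf 0xf262057000004260d6a0d6908a304d3322a816e06f78b41d333) (.leaf 0x5842f2b000136525140411104f20494937847a428c09762155a)) (.node (.leaf 0x35f0e160001188b081a3a0904a685f15c4277f229a5c31132cb) (.leaf 0))) (.node (.node (.leaf 0x3146164a00010dbc26371f48144404d22945213452b2fa5fc113)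 (.leaf 0)) (.node (.leaf 0x1b7b3d53000025503e9420c40ca78575da1920833a725a786049) (.leaf 0)))) (.node (.node (.node (.leaf 0x37c54a5c000008d41a691a68165404b71e7205504d105e5fc68a) (.leaf 0x4af800900000438642203ec51c7685100c0e52f452640a68a7bd)) (.node (.leaf 0x1d8c204e00011e9541fe41fd0cf10593316e00ec35b265295025) (.leaf 0))) (.node (.node (.leaf 0x520417fe000112f830c627301ea104925568f10442b5b473441d) (.leaf 0)) (.node (.leaf 0x2ba35ce00002cf5271d1195049385552e57b42661f5806de2ab) (.leaf 0)))))))))

/-- part of a table -/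
def entries15 : Trie := (.node (.node (.node (.node (.node (.node (.node (.node (.leaf 0x35fb2cda00000007001f001e14f685746253459c1bf4e11136de) (.leaf 0x1698395a00012d724cf143a30ad185157a4397f24e41452c72cb)) (.node (.leaf 0x31bd42e10000134c316b0be7145385b65f0b766c5a010e486335) (.leaf 0))) (.node (.node (.leaf 0x2f0710a50001091f1b311b3012e104f1a34245ab2a977a41d518) (.leaf 0x52b10e31000044b2428114411eb384316004469771f265149049)) (.node (.leaf 0x34d6007c00001ef736f7427d14d484d00a5325a91a95202ab68a) (.leaf 0)))) (.node (.node (.node (.leaf 0x4c6c10900000046e0e450e441ca60591a10767243d740a113262) (.leaf 0x258f2c590000372327273b07105105f45842a33442460a025000)) (.node (.leaf 0x2def0ac1000118e8083d391d12b705f1030e32eb68566a262546) (.leaf 0))) (.node (.node (.leaf 0x3e890f6800010e0c26e4215218710531845c47a42850480006de) (.leaf 0)) (.node (.leaf 0xbde5343000125c248b0333a06f485d7f61264b851433862128f) (.leaf 0))))) (.node (.node (.node (.node (.leaf 0x206115f900000230076807670e8604321f3df2f82e65cb24d70a) (.leaf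 0x193e4f68000131f84fc6239a0c4585d79d3836a91533ef537262)) (.node (.leaf 0x53e935a00000160028371d931ed505352c0d47243eb0de32d124) (.leaf 0))) (.node (.node (.leaf 0x434211e900010b94038a095a1a450451c14be52a37e7db1562cb) (.leaf 0)) (.node (.leaf 0x2af092c0001223c45b70c09049305f0df77178528d34555a18b) (.leaf 0)))) (.node (.node (.node (.leaf 0x456e2eea000106c014dc14db1a8705d48e4be7485147e91562ab) (.leaf 0xada2e2a00003d0452b04dee06d485547e4190f053e0392ab113)) (.node (.leaf 0x375f3a8700011bd909643ea9164485f5954580f03a06c55be68a) (.leaf 0))) (.node (.node (.leaf 0x27310e3f0001109f0b1c287c10a384316065b6f90df37b41d12d) (.leaf 0)) (.node (.leaf 0x18a328041700000296b4a902441147104163e00a07d07821c786537) (.leaf 0)))))) (.node (.node (.node (.node (.node (.leaf 0x1c3d15388500010117015503d4184184b5681c705f7d0268156786) (.leaf 0x38fd03e500002fa331f54ece167785b0583917ac29d79c2cb5fc)) (.node (.leaf 0x1b9a1d85000114a506ad33dc0cb18552de10610428b2472cb41d) (.leaf 0))) (.node (.node (.leaf 0x365a234b00000a561e351e34162685537d5344cf2930951132cb)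 (.leaf 0x33cb1ca2000049e85287380d14960572c91ad1e04a76d028f428)) (.node (.leaf 0x26fb1e3a0000208b358923a710768572f66f75c651c18e7b2518) (.leaf 0)))) (.node (.node (.node (.leaf 0x3dd80a4b000005971199119818558510f872357123c79f156786) (.leaf 0x18e13d9d000039f5521c41000c370435e06e01f75bb265295049)) (.node (.leaf 0x26900da400001a5e3cb63cb510718411521a537f7ab55f124156) (.leaf 0))) (.node (.node (.leaf 0x465d0c3200000f5129a329a21aa485b1281445d36831a4546113) (.leaf 0)) (.node (.leaf 0x26fc287d000027964a234a2210768593ff6d45033b730b15f518) (.leaf 0))))) (.node (.node (.node (.node (.leaf 0x34960c1c0000034e0adf0ade14d184d1256c701d4b4626428734) (.leaf 0x4e0d0b810000347b2df54aeb1e2205b1150961910b563b621124)) (.node (.leaf 0xade51a6000117731e99385f06d485d7ce2065a97383b82ab68a) (.leaf 0))) (.node (.node (.leaf 0x17660d1e00010cce242424230ae604d13d75f68d5d25a715f486) (.leaf 0)) (.node (.leaf 0x18d32542000023f913fc3c0c0c368473ad2234104ce392113262) (.leaf 0)))) (.node (.node (.node (.leaf 0x44ce009b000007f1181518141a7405d00c6f076d0fb7dc12d24d)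 (.leaf 0x1e10a14000040a42b50318d04770430f21b53281d55ae2145fc)) (.node (.leaf 0x20730b1800001d6740982aa70e8684710a24f43f5b54ea24d2c7) (.leaf 0))) (.node (.node (.leaf 0x1f4030f9000111f52eea2ee90e460414bd61f1043dc7f824d180) (.leaf 0)) (.node (.leaf 0x22e0202f00012b773d384cab0ed704132c59a4fb73c46c32d7d9) (.leaf 0))))))) (.node (.node (.node (.node (.node (.node (.leaf 0x299c14f50001008d0201020010f18592092ac0b308c37b180518) (.leaf 0x45593bde00002e91328a20271a858535b86c800544e14d518428)) (.node (.leaf 0x495611ee000013f80ba206d01c4484d1c17ec16c4a50435be15f) (.leaf 0))) (.node (.node (.leaf 0x49e54ef0000109bd1cbb07751c5604b7930426dd7ad71324d180) (.leaf 0x219e3066000047194f5344bb0eb185d4b04b4183001704786180)) (.node (.leaf 0x2911029500001fc8426b435910e18430383d737f66b27a41d156) (.leaf 0)))) (.node (.node (.node (.leaf 0x48ce1aa5000005040ff40ff31c3405d2992560fd34e6cd70b7b2) (.leaf 0x2d5d2a510000389451d251d112a685b42f2ce5f82ac30b15f000)) (.node (.leaf 0xd2927d6000019a022f23ba308650533ec3cf5bf3ff65318055a)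 (.leaf 0))) (.node (.node (.leaf 0x2e3c218500000ead0837284412c38593553c66895675c870a12d) (.leaf 0)) (.node (.leaf 0x3e9352cf000026ac1c0033cb18718477eb7b32373933bd5866de) (.leaf 0))))) (.node (.node (.node (.node (.leaf 0x3d2d4c5c000102bd092204a4184305b74b603361254178156621) (.leaf 0xaa0ddc0000333c4d824967045505515768e6cc2c64cc55a734)) (.node (.leaf 0x2bcb472d000016c02de7354112550576cb7273510d33b07bd000) (.leaf 0))) (.node (.node (.leaf 0x4465233c00010c3122b222b11a6704b37c63d28e2040265865fc) (.leaf 0)) (.node (.leaf 0x3f7d3f0c0001231746852d5b188785b6015e07482ed15d15618b) (.leaf 0)))) (.node (.node (.node (.leaf 0x20da438c0001075a167c167b0e958556706876985e066e48670a) (.leaf 0x2300340900003eca500e0edf0ee104150446d3fb76c2031497bd)) (.node (.leaf 0x1b84429400011ca83faa3fa90cb104965716707232c2e7786180) (.leaf 0))) (.node (.node (.leaf 0x4a9b25e9000011492d9b101c1c718573be4e429f64854a214025) (.leaf 0)) (.node (.leaf 0x9d0088a00002a642f2224dc06b68410d161a05f52c49768a2cb) (.leaf 0)))))) (.node (.node (.node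 (.node (.node (.leaf 0x3f2b52a5000101a3059f059e18830577e72fe6b325111a51818b) (.leaf 0x4f623266000030c236a347081e460454dd2d31834417d628f41d)) (.node (.leaf 0x365943950000154b26153506162685367131a43146221868a786) (.leaf 0))) (.node (.node (.leaf 0x4aa814dc00010af61fb51fb41c720512065282f445b50a3357bd) (.leaf 0x40b70c1300014d5e2cc5151818b284f12536701d0997dc546734)) (.node (.leaf 0xb8b213200002172163c31cc06f205734e10b59c7c66cd6216de) (.leaf 0)))) (.node (.node (.node (.leaf 0x13e34d710001062b01cd13350a7704776b0ef2e964b4de2625be) (.leaf 0x10442c1500013b774b3130c308c50494532ec7fa66561970a786)) (.node (.leaf 0x40eb0aed00011b1c09183db518b70571066b03e4038118586333) (.leaf 0))) (.node (.node (.leaf 0x43ab1d0b00000ffa2afe2afd1a530572d150d36125420e156621) (.leaf 0)) (.node (.leaf 0x13b14d79000028853bed11e10a7584376b4ed13c0e61d21806de) (.leaf 0))))) (.node (.node (.node (.node (.leaf 0x4350155b000103dc0c940c931a458412105a82c238f047518786) (.leaf 0x1c973381000035bd464e46030cd184f4f80586ae716390428124)) (.node (.leaf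 0x46364e880000182c31bd14dd1aa284d78437a06473e1be12d214) (.leaf 0))) (.node (.node (.leaf 0x37303c8c00000d6d2585258416438415ca6791726f56f8537333) (.leaf 0)) (.node (.leaf 0x1bc28f6000024e02f2e37d204758594094d377219b267149537) (.leaf 0)))) (.node (.node (.node (.leaf 0x41c820d50001088719a719a618f405133f3aa58311517a12d24d) (.leaf 0x4f6131530000428f2f664af71e460434c31002f20e37fc24d180)) (.node (.leaf 0x2b22260d00001e29418d418c12430453c066b7595cd3b002512d) (.leaf 0))) (.node (.node (.leaf 0x418a1589000112a108ba303018f20552165ba1662387dc546486) (.leaf 0)) (.node (.leaf 0x485409d200012c7d10b840661c248490ed1962a43b57f970b7b2) (.leaf 0)))))))) (.node (.node (.node (.node (.node (.node (.node (.leaf 0x1e6930a90000004a011301120e270534b736214c2de0c21497d9) (.leaf 0x53d0fb400002e064dda46aa04e385b18d40203d4ff6282cb5be)) (.node (.leaf 0x46924469000113a2321432131ab184568357803e04e7b6000295) (.leaf 0))) (.node (.node (.leaf 0x365d0273000009721bf802cc162685b0364615711ac2ad68a2cb) (.leaf 0x3bda50ed000145d22a90386116f48557c169171b7f34a833324d))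 (.node (.leaf 0x14a3339d00001f65190742e00a930474f97461bc1f67187bd2ab) (.leaf 0)))) (.node (.node (.node (.leaf 0x2b3f116f000104b90f1d0f1c124385f1b35fb2eb3092e4025546) (.leaf 0xd960ba8000137d91c4429cb087484d1175b370540f6ed04928f)) (.node (.leaf 0x36b352500001194408603b1816338477e00166024756ad734621) (.leaf 0))) (.node (.node (.leaf 0x38ea21f300000e592795279416770553601925e27731c87865be) (.leaf 0)) (.node (.leaf 0x23b425580000263f490932ca0ef28493ae4c02a033604a3357bd) (.leaf 0))))) (.node (.node (.node (.node (.leaf 0x35603046000102760849084814e60414ae40b59c38321811355a) (.leaf 0x449d4b71000032934aa050071a7185b73710a6a30307b558655a)) (.node (.leaf 0x39c3491c0000166315d714da16960476fb6e55ce39c0d828f428) (.leaf 0))) (.node (.node (.leaf 0x327467d00010bdf1cd2188d04a304f6bc6064f21932b629570b) (.leaf 0)) (.node (.leaf 0x2eba3624000022ad0f612cd112d38555344096895674d670a12d) (.leaf 0)))) (.node (.node (.node (.leaf 0x181147950001070b021215a90c248436d72321763034da33515f) (.leaf 0x39a5385d00013de1485e52d4169304b5656df80756c7814862ab))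 (.node (.leaf 0x39fa1ab800001c443f242a5f169785529a3f81bc72f46355a2ab) (.leaf 0))) (.node (.node (.leaf 0x4dfb4711000110f42ced059f1cd58576ca0e74d83d748c428262) (.leaf 0)) (.node (.leaf 0x2fb30713000129e54bc9154812f28470a71c20f50d636a7d9156) (.leaf 0)))))) (.node (.node (.node (.node (.node (.leaf 0x3f7949900000015d04ba04b918878537090c050f06b12b1562ab) (.leaf 0x1609407600013028473c4f0f0ac10536244734122c96d870a786)) (.node (.leaf 0x4b431746000014f6346d05441c850472443a643f1354186de2c7) (.leaf 0))) (.node (.node (.leaf 0xf8725fd00000aa61ef21ef108b104f3bf6317bc20a78d124295) (.leaf 0x301c34a100014b8053a64cba14228595141310a3362543335786)) (.node (.leaf 0x404d39f900002102448d358318a405b5895ee42d54b29112d68a) (.leaf 0)))) (.node (.node (.node (.leaf 0x50f01f58000005e1126a12691e768413185e53803ec18a68a025) (.leaf 0x4d6d1ab000003aae523e4c791cc505b29a0304d83d762f428262)) (.node (.leaf 0x36ab152500011abf08f40c85163305720c25c3ed54e4c5214621) (.leaf 0))) (.node (.node (.leaf 0x1e7c458b00010fa8052f2a500e278596a16e01f725b2672957d9)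 (.leaf 0)) (.node (.leaf 0x18f5431c000028111d4823a00c3784b6634d34fb7792d7149049) (.leaf 0))))) (.node (.node (.node (.node (.leaf 0x3e3c06ed000003960bbc0bbb18628590a467b1cf5983f412d537) (.leaf 0x166348560000351e3d2850d90ac70476e73ec1e21f14d62c770b)) (.node (.leaf 0x18423077000117cd38ed38ec0c260454b25070115514e168a262) (.leaf 0))) (.node (.node (.leaf 0x303f33cd00000d1d24cb24ca142385f4fe5642a609c0b021470b) (.leaf 0)) (.node (.leaf 0x354a4ca80001247033dc370e14e40557535723747c323433528f) (.leaf 0)))) (.node (.node (.node (.leaf 0x475e20d40001083b073218e21ae485d33f36670552280412d28f) (.leaf 0x321c16d60000418d480c535d14618592392c668d5122e72cb537)) (.node (.leaf 0x3ae123f500001dca194e410d16d704339159a17232646c32d333) (.leaf 0))) (.node (.node (.leaf 0x4f7c238f0000124f2f870af21e468593857e01276947f828f180) (.leaf 0)) (.node (.leaf 0x1dd73c5200002bf946b44cec0cf584f5c42c11ca4b74c52147bd) (.leaf 0))))))) (.node (.node (.node (.node (.node (.node (.leaf 0x262645da000000d202ea02e9106204d6a746675877f34d7d9156)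 (.leaf 0x2de61b9800002f114b5f4e9112b704d2b33d82eb4a5242262546)) (.node (.leaf 0x27f01e30001144a068d3336048785f02c38850f06b66e5372ab) (.leaf 0))) (.node (.node (.leaf 0x15ea014a00000a091d7b1d7a0ab605501c51e4577a173a15f214) (.leaf 0x17bb4909000148564cfc2fbf0af38576f73e728e07466a1245fc)) (.node (.leaf 0x518a2df00000202a43c043bf1e9105547805527d0c72a753770a) (.leaf 0)))) (.node (.node (.node (.leaf 0x7d52d000001054c10c10dcb067684b4670086a30302ad68a55a) (.leaf 0x140704cb0001394130a641980a8104f06c6394e83fe718025428)) (.node (.leaf 0x40611d7b00011a00179e3c2f18a70432dd6407dd326401000333) (.leaf 0))) (.node (.node (.leaf 0x3ad84bca00010efe28f828f716d485173e6295d320945018b68a) (.leaf 0)) (.node (.leaf 0x17a25213ac70000271e0f0249c8104304359941122d75a63c02512d) (.leaf 0))))) (.node (.node (.node (.node (.leaf 0x3d9205ef000003070a020a01185184508d79100655567e5182cb) (.leaf 0x15fa2d2b000133d84f6432830ab685546952e6cc2aa18e7b2734)) (.node (.leaf 0x1a54454c0000171631f837d60c8584969d6542f84bd6be4862c7) (.leaf 0))) (.node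 (.node (.leaf 0xdb74ff800000c7f04c2236e087584f7a953959c07877a41d55a) (.leaf 0)) (.node (.leaf 0x3e2b0a6c000123840c8830c818620570fb5ba1661987dc546486) (.leaf 0)))) (.node (.node (.node (.leaf 0x4e3c2b94000107a4174317421e238594491870893ca79c7867d9) (.leaf 0x20a33ec000013fb64d7e531d0e920475f90572413ad6c55be70a)) (.node (.leaf 0x43dd2ff800001d050ec90bc01a5585b4a94bd69223379f518786) (.leaf 0))) (.node (.node (.leaf 0xd7432102eb0000119e2e442e431a430430425a837606f15d518621) (.leaf 0)) (.node (.leaf 0x34b74e8600002aeb47394adb14d284f78426465173e2982ab149) (.leaf 0)))))) (.node (.node (.node (.node (.node (.leaf 0x4a4f2829000001ea068206811c6505f3f741c012794545295025) (.leaf 0x53137a90001315037132fd104e38435534cb10741a1ea2cb5fc)) (.node (.leaf 0x23e83946000015a71c3b359a0ef60515792fd25714003f113025) (.leaf 0))) (.node (.node (.leaf 0x430f402a00010b43207520741a4105f61c4be52a6207e9156786) (.leaf 0x53b243ca00004f9e3e544b481ed38456744650893ca58e4287d9)) (.node (.leaf 0x4f7f0124000121d40bd1455c1e4685f01a24f6dd79e6d024d41d)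 (.leaf 0)))) (.node (.node (.node (.leaf 0x3e162a3e0001067614061405186184d42c5d879b3a57b75866de) (.leaf 0x157c014200003c40417729e00aa685901c1093537d00cb15f734)) (.node (.leaf 0x1d06429d00001b7b3e263e250ce104d6576ca2a04be2b6295025) (.leaf 0))) (.node (.node (.leaf 0x4246326d0000104c0e392ba81a2404d4dd64950126d1be12d113) (.leaf 0)) (.node (.leaf 0x3c9404a5000128fd2f8c43c3183284906a2ee7ed10d29112d214) (.leaf 0))))) (.node (.node (.node (.node (.leaf 0x24327f0001042601300d6b04450494df7d706436d24055a734) (.leaf 0x5af0920000036544a2a514604f305f0df04011d44925a2cb5fc)) (.node (.leaf 0x4f8431300001188c08ec3a0a1e510494c10ed3196720ba486262) (.leaf 0))) (.node (.node (.leaf 0x289a4b8800000dbd2556263810d185573843c6aa1f03d970a586) (.leaf 0)) (.node (.leaf 0x2c420fd3000125501b1d0d61126504519011f64776b5ff41d156) (.leaf 0)))) (.node (.node (.node (.leaf 0x37253ac2000008d51a6b1a6a164304b5990a54250e569c486333) (.leaf 0xb3b024c000143864536235b06e38570325f103d4ff7042cb5be)) (.node (.leaf 0x379305e100001e96126f1c67165184708d32151555558055a734)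 (.leaf 0))) (.node (.node (.leaf 0x122b32bf000112f908bf0ace0a250574e579e3ba2c666a124295) (.leaf 0)) (.node (.leaf 0x121f408f00012cf529cd4d7d0a2485f6257b95ac5476ed7d968a) (.leaf 0)))))))))

/-- part of a table -/
def entries16 : Trie := (.node (.node (.node (.node (.node (.node (.node (.node (.leaf 0x217c28a100010007002100200ea78594030622b046f6287867d9) (.leaf 0x26f814a800012d74167037ca107685120144c0b361038615f156)) (.node (.leaf 0x46300c110001134c316c1fd11aa28411251442d221b1a4546214) (.leaf 0))) (.node (.node (.leaf 0x51908e5000009201b331b3204e28530d723b5df4a963b70b6de) (.leaf 0x29d91b82000144b240de2e7210f58532b20d21ef64a55f124156)) (.node (.leaf 0x11ef539d00001ef8427f427e08f605f8016ce47f66d30a15f537) (.leaf 0)))) (.node (.node (.node (.leaf 0x56e4f180001046e0e470e4604e505d7954b47e445f704786537) (.leaf 0x33154dff0001372316ab4f8b148284b7767c32ef6d303b5fc32d)) (.node (.leaf 0x3fd213ef000018e9315636a418958451f379d5ce4af67e518428) (.leaf 0))) (.node (.node (.leaf 0x2f9e0e4700000e0d26e626e512f185d1614005dc52d41741d518)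 (.leaf 0)) (.node (.leaf 0x3bb217e0000025c348b1446c16f384525401625f3c06ad7345fc) (.leaf 0))))) (.node (.node (.node (.node (.leaf 0x38ca453d00010230009b076916740556966446666a775562128f) (.leaf 0x1951221e000031f94f784fcc0c4684336372130f5791ab28f41d)) (.node (.leaf 0x17fc2e2c000116001b270cf70af685947e5537e456b29415f486) (.leaf 0))) (.node (.node (.leaf 0xa801ba200000b952132213106d20412b71683d65f658f18b295) (.leaf 0)) (.node (.leaf 0x14e442c90000223e30542de60a9704965b4812cd32472e0252ab) (.leaf 0)))) (.node (.node (.node (.leaf 0x36761645000006c114dd0422162784d22929277c25904b149621) (.leaf 0x252b111d00013d0549373f0710430571ad5fd6f95c12e47bd546)) (.node (.leaf 0x266e425600001bda3eaa2292106605d64e1c51ef4092f115f156) (.leaf 0))) (.node (.node (.leaf 0x172b2bec000010a02c502c4f0ae305744f79e3ee56c66a1245fc) (.leaf 0)) (.node (.leaf 0x226515fd0000296c43174b6d0ec704b21f7e129e5ee3cb428049) (.leaf 0)))))) (.node (.node (.node (.node (.node (.leaf 0x76212760000011803d603d506670451d02ae7ef1680b02145fc) (.leaf 0x12de167500002fa44ecf3d560a3685d22e2436cc0a26237b2214))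 (.node (.leaf 0x48322670000014a633de33dd1c238453c900b21333c347786049) (.leaf 0))) (.node (.node (.leaf 0x5052006c00000a571e371e361e6584500952c2f44392b6149025) (.leaf 0x45b53768000049e9523229a01a9384b54e63f2ea4ff12b5182ab)) (.node (.leaf 0x46f22ece0000208c44251de51ab784548b65d3f5277118000333) (.leaf 0)))) (.node (.node (.node (.leaf 0x223f3c0f0001059701b2119a0ec285f5bb7c00f96dc52018b41d) (.leaf 0x2b3e0add000139f64b02283d124385d10566b75934b3d5025546)) (.node (.leaf 0x5105d500011a5f2f013cb7044684308c20f14812c7f828f295) (.leaf 0))) (.node (.node (.leaf 0x327e523000000f52122629a4146785d7de00b2e90912477865fc) (.leaf 0)) (.node (.leaf 0x2f4a324a0000279741c738c912e50554db3e76128064de124156) (.leaf 0))))) (.node (.node (.node (.node (.leaf 0x4a6437960000034f0ae10ae01c6604955240b3cc54f4971137bd) (.leaf 0x401402980000347d1ea03aaf18a18490384333d666713e000149)) (.node (.leaf 0x21c341670000177435272b090eb404763d26607f2ee23162115f) (.leaf 0))) (.node (.node (.leaf 0x32c21f5300010ccf0d9c242514740453183263741fb2f070b28f)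 (.leaf 0)) (.node (.leaf 0x4152432c000123fa2ad52cef18e48456656fc3820e46b854624d) (.leaf 0)))) (.node (.node (.node (.leaf 0x16bb0243000107f1025c18160ad38570321c36024751cc70a621) (.leaf 0x3c3d09b9000140a4533e533d182385b0e95c43f16fd048000333)) (.node (.leaf 0x32c924d500011d674088409914740533a536c3560656b562124d) (.leaf 0))) (.node (.node (.leaf 0x52741b33000011f62eec2eeb1ea68492aa0a031b4ed40a68a262) (.leaf 0)) (.node (.leaf 0x2d12484300012b7810330a7712a28456e61c275711c36a7d9000) (.leaf 0))))))) (.node (.node (.node (.node (.node (.node (.leaf 0xf032ade0000008e0203020208a104743a7aa08b09b66a262295) (.leaf 0x1ccf354400012e914e4b430a0cd405f5240701dc37a6182ab7b2)) (.node (.leaf 0x2321340d000113f832a232a10ee20435046423fb48f4da3357bd) (.leaf 0))) (.node (.node (.leaf 0x1ed008f5000009be1cbc0f4a0e368410d921726e5702ad68a262) (.leaf 0x123515f0001471e23b64bac04650477c971916619804b295486)) (.node (.leaf 0x4372278c00001fc9435b435a1a478453e55a45ea4d111a15670b) (.leaf 0)))) (.node (.node (.node (.leaf 0x1d1824b6000105040fc70ff50ce18513a24852a0169073295025)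 (.leaf 0x3b3d21830000389751d138af16e385b3552bc03d1001cd2145be)) (.node (.leaf 0x20e9394e000119a13ba53ba40e960535796db50c2d41ab24d2c7) (.leaf 0))) (.node (.node (.leaf 0x4be21e5e00010ead284628451c960452fb6e549b2460d828f70a) (.leaf 0)) (.node (.leaf 0x9ac1ee8000026ad4968096c06b30593094852a6674073295621) (.leaf 0))))) (.node (.node (.node (.node (.leaf 0x4cb93298000002be092409231cb38534e34964fb34b2021497d9) (.leaf 0x4888216d0001333d47d146681c3205135278426e469097621262)) (.node (.leaf 0x8983955000116c037433742069285157a08f0cd1ae4045be32d) (.leaf 0))) (.node (.node (.leaf 0x1273243800000c3222b422b30a278473963e9487530308180335) (.leaf 0)) (.node (.leaf 0x500a171b00002318234941171e6105523d49d3fb7a932a214025) (.leaf 0)))) (.node (.node (.node (.leaf 0x16c30bc30000075b0502167d0ad504711b26c6924d375b70a786) (.leaf 0x235442a800003ecb3276053c0ee58496581b51ca1c75ae214025)) (.node (.leaf 0x4f9f442600001ca93fac3fab1e5185f67d27c0da808227486262) (.leaf 0))) (.node (.node (.leaf 0x473630ce000111492d9d2d9c1ae384d4ba67007c2d33bd0005fc)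 (.leaf 0)) (.node (.leaf 0x48fe41c000012a644c194c181c3585d6431a810447e40d2cb180) (.leaf 0)))))) (.node (.node (.node (.node (.node (.leaf 0x3b337a1000001a405a105a004b384755304c1e207626a29570b) (.leaf 0xb811f44000130c217d74f5206f20433163753ea3fe44b70b55a)) (.node (.leaf 0x1b8f334e0001154b350731cf0cb105f4f370e6dd4030342cb41d) (.leaf 0))) (.node (.node (.leaf 0x46bf18ab00000af71fb71fb61ab285f26672d11e0a20a912d214) (.leaf 0x232e223300004d6352d9539b0ee205d3661f50ec2d41a23337bd)) (.node (.leaf 0x1efc0ea00001217244ee1b750e378591690632b02ee0731497d9) (.leaf 0)))) (.node (.node (.node (.leaf 0x3dbe27760000062c13371336185385d3e32e65b14ad4a1518621) (.leaf 0x2db017ed00013b7b3931336612b38412544ed2350a61d2180546)) (.node (.leaf 0x2b494dba00011b1d25503db6124505377152f35145424b7bd586) (.leaf 0))) (.node (.node (.leaf 0x1efa1bb700010ffb2b002aff0e378552b82af1f725b1542957d9) (.leaf 0)) (.node (.leaf 0x49bf2777000128854a2f4ad11c5385f3e338d4fb34b4186de7d9) (.leaf 0))))) (.node (.node (.node (.node (.leaf 0x40e3228f000103dd0c960c9518b704736d7cc7641627e2586333)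 (.leaf 0x13521dfa000135bd1d6d51080a668452ec5e31667745a77b2486)) (.node (.leaf 0x28ce4bdd0001182c397f397e10d505d73f6b23004242d970a000) (.leaf 0))) (.node (.node (.leaf 0x115307aa00000d6e2587258608e48470b562452532432204924d) (.leaf 0)) (.node (.leaf 0x41a72900000024e1445f480818f304f40b0012e91051185865fc) (.leaf 0)))) (.node (.node (.node (.leaf 0x39525df0001088819a919a804b284b3bc73652a5e404a3332cb) (.leaf 0x2b4fb2000142904b4d537004450577a52e83b34445806de734)) (.node (.leaf 0x4a29217a00001e2a2352418e1c620533546e601279429c333025) (.leaf 0))) (.node (.node (.leaf 0x20b52151000012a2303230310e9284b3501bd2413ad1775be70a) (.leaf 0)) (.node (.leaf 0x31c52c4d00012c7f2cec4d38145404b45667a13478e1b15fc68a) (.leaf 0)))))))) (.node (.node (.node (.node (.node (.node (.node (.leaf 0x62c803d6f0001004a0115011412710415db74a62715b0b2124518) (.leaf 0x12684aef00012e064e024bce0a270517297d4425489414180335)) (.node (.leaf 0x1ffe48bf000113a3321632150e5785d6f27fd00f36708255a049) (.leaf 0))) (.node (.node (.leaf 0x1b8b37fb000109721bfa1bf90cb10575595400f94ce3472cb180)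 (.leaf 0x3c69114c000045d552614f9f18250531b064078f25c026000149)) (.node (.leaf 0x4e9e442300001f6642e125691e3285d67d2080da797231621262) (.leaf 0)))) (.node (.node (.node (.leaf 0x35ab07b1000004ba0c010f1e14f30570b60d507c2511957345be) (.leaf 0x4194413a000037e0258c453518f284963867b1cf2193f412d537)) (.node (.leaf 0x41f10b770001194518893b1918f58431142c507a6717ae00055a) (.leaf 0))) (.node (.node (.leaf 0x15bf351300010e592796070f0ab385f51f11f5a32c013241d335) (.leaf 0)) (.node (.leaf 0x1f60a1b0001263f490a3504047784d0f24e452177054a2145be) (.leaf 0))))) (.node (.node (.node (.node (.leaf 0x3cb2525b00000277084b084a18338457e05700b44753bd586335) (.leaf 0xe2e4d4700003294388f1c28088305d7674c46074497187bd2ab)) (.node (.leaf 0x21d415f5000116631e1a36b70eb484921f23a3875ee56e70b7b2) (.leaf 0))) (.node (.node (.leaf 0x49bd2e5400000be021f321f21c5385b4823e529e75e4a655a049) (.leaf 0)) (.node (.leaf 0x4bf4043f000122ad373446221c968490627c249b2463de28f70a) (.leaf 0)))) (.node (.node (.node (.leaf 0x43fb2cae0001070c15aa05481a5785745f6a15085974a1156621)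 (.leaf 0xfd2231e00013de6465b1f3408b4845378624662484322049113)) (.node (.leaf 0x1c4553cd00001c45355a3f250cc404b80564b5166ec5b72ab15f) (.leaf 0))) (.node (.node (.leaf 0x52b2097d000110f52cef2cee1eb38450e541c00f33209f2957d9) (.leaf 0)) (.node (.leaf 0x1edb1bb9000129e64bcb4bca0e368572b83555a2260095113124) (.leaf 0)))))) (.node (.node (.node (.node (.node (.leaf 0xa4a40f00001015d04bc04bb06c40556310865f778e3b818b68a) (.leaf 0x381524c3000030294f104b64166184b3a31877e42d0283786486)) (.node (.leaf 0x11472c1e000114f631c719ce08e404f4536853563524f47d924d) (.leaf 0))) (.node (.node (.leaf 0x193136b500010aa61ef41ef30c4584353f446703372538486262) (.leaf 0x12ad51fd00014b813d5052170a3505b7d56b93d62fb5c7124149)) (.node (.leaf 0x5f54c47000021033a383fd704f584b74a2bb1cf59121c786537) (.leaf 0)))) (.node (.node (.node (.leaf 0x5b23c35000105e101b6126b04f38455c13f225f59925a2cb5fc) (.leaf 0x63f408700003ab0246345bd064585f6253db2d258917f6de214)) (.node (.leaf 0x26c74ddc00001ac0343531c8107504f7747650b37be5ff180156) (.leaf 0)))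 (.node (.node (.leaf 0x1de720e700010fa92a522a510cf604f34226f09e4b761368a7bd) (.leaf 0)) (.node (.leaf 0x2c1c06e300012811231a4a7a12618590a413a0f554f4a2124156) (.leaf 0))))) (.node (.node (.node (.node (.leaf 0x2e25058900010396095f0bbd12c304b08051c2eb7ba30270a12d) (.leaf 0x1df0b5b3e620001351f1c184d1b06e48575f005a52502d22170b24d)) (.node (.leaf 0x12027d002fc000017ce0e000e4810b68410446d460b15c30b15f000) (.leaf 0))) (.node (.node (.leaf 0x460210a900010d1d24cc23e81aa10451a357908b2c67b6000295) (.leaf 0)) (.node (.leaf 0x3cd411a300002471156247b118348491bb25b6621af41f12d113) (.leaf 0)))) (.node (.node (.node (.leaf 0x31c04efb0000083c18e418e314540417936a65014e65b25fc113) (.leaf 0x247d44570000418e37ec535e102785b6823d76f949327a41d546)) (.node (.leaf 0x15f40d2300011dca410e1e2a0ab684913f26111e58c34415f734) (.leaf 0))) (.node (.node (.leaf 0x58e3cf90001124f2f88296404f205d5d43260d044e22c70b6de) (.leaf 0)) (.node (.leaf 0x447a1d6500012bf94cee4ced1a678552dc1530f45db4e20005be) (.leaf 0))))))) (.node (.node (.node (.node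 (.node (.node (.leaf 0x3f2a06a9000100d202ec02eb188305509c2d427920d7db51818b) (.leaf 0x4c2c264000002f12355e2a621ca30593c50446977100c21497d9)) (.node (.leaf 0x120b45550000144b333833370a2405769e3700f723b6ed04968a) (.leaf 0))) (.node (.node (.leaf 0x2bd31ecb00010a091d7d1d7c12558473065bd6fa3d135f7bd000) (.leaf 0x35f938450000485853d5255114f685356454e07a5fe21868a55a)) (.node (.leaf 0x47d751ce0001202a1edc42ad1af484f7d071773311058b12d28f) (.leaf 0)))) (.node (.node (.node (.leaf 0x46ff15cc0000054d10c310c21ab785f21b5793f149147c000335) (.leaf 0x26211add000139421807335a106204329d73150326c69b049156)) (.node (.leaf 0x24fb101600001a013c313c3010378571972206f949377a41d546) (.leaf 0))) (.node (.node (.leaf 0x2392226700010eff28fa28f90ef184536948e3cc4b209f2957bd) (.leaf 0)) (.node (.leaf 0x1e5121c00001271f457d33e20e2684335b0a031b13303f68a124) (.leaf 0))))) (.node (.node (.node (.node (.leaf 0x531d056d000103070a0301461ec285b0797780721f06ba2ab180) (.leaf 0x7a42d02000033d9506c07e206750494670213a80300c2295537)) (.node (.leaf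 0x44493b29000117162e7113691a640535a15eb66653229154624d) (.leaf 0))) (.node (.node (.leaf 0x4f38364500010c7f1f640ef41e438515362722b06c156255a049) (.leaf 0)) (.node (.leaf 0x4d2437270000238546e741c61cc30495494bb4d478c0cc4287d9) (.leaf 0)))) (.node (.node (.node (.leaf 0x33ae3423000007a517451744149305d5071b02ea28d71c48618b) (.leaf 0x419202b400003fb74605056418f284503c3203984dd1be546537)) (.node (.leaf 0x1cbb3bf900011d05402840270cd28575ba53218228b5202ab41d) (.leaf 0))) (.node (.node (.leaf 0x51725d30000119f2e462e4504e284f3bc2057a42996cd6216de) (.leaf 0)) (.node (.leaf 0x52784bd100012aeb28d9384b1ea685173f0e54d842403f68a124) (.leaf 0)))))) (.node (.node (.node (.node (.node (.leaf 0x3fb43dd7000001eb0684068318938495e53367855190471562ab) (.leaf 0x32301885000131523ec440f614628412631963d051a63b70b6de)) (.node (.leaf 0x38f33092000115a7359c359b16778474b60992844802477865fc) (.leaf 0))) (.node (.node (.leaf 0x3b1b056500000b44204f207616e18570792926cf45604b149486) (.leaf 0x4b732de000004f9f44d73bf61c8684747700d2a27df69524d2c7))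 (.node (.leaf 0x3a6c324e000021d52c002f0e16c70594db6ff146038236428333) (.leaf 0)))) (.node (.node (.node (.leaf 0x663243b000006771408140706470473965e7146375340537333) (.leaf 0x25c41ec700013c404e5b516410550493065026ee6b924b7bd586)) (.node (.leaf 0x38d2309600011b7c3e283e2716748454b620838249964d62124d) (.leaf 0))) (.node (.node (.leaf 0x16831f420001104c0f7823170ad10473161de7fa3e02d970a786) (.leaf 0)) (.node (.leaf 0x52aa2645000028fe4b1c4b1b1eb30553c542f14c261545149049) (.leaf 0))))) (.node (.node (.node (.node (.leaf 0x3c093744000004270d6d0d6c182205354c19f0641df29112d214) (.leaf 0xc7b4fbd000136544d5114d208278577a57653f51425ff180333)) (.node (.leaf 0x126281138ad0000188d0c9d17e110c184356a7516aa0e372c70a000) (.leaf 0))) (.node (.node (.leaf 0x395134b700010dbd263a2639168684351756c0055d61ab28f428) (.leaf 0)) (.node (.leaf 0x123436dd000025511e5b45a30a258495415ad7b40fa4a2124149) (.leaf 0)))) (.node (.node (.node (.leaf 0x46a845a7000108d51a6c00f21ab20516a44a05765f13f4546734) (.leaf 0x1f5d1cc50001438a45b520590e4685b2cc21230169d3de28f180))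 (.node (.leaf 0x279b056b00011e96420041ff10b28570795b31411f06ed049586) (.leaf 0))) (.node (.node (.leaf 0x230b4a1f000112fa30c830c70ee10577177c114f1c7154295025) (.leaf 0)) (.node (.leaf 0x2512130300002cf631aa3c0210418451da2a96aa4536b47bd586) (.leaf 0)))))))))

/-- part of a table -/
def entries17 : Trie := (.node (.node (.node (.node (.node (.node (.node (.node (.leaf 0x2e640ce0000000800230022049704d62c5fe79850b66448618b) (.leaf 0x3dfa1de100002d754cbe3a0218578552e81405b14c07db51870b)) (.node (.leaf 0x28a4e470000134d0be3316d049205577e3bb4376810c95be428) (.leaf 0))) (.node (.node (.leaf 0x1e6e2254000109201b3404f70e2705d36824a0835ba09f2957d9) (.leaf 0x59e1db5000044b44e694a9f04f285d2e329707a68775570b55a)) (.node (.leaf 0x8050e7200001ef932033b6a068204b16502d0051bf03b5be32d) (.leaf 0)))) (.node (.node (.node (.leaf 0x35202dd90000046f0e48021a14e30414754d552124f1cd2145be) (.leaf 0x214315f4000037241c6032e40ea404721f22b4ca25b75570b15f)) (.node (.leaf 0x5c901ee000018ea3a903a8f04f405302c78466606b09762124d) (.leaf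 0))) (.node (.node (.leaf 0x33f4437400010e0d045c26e7149784966f23838a57546455a2ab) (.leaf 0)) (.node (.leaf 0x36f12611000025c548b348b216378433c210f74460408a14970b) (.leaf 0))))) (.node (.node (.node (.node (.leaf 0xfbf4d9e00000231076b076a08b385f76f6c27a209c5bc41d333) (.leaf 0x382a4ee3000131f94d19425016620557922095df4b664d70b55a)) (.node (.leaf 0x42de18180000160136261ec11a3485d2582fc66257280412d68a) (.leaf 0))) (.node (.node (.leaf 0x2dc40b3200000b962134213312b604910d2b145a7f730b7b2000) (.leaf 0)) (.node (.leaf 0x33d3069b000022413e462bd8149684709b5360cd4af4a324d428) (.leaf 0)))) (.node (.node (.node (.leaf 0xf823d2e000106c114df14de08b10455d77ce3ce2b3242124149) (.leaf 0x37c093200003d064c884e1d04a78590e02935081db1cd734621)) (.node (.leaf 0x30b2154500001bdb3eab197f143384520f2ae77c40b0b021470b) (.leaf 0))) (.node (.node (.leaf 0xcb249104a0000010a111e02c51103284306a0ae6aa15c3b17d9000) (.leaf 0)) (.node (.leaf 0x2cec45390001296c19204b6e12760596963326121d33867b2156) (.leaf 0)))))) (.node (.node (.node (.node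 (.node (.leaf 0x42af048e0001011803d803d71a3305f0686d116e5427b6000333) (.leaf 0x8132e9a00012fa64bbf2e3906828474884587d128c2fa5be32d)) (.node (.leaf 0x2f0b03f9000114a633df2e8812e105705a3cd5dc41130841d156) (.leaf 0))) (.node (.node (.leaf 0x42b9277e00000a581e3815c81a338533e362a5f45cf7ae586335) (.leaf 0x3ff24631000049eb4f8e2ffe18978456b12e61bc2765815182ab)) (.node (.leaf 0x4f033070001208c0b4d442604d58414ed3184571fa23632d734) (.leaf 0)))) (.node (.node (.node (.leaf 0x4883391400000598119c119b1c3204757522b5a22ac75570b124) (.leaf 0x14882c36000039f8284251f70a910514554811e019e72e02532d)) (.node (.leaf 0x1b56172000001a603cb93cb80ca484d23e0351765bb75562115f) (.leaf 0))) (.node (.node (.leaf 0x152b43b700010f521af513970aa30576733cd5f467477a41d333) (.leaf 0)) (.node (.leaf 0x3eba0eda00002799424818f5187285516d5593a8030804546537) (.leaf 0))))) (.node (.node (.node (.node (.leaf 0x5261fa90001034f0ae30ae204e304d31f53b7ef57e40d7865be) (.leaf 0x536b3f4a0001347d15023dea1ec505760662227f62c05932d124)) (.node (.leaf 0x4daa1c3200011776386138601cd30552c03601f744c48c4287d9)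 (.leaf 0))) (.node (.node (.leaf 0x291d370100000cd01e7e242610e185b54711b1ef69327041d518) (.leaf 0)) (.node (.leaf 0x3311cd8000023fb363e38cb04a38432ce4852a61d620329570b) (.leaf 0)))) (.node (.node (.node (.leaf 0x4ff51ecd000007f2181818171e5684b3065ca1826b91ab28f41d) (.leaf 0xbfd40f2000040a9300d35ab06f585b6310fa16656b17d2cb486)) (.node (.leaf 0x129e316a00001d68409a16560a3485d4c45d45d32097477d968a) (.leaf 0))) (.node (.node (.leaf 0x5e6208e000111f62eee2eed04f504d3394db07e38d7042cb537) (.leaf 0)) (.node (.leaf 0x3e59098c00012b7910e94cac18648530e65cc5256e31a412d28f) (.leaf 0))))))) (.node (.node (.node (.node (.node (.node (.leaf 0x1925307d0001008e020502040c4504b4b26e401163d0ba537262) (.leaf 0x30f8270a00012e924e004e4c14378513db4d377c38b2d7149621)) (.node (.leaf 0x2e4929aa000013fa32a318db12c505341c51c31202a30270a586) (.leaf 0))) (.node (.node (.leaf 0x329a25e1000109be02ef1cbd14718553be1287720fe3472cb537) (.leaf 0x252f3fcb00014720332351c5104305f6144c41e37bf7187bd12d)) (.node (.leaf 0x48000c500011fc90aff2eb304d204101015214820a57418b295)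 (.leaf 0)))) (.node (.node (.node (.leaf 0x50370605f8000005050ff70ff6164104d08f4bf4eb1fa41855a734) (.leaf 0x40e11e5a000138974d2a37f218b70432fb51b425438164000335)) (.node (.leaf 0x23892238000019a23ba636eb0ef105336646e0123ab073295025) (.leaf 0))) (.node (.node (.leaf 0x3d17130400000eae2847229f184184f1da2fe7fa04c11a5182cb) (.leaf 0)) (.node (.leaf 0x12b91b22000126ad2f9749690a358532a902308b2695c7262149) (.leaf 0))))) (.node (.node (.node (.node (.leaf 0x2f501a88000102be0926092512e58412963780f55231ec124518) (.leaf 0x9f3485e0001333e1450503706b78476e75f65085974c5734621)) (.node (.leaf 0xd60850000116c1374406a5045684d0c702203e73e0d824d149) (.leaf 0))) (.node (.node (.leaf 0x3189037900010c3222b5193914510530515917ff7532b56de214) (.leaf 0)) (.node (.leaf 0x47a70a79000123183fd246861af304f0fc31511d5361470005fc) (.leaf 0)))) (.node (.node (.node (.leaf 0x4ffc072b0001075b022c167e1e568590a861b18213a5cb28f41d) (.leaf 0x4c8d23b100003ecd444850101cb105b38b1b56dd7ad5ae214180)) (.node (.leaf 0x419313cd00011ca93fad38a518f28471f171268d4086b8546537)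 (.leaf 0))) (.node (.node (.leaf 0x205f4a060000114a2d9e22040e8585f71644d3fa70c2a748670a) (.leaf 0)) (.node (.leaf 0x44c247a500002a653d364c1a1a740456d93035834b980412d28f) (.leaf 0)))))) (.node (.node (.node (.node (.node (.leaf 0x3f451179000001a505a305a2188504b1b53ad15a0b779f15632d) (.leaf 0x263e1ebb000030c329724f53106285d3055f21ef18934d049156)) (.node (.leaf 0x4f9401fe0000154c07e109ec1e5184902d7c626e62c6be537124) (.leaf 0))) (.node (.node (.leaf 0x4acb099c00000af81fb91fb81c750570e760129f760545149025) (.leaf 0x3a3e2bae00004d673c6109a316c285d44a7703ce06608e18b295)) (.node (.leaf 0x9a3296c00002173121944ef06b30474154ab361254207149621) (.leaf 0)))) (.node (.node (.node (.leaf 0x3a3536fc0001062c1339133816c284b5446a77b43f961d2ab149) (.leaf 0x434f469e00003b7f1ab7526a1a4505f6c076257123c47a156786)) (.node (.leaf 0x3e811f7500011b1e31203db7187104331c28213c7de7c40006de) (.leaf 0))) (.node (.node (.leaf 0x53d6194200000ffc2b022b011ed484d2750912a419d08e2ab15f) (.leaf 0)) (.node (.leaf 0x34401c850001288640f54ad214c40412c64995506e158f2ab113)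 (.leaf 0))))) (.node (.node (.node (.node (.leaf 0x2af81aaf000003de0c980c9712378512997d468934e27a180546) (.leaf 0x1083403d000035c0510a510908d104761e60f5711ac76170a2cb)) (.node (.leaf 0x3219293a0000182d2be33980146185340f4027393ff1ea2cb486) (.leaf 0))) (.node (.node (.leaf 0x436e1fc800010d6e1ade25881a4705d3215a45ea73847a156621) (.leaf 0)) (.node (.leaf 0x4e0e3748000024e24809452a1e2205d54c44a6a97e322c70b262) (.leaf 0)))) (.node (.node (.node (.leaf 0x17ab212d0000088919ab19aa0af305734b7b81075ca3142625be) (.leaf 0x3fdf2aa30000429151ea266b189585f4362e639943e4a151832d)) (.node (.leaf 0x3523385b00011e2a0cfa418f14e30475655f67ac2124c57345fc) (.leaf 0))) (.node (.node (.leaf 0x1970ba4000112a205f43033047484f11750970530523433528f) (.leaf 0)) (.node (.leaf 0x4a9e3fb400012c80237e4d391c7185d61129b2f45264162147bd) (.leaf 0)))))))) (.node (.node (.node (.node (.node (.node (.node (.leaf 0x40170f4c0000004b0117011618a184f17e71a14812c7b6586295) (.leaf 0x1170208f00012e074dfe0a9608e684133971039864329415f486)) (.node (.leaf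 0x52d41bf3000013a4321706311eb48492bc25516c2ff3fc3357b2) (.leaf 0))) (.node (.node (.leaf 0x2123f50000009731bfc1bfb04828456080510c14fd6b65be32d) (.leaf 0x4e6428e9000045d7387742251e2504940844418237862878641d)) (.node (.leaf 0x359413cf00011f6642e20ae114f18491f17ca68d2300c2149537) (.leaf 0)))) (.node (.node (.node (.leaf 0x407723f9000104ba082b0f1f18a784f3916b03e449a47c586335) (.leaf 0x32e934d3000037e12ad34f88147705351a1870f408679c7865fc)) (.node (.leaf 0x7480e0d000019473b1a2eef066605115b5490d01c64971136de) (.leaf 0))) (.node (.node (.leaf 0x6e653da00000e5a279700ad065704d80668217222b64f537333) (.leaf 0)) (.node (.leaf 0x34611ae700002640490b3f0a14c70432a148d7a244a236428333) (.leaf 0))))) (.node (.node (.node (.node (.leaf 0x3a19200200010277084d084c16c18533260fe3b32f546c428214) (.leaf 0xc4ac30001329413f14ff2044405972708d42d1424765be68a)) (.node (.leaf 0x17cf19820000166436b936b80af405f27b0d766654d4f404924d) (.leaf 0))) (.node (.node (.leaf 0x2f342f7000010be003a221f412e284949c01061280669b049156) (.leaf 0))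 (.node (.leaf 0x51191802000122ae3b8146231e818532560902a27cd69c53770a) (.leaf 0)))) (.node (.node (.node (.leaf 0x1eee3b3d0000070d02a115ab0e3705d5a473f14c2de1541497d9) (.leaf 0x4e42449300003de720a54a0a1e240456862560fd61e75570b15f)) (.node (.leaf 0x4da3058000001c463f263ed51cd304708000c1f76d40594287d9) (.leaf 0))) (.node (.node (.leaf 0x219948af000010f62cf028860eb18536f080059b6b017d2cb180) (.leaf 0)) (.node (.leaf 0x1c3a2d9f000129e72d191a670cc28554717920f94423b818b180) (.leaf 0)))))) (.node (.node (.node (.node (.node (.leaf 0x215642a20000015e04be04bd0ea484d65805a1b767623170b15f) (.leaf 0x27ad07b800013029129f4f1110b305b0b63e86552cf65341d546)) (.node (.leaf 0x48e04e22000014f7346e010f1c3504177b1870ea7aa28378641d) (.leaf 0))) (.node (.node (.leaf 0x8c6075000010aa71ef61ef5069604d0ac05c2287a369528f32d) (.leaf 0x378712ec00014b85299d539f165104f1d84e73b67190ff6de734)) (.node (.leaf 0x1141427900002104392e028308e40436523b51fd1584d904924d) (.leaf 0)))) (.node (.node (.node (.leaf 0x30791fce000005e2126d126c142785332177505b28108a29570b)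 (.leaf 0x3f1f1c9e00003ab11ec636bb188185f2c876c00557b581518428)) (.node (.leaf 0x232a4fd000001ac13d3a23ae0ee20557a70bb1ca1c74b5333025) (.leaf 0))) (.node (.node (.leaf 0x15f846be00000faa2a542a530ab68516c260c35362038615f214) (.leaf 0)) (.node (.leaf 0x408a2f000000281243824a7b18b105549100145c35c47c586149) (.leaf 0))))) (.node (.node (.node (.node (.leaf 0xb3935110000039707a10bbe06e385351f04e07c2d11ea7865fc) (.leaf 0x23593937000035204f3d428d0ee58535783e03fb4706352147bd)) (.node (.leaf 0x4db700d1000117cf07d725281cd384f0140580833376264287d9) (.leaf 0))) (.node (.node (.leaf 0x2ea511000000d1e24ce24cd04970557c50362ea56d3ef4862ab) (.leaf 0)) (.node (.leaf 0x16112e98000124710cf31a8d0ac184348821e65638f61970a786) (.leaf 0)))) (.node (.node (.node (.leaf 0x470935990000083d18e618e51ae205352b3ae3982e81a4546486) (.leaf 0xe5545250000418f344b3abf088584b6941ed4e870250602532d)) (.node (.leaf 0x2dba033400001dcb4110410f12b385504d3cd19441530841d12d) (.leaf 0))) (.node (.node (.leaf 0x6262432000112502f8a2f89064504d3960a801d0994cc55a734)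 (.leaf 0)) (.node (.leaf 0xcec0dd000002bfa435c4cef083705915704176417e1d241d333) (.leaf 0))))))) (.node (.node (.node (.node (.node (.node (.leaf 0x397e20db000000d302ee02ed168785d33f6436071154636de2ab) (.leaf 0x29441d7100012f12148226c010e50492dd0d21ef4c60b2124518)) (.node (.leaf 0x438619570001144b28cf1f6d1a5104d27650d0c324a5811562cb) (.leaf 0))) (.node (.node (.leaf 0x3b9d249f00000a0a1d7f1d7e16f185b3a07a17e4238203149486) (.leaf 0x2dd43f3a0000485c523b37c512b68496055533303d26e915f000)) (.node (.leaf 0x2cb10e9a0000202b2f9a43c112728431684936477d83b1049518) (.leaf 0)))) (.node (.node (.node (.leaf 0x4fd27290001054d10c4092204d585b3dd4b63b60aa43b32d214) (.leaf 0x37484db50000394531190a26164405177132401e2815b25be113)) (.node (.leaf 0xa1451c00011a0229743c3204550436934c32d221b05d6de214) (.leaf 0))) (.node (.node (.leaf 0x1908275300000f0028fc28fb0c440513e106a6b77a71775be7b2) (.leaf 0)) (.node (.leaf 0x15811bac00012720340a49c90ab10432b774a3d60160b2124295) (.leaf 0))))) (.node (.node (.node (.node (.leaf 0x4c1a2499000003080a050a041ca18553a04627880ac54a214180)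 (.leaf 0x294131b6000033da506e506d10e50434cb3d137f566435124156)) (.node (.leaf 0x261f1ebe0000171737d707ea106185f3057ce1ef409677124156) (.leaf 0))) (.node (.node (.leaf 0x3fac1c3700000c802370236f18930592c05b57981f61781562ab) (.leaf 0)) (.node (.leaf 0x31f215b7000023861afa46c6145684521a53603e0934a324d295) (.leaf 0)))) (.node (.node (.node (.leaf 0x40522014000107a50243174618a48453293205a97841be546113) (.leaf 0x2e7b1ca300013fb74d8b531e12c78572c91d12353162d92c712d)) (.node (.leaf 0x4ab34fc000001d06402a40291c728477a600209e7514a8335025) (.leaf 0))) (.node (.node (.leaf 0x1e6007ed0001119f2a162e470e270410b960514c3a20731497d9) (.leaf 0)) (.node (.leaf 0x24c2348300002aec189a1c06103604551133730046849815f586) (.leaf 0)))))) (.node (.node (.node (.node (.node (.leaf 0x3a5f27fe000101eb0686068516c485f3f27705fa10b08e18b68a) (.leaf 0x126352460000315326714f930a270477df4007647d35bc41d333)) (.node (.leaf 0xfb84cc5000015a9359e359d08b385175a3cf17226f37b180333) (.leaf 0))) (.node (.node (.leaf 0x27e3426e00010b44036e207710b70476507ce22d46b242124546)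 (.leaf 0x98f3e8600014fa431814c5c06b205f5f21ba6920d54b53352cb)) (.node (.leaf 0x102a3508000121d63df527d608c305551e45b5080a075b2c7621) (.leaf 0)))) (.node (.node (.node (.leaf 0xcad0dd100000678140a1409083505b1570ad1481754a2262149) (.leaf 0x3e9d0edc00013c411b7a3d12187185b16d69d07a7327c40006de)) (.node (.leaf 0x2f9c0b2d00001b7d3e2a3e2912f185910b65262739b6fe180156) (.leaf 0))) (.node (.node (.leaf 0x321e1eb50000104d2baa2ba9146185d30521b3a869617b786486) (.leaf 0)) (.node (.leaf 0x43cd112d000028ff4b1e4b1d1a5505b1ae71572b122047518786) (.leaf 0))))) (.node (.node (.node (.node (.leaf 0x402801132e000104270d6f0d6e10c10431dd76030058814570a000) (.leaf 0x52a51f2a000136573e5b4beb1eb304b313555083109265295049)) (.node (.leaf 0x394a2cd30001188d08de2d1616860554622d10055824ea28f32d) (.leaf 0))) (.node (.node (.leaf 0x4ae934d200000dbe2256263b1c7605351a0fc1e645b0c51137bd) (.leaf 0)) (.node (.leaf 0x498a0259000125513e9a16251c5105503337d0da7f7340486124) (.leaf 0)))) (.node (.node (.node (.leaf 0x2131d56000008d61a6d034e04828472db3520051bf2fa5be32d)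 (.leaf 0x34e11be90001438b47ae361414d70432bb55e3f51610de32d335)) (.node (.leaf 0x14c2bfc2ffd00011e9734570de712578594a95d97592b750602512d) (.leaf 0))) (.node (.node (.leaf 0x205b4c17000012fb30ca30c90e8585774543e2116d76644862c7) (.leaf 0)) (.node (.leaf 0x183e275e00002cf94ae148b00c2585d3e15647883e20b021441d) (.leaf 0)))))))))

/-- part of a table -/
def entries18 : Trie := (.node (.node (.node (.node (.node (.node (.node (.node (.leaf 0x3c5a2837000100080025002418248553f83315d36a265c546113) (.leaf 0x82451500012d764dbb3b8f04540456931f901e23a3465be68a)) (.node (.leaf 0x2d6706950000134e316f316e12a704f09b3e763657a66a124546) (.leaf 0))) (.node (.node (.leaf 0xfc85225000109211b361b3508b40517da2880f750936b049113) (.leaf 0x40af01a3000144b842d1495518b205f0281363b30b16b8546214)) (.node (.leaf 0x1e8208fe00011ef935c142800e340450d97a01dc46f12333515f) (.leaf 0)))) (.node (.node (.node (.leaf 0x406c1e2b0001046f0e4a0e4918a70592f569d42336c164000335) (.leaf 0x3b4ac60000372532e245ab044585772717368006217f55a214)) (.node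 (.leaf 0x307303ae000118ea1b3f3a91142784705473f50878e57d149621) (.leaf 0))) (.node (.node (.leaf 0x4059151400000e0e26e8225718a485320b34357362b3e612d68a) (.leaf 0)) (.node (.leaf 0xf953bc6000125c53f51116808b184b5b615e62d2750bf124295) (.leaf 0))))) (.node (.node (.node (.node (.leaf 0x63c230200010231076d076c06458593771bb6cc2c64fa55a734) (.leaf 0x421a34ae000031fb4c0830841a228555147a735336258b12d734)) (.node (.leaf 0x109a03ce000116013628362708d18550567946564d54d670a2cb) (.leaf 0))) (.node (.node (.leaf 0x14d1485b00010b96144921350a958436e74dc75c3a617902532d) (.leaf 0)) (.node (.leaf 0x215441630001224145b819e00ea484963d1556994f823f6217b2) (.leaf 0)))) (.node (.node (.node (.leaf 0x23b50cb000006c214e114e004838577bf45f68b3c04cc55a18b) (.leaf 0x1934206200003d07484834c00c458493360a508775d781486124)) (.node (.leaf 0x4f7016c200001bdc3bb03eac1e4684123820f30f7da37928f41d) (.leaf 0))) (.node (.node (.leaf 0x451c3a3c000110a12c532c521a818595906c80054c317851832d) (.leaf 0)) (.node (.leaf 0x5b4acb0000296d12f04a3d04468577275920192bb1e824d149)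 (.leaf 0)))))) (.node (.node (.node (.node (.node (.leaf 0x273c033f0000011903da03d910a385904d79639e2b165341d546) (.leaf 0x4aab297500002fa713db4e761c720574190bb1ca1d04b5333025)) (.node (.leaf 0x216b0db3000114a733e133e00ea705715310629e6ea7042cb049) (.leaf 0))) (.node (.node (.leaf 0x349336f300010a581e3906c514d18475442257251756f1428214) (.leaf 0x4a5330d1000149ec501710141c658474bb18f38054f2071497bd)) (.node (.leaf 0x521851760000208d44271e5f1ea18517cb4ae7880e01cd21441d) (.leaf 0)))) (.node (.node (.node (.leaf 0x3519185b0001059801a1119d14e185325e46e4b32e8203295486) (.leaf 0x3ae2538a000039fa1e842d4316d704580051a0b43c36f1428335)) (.node (.leaf 0xafe52e400001a6138e5399006d585d7ee2012d233d174428214) (.leaf 0))) (.node (.node (.leaf 0x2a3117df00000f53108229a512238432536b96361c50bf124546) (.leaf 0)) (.node (.leaf 0x2e3315960001279921613eef12c38472173ec3650be4d62c712d) (.leaf 0))))) (.node (.node (.node (.node (.leaf 0x31b800a4000003500ae50ae4145385100d28c7dd7e76f8486333) (.leaf 0x1da14f626aa0001347e38f050a70a9784d3cf64a42645860a7bd18b))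 (.node (.leaf 0x14b7532e000017772bf238620a9384f7f47cd38a04560a7bd18b) (.leaf 0))) (.node (.node (.leaf 0x39664f9000010cd004022427168704d7a10a874805746355a2ab) (.leaf 0)) (.node (.leaf 0x122408d0000123fb0cbd475a0a250490d602308b4cb435262295) (.leaf 0)))) (.node (.node (.node (.leaf 0x59721ab000107f2181a181904f284f35952707a67164d70b55a) (.leaf 0x24f52b6f000140a9522e5121103784b4467f76bd61e1d2180546)) (.node (.leaf 0x4ae092a00001d69409c409b04d305d0df7491465346f1428335) (.leaf 0))) (.node (.node (.leaf 0x20c83944000011f72eef2b9c0e9505157928c50c4706be4862c7) (.leaf 0)) (.node (.leaf 0x316b234500002b7a24a93338144605737d2d108b09b4a328f295) (.leaf 0))))))) (.node (.node (.node (.node (.node (.node (.leaf 0x440d4eec0000008f020600041a6105b79262a5df3187ae58655a) (.leaf 0x2ce03abf00002e934cfd153012760415986bc5ab3736e97b2518)) (.node (.leaf 0x8ca2c22000113fa067132a406960554541ad1e07936d028f428) (.leaf 0))) (.node (.node (.leaf 0x4c350970000009bf06991cbe1ca384b0e502109d4f92d7295049) (.leaf 0x227250840270001472323bb4f47104105161c41160b797179025000))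 (.node (.leaf 0x43dc33a400011fcb1e18435c1a558594fc35b0a32b3047518786) (.leaf 0)))) (.node (.node (.node (.leaf 0x415d12d9000005060ff8003418e485b1d765773308d02712d24d) (.leaf 0x1a9c4a4b0001389836ae2b900c9185971d56b1b46eb05d55a70a)) (.node (.leaf 0x13fc29d8000119a21154088f0a778594224c97ac04f5c72625fc) (.leaf 0))) (.node (.node (.leaf 0x5308359300010eae282828481ec205152b2636c302b5742ab180) (.leaf 0)) (.node (.leaf 0x18ce2ef1000026ae4475496a0c3605d48f0377031533c768a262) (.leaf 0))))) (.node (.node (.node (.node (.leaf 0x371543f1000002bf09280927164184b67a03a06446d4fa55a734) (.leaf 0x1eb532080000333f503832940e3584b4d230e2f243363521441d)) (.node (.leaf 0x1b653c5f000116c2077421240ca704b5c480000f36921c2cb7d9) (.leaf 0))) (.node (.node (.leaf 0x11e0a0700000c3322b722b6046485d0f152b73316d2f933328f) (.leaf 0)) (.node (.leaf 0x2e9e18550001231a2811454412d185d25e1de3301a651370a586) (.leaf 0)))) (.node (.node (.node (.leaf 0x21854e1b0001075c0c86167f0eb104b7794cb6dd6401ea2cb180) (.leaf 0x8c310bc00013ecf4f9332aa06960471a56141e04561e828f428))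 (.node (.leaf 0x379101f700001caa3fae188a165184302d4dd3b34ab4206de214) (.leaf 0))) (.node (.node (.leaf 0x3ec34ddb0001114a2da02d9f187404777473c55d1fb58b54628f) (.leaf 0)) (.node (.leaf 0x16b7477400012a650fb34c1b0ad384f6d44092a66f54d670a70b) (.leaf 0)))))) (.node (.node (.node (.node (.node (.leaf 0x1c433c54000101a505a505a40cc40475c430508114452018b15f) (.leaf 0x45230536000130c312f72c271a830470764be7482f77db15618b)) (.node (.leaf 0x1ba631c60000154d350935080cb204d4cd2096a922433870b262) (.leaf 0))) (.node (.node (.leaf 0x113f4cc000010af81fbb1fba08e385f75a09807c20c6771245fc) (.leaf 0x331641bf00004d6d47a64bf1148284d6427ec0c138d0135be428)) (.node (.leaf 0x12b64d6300012173238044f00a3584d7690e06680402df124149) (.leaf 0)))) (.node (.node (.node (.leaf 0x58950870000062d0349133a04f20537b949c6a36820756216de) (.leaf 0x1ed1488d00013b8249fd4ead0e368436eb5c519139540a68a262)) (.node (.leaf 0x4209020d00011b1f208e3db81a2205302e6f45761d7027546734) (.leaf 0))) (.node (.node (.leaf 0x1df053ce00010ffc2b042b030cf684180567409e4b72ad68a7bd)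 (.leaf 0)) (.node (.leaf 0x1da720f6000028882c0506630cf204f34346029f3107fe3337bd) (.leaf 0))))) (.node (.node (.node (.node (.leaf 0x1a9e24b0000103de011a0c990c9185d3a201a49b1694cc6de2c7) (.leaf 0x19554794000135c044e722f10c4684b6d71f60f94ce71328f180)) (.node (.leaf 0x2d201e7f0001182d3982398112a30412fd7d468959f27a180546) (.leaf 0))) (.node (.node (.leaf 0x1e7a4cb300000d6f2589142a0e278557561d72b02ee09f1497d9) (.leaf 0)) (.node (.leaf 0x3b85132f000124e212a8480a16f104b1dd7751cf4dd202295537) (.leaf 0)))) (.node (.node (.node (.leaf 0x6f8353f00010889198519ac06578515237c61465276be537335) (.leaf 0x419d3a38000042922b9a304c18f285b59046f1cf59102712d537)) (.node (.leaf 0x3850006f00011e2b41914190166484100976338261107562128f) (.leaf 0))) (.node (.node (.leaf 0x198b1e84000112a3303530340c540572fe0bd0fd32f0435be15f) (.leaf 0)) (.node (.leaf 0x2d86209300002c81184f035b12b204d33a13b45a7ce747049586) (.leaf 0)))))))) (.node (.node (.node (.node (.node (.node (.node (.leaf 0x536829a00001004b011901181ec505141c0096a97e31ee428262)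 (.leaf 0x3705db00002e08352c4e03044584f08c4bf4eb04041855a734)) (.node (.leaf 0x4ed74822000013a5321800fa1e3484f6e40351762e375562115f) (.leaf 0))) (.node (.node (.leaf 0x1e0549f8000109731bfd0f440e2404b7154844ca34329c33515f) (.leaf 0x2866194b000145db50de4d1210c704d2756900c40d775b2c712d)) (.node (.leaf 0xd0f50bb00011f6742e3119f086405f7be6333745324b17d924d) (.leaf 0)))) (.node (.node (.node (.leaf 0x4b4f024ad6000004bb0f210f201e4104572838826e62c664537124) (.leaf 0x50b2211f000137e22e6a4f8f1e728453497e501221e1a23337bd)) (.node (.leaf 0x4ea72b8e00011947344a3b1b1e3304f44858921324340d7867d9) (.leaf 0))) (.node (.node (.leaf 0x429b2c0d00010e5a18630a4e1a328574526f611e46e1e412d734) (.leaf 0)) (.node (.leaf 0x4e3117b000012641490c25f91e238432510156970df43d786049) (.leaf 0))))) (.node (.node (.node (.node (.leaf 0xe852f2c000002780815084e089104b4937df3996547147bd428) (.leaf 0x2f7d06db000032953b22169912e685b0a260c10c80638615f156)) (.node (.leaf 0x2cdf34d10001166536bb36ba127585f51a0ce5ab45b41741d518) (.leaf 0))) (.node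 (.node (.leaf 0xc25327200000be120a718bd082504b4df0d26511670b2124295) (.leaf 0)) (.node (.leaf 0x502950dc000022af462546241e620537c070014f40950a3357bd) (.leaf 0)))) (.node (.node (.node (.leaf 0x2c970dad0001070d15ad15ac127184f15279e62715b66a124518) (.leaf 0x11ed4f7a00003de944123ec308f605b79e56722279a30b7b2486)) (.node (.leaf 0x297b046000011c463a723f2710e685706603275852f4987b2518) (.leaf 0))) (.node (.node (.leaf 0xdbd1203000110f62cf22cf1087585b1c30d15bf6ff1d21806de) (.leaf 0)) (.node (.leaf 0x1f84488e000129e84bcd4bcc0e540496eb67a4ca65703b5fc15f) (.leaf 0)))))) (.node (.node (.node (.node (.node (.leaf 0x4ac834d40001015e04c004bf1c7505151a24c1e65260c22957bd) (.leaf 0x49c704d70001302a47774f121c5404f06d3bb0813b20c95be7b2)) (.node (.leaf 0x39a10a7e000114f83470346f16930430fc68642657e10e48618b) (.leaf 0))) (.node (.node (.leaf 0x2479469f00010aa81ef81ef710278536c079639e4592f341d12d) (.leaf 0x534d4abc00014b86299446441ec405b72664b5166bb5b72ab15f)) (.node (.leaf 0x3d6d32da000121041579448e184705b4e73ad4f243015d156621)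 (.leaf 0)))) (.node (.node (.node (.leaf 0x150c3baa000105e2039a126e0aa10595b366003e0930bf262295) (.leaf 0xacf41a300003ab3522a48cd06d405f6411ff13469174c2ab113)) (.node (.leaf 0x7e93f9100011ac13d3b2c2f067705360f0530f41125ae7345fc) (.leaf 0))) (.node (.node (.leaf 0xbd25d011ae00010faa04ea2a5510558411bb7df6ee50e7147bd000) (.leaf 0)) (.node (.leaf 0x53d530430001281441d048351ed484b4ae31c1b72ff6ba18b7b2) (.leaf 0))))) (.node (.node (.node (.node (.leaf 0xced4141000103970bc00bbf083705b63911b3e40a727a41d333) (.leaf 0x3ee5102b00013520312d26b1187704b19843311d5007b50005be)) (.node (.leaf 0x77f0e01000017d038ef38ee066785f15b1515e24194c57345fc) (.leaf 0))) (.node (.node (.leaf 0x3c5615aa00010d1e24d024cf182484d2195595a91ba80454668a) (.leaf 0)) (.node (.leaf 0x4d8d412400002472332202281cd205b63412930f0ac58f18b180) (.leaf 0)))) (.node (.node (.node (.leaf 0x2ee03d020001083d18e818e712d70415d50f22356336d82c7546) (.leaf 0x26f9009c0000419352f8474b107685300c71032774129415f156)) (.node (.leaf 0x4bd4007400011dcb411111d91c9584900a2292b47692b555a70a)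 (.leaf 0))) (.node (.node (.leaf 0x45521eff0000125107452f8b1a8584530e7627d15a511a15632d) (.leaf 0)) (.node (.leaf 0x311645c200012bfa10721a30144184d6a617368041c41855a734) (.leaf 0))))))) (.node (.node (.node (.node (.node (.node (.leaf 0xfca2790000100d302f002ef08b40553e701f42d7367077d968a) (.leaf 0x3190096300002f13370f478a14518410e422972570956255a734)) (.node (.leaf 0x35132e780000144c333921d414e18474844ab739272207149537) (.leaf 0))) (.node (.node (.leaf 0x3e6e425e00000a0b0b3b0f4e186705d64e7b328416d4e25865be) (.leaf 0x53b306bb0001485d255946d61ed38470a07490c83320594287d9)) (.node (.leaf 0x3fbd36e60001202b3cc01840189385b5423c47853571781562ab) (.leaf 0)))) (.node (.node (.node (.leaf 0x3aa036650000054e10c610c516d204153a20445c53d51d18b295) (.leaf 0x98b3a9f0001394551f351f206b20575967387f20931a2335786)) (.node (.leaf 0x45d4194700001a0334cc3c331a9584927542143768114d518428) (.leaf 0))) (.node (.node (.leaf 0x40b0262700000f0128fd250e18b28413c34cd3b65b941f12d734) (.leaf 0)) (.node (.leaf 0x2bf82bc1000127210fcc0e30125785144d08c39f5c072e025546)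 (.leaf 0))))) (.node (.node (.node (.node (.leaf 0x476711d5000103080a070a061ae504f1c040313c44d3bd0006de) (.leaf 0xc51325d000033df4bdf506f08268434dc7f457664534415f734)) (.node (.leaf 0x163c490f000017182df837d80ac38596f765977c40b78970a70b) (.leaf 0))) (.node (.node (.leaf 0x34562de100010c802371079514c484d4770655d325634a18b68a) (.leaf 0)) (.node (.leaf 0x171a177e000023872d4a33c20ae18552497975bf72a1321806de) (.leaf 0)))) (.node (.node (.node (.leaf 0x536c35f8000007a6174710ac1ec505953138e19178a0de428124) (.leaf 0x4c731ab00003fb94a251ca904d404f4c96e350126d2982ab113)) (.node (.leaf 0x3b3829f200011d06402b253416e38514271221072d11862145fc) (.leaf 0))) (.node (.node (.leaf 0x4dcc1701000011a02e492e481cd405923c12907f31658f18b15f) (.leaf 0)) (.node (.leaf 0x1949275700002aed4c5902b80c460533e11002f26707fc24d180) (.leaf 0)))))) (.node (.node (.node (.node (.node (.leaf 0x48c343ea000001ec068806871c3404767944a1dc06c2f070b15f) (.leaf 0x1bf453c4000031544f954f940cb784980536d0836ec43d786049)) (.node (.leaf 0x1dd8271d000015aa359f2b380cf58513dc23309e50d7837347bd)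 (.leaf 0))) (.node (.node (.leaf 0x455f00fc00000b4519f60bd21a8585f0164be4900557e9156428) (.leaf 0x13b92eb600014faa53dc1cd50a7585348a39a7a459437b1806de)) (.node (.leaf 0x3754278f000021d81607327716448493e58025fa6424045fc113) (.leaf 0)))) (.node (.node (.node (.leaf 0x491345c700010678140b036f1c418476a63836a93cf340537124) (.leaf 0x227640ad00003c4441d226640ec784d62a5941854f36f132d049)) (.node (.leaf 0x33f6044600011b7d35082490149784d0634e72ea1583456de18b) (.leaf 0))) (.node (.node (.leaf 0x16bc0df30000104e2bac2bab0ad38591591814f254972c2c7621) (.leaf 0)) (.node (.leaf 0x30da1012000129014b1f07ab14368551970eb52a1020951132cb) (.leaf 0))))) (.node (.node (.node (.node (.leaf 0x1b9d4a4e000004280d710d700cb185b71d66718353c21c78641d) (.leaf 0x7c4fbc0000365c50004fa204478597a56543f52776f8486333)) (.node (.leaf 0x347d36750000188e34533a0b14c785b53b3935f454b236428333) (.leaf 0))) (.node (.node (.leaf 0x53b50c200010dbe0440263c04e38577bf1925e23df1c87865be) (.leaf 0)) (.node (.leaf 0x15d3fa500002552461035fb046685b61041e13c68c21868a55a)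 (.leaf 0)))) (.node (.node (.node (.leaf 0x1e04253a000108d61a6f1a6e0e240493ac56a1dc46f70d33515f) (.leaf 0x46761e5d0001438e23b849241aa784d2fb6704236a47e2000333)) (.node (.leaf 0x42b4141000011e980a8242011a338491f610a7641b2048586333) (.leaf 0))) (.node (.node (.leaf 0x3ec708ba000112fb23d80906187404f0d44711fd35465c54624d) (.leaf 0)) (.node (.leaf 0x4403447b00012cf91bde4d7e1a6104768457913c68c7b600055a) (.leaf 0)))))))))

/-- part of a table -/
def entries19 : Trie := (.node (.node (.node (.node (.node (.node (.node (.node (.leaf 0x2d01470a000000090027002612a20436c946b3302c44d97d9586) (.leaf 0x3088037d00002d7847ff3544143205105177657153170d335786)) (.node (.leaf 0x2eca3f02000013503171317012d50556011c345a2ac4d670a000) (.leaf 0))) (.node (.node (.leaf 0x5016423e000009221b37106d1e6184d64b5e814f1de4167347bd) (.leaf 0xbc81752000044ba30164cf206f405124516237454d6b570b24d)) (.node (.leaf 0x4151179a00001efa2813428118e484324c46f76a50b79012d28f) (.leaf 0)))) (.node (.node (.node (.leaf 0x24f64287000004700e4c0e4b103784d65446922d5d45ed41d12d)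 (.leaf 0x257f031400003727468211d6104785f04622e5567e635f7bd12d)) (.node (.leaf 0x267a3a78000018ec18122f6510668555945c937f5054987b2518) (.leaf 0))) (.node (.node (.leaf 0x164c2d2a00010e0e26e91b450ac50594694734122aa5c870a2cb) (.leaf 0)) (.node (.leaf 0x423417d8000125c6243e2f641a238492533a10b44757ae586335) (.leaf 0))))) (.node (.node (.node (.node (.leaf 0x3fc812ad00000232076f076e18950511d46d775420079f15632d) (.leaf 0x1c8288216ad000131fb4f6f473010d104523260f6ee74a76170a586)) (.node (.leaf 0x320730b200001602362a3629146104f4b922a71160d25a786537) (.leaf 0))) (.node (.node (.leaf 0x36f32c4f00000b972137213616378474567193ed1db04b295621) (.leaf 0)) (.node (.leaf 0x457d20ca0000224445b913a11a8785b33d5542791bd26851818b) (.leaf 0)))) (.node (.node (.node (.leaf 0x120e3334000106c214e314e20a2405d4f119d5af478322049113) (.leaf 0x6330d7900003d0852b14dfd064584714e5d27ff4024cc6de734)) (.node (.leaf 0x5824fe700011bdc3ead139504f20457a844a5df12e2f070b55a) (.leaf 0))) (.node (.node (.leaf 0x514941e6000010a22c552c541e850536455112a27274fa6de70a)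 (.leaf 0)) (.node (.leaf 0xa9d44840001296f4b6f25e006d285b6854063ba1c058f18b295) (.leaf 0)))))) (.node (.node (.node (.node (.node (.leaf 0x42fa2ff40000011a03dc03db1a358554a93e208b2933bd000295) (.leaf 0x2068474200002fa81b0f03670e860516d13572f86ac3de24d70a)) (.node (.leaf 0x87102d1000014a833e224f2068784304136f50f02e5385372ab) (.leaf 0))) (.node (.node (.leaf 0xbcd3e6000000a591e3b1e3a06f405b5f00381fd08f07570b28f) (.leaf 0x2153378b000149f04cf637e50ea484755149a2a43aa22c70b7b2)) (.node (.leaf 0x2e5512550000208f16353e1812c584b1c921e45a80972c70a000) (.leaf 0)))) (.node (.node (.node (.leaf 0x216f22d900000599119f119e0ea705f37253d4fb5ba1c82cb7d9) (.leaf 0x5252685000139fb3971252004e304b3ca3917ac1f679c2cb5fc)) (.node (.leaf 0x24d63ead00011a610dab2c22103684d5f56f733480130a7b2000) (.leaf 0))) (.node (.node (.leaf 0x4b8f01ac00010f5304cc29a61c9105f0286712801ce71c4862c7) (.leaf 0)) (.node (.leaf 0x26c0102e0001279a4a24387b107504119865b37f0f16fe41d156) (.leaf 0))))) (.node (.node (.node (.node (.leaf 0x46350657000103500ae70ae61aa284b0963a751524441f546734)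 (.leaf 0x9ef41a60000347f177c351806b705f64138f3ed0bb60021470b)) (.node (.leaf 0x95451e00011777386322c6045484b6934ec5737d303b5be113) (.leaf 0))) (.node (.node (.leaf 0x437e012f00000cd11dd808091a4785d01a76277c63447a156621) (.leaf 0)) (.node (.leaf 0x3ad531bb000023fc3f55475b16d484b4cb5935fa78458f18b113) (.leaf 0)))) (.node (.node (.node (.leaf 0x1dda0000000007f406120d2c0cf58550010942f40b954a214025) (.leaf 0x53a948ec000040aa533f31b91ed30536f568c09d52e46c32d7d9)) (.node (.leaf 0xc5a4fbb00011d69409e409d08268557a55c97ed0622f17b2214) (.leaf 0))) (.node (.node (.leaf 0x44d53099000111f72ef12ef01a7484b4b63a738250029154624d) (.leaf 0)) (.node (.leaf 0x971089400002b7b48e83a2106a78430d227577c52b5ae214621) (.leaf 0))))))) (.node (.node (.node (.node (.node (.node (.leaf 0x53a21f240001008f020802071ed30453132250835c16f1428049) (.leaf 0xb992bfc00002e944e4d031406f285345153a0d044e6b570b6de)) (.node (.leaf 0x442b0450000013fb147932a51a620570651084b35126b812d537) (.leaf 0))) (.node (.node (.leaf 0x2f4c3e72000109bf1cc01cbf12e50595f127110c1ed4a2262156)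 (.leaf 0x23091e680000472546392aba0ee10532fc4d33fb2d42671497bd)) (.node (.leaf 0x7a9464a00001fcc42b935c006750536b25551cf101265295486) (.leaf 0)))) (.node (.node (.node (.leaf 0x1668299a0001050608e00ff90ac705141b5101a707911170a621) (.leaf 0x24a50740001389a416c3c2404860557b84320c121969528f32d)) (.node (.leaf 0xaf83b7e000119a33ba73ad706d58515aa5850641df62f32d214) (.leaf 0))) (.node (.node (.leaf 0x21343d7300000eaf2849230c0ea28495dd1a37242827f9621262) (.leaf 0)) (.node (.leaf 0x32144239000126ae48124909146184964b48b39858521c2cb537) (.leaf 0))))) (.node (.node (.node (.node (.leaf 0x22b62263000002c0092a09290ed284d3690911833dc0392ab180) (.leaf 0x2fa135e800013343145249b212f20435303bc5dc42a30d7d9518)) (.node (.leaf 0x242e3fc5000116c32aad3745102305d61422f1e352e4de26212d) (.leaf 0))) (.node (.node (.leaf 0x5337400700000c3422b922b81ec384f61a34f6970df6f132d049) (.leaf 0)) (.node (.leaf 0x168218307d50000231b4687255a0eb10470b821b30169d704786180) (.leaf 0)))) (.node (.node (.node (.leaf 0x491e0b550000075d168116801c4185d11038826e22066e537262)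 (.leaf 0x37a50a9200013ed0445a34e1165304b10028c7dd4ba6be486335)) (.node (.leaf 0x27994f8500011caa3faf04ae10b28537a03167080e030d7d9000) (.leaf 0))) (.node (.node (.leaf 0x401322f50000114c2da22da118a18473753dc0192bb4e2586149) (.leaf 0)) (.node (.leaf 0x44021adc00002a661fac4c1c1a6104529d7167a42d011800055a) (.leaf 0)))))) (.node (.node (.node (.node (.node (.leaf 0x5df2887000001a605a705a604f485f4002977333bb75570b28f) (.leaf 0x26de4c3d000030c447753357107585d7496c237f7415bc41d156)) (.node (.leaf 0x134515b0001154d350a2d3d04658497c95551cf598267295537) (.leaf 0))) (.node (.node (.leaf 0x4221052500000af91fbc06971a230430744423e45d1026586335) (.leaf 0x4a51b7d00004d724f82383804d304b2b157c42554e46c32d333)) (.node (.leaf 0x1c414bf70000217444f244f10cc40437425001dc3662262ab7b2) (.leaf 0)))) (.node (.node (.node (.leaf 0x187f27590001062d133c133b0c2785f3e118f3846f62b61497d9) (.leaf 0xe6449cd00003b835163526b088704970f76968b72024b02518b)) (.node (.leaf 0x391b3a3d00001b203db916df16828575906d500559112a5be32d) (.leaf 0)))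 (.node (.node (.leaf 0xf6f087200000ffd06ba2b0508a605f0ce1c53536202f115f214) (.leaf 0)) (.node (.leaf 0x15c710ba000128891e274ad30ab404f1a540c13452b4b1049113) (.leaf 0))))) (.node (.node (.node (.node (.leaf 0x47f0e15000003df047f0c9a04c585f15c3f77ed53162632d734) (.leaf 0x406a39fd000035c23627505c18a70555896dc0b45447b7586335)) (.node (.leaf 0x1aca45eb0001182e398316b10c950556a837d50c6c866e48670a) (.leaf 0))) (.node (.node (.leaf 0x453e329c00000d70258b258a1a8385d4e35a431726b47a1562ab) (.leaf 0)) (.node (.leaf 0x1a1a4a41000024e3433b02be0c8185571d0a83fa3ac4cc55a2c7) (.leaf 0)))) (.node (.node (.node (.leaf 0x2eed2f820000088a19ae19ad12d705b49d1173652885c82c712d) (.leaf 0x298f01a5000142934e6d4e0510f105f02827b75864a308180156)) (.node (.leaf 0xc8635d500001e2c41824192083404d52f2495f72083227d9113) (.leaf 0))) (.node (.node (.leaf 0x9591984000012a43037303606a685327b0e54122af03f68a786) (.leaf 0)) (.node (.leaf 0x45db08ce00012c8110ba47231a958570d56a175c0a567e156428) (.leaf 0)))))))) (.node (.node (.node (.node (.node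 (.node (.node (.leaf 0x32ae39b30000004c011b011a147205d58422b65a2856cd70b6de) (.leaf 0x16d1088e00002e0a4e043fdf0ad58430d17a905f1fa1452c72cb)) (.node (.leaf 0x1d914876000113a5207032190cf18436ea49629f2d52031497bd) (.leaf 0))) (.node (.node (.leaf 0x4757125e000009741bff1bfe1ae484f1c97a770545d58b12d28f) (.leaf 0x48b41ff7000045dc4b5d42721c3384932544421333c17d786049)) (.node (.leaf 0x2ed551c800001f68204a42e412d584b7d05053513d27892c7000) (.leaf 0)))) (.node (.node (.node (.leaf 0x478f0019000104bb0f230f221af205f0024b07723f865c12d486) (.leaf 0xcd8435c000037e84d9046a2083685166b6d46802ba0cb15f734)) (.node (.leaf 0x464902ca000119483b1d3b1c1aa40530405ef5af03541f546113) (.leaf 0))) (.node (.node (.leaf 0x2ab51ffe00000e5c27992798123384b32569419433c1ec26212d) (.leaf 0)) (.node (.leaf 0x405f308e00012642490e490d18a485f4b46fc6e22bf1e454668a) (.leaf 0))))) (.node (.node (.node (.node (.leaf 0x191326350001027800b0084f0c448473c445814a5eb2fa5be7b2) (.leaf 0x49501a3f00013297463150081c4484128c80212057a4045fc15f)) (.node (.leaf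 0x332c52a80000166636bd36bc14830597e74af6b361b6f853718b) (.leaf 0))) (.node (.node (.leaf 0x289f3e3d00000be221f621f510d185f5ec6b230079e2d970a000) (.leaf 0)) (.node (.leaf 0x3ba23b1b000122af462609a816f30455a05643287c21952145be) (.leaf 0)))) (.node (.node (.node (.leaf 0x4d0800180000070f15af15ae1cc205100242c18263158f2ab180) (.leaf 0x215257509d400013de952d40d09104784b0ed2460c46bb179025546)) (.node (.leaf 0x4208434800001c4729f03b341a220516693504572923e6546734) (.leaf 0))) (.node (.node (.leaf 0x2685031000110f70c6b2cf304870517af0902790bd6be5372ab) (.leaf 0)) (.node (.leaf 0x2e4b35f7000029ec184109b812c505753131e30c11b75b2c7000) (.leaf 0)))))) (.node (.node (.node (.node (.node (.leaf 0x175b4d3e0000015f04c1000c0ae485776577e38256d4f47d924d) (.leaf 0x79205980000302b4f134f06067484508452b73377325033324d)) (.node (.leaf 0xf24688000014fa3472347104578456bf4924871fe3ef537335) (.leaf 0))) (.node (.node (.leaf 0x136b44f200000aa91efa1ef90a6705769016f25f5e978d1245fc) (.leaf 0x144f193100014b8729953d150a8505f2740f30053853d5025428))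 (.node (.leaf 0x18f92eff000021053038448f0c3785348f72229e7172671497d9) (.leaf 0)))) (.node (.node (.node (.leaf 0x1b531c77000005e31270126f0ca48472c54f616c3692216217b2) (.leaf 0x13c7059e00003ab4513d50ee0a7604f08475f68d5a15a715f486)) (.node (.leaf 0x347e3be000001ac23d3d3d3c14c785d5b906976452748c32d335) (.leaf 0))) (.node (.node (.leaf 0x1a3748cc00000fab2a572a560c8284f6f36d56782d50c95be70a) (.leaf 0)) (.node (.leaf 0x119125d70001281520230c9008f18433bc3cf5bf3fe65318055a) (.leaf 0))))) (.node (.node (.node (.node (.leaf 0x4d7019ef000003980bc20bc11cc584128673226e5aa62f428262) (.leaf 0x38f24dd200003522427c50da167784577420b3ee1fb17b7865fc)) (.node (.leaf 0x19363bb5000017d138f138f00c4584d5b52005a26d1227537262) (.leaf 0))) (.node (.node (.leaf 0x2a343c8d00000d1f19911f0512238495ca74a6895670b212412d) (.leaf 0)) (.node (.leaf 0x35774c65000124723f23474e14e684f74e3555df44d4e11136de) (.leaf 0)))) (.node (.node (.node (.leaf 0x327d21410000083e18ea18e9146785b34f2a11075db2832cb5be) (.leaf 0x143c024b0001419351a829580a838590324c650f3c00db7bd18b))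 (.node (.leaf 0x1c2b45f000011dcc0a2b41120cc20576ab11210421f74c18b41d) (.leaf 0))) (.node (.node (.leaf 0x1cc4080f0001125105d82f8c0cd40490bc7eb0fd5f957418b15f) (.leaf 0)) (.node (.leaf 0x3b15459d00002bfb4cf0298f16e184b6a266507e793203295486) (.leaf 0))))))) (.node (.node (.node (.node (.node (.node (.leaf 0x27b100d2000000d402f202f110b38430140ab0c476741418012d) (.leaf 0x1ca3429b00002f144e934e920cd20476576110726583b82ab180)) (.node (.leaf 0x49ae030d0000144d333a0cc11c5305d04577118503234555a049) (.leaf 0))) (.node (.node (.leaf 0x2b7611ca00000a0c1d800073124784d1bf63939f5f2777025546) (.leaf 0x28ba218c000148633bb10fbe10d38553557941e342e1cc70a546)) (.node (.leaf 0x3241b7c0000202c43c343c204a30492b156950854e202149621) (.leaf 0)))) (.node (.node (.node (.leaf 0x2ac452090000054f10c810c712360497d73ca30c13d3447b2000) (.leaf 0x1e2c1cc80000394751e53d850e250592cc31d6c351b63573441d)) (.node (.leaf 0x1cd253cb00011a0324463c340cd484580558416c6f46182ab7b2) (.leaf 0))) (.node (.node (.leaf 0x2e59301f00010f0128fe23a412c58534ab7c975722061970a586)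 (.leaf 0)) (.node (.leaf 0x7ed29d10000272249cb49ca067705b42209b2e949932b7345be) (.leaf 0))))) (.node (.node (.node (.node (.leaf 0x2c59425b000003090a090a08126585364e62c10c42227041d518) (.leaf 0x2b08434d000133df14a64a3e12410516696935f802a5067bd586)) (.node (.leaf 0xce3ed7000117181eb837d9045605d5fb6143ce53b0cf28f295) (.leaf 0))) (.node (.node (.leaf 0x952b03078200000c812373237212410470af0f33300413b0025000) (.leaf 0)) (.node (.leaf 0x19ec323500012387363046e80c570594d72300893504206de7d9) (.leaf 0)))) (.node (.node (.node (.leaf 0x17e95007000107a6174917480af60537aa2e073968e2947b2486) (.leaf 0x305d03bb00013fb926a151fe142685b0555c57fa3e003f68a786)) (.node (.leaf 0xa67535700011d07402d402c06c504f7f747d4571fa58e32d734) (.leaf 0))) (.node (.node (.leaf 0x1d7a47da000111a02e4b2e4a0ce68556dc3552575544e11137bd) (.leaf 0)) (.node (.leaf 0x3223447800012aed3d7d3169146204768443859c0503386216de) (.leaf 0)))))) (.node (.node (.node (.node (.node (.leaf 0x1d15251e000101ec068a06890ce184b3aa7753d34d208a2957bd) (.leaf 0x491544b000013155133f11c71c4184b6881710da3f033e486124))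 (.node (.leaf 0x447523d1000115aa070c35a01a6784b38e28b1072be4015865be) (.leaf 0))) (.node (.node (.leaf 0x1cc9242700010b451cef20780cd405339512907f71722618b7b2) (.leaf 0x238268914d300004fae53ce50e510710532061190b36104a2262156)) (.node (.leaf 0x38600cb000121d8455d3d1004b204d0104d052a02f7fe333786) (.leaf 0)))) (.node (.node (.node (.leaf 0x2e07312200000679140d140c12c104f4c01d13516417612c7586) (.leaf 0x13300b9b00003c453c874f430a6584111657f07a00c6fe41d55a)) (.node (.leaf 0x3d6f23c900001b7e3e2c3e2b184705f38d48f2a646067e51870b) (.leaf 0))) (.node (.node (.leaf 0xde38660001104e2bae2bad045685d5664fe78f5894ea24d149) (.leaf 0)) (.node (.leaf 0x33b40e6000029024b214b2004a385763042f74454904b149621) (.leaf 0))))) (.node (.node (.node (.node (.leaf 0x133822ea000104280d720c0b0a6585137362c3ea2f627041d55a) (.leaf 0x4201078b0001365c44f14c601a220430af5eb4571fa41f546734)) (.node (.leaf 0x156853450001188e28fb2b5e0aa60517f62b17251d73c17b2734) (.leaf 0))) (.node (.node (.leaf 0x3e1f004f00000dbf1c54263d186185f0077cc79b0581475866de)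 (.leaf 0)) (.node (.leaf 0x4e22052b000125523d9848551e2304507453d4fb60c0342cb049) (.leaf 0)))) (.node (.node (.node (.leaf 0x27ee3eb3000008d71a7012fc10b705d5f62746f940c38c12412d) (.leaf 0x223430530e2000043912c3a29421a4104b4bc0d94cf2aa3da5182cb)) (.node (.leaf 0x40c02b4c00001e9a42022a3a18b40414445ee42d6a43f412d113) (.leaf 0))) (.node (.node (.leaf 0xf1069013a3000012fc0ad70fb706548411ed2ed0f02564765be68a) (.leaf 0)) (.node (.leaf 0x50da46e500012cfa4d7f46d41e758556c72af01221e2072957bd) (.leaf 0)))))))))

/-- part of a table -/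
def entries20 : Trie := (.node (.node (.node (.node (.node (.node (.node (.node (.leaf 0x45cc2f8700010009002900281a9505949d35b22856115d518428) (.leaf 0x3bfb08c700012d7a4b20425e16f68570d53555df28c09511355a)) (.node (.leaf 0x8d90667000113500ee4317206968530983c975c2e83de28f32d) (.leaf 0))) (.node (.node (.leaf 0x41aa303f0001092202bd1b3818f30554ad5d83282517b75865be) (.leaf 0x3f2d264a000044bb3ac3538d188305b3c566331761b14d15618b)) (.node (.leaf 0x1664076a00011efa0d6b1d170ac70490ad65977c6a278970a70b) (.leaf 0)))) (.node (.node (.node (.leaf 0x20113e23000104700e4e0e4d0e818435eb17c3fa79105d55a70a) (.leaf 0x361044bf000037283a87216c162284168873d4cf41c70d333786)) (.node (.leaf 0x246133b8000018ed3a92083310270434fd3cf6bd2e337b18012d) (.leaf 0))) (.node (.node (.leaf 0x4d3543cf00000e0f26eb26ea1cc384b6746ff3840be236428049) (.leaf 0)) (.node (.leaf 0x1f3130f2000025c7477e10830e458434bd0900113dc6be537124) (.leaf 0))))) (.node (.node (.node (.node (.leaf 0x1c5e38fb00010232077107700cc485d57035417610852018b15f) (.leaf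 0xdbb28f2000131fc47bb4fcd087585740922007a00930841d6de)) (.node (.leaf 0x10b437af00001603362b15a508d38495538031e22fd6d82c770b) (.leaf 0))) (.node (.node (.leaf 0xf972d4100010b972139213808b184f46b1307d206e242262149) (.leaf 0)) (.node (.leaf 0x4cf539a0001224411d51fca04d405f80161155050974c2ab113) (.leaf 0)))) (.node (.node (.node (.leaf 0x535c1cae000006c314c114e41ec48592c977816c69f6ba2ab7b2) (.leaf 0x14861f4f00003d0a1b662d4f0a9104d3167cd39929960a7bd32d)) (.node (.leaf 0x3fb1159a00011bdd09663a9218938432175b579804526815618b) (.leaf 0))) (.node (.node (.leaf 0x53d40632000110a32c572c561ed48490932be12046b51d18b7b2) (.leaf 0)) (.node (.leaf 0x4a2828ba00002970465d4b701c620514053d43d301770d333025) (.leaf 0)))))) (.node (.node (.node (.node (.node (.leaf 0x1c9c3bfe0001011a03de03dd0cd18595ba68c01155146c32d262) (.leaf 0x38c3349300012fa84ed14ed016740475122666664b923162128f)) (.node (.leaf 0x3ccd0f12000114a806ae1212183405b1731435f778002712d68a) (.leaf 0))) (.node (.node (.leaf 0x4eb5156500000a5a1e3d1e3c1e3384b2123f918559d79c2cb7d9)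 (.leaf 0x47e31b97000149f1276647341af50472b337259c7c647c0006de)) (.node (.leaf 0x2c701950001208f3a184428049604f02426b75c5d24ea28f32d) (.leaf 0)))) (.node (.node (.node (.leaf 0x2cc647ae0001059911a111a0127504d6d97970f50a1132180518) (.leaf 0x2ea647b7000139fd2427521d12d304d6da4096890f61cc70a546)) (.node (.leaf 0x1351945206a00001a6239db32bf0c4604b33644859b75d56024d41d) (.leaf 0))) (.node (.node (.leaf 0x13451df400010f54203209ef0a6604b2ec42e1cf6d90cb7b2537) (.leaf 0)) (.node (.leaf 0x12b7176d0000279b0f894a250a3584f24679e3ba6454de124149) (.leaf 0))))) (.node (.node (.node (.node (.leaf 0x175a01cf000003510ae90ae80ae485502a7c74b802d3227d924d) (.leaf 0x42f204dd0001347f4def4dbb1a3584506d7167d2053118000295)) (.node (.leaf 0xcbe0a2d0001177838640ce1083585d0f364103e2f52df262149) (.leaf 0))) (.node (.node (.leaf 0x48c529e00010cd103f31ee904d20597e67eb3ce74e45018b149) (.leaf 0)) (.node (.leaf 0x3d749c1000123fc390f30a704b684f70f0eb52a73f4e1113786) (.leaf 0)))) (.node (.node (.node (.leaf 0x4477240f000107f4181c181b1a6784f3937cf03d18c3bd0005fc)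 (.leaf 0x2ff0244d000140aa3aa04b4012f684139760c10c62534415f518)) (.node (.leaf 0x39482aa500001d6a40a0409f16860514363af4e85fe1ab24d428) (.leaf 0))) (.node (.node (.leaf 0x6822949000011f82ef32ef206540454114345f75de3465be68a) (.leaf 0)) (.node (.leaf 0x49b0525e00012b7c103516e11c538417e07020831c546455a7d9) (.leaf 0))))))) (.node (.node (.node (.node (.node (.node (.leaf 0xe3f4cca00000090006f0209088385f75a52374874b35f7bd2ab) (.leaf 0xf4809f400012e95285e4c0008a40510ef3b55af38b32e049113)) (.node (.leaf 0x2ef93fd9000013fc326632a612d78536154393655c01452c7546) (.leaf 0))) (.node (.node (.leaf 0x1e6c4cbf000109c01cc21cc10e270597567d03843aa08a149049) (.leaf 0x42f4a6b00004727458e4b2804c305f71f5a142333b02032d333)) (.node (.leaf 0x387f049e00001fcd435e435d166785f06964503d2640342cb5fc) (.leaf 0)))) (.node (.node (.node (.leaf 0x217431d1000005070ffb0ffa0ea78494ce01569767b2e77867d9) (.leaf 0x1df24bf10000389b493e51d30cf68457422230ec35b392113025)) (.node (.leaf 0x3bc50c8000119a43ba828d604b38597bf3627661b20c214970b) (.leaf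 0))) (.node (.node (.leaf 0x53703a1000000eb0284b284a1ec584158c0304d80ce3cb428124) (.leaf 0)) (.node (.leaf 0x5102196c000026af15b008f71e810452775e719c4c73405372c7) (.leaf 0))))) (.node (.node (.node (.node (.leaf 0x1bca3d5e000002c1092c092b0cb40555da62b0fd0b823170b15f) (.leaf 0x443f12b2000133464337110c1a6285f1d517007e0e70a912d537)) (.node (.leaf 0x41bc2184000016c43747374618f38593553425217c80480005fc) (.leaf 0))) (.node (.node (.leaf 0x29ef10d400010c3403bf22ba10f605f1a81c51ef7a52f115f156) (.leaf 0)) (.node (.leaf 0x3687195b0001231c0d7f4688163204f2765900c304c2343352cb) (.leaf 0)))) (.node (.node (.node (.leaf 0xfc939eb0000075e1683168208b405358873501e28132e049113) (.leaf 0x46de15cf00003ed126a0053d1ab485d21b72d57362b0a912d68a)) (.node (.leaf 0x1c222d7500001cab3fb01c4c0cc204546f3051043a152018b41d) (.leaf 0))) (.node (.node (.leaf 0x2b50497d0000114d2da42da312458417026935f80985067bd586) (.leaf 0)) (.node (.leaf 0x53ad264f00012a6640724a891ed305b3c577414c2cf23632d049) (.leaf 0)))))) (.node (.node (.node (.node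 (.node (.leaf 0x367416cd000101a605a905a816278492386651a725520329570b) (.leaf 0x18184ed8000030c62cb03ba70c248517914c017610870d33515f)) (.node (.leaf 0x266044390000154e1532350b106604167f4f95c626c2947b2156) (.leaf 0))) (.node (.node (.leaf 0x3a8a302c00010af91fbe1fbd16d10554ac6c701d167390428214) (.leaf 0x160d3c2a00004d7350e844890ac105b5c051c52a65014570a2cb)) (.node (.leaf 0xd5515ee000121751a6844f3086684b21e7103985986e915f537) (.leaf 0)))) (.node (.node (.node (.leaf 0x5342039b0000062e133e133d1ec40450533050813bf52018b15f) (.leaf 0x2c7f055d00003b85328f4acf126685f07876f61243c73a7b2518)) (.node (.leaf 0x4cc5235900011b2009193dba1cb404b37e5281dc39450a33515f) (.leaf 0))) (.node (.node (.leaf 0x1dd234e900000ffe0c8c2b060cf584551b2ae3fb4bd0b0214025) (.leaf 0)) (.node (.leaf 0x506330dc0001288a36804ad41e660474bb64c2f418128768a025) (.leaf 0))))) (.node (.node (.node (.node (.leaf 0x2a182a90000003e00c0a0c9b122285143401030c53969b049586) (.leaf 0x468288b000135c2510b0c4e04c50514004bb3b36200cc428214)) (.node (.leaf 0x45854e6d0000182f316639841a9104b78071543751115d518428)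 (.leaf 0))) (.node (.node (.leaf 0x34c41a8300010d700ca1258c14d404929615201e25245018b68a) (.leaf 0)) (.node (.leaf 0x1c6134ea000024e412140d1d0cc704351b4bb4d46f01ee428049) (.leaf 0)))) (.node (.node (.node (.leaf 0x6c213a80000088b19b019af06560451ed6143ce2961e828f149) (.leaf 0x2d981407000042954fd834a812b28511f543a351454740049586)) (.node (.leaf 0x3d1a2b5c00011e2c0a52419318418554454d76927ca47a518786) (.leaf 0))) (.node (.node (.leaf 0x205542a3000012a528c328e80e8584b65806d2a23c40ba5372c7) (.leaf 0)) (.node (.leaf 0xf6c272f00002c8244fc416d08a60593dd75e6cc2aa6e97b2734) (.leaf 0)))))))) (.node (.node (.node (.node (.node (.node (.node (.leaf 0x4c3017ec0001004c011d011c1ca384125446e3a46ce0732957d9) (.leaf 0x49ff41c900012e0a4e0542e31c5685f64353610437169524d180)) (.node (.leaf 0x310e0200000013a6321b321a144105d02e3db2d21df17f6de214) (.leaf 0))) (.node (.node (.leaf 0x10e3019b0001097402d71c0008d704702460f76663876170a70b) (.leaf 0x342b3021000145de516c53b714c20574ac11278f27e74c18b295)) (.node (.leaf 0x2d7465e00011f6842e5059d049684f6b97ea0cd46a0cf24d32d)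 (.leaf 0)))) (.node (.node (.node (.leaf 0x1a300d53000004bc0f250f240c828411432762a24b74765fc70a) (.leaf 0xf0b5136000137ea51a0046108a10577c71307d211438c262295)) (.node (.leaf 0x52134848000019492e381f841ea18476e636407266054a734180) (.leaf 0))) (.node (.node (.leaf 0x4b9b504a00010e5c279b279a1c918577b044e2b441164f53770a) (.leaf 0)) (.node (.leaf 0x3aba0b27000126434760490f16d285510b41962d18708e2ab295) (.leaf 0))))) (.node (.node (.node (.node (.leaf 0x38294da20000027908510850166205377015079b1c66b56216de) (.leaf 0x29b62279000032984cca500910f284d36c5b31ef74636a049156)) (.node (.leaf 0x4040174800011666075436be18a40412444f850129741f12d113) (.leaf 0))) (.node (.node (.leaf 0x496d396700000be31e3e21f71c4605b57b3af34c47b1ab24d41d) (.leaf 0)) (.node (.leaf 0x12484084000122b044c80a160a260516252e07ed53b3447b2734) (.leaf 0)))) (.node (.node (.node (.leaf 0x35620c080001070f021315b014e604512250707a4464e168a6de) (.leaf 0x7614c8b00003dea318f3b4506670437515d54796a01cd7345be)) (.node (.leaf 0x13290e0a00011c4809923ba50a6505315b4530d00582f31806de)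 (.leaf 0))) (.node (.node (.leaf 0xa6d1b1c000010f812502cf406c505b2a867f01d6e046c428214) (.leaf 0)) (.node (.leaf 0x8c8500b000129ec4bce347706960517aa5a67540a85cb24d32d) (.leaf 0)))))) (.node (.node (.node (.node (.node (.leaf 0x3de7261e0001015f04c304c2185704f3c270c6751ba7e9518621) (.leaf 0x9de52e000003030235327d806b685d7ee06f69262e3921132cb)) (.node (.leaf 0x421f1436000114fa06cb34731a2285f1f93667ff1a180412d214) (.leaf 0))) (.node (.node (.leaf 0x37a0404300010aa91efc1efb165304161f0b766c5e6538486333) (.leaf 0x3c4b396d00014b884fe93c3e182405757b5ba01e4c00a954668a)) (.node (.leaf 0x2c10423c0001210544914490126184164b5ad61248a74d124518) (.leaf 0)))) (.node (.node (.node (.leaf 0x504c3a74000105e3127212711e650595944d33fb5052d7149025) (.leaf 0x26bd4b7f00003aba1caa0d48107285b7377fb5c651032e7d9518)) (.node (.leaf 0x249338d500001ac33d3e210a103284756d3b230078a4f4049586) (.leaf 0))) (.node (.node (.leaf 0x704127800010fab2a5813e906640491d05286ef6293fc33528f) (.leaf 0)) (.node (.leaf 0x260e50db0000281618de1c7e106105d7c06417581892df262156)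 (.leaf 0))))) (.node (.node (.node (.node (.leaf 0x176508ac000103980bc40bc30ae604b0d36bc77271e6e97b2537) (.leaf 0xfb64e76000135223c9e2c9e08b384d7824697a203778b41d333)) (.node (.leaf 0x513d14fe000017d238f338f21e8285b20972f2f84dc1b15fc2c7) (.leaf 0))) (.node (.node (.leaf 0x4b8a356100010d1f24d224d11c9105552703649b2463ef48670a) (.leaf 0)) (.node (.leaf 0x2c69523e00002473165c0d4012660537de59d34142230b7b2518) (.leaf 0)))) (.node (.node (.node (.leaf 0x152812240001083e18ec18eb0aa30511c539a14604d653180335) (.leaf 0x41764c60000041974c5d42a718e584d74e0015df16b47c5866de)) (.node (.leaf 0x49b31ffb00001dcd286941131c538473255952134154636de049) (.leaf 0))) (.node (.node (.leaf 0x48a804850001125217e52f8d1c3305106839d0896f717d786049) (.leaf 0)) (.node (.leaf 0x49380ad500002bfc4cf24cf11c438511053064fb34b4646de7d9) (.leaf 0))))))) (.node (.node (.node (.node (.node (.node (.leaf 0x515e0c53000100d402f402f31e8585d12c3db2a272717f6de70a) (.leaf 0x415319ec00012f173bca40ea18e48472864f34b83b91be54624d)) (.node (.leaf 0x293651dc0001144d333c333b10e284d7d359632766b36a049156)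 (.leaf 0))) (.node (.node (.leaf 0x8cf1c6a00000a0d1d811354069605f2c458a22845f0cf28f32d) (.leaf 0x1ab121e8000148663db753c70c9284335e4ec24176205e5be2c7)) (.node (.leaf 0xc20325b0001202c0b28058908250414dc7ad3ba6451ec124149) (.leaf 0)))) (.node (.node (.node (.leaf 0x57149125980001054f10ca10c90a918433b55d97540f850602532d) (.leaf 0x339a056100003948444451f4149285507906b1e07b16c55fc428)) (.node (.leaf 0x2be615bd00001a043c363c35125704d21a72763657a2e47bd546) (.leaf 0))) (.node (.node (.leaf 0x381e12bb00000f02290028ff166185d1d564507e6c70342cb537) (.leaf 0)) (.node (.leaf 0x1fb4320400002723494f452f0e558494d21bf6a961733e537124) (.leaf 0))))) (.node (.node (.node (.node (.leaf 0x2ab4b24000103090a0b0a0a04930577303f81bc32546355a2ab) (.leaf 0x1e6430fe000133e114a750700e270494bd72229e35e2d7149049)) (.node (.leaf 0x3f7747f90000171937db37da188784f6e04d768b54c47a5182ab) (.leaf 0))) (.node (.node (.leaf 0x39883f2a00010c81071c237416920516045682281734045fc32d) (.leaf 0)) (.node (.leaf 0x2ec632880001238946ea46e912d504d4e04093305aa1cc70a586)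 (.leaf 0)))) (.node (.node (.node (.leaf 0x1a76080c000007a7174b174a0c8684d0bc65f43f2d50d824d70a) (.leaf 0x23fc51bb00013fbd4af1531f0ef68597cf5c538072340a68a7bd)) (.node (.leaf 0x4f293fc800001d080da5402e1e430536143c209d7bf4646de7d9) (.leaf 0))) (.node (.node (.leaf 0x15641b4a000011a12e4d2e4c0aa60492ac59d7ed32330b7b2214) (.leaf 0)) (.node (.leaf 0x41a3493100012aef1806293c18f30476fd01b3282f77e25865be) (.leaf 0)))))) (.node (.node (.node (.node (.node (.leaf 0xa084078000001ed068c068b06c20516245007d25e82262ab149) (.leaf 0x41f8384a000131564f96437a18f585156469d07a68716400055a)) (.node (.leaf 0x10a01d9f000015ab35a235a108d30412e07011e25e61452c7621) (.leaf 0))) (.node (.node (.leaf 0xbd453fb00000b46207a207906f484980953a63767a6b570b24d) (.leaf 0x162b43be00004faf4bf6149f0ac30576737415b14ba7612c770b)) (.node (.leaf 0x4e493d17000121d9455e0bde1e240535d63c307f7c70756217b2) (.leaf 0)))) (.node (.node (.node (.leaf 0x39cc32a100010679140f140e16960594e40420cd06d71324d428) (.leaf 0x29fd3e7700013c47313c529510f685b5f144c0b34c734415f518))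 (.node (.leaf 0x3046155900001b7f3e2e3e2d142604d2104ad72b29b5c368a2cb) (.leaf 0))) (.node (.node (.leaf 0x356b05c90000104f2bb02baf14e60570884ad07a21a5c368a6de) (.leaf 0)) (.node (.leaf 0x122e2a1e000129023af345930a2505d42a7da62d589242124149) (.leaf 0))))) (.node (.node (.node (.node (.leaf 0x3a752296000004290d740d7316c784b36e37c7a223b3cb428335) (.leaf 0x425738bf0000365d512b4f021a2484f56b7a70f02c858b12d68a)) (.node (.leaf 0x273717e10000188f3a0c1ea610a384f25401c6bd71f5ff18012d) (.leaf 0))) (.node (.node (.leaf 0x53200bff00010dbf263e21bc1ec30411217e129e5e362f4287d9) (.leaf 0)) (.node (.leaf 0x371d34aa00002553323e4856164185b5144c835372256255a734) (.leaf 0)))) (.node (.node (.node (.leaf 0x1a585067000108d71a71162f0c858517b321a6787566f848670a) (.leaf 0x13b8086d00004392501c4a870a758510ca65213c1012f31806de)) (.node (.leaf 0x729521a00001e9b40c4420306650537d86057392f608a149486) (.leaf 0))) (.node (.node (.leaf 0x309a0846000112fc30cc30cb14328550c65295714852f93352cb) (.leaf 0)) (.node (.leaf 0x6ad3ee400002cfb46b54aa1065505b5fd23868006246455a214)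 (.leaf 0)))))))))

/-- part of a table -/
def entries21 : Trie := (.node (.node (.node (.node (.node (.node (.node (.node (.leaf 0x4a55105d0000000a002b002a1c6584b19b5553cc7012672957bd) (.leaf 0x2ce4036c00002d7b1aff455f127604905059d3411d03c17b2156)) (.node (.leaf 0x9b9139c000013513174317306b38531eb56950809c20314970b) (.leaf 0))) (.node (.node (.leaf 0x167e5001000009231b39199e0ac785d7aa0f13766911cc2c7621) (.leaf 0x33a50c4000044c342ff53a404a38557bf1df60231309f149621)) (.node (.leaf 0x48e6505900001efb2abd3c3a1c3504d7b15400f92c417b2cb41d) (.leaf 0)))) (.node (.node (.node (.leaf 0x91a2cf7000004710b620e4f06a285546621d4121142343352cb) (.leaf 0x435c3efc0000372b44d519ba1a458595fe6eb0061ac15d5182cb)) (.node (.leaf 0x39d03cd000018ee3a931deb04b285b0567806565174da3332cb) (.leaf 0))) (.node (.node (.leaf 0x2f6c18bb00010e0f0ad126ec12e605926959d3414e93c17b2156) (.leaf 0)) (.node (.leaf 0x3ead3602000125c713242ba1187205b53219f47f38e29112d486) (.leaf 0))))) (.node (.node (.node (.node (.leaf 0x20913d7a00000233077307720e918435dd40850c4f54646de2c7)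 (.leaf 0x91e2bfb000031fd32d44fce06a285d4514e643125c7fe335786)) (.node (.leaf 0x1b75080700011604362d362c0ca784b0bc4024fb5f91ea2cb049) (.leaf 0))) (.node (.node (.leaf 0x3e0c0a6500000b981dbb213a18610590fb2607e85127c40006de) (.leaf 0)) (.node (.leaf 0x255a44de0000224543bf3dae104585568e7d530042b3d57bd586) (.leaf 0)))) (.node (.node (.node (.leaf 0x1dea45ef000106c301fd10980cf60556a87e73fb63f5c368a025) (.leaf 0x1f9137bc00013d0a1a9b0d760e548435544ec14a3a203b5be15f)) (.node (.leaf 0x13f43301e4d00001bdf3eae232a1a438412f76eb5b10e115d518621) (.leaf 0))) (.node (.node (.leaf 0x38c94c3c000010a42c592c5816740537496836ef0fb44b70b24d) (.leaf 0)) (.node (.leaf 0x12593332000129710f3845ba0a268534f11093530b130b15f214) (.leaf 0)))))) (.node (.node (.node (.node (.node (.leaf 0x330b34380001011b006d03df148205750945276e4c32fa5fc32d) (.leaf 0x3f08001000002fa94294062f18810510020c07d138914d156428)) (.node (.leaf 0x51f83c4c000014aa33e433e31e968515c25ca6984741ab28f2c7) (.leaf 0))) (.node (.node (.leaf 0x299d40b500010a5a18611e3e10f185b62b3f03277432f3180518)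 (.leaf 0x2fa945ac000049f5520949ec12f20536a460810c69e36b7d9518)) (.node (.leaf 0x383d16dd00002090149241ca166285b2397637e80920756216de) (.leaf 0)))) (.node (.node (.node (.leaf 0xc314c010000059a11a311a2082584374313d45c53d74d262295) (.leaf 0xcb32859000039fe1d5d3dda08358473fd22f7d248b78d262295)) (.node (.leaf 0x322f4da300011a623a143cba146205f7701615bf3ff22162155a) (.leaf 0))) (.node (.node (.leaf 0xb805c1292c00010f55179917cf04f404340e54455d61c63b62124d) (.leaf 0)) (.node (.leaf 0x499944200001279b0e5c1fe01c5185367d0ed31902a33e486124) (.leaf 0))))) (.node (.node (.node (.node (.leaf 0x3de64ef2000103510aeb0aea185704d7931405b17a047a518621) (.leaf 0x40b436f8000034804cf950a818b284954446f7253f979012d214)) (.node (.leaf 0x416d37ed000017793866386518e505b5586173ea65413e0006de) (.leaf 0))) (.node (.node (.leaf 0x3656512300000cd224292428162684d7c60eb52a5644e1113786) (.leaf 0)) (.node (.leaf 0x3f10cf5000023fe475c391104b784313a2333763b41cd734621) (.leaf 0)))) (.node (.node (.node (.leaf 0x50214479000007f5181e181d1e6204368448409e64624e3357bd)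 (.leaf 0x21b848ad000140ab1d714c7b0eb28516f077d0875e109770b262)) (.node (.leaf 0x21cf393200011d6a40a240a10eb405f5781a914b33164d6217b2) (.leaf 0))) (.node (.node (.leaf 0x2546295e000011f92ef4014c104504d4137d530080160a7bd000) (.leaf 0)) (.node (.leaf 0x4a1d16d300012b7d35624cad1c6185b23909b69a0847507347bd) (.leaf 0))))))) (.node (.node (.node (.node (.node (.node (.leaf 0x60c455000010090020b020a064405969e06a0f753a1775be68a) (.leaf 0x141f395c00012e964e4e43e50a8185f57a5660c16822e4025428)) (.node (.leaf 0x1aff5185000113fc32a714720c9685f7cc1052412b869524d2c7) (.leaf 0))) (.node (.node (.leaf 0x2fd02890000009c11cc41cc312f58414020245dc42a74d262518) (.leaf 0xc4b422b000147274feb33eb082605764a44f3536672d815f734)) (.node (.leaf 0xfab4cf000011fcd29ad2d6208b305775f02a4250e55bc180333) (.leaf 0)))) (.node (.node (.node (.leaf 0x26cc0996000105070ffd0ffc10750590e73d21ef51c37b41d518) (.leaf 0x8e602d80001389d3803453e069704d0414ee1bc67d22753718b)) (.node (.leaf 0x21e70b15000019a53baa3ba90eb704f10a19208373c1c87867d9) (.leaf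 0))) (.node (.node (.leaf 0x11e4452200010eb0284c23a308f60496940be2227023867b2486) (.leaf 0)) (.node (.leaf 0x47cf1443000126af496b3d191af405f1fa3035831157dc12d24d) (.leaf 0))))) (.node (.node (.node (.node (.leaf 0x3a2901a6000002c2092e092d16c20530283a36510b15b72ab149) (.leaf 0x10360b0700003348483030e408c384d10945b5081d65132c770b)) (.node (.leaf 0x3a771e59000116c43748353f16c784f2fb34f42312658e32d333) (.leaf 0))) (.node (.node (.leaf 0x39753a1c00000c3522bc22bb168784b58c5f57480af4a655a18b) (.leaf 0)) (.node (.leaf 0x26b752ca0000231e44282982107284f7eb5963277ab36a049156) (.leaf 0)))) (.node (.node (.node (.leaf 0x3d5511ed0001075e16851684184584b1c15e07f209379f156786) (.leaf 0x49cf1aa300013ed41c0352f71c5405f2991100fd5b32fa5be7b2)) (.node (.leaf 0x14042b400011cab3fb23fb1046604165907623700c40a11355a) (.leaf 0))) (.node (.node (.leaf 0x2822f200001114d1b4d2da504920454930573994a76c55be428) (.leaf 0)) (.node (.leaf 0x603246b00012a674c1e4c1d064404739b45d5015300435fc68a) (.leaf 0)))))) (.node (.node (.node (.node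 (.node (.leaf 0x53195171000001a705ab05aa1ec28537cb04f7883e74502ab41d) (.leaf 0x51e65380000130c74f5429b31e9604d80005c6980f369528f2c7)) (.node (.leaf 0xe2426810001154e224c350c08830493ca1ed6b361b0db02518b) (.leaf 0))) (.node (.node (.leaf 0x306f3e9e00010afa1fc01fbf142705f5f37193ed4d026a29570b) (.leaf 0x518417c300014d76523f16f21e910492520b750c52f10e48670a)) (.node (.leaf 0x264723d70000217644f40707106504f38e46950326c5ed41d156) (.leaf 0)))) (.node (.node (.node (.leaf 0x23e50b110001062e1313133f0ef604b10a0763cc53f40a1137bd) (.leaf 0x1f4c458500013b88198e17640e460596a13df34c6165cb24d41d)) (.node (.leaf 0x2e84131e00001b213d4b3dbb12d10491db7a935147b1452c7000) (.leaf 0))) (.node (.node (.leaf 0x447f055a00010ffe07af0f171a6785f0786d111d5327b60005fc) (.leaf 0)) (.node (.leaf 0x4d4f22200001288b3b060c621cc405f3640070fd34e29818b7b2) (.leaf 0))))) (.node (.node (.node (.node (.leaf 0x3f840387000103e00c9c0478189104905236375427214d156428) (.leaf 0x4be827f0000135c34f00376b1c960513f204250c7d571324d2c7)) (.node (.leaf 0x53da37e90001182f398516751ed485555841916c69f0392ab7b2)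 (.leaf 0))) (.node (.node (.leaf 0x4ed92bc300000d71258e258d1e3485344d1962a440c63b70b15f) (.leaf 0)) (.node (.leaf 0x3f832fae000124e539aa43f1189104749f79d5ce4c867e518428) (.leaf 0)))) (.node (.node (.node (.leaf 0x754e9d084f0001088b19b219b11e3285b0c677d08740707570b124) (.leaf 0x1dca3da10001429a51852a880cf50555e10880ec1e1600734025)) (.node (.leaf 0x3a20196800001e2d32881e8e16c204127749965173e4502ab149) (.leaf 0))) (.node (.node (.leaf 0x3ec934dd000112a530393038187405351a6f376d0fb3e612d24d) (.leaf 0)) (.node (.leaf 0x19e25444f5f00012c824d3b4d3a104504979a80660b33960e025586) (.leaf 0)))))))) (.node (.node (.node (.node (.node (.node (.node (.leaf 0x82a21200000004d011f011e068305534b1733173c941855a18b) (.leaf 0x2a601a3c00012e0b1ad94e06122704128c6726364a5653180546)) (.node (.leaf 0x27064e6a000113a6321d321c10a204d78046633458834d7d9000) (.leaf 0))) (.node (.node (.leaf 0x50824178000009751c021c011e7104563e4363d37c91952147bd) (.leaf 0x10e50b9000045e04c18429f046405d7be5ec3744194b533524d)) (.node (.leaf 0x4bbc504000001f6942e60f8d1c928597b00182b47694765be70a)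 (.leaf 0)))) (.node (.node (.node (.leaf 0x7030b93000104bc015d0f2606640471162c876d5db2f933328f) (.leaf 0x3e912115000037eb27a30e1018718433492607e83f716400055a)) (.node (.leaf 0x41ef3eb2000119492fd23b1e18f505f5f61336a36823bd5866de) (.leaf 0))) (.node (.node (.leaf 0xab19444aa400010e5d0477279c0c4604972335710428b1ab24d41d) (.leaf 0)) (.node (.leaf 0x24bc3a5f0000264648631ba010338595927ad39e3ca435124546) (.leaf 0))))) (.node (.node (.node (.node (.leaf 0x52a6121300010279085308521eb304d1c433d29e24304b1497d9) (.leaf 0x34c04333000032993dbc0f5814d40416672045f72085b718b113)) (.node (.leaf 0x4d6f178a000016671d04049c1cc505f24a5a131b02a02032d124) (.leaf 0))) (.node (.node (.leaf 0x50f508300010be321f921f804e205f7b91a97e83f664d62155a) (.leaf 0)) (.node (.leaf 0x21cc4c12000122b10fba46270eb405974517e4ca65763b70b15f) (.leaf 0)))) (.node (.node (.node (.leaf 0x10d5427a00000710055015b108d584b6524674cf46e5c82c72cb) (.leaf 0x2231226400003deb4cf34f1e0ec28433691fb0723952262ab41d)) (.node (.leaf 0x1bfc3d3800001c493f2827ab0cb78595d82bb3a47791ea786049)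 (.leaf 0))) (.node (.node (.leaf 0x195736b4000010f90c2f2cf50c4684f53f28d6dd65d0cf24d41d) (.leaf 0)) (.node (.leaf 0x4ba21960000029ed4bcf2ffb1c920452770572410dd6c55be70a) (.leaf 0)))))) (.node (.node (.node (.node (.node (.leaf 0x269a4b720001016004c504c410718557371305c6473242262518) (.leaf 0x31f64af40000303229014f14145684d72a0e96686151e824d149)) (.node (.leaf 0x3fd823e7000014fc2f683474189585138f3361e04fc04715632d) (.leaf 0))) (.node (.node (.leaf 0x1843479d00000aaa1efe1efd0c260476d753531b4423c768a262) (.leaf 0x8fb160400004b942d8640df069785722037d80757566e4862ab)) (.node (.leaf 0x539e38e3000021061df644921ed285d56f1842da7b834a2ab180) (.leaf 0)))) (.node (.node (.node (.leaf 0x17393b08000005e4127412730ae385359f42b0f42a555f1245fc) (.leaf 0x555068700003abc1e8618ff04e484b09a25273308d6b570b24d)) (.node (.leaf 0x1d8620fa00001ac43d3f1f3f0cf104d34360129f2d504b1497bd) (.leaf 0))) (.node (.node (.leaf 0x4652047d00000fac08d317df1aa484506772d5736d265c12d113) (.leaf 0)) (.node (.leaf 0x33243b10000128164a7c11b114830495a006d2792f710e53718b)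 (.leaf 0))))) (.node (.node (.node (.node (.leaf 0x207b276a000003990b950bc50e868573e24822a24b27d624d2c7) (.leaf 0x51354e850001352650dc50db1e8284b7841d83fa4c75b25fc2c7)) (.node (.leaf 0x1211fce3b3f000017d438f538f40e5605d5a47f51276a87d628f41d) (.leaf 0))) (.node (.node (.leaf 0x169319fa00000d201f030c960ad18472886460a35d52d970a786) (.leaf 0)) (.node (.leaf 0x14ac43bf0001247347b347b20a930596737437983251790252ab) (.leaf 0)))) (.node (.node (.node (.leaf 0x1c842d780000083f18ed024f0cd104946f51208766143b32d124) (.leaf 0x2ecc1a62000141983da0528212d50592922155f813f72c2c7000)) (.node (.leaf 0x2f3a504b00011dcd411421ff12e28557b04595dc7697077d9156) (.leaf 0))) (.node (.node (.leaf 0x8b149d9000012552f8e1659069384371028a8072d305d6de18b) (.leaf 0)) (.node (.leaf 0x2c114dc500002bfe4cf44cf3126184377342b3410ca0b2124518) (.leaf 0))))))) (.node (.node (.node (.node (.node (.node (.leaf 0x3dc6247e000000d502f602f5185504d39c6ac4315647e9518786) (.leaf 0x374d44d100002f1820134d98164405b68e02d42d1dd05e5be68a)) (.node (.leaf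 0x41fd09a70001144e2121333d18f585b0e83427e82ca0480006de) (.leaf 0))) (.node (.node (.leaf 0x4ed0382300010a0d1d831d821e348415611fe2a419d09770b15f) (.leaf 0x38ef14ad00014868528d53b1167705f2015c207c23917b7865fc)) (.node (.leaf 0x3d0d0b8d0000202d43c42056184105b1155e07f266579f156786) (.leaf 0)))) (.node (.node (.node (.leaf 0x9bb0dfc000005500e9510cb06b38571596064f20fc57d295621) (.leaf 0x4aca03e90001394b503b43511c7505505862e1ca2ec26a149025)) (.node (.leaf 0x36880ded00001a053c3718cf16320511586387fa7534da3332cb) (.leaf 0))) (.node (.node (.leaf 0x27a6493200010f0228e0290110b304d6fd02a55676f5bc18012d) (.leaf 0)) (.node (.leaf 0x2ea13b1600002724481149cc12d30435a043936551f1452c7546) (.leaf 0))))) (.node (.node (.node (.node (.leaf 0x4a953e1f0000030a02890a0c1c7184b5e974e14f2ec5ae734025) (.leaf 0x1965221c000033e3507129020c4704b3635f51855ef42055a7d9)) (.node (.leaf 0xa440d15000117190b3737dc06c404913d42c5af1dd4502ab68a) (.leaf 0))) (.node (.node (.leaf 0x1d3148c200000c82237522c00ce28436f32553cc6f23fc335025) (.leaf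 0)) (.node (.leaf 0x272902880001238a46ec46eb10a30530373f01e37bf2f318012d) (.leaf 0)))) (.node (.node (.node (.leaf 0x384d19d4000107a7174d174c166405b28512535662956e62128f) (.leaf 0x2a56278b00013fbf1cb75243122684d3e552e45a27418e7b2586)) (.node (.leaf 0x2fa04e3c00011d0809dd402f12f204177d5b610c4f13b17d9518) (.leaf 0))) (.node (.node (.leaf 0x2bcd1def000111a105992e4e125505b2e874333047b179025000) (.leaf 0)) (.node (.leaf 0xbe386b00012af00ff34c5a045585d5665f37ed0664cc6de734) (.leaf 0)))))) (.node (.node (.node (.node (.node (.leaf 0x1ecf3b37000101ed068e068d0e3605f5a453531b5d809568a124) (.leaf 0x1dbb4a4500003157494b23900cf285771d21d2f435b234335025)) (.node (.leaf 0x523180000115ab35a435a304468454c700d01936e69524d149) (.leaf 0))) (.node (.node (.leaf 0x30fe3ce100010b461bd1207b143785d5d204c1e263404b295621) (.leaf 0x1160231c00014fc231da529908e60413785672221383c17b2537)) (.node (.leaf 0x3da72737000121da36584397185304f3df3ab1e24e347a518621) (.leaf 0)))) (.node (.node (.node (.leaf 0x3d2948330000067a04a9141018430536e535a05b0eb04715670b)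 (.leaf 0x539f185700013c4832b719cb1ed285f25e2066c302b3b82ab180)) (.node (.leaf 0x13e1b00183600011b7f3e2f09a10ca104125b3f92da22479c2cb180) (.leaf 0))) (.node (.node (.leaf 0x1b6d00070001104f2bb22bb10ca705b0013f91855ef79c2cb7d9) (.leaf 0)) (.node (.leaf 0x33e612570000290331de143e149704d1c93f81bc45d4cc55a18b) (.leaf 0))))) (.node (.node (.node (.node (.leaf 0xfe107af000104290d760d7508b60430b575e6cc24a3867b2214) (.leaf 0x2cf31cfe0001365e2f9347b912768472d076f6126e85a77b2156)) (.node (.leaf 0x514802c10001188f3a0e3a0d1e8505104030643f64a4a66de70a) (.leaf 0))) (.node (.node (.leaf 0xcc80a2300010dc02640263f08360510f30be3b32f53867b2214) (.leaf 0)) (.node (.leaf 0xac3075b00002554459c1e7a06d40470ac6115506c93b82ab68a) (.leaf 0)))) (.node (.node (.node (.leaf 0x1db843d5000008d81a731a720cf28516761dd1ca7564da3337bd) (.leaf 0x49b6154b00014392538b4ee11c5384d20f4e74fb3370ff6de7d9)) (.node (.leaf 0x2aa0219700011e9b42043b9d12330413574686890f60bf124546) (.leaf 0))) (.node (.node (.leaf 0x13ec4f03000012fd30ce30cd0a7705979413a11d49974d1245be)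 (.leaf 0)) (.node (.leaf 0x2a9438df00012cfb3f7e495a123284956d7a83510413b1049000) (.leaf 0)))))))))

/-- part of a table -/
def entries22 : Trie := (.node (.node (.node (.node (.node (.node (.node (.node (.leaf 0x172029630001000a0001002c0ae30414151f07ef00d74d2625be) (.leaf 0x14b12bbd00012d7b4dbd4dbc0a9384344c74379806863c02518b)) (.node (.leaf 0x1c680ca100011352317631750cc70511330fe4d41080de428049) (.leaf 0))) (.node (.node (.leaf 0x31e44825000109231b3b1b3a14560496e41e535868f56024d149) (.leaf 0x39470398000144c726d7229c168604f05320c15a1b06d028f428)) (.node (.leaf 0x2c0c4ee800001efc4283428212610597924c95ab701435262156) (.leaf 0)))) (.node (.node (.node (.leaf 0x18ac1d250001047101570e500c350592d42bc12762a750214180) (.leaf 0x1caa204f0001372b517247660cd20553317370724ce0392ab180)) (.node (.leaf 0x1e3a1cce000118ee3a953a940e258552cc558301640416734180) (.leaf 0))) (.node (.node (.leaf 0x377239a500000e1026ee26ed164684558224f35868f4ea24d149) (.leaf 0)) (.node (.leaf 0x51ba41d9000025c829873fb51e928556445871b46933465fc70a)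 (.leaf 0))))) (.node (.node (.node (.node (.leaf 0xd950f580001023307750774087484b1815d03827733b17d924d) (.leaf 0x18a813d4000131fd39c613810c350511f21b56dd74f5b421441d)) (.node (.leaf 0x4f400c610000160521d9362e1e4404112e06a6b71c21775be7b2) (.leaf 0))) (.node (.node (.leaf 0x23cc4c7000000b99213c213b0ef505974f08569a6d75b47347bd) (.leaf 0)) (.node (.leaf 0x97941a90000224645ba2de206a78536414ae7666911cd214621) (.leaf 0)))) (.node (.node (.node (.leaf 0x144851af000106c40b7114e50a850517ce52f76e4e724b7bd428) (.leaf 0xc0a422400013d0b41492c26082405564a2495f776334d7d968a)) (.node (.leaf 0x34aa37df00011bdf3eaf250514d20555577377b40fa0392ab149) (.leaf 0))) (.node (.node (.leaf 0x9ba3c75000110a405422c5a06b38555c92af05b475207295621) (.leaf 0)) (.node (.leaf 0x22200d6a000029734b71059b0ec204114442c18201b58f2ab180) (.leaf 0)))))) (.node (.node (.node (.node (.node (.leaf 0x10f72a290000011c00f903e008d784f42b43c77c2593d970a621) (.leaf 0x32da287100002faa4ed2460c14748553ff05a5252e522170b24d)) (.node (.leaf 0x5da27c8000114aa140333e504f48553eb52771b68864d70b24d)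 (.leaf 0))) (.node (.node (.leaf 0xf02403700000a5b1e3f1d9508a104561e22f7d21ac78d262295) (.leaf 0x45f4220c000149f5526d13c61a978493627151bc2760475182ab)) (.node (.leaf 0x4ca3290e000120900b4f44291cb304740b70969778c2b61497d9) (.leaf 0)))) (.node (.node (.node (.leaf 0x4f0e40200001059a11a511a41e4105d61c0f85a279766e537262) (.leaf 0x1896254100013a0118834cb60c3484d3ad21d17630323433515f)) (.node (.leaf 0x53ab52a000001a640a133cbb1ed30577e7058083261390428049) (.leaf 0))) (.node (.node (.leaf 0x433d52be00000f57129529a71a4385b7ea6c41e207679f51870b) (.leaf 0)) (.node (.leaf 0x247f3d130000279d41680715102785f5d62451e37c730818012d) (.leaf 0))))) (.node (.node (.node (.node (.leaf 0x3f360979000003520aed0aec188384d0e52d42796e547a5182ab) (.leaf 0x2e5d405a0001348041c9454c12c585b6206593123f078970a000)) (.node (.leaf 0x48d923750000177a230e2fe21c3485338316a16c46609762115f) (.leaf 0))) (.node (.node (.leaf 0x1b801e1700010cd2242a0d8b0cb10412ee39d30f57962878641d) (.leaf 0)) (.node (.leaf 0x427c44a4000123fe284432c81a2585968728b358233164586149)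 (.leaf 0)))) (.node (.node (.node (.leaf 0x3baa18f1000107f51820181f16f305526f0e810725332a2145be) (.leaf 0x39681a0e000040ae3bea380816870512897062794452406de2ab)) (.node (.leaf 0x28ae342d00011d6b20b940a310d305d5076b255618d2d970a12d) (.leaf 0))) (.node (.node (.leaf 0x10b84cc9000011fa2ef62ef508d385175a4f06750b61112c7621) (.leaf 0)) (.node (.leaf 0x2dc247f300012b7e4cae35ea12b60456e012f5f880930a15f000) (.leaf 0))))))) (.node (.node (.node (.node (.node (.node (.leaf 0x1228c03a1100000091020d020c10d504158c0847087af72c2c7000) (.leaf 0x413b1f1000012e9711c84e4f18e38573110012e93af47c5865be)) (.node (.leaf 0x525f12a8000113fd32a80b9a1ea485f1d44e669940c7fe33515f) (.leaf 0))) (.node (.node (.leaf 0x2f251ee000109c11cc61cc504978457d46c038a7c366e5372ab) (.leaf 0x52b717ea0000472b264127ec1eb384f2542af1f70df207295049)) (.node (.leaf 0x1bd034e800001fce435f3c390cb484151b2776996f009762115f) (.leaf 0)))) (.node (.node (.node (.leaf 0x34110f40000005080fff0ffe14c184317e0097252b21ee428734) (.leaf 0x376411e60001389e17a1407c16460491c144803e0937fc24d295))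 (.node (.leaf 0x7d04d76000019a62f403bab067684176b41e13c7de0c568a6de) (.leaf 0))) (.node (.node (.leaf 0x20fb51b500000eb1284e284d0e968577cf4492b45e01e824d70a) (.leaf 0)) (.node (.leaf 0x17113f6c000126b0496d496c0ae184360978a59c38327041d55a) (.leaf 0))))) (.node (.node (.node (.node (.leaf 0x52e619e2000102c20930092f1eb604d2860b64d87af13768a124) (.leaf 0x64533f60001334814543f32064604b5023df3ba4cb7f824d295)) (.node (.leaf 0x5b13f70000016c5374904a704f384360c0673ee6e52837865be) (.leaf 0))) (.node (.node (.leaf 0xfc1452f00010c3522be22bd08b40436947990f760469b049113) (.leaf 0)) (.node (.leaf 0x453a20a00001231e468a46891a8385533b00450f6db20e15618b) (.leaf 0)))) (.node (.node (.node (.leaf 0x721420b0000075f168611cd06650436484d37727492d7149486) (.leaf 0x3a562b4200013ed74edc445716c484d4440fb5fa26634a18b68a)) (.node (.leaf 0x1548299b00011cac3fb31e910aa405141b69f50121d65e7d9113) (.leaf 0))) (.node (.node (.leaf 0x103f3db90000114e2da616d608c385f5e33735083c54d62c770b) (.leaf 0)) (.node (.leaf 0x38ee009d00012a680fb438e6167705d00c73e0f40862477865fc)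 (.leaf 0)))))) (.node (.node (.node (.node (.node (.leaf 0x35e31efb000101a705ad05ac14f604730e64c13c5a528768a55a) (.leaf 0x305f0311000030c819fc4d5d142685f04606f6925583921132cb)) (.node (.leaf 0x10c44ead0000154f350e350d08d504978a67c43166f5c82c72cb) (.leaf 0))) (.node (.node (.leaf 0x19fd1e8d00000afb04d71fc10c5785b2fe79a3a432f24055a049) (.leaf 0x110b4e4400014d77534952e008e105777e2a83ea1715ed41d6de)) (.node (.leaf 0x2251d960001217644f5144c048304b2e017c31761b05d55a18b) (.leaf 0)))) (.node (.node (.node (.leaf 0xf7a511d0000062f1341134008a68557c56f772506330a7b2214) (.leaf 0x50a21f7e00003b892e5417921e7204531c7cb2573b71233357bd)) (.node (.leaf 0x50e6349500001b223a8e38f11e7604d5122c069a0f139268a025) (.leaf 0))) (.node (.node (.leaf 0xce90a2e00000fff2b0727dd08370530f37965a364465341d335) (.leaf 0)) (.node (.leaf 0x1f3c140000288c0f761d1a044485f5bd15857362b3465be68a) (.leaf 0))))) (.node (.node (.node (.node (.leaf 0x51c10a55000003e10c9e0c9d1e950430fa3e52410f342055a2c7) (.leaf 0x3ea428cd000035c43d8150ce18720494066ea47f0091a412d486))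 (.node (.leaf 0x38c7381600001830398625fd167404f55e4893563546cd62124d) (.leaf 0))) (.node (.node (.leaf 0x2dc7328c00000d722590258f12b604f4e051e3307f673a15f586) (.leaf 0)) (.node (.leaf 0x239a421e000024e62a32421d0ef18556496ca2a03c457d2957bd) (.leaf 0)))) (.node (.node (.node (.leaf 0x3e2d04580000088c19b419b3186205b0653aa7e477417a12d486) (.leaf 0x1e8737b10000429c45f247f70e3404f5540790816fc1a23357b2)) (.node (.leaf 0x52ef144000011e2d346b22e61eb605f1fa19a4d842428768a124) (.leaf 0))) (.node (.node (.leaf 0x69e167c000012a6303a237f065485d22e54c6e22bf0435fc68a) (.leaf 0)) (.node (.leaf 0x339513c000002c841eb71d8a149284b1f10183997935b25be428) (.leaf 0)))))))) (.node (.node (.node (.node (.node (.node (.node (.leaf 0x128f35300001004d001301200a3405f5230d701e05a4f4049113) (.leaf 0x1372127100002e0c1a1d48a60a678451d00e33285932df2625be)) (.node (.leaf 0x11f80950000013a7321f321e08f68510e306025d78730b15f486) (.leaf 0))) (.node (.node (.leaf 0x47bf3cda000109750bf91c031af385f5d157847974b47c0005be) (.leaf 0x30245141000145e050a344d914230497c81023ed4615ae214621))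 (.node (.leaf 0x3b57016300011f6942e722b916e484f02128176a0032f933528f) (.leaf 0)))) (.node (.node (.node (.leaf 0x3a944468000104bd0f27083a16d18496835120644441ee32d734) (.leaf 0x25733b4a000137ec51a10aa310478475a55236f943a7777bd546)) (.node (.leaf 0x313a09b40000194a2ebb3b1f14438550e93f63f11212a7537333) (.leaf 0))) (.node (.node (.leaf 0x4a2b171100000e5e279e279d1c6205723d0793cc7011a23357bd) (.leaf 0)) (.node (.leaf 0x2fc1201600002648419544e512f50433294416127291ec124518) (.leaf 0))))) (.node (.node (.node (.node (.leaf 0x23d0fbd0000027a08550854048385b18d77b50f5a605d6de18b) (.leaf 0x35240c20001329921424e7904a684562c06f6927ca137113786)) (.node (.leaf 0x116b05730001166736c036bf08e605707b44f07e7932d815f486) (.leaf 0))) (.node (.node (.leaf 0x2353202200000be421fb21fa0ee584732c15109e60354a734025) (.leaf 0)) (.node (.leaf 0x1157292d000022b24628359308e484f40e5b370567d6ed04928f) (.leaf 0)))) (.node (.node (.node (.leaf 0x4f7a32de00010710073e15b21e468554e765f0ea4c90d824d180) (.leaf 0x1c3341000013deb2136490404760475050376a303009568a55a))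 (.node (.leaf 0x491d25c700011c4a11fe3f291c4185b3bb4a77030ab781486124) (.leaf 0))) (.node (.node (.leaf 0x382c171f000110f92cf62c7a166205923d7847a431809762155a) (.leaf 0)) (.node (.leaf 0x143f139d000129ee4bd14bd00a8385f1eb66b27926b3d50252ab) (.leaf 0)))))) (.node (.node (.node (.node (.node (.leaf 0x6ae1b210000016104c704c6065505d2a901a5765f14cc6de734) (.leaf 0xab353270000303438534e7f06d38477f44653f16fd58e428333)) (.node (.leaf 0x4e301534000014fd347634751e2384120d27e2b012f283786049) (.leaf 0))) (.node (.node (.leaf 0x3209217e00010aaa1f001eff146105335480007e6c721c2cb537) (.leaf 0x1cc0172b00004b963dd744ca0cd404123e5e907f17051d18b7b2)) (.node (.leaf 0x35f413e2000121060b832c6f14f68491f31604957c649768a6de) (.leaf 0)))) (.node (.node (.node (.leaf 0xeb0ddb000105e40a23127504570571575fe764162664486333) (.leaf 0x3b64110100003abd43c2523f16e60491ac1c40d06792ad11355a)) (.node (.leaf 0xd722db200011ac408f63d40086784547309807c6292421245be) (.leaf 0))) (.node (.node (.leaf 0x32710fd700000fad226e2a5914678431902c603d1842e72cb5fc)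 (.leaf 0)) (.node (.leaf 0x87d01ca00002817355d4a7d068785b02a5616b34ec33e53718b) (.leaf 0))))) (.node (.node (.node (.node (.leaf 0x32c144cb0001039901050bc6147404368c49c76d40544b62124d) (.leaf 0x140d3ba80000352750dd23890a8105b5b352f76e1f41797bd32d)) (.node (.leaf 0x4bd30431000117d538f738f61c9584706201a49b58d17f6de70a) (.leaf 0))) (.node (.node (.leaf 0x19d5090200010d201f5324d30c5684b0dc25318353c37928f41d) (.leaf 0)) (.node (.leaf 0x40f1248b000024743d9b3e4218b784339d69d4236a47c4000333) (.leaf 0)))) (.node (.node (.node (.leaf 0xd5042b20001083f149918ee086684165906025d46530b15f486) (.leaf 0x1c24429c0000419d437b19720cc204965764b1826615b72ab41d)) (.node (.leaf 0x484466a00001dce4115158404d20496bb5e93d66fb5b718b149) (.leaf 0))) (.node (.node (.leaf 0xc953171000112552f902f8f083484b4c61656e237532e7d9113) (.leaf 0)) (.node (.leaf 0x33ab1c3900012bfe235040a914930572c05fe79820f3ef4862ab) (.leaf 0))))))) (.node (.node (.node (.node (.node (.node (.leaf 0x1c303e4b000100d5011402f70cc28415ee4b96dd5792262ab41d) (.leaf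 0x265c0aa900002f192f0d40f910658591013e86d61172f341d518)) (.node (.leaf 0x1dbe4ba00000145030da23480cf285d73c00209e50d1233357bd) (.leaf 0))) (.node (.node (.leaf 0x1383496300000a0e1d851d840a740477012e355d77870704928f) (.leaf 0x2c5c40660000486a2c5253d612658596224075ab80365341d156)) (.node (.leaf 0x1bbf4bae0000202e298643c50cb285f73c6e16ae74f75570b124) (.leaf 0)))) (.node (.node (.node (.leaf 0xcbf38610001055010cd10cc083585f5662c478f1924de262149) (.leaf 0x38b4e400001394d4704372c04b205777e0bb0060854b53332cb)) (.node (.leaf 0x52972a6300011a0508aa3b831eb184f43023c6c33c8416734180) (.leaf 0))) (.node (.node (.leaf 0x1a5d3d5200010f031c7f21d70c8585b5da1712f81e10ba4862c7) (.leaf 0)) (.node (.leaf 0x439a352900002725466c1eee1a5185552250d0c328620e156786) (.leaf 0))))) (.node (.node (.node (.node (.leaf 0x47383dee0001030a0a0e0a0d1ae38515e66613282a50485865fc) (.leaf 0x262d4eef000133e3451d32b6106205b7927993277a930d049518)) (.node (.leaf 0x215842d60000171a37de37dd0ea485165d54b16c71d63b62115f) (.leaf 0))) (.node (.node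 (.leaf 0xfd12a2500010c831c6c237608b484342b3945d32c84d97d968a) (.leaf 0)) (.node (.leaf 0x11b34e740000238b46ed206708f384778222f52159978d2625fc) (.leaf 0)))) (.node (.node (.node (.leaf 0x331e1c99000007a8174f174e148285d2c83520053856c55be428) (.leaf 0x1a812d7300003fc039ae46200c9104346f2306987624206de2c7)) (.node (.leaf 0x4a322a3500011d0924883b5f1c6284542c2593804f01a23337bd) (.leaf 0))) (.node (.node (.leaf 0x1aba3bf0000011a21ff80ec30c928555ba06b27d5a86c55fc70a) (.leaf 0)) (.node (.leaf 0x347f308000002af14c5c4c5b14c785f4b40783e449162632d335) (.leaf 0)))))) (.node (.node (.node (.node (.node (.leaf 0x1f8f3b36000001ee0690068f0e5405f5a44340816ab6b65be7b2) (.leaf 0x2f1e2ba0000031593ff8406a12e185d44a02c0f51ce78b180518)) (.node (.leaf 0x1d22183e000115ac2e1a35a50ce204525b5ec1cb4d27fe3357bd) (.leaf 0))) (.node (.node (.leaf 0xf58539200000b47207c008208a48518010ae5a95723b17d968a) (.leaf 0x4442022c00004fc8466121431a640450306f076d31c80412d28f)) (.node (.leaf 0x18344aa2000021db455f207a0c258497232930724ce783734180)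 (.leaf 0)))) (.node (.node (.node (.leaf 0x342316e00001067a1412141114c204723a00703e39d08e18b295) (.leaf 0x3f751fda00013c4d4f875296188784b32366331708f14d15618b)) (.node (.leaf 0x155c2b0700001b803e3013c50aa48594403bf5fa64269b049113) (.leaf 0))) (.node (.node (.leaf 0x49d90a47000010502bb303781c548530f84ec14a24903b5be15f) (.leaf 0)) (.node (.leaf 0xf5201990001290319af4b2208a48450244550f0638322049113) (.leaf 0))))) (.node (.node (.node (.node (.leaf 0x409a504d0000042a0d780d7718b18557b05e166848b118586295) (.leaf 0x456a35f400013665256e2dc41a870555311696077f34a115618b)) (.node (.leaf 0x1ca6183300011890081c3a0f0cd204d25b16d78871608e2ab41d) (.leaf 0))) (.node (.node (.leaf 0x4157073e00000dc12642264118e484f0aa6ab71b0030a954628f) (.leaf 0)) (.node (.leaf 0x36d82bc0000125541d5f07fa163685144d01472b49d0c568a2cb) (.leaf 0)))) (.node (.node (.node (.leaf 0x77b355c000108d81a751a7406678575265e80f42734167345be) (.leaf 0x31f00f0e000143942810538c14568411717c208b15156028f149)) (.node (.leaf 0x3510357200011e9c36f6126a14e18415282aa4b33db2d7295486)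 (.leaf 0))) (.node (.node (.leaf 0x37b71568000112fd30b330cf165384f2126873f519a66e486335) (.leaf 0)) (.node (.leaf 0x13d2441d00002cfc194c23e40a7684567c76f6cf38e5a77b2486) (.leaf 0)))))))))

/-- part of a table -/
def entries23 : Trie := (.node (.node (.node (.node (.node (.node (.node (.node (.leaf 0x43ec1ded0000000b002e002d1a570592e863f60248412b518621) (.leaf 0x36ac1d0300002d7c152b2cc316330592d111436131a186734621)) (.node (.leaf 0x48da281b00001353317831771c348553f652738748864d70b7b2) (.leaf 0))) (.node (.node (.leaf 0x7d1377a0000092405001b3c067684354f61a7a45a149768a6de) (.leaf 0x34702848000044c839c04ddb14c78413f95523f149a0cc428335)) (.node (.leaf 0x3d5b445300001eff3cbb419e18458576822d472b12247a518786) (.leaf 0)))) (.node (.node (.node (.leaf 0x53ff4104000004720e520e511ed585f6322016a97e3174428262) (.leaf 0x523640040001372e495f24291ea384d61a29269771f545149049)) (.node (.leaf 0x2ffa39f8000018f023083a9612f685558952e5ab0d630a7b2156) (.leaf 0))) (.node (.node (.leaf 0x2f3e166b00000e1126f026ef12e285d22b7b96275fd6ed7d9518)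 (.leaf 0)) (.node (.leaf 0x3ece3f81000025c94492132b187405d60d1361fd0656b854624d) (.leaf 0))))) (.node (.node (.node (.node (.leaf 0x344231b0000002340536077614c40454cb0075f776308e18b68a) (.leaf 0x1a6519c7000031ff4fd04fcf0c8604b2823572f87151ab24d2c7)) (.node (.leaf 0x20e72b2300001607362f34390e9604f4421ad1b476c69528f2c7) (.leaf 0))) (.node (.node (.leaf 0x12e6091e00000b9a213e213d0a3704d0dd7974872565bc180333) (.leaf 0)) (.node (.leaf 0x3ce504d4000122461fa33863183504b06d2823d668f164000149) (.leaf 0)))) (.node (.node (.node (.leaf 0x2350416c000006c514e714e60ee584163d4ae3fb48f7502147bd) (.leaf 0x45c21b9600013d0d1a9d4f8c1a950452b33680cd39c7e9156428)) (.node (.leaf 0x53cd32a800001be03eb035ff1ed405b4e416808143a58f18b15f) (.leaf 0))) (.node (.node (.leaf 0x11903bc4000110a50af3047408f18415b613f2376716fe18055a) (.leaf 0)) (.node (.leaf 0x40680080000029743d2b1dad18a705100b0bc7dd7b013e000333) (.leaf 0)))))) (.node (.node (.node (.node (.node (.leaf 0x377c3efb0001011c03e203e116468595fe56c3ce2b31ab28f149) (.leaf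 0x300f020e00002fab1bdf4c85142205f02e7a00a31d74a83352cb)) (.node (.leaf 0x2ccc21f0000014ab33e6094512750593600b55dc7516fe41d156) (.leaf 0))) (.node (.node (.leaf 0x1924479800010a5b1e4006420c450496d736f31b4ce538537262) (.leaf 0x251a34ac000149fc539d4df810418555145fd35d4ed2e47bd586)) (.node (.leaf 0x24e9103b000120910c143a1e103705319965b6f937037b41d12d) (.leaf 0)))) (.node (.node (.node (.leaf 0x392405300000059b11a711a616830490760a57487c269c48618b) (.leaf 0x2d551b3800003a02234f194412a684b2aa2cf6fa0d16e915f000)) (.node (.leaf 0x1be51c7200001a653cbd3cbc0cb704b2c51670c86f42e77867d9) (.leaf 0))) (.node (.node (.leaf 0x34a7196f00010f5704cd29a814d204f2776e30194b45202ab295) (.leaf 0)) (.node (.leaf 0x20080ef70001279d4a26458b0e8105117045619c1402b56de70a) (.leaf 0))))) (.node (.node (.node (.node (.leaf 0x4e5111c2000003530aef0aee1e248431bf1556990d763b62115f) (.leaf 0x12cd51f30001348150a94cd50a3605b7d531f3b604e55c7b2214)) (.node (.leaf 0x231e48a30001177a38672ceb0ee185d6f02903fb2d457d1497bd) (.leaf 0))) (.node (.node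 (.leaf 0x4f9b352000000cd322ae242b1e5185752203627f09a664486124) (.leaf 0)) (.node (.leaf 0xdae18d9000023ff475d1179087505d26c4aa7a45945ed1806de) (.leaf 0)))) (.node (.node (.node (.leaf 0x4353f7b000007f61822182104c384b60c5523f16fd1ee428333) (.leaf 0x1ce33ff6000040b0534018440cd70476174650893ae58e4287d9)) (.node (.leaf 0x53eb1a6000001d6d3f6b40a41ed50572921c631965248c428262) (.leaf 0))) (.node (.node (.leaf 0x65b4558000111fa2ef7246b064685769e4827bc3911e824d149) (.leaf 0)) (.node (.leaf 0x2867274c00002b7f45564caf10c704f3e05266bd2e32d92c712d) (.leaf 0))))))) (.node (.node (.node (.node (.node (.node (.leaf 0x252452600010091020f020e048684569424f4e83e54ea24d32d) (.leaf 0x1722339f00012e984e501d790ae30454f98013ee1f66771245fc)) (.node (.leaf 0x4f6f1fc5000013fe266a32a91e4605f32141a6c307b1e828f180) (.leaf 0))) (.node (.node (.leaf 0x3022add000009c21cc81cc704a204543a7a00a32b3123335786) (.leaf 0x2cc4381b000047314ab153c4127504955e62c10c6e827a41d156)) (.node (.leaf 0xa90a2900001fcf258d436004550530f34dd3b30b14206de214)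 (.leaf 0)))) (.node (.node (.node (.leaf 0x2d4829a6000105081001100012a605141c42e31201c0cb7b2586) (.leaf 0xa904b3d0000389f519c420206d28417315db03e02f45018b149)) (.node (.leaf 0x48be277c000119a63bac37c81c3385d3e353d4fb6731c82cb7d9) (.leaf 0))) (.node (.node (.leaf 0x36d404da00000eb2284f0d22163684906d41e24868f21868a786) (.leaf 0)) (.node (.leaf 0x1bdd4a35000126b10df6496e0cb485b71a14214a5eb0756217b2) (.leaf 0))))) (.node (.node (.node (.node (.leaf 0x4fc64289000002c3093209311e5404d65451407f7b90135be7b2) (.leaf 0x46d42892000033494ccc50391ab48494020b85a97843f4546113)) (.node (.leaf 0x27e63378000016c62780164a10b704d4f747e6550d72df12412d) (.leaf 0))) (.node (.node (.leaf 0x468e0c2400000c370a7414441ab105d1262d67b4106118000295) (.leaf 0)) (.node (.leaf 0x3a22a4f0000231f39fb290e04b304542e7096750142b614970b) (.leaf 0)))) (.node (.node (.node (.leaf 0x2aa81d140001075f022d168712330512d313a39f5c94a2124546) (.leaf 0x3389258d00013ed852f952f814920533b472075c5484045fc32d)) (.node (.leaf 0x24ca311600001cad3fb53fb410360554bf44f6ee74a73a15f586)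 (.leaf 0))) (.node (.node (.leaf 0x64c32b50001114e09fd2da706460594e53af3ba2dd3de24d295) (.leaf 0)) (.node (.leaf 0x3bd40ea00002a6945f6327f04b385b6304d377c08026714970b) (.leaf 0)))))) (.node (.node (.node (.node (.node (.leaf 0xeb83db1000101a8007405ae08938515e30d61bc2a524b7bd18b) (.leaf 0x4ea02567000030c9274448741e330413af48b38475a21c2cb7d9)) (.node (.leaf 0x497a44d40001154f350f06f31c4685568e28d6dd3f30d824d180) (.leaf 0))) (.node (.node (.leaf 0x2c34188e00010afb03561fc212628492636bb5ab8034d9049156) (.leaf 0x21a6489200004d7d3fb651fd0eb204d6ec10b4107cc2f0621124)) (.node (.leaf 0x3a360c1d000121770bae44f616c284d1257923d609961818b295) (.leaf 0)))) (.node (.node (.node (.leaf 0x23d64cd700000630134313420ef584d75d2a31cb79d600734025) (.leaf 0x39c416bf00003b8b2a5a298516960492337c875409056024d428)) (.node (.leaf 0x15902e9b00001b231fed3dbc0ab18414884c978f38f5c7262149) (.leaf 0))) (.node (.node (.leaf 0x3113388100010fff2b092b0814418475681384eb56908255a214) (.leaf 0)) (.node (.leaf 0x483d52bc0000288e3fe62d751c2385b7ea48b3840be17d2cb049)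 (.leaf 0))))) (.node (.node (.node (.node (.leaf 0x17d45350000103e10c9f022b0af48497f701070556830d04924d) (.leaf 0x283c362a000135c4510c0a8e10c38595346481e342e6d870a546)) (.node (.leaf 0x9b43ca10001183007fb2f9f06b38495cd10f744565073149621) (.leaf 0))) (.node (.node (.leaf 0x1eaa003200000d730a1725910e350550040e86dd69d32a214180) (.leaf 0)) (.node (.leaf 0xdfe1334000124e636ee4759087785d1de22f5210fb4de2625be) (.leaf 0)))) (.node (.node (.node (.leaf 0x2825372f0001088c19b619b510c304b54975165578272c70a546) (.leaf 0x2f8316f20000429d4fe54fd312f104723b15c6275025ed180156)) (.node (.leaf 0x2454326000001e2e41941a1310268494dd0603004680cb15f586) (.leaf 0))) (.node (.node (.leaf 0x13e23775000012a71ebe303b0a7704554f3c85e27732df2625be) (.leaf 0)) (.node (.leaf 0x4f6a283500002c85260e4d3c1e460553f82d118213a4a328f41d) (.leaf 0)))))))) (.node (.node (.node (.node (.node (.node (.node (.leaf 0x74990250e0000004e012201211c518413a96df31927b781486124) (.leaf 0xbb90a3300002e0e4e084e0706f38530f617547974b2832cb5be)) (.node (.leaf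 0x2b7139a8000113a73221322012478435824431943b21797bd546) (.leaf 0))) (.node (.node (.leaf 0x23b02fbd000009761c051c040ef28414a04d11cb79d3fc335025) (.leaf 0x4c5716b9000145e4249b1b461ca484f23338b1b74517fe33315f)) (.node (.leaf 0x37673b4200001f6a42e942e8164604f5a52d108b1514ea28f149) (.leaf 0)))) (.node (.node (.node (.leaf 0x14892579000004be0f290f280a910533b24dc75c43e17902532d) (.leaf 0x21522b2f000037ee4eb54d040ea48454426e13875ee6cd70b7b2)) (.node (.leaf 0x46274d280001194a3b213b201aa204f76345e3b65b958b12d734) (.leaf 0))) (.node (.node (.leaf 0x35210a7d00010e5e279f237c14e30430fc6507ef00d32b2145be) (.leaf 0)) (.node (.leaf 0x50f408b000002649491149101e768490d40080124732ad68a7bd) (.leaf 0))))) (.node (.node (.node (.node (.leaf 0x12084ae60001027a085708560a240517292ff5f703532e7d9113) (.leaf 0x294217440001329a1fab3d3710e50452442c45c669378d262518)) (.node (.leaf 0x33eb13480001166936c11b8114970571df38978506a17f55a2ab) (.leaf 0))) (.node (.node (.leaf 0x3eef3f8c00010be421fc06bb187705f60d3dc1072393bd5865fc) (.leaf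 0)) (.node (.leaf 0x22ac2324000022b3428204820ed205937a20430f61751d18b180) (.leaf 0)))) (.node (.node (.node (.leaf 0x4513459b0000071115b415b31a818476a25a476e40811a15632d) (.leaf 0x21e94a0400003dee4be636d80eb705371639714c71d21c2cb7d9)) (.node (.leaf 0x74a138600001c4b3f2b3f2a06660551e93c57a42d013768a55a) (.leaf 0))) (.node (.node (.leaf 0xcee3ed1000010fa2cf71720083705d5fb27b3f5547308180335) (.leaf 0)) (.node (.leaf 0x46f331ba000029ef2b4a16231ab78474cb5784257637b6000333) (.leaf 0)))))) (.node (.node (.node (.node (.node (.leaf 0x212a971fef0001016104c904c8123284f3247e65f86af3227d9586) (.leaf 0xcd74512000130344f12498b083684f6931593b620b18e7b2734)) (.node (.leaf 0x19b10832000114fe06cd25ec0c558430c00b74d865d10e486124) (.leaf 0))) (.node (.node (.leaf 0x361d25ce00000aab1dc91f01162285b3bb73652a1d904a3332cb) (.leaf 0x7dd010c00004b994e525375067685b0175e579b19018a68a55a)) (.node (.leaf 0x277d064100002107449306af10a785b09411c0c46bb0bf262546) (.leaf 0)))) (.node (.node (.node (.leaf 0x4c704329000005e5127712761ca684166561a1917ee18a68a262)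 (.leaf 0x494633b000003abe52401ac21c4404d4fd0c614b6246b65fc7b2)) (.node (.leaf 0x3aa5147200011ac531a83d4116d204b1fe1683d62fb22618b149) (.leaf 0))) (.node (.node (.leaf 0x1524387d00010fad2a392a5a0aa304956767242516037b180333) (.leaf 0)) (.node (.leaf 0x1f3229c5000028183fe44a7e0e458454211996ae80571c486262) (.leaf 0))))) (.node (.node (.node (.node (.leaf 0x160f2c3e0001039a05e20bc70ac105f4557ab0062a33d92c7786) (.leaf 0x96c2e23000135282599361206a705947e23337653e78373470b)) (.node (.leaf 0x2b47315d000017d738f938f8124504f4c36393302c4777025586) (.leaf 0))) (.node (.node (.leaf 0x219a2c9200000d2124d419520eb185545e0662f25c425a78641d) (.leaf 0)) (.node (.leaf 0x1bbc2d9e000124760cf633c70cb285947176341044244b621262) (.leaf 0)))) (.node (.node (.node (.leaf 0xcf02e670000084018f018ef08378414833f066c6a42f3180333) (.leaf 0x147526cf0001419e4485425c0a8784b3d26bf3170180db7bd18b)) (.node (.leaf 0x18524aaa00011dce41161be10c268457235e627f21f137113124) (.leaf 0))) (.node (.node (.leaf 0x4d460c01000012562f9111bf1cc404d1220860fd5f261818b7b2)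 (.leaf 0)) (.node (.leaf 0x29180e4d00002c0049fc02d210e185116165b37f4746fe41d156) (.leaf 0))))))) (.node (.node (.node (.node (.node (.node (.leaf 0x14093e83000000d602f902f80a810535f20c77d10367147bd428) (.leaf 0x52a30a7f00012f1a4e374e941eb30470fc73f14c5c157d149049)) (.node (.leaf 0x77d138000011450333e323f066785b1e91221072be6352145be) (.leaf 0))) (.node (.node (.leaf 0x43be00a500010a0e030a1d861a5385d00d2d53617e711a15670b) (.leaf 0x8e050af0000487136491fee06970417bb6df80745d69c48618b)) (.node (.leaf 0x73c13850001202e3afc188206658591e93231662d0203295486) (.leaf 0)))) (.node (.node (.node (.leaf 0x416c05c30000055110cf10ce18e50590882c507a0a50480006de) (.leaf 0x4f9325b7000039513978251c1e518473b93fe08778a64f486124)) (.node (.leaf 0x3efd1e3900011a063a831be3187785b2f66404797780260005fc) (.leaf 0))) (.node (.node (.leaf 0x16450d2f00000f04290211750ac504b13f7c941258c72c70a2cb) (.leaf 0)) (.node (.leaf 0x1b29492d0000272649ce49cd0ca20536fc6834d83e256e70b124) (.leaf 0))))) (.node (.node (.node (.node (.leaf 0xfa61d900000030b0a100a0f08b304d2e001c1461e7417180335)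 (.leaf 0x441324c4000033e54dfc50721a618473a32d67e857c7b70006de)) (.node (.leaf 0x2df330490000171b37e037df12b78474ae50e23539438c12412d) (.leaf 0))) (.node (.node (.leaf 0x1c4a3d3500000c84237703cc0cc40555d823908177934a18b15f) (.leaf 0)) (.node (.leaf 0x67036d70001238b0c8a46ee064784154136f4236a4538537333) (.leaf 0)))) (.node (.node (.node (.leaf 0x5241110a000107a8175117501ea40431ac56a1dc5d404a3357b2) (.leaf 0x2562155a00013fc242554f6c10470452104c41e35b66b47bd546)) (.node (.leaf 0x26242e3900001d0a2e112b6310620494806093270f236b049518) (.leaf 0))) (.node (.node (.leaf 0x71906ce000111a22e4f2a1a06648530a178e73316d04a33328f) (.leaf 0)) (.node (.leaf 0x850502300002af246fd4c1606868417ad1f67d17fd71328f428) (.leaf 0)))))) (.node (.node (.node (.node (.node (.leaf 0x50b00da1000101ee069206911e728411520523cc0f129c335025) (.leaf 0x49f1db10001315a32bc1b4804d285f2e318c7d25e83b82ab149)) (.node (.leaf 0x27c5111000015ae35a735a604878597c50a574872869c48618b) (.leaf 0))) (.node (.node (.leaf 0x434547ea00010b47207e207d1a4504b6df6c84314d51785182cb)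 (.leaf 0x18c63f1200004fcb513536720c3604d60309c0da6d139268a262)) (.node (.leaf 0x440950d7000121db456018681a610537c05516a30e74015866de) (.leaf 0)))) (.node (.node (.node (.leaf 0x59f08e00000067b1414141304f285f0d70283ea0362f070b55a) (.leaf 0x1d9748cf00003c4e4e4a42320cf184f6f37c114f3102072957bd)) (.node (.leaf 0x3dc0060e00011b803e3118f0185504109053f52a02f14d156786) (.leaf 0))) (.node (.node (.leaf 0x233e3c010001105028ff2bb40ee285d5bb26d2f44d71233357bd) (.leaf 0)) (.node (.leaf 0x2248162d0000290422744b230ec405122464b5165596ba2ab7b2) (.leaf 0))))) (.node (.node (.node (.node (.leaf 0x537501680001042a0d7a0d791ec584b02148d4104ed236428262) (.leaf 0x367249730000366651474de016278457021fa5b123215414970b)) (.node (.leaf 0x520e182300011891095e3a101ea105d25920a2f27b8195214180) (.leaf 0))) (.node (.node (.leaf 0x217e394d00000dc2262426430ea785d5796451853310342cb049) (.leaf 0)) (.node (.leaf 0x2bb21ffa00012555485714df12538453255331944157187bd12d) (.leaf 0)))) (.node (.node (.node (.leaf 0x34ed3927000008d91a771a7614d705b5775857647d362f32d333)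 (.leaf 0x2a6d2bdd00014398538d3fc1122705b44e65239f1f82f318012d)) (.node (.leaf 0x33842fab00001e9e3c764205149204949f67a5ce17c1b15fc428) (.leaf 0))) (.node (.node (.leaf 0x6fb00b2000012fe30d000f0065785700e036425763664486333) (.leaf 0)) (.node (.leaf 0x25ba1a4600012cfc24cd4673105385528d37722d2e06b4025546) (.leaf 0)))))))))

/-- part of a table -/
def entries24 : Trie := (.node (.node (.node (.node (.node (.node (.node (.node (.leaf 0xa9f41120001000b0030002f06d285f6332066510e83b82ab149) (.leaf 0x2c204e0400002d7e24194dbe12620417782db5dc48a32e7d9518)) (.node (.leaf 0x231d2c940001135319d431790ee185b45e10d14f1c7265295025) (.leaf 0))) (.node (.node (.leaf 0x48bf3980000109241b3e1b3d1c3385f57e1a814c44f40d2cb7d9) (.leaf 0x5145034d000144c9373b1aaf1e8504b04e7931b908c4206de2c7)) (.node (.leaf 0x222c48fc00011eff308f2ed50ec20596f64992da1884502ab41d) (.leaf 0)))) (.node (.node (.node (.leaf 0x11fb507a0001047201470e5308f68577b86f71cf4dd30a7b2537) (.leaf 0x536e2ee10000373044c951731ec505d48e0787037c562632d262)) (.node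 (.leaf 0x15fd1602000018f13a983a970ab685b2202ce11e0210cb15f734) (.leaf 0))) (.node (.node (.leaf 0x3fe22d6900010e1126f226f1189704546e3e12ea56d5815182ab) (.leaf 0)) (.node (.leaf 0x103a35cf000125c93bf3446908c385552e6904f254975b2c7621) (.leaf 0))))) (.node (.node (.node (.node (.leaf 0x34049c4000102340778077704a604170f1216927092ad1132cb) (.leaf 0x49a333d6000032003c1a10fd1c530474ff3482b044c0ff55a7d9)) (.node (.leaf 0x38dc46e4000116073631363016748596c723b5252e563b70b24d) (.leaf 0))) (.node (.node (.leaf 0x79b29d600000b9b2140213f067485742238b7334994a833324d) (.leaf 0)) (.node (.leaf 0x13b605950000224711e815ef0a7584d0843dd65a5a15ed41d6de) (.leaf 0)))) (.node (.node (.node (.leaf 0x4b15071c000006c6106f14e81c8184b0a76812115415384862c7) (.leaf 0x2f920e5200003d104d92217412f18451620ce5ab0d65bc41d156)) (.node (.leaf 0x52774de000001be23eb23eb11ea684f77504d2e10ce287113124) (.leaf 0))) (.node (.node (.leaf 0x260f4da6000010a62c5c2c5b106105f7702c45c61c34de262156) (.leaf 0)) (.node (.leaf 0xdd40a1c000029774b720f3708768490f25cd25d37c6e915f537)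 (.leaf 0)))))) (.node (.node (.node (.node (.node (.leaf 0x1c813300000011d03e403e304760511de0fc5df1010c51136de) (.leaf 0x135e521f00012fac1263354f0a6685d7d876f6cf0e773a7b2537)) (.node (.leaf 0x43a6404d000014ac189f33e71a5304d61f7564f219367e15670b) (.leaf 0))) (.node (.node (.leaf 0x2e7292500000a5c087104fc049704f40e37d80745d34048618b) (.leaf 0x1f01973000049fe4d05514b047784127823328e3541cd7345be)) (.node (.leaf 0x27e232260001209231d9442a10b70454d541b39e2ff314124546) (.leaf 0)))) (.node (.node (.node (.leaf 0x485307c20000059c11a802d81c248470b720869973564d6217b2) (.leaf 0x46be0e4500003a034c924e9b1ab285d1613667ff12880412d214)) (.node (.leaf 0x265d3a7b00011a653cbe239c106585b59465b37f27837b41d518) (.leaf 0))) (.node (.node (.leaf 0x1fb83b3300000f5809f429a90e558515a42ca26e6a8538537262) (.leaf 0)) (.node (.leaf 0x17d431013090000279e13a227401a418411da55400648e268518786) (.leaf 0))))) (.node (.node (.node (.node (.leaf 0x1d872d7b000103530af10af00cf104f46f62e1ca36809f1497bd) (.leaf 0x335e1ac00000348248ed447b148685d29b00d2ef37d4a324d428))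 (.node (.leaf 0x11c318012e60000177b3868314d14510411d82307ff6324206de214) (.leaf 0))) (.node (.node (.leaf 0x419745b800010cd3242d242c18f284f6a55593a834865c546486) (.leaf 0)) (.node (.leaf 0x2d42044e000124010cbf462612a604506371f3303d230a15f000) (.leaf 0)))) (.node (.node (.node (.leaf 0x12405245000107f6182418230a260417df31f3b620b0cb7b2734) (.leaf 0x441d06e8000040b1474053411a6185b0a43a14956d913e5866de)) (.node (.leaf 0x17fe51a700011d6d35bd401f0af685d7ce2437114e76237b2537) (.leaf 0))) (.node (.node (.leaf 0x35ef3bd2000011fb1738033a14f605f5b81d679b44e4e168a6de) (.leaf 0)) (.node (.leaf 0x1a612a8a00012b7f2fd62f0c0c860434334ff43f2d537924d70a) (.leaf 0))))))) (.node (.node (.node (.node (.node (.node (.leaf 0x236a51b300000092021102100ee60557cf3c514f35a5c368a025) (.leaf 0x26a814da00012e9a11ca469810720512063b50b31d14d9049156)) (.node (.leaf 0x26331886000013ff32aa090010628472634550b3505322049518) (.leaf 0))) (.node (.node (.leaf 0x18243079000109c21cca1cc90c250494b25e418375d63521441d) (.leaf 0x1cf634ee000047332c9f51030cd784d51b6c729e72d6264287d9))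 (.node (.leaf 0x2411388900011fcf2fcd29b810228435683167087af30d7d9000) (.leaf 0)))) (.node (.node (.node (.leaf 0x4f72476700000509100310021e468456d33e307227169524d180) (.leaf 0x18d643100001389f2c834dcf0c3684d66304d2e165d287113124)) (.node (.leaf 0x332d06a2000019a73bae3bad148305b09c09027925369c53718b) (.leaf 0))) (.node (.node (.leaf 0x1b9248c900010eb2285128500cb18456f353d59b5b00342cb41d) (.leaf 0)) (.node (.leaf 0x34c927f4000126b232d7472114d40533f21685f703558f18b113) (.leaf 0))))) (.node (.node (.node (.node (.leaf 0x23b13e28000102c3093409330ef28435eb2322573e1543335025) (.leaf 0x52c54c6a0000334a503a1d0c1eb404b74e53e5163bf29c33315f)) (.node (.leaf 0x1a501c7b000116c6374b374a0c858412c568121136810e48670a) (.leaf 0))) (.node (.node (.leaf 0x53f14a9100010c3722c022bf1ed58437220920da03123632d262) (.leaf 0)) (.node (.leaf 0xc362e4b0001231f3c35468b082584d4816317bc12c78d124295) (.leaf 0)))) (.node (.node (.node (.leaf 0x3f9541380000076016891688189184b63853f75c3c214d156428) (.leaf 0x21a3340500013ed91c1024e10eb20475041612e1742338621262))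 (.node (.leaf 0x500645d600001cae3c1f3fb61e6104d6a72c11ca6464c52147bd) (.leaf 0))) (.node (.node (.leaf 0x3b783eb60000114f2da92da816e68515f631a1b819721868a55a) (.leaf 0)) (.node (.leaf 0x12382a1300012a691f984c1f0a2585142a13a3ce06674d124295) (.leaf 0)))))) (.node (.node (.node (.node (.node (.leaf 0x31533157000001a905b005af14448474c34580f03d42fa5be113) (.leaf 0x15860e7e000030ca4f5523710ab104d1657b83585b8677262295)) (.node (.leaf 0x1e4e1d3d00001550351135100e2605d2d56f526e5e13c768a262) (.leaf 0))) (.node (.node (.leaf 0x4053538e00010afc11401fc318a48478007125ac3c36b8546113) (.leaf 0x26742ede00014d8353df3e96106684948d7103272156e915f518)) (.node (.leaf 0x3c540c40000217844f844f704b604b62c0fc65666f0c51132cb) (.leaf 0)))) (.node (.node (.node (.leaf 0x3efa287a000106301345134418778553ff5e13ee29d1185865fc) (.leaf 0x17c8300900003b8c29834db10af40514aa46b5835874d97d924d)) (.node (.leaf 0x2412b1500011b24091b2dbf04860434411002ef32156024d428) (.leaf 0))) (.node (.node (.leaf 0x36af0487000110002b0a042b163305f06843605b3110b021470b)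 (.leaf 0)) (.node (.leaf 0x151a015e0000288f2d723f150aa185501f7b835868f314262149) (.leaf 0))))) (.node (.node (.node (.node (.leaf 0x36d0247b000103e2011c0ca0163684139c5c57fa2ae40a68a2cb) (.leaf 0x1e325681995000035c7510e510d104705127c2460c413b63c02512d)) (.node (.leaf 0x4efa0f1d0000183115cf39871e3585517353b1835ad03478641d) (.leaf 0))) (.node (.node (.leaf 0x449714bd00010d73259325921a7184f2047457a45a11470006de) (.leaf 0)) (.node (.leaf 0x17d353ff000124e73b5a3af70af48478097b96377204b17d924d) (.leaf 0)))) (.node (.node (.node (.leaf 0x5b93db80000088d19b819b704f38535e32fb28426b6287865be) (.leaf 0x43e119180000429e28ca53711a570432724212a625e14d51870b)) (.node (.leaf 0x14011f4700011e2e33bf41950a8104331644315a1b024b7bd428) (.leaf 0))) (.node (.node (.leaf 0x37b9398a000112a71fea303c165385357e4fd5a32c010e537335) (.leaf 0)) (.node (.leaf 0xb892c3000012c8544e63ff106f20534550a707a68723f70b55a) (.leaf 0)))))))) (.node (.node (.node (.node (.node (.node (.node (.leaf 0x471d390e0001004e012401231ae285b57277971170617a546486)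 (.leaf 0x1a53d21052100012e0f2acc2dec18430430741c74f219326815670b)) (.node (.leaf 0x1e51577000013a832221225047704b2152bc03d7731cd2145be) (.leaf 0))) (.node (.node (.leaf 0x1f21574000109761c0612a3047784521520a3ee29d0b02145fc) (.leaf 0x444d3a7c000045e5434052e91a6405b5946f41fd4061a454628f)) (.node (.leaf 0x21a03ec200011f6a42ea347a0eb20415f90a70113dc6b570b124) (.leaf 0)))) (.node (.node (.node (.leaf 0x1f9e48b8000104be03e80f2a0e5485d6f26691b747112a5fc15f) (.leaf 0x4acc46e7000137ee51253c7c1c750596c732314f1d3073295025)) (.node (.leaf 0x81d177f0000194b3b233b22068285b2497c32ef0ed03b5fc32d) (.leaf 0))) (.node (.node (.leaf 0x4bf173500000e5f27a0208d04d385f2432257dd26f059428333) (.leaf 0)) (.node (.leaf 0x5b637aa0001264949122f4904f384d5535777ac7f53472cb5be) (.leaf 0))))) (.node (.node (.node (.node (.leaf 0x3db74a830000027b08580018185384f7211405b10e147a518621) (.leaf 0x3d7a23a70000329c1fbd45ee18478553894d72a633a47a518621)) (.node (.leaf 0x1110b5150a90001166a36c20cf406e48437bb54b70545d23f62128f) (.leaf 0))) (.node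 (.node (.leaf 0x31921fe600010be503a421fd145184532438d3b66e04636de214) (.leaf 0)) (.node (.leaf 0x16414fd1b19000122b42dd42e9d0a9785b2a85d97982765060252ab) (.leaf 0)))) (.node (.node (.node (.leaf 0x4dcd1af500010711119315b51cd405b2a31526b75d057418b15f) (.leaf 0x12a73a2000003def4d0152d50a3504f58d07b1481a8677262295)) (.node (.leaf 0x4ea534c400011c4b32be3f2c1e3304b5192dd14c2cf43d2cb049) (.leaf 0))) (.node (.node (.leaf 0x3114531d000110fa2cdd2cf814418497f37064577a12b56de214) (.leaf 0)) (.node (.leaf 0x46532294000029f212c6220a1aa484736e3660f01627dc12d113) (.leaf 0)))))) (.node (.node (.node (.node (.node (.leaf 0x53844b6f0000016204cb04ca1ed20497367a60f96606ba18b180) (.leaf 0x33441943000030352a2b3b1314860492751002ef0b77fc24d32d)) (.node (.leaf 0x263812b5000014ff347711ee10628511d531675840965e7d9156) (.leaf 0))) (.node (.node (.leaf 0x4c8317f100010aab034d1f021cb104725515130f7f054a734180) (.leaf 0x33201f2d00004b9a41b44ffb148304131367950f1b37815372ab)) (.node (.leaf 0x49ec2cac000121083e2944941c5605945f5996dd3f33de24d180)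 (.leaf 0)))) (.node (.node (.node (.leaf 0xb630e61000105e5098c127806e50471631a87395f525a2cb537) (.leaf 0x2764304d00003ac05242524110a70494ae7ad39e2ff435124546)) (.node (.leaf 0x5181db300001ac62b5d3d4204e28512e325265a4fc6b570b6de) (.leaf 0))) (.node (.node (.leaf 0xae426e600010faf1a6e1cfe06d50493d72d045704462f32d214) (.leaf 0)) (.node (.leaf 0x3eae39bd00012818385f27cd187205d58467616647d1be546537) (.leaf 0))))) (.node (.node (.node (.node (.leaf 0x381342350000039b0bc90bc8166184764b2b216659a40d2cb486) (.leaf 0x2b61ceb00013529436650de049384d2cf66d8072d30826de18b)) (.node (.leaf 0x8845366000117d730c238fa06920497fb2c32285610e25fc428) (.leaf 0))) (.node (.node (.leaf 0x2949008700000d2224d624d510e505300b3f36d61574a2124156) (.leaf 0)) (.node (.leaf 0x82638780001247747b41783068304d5674bf4ef1b317f55a2ab) (.leaf 0)))) (.node (.node (.node (.leaf 0x3f8f528e0000084118f218f1189105f7e57914376cb20e51832d) (.leaf 0x522c07b7000041a4535f50011ea30590b636214c261265149049)) (.node (.leaf 0x21aa48fb00001dcf41170f620eb20556f64892e11886cd621262)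 (.leaf 0))) (.node (.node (.leaf 0x1d600f87000112562f922a920ce60411884942a04be18a113025) (.leaf 0)) (.node (.leaf 0x3963437500012c004cf51373168704766f25868b68834555a18b) (.leaf 0))))))) (.node (.node (.node (.node (.node (.node (.leaf 0x1f8e3101000100d602fb02fa0e5405d4be1100fd5592fa5be7b2) (.leaf 0x374b283600012f1b4e95479f16440573f82e25af5976c55fc68a)) (.node (.leaf 0x34eb0c35000014512b5a333f14d70571283ff3f1683390428333) (.leaf 0))) (.node (.node (.leaf 0x53902e7b00000a0f1d881d871ed284148462934c3c857418b180) (.leaf 0xf314e7e00004873500a14ce08a38437827965a350765341d335)) (.node (.leaf 0x17f806620000202f43c743c60af685109810947f66d0cb15f537) (.leaf 0)))) (.node (.node (.node (.leaf 0x1c6a000c00010551018b10d00cc70550015941854a058e32d7d9) (.leaf 0x1022650000139521810289204640453c61ba6ef6297fe33528f)) (.node (.leaf 0xc6a422300001a073c381240082705564a22042312530841d335) (.leaf 0))) (.node (.node (.leaf 0x4fea371e00010f04290429031e5605554874b1276944ea28f180) (.leaf 0)) (.node (.leaf 0x12b3fa4000127260e27233004650576102af22268c154295486)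 (.leaf 0))))) (.node (.node (.node (.node (.leaf 0x3431840001030b0a120a1104458494c73067ed1874646de214) (.leaf 0x156e46b2000033e650733b3d0aa605d6c20df57660118e15f734)) (.node (.leaf 0x36c7444b0000171c23582332163604f6815cf24806e39268a2cb) (.leaf 0))) (.node (.node (.leaf 0x25cd311e00000c8523792378105505b4bf7df6ee5ad5067bd586) (.leaf 0)) (.node (.leaf 0x2489037e0000238c46ef19b810320530517996ee3eb30d049000) (.leaf 0)))) (.node (.node (.node (.leaf 0x445b2e19000007a9175317521a6485747d37a76a1681be12d24d) (.leaf 0x462310ad00013fc8206653201aa20471a36f04eb47780412d214)) (.node (.leaf 0x1dd60f8a00001d0b403140300cf584d1884e429f3106ad2147bd) (.leaf 0))) (.node (.node (.leaf 0x105b4f3a000111a3157e2e5008c58577975262486052d92c7786) (.leaf 0)) (.node (.leaf 0x1fe94d1600002af3232525e10e570537624133a42de42055a7d9) (.leaf 0)))))) (.node (.node (.node (.node (.node (.leaf 0x46a71004000001ef069406931ab204f19610872564558b12d734) (.leaf 0x52c11b9c0000315b4f970fff1eb40432b36a26b71c25433337b2)) (.node (.leaf 0x424115a9000115ae35a809b41a240432194a00f70023f4546113)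 (.leaf 0))) (.node (.node (.leaf 0x731486300000b480666207f06658436e828647f60d202295537) (.leaf 0x12192a1500014fcc3fcd430c0a2485342a3bf5fa10b30d04968a)) (.node (.leaf 0x4baa03f6000121dc446823601c9205505a3bb2b47690c95be70a) (.leaf 0)))) (.node (.node (.node (.leaf 0x1e7822570001067b01e714150e2785136828600f55908a295049) (.leaf 0x3ac3538100003c56245e4fad16d40478000705af14234a2ab68a)) (.node (.leaf 0x7b5441100001b813e320fea067584b67c0636cf7e108a149486) (.leaf 0))) (.node (.node (.leaf 0x206e22d2000010512bb62bb50e8605d3722d319c1400d828f70a) (.leaf 0)) (.node (.leaf 0x75325a000029054b243cf8044784b4dc72a3f55de0ba486333) (.leaf 0))))) (.node (.node (.node (.node (.leaf 0x4125c94fa50000042b0d7b037310550537a314e35d7b872e7bd000) (.leaf 0x4064fe00001366816322ae404c204d7a811278f43634a18b149)) (.node (.leaf 0x141e2bf100001893355b22cb0a8185d4510f30050553d5025428) (.leaf 0))) (.node (.node (.leaf 0x26c6309100010dc204422644107504d4b602a3277ab5bc180156) (.leaf 0)) (.node (.leaf 0x1ef032020000255648580c0d0e378414d210f08932008a149049)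 (.leaf 0)))) (.node (.node (.node (.leaf 0xf7927be000108d91a78034a08a68533e97106806ca6e915f734) (.leaf 0x52f7220a00004399337252771eb684f3626c66a93e93c7113262)) (.node (.leaf 0x4c5a064b00011e9e2c1b42061ca48550946343877354b53337b2) (.leaf 0))) (.node (.node (.leaf 0x33043aa4000012ff30d12cd314820495973240054084765be32d) (.leaf 0)) (.node (.leaf 0x4063244b00012cfd10fc2b9d18a70473975700b41253bd586335) (.leaf 0)))))))))

/-- part of a table -/
def entries25 : Trie := (.node (.node (.node (.node (.node (.node (.node (.node (.leaf 0x38a23d660000000c0032003116720455db2662375522316216de) (.leaf 0x4de266100002d7f4c8c4dbf04d485d3c818c5730bb3b82ab68a)) (.node (.leaf 0x232007dc00001355317b317a0ee20410b85282f44f550a3357bd) (.leaf 0))) (.node (.node (.leaf 0x50b44fc2000109251b1618ed1e728497a62322573b74da3357bd) (.leaf 0xb010772000144cc3b530c9e06e20430ae09613c44d63b6216de)) (.node (.leaf 0x4e10388200001f0014e642841e228415681552e17af63b621124) (.leaf 0)))) (.node (.node (.node (.leaf 0x3a330656000004740dc90e5416c284709635414817503918b149)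 (.leaf 0xbc10bcf000037324ff5510606f404311b7d337466909770b24d)) (.node (.leaf 0x25d53190000118f1216627df105584b4c80d66aa27124b7bd586) (.leaf 0))) (.node (.node (.leaf 0x36fb0f1c00000e1226f426f316378571735312a6780207295621) (.leaf 0)) (.node (.leaf 0x4e265143000025ca48b405771e2304d7c810629e5e32472cb7d9) (.leaf 0))))) (.node (.node (.node (.node (.leaf 0x3ef6381a00000235077a0779187784d55e5da28e35447c5865be) (.leaf 0x293b2ea900013200139627b910e28574895c05030c7747049518)) (.node (.leaf 0x128b3ee100001608363336320a340575fd0565af1426ed04968a) (.leaf 0))) (.node (.node (.leaf 0x30b11ff500010b9b0d75214114338433252bd1a719a186734621) (.leaf 0)) (.node (.leaf 0x49b817ae0001224745bb139d1c5385124f79a3a444f05d55a7d9) (.leaf 0)))) (.node (.node (.node (.leaf 0x47481a0c000106c614e9129e1ae40512896f41fd03302754624d) (.leaf 0x33f84a2e00013d101a9e339a14978517197022cd6d54fa55a18b)) (.node (.leaf 0x5e542f000011be23eb43eb304f504b66000a07d7021ea786486) (.leaf 0))) (.node (.node (.leaf 0x1dfb4620000010a72c5d214e0cf68576b004d0ec0b9287113025)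 (.leaf 0)) (.node (.leaf 0x2b3d09bd000129774a7d4b73124385b0e96bf19475e60e7bd12d) (.leaf 0)))))) (.node (.node (.node (.node (.node (.leaf 0x3b0c45080000011e03e603e516e10596916057391bb073149537) (.leaf 0x1ec03b6a00012fad28c63a590e360415a849431901b0c5113124)) (.node (.leaf 0x35581447000014ad33e933e814e48511fa49f7052e204a33528f) (.leaf 0))) (.node (.node (.leaf 0x220d232000000a5d1e421e410ec105b37a0096a93420cc428124) (.leaf 0x32c4b2b00004a0528cd334504a305973066f3610e52d7149621)) (.node (.leaf 0x44f93f8d00002093116036751a7785360d4ce25f23d4015865be) (.leaf 0)))) (.node (.node (.node (.leaf 0x23040d6f0001059c11aa11a90ee10491447ca1ca5e0265149025) (.leaf 0x45142f800013a0550df3dc904c484366029d5ac7a06ba2ab68a)) (.node (.leaf 0x14315e400001a661a54307f046604721e19a4956d94e168a6de) (.leaf 0))) (.node (.node (.leaf 0x3eb40dab00010f580f8229aa187284915265777219b02712d537) (.leaf 0)) (.node (.leaf 0x4d8e359c0001279e4a2717fb1cd205d52b61107244074c2ab41d) (.leaf 0))))) (.node (.node (.node (.node (.leaf 0x131c3550000003540af200210a648595260107057a630d04924d)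 (.leaf 0x4fb2156d000134834fde50aa1e5384521277118542e58055a7d9)) (.node (.leaf 0x23230d640000177c3869017d0ee204714425e1ca35a2f9333025) (.leaf 0))) (.node (.node (.leaf 0x43ae048800000cd4242f242e1a5305d0684b705b0eb11a15670b) (.leaf 0)) (.node (.leaf 0x35c54de8000124032fd4294914f404b77556a6ef0af04a33528f) (.leaf 0)))) (.node (.node (.node (.leaf 0x41ce4bde000007f7170b182518f405d73f73c55d5871be54624d) (.leaf 0xcb70859000140b24e595046083584f0c745403e21b314262149)) (.node (.leaf 0x38da03e000011d6e0a0440a516748550580354b864b22c62124d) (.leaf 0))) (.node (.node (.leaf 0x6620cb9000011fc1fa52ef806470451353883f17d3664537333) (.leaf 0)) (.node (.leaf 0x2c3c16da00002b81449c4cb0126285923949364776b65e049156) (.leaf 0))))))) (.node (.node (.node (.node (.node (.node (.leaf 0x38e139760001009200260212167704357c2dd32800779c2cb5fc) (.leaf 0x15892c3500002e9b301141890ab10534554413ce2a3435124295)) (.node (.leaf 0x503a0b630000140032ab1a351e6285511221d2f4439234335025) (.leaf 0))) (.node (.node (.leaf 0x4df602fb000009c31ccc1ccb1cd584d0446c7410245390428124)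 (.leaf 0x471413cb0001473549ae53c51ae28491f16ec711793790546486)) (.node (.leaf 0x2ecf144100001fd043612b4512d505f1fa1de3302a851370a586) (.leaf 0)))) (.node (.node (.node (.leaf 0x2a7843900000050a1005100412278516710b53655c06fe41d546) (.leaf 0x1f6430732f1000038a23a1c4c331a4104f4ec1696564ab4a1156786)) (.node (.leaf 0x40411c82000119a708873baf18a40432c619f5500283f412d113) (.leaf 0))) (.node (.node (.leaf 0x4909374200000eb30d1f28521c4105354c0900115f06be537124) (.leaf 0)) (.node (.leaf 0x22d41a2f000026b3397537890ed484928b6291763aa45018b7b2) (.leaf 0))))) (.node (.node (.node (.node (.leaf 0x428e0375000002c4093609351a3205d0513037ed5317dc12d734) (.leaf 0x479a249e0000334c1b9b503b1af28553a07177e441358b12d486)) (.node (.leaf 0x491f2a9a000016c7256c374c1c4185f4345e71912a83ef537262) (.leaf 0))) (.node (.node (.leaf 0x3adc39f500000c3822c222c116d485958931c5fa54461d18b113) (.leaf 0)) (.node (.leaf 0x1c51419400002320369a03500cc48436401fb3875bb5742ab15f) (.leaf 0)))) (.node (.node (.node (.leaf 0x535a170300010760168b168a1ec485523c23d1b75b661818b7b2)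 (.leaf 0x12a3091300003eda33ac053f0a350470dd0e30192962df262149)) (.node (.leaf 0xe351cd200001caf1a413fb7088384b2ce0dd68b6db0db02518b) (.leaf 0))) (.node (.node (.leaf 0x6742436000011502daa08b1064784939639c4871fe6be537335) (.leaf 0)) (.node (.leaf 0x1c7c3d5800012a6a35774c200cc78595da3930830b8236428049) (.leaf 0)))))) (.node (.node (.node (.node (.node (.leaf 0x900536d000101a905b205b106a20417fb7765715b870d335786) (.leaf 0x1fb108ff000130ca28563feb0e558430d97c626e52469c537262)) (.node (.leaf 0x3885409800011550347b0b5d167104b62939777248d21c2cb537) (.leaf 0))) (.node (.node (.leaf 0x23ae1e6900010afd1fc41ebd0ef205d2fc5ec1cb3ab4b5335025) (.leaf 0x1dbc1d8d00014d87530e25040cf28592de7361e671529c333025)) (.node (.leaf 0x487b28320001217828df21401c258573f81923013f31c8786180) (.leaf 0)))) (.node (.node (.node (.leaf 0xc6d4fb50000063113471346082705b7a53f066c7846fe180335) (.leaf 0x30cf1aa000003b8d51eb04b0143605f2990372c20e83c768a786)) (.node (.leaf 0x1806479f00001b252e9118a00c2404d6d75904ca72d2503357b2) (.leaf 0)))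 (.node (.node (.leaf 0x2f650078000110010508163e12e604b00a3ca3417692947b2156) (.leaf 0)) (.node (.leaf 0x16f30768000028904ad50ec80ad78470ad6462a67802d970a621) (.leaf 0))))) (.node (.node (.node (.node (.leaf 0x15944b51000003e30ca20ca10ab18497351f07d21ac74d262295) (.leaf 0x309625b3000035c8379c510f143284d3b928143173f1a2335786)) (.node (.leaf 0x119e08ef000118313989398808f185d0d77f63ea37d5bc41d55a) (.leaf 0))) (.node (.node (.leaf 0x2f8035e900000d742595259412f104153040e5dc72941441d518) (.leaf 0)) (.node (.leaf 0x36d7305a000124e80d2810f7163684f4af6c67f220a2871132cb) (.leaf 0)))) (.node (.node (.node (.leaf 0x127c32b20001088d19ba19b90a278594e53077dd25241441d335) (.leaf 0xa9219f90001429e2e533ab906d284528858408b2936182ab295)) (.node (.leaf 0x14a2181489400001e2f2dbe41960eb10436ec24412739543d2cb41d) (.leaf 0))) (.node (.node (.leaf 0x38861927000112a824e20bf6167104d2732f54b30e640d786486) (.leaf 0)) (.node (.leaf 0x2636423d00002c861ef5182a106284d64b5c050326c4b1049156) (.leaf 0)))))))) (.node (.node (.node (.node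 (.node (.node (.node (.leaf 0x1aa318320000004f012601250c9204725b1102804d26c55be70a) (.leaf 0x4cb530c800002e104b994df31cb384b4ba46d29e75e203149049)) (.node (.leaf 0x3c39116e000113a80651310c18238531b351b4252c0164000335) (.leaf 0))) (.node (.node (.leaf 0x346528930000097719a81c0714c704b4020fe66c7840de428335) (.leaf 0x3dac2a78000045e736c94a56185305943253f5ea61a14d15670b)) (.node (.leaf 0x241b081a00001f6b42ec42eb10228570bd5c060b4ed747049586) (.leaf 0)))) (.node (.node (.node (.leaf 0x2ef21bfa000004bf0f2c0f2b12d78452bc6462eb3942d970a12d) (.leaf 0x24cc0f16000137f13cff3422103605917333c3345ad3c17b2586)) (.node (.leaf 0x188b32330001194b0863382e0c340574d70bb5166ec12333315f) (.leaf 0))) (.node (.node (.leaf 0x125a35b100010e5f27a108af0a2685552d18d5152a14987b2734) (.leaf 0)) (.node (.leaf 0x1cda4a360000264a1b5a44b80cd485571a26414a5dd2982ab7b2) (.leaf 0))))) (.node (.node (.node (.node (.leaf 0x3a3c14f80001027b085a085916c28592094807b40fa4502ab149) (.leaf 0x1c5645400000329e17c943fb0cc484d69d0656994b034a18b15f))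 (.node (.leaf 0x3d531a3d0001166b079a36c3184584728c76c7fa2bc4a1518786) (.leaf 0))) (.node (.node (.leaf 0x403f10e900000be6055e21fe18a285f1a94f35765f158b546734) (.leaf 0)) (.node (.leaf 0x3c203b54000022b5455a462918230415a62c54235e6048000333) (.leaf 0)))) (.node (.node (.node (.leaf 0x38d03ad400000712135915b6167484159a19671b0077f970b28f) (.leaf 0x4f982c8400013def4e0f33711e5185145d0716a97c569c537262)) (.node (.leaf 0x20ef393f00001c4e3f2d32000e9605f5787f527d4707d628f2c7) (.leaf 0))) (.node (.node (.leaf 0x450016a9000010fb2cf916d71a810412324d20c101a268518428) (.leaf 0)) (.node (.leaf 0x10c707a6000129f24bd21bdd08d504f0b54225717191cc70a786) (.leaf 0)))))) (.node (.node (.node (.node (.node (.leaf 0x3bff0d9600010162006004cc16f685f1514273d06825c31136de) (.leaf 0x2c8441790000303633fa2f6b127104963e4416121d3435124156)) (.node (.leaf 0x4525493c000114ff347814cf1a8304b6fd5542797c226851818b) (.leaf 0))) (.node (.node (.leaf 0x493350f800000aac157b1f031c438477c225838433c34555a049) (.leaf 0x6eb51fa00014ba252c3528f06570577d54ee4233c3227537335))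 (.node (.leaf 0x3f152e700000210944964495188184b4840c07d156b12b15632d) (.leaf 0)))) (.node (.node (.node (.leaf 0x205d4c75000005e6127a12790e8585b74f4af43f3367815372c7) (.leaf 0x1a6053cc00003ac1520744ec0c8604180561f2a23685cb24d70a)) (.node (.leaf 0x471b3a3200001ac73d443d431ae285759037a07e77b1e412d486) (.leaf 0))) (.node (.node (.leaf 0xe59539400000fb02a5c2a5b08858538010dd0c166d0db025428) (.leaf 0)) (.node (.leaf 0x2c85192d0000281a43a846d8127104b2736b93417510bf124156) (.leaf 0))))) (.node (.node (.node (.node (.leaf 0x1c76419a0000039c0bcb0bca0cc784d64047d09d17058e32d7d9) (.leaf 0x188208340000352b50da4f410c340450c02c85165042f933315f)) (.node (.leaf 0x4a3d06e2000017d838fc38fb1c6285b0a40523cc70124e3357bd) (.leaf 0))) (.node (.node (.leaf 0x26b269100010d2224d7244b04870573cd19e4ef6a634048618b) (.leaf 0)) (.node (.leaf 0x16e433e116b0000247847b547981a4385d1b34be1a70b67e9156621) (.leaf 0)))) (.node (.node (.node (.leaf 0x4d51491e0001084118f418f31cc48436fb77816c57a5b72ab15f) (.leaf 0x32e43090000041a84e664aee14770494b60152e950043d7865be))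 (.node (.leaf 0x51ce151700001dd0136637521e9505d20b5956986394186de2c7) (.leaf 0))) (.node (.node (.leaf 0xe625892166000012572f5e23c9105105335239b3003dd0db7bd000) (.leaf 0)) (.node (.leaf 0x48911f800012c012ad646e504d20531c23491480946ba18b295) (.leaf 0))))))) (.node (.node (.node (.node (.node (.node (.leaf 0x355b1a63000000d702fd02fc14e48572922165253244b533324d) (.leaf 0x543d4800002f1d4a9111f404468495d956c3ce2961ab28f149)) (.node (.leaf 0xf7f01e900011451068f334008a685f02c59f3b62af5a77b2734) (.leaf 0))) (.node (.node (.leaf 0x35fa09a500010a0f1d8900b314f68550e83117e84fd3c71136de) (.leaf 0x486b32d10000487b380c201e1c250574e70662f216325a78641d)) (.node (.leaf 0x15748011e0f000120301133407b1c220432ed7d30116af07570b124) (.leaf 0)))) (.node (.node (.node (.leaf 0xd4f50140000055210d210d1086605f7ab1c507e6c72f115f537) (.leaf 0x3c2f3fc700003953228a4c6d182305f61439566c3557e2586333)) (.node (.leaf 0x12f31004ad900011a073c390fcf14410417284c835333f2b555a214) (.leaf 0))) (.node (.node (.leaf 0x4d4d05c400010f05290629051cc405b0882e51dc06c61d2ab15f)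 (.leaf 0)) (.node (.leaf 0x1bec45e20001272849c449cf0cb70596a800a0c85eb21c7867d9) (.leaf 0))))) (.node (.node (.node (.node (.leaf 0x3b4b47160000030c0a140a1316e40576ca3a066672f12333328f) (.leaf 0xe141d54000133e75075507408818492db24600558217902532d)) (.node (.leaf 0x4f8b47860000171d232f37e11e510576d54ee01170f227537262) (.leaf 0))) (.node (.node (.leaf 0x21f530900010c8503d7237a048285f7f14587d137d6c55be428) (.leaf 0)) (.node (.leaf 0x230d4fdb0000238d19b3150f0ee105b7a76051ca0c0073149025) (.leaf 0)))) (.node (.node (.node (.leaf 0x10af0928000107a91755175408d305f0df6b277c5422d970a621) (.leaf 0x17d10d2700013fcd4fcc3f650af484313f61e52505732e04928f)) (.node (.leaf 0x47d13f3f00011d0d20b339331af48436057794b81f93f454628f) (.leaf 0))) (.node (.node (.leaf 0x386c0aad000011a42e51271216670591016675211291ea7865fc) (.leaf 0)) (.node (.leaf 0x44430a8800002af525ee44da1a640470fe5bb3562be0a912d28f) (.leaf 0)))))) (.node (.node (.node (.node (.node (.leaf 0x2ede4105000101ef0696069512d585d63226c31202a76170a586) (.leaf 0x3491262b0001315c32904f9814d18433c359a3b620b3cb32d734))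 (.node (.leaf 0x1f1321c8000015af35aa35a90e4484735b3523871432fa5be7b2) (.leaf 0))) (.node (.node (.leaf 0x24a9298400010b4820812080103305341a0d31e352e1ec26212d) (.leaf 0x34f1007600004fd53d49417514d784300a2d016e20862f32d333)) (.node (.leaf 0x39cd1c47000021dd20554561169605b2c15a67545617f824d428) (.leaf 0)))) (.node (.node (.node (.leaf 0x4c6903250000067c0df014161ca605304c40b410765497113124) (.leaf 0x1cf73fe200003c57244d52970cd784f6161c638436648c4287d9)) (.node (.leaf 0x1d654bf300011b8229ba3e330ce604b7422fd2570d92ad1137bd) (.leaf 0))) (.node (.node (.leaf 0x4dd405a4000010522bb700c91cd48490852736997996ba18b7b2) (.leaf 0)) (.node (.leaf 0x391a4b8f000029064b25433616828557387ec0c128a0435be32d) (.leaf 0))))) (.node (.node (.node (.node (.leaf 0x21b291f0001042b0d7d0d7c048285740c7ec0c17c60435be32d) (.leaf 0x2c93211b0000366a493d4e93127184734950e34175138c124156)) (.node (.leaf 0x198813db000118933a123a110c540511f25681dc71705e5fc7b2) (.leaf 0))) (.node (.node (.leaf 0x2c142a3900000dc308b02645126184942c46862767c0bf124156)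 (.leaf 0)) (.node (.leaf 0x2968008c000025574570485910e605100b75e6d64293867b2156) (.leaf 0)))) (.node (.node (.node (.leaf 0x256a2343000008da1a790063104705537d1ce5566082e47bd546) (.leaf 0x93085a0000439b538e08be04548470c761c5d36830135fc113)) (.node (.leaf 0x44400fd900001e9f420724df1a640411903696661843e654624d) (.leaf 0))) (.node (.node (.leaf 0x4c4a05ce000112ff30d330d21ca40550887381dc5d02f933515f) (.leaf 0)) (.node (.leaf 0x387b2e1700012cff2ca54a37166785747d2691075db3472cb5be) (.leaf 0)))))))))

/-- part of a table -/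
def entries26 : Trie := (.node (.node (.node (.node (.node (.node (.node (.node (.leaf 0x52bd033c0001000c003400331eb385b04d6b10c831f0c21497d9) (.leaf 0x365533bb00012d7f48844dc0162684b4fd54e4120530c568a2cb)) (.node (.leaf 0x7e3059600011355317c1270067704708443603d7731952145be) (.leaf 0))) (.node (.node (.leaf 0x46a31476000009261b401b3f1ab20471fe3037ed00a80412d214) (.leaf 0x2e6013e9000144d1214a497012c70411f351c2eb57a14570a546)) (.node (.leaf 0x2cc84c3f00001f0129240257127505174978a5ab45b27041d518) (.leaf 0)))) (.node (.node (.node (.leaf 0x3e1a0b6c000004750e560e55186185511271a65a1987b658655a) (.leaf 0x36fa072d000137322a1c45a116378550a86ca3ed59757d295621)) (.node (.leaf 0x18202632000018f23a9a3a990c250413c437e34c6d1750214180) (.leaf 0))) (.node (.node (.leaf 0xf9f08ee00010e121d3326f508b185f0d77aa08b5582df262149) (.leaf 0)) (.node (.leaf 0x1760e022f21000025cc31b148b5088104549322e7d112e7777bd32d) (.leaf 0))))) (.node (.node (.node (.node (.leaf 0xa353ca200010235077c077b06c384b5cd1900b456543b428335) (.leaf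 0xcaa2a09000032014fd24fd108350554296317bc4772df124149)) (.node (.leaf 0x5ed0ee2000016090a1a050b04f505b16f1877e4229283786486) (.leaf 0))) (.node (.node (.leaf 0x1ee246c500000b9c214321420e370456c433f29e35e57d149049) (.leaf 0)) (.node (.leaf 0x29542841000022483cd101fb10e58493f911c5c66931ec262518) (.leaf 0)))) (.node (.node (.node (.leaf 0x375638bd000006c714eb14ea164484d56b6d50f056f12a5be68a) (.leaf 0x4d39137600003d11514252b21cc38531e739308334b43b4287d9)) (.node (.leaf 0x1bc41c7100011be31a121f7a0cb40492c509651614463b62115f) (.leaf 0))) (.node (.node (.leaf 0x38704940000110a72c5f2c5e16678416ff00a2e918c1ea7865fc) (.leaf 0)) (.node (.leaf 0x1e7e1f070000297835904adf0e2785d31052c089367207149049) (.leaf 0)))))) (.node (.node (.node (.node (.node (.leaf 0x2de544e90001011e03e7005912b704b68f4686894885c712412d) (.leaf 0x32a80f6400002fae4ed30332147205118436c7a45946b56216de)) (.node (.leaf 0x96b22c0000114ad33eb33ea06a70573710947666e654a21470b) (.leaf 0))) (.node (.node (.leaf 0x4b7f308a00000a5e1e441e431c8685f4b43e33fa3774a324d70a)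 (.leaf 0x38950c4800014a0c450f24b6167184b12932947f6ff1ea2cb486)) (.node (.leaf 0x21a10d6100002094442c442b0eb204314417e31b01b63b70b124) (.leaf 0)))) (.node (.node (.node (.leaf 0x371a25c30000059d11ac11ab16418553bb2e83b34d35806de734) (.leaf 0x1e94488000003a064fab310a0e348496eb05269914324e3357b2)) (.node (.leaf 0x482d18c600011a663cbf14461c2305b26b35c1f76d46282cb7d9) (.leaf 0))) (.node (.node (.leaf 0x128613a200000f5929ac29ab0a3404d1ed13b01e2974b1049113) (.leaf 0)) (.node (.leaf 0x71c2c780000279f47673c66066485945b33a6375e950a33324d) (.leaf 0))))) (.node (.node (.node (.node (.leaf 0x3da033d70001035405dc0af318530414ff36376642712b156621) (.leaf 0x4a66526b0001348632103dfd1c6604d7e15cf3d36b239268a025)) (.node (.leaf 0x7e033230001177c386b386a06770414f02930f40077837345fc) (.leaf 0))) (.node (.node (.leaf 0x3ab5446b00010cd42431243016d284b6835db03e39d57418b295) (.leaf 0)) (.node (.leaf 0x42da072700002404475f475e1a348550a837a57303c1be12d113) (.leaf 0)))) (.node (.node (.node (.leaf 0x107a4f74000107f71827182608c785579e1e936173d2d92c7621)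 (.leaf 0x450d412a000040b61dea10e11a8105b6343812ef23817851832d)) (.node (.leaf 0x15be3b0200001d6f40a611b40ab385d59f0ce5f44ad41741d335) (.leaf 0))) (.node (.node (.leaf 0x24a1256d000011fe2ef9088810330433af6e755675a74d26212d) (.leaf 0)) (.node (.leaf 0x1d5f38fd00002b824cb24cb10ce585f5705642a07520b0214025) (.leaf 0))))))) (.node (.node (.node (.node (.node (.node (.leaf 0x3b2187b000000930214021304b384526163237612154529570b) (.leaf 0x1fbe4d1500012e9b4e5149850e5585d7623fe0875e1227486262)) (.node (.leaf 0x35a0115800011400246f2dc314f30411b22bc03d1057502145fc) (.leaf 0))) (.node (.node (.leaf 0x10ab4cfd000009c419131ccd08d305775f7941a72174d670a70b) (.leaf 0xe121e9a000047375384510508818452ff52376e1bf7777bd32d)) (.node (.leaf 0x3c43497900001fd24363436218240477023a20f72321e454668a) (.leaf 0)))) (.node (.node (.node (.leaf 0x1a8e334a0001050a1006015c0c9105d4f33212412b834555a2c7) (.leaf 0x538818e4000138a225c12c921ed205126d3493010e061d18b41d)) (.node (.leaf 0x12c2f10227d000019a820d93bb012e184136c78a5ab2a927041d518)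 (.leaf 0))) (.node (.node (.leaf 0x4105132300010eb32854285318e204b1dd19f47f51129112d486) (.leaf 0)) (.node (.leaf 0x46801007000026b44970496f1ab10411962b914812c7b5586295) (.leaf 0))))) (.node (.node (.node (.node (.leaf 0x2e972e76000102c40938093712d184f4844093307aa1cc70a586) (.leaf 0x28f211d60001334c3fbe234510d78451c048a6553bf76170a546)) (.node (.leaf 0x47020384000116c70776374d1ae20450523037397d780412d537) (.leaf 0))) (.node (.node (.leaf 0x3de288300010c3822c422c304b685d40019352a620613113786) (.leaf 0)) (.node (.leaf 0x15f93b7a000023214070468c0ab68535aa2cf06433d29415f214) (.leaf 0)))) (.node (.node (.node (.leaf 0x32c608bf00000761168c15e3147404d0d47b01fd77022170b24d) (.leaf 0x5013d2000003edc2141526004e20435d70381b838309770b55a)) (.node (.leaf 0x5252235400001cb0182f3fb81ea484537e26d16c2ff4a83357b2) (.leaf 0))) (.node (.node (.leaf 0x3c88037b000111502dac2dab18320510515ee7ff1a129112d214) (.leaf 0)) (.node (.leaf 0x2ca939b700002a7042594c2112720535843590f56903b17d9518) (.leaf 0)))))) (.node (.node (.node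 (.node (.node (.leaf 0x443a06ee000001aa05b405b31a628550a46f607d4b61e412d486) (.leaf 0x43b4525c000030cc450d37351a538497e063f60231312b518621)) (.node (.leaf 0x106000031850000155135121ffc04440414c732401e49a5b25be113) (.leaf 0))) (.node (.node (.leaf 0xf053d2c00000afe1fc61fc508a104b5d77ad3ba293435124295) (.leaf 0x34080c2600004d8853f62f1614c10511264727ff10646c428214)) (.node (.leaf 0x1f2930a100002179250a44c10e450534b70a50875e169c486262) (.leaf 0)))) (.node (.node (.node (.leaf 0x396a3f450000063213491348168705560645f68b7204cc55a18b) (.leaf 0x1b1924b700013b8d4c2105eb0ca18533a248b78874521c2cb41d)) (.node (.leaf 0x4a08217500011b25321e1b091c6105135437e01243c1cd214025) (.leaf 0))) (.node (.node (.leaf 0x15da22ce000110022b0c2b0b0ab485537177e5d36a54f47d9113) (.leaf 0)) (.node (.leaf 0x46813667000128913eff4ad61ab104353a3a145c3f27ae586295) (.leaf 0))))) (.node (.node (.node (.node (.leaf 0x19b23d9a000103e30ca303970c558455e05d631b4ce66e537262) (.leaf 0x3da634cc000035ca16ad06a0185304d5196ac37606f7e9518621)) (.node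 (.leaf 0x1c00f5b00001833398a014404760411816da65a1b603f1136de) (.leaf 0))) (.node (.node (.leaf 0x39fb4cad00010d741c392596169785775378738a80217f55a2ab) (.leaf 0)) (.node (.leaf 0x2422a28000124ea247c4167048604542b41a0054c30cf28f32d) (.leaf 0)))) (.node (.node (.node (.leaf 0x37b415460000088e19bb005f165384920f2ca146080538537333) (.leaf 0x111625db0000429f33e74e6c08e184d3bc5f07a41991321806de)) (.node (.leaf 0x1f6e1d3700001e3241971c960e4705d2d546a3a42de58055a7d9) (.leaf 0))) (.node (.node (.leaf 0x4b1151dd000012a90678303d1c818437d36542f84f16f848670a) (.leaf 0)) (.node (.leaf 0x452b303700012c86238f12f11a830574ad2b831761b4a115618b) (.leaf 0)))))))) (.node (.node (.node (.node (.node (.node (.node (.leaf 0x11115ed0001004f01280127046484321e4c04b81ff04a33528f) (.leaf 0x2781312800012e114e09269610b20434c048860b0e33b1049000)) (.node (.leaf 0x2e012faf000013a90730108e12c104349f7c975722f61970a586) (.leaf 0))) (.node (.node (.leaf 0xf6151ea00010977104217d808a60437d44f92d273f2947b2214) (.leaf 0x20952550000145e94077491d0e9184b3ae05469835a2b56de70a))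 (.node (.leaf 0x4d9102bb00001f6c323401c51cd284303c5db10441b57418b180) (.leaf 0)))) (.node (.node (.node (.leaf 0x34d27cd000004c00f2e0f2d04a605b3eb6fd0c36e01a0113786) (.leaf 0x315715a2000037f32864408b144484f2190335a97cb0435be68a)) (.node (.leaf 0x177e168f0001194c3b253b240ae685d22f75a22245f6237b2537) (.leaf 0))) (.node (.node (.leaf 0x47554deb00000e601b6527a21ae484b7755f94b83b93e654624d) (.leaf 0)) (.node (.leaf 0x461e16650000264b491312641aa185d22b2243d622a118000295) (.leaf 0))))) (.node (.node (.node (.node (.leaf 0x5802ad90000027c0174085b04f204143a5446a349263b6216de) (.leaf 0x2d25290d000032a148e12e8c12a304b40b67263606037b18012d)) (.node (.leaf 0x46e10f2b0001166c36c428361ab704317566148744a048586333) (.leaf 0))) (.node (.node (.leaf 0x2e4602fd00010be61c150ba312c504d0447415f86af7612c7586) (.leaf 0)) (.node (.leaf 0x1f70418f000122b64190462a0e4784163f7d700f32024055a049) (.leaf 0)))) (.node (.node (.node (.leaf 0x18c0124a0000071315b815b70c360411c74755a22d6218113262) (.leaf 0x39f2321500013df04d0b05b616978454d332138a57558055a2ab))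 (.node (.leaf 0x38d4102c00011c4e20ac1779167484919853073350044b70b24d) (.leaf 0))) (.node (.node (.leaf 0x2f30065c000010fc2cfb2cfa12e28410965d76474c436b049518) (.leaf 0)) (.node (.leaf 0x53ae12cc000029f4454d33a51ed305d1d651a29e6300594287d9) (.leaf 0)))))) (.node (.node (.node (.node (.node (.leaf 0x2df70c0f0000016304ce04cd12b784f12279e39f5f266a124546) (.leaf 0x39bf3cd9000130364f153eec169385f5d13fe80743222748618b)) (.node (.leaf 0x93d0df6000015003479342506a385b15932337640b20329570b) (.leaf 0))) (.node (.node (.leaf 0x2f2a2f0300010aac1bbc0b6912e205549105634141136a049156) (.leaf 0x347a046c00004ba34e7048ba14c78550666223f515505932d333)) (.node (.leaf 0x385637900000210a449742df166484d55205a52507023170b28f) (.leaf 0)))) (.node (.node (.node (.leaf 0x3ec11cf5000105e601b8127b18740432d04f835677017a12d24d) (.leaf 0x324a2e1c00013ac1460839b3146405547d54776d40675562128f)) (.node (.leaf 0x28e3235d00011ac716d8309410d704737e6b25562ff51370a546) (.leaf 0))) (.node (.node (.leaf 0x4f4647e600010fb00b242a5d1e4404d6df2e24ca4476b65fc7b2)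 (.leaf 0)) (.node (.leaf 0x39be137d0001281a410a4a7f169385d1e76717982d171c48618b) (.leaf 0))))) (.node (.node (.node (.node (.leaf 0x2c6f11820001039c0bcd0bcc126605f1b60df10c01718e15f518) (.leaf 0x40ef10d00000352c478d2e0318b705f1a801b5f4547147586335)) (.node (.leaf 0x1aee354d000017d91a1638fd0c9605d52458a6980040cf28f2c7) (.leaf 0))) (.node (.node (.leaf 0x4afd453700000d2324d924d81c7685b69631a14f2ec21868a025) (.leaf 0)) (.node (.leaf 0x25321e43000024793f4b47b610438452f722e55631f7777bd546) (.leaf 0)))) (.node (.node (.node (.leaf 0x1d0a204d0000084218f5005b0ce10553316063d36c457d2957bd) (.leaf 0x786332d000041aa4f660bcb067404d4f07381fd3541a233524d)) (.node (.leaf 0x17db2d2900011dd04118349a0af485746945971b2c34f47d924d) (.leaf 0))) (.node (.node (.leaf 0x331338a10001125705da2f93148284756a15815a79a6b65be32d) (.leaf 0)) (.node (.leaf 0x773420700002c0216ec4cf6066784764836407c59354a7345be) (.leaf 0))))))) (.node (.node (.node (.node (.node (.node (.leaf 0x96851a9000100d7003902fe06a70517ce31d5ea7385ae734621) (.leaf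 0x25c4f7e00002f1e26fa0321048685979e7e015a6d337928f32d)) (.node (.leaf 0x62d455e0000145208213341064505b69e7b157639105d6de214) (.leaf 0))) (.node (.node (.leaf 0x2665379700000a101d8a0274106604b55241537f18155c7b2518) (.leaf 0x2a24052f0000487d526b086b12230490746602eb7101ec26212d)) (.node (.leaf 0x279336ab000020313c2d26d610b284753e62460b660322049586) (.leaf 0)))) (.node (.node (.node (.leaf 0x252747c40001055210d410d3104304f6db1ce55676f3b07bd12d) (.leaf 0x3ceb2afc0000395547a851f5183505743e6b00192b347c586149)) (.node (.leaf 0x196197500001a083c3a35d3047484d27828176a0072f933528f) (.leaf 0))) (.node (.node (.leaf 0x11191db600010f062908290708e18532e33d265a19e37b41d6de) (.leaf 0)) (.node (.leaf 0x8f726ad000027293dec49b5069784f3cf68742605134048618b) (.leaf 0))))) (.node (.node (.node (.node (.leaf 0x9e816830001030c0a160a1506b705122f1c05083a063573470b) (.leaf 0x4f3e0ad6000133e850760e291e4385d1053a64d47304636de049)) (.node (.leaf 0x4cbf29f50000171e34d0309f1cb385f42724a08367309f2957d9) (.leaf 0))) (.node (.node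 (.leaf 0x4e410c6400000c86237c237b1e2404312e1506b74477f96217b2) (.leaf 0)) (.node (.leaf 0x17151520000238f3ae33a4704678437c91ac5e22067837345fc) (.leaf 0)))) (.node (.node (.node (.leaf 0x1b1421e5000007aa0c1207390ca184935e4020f96581ea2cb180) (.leaf 0xa2e207000003fcf53214fa506c305d3370783e40eb62632d335)) (.node (.leaf 0x37ce24e100001d0e40334032165405d3a611042d6912fa5be113) (.leaf 0))) (.node (.node (.leaf 0x15a92078000111a42e312e520ab305333762c42335527a41d333) (.leaf 0)) (.node (.leaf 0x16a6339100012af50ff64c5d0ad304d4f918974422330470a70b) (.leaf 0)))))) (.node (.node (.node (.node (.node (.leaf 0x88104cd000001f006970012069204306c72075c2994045fc32d) (.leaf 0x1c50e0c529a0000315d29d71cc008810597e64e92ef0b760e02532d)) (.node (.leaf 0x4aad0619000115af35ab0a211c7205b09156a14f11670d335025) (.leaf 0))) (.node (.node (.leaf 0x2f552b4b00000b492083208212e584b4445ad61258d4a2124156) (.leaf 0x5334005200014fde348353ef1ec38490081900893ca43b4287d9)) (.node (.leaf 0x21da0db0000121dd212a427b0eb485515303517635e22c6217b2)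 (.leaf 0)))) (.node (.node (.node (.leaf 0x56b01dc0001067c13ed141704e505702b53b6cf3c240d786486) (.leaf 0x2c7e049400013c571a235298126685d0692433414226237b2518)) (.node (.leaf 0xffb269900001b8330343e3408b68573cd5c97ed24c2f17b2214) (.leaf 0))) (.node (.node (.leaf 0x237342a9000110521b700c490ee68476581e71ca0c05c3113025) (.leaf 0)) (.node (.leaf 0x4cc434ba000129060f054b261cb40495176424ca1654da33515f) (.leaf 0))))) (.node (.node (.node (.node (.leaf 0x35701c0e0000042c0d060d7e14e68412bd5c57a419903f68a6de) (.leaf 0x33b932940001366a5149514814938534e328c7982d16f848618b)) (.node (.leaf 0x3bdd1ab5000018943a1339d616f485b29a25576a67a50a33524d) (.leaf 0))) (.node (.node (.leaf 0x1d71080900000dc409b326460ce68430bc5c538076203f68a025) (.leaf 0)) (.node (.leaf 0x3f4465400002558216d485a04b78496b92bd1a76c95b473470b) (.leaf 0)))) (.node (.node (.node (.leaf 0x1a2c2248000108da0f681a7a0c820593673b91b97151b15be2c7) (.leaf 0xa29122f0000439f4eb950ea06c30531c56ff14653443b428335)) (.node (.leaf 0xc8a2dc500001ea042083131083405547446655019634d7d968a)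 (.leaf 0))) (.node (.node (.leaf 0x24b800a80000130030d530d4103385100d3f36f973074d12412d) (.leaf 0)) (.node (.leaf 0x42d7261f00002d013ec93a2f1a3484f3c27176627cb58b12d68a) (.leaf 0)))))))))

/-- part of a table -/
def entries27 : Trie := (.node (.node (.node (.node (.node (.node (.node (.node (.leaf 0x22d143090000000d003600350ed48436612be12073c5b718b15f) (.leaf 0x2cd04dd700002d821f7f2f20127584177455b627373270180518)) (.node (.leaf 0x156153f700011356317e317d0aa60438093ca7257093447b2734) (.leaf 0))) (.node (.node (.leaf 0x50c63ab4000009271b421b411e7504d5981df3807be26a149025) (.leaf 0x26d2397f000144d2300f5177107584557c7f650365941741d518)) (.node (.leaf 0x8bb3c7d00011f012a95428506938575c968e2cd3df46355a2ab) (.leaf 0)))) (.node (.node (.node (.leaf 0x53251150000104750e250e571ec304b1b20093a42ce1ee428049) (.leaf 0xad8066500013733480f423506d48510982be66257251d18b68a)) (.node (.leaf 0xf84352000018f33a9c3a9b045785166b0b766c478538486333) (.leaf 0))) (.node (.node (.leaf 0x282d18f400000e1426f6191b10c305b26f1d06f95536d870a546)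 (.leaf 0)) (.node (.leaf 0x19042633000125cc48b62e4d0c440493c43a90fd0b80e25be15f) (.leaf 0))))) (.node (.node (.node (.node (.leaf 0x25a9048900000236074b077d105305306854155663063c7bd12d) (.leaf 0x49731693000032034fd3257a1c4684723024f6dd7ad4ea24d180)) (.node (.leaf 0x247507c50001160936353634102784b0b73e86555d765341d546) (.leaf 0))) (.node (.node (.leaf 0x2c9b481700010b9c2145214412718576e33e76126e84de124156) (.leaf 0)) (.node (.leaf 0x86727e100012248109545bc068704f3f01976b305764f5372ab) (.leaf 0)))) (.node (.node (.node (.leaf 0x384403c000106c701fe14ec04b204961e5285711f350a3352cb) (.leaf 0x377e114a00003d1246f0527b164685d1b057e7b449d6d024d295)) (.node (.leaf 0x24771a3000001be43c253eb5102784f28c02a5567b95bc18012d) (.leaf 0))) (.node (.node (.leaf 0x10b63c30000010a82c600c2108d384d5c10175ea0e13d970a621) (.leaf 0)) (.node (.leaf 0x26863a69000129784b740317107104d59347e6d67be2df124156) (.leaf 0)))))) (.node (.node (.node (.node (.node (.leaf 0x3e7e3b2f0000011f03e903e8186785d5a17cc5e24191475865fc) (.leaf 0x4c360e3c00012fae4ed446b01ca384d16042f14c0a604b1497d9))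 (.node (.leaf 0x22710b14000014ae28ac33ec0ec784310a190089320236428049) (.leaf 0))) (.node (.node (.leaf 0xb4c1b1600010a5e1e451d9106e40592a854455d1d823f62128f) (.leaf 0x2cb93fbd00004a0d52e5276912728536116bb5ab45b32e049518)) (.node (.leaf 0x7b23328000120943b9f442d06758454f041c07e73209f295486) (.leaf 0)))) (.node (.node (.node (.leaf 0x278217fc0001059d11ae11ad10b204525563370813a6ed7d9586) (.leaf 0x3310113900003a0839ca521e14828411af57576e01a0e25fc428)) (.node (.leaf 0x33bf29fb00001a67307d353d149385f4276c038a20c66453718b) (.leaf 0))) (.node (.node (.leaf 0x439b084b00010f59271a29ad1a518570c66a17f26654a1156786) (.leaf 0)) (.node (.leaf 0x2cdb03e6000027a01ed92b5612758570583dd10c1d35ed41d156) (.leaf 0))))) (.node (.node (.node (.node (.leaf 0x52b543c0000003550af50af41eb384b67410f0896bc0731497d9) (.leaf 0x24a62b860001348850a749c2103304d44837139e2434de12412d)) (.node (.leaf 0x10301cd30001177d2ad2386c08c38412ce1162a66f578970a70b) (.leaf 0))) (.node (.node (.leaf 0xb88257200000cd52433243206f20513b217e3ea0367f970b55a)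 (.leaf 0)) (.node (.leaf 0x277a1c420001240543e6476010a78552c147e65561e78d124546) (.leaf 0)))) (.node (.node (.node (.leaf 0x2ccf14a0000107f8025e1828127505f20102c0f569078b180518) (.leaf 0x3a6f1b86000040b83a7d325a16c705f2b23f73f554762632d335)) (.node (.leaf 0xbc0dde00011d6f1a8040a704558591577027253f946455a214) (.leaf 0))) (.node (.node (.leaf 0x4abf3fb3000011ff2efb2efa1c7285f61126d2f445b1233357bd) (.leaf 0)) (.node (.leaf 0x21732b2900002b8627bd2cdb0ea78474422b21f72ee40d2cb7d9) (.leaf 0))))))) (.node (.node (.node (.node (.node (.node (.leaf 0x12370cbf00010093021501de0a2584f1357b83585b9677262295) (.leaf 0x399106b00012e9c22094c3804b285319d78e0062c929c333786)) (.node (.leaf 0xabf3b04000014011a32070906d385f59f2015f45cf174428335) (.leaf 0))) (.node (.node (.leaf 0x594c23000109c41ccf1cce044685374621245c1283de28f295) (.leaf 0x28e912a0000047383c23334f10d70531d40846bd40c3022c712d)) (.node (.leaf 0x23af0eff00001fd30cab01cc0ef205f1707cb2576ac4a8335025) (.leaf 0)))) (.node (.node (.node (.leaf 0x439701fd0000050b100703f21a5184f02d75624829067e1562cb)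 (.leaf 0x3a0e2f68000138a34d602c3316c105d49a3f77ed53b62632d734)) (.node (.leaf 0x33ea2a5a000119a830aa3bb1149705542f68e2cd32446355a2ab) (.leaf 0))) (.node (.node (.leaf 0x39c81ac400010eb418eb2855169605129b1e54374fc7fc24d32d) (.leaf 0)) (.node (.leaf 0x52ac52ad000126b6303e461e1eb30597e77750832cf08a295049) (.leaf 0))))) (.node (.node (.node (.node (.leaf 0xbf90669000002c5093a093906f58530983f947f4e779c2cb537) (.leaf 0x20040310001334d1bc44c30048204161e06a0c16c00e25be428)) (.node (.leaf 0x49df239d000016c813e2374e1c5485f3886691b768512a5fc15f) (.leaf 0))) (.node (.node (.leaf 0x11654c4e00000c3922c622c508e604b74a75e6cf4563867b2486) (.leaf 0)) (.node (.leaf 0x16925d14a520001232139bd468d105584371e39b3008010db7bd000) (.leaf 0)))) (.node (.node (.node (.leaf 0x33437a00001076105d4168d04a38495530214f21c42d7295621) (.leaf 0x1867206d00013edc1c0823d20c2704f3366064d46f057d295049)) (.node (.leaf 0x317107cb00001cb13fb9240714468430b756c3ce1d47fc28f295) (.leaf 0))) (.node (.node (.leaf 0x399b31ea000011512dad057416928574d054d5ce5f53465fc428)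 (.leaf 0)) (.node (.leaf 0x34d949b800002a711e753ccb14d485370e5db66264445018b68a) (.leaf 0)))))) (.node (.node (.node (.node (.node (.leaf 0x28a20581000101aa05b605b510d30450800ca6f910951370a546) (.leaf 0x18142637000130cd1cf84f560c248493c449f14a5dd04a3357b2)) (.node (.leaf 0x300a0b8f000115513418351314220551157387f24e01a2335786) (.leaf 0))) (.node (.node (.leaf 0x31474f5500000aff1fc70f90144404f79a2e25af7e56b65fc113) (.leaf 0x100f508100004d894ad14b3c08c105f7b90a17f24e43042c72cb)) (.node (.leaf 0x2f4c2b0000217a44f91208044505f7465d27ff12817f6de214) (.leaf 0)))) (.node (.node (.node (.leaf 0x15cf1c6400010632134b134a0ab405f2c419d5af38b322049113) (.leaf 0x417f1b5500003b90526c48bc18e585f2ae3dc5df4a93bd5866de)) (.node (.leaf 0x44302f5500001b263dbd29261a6284149932f6cf3a5027546537) (.leaf 0))) (.node (.node (.leaf 0x22c10b17000010032b0e2b0d0ed404310a2040816fc51d18b7b2) (.leaf 0)) (.node (.leaf 0x111a0d00000028924ad7137f08e185513b02a0d06795bc18055a) (.leaf 0))))) (.node (.node (.node (.node (.leaf 0x3a2847321b000003e40ca40bba10c504f4d345b14103175b2c7000)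 (.leaf 0x343c0b28000135ca5058335314c285910b4b935836d2262ab149)) (.node (.leaf 0x240232fa00001834398b285910220454ec4a533462c7477d9586) (.leaf 0))) (.node (.node (.leaf 0x35b7159200010d750b9b259714f384f2170942847f554a2145be) (.leaf 0)) (.node (.leaf 0x3df61915000024eb2f3e480b185784d2723ab1e225947a518621) (.leaf 0)))) (.node (.node (.node (.leaf 0x40b82bac0001088e0ee819bc18b285144a6577ed06602712d734) (.leaf 0xbcf4612000142a03123523606f405f6af16155d58722162124d)) (.node (.leaf 0x2fc721d000001e344198334412f504f35c02b5dc42a242262518) (.leaf 0))) (.node (.node (.leaf 0x474c471a000112a92ac3303e1ae40596ca5eb66663a41f54628f) (.leaf 0)) (.node (.leaf 0x93f139200002c8734732f3d06a385f1eb1fa5b14ad57d149621) (.leaf 0)))))))) (.node (.node (.node (.node (.node (.node (.node (.leaf 0x2f4e49b600000050012a012912e505d70e5880f500e314124518) (.leaf 0x30d0444700002e124e0a49d214368416814615711d41a068a786)) (.node (.leaf 0x39ca064e000113a92f5215d0169605509474b5ce36f4a328f428) (.leaf 0))) (.node (.node (.leaf 0x3ed739c9000009781c091c08187484f58555963740f80454628f)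 (.leaf 0x200f2237000145ea3cba43610e8105f36646a3fa3ab58055a70a)) (.node (.leaf 0x3b7a1ca100011f6c30833def16e68552c904d2376543c71136de) (.leaf 0)))) (.node (.node (.node (.leaf 0x8a64b9c000004c10f2f0ddc069304d73b57b42600d0826de18b) (.leaf 0x784c26000137f43bf051a204478517464463e455710e486335)) (.node (.leaf 0x1ae020e10000194d3a273b260c960413420742b45a47f824d2c7) (.leaf 0))) (.node (.node (.leaf 0x10e142fc00010e60084227a308d70436604675b15ec5c82c7621) (.leaf 0)) (.node (.leaf 0x4de02d6c0001264b1c0449141cd504146e59827f7ee23632d262) (.leaf 0))))) (.node (.node (.node (.node (.leaf 0x1876307c0001027c085d085c0c2784d4b262038436609f1497d9) (.leaf 0x4c3b0339000032a34dd30a241ca385704d62038433c26a149049)) (.node (.leaf 0x247a33110000166d36c636c510278554ee01c6bd7a8417180546) (.leaf 0))) (.node (.node (.leaf 0x4e7a436800000be721ff21541e2585566d5400f96603472cb180) (.leaf 0)) (.node (.leaf 0x4560186000122b74562462b04c484d02323d6627cb3b818b68a) (.leaf 0)))) (.node (.node (.node (.leaf 0x1a02440b0000071415ba15b90c8104567b6431b91e14186de2c7)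 (.leaf 0x2bfa107c00013df351d74fd2125785519e7276361653b07bd12d)) (.node (.leaf 0x33f00b4a00011c4f3f2f3f2e149784110f56b78535205d55a18b) (.leaf 0))) (.node (.node (.leaf 0x3fec1346000110fc2cfd2cfc18970591df33678508d0471562ab) (.leaf 0)) (.node (.leaf 0x37e8239a000029f533a2449f16560513885990191fc3de24d295) (.leaf 0)))))) (.node (.node (.node (.node (.node (.leaf 0x1ad10f810001016304cf03790c958431880ed6984be0ba4862c7) (.leaf 0x6d513a400013037363431b7065684b1ed2f762d0157fc28f295)) (.node (.leaf 0x33700b3400001501347a2005148784110d3c260754c4646de2ab) (.leaf 0))) (.node (.node (.leaf 0xa144b5500000aad1f051f0406c28497354b93582332262ab149) (.leaf 0x2cb093f00014ba6419d514f04960570e074b5ce4c84a328f428)) (.node (.leaf 0x37f92bc60000210b2d7f03d3165685344d20d62d25c5cb28f149) (.leaf 0)))) (.node (.node (.node (.leaf 0xa3349dc000005e7127d127c06c38477105a14231c462632d335) (.leaf 0xc9c2dca00003ac21a3c20d308348594745d06e216269b7d9113)) (.node (.leaf 0x38fe24d800001ac83d463d45167785d3a54b47ef23d7047865be) (.leaf 0)))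 (.node (.node (.leaf 0x28aa07bb00000fb12a5f2a5e10d30550b64226552611cc70a546) (.leaf 0)) (.node (.leaf 0x369e00270000281b3dff409c163285d00352b05f6012f93332cb) (.leaf 0))))) (.node (.node (.node (.node (.leaf 0x6592a180000039d0bcf0bce064685342a56c3ce53b7fc28f295) (.leaf 0x4fce23760001352d489c2eac1e5405d3831f96b77e66b65be7b2)) (.node (.leaf 0x32542335000117d92fdf38fe146484937c1fe71b20409770b24d) (.leaf 0))) (.node (.node (.leaf 0xb3e139e00010d2324ba24da06e385d1eb70e3282a50342cb5fc) (.leaf 0)) (.node (.leaf 0x512d37d300012479386547b71e8205b5573a91b908c0e25be2c7) (.leaf 0)))) (.node (.node (.node (.leaf 0xd6e5016000108420e6018f6086705d7ab2c44796e34de2625be) (.leaf 0x53794bd2000141ab53504f5a1ec585373f1904d83dd43b428124)) (.node (.leaf 0x3020052a00001dd1411a411914230410745174f25d178321470b) (.leaf 0))) (.node (.node (.leaf 0x21454cdd000012582f952f940ea404b75d54407f2ee63b62115f) (.leaf 0)) (.node (.leaf 0x368012ee00002c031ac54b1a16320411d86a572b59e24e3332cb) (.leaf 0))))))) (.node (.node (.node (.node (.node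 (.node (.leaf 0x1eae3103000000d8030002ff0e3505d4be4360f96dc0b021441d) (.leaf 0x4e4309d500012f1e418f499e1e240470ed32608143a2f070b15f)) (.node (.leaf 0x2a841952000114523343334212320492762db5f813f32e7d9000) (.leaf 0))) (.node (.node (.leaf 0x1d9f4bab00000a111d8b0ead0cf185f73c63209e75609f2957bd) (.leaf 0x4eac2a760000487f3ff236ed1e3305943239714c10917d2cb049)) (.node (.leaf 0x4d7d1a6c0000203243c83fc31cc585b29267f5a22ac0de428124) (.leaf 0)))) (.node (.node (.node (.leaf 0x4f1b25c50000055310d610d51e418573bb43e31955b3ef486262) (.leaf 0x12ba126400003956281c42490a358551ce16f65106278d124295)) (.node (.leaf 0x130218f0ef900011a0a2df23c3b0eb105f1705c20ea6dc17b78641d) (.leaf 0))) (.node (.node (.leaf 0x39ac264900010f07290a290916930593c55a580749e0ba4862ab) (.leaf 0)) (.node (.leaf 0x28c72d610000272a122c49d010d504f46e01730011f30470a000) (.leaf 0))))) (.node (.node (.node (.node (.leaf 0x2c6a214c0001030d00dc0a17126605534f73062767c5a715f156) (.leaf 0x3faa3cb1000033e94d8041b018930555cf3ab1bc20f47a5182ab)) (.node (.leaf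 0x2f5604700001171e37e337e212e584d06707b6474c4314262518) (.leaf 0))) (.node (.node (.leaf 0x238607d900010c86075c237d0ef104d0b833d1cb2e6545149025) (.leaf 0)) (.node (.leaf 0x2d3e329000002390159746f012a385d4e303123567377a180546) (.leaf 0)))) (.node (.node (.node (.leaf 0x1321486e000107aa175717560a650436e87d43d051a27a1806de) (.leaf 0x24ed2ff000003fd03fc25322103705b4a904139e6081d241d546)) (.node (.leaf 0xf12e6200011d0f144017a204578434831c166c1266f8486333) (.leaf 0))) (.node (.node (.leaf 0x243250fe000011a5270e2e5310238457c27ce22d59d242124546) (.leaf 0)) (.node (.leaf 0x49f924ef00002af64c5e3c8f1c568533a67c218347e3de28f180) (.leaf 0)))))) (.node (.node (.node (.node (.node (.leaf 0x1e963209000101f0035a06980e3484d4d238b1b73a27fe33315f) (.leaf 0xecf539c0001315e4d5c4f99089505f80162575c54860a02532d)) (.node (.leaf 0x1094f010115000115b035ac2cd41e4104301821a0da02c6f8486262) (.leaf 0))) (.node (.node (.leaf 0x16fe299e00000b4a208520840ad785d41b77f74421d76170a70b) (.leaf 0x38660fd200014fe0321c3cdc166704d1901064791ff7042cb5be))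 (.node (.leaf 0x12a62947000021df456345620a3504d4113d845c53d38c262295) (.leaf 0)))) (.node (.node (.node (.leaf 0x1ad519c40000067d141914180c9584b28228c50c6eb6f848670a) (.leaf 0x26ba481b00003c584d370ced10728556e35c0503659747049518)) (.node (.leaf 0x1aa531ce00001b843e3535ce0c9204b4cd72027d3814045fc70a) (.leaf 0))) (.node (.node (.leaf 0xfed4f32000010532bb92bb808b605b7970be3b36056e97b2734) (.leaf 0)) (.node (.leaf 0x527537c9000129074b2721201ea684b55567401170f2ad68a262) (.leaf 0))))) (.node (.node (.node (.node (.leaf 0x216724a00001042c01320d7f0ea704f3a10a214c6762472cb7d9) (.leaf 0x135822e50001366c3184514a0a668513732cf07e6c76e915f537)) (.node (.leaf 0x3ff09f2000118943a153a1404b785f0ef2ae77c634195214621) (.leaf 0))) (.node (.node (.leaf 0x386a19d200010dc426470bfd16670552850a225f7eb2472cb5fc) (.leaf 0)) (.node (.leaf 0x4279439600012558485b16271a258536713a145c49d7ae586295) (.leaf 0)))) (.node (.node (.node (.leaf 0x30942500000008db1a7c1a7b14328493a91dd4cf1c94da3332cb) (.leaf 0x39a447b2000143a15255509716930496da28c7983256be4862ab))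 (.node (.leaf 0x3d1644b400011ea037922d2a184184d6882d472b6327db5182cb) (.leaf 0))) (.node (.node (.leaf 0x511706500001130030d730d61e8184f09619e67853366e48670a) (.leaf 0)) (.node (.leaf 0x53fa4ca400012d024d814d801ed58557533ff19178a390428124) (.leaf 0)))))))))

/-- part of a table -/
def entries28 : Trie := (.node (.node (.node (.node (.node (.node (.node (.node (.leaf 0x4aff2ce20001000d003800371c7685f4652230ec1e91371137bd) (.leaf 0x2b24e7a00012d8218b92bfb04938457825952ea3af4636de2ab)) (.node (.leaf 0x103337ac000113573180317f08c38475537d84f25653d92c7621) (.leaf 0))) (.node (.node (.leaf 0x17b3509b000109271b4312ff0af38477ba58825f7c838c1245fc) (.leaf 0x34a10ebc000044d750bf53a514d204316a5e93d609951d18b295)) (.node (.leaf 0x14e14f127e900001f021ef32ef90a978433f04c77853520db02518b) (.leaf 0)))) (.node (.node (.node (.leaf 0x14393b0c000004760e590e580a8385359f52f31705c1797bd2ab) (.leaf 0xe0746620001373516b55174088104f6bb1ce76e6c02e47bd428)) (.node (.leaf 0x338731f7000018f43a9d25f3149204f4d13bb43764312a5be32d)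 (.leaf 0))) (.node (.node (.leaf 0x4b631ae000010e1426f826f71c860472a10686783967d628f2c7) (.leaf 0)) (.node (.leaf 0x3b313c67000125cd48b70aef16e38435c54ae1072d37502145fc) (.leaf 0))))) (.node (.node (.node (.node (.leaf 0x4b37446000010236009d077e1c8284f6830331b942a0135be70a) (.leaf 0xb0004c50001320341194f2f06e204106c36c7a42996b56216de)) (.node (.leaf 0x184f4ed10000160b363736360c2605f7910e16ae40309568a124) (.leaf 0))) (.node (.node (.leaf 0x53f32f4800010b9d214721461ed58474964651910b558e428124) (.leaf 0)) (.node (.leaf 0x167f16870000224945bd3da50ac785f22f3ec1e26343d92c7621) (.leaf 0)))) (.node (.node (.node (.leaf 0x42782867000006c814ee14ed1a258513fe2b91480947b5586295) (.leaf 0x1628122500003d1352b452b30ac30511c53b777c54214570a621)) (.node (.leaf 0x200024ff00011be40be83eb60e810413a77931b93e14fa6de70a) (.leaf 0))) (.node (.node (.leaf 0x6550d7c000110a82c622c61064684b14e7211480fa1ab28f149) (.leaf 0)) (.node (.leaf 0x4691071b0000297949ab4b751ab18430a762a66870e13e586149) (.leaf 0)))))) (.node (.node (.node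 (.node (.node (.leaf 0xa2d2bef0001011f03eb03ea06c305b44f7e15a346162f428333) (.leaf 0xe46231d00012faf43424ed5088504d3785fd7d13212e47bd428)) (.node (.leaf 0x95f175b000014af2eb833ed06a685f2455d10066ca137113786) (.leaf 0))) (.node (.node (.leaf 0x217456300000a5f1e471e46048284f69f03315a3fe0135be428) (.leaf 0x533a46d500014a0f358034df1ec38556c610100f31f05932d7d9)) (.node (.leaf 0x51c50f2c00002095442f442e1e9504b1756d327d6bf2b555a70a) (.leaf 0)))) (.node (.node (.node (.leaf 0x117d279f0000059e02db11af08e685b3e77f43a87d734415f537) (.leaf 0x26924fcd00003a092c7b3fb010718457a664175821e66a262518)) (.node (.leaf 0x4ded20cb00001a683cc13cc01cd505b33d6d970313f43b32d124) (.leaf 0))) (.node (.node (.leaf 0x3b8e001f00000f5a285c29ae16f105d00273f772389154149486) (.leaf 0)) (.node (.leaf 0x7cc29d3000027a24a294a2806760594221215bf00903f1136de) (.leaf 0))))) (.node (.node (.node (.node (.leaf 0x29dd18b2000103550af70af610f585b26915e6d61aa5c7124518) (.leaf 0x47b517e300003489289b42571af384b25410a25f5a60485865fc)) (.node (.leaf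 0x4e2c04090000177e386d12201e2305905c36d0835c143d786049) (.leaf 0))) (.node (.node (.leaf 0x1eff48b300010cd5243524340e3785f6f241c00f559545295049) (.leaf 0)) (.node (.leaf 0x17591980000124070cc247610ae485327b0107052e269b04928f) (.leaf 0)))) (.node (.node (.node (.leaf 0x21962553000007f9182a18290eb184d3ae22a1821331c8786180) (.leaf 0x4529342b000140b9442352921a830535074d24ef02212b5182ab)) (.node (.leaf 0x1c4f271b00011d7040a825da0cc405f3dc1d56b76f603918b7b2) (.leaf 0))) (.node (.node (.leaf 0x3b3400d9000111ff2efc20fa16e38490143e003d3df6352145be) (.leaf 0)) (.node (.leaf 0x8d2dcd00012b87462c4cb3045405b47472055025205e5fc68a) (.leaf 0))))))) (.node (.node (.node (.node (.node (.node (.leaf 0x41e50abc000000940217021618f504b1027427a40ed02600055a) (.leaf 0x282a52a900012e9d346048c610c30557e75266bd2cf7612c7546)) (.node (.leaf 0xcdb0ddd00011401184732ac08368571576f772517530a7b2214) (.leaf 0))) (.node (.node (.leaf 0x3b6d2cdb000009c5187c13bd16e605b4625490d006d21811355a) (.leaf 0x30931fec00014739466a448214328473246045715554b53352cb))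 (.node (.leaf 0x7fc010600011fd31d034364067785901730e2844b91862145fc) (.leaf 0)))) (.node (.node (.node (.leaf 0x4d994f820001050b100910081cd28537a027359b0ee6ba18b180) (.leaf 0x4ff503b000138a738714b1204d585f7af60d4eb62e58e428734)) (.node (.leaf 0x43f35054000019a93bb33bb21a578477b12d536173647a156621) (.leaf 0))) (.node (.node (.leaf 0x4a71233b00000eb5285728561c6684337c61a3d36b218a68a025) (.leaf 0)) (.node (.leaf 0x23737a3000026b728be0f9e048384f5530a87487f546355a2ab) (.leaf 0))))) (.node (.node (.node (.node (.leaf 0x24f12fe5000102c5093c093b10378434a73f01e31c22f318012d) (.leaf 0x3b3340000001334e46df503c16e384761a06e2e961f32a7345be)) (.node (.leaf 0x2338306a000116c82cae30f70ee28514b05971e62fe50a3337bd) (.leaf 0))) (.node (.node (.leaf 0x94256d027f00010c3922c822c7104705b03680622d46b714025546) (.leaf 0)) (.node (.leaf 0x42111c5f0001232320c2468e1a228432c37796cc04c17a546214) (.leaf 0)))) (.node (.node (.node (.leaf 0x22291e6b0000076206a1168e0ec20532fc64b1826b06ba2ab180) (.leaf 0xe434c4b00013edf43692f72088504774a52376e4c37777bd32d))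 (.node (.leaf 0x3f8017f600011cb209b912b018910412553361e064304715632d) (.leaf 0))) (.node (.node (.leaf 0x4cd50b73000111512daf2dae1cb484b1141db38779924e3337b2) (.leaf 0)) (.node (.leaf 0x4ad46aa00002a724bf94c2204d305b6c15123f50a01ee32d333) (.leaf 0)))))) (.node (.node (.node (.node (.node (.leaf 0x1b79354c000001ab05b805b70ca78535244cb29e37a6282cb7d9) (.leaf 0x11042f2f000130cf44533fa208e104949380923765427a1806de)) (.node (.leaf 0x14400d1c00001552351401150a8504113d6934905957147bd428) (.leaf 0))) (.node (.node (.leaf 0x305466d00010aff1fc91fc804a204b6bb6e605f6fb29c333786) (.leaf 0x24581fca00004d8a4d833daa10268513216d460b02b30b15f000)) (.node (.leaf 0x15e24071e020001217a43461c32102204f2ed24935d02c34d7d9000) (.leaf 0)))) (.node (.node (.node (.leaf 0x1c541c7f00000633134d134c0cc48492c577816c6f46ba2ab7b2) (.leaf 0x2268474500013b9037a91cda0ec70516d138e0835ba46c4287d9)) (.node (.leaf 0x1c9521e600001b273dbf3dbe0cd184b35e4b60116581ee32d262) (.leaf 0))) (.node (.node (.leaf 0x50fe24d0000110032b0f27db1e7685d3a506f3cc610392113025)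 (.leaf 0)) (.node (.leaf 0xa6f46b1000028931d3f4ad806c505f6c20785761d762632d734) (.leaf 0))))) (.node (.node (.node (.node (.leaf 0x164e46b9000003e50ca60ca50ac505d6c23ec4316203d92c7786) (.leaf 0x1d4e271a000035cc41fb48090ce505d3dc1d438016954a734025)) (.node (.leaf 0x3f0e18e900011834398d398c188105d26d48f2ef3f867e518428) (.leaf 0))) (.node (.node (.leaf 0x428092200000d76223c259804c30510df1900b46c6236428333) (.leaf 0)) (.node (.leaf 0x32a914d1000024ec35ef2ee7147205320609613c10163b6216de) (.leaf 0)))) (.node (.node (.node (.leaf 0x2034fea0000088f19be19bd04820477a867d4e812e12a5fc32d) (.leaf 0x35a30bf8000042a145e0397a14f30471216150f43c932a7345be)) (.node (.leaf 0x8f4074200011e340ca933ae06978490ab1f438a7c37815372ab) (.leaf 0))) (.node (.node (.leaf 0x92e2079000012ab3040303f06a305d33763237633b09f295621) (.leaf 0)) (.node (.leaf 0xcab2dc300012c8738b30c8908350574743717b43f94de124149) (.leaf 0)))))))) (.node (.node (.node (.node (.node (.node (.node (.leaf 0x8ed3e660001005000eb012b069705b5f01c142602d6be4862ab)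 (.leaf 0x211748de00012e124e0b42e70ea184f6f45400f957017b2cb41d)) (.node (.leaf 0x4a730fdb000013aa322432231c668471904e32a076b6131137bd) (.leaf 0))) (.node (.node (.leaf 0x163249db000109781c0b1c0a0ac38457103ec1e22fd4d62c770b) (.leaf 0x49e02c4e000045ec345e495c1c560414566db0726411ab24d41d)) (.node (.leaf 0xe301ce800011f6d42ee42ed08838412cf58d6b37f572e0252ab) (.leaf 0)))) (.node (.node (.node (.leaf 0x12933a2e000104c10f310f300a3484758d7b95ac0964b17d9113) (.leaf 0x2e6c2cd4000037f5233317da12c70594623b739f60930270a12d)) (.node (.leaf 0x325a21440001194d21253051146485534f4ac76a15222c62124d) (.leaf 0))) (.node (.node (.leaf 0x21fc438500000e610c4127a40eb78596703911f75cc79c2cb7d9) (.leaf 0)) (.node (.leaf 0x1d0949230000264c42961ca10ce10536fc1d93807522d7149025) (.leaf 0))))) (.node (.node (.node (.node (.leaf 0x23ec28aa0001027d085f085e0ef605940340b3cc4b24971137bd) (.leaf 0xc063278000032a64f140387082404d4df4665506e13227d9113)) (.node (.leaf 0x44c103660000166e36c836c71a740430503506ef4053e654624d) (.leaf 0))) (.node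 (.node (.leaf 0x3c7411ea00000be82201220018258491c151b7bc650164000149) (.leaf 0)) (.node (.leaf 0x42fd2af6000122b81e30462c1a3585b43e4426681ac7c4586295) (.leaf 0)))) (.node (.node (.node (.leaf 0x9530bc10001071515bc15bb06a684711b22365666f3921132cb) (.leaf 0x29fb324d00003df4504952d610f68574db5c937f4df4987b2518)) (.node (.leaf 0x1410bda1b1500011c503f313f3006f48552a84787052c36cd62124d) (.leaf 0))) (.node (.node (.leaf 0x36f5498c000010fd2cff2cfe163784b7066b150878e265149621) (.leaf 0)) (.node (.leaf 0x51ae0c21000129f617814bd31e9205d1260572414742fa5be2c7) (.leaf 0)))))) (.node (.node (.node (.node (.node (.leaf 0x1048503f0000016404d104d008c50517af75169229272c70a2cb) (.leaf 0x26c27c4000030393c7b4f1604870593eb36f50f68833e53718b)) (.node (.leaf 0x1545485d00011501347c347b0aa404b6e75b642d1dd3b17d968a) (.leaf 0))) (.node (.node (.leaf 0x18c23d9e00010aad1f061cc60c360455e06f526e28b09568a124) (.leaf 0x2022489b00004bad446a4cae0e820456ec67d2a272312a5fc2c7)) (.node (.leaf 0x17813cc70000210c2e4344980af10435d040e07a27c41441d55a)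 (.leaf 0)))) (.node (.node (.node (.leaf 0xcc73178000105e70d560a34083604f4c644f35300b73a15f214) (.leaf 0x7764c8100003ac3524304be066784d7510885e22066007345fc)) (.node (.leaf 0x12f34d6200001ac936c317bf0a378477690ce5f454b5bc41d333) (.leaf 0))) (.node (.node (.leaf 0x4b7423f000010fb12a612a601c8684939132521113556028f2c7) (.leaf 0)) (.node (.leaf 0x4c9002ba0001281b24574a801cb184103c5d5104098783734180) (.leaf 0))))) (.node (.node (.node (.node (.leaf 0x488751060001039d01060bd01c3204f7c32bf0877f633870b262) (.leaf 0x818411900003530422e4862068285163357576e6820e25fc428)) (.node (.leaf 0x12022434000017da38ff24890a240453962e30f753070704968a) (.leaf 0))) (.node (.node (.leaf 0x31a034cf00000d2424dc24db14530415197c61461e76be537335) (.leaf 0)) (.node (.leaf 0x18a321b90001247a47b947b80c3504735a6150ea63d32a734180) (.leaf 0)))) (.node (.node (.node (.leaf 0x40f81b840000084318f818f718b78512b22c5423035048000333) (.leaf 0x46ac2df6000141ad483253601ab2059478369680015790546214)) (.node (.leaf 0xe9725dd00001dd2411b30b9089184f3bc69e75c19977702532d)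 (.leaf 0))) (.node (.node (.leaf 0x3d4fb6000012592f961835044585b7a54567ed00a2b56de214) (.leaf 0)) (.node (.leaf 0x2284340600002c044c9f4cf70ed10495041982e151b1ee32d262) (.leaf 0))))))) (.node (.node (.node (.node (.node (.node (.leaf 0x44930c4c000100d8030101261a718471295783d04bb7b600055a) (.leaf 0x1d6d462800012f2012113a520ce605b6b01b21cb3814971137bd)) (.node (.leaf 0x4d172e7e00001453334432e81cc284f4847920f92c461818b41d) (.leaf 0))) (.node (.node (.leaf 0x137a138d00010a111d8d1d8c0a678551e97b81072733142625be) (.leaf 0xe8b2c6d0000488653d7524f089105745969e75c681718025428)) (.node (.leaf 0x1d761c780000203343c916450ce684d2c55423cc5a4095113025) (.leaf 0)))) (.node (.node (.node (.leaf 0x418717fa0001055310ad10d718f204f255471711595804546537) (.leaf 0x1f7113590000395849bf3d930e478431e14c818571256255a049)) (.node (.leaf 0x4914130600001a0b3c3c08a21c418491da4467032ac10e486124) (.leaf 0))) (.node (.node (.leaf 0x8892c3a00010f0813fe290b06920534556881e04fc1775fc32d) (.leaf 0)) (.node (.leaf 0x236d0db60000272b11f549d10ee605b15331329f0dc18a113025)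 (.leaf 0))))) (.node (.node (.node (.node (.leaf 0x8a8070e0000030e0a190a1806930510a656b78528d05d55a18b) (.leaf 0x1d32b0505fa000033ea37ed28c8124104b08f4c63513d70db7bd000)) (.node (.leaf 0x371353120000171f37e537e416418477f33a63b36054186de734) (.leaf 0))) (.node (.node (.leaf 0x11ee346200000c87237f237e08f605d50e1c507e3852f115f537) (.leaf 0)) (.node (.leaf 0x4bc01a8600012390123b46f11c9504129628a50c4c45626de2c7) (.leaf 0)))) (.node (.node (.node (.leaf 0x2f572297000007ab0734175812e584f36e3d85ab22e242262518) (.leaf 0x219430311bc00003fd1513653231a410471bd6f24121c97db1562cb)) (.node (.leaf 0x28642fce00001d100bec403410c70494a46481e346b6d870a546) (.leaf 0))) (.node (.node (.leaf 0xb6208a6000011a62e552e5406e50450d353d77203a0342cb537) (.leaf 0)) (.node (.leaf 0x234715fb00002af74c5f28bf0ee504f21f49d3fb48f4c52147bd) (.leaf 0)))))) (.node (.node (.node (.node (.node (.leaf 0x47c5432a000001f1069a06991af404b6656f41fd08f1a454628f) (.leaf 0x44bc0edd0000315f4d6941fe1a7285916d6ec71167f790546486)) (.node (.leaf 0x3fa2493f000115b135ad163418930456fd79138a56c67e5182ab)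 (.leaf 0))) (.node (.node (.leaf 0x3a8335eb00000b4b2087208616d104753051a01d39d6f1428214) (.leaf 0x298d03ff00004fe43e9f0b7810f105b05a7bb6d648141441d518)) (.node (.leaf 0x4f993442000121df35bf10211e5185350b2105a27976f8537262) (.leaf 0)))) (.node (.node (.node (.leaf 0x54f08760000067e141b141a04e405f0ce4383566d522162124d) (.leaf 0x235842d200003c59514a46da0ee585165d2752f44d75b42147bd)) (.node (.leaf 0x117515600011b843e373e36046484f7c938b7336a07fe33328f) (.leaf 0))) (.node (.node (.leaf 0xc725551699000110532bbb2bba104584b2304e970846860e025586) (.leaf 0)) (.node (.leaf 0x24cf2d340000290848bb3cfc103605f46a1c560b02b2f115f000) (.leaf 0))))) (.node (.node (.node (.node (.leaf 0x7a533210000042d0d810d80067504b4f01c925d0fe267295537) (.leaf 0x40bc1c260000366e2e483f9b18b28592bf25b4eb32917a12d214)) (.node (.leaf 0x2ca74096000018952a0901ec127204f6293705ab15b6ed049518) (.leaf 0))) (.node (.node (.leaf 0x67c35ba00000dc52648231b064785952d56117223b33e537335) (.leaf 0)) (.node (.leaf 0xdba4d5800002559485c443808758557682a83ea3935ed41d6de)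 (.leaf 0)))) (.node (.node (.node (.leaf 0x521b390a000108db1a7e1a7d1ea18575725e80ea024416734180) (.leaf 0x2242888182c000043a43dd849b410d105125976b1417b81452c7000)) (.node (.leaf 0x2deb064f00011ea142093c7412b70570947b819460967726212d) (.leaf 0))) (.node (.node (.leaf 0x105f01e2000013012b7630d808c585f02c3730c31a14d62c72cb) (.leaf 0)) (.node (.leaf 0x4eda33a800002d031f494d821e348554fc47814a2db6cd6217b2) (.leaf 0)))))))))

/-- part of a table -/
def entries29 : Trie := (.node (.node (.node (.node (.node (.node (.node (.node (.leaf 0xc4836110000000e003a003908260515331395151282947b2214) (.leaf 0x41d502f000012d844dc12dd018f484b0442ee76a6a629112d24d)) (.node (.leaf 0x4e2f483500001358217e31811e2305f6e53f229e63040d2cb7d9) (.leaf 0))) (.node (.node (.leaf 0x42ac1d0c000009281b451b441a330592d153c1725e5164586335) (.leaf 0x4c7f1a5e000144d751c74f151ca685f2905e627f539392113262)) (.node (.leaf 0x31db054300011f024286324614548570771155fa56a6b65fc113) (.leaf 0)))) (.node (.node (.node (.leaf 0x535f00f7000004770e5b0e5a1ec485f01635417613b52018b15f)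 (.leaf 0x13fd2aec000037372dfe4a100a7785b43c6604794b91ec2625fc)) (.node (.leaf 0x365f1144000018f53a9f3a9e162685f1b019352a25c613113786) (.leaf 0))) (.node (.node (.leaf 0xb29473b00000e1526f900a906e30536ce66752165f21c7865be) (.leaf 0)) (.node (.leaf 0x3432446d000025ce3bba48b814c28456837703ce2bb29818b149) (.leaf 0))))) (.node (.node (.node (.node (.leaf 0x7bb2aea000102370360077f067585743c53107e393154295486) (.leaf 0x12d83535000132054fd54fd40a368515232ce11e57730b15f214)) (.node (.leaf 0x32054e010001160b36393638146104b7780fa16659a17d2cb486) (.leaf 0))) (.node (.node (.leaf 0x38b50da800000b9e07d92148167284b1525300d019b44b70b55a) (.leaf 0)) (.node (.leaf 0x31e522a90001224945be2f90145604b36f59901974e1ab24d149) (.leaf 0)))) (.node (.node (.node (.leaf 0x1c8e4926000106c814f014ef0cd105d6fc2016a97cf174428262) (.leaf 0x42051e0600003d153f2552211a2204b2ed3ae01d6e01a4546214)) (.node (.leaf 0x43182a9200001be53eb736e51a418514340d94cf53179f518786) (.leaf 0))) (.node (.node (.leaf 0x35e134b5000010a90c1c2c6314f60435173133d04920c51136de)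 (.leaf 0)) (.node (.leaf 0x4dff1a06000129790f3a4b761cd585f2892254105f0059428124) (.leaf 0)))))) (.node (.node (.node (.node (.node (.leaf 0x1ba71e1b0000012003ed03ec0cb204f2ee62b5a26d123170b262) (.leaf 0x4473443700012fb0126535aa1a6784767f3720f427347c0005be)) (.node (.leaf 0x48e12c43000114af33ee12151c3504345616707222f43d78641d) (.leaf 0))) (.node (.node (.leaf 0x1e00418500010a5f1e491e480e2404163f1af0816fc5433357b2) (.leaf 0x335316bb00004a1453e44bc9148684723357e76e1f44ea24d32d)) (.node (.leaf 0x17d026a4000120950b5144300af48413cf43a7331f936b04928f) (.leaf 0)))) (.node (.node (.node (.leaf 0x2b643b4d0001059e11b111b012470495a56933653b55067bd12d) (.leaf 0x393929f000013a091d510df5168385342706d27926b0ba5372ab)) (.node (.leaf 0x1179539e00011a68217508db08e68538016d439854830b15f486) (.leaf 0))) (.node (.node (.leaf 0x4b2e336b00000f5b29af22f91c8205d4f645d2f84e50c95fc70a) (.leaf 0)) (.node (.leaf 0x2a9f0029000027a343aa4a2a123285f0035d46fa5f07477d9586) (.leaf 0))))) (.node (.node (.node (.node (.leaf 0x37890de7000003560af90af816510531583e501d5314a655a734)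 (.leaf 0x4c8531fa0000348a50ac50ab1cb104b4d14ae7881a5750214180)) (.node (.leaf 0xef0427c0000177f386f386e08978416525412ea15863c7bd18b) (.leaf 0))) (.node (.node (.leaf 0x53d31bf800000cd6243724361ed48472bc58416c6086182ab7b2) (.leaf 0)) (.node (.leaf 0x20e11fc0000240847634762048205d1c245d4900550c95fc428) (.leaf 0)))) (.node (.node (.node (.leaf 0x29451aef000007fa182c182b10e504b2a17f05030c774d124518) (.leaf 0xca535d2000140ba4acb3807083504b52f16345c8005c7262149)) (.node (.leaf 0x25fb149a00001d7140a9173f10578572004e56bd3bf6b4025546) (.leaf 0))) (.node (.node (.leaf 0x47410b4d000012002efe2efd1ae404310f5dd1fd35217a54624d) (.leaf 0)) (.node (.leaf 0x1dde0ca900012b881a364cb40cf585d13320a1ca7561952147bd) (.leaf 0))))))) (.node (.node (.node (.node (.node (.node (.leaf 0x1c7320ed00010094016902180cc784734264e14c6ec39032d049) (.leaf 0xcaf3edd00002e9e3b7712a2083505f5fb7ce3ce066677124295)) (.node (.leaf 0x21ed4c730000140232ae32ad0eb705b74f2c629e6ea2832cb049) (.leaf 0))) (.node (.node (.leaf 0x21ea28af000109c51cd11cd00eb70554035892136f3034786049)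 (.leaf 0x2f132f710001473a4538385812e184749c0316121ed5ed180156)) (.node (.leaf 0x3aeb367100001fd42a1f1eda16d705753b0580b436c626428335) (.leaf 0)))) (.node (.node (.node (.leaf 0x14c10e210000050c100b100a0a9504315e08c0cd7a372e02532d) (.leaf 0x385a1d6a000138aa51d44d6816648552dc49163716822170b24d)) (.node (.leaf 0x338d450b000019aa37403bb4149205b6916a65ce5f55b25fc428) (.leaf 0))) (.node (.node (.leaf 0xb224ce300010eb52859285806e304575e1a84797e025a2cb5fc) (.leaf 0)) (.node (.leaf 0xe5c0eeb000126b81f8d09c6088585916f58d4e856b72e02532d) (.leaf 0))))) (.node (.node (.node (.node (.leaf 0xd623478000002c6093e093d086704551022f52112978d2625fc) (.leaf 0x1297091d0000334f42f34ebe0a3484f0dd77e5d32567077d968a)) (.node (.leaf 0x3c861953000016c93750374f183204d2762de6cc04c0a9546214) (.leaf 0))) (.node (.node (.leaf 0x4cb73ddd00000c3a21e022c91cb384f5e57c13a46ce1542957d9) (.leaf 0)) (.node (.leaf 0x4c5d1c44000123240c5d35cd1ca485b2c14c01763b504a3357b2) (.leaf 0)))) (.node (.node (.node (.leaf 0x7ca4f0a000107621690168f06760557944ad07a6ff5c368a6de)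 (.leaf 0x2cf71f5700003ee045c525fb127684f31852e5ab37318e7b2518)) (.node (.leaf 0x12df316e00001cb33fbb3fba0a3685f4c476f51512873a7b2214) (.leaf 0))) (.node (.node (.leaf 0x2aa70a90000011522db12db0123304f10002b36551f242262546) (.leaf 0)) (.node (.leaf 0xc59042000012a72468335f008268530610604574db0cb15f734) (.leaf 0)))))) (.node (.node (.node (.node (.node (.leaf 0x2c40233d000101ab05ba05b9126504137c70f6126b2414180518) (.leaf 0x29d60f77000030d04f5728d510f584d1874407585bd677262156)) (.node (.leaf 0x4fcf0a400001155222fe11b91e5405f0f805707f4592fa5be7b2) (.leaf 0))) (.node (.node (.leaf 0x3ebf457700000b001fca0a56187285f6a032039828558b546486) (.leaf 0x3e5c19dc00004d8f532444ee18648592854cd7057eb17a12d24d)) (.node (.leaf 0x423d2b960000217c2a143b231a2385b44928b0b4565164586335) (.leaf 0)))) (.node (.node (.node (.leaf 0x506b3a7f00010633134f134e1e660575947e73fb2785c368a025) (.leaf 0x4d14495000003b9150d519331cc284970004f7887f058f2ab180)) (.node (.leaf 0x55407a300011b2819da3c6a04e48490b523b5253a963b70b24d) (.leaf 0)))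 (.node (.node (.leaf 0x3ac70f23000010042b100a7316d404f17516d5506e10392ab113) (.leaf 0)) (.node (.leaf 0x2ac611ab000128930ed037b2123604d1bb6c15f841b73a15f586) (.leaf 0))))) (.node (.node (.node (.node (.leaf 0x4fe111a9000103e50ca80ca71e560431bb5996dd50e1ab24d41d) (.leaf 0xcf44511000035cd222523ef08378496930d117277d270180335)) (.node (.leaf 0x1d9621e200001835398e376f0cf184d35e1a109e4b757d2957bd) (.leaf 0))) (.node (.node (.leaf 0xc4c4fb900010d760429259908260597a55673b32bb3c17b2734) (.leaf 0)) (.node (.leaf 0x15cc2c25000024ee2da7480c0ab40594542db5012327407d968a) (.leaf 0)))) (.node (.node (.node (.leaf 0x18053bb40001088f19c019bf0c2404b5b51f114b0b850a33315f) (.leaf 0x596456d000142a3473b481a04f284d69f4913ea3fe22170b55a)) (.node (.leaf 0x16ed10c700001e35334141990ad705b1a62784f21af1112c7621) (.leaf 0))) (.node (.node (.leaf 0x12ab00be000112ab05f730410a3505700e7b8358667314262149) (.leaf 0)) (.node (.leaf 0x239b2c9c00012c8942cf147f0ef185745e5313cc53f2072957bd) (.leaf 0)))))))) (.node (.node (.node (.node (.node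 (.node (.node (.leaf 0x1074019c00000051012d012c08c78490246483ed5975c870a621) (.leaf 0x498d478700002e134e0c44041c5105b6d54fd5a20d110e537124)) (.node (.leaf 0xb203872000113aa32250bdc06e30415672965213e32837865be) (.leaf 0))) (.node (.node (.leaf 0x48ae1d10000009791c0d1c0c1c3305d2d304000f5c925a2cb049) (.leaf 0x5122d44000145ec4ae34f7004e284546b2086a306d64d62155a)) (.node (.leaf 0xa6e3b7200011f6e0adb242f06c505d5aa06945729248c32d734) (.leaf 0)))) (.node (.node (.node (.leaf 0x2dd9178c000004c20f330f3212b685324a60c5f802a38615f586) (.leaf 0x31521a6000037f83f2c364704a284b3592320c3275543335786)) (.node (.leaf 0x39ee499b0001194e34023b27169705d7095f38070c64cc6de18b) (.leaf 0))) (.node (.node (.leaf 0x10c240c900000e6227a5084b08d504562c48a65604476170a2cb) (.leaf 0)) (.node (.leaf 0x520131230000264d4915378d1ea10434c02332da0ef783734180) (.leaf 0))))) (.node (.node (.node (.node (.leaf 0xf7340c60000027e0861086008a684762c1eb72504473a7b2214) (.leaf 0x458818ea000032a81e5924b41a9105126d4bd5ce4bf79f51832d)) (.node (.leaf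 0x16b42bb20001166e2cf81f450ad384944c11705b6da5c82c7621) (.leaf 0))) (.node (.node (.leaf 0x2203340200010be81be422020ec104750407870323e02032d124) (.leaf 0)) (.node (.leaf 0x13ae0860000022b925881dce0a7505d0ca02c49547d78b18055a) (.leaf 0)))) (.node (.node (.node (.leaf 0x55629290000071615be15bd04e484d40e47870545d2f062128f) (.leaf 0x4cfa3f4100013df835e218011cb68556060eb7243d74e1113262)) (.node (.leaf 0x15c5502b00001c513f323efd0ab404b7ad69f50105230d7d968a) (.leaf 0))) (.node (.node (.leaf 0xf913f54000110fd2d012d0008b18436081a53ba36455f124149) (.leaf 0)) (.node (.leaf 0x3172d4b000029f73b1b4bd404a284f46b6342483644b53332cb) (.leaf 0)))))) (.node (.node (.node (.node (.node (.leaf 0x496627850001016402e404d21c4604d3e52d11827ce4ea28f180) (.leaf 0x486e3e9a0000303c33fe4f171c2505d5f35b9182631347786180)) (.node (.leaf 0x514019ae00011502347d29b51e8504127e7b12a25bd05d6de70a) (.leaf 0))) (.node (.node (.leaf 0x417d2f8f00000aae1f081f0718e585b49d8053d06e47ae00055a) (.leaf 0x7902d0a00004bb2539c4e36067484146749f70530504a33528f))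 (.node (.leaf 0x1ff6236f0001210c332b268b0e5784d38178718571217f55a049) (.leaf 0)))) (.node (.node (.node (.leaf 0x39d40c0b000005e8127f127e169684912261b1e072a71328f428) (.leaf 0x42bd2e5800003ac55244313d1a3385b482551764121401586333)) (.node (.leaf 0x3199002c00011ac91a243d4714518530037027251d74fa55a734) (.leaf 0))) (.node (.node (.leaf 0x364c2bd700000fb22a621f8e162605944e47552a1024971132cb) (.leaf 0)) (.node (.leaf 0x165026cd0001281c462a1af90ac58413d265957171978970a786) (.leaf 0))))) (.node (.node (.node (.node (.leaf 0x2f1f16620000039e0bd20bd112e185f22b15c6277d577a180518) (.leaf 0x188e3358000135303d4511110c3405d4f525e6b76f62503337b2)) (.node (.leaf 0x438f0373000117da07db39001a5105f0512d50c375311a1562cb) (.leaf 0))) (.node (.node (.leaf 0xb073cc000000d2524de24dd06e204f5d02095df16b33870b6de) (.leaf 0)) (.node (.leaf 0x17570bc70000247b3aa347ba0ae484f11b45971b50b7077d928f) (.leaf 0)))) (.node (.node (.node (.leaf 0xa7b014c0001084318fa18f906c585701c59435349658e32d734) (.leaf 0x25f44446000141b01e4e0b38105784968139665561e0db7bd546))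 (.node (.leaf 0x1f1007e600011dd2411c1c230e448410b92761b76760e25fc15f) (.leaf 0))) (.node (.node (.leaf 0x2a040788000112592bfc2f2912220490af46b3303d736b7d9000) (.leaf 0)) (.node (.leaf 0x3d4411c500002c051fdd4cf818450491bf3ad05f2bd79f156786) (.leaf 0))))))) (.node (.node (.node (.node (.node (.node (.leaf 0x2f843669000000d90303030212f104953a4075ab0d665341d156) (.leaf 0x431c2b5b00002f213c654e961a418594454d22c21d912b5182cb)) (.node (.leaf 0x3b6c09a6000114533345019a16e60590e83133d056118a11355a) (.leaf 0))) (.node (.node (.leaf 0x40ec0c3d00000a120ea91d8e18b70591287423f17d3401000333) (.leaf 0x3b491a0a000048875117533f16e40532894841fd6d529c33524d)) (.node (.leaf 0x386d3a73000120332e9943ca166705b5944447ef15217d7865fc) (.leaf 0)))) (.node (.node (.node (.leaf 0x20b83c030000055410d910d80e928515bb2ed2804d75b25be2c7) (.leaf 0x41eb1cab0001395a1816469e18f50572c971a65a1c17b658655a)) (.node (.leaf 0x72b2c7d00001a0c3c3e3c3d066505745b7c11cf585207295537) (.leaf 0))) (.node (.node (.leaf 0x10241fad00000f091f79290c08c304931f7512a625472c70a621)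 (.leaf 0)) (.node (.leaf 0x603d400000272d49d2351404470415d906d48744a0ba537333) (.leaf 0))))) (.node (.node (.node (.node (.leaf 0x129d3eeb0001030e0a1b0a1a0a3485b5fd61e5fa78432e049113) (.leaf 0x7644205000133eb14ad2cde06670496482bd28e1521867345fc)) (.node (.leaf 0x278b158c0001171f33b637e610b20572166857084684f47d9586) (.leaf 0))) (.node (.node (.leaf 0x25761a3300010c8723812380104784d28c1ce5565d43b07bd12d) (.leaf 0)) (.node (.leaf 0x43d630590000239123fe46f21a5584d4af6a17f229b67e1562cb) (.leaf 0)))) (.node (.node (.node (.leaf 0x2e507a2000107ab02451759049704b0b52102cd3a97815372ab) (.leaf 0x538c343000013fd11cbf53241ed205950916812702458f18b180)) (.node (.leaf 0x1a623fe400011d1009e040350c860456162d319c35b7d628f2c7) (.leaf 0))) (.node (.node (.leaf 0xd785013000011a72e572e5608678517ab13d2e909155f2625fc) (.leaf 0)) (.node (.leaf 0xc7d4acf00002af84b1d49ef082785b7277bb5a32771d241d333) (.leaf 0)))))) (.node (.node (.node (.node (.node (.leaf 0x16f00e62000101f1069c069b0ad78411632784f24e66d82c770b) (.leaf 0x28b4159b0001315f226046a310d384921767c39e3ca7892c7546))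 (.node (.leaf 0x39e70b3c000015b235af35ae169704f10d66d80767d0826de18b) (.leaf 0))) (.node (.node (.leaf 0xb922e9d00010b4c2089208806f28454886a47a428c64d62155a) (.leaf 0x115265200004fed3e97404a046484b3c625576a16850a33524d)) (.node (.leaf 0x7df4640000021e045640a5b067685f6b206f5df1013921136de) (.leaf 0)))) (.node (.node (.node (.leaf 0x306549720001067e141c0deb142704b7021d97445282d7149621) (.leaf 0x3ee41f5f00013c594b2a4320187704931880503d42c7ae0005be)) (.node (.leaf 0x16c450a400011b851fe310ff0ad50497bb2782487226d82c7786) (.leaf 0))) (.node (.node (.leaf 0x3b0a23bf000010542bbd2bbc16e105538b7533a85f5207295537) (.leaf 0)) (.node (.leaf 0xe1b22b1000129080f06277a08818573701ce76e1f43b07bd32d) (.leaf 0))))) (.node (.node (.node (.node (.leaf 0x47af12c30000042e0d830d821af305f1d622403d0221180005fc) (.leaf 0x4bea0ae30000366f37762b3a1c9605510605c6988066d028f70a)) (.node (.leaf 0xba2339b000018963a173a1606f30454f95c207c61b7047865be) (.leaf 0))) (.node (.node (.leaf 0x3c80391500010dc504432649183204157535e11e24a79012d214)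 (.leaf 0)) (.node (.leaf 0x4f353c8f00012559485d14951e4384b5ca7d700f2b105d55a7d9) (.leaf 0)))) (.node (.node (.node (.leaf 0x852089a000008dc1a7f156106868450d257e76e5914ea24d32d) (.leaf 0x20d424ad000043a74b3a51b10e958493a14fd2410c010e53770a)) (.node (.leaf 0x296c39ff00001ea2420a385510e605958973b5c63fd55c7b2518) (.leaf 0))) (.node (.node (.leaf 0x4f6003a60001130130d9129a1e460410543af34c7953de24d180) (.leaf 0)) (.node (.leaf 0x1d9c4a4f00012d0349bd0e450cf185971d7d02f43ac073149025) (.leaf 0)))))))))

/-- part of a table -/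
def entries30 : Trie := (.node (.node (.node (.node (.node (.node (.node (.node (.leaf 0x9ff29920000000f003c003b06b785f41b1d474428154a73470b) (.leaf 0x11b6187500002d861d962f9108f384d2611a64796e52422625be)) (.node (.leaf 0x2f8616ef000113580636318212f104d23a80861242a417180518) (.leaf 0))) (.node (.node (.leaf 0x3a970718000109281b4604c316d184f0a72f611e3f2020428214) (.leaf 0x46004d2c000044d84f31149a1aa104176365862d00b13e586149)) (.node (.leaf 0x30f402af00001f0342884287143784903a7225b123226714970b) (.leaf 0)))) (.node (.node (.node (.leaf 0x1de9242e000104770e5d0e5c0cf605339556529f6a140a1137bd) (.leaf 0x53b8161b0000373933e84abd1ed385122355e2b07300de32d049)) (.node (.leaf 0x2103bcf000018f63aa13aa004828415b67c32ef27c1b15fc428) (.leaf 0))) (.node (.node (.leaf 0x12ec51fb00010e1517f326fa0a370597d562c42312527041d335) (.leaf 0)) (.node (.leaf 0x2a5716c0000025cf2b6647dc122684f23818d3120984987b2586) (.leaf 0))))) (.node (.node (.node (.node (.leaf 0x51cc1bdf00000238078107801e950592ba70227d3fd4fa55a70a) (.leaf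 0x17640e65000132074fd74fd60ae60491632e07391bb3447b2537)) (.node (.leaf 0x34e51a800000160c3620168914d704b2960923e40a723632d333) (.leaf 0))) (.node (.node (.leaf 0x4cbb46de00010b9e21490d461cb38576c6753213415207295049) (.leaf 0)) (.node (.leaf 0x3f3c1f120000224a45bf433e18838593110c050f6db14d15618b) (.leaf 0)))) (.node (.node (.node (.leaf 0x2b9338de000006c914f11448125184756d7463513d77187bd000) (.leaf 0x2e8c358300013d151aa0224212d10595290f230c13d6d82c7000)) (.node (.leaf 0x203a2c9f00001be6364f0bef0e8285545e7ec2115b50435be2c7) (.leaf 0))) (.node (.node (.leaf 0x1b774192000110a92c64264e0ca784f6400b109d3661c87867d9) (.leaf 0)) (.node (.leaf 0x464319aa0001297a4b774b491aa404727e5bb5502520a912d68a) (.leaf 0)))))) (.node (.node (.node (.node (.node (.leaf 0x13525a50001012003ef03ee046584b3b72aa4b35120c2295537) (.leaf 0x10a6268900002fb14ed74ed608d304d3ca43c77c4e33d970a621)) (.node (.leaf 0x1fb237b8000014b0089031600e5584555427c0da34264f486124) (.leaf 0))) (.node (.node (.leaf 0x10e6018f00010a601e4a1b9308d704d0237941a71ba1cc70a621)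 (.leaf 0x40c31a8f00004a1b53e5463518b404729673c01e19658b54668a)) (.node (.leaf 0x6f23a2c00002096313a2c7c065784558d67142554b2a7486333) (.leaf 0)))) (.node (.node (.node (.leaf 0x3cac1b0f0001059f01a311b218330592a58053f5254048000333) (.leaf 0xf323f7900013a0a521f217b08a384560c4aa3f112177a180333)) (.node (.leaf 0x20674cd500001a693cc33cc20e8604f75d20c19c79d6d028f70a) (.leaf 0))) (.node (.node (.leaf 0x48d72fe000000f5c29b129b01c3484f4a705a1b763323170b15f) (.leaf 0)) (.node (.leaf 0x3f9302bf000127a34a2b0984189184703c79143751167e518428) (.leaf 0))))) (.node (.node (.node (.node (.leaf 0x2d902a60000103560afb0afa12b284143001030c7aa69b049586) (.leaf 0x417915040001348a4ff83a6318e585320a28213c43e7c40006de)) (.node (.leaf 0x375b32d00001177f387007c316448574e70335a94300135be113) (.leaf 0))) (.node (.node (.leaf 0x1df534e600010cd6243817400cf684b51b2543fb71518a68a025) (.leaf 0)) (.node (.leaf 0x18084f6d0001240847643ae20c2405179d63807f7173fc3337b2) (.leaf 0)))) (.node (.node (.node (.leaf 0x2672456000107fa10b3182d048704f39a4a931711066e4862ab)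 (.leaf 0x1738351c000040c31de34d970ae385151f5ad07c20c4a21245fc)) (.node (.leaf 0x203c0afa00011d7140ab40aa0e828591084c143f53f5b25fc2c7) (.leaf 0))) (.node (.node (.leaf 0x16e40e25000112002eff1f390ad704915e1814f256a72c2c7621) (.leaf 0)) (.node (.leaf 0x21bd2c9600012b894cad23c30eb285b45e23b5a22c563b70b124) (.leaf 0))))))) (.node (.node (.node (.node (.node (.node (.leaf 0x4e4011eb00000095021a02191e240411c154407f5d423f6217b2) (.leaf 0x4911531100012e9e11cc4dbd1c418437f30a50875aa69c486262)) (.node (.leaf 0x2cd41cf900011402067532af12758492d0672612648653180156) (.leaf 0))) (.node (.node (.leaf 0x3c9701f9000009c61cd31cd2183284f02d55957670965c546734) (.leaf 0x79808660001473d28ba330a06748510ca25576a2393fc33528f)) (.node (.leaf 0x10bc35c200011fd520e410cf08d385952e0843760803022c770b) (.leaf 0)))) (.node (.node (.node (.leaf 0x4fde10380001050c100d100c1e5485d19954c69940c0435fc15f) (.leaf 0x47ca1a6b000038ab4a8a384e1af405529264976d2ed1e412d28f)) (.node (.leaf 0x4c5344e6000119aa3bb51e111ca484768f2593877991a23337b2)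 (.leaf 0))) (.node (.node (.leaf 0x1aaa224c00000eb61fdc285a0c920553675142800d90135be70a) (.leaf 0)) (.node (.leaf 0x23443b9a000026b9132849710ee50495b02b314f0c032b734025) (.leaf 0))))) (.node (.node (.node (.node (.leaf 0x24bd1a40000002c70940093f103385b28d0ac22d3320bf124546) (.leaf 0x4c652d520000335235c333291ca604b46d1b2724796218113262)) (.node (.leaf 0x281e1c92000116c93752375110c185d2c815b60b02b3042c7000) (.leaf 0))) (.node (.node (.leaf 0x2f5e27f200010c3a22cb22ca12e585d3f20e35ab7d566a262518) (.leaf 0)) (.node (.leaf 0x4761039e000023253c9b468f1ae504305363d5df16b7c45866de) (.leaf 0)))) (.node (.node (.node (.leaf 0x297d165c000007631692169110e685b22a5cd5034836e915f518) (.leaf 0x464f1b8700003ee11e6e37b81aa405f2b24b05f747865c12d113)) (.node (.leaf 0x143259705e400011cb323003fbc105184f08d37714102c35f025000) (.leaf 0))) (.node (.node (.leaf 0x51982ab4000111522db21c251e918514381f42416397815372c7) (.leaf 0)) (.node (.leaf 0x1c442a8f00002a734c2349220cc404943377314b32f61d2ab15f) (.leaf 0)))))) (.node (.node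 (.node (.node (.node (.leaf 0x323633ea000001ac05bc05bb146284d5004786a360d6cd6216de) (.leaf 0xc723252000030d239434f5808278454dc27b3f515578b180333)) (.node (.leaf 0x19c5254f00001554351635150c5604b3ad6db0724423de24d180) (.leaf 0))) (.node (.node (.leaf 0x2e363dd300010b001fcc1fcb12c384d5e51d12356ce7612c7546) (.leaf 0x24f095500004d914dc52df3048605f0e32d315a68e0d828f428)) (.node (.leaf 0x34870d440001217c113144fa14d104f1423603b35c2020428214) (.leaf 0)))) (.node (.node (.node (.leaf 0x36752784000106340ae61350162784b3e52865ea13108a29570b) (.leaf 0x3b6f384900013b913bdc221a16e605f56464c13c4a94e168a6de)) (.node (.leaf 0x2c43105100001b2914733dc0126504719b0ce5ab54f5bc41d156) (.leaf 0))) (.node (.node (.leaf 0x9d426a1000110042b1101f306b68493cf21772b3231a068a786) (.leaf 0)) (.node (.leaf 0x10fd26fa000028954ad9429b08d785b3d84f06754d16d82c770b) (.leaf 0))))) (.node (.node (.node (.node (.leaf 0x1854479a000003e60caa0ca90c268496d741e26e28b0c568a124) (.leaf 0x371f03d8000135cd511016cd164185f05764311e29a4636de214)) (.node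 (.leaf 0x1373486c0001183507fd398f0a678476e87951075db4de2625be) (.leaf 0))) (.node (.node (.leaf 0x32c3102700010d77259b259a147404719825658348075570b28f) (.leaf 0)) (.node (.leaf 0x2d20cf2000024f015fe480d049684513a1054377064a324d428) (.leaf 0)))) (.node (.node (.node (.leaf 0x27ff2aa10000089019c219c110b785f43622f1e34594de26212d) (.leaf 0x266b3837000142a6534d4f9b106605756344f32711773a15f518)) (.node (.leaf 0x2ee91b5300001e36419b419a12d70532ae18123546672c2c7546) (.leaf 0))) (.node (.node (.leaf 0x1ba54291000012ac0bfe30420cb204b65709619166163b621124) (.leaf 0)) (.node (.leaf 0x3125514000012c8a4d3d415e144304b7c806d48721710e537335) (.leaf 0)))))))) (.node (.node (.node (.node (.node (.node (.node (.leaf 0x8da09e200000052012f012e06968550ee0e97542721e824d428) (.leaf 0x4111357400012e134e0d4d6518e28435283434b36431a412d486)) (.node (.leaf 0x1aa849ec000013ab2b7a1ba30c9205171267a49b7521b15fc2c7) (.leaf 0))) (.node (.node (.leaf 0x291622fe0001097902d9065410e184d3757650b30f35ff180156) (.leaf 0x3ca6404b000145ef45fe2a80183304d61f6b03e45d147c586335))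 (.node (.leaf 0x12ca3eed00001f6f42ef2c960a360555fd75f68000a62315f214) (.leaf 0)))) (.node (.node (.node (.leaf 0xedd057d000104c20f350f34089585b07b7df3997937147bd428) (.leaf 0x33ca1466000037f951a451a314960551fc26b75c21a4a328f428)) (.node (.leaf 0x3d7728e50000194f0a97094e184784f4082fe74400211a51870b) (.leaf 0))) (.node (.node (.leaf 0x497c283d00010e6227a727a61c468593f849e3010d271328f180) (.leaf 0)) (.node (.leaf 0x47ec32ab0001264d49161bb71af50594e428b4951bf4015866de) (.leaf 0))))) (.node (.node (.node (.node (.leaf 0x2b4a283c0001027e00b2086212450553f84743120d235f025000) (.leaf 0x53d7274d000132a813fd45ad1ed484f3e05323877f15202ab15f)) (.node (.leaf 0xafc3650000016701c0e36c906d585953909251502123632d734) (.leaf 0))) (.node (.node (.leaf 0x8f2b1f143100000be922042203124185f1f90f33305393d5025586) (.leaf 0)) (.node (.leaf 0x1e9346c7000022ba462d02a90e348476c43b42a435e2503337b2) (.leaf 0)))) (.node (.node (.node (.leaf 0x366d4e9f0001071615c015bf162705b7877d076663808a14970b) (.leaf 0x6a1294f00003dfa237b52d706550434117027256454fa55a734))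 (.node (.leaf 0x43d81aaa00011c51392121e71a5585129963f7fa2c112b5182cb) (.leaf 0))) (.node (.node (.leaf 0xb103f68000110fe17a42d0206e284160954b59c38823f62155a) (.leaf 0)) (.node (.leaf 0x1cbe24b2000029f8232b09050cd285d3a22066c31533b82ab180) (.leaf 0)))))) (.node (.node (.node (.node (.node (.leaf 0x3f9e3e340000016504d404d3189185d5ec3e122845f4a151832d) (.leaf 0x110a51380001303c4f194f1808e10557c722007a44630841d6de)) (.node (.leaf 0x4358439f00001503347f347e1a458516716c843125c14d518786) (.leaf 0))) (.node (.node (.leaf 0x226a1f3a00010aae1ee61f090ec705531547d09d6ea6f132d049) (.leaf 0x47ee0ac700004bb64e263ac81af505d1032243ea03611800055a)) (.node (.leaf 0x45e332860000210d220244991a970474e03107853b97e91562ab) (.leaf 0)))) (.node (.node (.node (.leaf 0x2ae006f5000005e91281128012370410a53077594511d241d546) (.leaf 0xbc9300d00003ac62dff524506f40534aa6d258311563b70b24d)) (.node (.leaf 0x3f0c343d00001aca358c3d4818810595095e076e59179f15632d) (.leaf 0))) (.node (.node (.leaf 0x4ad439c700000fb32a642a631c7584958549629f6e8202149025)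 (.leaf 0)) (.node (.leaf 0x4c0713270000281d41d516fb1ca104f1dd2c9104098416734180) (.leaf 0))))) (.node (.node (.node (.node (.leaf 0x33e52d6b0001039e0bd40bd3149704b46e4c32ea0e45626de2ab) (.leaf 0x10f90951000135314360185c08d78530e308437669172c2c7621)) (.node (.leaf 0x34b4065d000017db3902390114d284909662966824457418b295) (.leaf 0))) (.node (.node (.leaf 0x1ee0236a00010d2524df206c0e370413815550831362672957d9) (.leaf 0)) (.node (.leaf 0x3deb072c0001247b0cf847bb18570570a86ac3766a211a51870b) (.leaf 0)))) (.node (.node (.node (.leaf 0x385c2e110000084418fc18fb166485947d14276a15244b62124d) (.leaf 0x104149c3000041b1453a1fbc08c504370f11669229011170a2cb)) (.node (.leaf 0x37631a000011dd3411e411d04a784d4c90e84f226d32a21470b) (.leaf 0))) (.node (.node (.leaf 0xe725792f170000125b2f982f97104785349241122d77e63c02512d) (.leaf 0)) (.node (.leaf 0x489e344400002c0613d219901c3285d50b29731b02a75570b124) (.leaf 0))))))) (.node (.node (.node (.node (.node (.node (.leaf 0x39ff032f000100d903050304169785f04c7fd2cd6d508255a18b)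 (.leaf 0x4d8231f400012f214e97481f1cd20454d11ff7887f03b82ab180)) (.node (.leaf 0x345b1655000014540d5a334614c485722a23d66215061818b113) (.leaf 0))) (.node (.node (.leaf 0x13231df000000a1306c41d8f0a650472ec11f65a7745ff41d55a) (.leaf 0x1b8320fb00014889498033000cb104734364512710a1c82cb180)) (.node (.leaf 0x4ba50d43000020340f6f43cb1c9204b1422c36981ed4765fc70a) (.leaf 0)))) (.node (.node (.node (.leaf 0x41cc20cc0000055510db10da18f405933d6f376d2ed1a412d28f) (.leaf 0x3b0f18290001395c1b474f3a16e105f25959e1cf07704b295486)) (.node (.leaf 0x2aa2273200011a0c08ac3c3f12330453df0e32eb7102df26212d) (.leaf 0))) (.node (.node (.leaf 0x4605d700010f090e4b24e3044604d08c2d108b0404ea28f149) (.leaf 0)) (.node (.leaf 0x3c0c04bf0001272d393849d3182205906b6f37ff7753e612d734) (.leaf 0))))) (.node (.node (.node (.node (.leaf 0x53ce15000000030f0a1d0a1c1ed405d20a0701dc4596182ab7b2) (.leaf 0x1d42c821c12000033ed1c4703aa12710452be0ef10c2ec4de262156)) (.node (.leaf 0x22b0215c000017202f790d4c0ed284135063e1047cc51d18b180) (.leaf 0))) (.node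 (.node (.leaf 0x4f1244b300000c88238204361e41845688299319672227486262) (.leaf 0)) (.node (.leaf 0x1cb033870001239146f32d220cd28414f831c2f22246ba18b180) (.leaf 0)))) (.node (.node (.node (.leaf 0x435b44ae000007ac175b175a1a458576877524122935811562cb) (.leaf 0x247111e000003fd63c6b275710278431c111b22d5d427041d12d)) (.node (.leaf 0x302b040500011d113e344036142305705c23c508160416734621) (.leaf 0))) (.node (.node (.leaf 0x372347c3000111a717170bb616430476db0f85f4674664537333) (.leaf 0)) (.node (.leaf 0xd6442b500002af94a4337e9086704965915e25f7eb5c71245fc) (.leaf 0)))))) (.node (.node (.node (.node (.node (.leaf 0x4ef21eca000001f2069e069d1e358453065b918237824778641d) (.leaf 0x1fc948bd00013161422f49460e560536f27c80ea6dc56024d41d)) (.node (.leaf 0x15d2485a000115b235a32ea10ab48456e74476e21f14b17d9113) (.leaf 0))) (.node (.node (.leaf 0x15b8139700000b4d208b208a0ab38511eb4533f55cf6fe180335) (.leaf 0x688167d00014ff54d364f2d065405122e6a650105a5b25fc113)) (.node (.leaf 0x4d612207000021e10d5845651cc504336237c4102453cb428124)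 (.leaf 0)))) (.node (.node (.node (.leaf 0x19f73d950000067f141e141d0c5784f5e038521372d0ff6de7d9) (.leaf 0x2e4d1b6900013c5a3466504212c505b2af3c67577bb6d870a000)) (.node (.leaf 0x2378393500001b8735383e380ee68515782543fb2d449768a7bd) (.leaf 0))) (.node (.node (.leaf 0x2de31c07000110542bbf2bbe12b70472bd3c83657992df26212d) (.leaf 0)) (.node (.leaf 0x5ea4f7c000029093794112b04f505579e5f12226d32472cb486) (.leaf 0))))) (.node (.node (.node (.node (.leaf 0x3af431bc0001042e0d840c9c16d78494cb59842516a23632d333) (.leaf 0x1b404bf000013675514b22320ca40417420a71dc17023f70b7b2)) (.node (.leaf 0x12f713a6000118963a193a180a3784f1ed3eb3e42975ed41d335) (.leaf 0))) (.node (.node (.leaf 0x4ff90cd300000dc6264a25db1e568531382f72da3d87fc28f180) (.leaf 0)) (.node (.leaf 0x52650b420000255b485f485e1ea604b10f31327f09a0c5113124) (.leaf 0)))) (.node (.node (.node (.leaf 0x48cc33a2000108dc1a811a801c340594fc1506b73946b562115f) (.leaf 0x3ed80097000143a72665538f187485100c3437050861a412d28f)) (.node (.leaf 0x3f04c4600001ea3420b0be904b784174a2b31e225932b734621)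 (.leaf 0))) (.node (.node (.leaf 0x328e0fae0001130230db30da147105d18c70e2222dc0342cb537) (.leaf 0)) (.node (.leaf 0x1a03103011c00002d044c022767144104701864311e0214186de734) (.leaf 0)))))))))

/-- part of a table -/
def entries31 : Trie := (.node (.node (.node (.node (.node (.node (.node (.node (.leaf 0x3cf3428b0001000f003e003d183584765457062d0933bd586295) (.leaf 0x6750cbc00012d864dc01846064784b13567917223a781537335)) (.node (.leaf 0xef349c9000013592e0e3183089784770f4f18077c33d50252ab) (.leaf 0))) (.node (.node (.leaf 0x404f4bcd000109291b481b4718a405f73e73c01e5271be546113) (.leaf 0x21ec2767000144da215953a60eb70593e224438414343d2cb049)) (.node (.leaf 0x1511142c00011f0324f112870aa18431f85ad7b410374d124295) (.leaf 0)))) (.node (.node (.node (.leaf 0x15f653fc000004780e5f0e5e0ab684d8096302d273f30a7b2214) (.leaf 0x29f000e60001373916b84d4e10f68410155cd50353329415f156)) (.node (.leaf 0x1e0729c3000118f61d2d3aa20e2404f4210bb5167124b53337b2) (.leaf 0))) (.node (.node (.leaf 0x277f1acf00000e1626fc26fb10a785f29b7ce22d77e67712412d)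 (.leaf 0)) (.node (.leaf 0xe834fec000125cf44a72a0708910477a87291e04a73d5025428) (.leaf 0))))) (.node (.node (.node (.node (.leaf 0x2cff24db0000023907830782127685f3a55e364769073a7b2518) (.leaf 0x32c01cf000013208139a2c8814740412d012535635409762124d)) (.node (.leaf 0x84b40f60000160d363a2f4306860576312a57d156b4ea28f32d) (.leaf 0))) (.node (.node (.leaf 0x2201fa400000b9f214b214a048304131f1bb68b10546455a2ab) (.leaf 0)) (.node (.leaf 0x3a4703420001224a2ac2201b16c404f04e0865f720861818b113) (.leaf 0)))) (.node (.node (.node (.leaf 0x33991193000106c914f314f214928531ba2ed0cd45f4765be32d) (.leaf 0x20f250e434600003d18529d4d8f104105d6692a96aa8087187bd000)) (.node (.leaf 0x1884e5d00011be63eb835f6047405177f6421fd0654da33524d) (.leaf 0))) (.node (.node (.leaf 0x4f423b49000010aa2a842c651e440455a550b51643a12a5fc15f) (.leaf 0)) (.node (.leaf 0x6ed00b30000297c4b7848d7065705b00e12e0b4125781486335) (.leaf 0)))))) (.node (.node (.node (.node (.node (.leaf 0x38734b4e0000012103f103f0166784773270e32863e1c82cb5be) (.leaf 0xd6a128700012fb53047226508670551d14407ef2046772625fc))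 (.node (.leaf 0x3ebe3fbe000114b033f033ef187285d61171268d34f1e4546486) (.leaf 0))) (.node (.node (.leaf 0x487515a600000a610ac61e4b1c2584b2192dd7883d179c2cb180) (.leaf 0x1c3b1d8300014a1e36ca30650cc28572de06512755134a18b180)) (.node (.leaf 0x3c9e2c8d000120963c184431183285d45d4f35761d758b546734) (.leaf 0)))) (.node (.node (.node (.leaf 0x33ce3bdc000105a011b411b3149605d5b858a2281ae0cf28f32d) (.leaf 0x1e62253b00003a0d4e132c450e270453ac63209d6ea545295049)) (.node (.leaf 0x4e63169c00001a6a2bd7016a1e2504723053d59b4410342cb41d) (.leaf 0))) (.node (.node (.leaf 0x27164dfb00010f5d29b329b210a284d7765c060b0e34b1049000) (.leaf 0)) (.node (.leaf 0x3d23514a000027a43bfa43b418430477c84f53ed0a04a1518621) (.leaf 0))))) (.node (.node (.node (.node (.leaf 0x22ab4a1c000003570afd0afc0ed20577176e36dd0bc2982ab180) (.leaf 0x2c470a830000348b50ad4e1c126504f0fe3dd10c0ca78b41d518)) (.node (.leaf 0x188f2efd00001780387238710c3405f48f56f07f7171a23337b2) (.leaf 0))) (.node (.node (.leaf 0xf6a27c300000cd705e7243908a60553eb34b7ff1c92d815f734)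 (.leaf 0)) (.node (.leaf 0x41da4719000024094766476518f48556ca55963767a65c54624d) (.leaf 0)))) (.node (.node (.node (.leaf 0x4af1349a000007fb0ac0182e1c7684351254e2f47d80c568a7bd) (.leaf 0x6ba00b6000140c551f94a5b065585500e3f83532fb4cc55a734)) (.node (.leaf 0x20014e1800001d72391040ac0e810437793c219c79d4a66de70a) (.leaf 0))) (.node (.node (.leaf 0x3ba72dde000012012f0025b616f304f47572603d1056ad2145fc) (.leaf 0)) (.node (.leaf 0x2a86510100002b8a4cb5472a123204d7c305630c7f66ed049586) (.leaf 0))))))) (.node (.node (.node (.node (.node (.node (.leaf 0x2387340c00010095021c021b0ef104f50462025779126a149025) (.leaf 0x307d23a200002e9f46434e52142785b3892aa2a67802d7295621)) (.node (.leaf 0x14b049d20000140332b132b00a9384171008c80741a24b02518b) (.leaf 0))) (.node (.node (.leaf 0x2e1e4f87000109c602f31cd412c185d7a03ec5f86313d92c7586) (.leaf 0x38fc09910000473e4a53318616778590e71754796842e72cb5fc)) (.node (.leaf 0x501d0b6600011fd62c0343651e6185b1122752f41815ae214025) (.leaf 0)))) (.node (.node (.node (.leaf 0x78b4f0b0000050d100f100e067405779457237404f23433528f)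 (.leaf 0x21e24166000038ac51d545e70eb704563d21b09d5ee704786049)) (.node (.leaf 0xd2325ad000119ac3bb73bb608650473b76c27e809241741d6de) (.leaf 0))) (.node (.node (.leaf 0x11850b400010eb623d3285b04648517be2324b83be54333528f) (.leaf 0)) (.node (.leaf 0x44e94c3e000126b90df940711a7705374975d3280860265865fc) (.leaf 0))))) (.node (.node (.node (.node (.leaf 0x51124e89000102c7094209411e8184578444d3fa4df71c4862c7) (.leaf 0x5672b19000133522d121abe04e504f4412ba7e4138034786537)) (.node (.leaf 0xb614853000016ca37530f5006e50436e72961cf5d2283786486) (.leaf 0))) (.node (.node (.leaf 0x1c16251900010c3b03c122cc0cc184d3aa56370322417432d262) (.leaf 0)) (.node (.leaf 0x288c158500002327469019f510d10592164677084415c82c7586) (.leaf 0)))) (.node (.node (.node (.leaf 0x7f153ba000007641694169306778438034f75217705b42145be) (.leaf 0x577190600003ee249da474f04e584f2712f54b364340d786486)) (.node (.leaf 0x3359150e00001cb42e520192148685320a7e015a6877f828f428) (.leaf 0))) (.node (.node (.leaf 0x16812416000011532db317cc0ad104339427824806e1112c72cb)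 (.leaf 0)) (.node (.leaf 0x537f20d000012a74115e419c1ec585f33f0e62e142402032d124) (.leaf 0)))))) (.node (.node (.node (.node (.node (.leaf 0x5229363f000101ac05be05bd1ea30535357d038452e0731497d9) (.leaf 0x44b63e1e000030d5462b3d3f1a7284d5e96f607d64e1be12d537)) (.node (.leaf 0x323f1eb40001155435183517146285f3052086a36c72316216de) (.leaf 0))) (.node (.node (.leaf 0x12b213ae00000b011f7219840a358451ed7da62d187677124295) (.leaf 0x775127000004d94537c5385066784b1d009332862932b2145be)) (.node (.leaf 0x149a2cff0000217d3b1f44fb0a918554667cd3994463d57bd428) (.leaf 0)))) (.node (.node (.node (.leaf 0x19e721ba00000635135213510c5704f35a68e2b06f046355a049) (.leaf 0x41fe2aaf00013b92429529af18f585d4367b32375fe4e258655a)) (.node (.leaf 0x8a0296e00011b293dc23dc106930414157022cd57e4fa55a18b) (.leaf 0))) (.node (.node (.leaf 0x17ef41a2000010052b120f7c0af605f6410df25d78718e15f486) (.leaf 0)) (.node (.leaf 0x3852ada000028961e3c1c6304b204b43a6424122934da3352cb) (.leaf 0))))) (.node (.node (.node (.node (.leaf 0x380f2177000103e60cac0cab166105f35453d7723601c82cb486)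 (.leaf 0x53b11f6c000035ce42c02a7e1ed384331a6d92b012f1ee32d049)) (.node (.leaf 0x3dae1d1b0000183639903989185305d2d33e11e25424a1518621) (.leaf 0))) (.node (.node (.leaf 0x1294176600000d78259d259c0a348492463bf5fa54469b049113) (.leaf 0)) (.node (.leaf 0x42c61910000024f137cd045f1a3404d27202942d52b1be12d113) (.leaf 0)))) (.node (.node (.node (.leaf 0x10c028de0000089119c419c308d504140776b0062896192c7786) (.leaf 0x2c9214bf000142a91f2749a712718452048016121d3677124156)) (.node (.leaf 0x4ef80cd700011e373ea63eb81e358511383f92da7b879c2cb180) (.leaf 0))) (.node (.node (.leaf 0x1373476000112ac12d33043046584f5101df73946509f149486) (.leaf 0)) (.node (.leaf 0x43413b4e00002c8b25e332581a450435a56eb006016047518786) (.leaf 0)))))))) (.node (.node (.node (.node (.node (.node (.node (.leaf 0x48d44aff00010052013101301c3484972a7631762880756217b2) (.leaf 0x154a09e000002e14404b2ddd0aa40550ee0565af73d6ed04968a)) (.node (.leaf 0x11a1f9b000113ab0b683226046485531e6346375e94b533324d) (.leaf 0))) (.node (.node (.leaf 0x181c49a40000097b1c0f1c0e0c2485970c25516c6f43fc3357b2)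 (.leaf 0x22ce393d000145f242d033140ed405d57861114b6ab74c2ab7b2)) (.node (.leaf 0x47fb37e800011f7019cc42f01af585755840313c6df7e200055a) (.leaf 0)))) (.node (.node (.node (.leaf 0x1d443fe8000004c30f370f360ce50496164f70120d95b42147bd) (.leaf 0x75f5214000137fb320c2d9e066685f7d81e75bf2f661311355a)) (.node (.leaf 0x4f8212e0000019502e813b281e510451d80460116523ef537262) (.leaf 0))) (.node (.node (.leaf 0x1e4830a400000e6327a8046d0e260514b71c40876a82ad113262) (.leaf 0)) (.node (.leaf 0x3db800ae0000264e49184917185385100d6d75ea5cf15d156621) (.leaf 0))))) (.node (.node (.node (.node (.leaf 0x38fb46e60000027f0634086316778576c72ba3ee6a70347865fc) (.leaf 0x27172a6a000132aa3bff2d8e10a284f4305b314179536a049000)) (.node (.leaf 0x24d4191e000116702d742783103684927278c1412713c115f586) (.leaf 0))) (.node (.node (.leaf 0x376347e100010bea2206220516460476df0686514a47d628f295) (.leaf 0)) (.node (.leaf 0x7aa4f09000022bb462e2e4b067505579442f77219b545149537) (.leaf 0)))) (.node (.node (.node (.leaf 0x26a73a610001071715c215c1107204f59301f6d63ec7077d9156)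 (.leaf 0xb2c2be000003dfc287f409506e305944f0673ee21279c7865fc)) (.node (.leaf 0x48b2156100001c523f331cc81c3384521212c3844150342cb049) (.leaf 0))) (.node (.node (.leaf 0x26ae0faa000010ff2d042d03107205d18c57a6d66104b17d9156) (.leaf 0)) (.node (.leaf 0x75d2c76000129f81e74127a066685b45b31a1b85850c568a6de) (.leaf 0)))))) (.node (.node (.node (.node (.node (.leaf 0x53510ab80001016504d604d51ec48431026842a419d61d2ab15f) (.leaf 0x4eab1b040001303e26b64f1a1e330572a52f53a42ce034786049)) (.node (.leaf 0x1cae334500011503136d32550cd205d4f30706dd74f6182ab41d) (.leaf 0))) (.node (.node (.leaf 0x2258393e00000aaf1f0b1f0a0ec48515786a714a47161d2ab15f) (.leaf 0x367138b100014bb929d853c6162784356b10d3767e5265295621)) (.node (.leaf 0xad00bda0001210d0b850eb306d484111c5935fa5ec22618b68a) (.leaf 0)))) (.node (.node (.node (.leaf 0x438e2164000005ea128312821a5105d3523687f229a7db1562cb) (.leaf 0x36f24e2600013ac627d951bc163784577b48e2a673609f295621)) (.node (.leaf 0x3812f2800001acb3d4a3d4904b204349356a2c238f70d335786) (.leaf 0)))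 (.node (.node (.leaf 0x173149da00010fb32a6504d60ae384371037807c41a1ec1245fc) (.leaf 0)) (.node (.leaf 0x416b3e0d0001281d4a81495618e50575e86a82374a77b75866de) (.leaf 0))))) (.node (.node (.node (.node (.leaf 0x43fc0f190000039f0bd50b111a578591734212a633a178518621) (.leaf 0x15de299f00003532359830db0ab485d41b7b95ac0796ed7d968a)) (.node (.leaf 0x527b1345000117db17331aec1ea68571df3114104533c7113262) (.leaf 0))) (.node (.node (.leaf 0x3373328a00000d2624e124e014878474e046a7480af34555a18b) (.leaf 0)) (.node (.leaf 0x223d0af90000247c47bd47bc0ec285b1084b96dd0bc5742ab180) (.leaf 0)))) (.node (.node (.node (.leaf 0x3ae09270001084418fe18fd04b305d0df52c77c6c6207149621) (.leaf 0xbb81393000041b232c2492506f38511eb3917ac05c43d2cb5be)) (.node (.leaf 0xb803cce00011dd420e5411f06f20415d07d307a67109770b55a) (.leaf 0))) (.node (.node (.leaf 0x202e223a0001125b215e2f990e8205d36650b3fa70c0135fc70a) (.leaf 0)) (.node (.leaf 0xa581c6000002c074c1f360506c48512c404f0f04604502ab68a) (.leaf 0))))))) (.node (.node (.node (.node (.node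 (.node (.leaf 0x50b93fb2000000da030703061e728536112553cc1d13fc335025) (.leaf 0x23ac4fdd00012f233ded29e40ef20597a76a538053f24e3337bd)) (.node (.leaf 0x94852e1000114543348334706a60517ee0fc65633d18a113786) (.leaf 0))) (.node (.node (.leaf 0x4fac1b0800010a131d911d901e530592a54133a47824a655a049) (.leaf 0x174d2d270001488e413248650ae405b4693bc3741d865e7d928f)) (.node (.leaf 0x355f35a5000120343c3b233b14e485f52c3b471b0c62f933328f) (.leaf 0)))) (.node (.node (.node (.leaf 0x107853950001055510dd10dc08c78518011d06025296d870a70b) (.leaf 0x40a337380001395e24361a5518b204754b3a25152441e4546734)) (.node (.leaf 0x3f9f517e00001a0d3c413c40189185f7cb79d5ce4bf20e51832d) (.leaf 0))) (.node (.node (.leaf 0x35f2069100000f0a290e290d14f684509b19359c2105c31136de) (.leaf 0)) (.node (.leaf 0x339e51780000272e49d43eaa149285d7cb54c5ce0a80435fc32d) (.leaf 0))))) (.node (.node (.node (.node (.leaf 0x23f922dd0001030f0a1e02800ef685337261a3d36ac18a68a025) (.leaf 0x17c54f25000133f14b6550770af404b7962db76d1bd32e7d928f)) (.node (.leaf 0x1d20ba90001172007962d6004768451175d12377e13921136de)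 (.leaf 0))) (.node (.node (.leaf 0x418e528500010c882384238318f205d7e53a271166d6b8546537) (.leaf 0)) (.node (.leaf 0x31ba3a570001239246f441c814538555924ee423565227537335) (.leaf 0)))) (.node (.node (.node (.leaf 0x1cad45fa000107ac0246175c0cd205b6ab5e912755151d18b180) (.leaf 0xda7157a00013fd853114347087504f2155f07a41b61321806de)) (.node (.leaf 0x4db904f000001d12288540141cd385306f0d414c44f62f32d7d9) (.leaf 0))) (.node (.node (.leaf 0xec531a7000011a82d5d2e58089504b4c95025ce5f524b7bd428) (.leaf 0)) (.node (.leaf 0x312e3fc200012af922c30ee1144305d61419966c33b2a7486333) (.leaf 0)))))) (.node (.node (.node (.node (.node (.leaf 0x119621a5000101f206a0069f08f184d35922007a27c77a41d55a) (.leaf 0x44231adb000031643dd94f9a1a6204729d6f01cf58580412d537)) (.node (.leaf 0x15e04f26000015b3348135b00ab60417962e07ed48e3447b2734) (.leaf 0))) (.node (.node (.leaf 0xba2dc400010b4d208c00c204558554743854571753456de214) (.leaf 0x1b3824b300014ff64f6145aa0ca28513a223a6a915344b70b262)) (.node (.leaf 0x48fa4721000121e233801ee71c358556cb1282da47b17b2cb41d)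 (.leaf 0)))) (.node (.node (.node (.leaf 0x2c3e12ba0001067f1420141f126285d1d55d45dc43c7477d9518) (.leaf 0x11854fee00013c5b357147aa08f104b7a87965df28c65341d55a)) (.node (.leaf 0x32e2102100011b873e393e08147704519804011d49940d2cb5be) (.leaf 0))) (.node (.node (.leaf 0x2ac3191c000010552bc12bc0123604727271f3306e730a15f000) (.leaf 0)) (.node (.leaf 0x348d37da0000290b46a9266c14d105b55757c5153973cb32d734) (.leaf 0))))) (.node (.node (.node (.node (.leaf 0x424e9625070000042f0d860d851e3284d3a94ac7033e922c621262) (.leaf 0x46253d870001367628e44a211aa204b5de4a057639117a546214)) (.node (.leaf 0x20d343080001189735eb3a1a0e9584766127c69866364f48670a) (.leaf 0))) (.node (.node (.leaf 0x59b0d0a00010dc604a1264b04f285713b55749521033870b6de) (.leaf 0)) (.node (.leaf 0xbe60e220001255b14bc479006f504d15e0b13a83481c8786486) (.leaf 0)))) (.node (.node (.node (.leaf 0x139f4643000008dd1a831a820a7485f6b21c271b2397477d928f) (.leaf 0x2e861322000143a82d81539012d104d1dd1893120983d970a586)) (.node (.leaf 0x427d027d00011ea3420d420c1a2585b03675d0192b3026586149)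 (.leaf 0))) (.node (.node (.leaf 0x1b422d0000130330dd30dc044485764a4c25ac3c30c95be113) (.leaf 0)) (.node (.leaf 0x2b27136900002d05182d2035124304f1e563939f51f777025546) (.leaf 0)))))))))

/-- part of a table -/
def entries32 : Trie := (.node (.node (.node (.node (.node (.node (.node (.node (.leaf 0xd202db4000000100040003f08650414730d15bf74927018055a) (.leaf 0x64e333100002d872714336a064605d4f10686512f50d828f149)) (.node (.leaf 0x37583e9c000113593185318416448515f363a6e20bb05e5fc68a) (.leaf 0))) (.node (.node (.leaf 0x49d50f0b0000092a1b4a1b491c5484b1717282a428805e5be7b2) (.leaf 0x3f94f1d000144db50b02d2604b785379574e1e238b5ae734621)) (.node (.leaf 0x5181147300001f0431a342891e910431fe1c149b5666be4862c7) (.leaf 0)))) (.node (.node (.node (.leaf 0x25de3ce5000104780e610e60105585d5d242a33479e60a025000) (.leaf 0x337b40d20000373a400a47a9148785762e17331701841855a18b)) (.node (.leaf 0x1f5730fa000018f728a23aa30e4684f4bd65f0ea5240cf24d41d) (.leaf 0))) (.node (.node (.leaf 0x2048162100010e1626fe26fd0e850512240a53fa70c69c48670a)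 (.leaf 0)) (.node (.leaf 0x122d2306000125d022c748b90a2505b37733908b2dd0b2262295) (.leaf 0))))) (.node (.node (.node (.node (.leaf 0xebb40eb000102390785078408938576304e578561f35f0252ab) (.leaf 0x28a61e7e0000320b4f73282a10d304d2fd7941e35e34d670a12d)) (.node (.leaf 0x4ec42b660001160d363b0a121e340494461620fd61e6b570b15f) (.leaf 0))) (.node (.node (.leaf 0xc0405da00010b9f038d214c082404908c4885af54b3b104968a) (.leaf 0)) (.node (.leaf 0x1d8d22430001224b0c0345c00cf105b36724c1e64bd2d7295025) (.leaf 0)))) (.node (.node (.node (.leaf 0x16e526bc000006ca14f514f40ad704b3d17a905b4841452c7621) (.leaf 0x1c72ac400003d19389a50c1047604f43926f13c7de39268a6de)) (.node (.leaf 0x46df008500001be73eb910eb1ab485f00b3660f020980412d68a) (.leaf 0))) (.node (.node (.leaf 0x23a53ecc000110aa2c672c660ef204b5f96a23804b250a3337bd) (.leaf 0)) (.node (.leaf 0x4cf404450001297f0f3e4a7c1cb68490634616ae3e82ad68a262) (.leaf 0)))))) (.node (.node (.node (.node (.node (.leaf 0xfa7467c0001012103f2007908b304f6bc5f03f15d1132180335) (.leaf 0x40fc18bd00002fb64ed94ed818b78592696407dd530026000335))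 (.node (.leaf 0x128c51f5000014b133f101410a340597d53bc5f776330d7d968a) (.leaf 0))) (.node (.node (.leaf 0x1700077d00010a611e4d1e4c0ae10410ae65213c16b2f31806de) (.leaf 0x1dc7080a00014a22408a4b820cf504f0bc5e814f2d54167347bd)) (.node (.leaf 0x330d15d1000020974432440e148205b21d02d00559103b5be32d) (.leaf 0)))) (.node (.node (.node (.leaf 0x50f7309d000005a111b611b51e7684f4b65423cc7ab095113025) (.leaf 0x401c370e00003a0e4cd349e018a18595477423ce296026000149)) (.node (.leaf 0x178604ce00011a6a2a0d06f10af104d06c7975bf3fe5bc18055a) (.leaf 0))) (.node (.node (.leaf 0x2e804e6600000f5e29b529b412d10417802785f841b1112c7586) (.leaf 0)) (.node (.leaf 0x34290c2d000127a4415542ba14c20531267737d24db61d2ab149) (.leaf 0))))) (.node (.node (.node (.node (.leaf 0x7d82eb90001035700f10afe067685148a5c57a428503f68a6de) (.leaf 0x32df4c390001348c4ab72e63147485f74949a6370862f070b28f)) (.node (.leaf 0x4a114232000117802bcd0c721c6184364b1f325748a32b734025) (.leaf 0))) (.node (.node (.leaf 0x254238b900010cd703f5243a104504556b52335d0247777bd586)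 (.leaf 0)) (.node (.leaf 0x4e7c39620000240a472e47671e2585957b1670720232e7786180) (.leaf 0)))) (.node (.node (.node (.leaf 0xb320419000107fb1830182f06e384506064503d3571c82cb5be) (.leaf 0x3f074b68000140c84bb050ad188104f7362d42ef32147a518428)) (.node (.leaf 0x1384377700011d7240ae40ad0a7404954f5b658329d69b7d928f) (.leaf 0))) (.node (.node (.leaf 0x46fa1e25000112011d4d1a621ab78552f53e242554b7e2000333) (.leaf 0)) (.node (.leaf 0x46649c200002b8b4cb62a0e04c504d70f10106473f17432d214) (.leaf 0))))))) (.node (.node (.node (.node (.node (.node (.leaf 0x3118143700000096021e021d14418511f94567ed6062406de734) (.leaf 0x53461a7200002ea03a08441e1ec404d2930a407f5d461818b7b2)) (.node (.leaf 0x1d410f890001140432b332b20ce50431884d52a07621cd214025) (.leaf 0))) (.node (.node (.leaf 0x1ae938f7000009c71cd508450c960535701e52b475256024d2c7) (.leaf 0xb4853420001473f37c9459406e40517f61253566d509762124d)) (.node (.leaf 0x658333600001fd710043c5506468514f13253d622a3de28f295) (.leaf 0)))) (.node (.node (.node (.leaf 0x4fa234cb0000050e101110101e530455195f314c26117f6de049)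 (.leaf 0x46e4201d000038ae2cac31521ab704932975d66c49c026586335)) (.node (.leaf 0x3d1f0b52000119ad3bb82796184185f1101f272b7c167e5182cb) (.leaf 0))) (.node (.node (.leaf 0x464e49b000000eb7285d285c1aa405d70e30342d4ac7dc12d113) (.leaf 0)) (.node (.leaf 0x65f4083000126ba2d634972064685f62524f3580666d024d295) (.leaf 0))))) (.node (.node (.node (.node (.leaf 0x108a2c6a000002c8094307c808d10554594225710854d670a2cb) (.leaf 0x1ad9271900003353306a4f690c958533dc1c149b7526be4862c7)) (.node (.leaf 0x2ae82397000116ca375428d312370513884072eb24965341d546) (.leaf 0))) (.node (.node (.leaf 0x3c10130a00000c3c22ce22cd18228411da6577ed28902712d734) (.leaf 0)) (.node (.leaf 0x52fc1ab900012329469246911eb685929a41e26e62c0c568a124) (.leaf 0)))) (.node (.node (.node (.leaf 0x3cbd3a540001076416961695183385b5922c54231c47ae000335) (.leaf 0x4c28028300003ee3475205411ca305103710f0895c908a149049)) (.node (.leaf 0x2c5023d000001cb60a6a3fbd126584138e09a10c0ca2f341d518) (.leaf 0))) (.node (.node (.leaf 0x1fd6488700011153057d2db40e5684d6eb44959b01b1e824d180)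 (.leaf 0)) (.node (.leaf 0x21125dc00012a750fbb425104828433bc63a4e81b005e5fc428) (.leaf 0)))))) (.node (.node (.node (.node (.node (.leaf 0x8334ebb000001ad05c005bf068384778c6436077c84186de18b) (.leaf 0x28be3de0000130d54f59268010d385d5e60ca6f97302d970a12d)) (.node (.leaf 0x45e443240001155506ec35191a970496654bd2ea56d79f5182ab) (.leaf 0))) (.node (.node (.leaf 0x499c084000010b0103581fcd1c518590c612e6ae3e869c486262) (.leaf 0x5365389b00004d9852a33f811ec504b5696ff1910b543b428124)) (.node (.leaf 0x199c1d290001217d0bb044fc0c548592d44ec14a3ae05e5be7b2) (.leaf 0)))) (.node (.node (.node (.leaf 0x263f004a0001063513541353106285f0076245031c3707049156) (.leaf 0x3ce222a700003b933b8e14aa183504536f3dc0192bd4e2586149)) (.node (.leaf 0x3d390ad900001b2a3dc3311118438531055e03617e779f15670b) (.leaf 0))) (.node (.node (.leaf 0x2bf604de000110052b142b13125784d06d7a51943b22e47bd546) (.leaf 0)) (.node (.leaf 0x536102ff000028971c5e3c6c1ec50430447e16a915c62f428262) (.leaf 0))))) (.node (.node (.node (.node (.leaf 0x47033129000003e70cae0cad1ae20474c04b07724c80a912d537)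 (.leaf 0x225d4c18000035cf51113efb0ec485b7454802a435e4502ab7b2)) (.node (.leaf 0xb083e8a000018373991052406e20515f23c313c43e0756216de) (.leaf 0))) (.node (.node (.leaf 0x3d98442c00010d78259f259e185185167d53f52a62014d156786) (.leaf 0)) (.node (.leaf 0x172388e14dd000024f2412e29e7167105d2065c21cf34f17b786486) (.leaf 0)))) (.node (.node (.node (.leaf 0x23281e650000089219c619c50ee20512fc4303fb47024e3357bd) (.leaf 0x3ef90096000042ae53724ef3187785300c3425217927ae0005be)) (.node (.leaf 0x453f04f800011e38419c2d641a8385f06f4be7481ad7e91562ab) (.leaf 0))) (.node (.node (.leaf 0x1172018d000012ad2ef2304408e684502359f7391bb73a7b2537) (.leaf 0)) (.node (.leaf 0x3dad1d0600012c8c4d3f4d3e185305b2d13c41a741e26815670b) (.leaf 0)))))))) (.node (.node (.node (.node (.node (.node (.node (.leaf 0xd0715e70000005301330132086404f21e2495832063227d924d) (.leaf 0x43c74af600012e144e0e2d081a5504f72a2cc05f6155811562cb)) (.node (.leaf 0x464c3248000013ac1b9f29c11aa40594db36901e23a3e654668a) (.leaf 0))) (.node (.node (.leaf 0x500314550001097b08bd1c101e610471fb2ae3fb2780b0214025)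 (.leaf 0x2a413a44000045f853b81d47122604359131f3516410cb7b2586)) (.node (.leaf 0x2083cf000001f7142f11bc004820515d402d00544e05e5be428) (.leaf 0)))) (.node (.node (.node (.leaf 0x3e680496000104c3015f0b3418670510692c57ac3be7ae0005be) (.leaf 0x213a421c000037fd4c4f042e0ea28556495576ae80533870b262)) (.node (.leaf 0x13b22d09000019513b2a3b290a758454674006a34725bc41d55a) (.leaf 0))) (.node (.node (.leaf 0xac38833d6000010e63219a27a916710475db00b25d19b347786537) (.leaf 0)) (.node (.leaf 0x3b414f96000126502217262e16e40437a15286ef45850a33524d) (.leaf 0))))) (.node (.node (.node (.node (.leaf 0x242402e3000002800865086410230490421a565526155f124546) (.leaf 0x438112e5000032ab500b500a1a510431d81e172b6321785182cb)) (.node (.leaf 0x17944b39000116721cfd26a80af18497314ed13c1c127018055a) (.leaf 0))) (.node (.node (.leaf 0x757486000000beb22082207066684f6e804d23700c28711355a) (.leaf 0)) (.node (.leaf 0x2ab3156e000122bb4630462f12338472127da39f41567712412d) (.leaf 0)))) (.node (.node (.node (.leaf 0x52193e300000071815c415c31ea18535ec0936dd79e32b21441d)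 (.leaf 0x3db138c800003dff4fa05027185384356c53f5ea50712b156621)) (.node (.leaf 0x1422f1b40be00011c523f341f5712e185762b7e33417695bc180156) (.leaf 0))) (.node (.node (.leaf 0x234d51be000011002a6c2d050ee505b7cf74e14f5e05ae734025) (.leaf 0)) (.node (.leaf 0x50483b2a000029fa311d4bd51e650515a16051ca1c308a1497bd) (.leaf 0)))))) (.node (.node (.node (.node (.node (.leaf 0x32cd09940000016604d804d7147405b0e73c355d77807562128f) (.leaf 0x2e0852860000303f4f1b46c212c10517e53c67574545c870a586)) (.node (.leaf 0xe1721ac000015041fd83480088184f3595fd7d127c2e47bd428) (.leaf 0))) (.node (.node (.leaf 0x4ae6102300010aaf1f0d1f0c1c7604d19809c2f47d861368a7bd) (.leaf 0x309505e300004bba3cbc1cb6143284b08d33a00602150a3332cb)) (.node (.leaf 0x2a4332620001210e3158317c12260474dd12f5f87ad30a15f000) (.leaf 0)))) (.node (.node (.node (.leaf 0x3fba46d6000005eb1285128418938556c61402ea3af47a5182ab) (.leaf 0xc42b3200003ac84c24524604560494430747bc8005cb24d149)) (.node (.leaf 0x5144043c00001acc183e3d4b1e850490623c219c7434646de2c7) (.leaf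 0))) (.node (.node (.leaf 0xb4a2d2500000fb42a672a6606e405546920937427633870b28f) (.leaf 0)) (.node (.leaf 0x3ccb31140000281e4a834a8218340574bf2de13433a0a954668a) (.leaf 0))))) (.node (.node (.node (.node (.leaf 0x49e08e90001039f0bd70bd604d285d0d758408b0d534a2ab149) (.leaf 0x496149780000353525b91cac1c460437023571040983de24d180)) (.node (.leaf 0x24c14987000017dc39031894103604370641535d79555c7b2000) (.leaf 0))) (.node (.node (.leaf 0x15460bd700010d2624e324e20aa404d11c3700f760436a049113) (.leaf 0)) (.node (.leaf 0xefc29e20001247d0ecd47be089785942414e38a57572e7bd2ab) (.leaf 0)))) (.node (.node (.node (.leaf 0x4fb538c30000084518ff06691e5384b56c2190c831f4646de7d9) (.leaf 0x137d44fa000041b450a451110a6785b6905ad07c31c74d1245be)) (.node (.leaf 0x45220bf400011dd50a2e41201a830451215a43173c911a15618b) (.leaf 0))) (.node (.node (.leaf 0x25119090000125c2f9b2f9a048684327149e0c101a71328f428) (.leaf 0)) (.node (.leaf 0x121633fe00012c08424029990a2484d5027e65ac43834d7d968a) (.leaf 0))))))) (.node (.node (.node (.node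 (.node (.node (.leaf 0x42c4b25000000db0309030804c30597304727dd2170de428335) (.leaf 0x9b0041b00002f2522cd379b06b38410606b15086f50c214970b)) (.node (.leaf 0x25ea2ffa000114552d3c334910570554a952d39e2ff777025546) (.leaf 0))) (.node (.node (.leaf 0x3f39137200000a141d931d9218838531e70dc31726b0471562ab) (.leaf 0x89719f3000148944a3f2874069284f2881152283836b65fc32d)) (.node (.leaf 0x16840778000120350b2d3ade0ad10490ae2150c31223022c7786) (.leaf 0)))) (.node (.node (.node (.leaf 0x21644cd00000055610df10de0ea704975d06709d5ee283786049) (.leaf 0x189e4d880001395f38db11360c3485d76c4e66990297fe33515f)) (.node (.leaf 0x53501ef500011a0d0f99316c1ec484130e29d3877f15b72ab15f) (.leaf 0))) (.node (.node (.leaf 0x2175416800010f0a04b3290f0ea784b63d27e2b025b79c7867d9) (.leaf 0)) (.node (.leaf 0x52511ef20001272e0e2a2fc71ea484330e1dd3872e34da33315f) (.leaf 0))))) (.node (.node (.node (.node (.leaf 0x42fb33ae000003100a1f01481a358574fc74f7d21f3147000295) (.leaf 0x26622400000033f248ea4e8d10660453930a632721518e15f518)) (.node (.leaf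 0x243b017a0000172137e72a3e102385702263122d33278d124546) (.leaf 0))) (.node (.node (.leaf 0x20b13e5100000c89238623850e928435ef08f28076c1b15be2c7) (.leaf 0)) (.node (.leaf 0x282f42430000239346f5209b10c305f64c15b22d6303042c712d) (.leaf 0)))) (.node (.node (.node (.leaf 0x50733792000007ad175e175d1e668475522230ec439392113025) (.leaf 0x3a620e8000013fda1cc7394716c704516706976417e39032d333)) (.node (.leaf 0x2f70228800011d124038403712e684136d55362722e6e915f518) (.leaf 0))) (.node (.node (.leaf 0x2e26053d000011a92e5a2e5912c304d07674136551f7612c7546) (.leaf 0)) (.node (.leaf 0x38422da700002afa2f1b2aca166404547244a6ef2be2f070b28f) (.leaf 0)))))) (.node (.node (.node (.node (.node (.leaf 0x26260928b0000001f306a206a110610534050ac5037680bf124156) (.leaf 0xd8415760000316518754f9508740492152886666a736b04928f)) (.node (.leaf 0x44913e16000115b435b235b11a718435e932c65a1b60485866de) (.leaf 0))) (.node (.node (.leaf 0x3f4f222700000b4e208d02a7188505f3641f20c14ee67e518428) (.leaf 0x3af71d7500014ffd4bd44f4916d784f2dd3ff3f149a626428335))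 (.node (.leaf 0x19292754000021e3456623e60c450533e106d2e174510e537124) (.leaf 0)))) (.node (.node (.node (.leaf 0x125d32ba00000680142214210a2685b4e55537ff2c66e915f734) (.leaf 0x124d230400013c5c31ac454f0a2605b3772b172517530b7b2214)) (.node (.leaf 0x3b16484e00001b883e3b3e3a16e184d6e662e07d7a326a149537) (.leaf 0))) (.node (.node (.leaf 0x149619fb0001105528b3261e0a9184d28864a22838860a7bd32d) (.leaf 0)) (.node (.leaf 0x454f384b0001290c4b28277d1a8505f5646f215a5fe7e9156428) (.leaf 0))))) (.node (.node (.node (.node (.leaf 0x359c39060001042f0d540d8714f185957246d398591202149537) (.leaf 0x40e40472000036784231478c18b70490671881460a713e000333)) (.node (.leaf 0x1b9725120001189815c13a1b0cb184f3aa1282da2243472cb180) (.leaf 0))) (.node (.node (.leaf 0x6b232ed00010dc709a7264c06558454e977106436d58055a734) (.leaf 0)) (.node (.leaf 0x3f76179b0001255d170d4860188784d24c4704ef61c7e95182ab) (.leaf 0)))) (.node (.node (.node (.leaf 0x3db3525f000108dd02a81a8418538477e079d37640b67e51870b) (.leaf 0x18df4d8b000043ae52f623b30c3685f76c5d12e13e2137113124))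 (.node (.leaf 0x39343dd800001ea42eeb1e5c16838495e536f50f3c033e53718b) (.leaf 0))) (.node (.node (.leaf 0x36004add0001130330df30de16220417287002c24ab3fc335786) (.leaf 0)) (.node (.leaf 0x51a8336500012d054d844d831e920514f62c36986390e25fc2c7) (.leaf 0)))))))))

/-- part of a table -/
def entries33 : Trie := (.node (.node (.node (.node (.node (.node (.node (.node (.leaf 0x492e533a00010010004200411c4305d7f56430895c94636de049) (.leaf 0x30ad152600002d883a973812143305b20c2bc67561a75021470b)) (.node (.leaf 0x188c1e8c0000135a318628650c340592fe7000fd5f950a33515f) (.leaf 0))) (.node (.node (.leaf 0x233222600001092a1b4c1b4b0ee284536900209e0dc4a8335025) (.leaf 0x266a1d6d000144dc51f44c8f10660552dc6730b327862315f518)) (.node (.leaf 0x47dc109900011f04415b428a1af48591a150463767a29154624d) (.leaf 0)))) (.node (.node (.node (.leaf 0x3b804ec1000004790e630e6216f104178e1c925d7fd265295486) (.leaf 0x9f8066c0000373d51754ed306b78510985174f252978321470b)) (.node (.leaf 0x32ad3601000118f737901063147205b53212579b37c09762155a)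 (.leaf 0))) (.node (.node (.leaf 0x30ca107e00000e1722d31aa3143605519e7e741209b5c368a2cb) (.leaf 0)) (.node (.leaf 0x318f0de3000125d13963472d145105f1583215151a134555a214) (.leaf 0))))) (.node (.node (.node (.node (.leaf 0x302213680000023a0787078614230451e55f65080a04c5734621) (.leaf 0x4b7806740001320b466f4fd81c8685109921219c4e53de28f70a)) (.node (.leaf 0x1de03ff30000160e363c01220cf604161731329f2d50c51137bd) (.leaf 0))) (.node (.node (.leaf 0x490b39d800000ba0214e214d1c410575874fc4d865b3ef486262) (.leaf 0)) (.node (.leaf 0x3877006d0000224c45c14477166784f00954011d20617b2cb5fc) (.leaf 0)))) (.node (.node (.node (.leaf 0x37fe0ec9000106ca0e3e14f6165685d16b53603e0e869524d149) (.leaf 0x236187400003d1a307a1524048384d26117331761417f55a2ab)) (.node (.leaf 0x2aa334ce00001be93ebb3eba123304751979575944c4de26212d) (.leaf 0))) (.node (.node (.leaf 0x11ea0ee7000010ab2c692c6808f605516f3097e456b5a715f486) (.leaf 0)) (.node (.leaf 0x295d1bd0000029804b7a4b7910e585b2ba0ad5c64430b2262518) (.leaf 0)))))) (.node (.node (.node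 (.node (.node (.leaf 0x2abc2e500000012203f403f312338594820241944f974d26212d) (.leaf 0xa7f175500012fb64572450106c585f2451b651575339032d214)) (.node (.leaf 0x43910961000114b133f333f21a518430e40b969270912b5182cb) (.leaf 0))) (.node (.node (.leaf 0x33a41e7200010a6203241e4e14930492fd1bf1bc7215385372ab) (.leaf 0x220b48f700014a26279d4d500ec10576f62dc0da61758e32d124)) (.node (.leaf 0x4c431bfd000120974433379f1ca40472bc7a01dc39412333515f) (.leaf 0)))) (.node (.node (.node (.leaf 0x5b50b06000105a111b811b704f384b1094447ef6db17d7865fc) (.leaf 0x53634f9b00013a0e188f28f61ec50477a164e08740739032d124)) (.node (.leaf 0x261912b100001a6b3cc53cc410618531d513d75818955f262156) (.leaf 0))) (.node (.node (.leaf 0x39db37ea00010f5e14b429b616968575584493996541e824d428) (.leaf 0)) (.node (.leaf 0xc293c16000127a5218b4a2c08250535bd1a53ba54055f124149) (.leaf 0))))) (.node (.node (.node (.node (.leaf 0x2ab05253000003580b000aff12338417e01f02eb33755f262546) (.leaf 0xca131700001348e4db32d1e08350434c61190194b40b2262295)) (.node (.leaf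 0x64436db0000178120d43873064604954151966848b71324d295) (.leaf 0))) (.node (.node (.leaf 0x10734fd00010cd822a5243b046404f51c57237418c25033524d) (.leaf 0)) (.node (.leaf 0x1188508b0001240a4768297f08f10517b965b6a34ee37b41d6de) (.leaf 0)))) (.node (.node (.node (.leaf 0x31ac2a71000007fc180e183114530594320715f454e69c537333) (.leaf 0xc0b4ac0000140c92cb74ce0082405772701f42d2777077d968a)) (.node (.leaf 0x2b28533600001d742cf340af12430517f54833655c972e7bd546) (.leaf 0))) (.node (.node (.leaf 0x2ae1428f000012022f022f01123704365478a2eb57a27a41d546) (.leaf 0)) (.node (.leaf 0x244e3e9400012b8b4c2e4cb7102605d5f333730079e30a15f000) (.leaf 0))))))) (.node (.node (.node (.node (.node (.node (.leaf 0x23ba0af4000000970220021f0ef285510821638053f1233337bd) (.leaf 0x1ab480b0b8a00002ea142d2159b1c220571154892e13e86cd621262)) (.node (.leaf 0x31f506f30000140531c923e0145684b0a52516514a47f828f295) (.leaf 0))) (.node (.node (.leaf 0x32530a85000109c71cd71cd614648470fe4f676a5e922162124d) (.leaf 0x459f1859000147404c5b2c821a9185f25e31075c2e87db15632d))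 (.node (.leaf 0x4886415e00011fd7134243661c3204d63a7b027f7ee23170b262) (.leaf 0)))) (.node (.node (.node (.leaf 0x2fbb0b2f0001050e1012048612f285710b7c762713534d7d9156) (.leaf 0x4bf700ef000138b017b74d991c9684f0157ea2802a90cf24d2c7)) (.node (.leaf 0x3b0b1584000019ae2a423bb916e105721629a25d03a57d295537) (.leaf 0))) (.node (.node (.leaf 0xd83ed300000eb807b1285e04568515fb2f762d1921ab28f149) (.leaf 0)) (.node (.leaf 0x35eb1afa000026bb10cb279b14f60572a33c57a412e13768a55a) (.leaf 0))))) (.node (.node (.node (.node (.leaf 0x195c4604000102c8094509440c468596ac3250f96583de28f180) (.leaf 0x445423d900013353145829ff1a6484938e5046375e929154624d)) (.node (.leaf 0x37200526000116cb0777375516430410744463e419310e486335) (.leaf 0))) (.node (.node (.leaf 0x21153d7000000c3d22d022cf0ea184b5dd01530169d2e7786180) (.leaf 0)) (.node (.leaf 0x2ac74a5d0000232a1e1d24b8123604f71e75f6fa7ce62315f586) (.leaf 0)))) (.node (.node (.node (.leaf 0x309204a40000076507491697143284506a26d4122aa4a83352cb) (.leaf 0x513b1c2000003ee6507940831e828572bf0331b908c0435be2c7))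 (.node (.leaf 0x2a21d9a00011cb609bb3fbe04930452e03481bc20f0ff55a2ab) (.leaf 0))) (.node (.node (.leaf 0x41d74f94000011542db62db518f484f7a13673820570a954628f) (.leaf 0)) (.node (.leaf 0xaa70ce100002a761b290ef806d304f1390e766c4e3020428333) (.leaf 0)))))) (.node (.node (.node (.node (.node (.leaf 0xc872852000101ad05c205c1083404f3fd01f42d1264f47d9113) (.leaf 0x2cdd46ee000130d63f361256127585b6c770f6122ec27a180156)) (.node (.leaf 0x34df41e000001556351b351a14d485f6452065a94893b82ab68a) (.leaf 0))) (.node (.node (.leaf 0x29350f4f00000b021fcf1fce10e284b17e7fb5c644332e7d9518) (.leaf 0x21873ec800014d9a52893a6a0eb104f5f95890727b303478641d)) (.node (.leaf 0x522834280001217e2c703bf11ea305150746d29e18d2021497d9) (.leaf 0)))) (.node (.node (.node (.leaf 0x124c35b600000636135613550a2605952d42e4eb39155c7b2214) (.leaf 0x1c140d5500013b93408f526d0cc184914338e1913a10de428124)) (.node (.leaf 0x3a22373400011b2a091d2dd916c204554b1d566824452018b295) (.leaf 0))) (.node (.node (.leaf 0x3c6b027a000010061b802b1518250570365e16681ac118586295)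 (.leaf 0)) (.node (.leaf 0x17e408950001289722722d780af60490d23321cf4c36e97b2537) (.leaf 0))))) (.node (.node (.node (.node (.leaf 0x2eea32af000103e7011e0caf12d70554e476839f60930470a12d) (.leaf 0xfff2885000135d050d4431908b685f4001eb7251d75a77b2734)) (.node (.leaf 0x4d4230420000183839921ba91cc40454ae1d56b739452018b15f) (.leaf 0))) (.node (.node (.leaf 0x7ee086a00000d7922f825a0067705d0ca38f1072396002145fc) (.leaf 0)) (.node (.leaf 0x2db71f65000124f237da474112b384f31a3eb2eb1c578b41d546) (.leaf 0)))) (.node (.node (.node (.leaf 0x7eb4f060001089219c70278067705779425c11d50032a2145be) (.leaf 0x3d1c25c4000042af4a5d4a6718418593bb3ad05f4d379f156786)) (.node (.leaf 0x12fb126600001e39419e419d0a378571ce3dd5a327778b41d333) (.leaf 0))) (.node (.node (.leaf 0x51422486000012ae197e112f1e8504539d46a3fa48134555a2c7) (.leaf 0)) (.node (.leaf 0x52b80ffc00002c8d44b64d401eb385119356969775f203149049) (.leaf 0)))))))) (.node (.node (.node (.node (.node (.node (.node (.leaf 0x83d2b18ca0001005301350134184305726b4d72a631a47a518621)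 (.leaf 0x13215e300002e152dd82ab6046584521e18f3986d9207149537)) (.node (.leaf 0x2a2c0408000113ad26353227122305905c3397590600b226212d) (.leaf 0))) (.node (.node (.leaf 0xc745100000097c1c121c11045604f69305c3ce5b96d028f295) (.leaf 0x448340940001460150d953b91a710476292243ea5527b70006de)) (.node (.leaf 0x40dd36cb00001f722d84130218b485b5404cd5737d341f12d113) (.leaf 0)))) (.node (.node (.node (.leaf 0x4f59439c000004c40f390f381e4485367157569940c0e25fc15f) (.leaf 0x1a8133e000137fd51a51ee104750511de6e016647d267295537)) (.node (.leaf 0x49bc42e3000119513b2c3b2b1c5385965f2383841394fa55a049) (.leaf 0))) (.node (.node (.leaf 0x63d4100000e6427aa2424044404d5d90c65012976b65fc113) (.leaf 0)) (.node (.leaf 0x425f012e00002651445448f91a2485f01a72d5730bb0a912d68a) (.leaf 0))))) (.node (.node (.node (.node (.leaf 0xf9321ae0000028107c4086608b184735964103e12266a262295) (.leaf 0x1e42ac8000132ac48f7217d04770494394a411d64b32b2145be)) (.node (.leaf 0x2c8b189f0000167336cb36ca12710572647b810c648677262156) (.leaf 0))) (.node (.node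 (.leaf 0x48a9298000010beb03a622091c3305341a00a0c80321ea786049) (.leaf 0)) (.node (.leaf 0x47a03721000022bc463246311af304154921f2e91050265865fc) (.leaf 0)))) (.node (.node (.node (.leaf 0x2b5b396e0000071915c615c5124585757b63933047b718025000) (.leaf 0x4ce12d6d00003e014ba937371cb604346e5a027f6c240a113262)) (.node (.leaf 0x24ce0cda00011c53103e3f35103605d1386ce1417b830a15f000) (.leaf 0))) (.node (.node (.leaf 0x44e0397d000111002d062beb1a7704157c6613281d50485865fc) (.leaf 0)) (.node (.leaf 0x3c32401f000029fb36854aed182384561b7cc7641b27e2586333) (.leaf 0)))))) (.node (.node (.node (.node (.node (.leaf 0x532405850000016704da04d91ec30490803930835c1236428049) (.leaf 0x4a7a19d80000304046c04f1c1c6685528533b2a04673c71137bd)) (.node (.leaf 0x1f00135b00011504348234810e440411e156d0fd7121b15be7b2) (.leaf 0))) (.node (.node (.leaf 0x12d1176300000ab01f0f1f0e0a3684324626111e3f238615f214) (.leaf 0x162a2bea00014bbe29dc43020ac305544f6106750085132c770b)) (.node (.leaf 0x38693b20000021102e7f449a16670535a10673ee7372837865be)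 (.leaf 0)))) (.node (.node (.node (.leaf 0x3a511be8000105eb1287128616c48432bb4805a91a94502ab68a) (.leaf 0x481a25c800013ac8190d06181c228553bb4ac7030d1755621124)) (.node (.leaf 0x17c102da00011acc3d4c24ec0af40430415b658361c3b17d924d) (.leaf 0))) (.node (.node (.leaf 0x36e10f3a00010fb42a68120a163704317c5553ed2c826729570b) (.leaf 0)) (.node (.leaf 0x101f53040001281e4a8410c308c185f7f115b2480d53042c72cb) (.leaf 0))))) (.node (.node (.node (.node (.leaf 0x14a620bd000003a00bd90bd80a9304d33c7272ea3e33b07bd18b) (.leaf 0x12a14d68000035363ee150df0a350437694687bc12c0bf124295)) (.node (.leaf 0x41780acf000017dd2d1b390418e58511037427a419e4010006de) (.leaf 0))) (.node (.node (.leaf 0x24c44ef700000d2724e4062210360497934f97084412947b2586) (.leaf 0)) (.node (.leaf 0x42a033d40000247e19f93aa11a330414ff28b0b406f401586333) (.leaf 0)))) (.node (.node (.node (.leaf 0x29bd1c21000108450275171a10f285b2bf0ae37f08c3b17d9518) (.leaf 0x31a74048000141b44e80411b145304f61f37d3e419366e486335)) (.node (.leaf 0x63d35bc00011dd638ae4121064585b52d71e5152444a655a734)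 (.leaf 0))) (.node (.node (.leaf 0x4e4e2f130001125c2f9c04c71e2405d49222b4ca7e66cd70b7b2) (.leaf 0)) (.node (.leaf 0x4dc4322d00002c093ede4cf91cd40494d57a66b739461d18b15f) (.leaf 0))))))) (.node (.node (.node (.node (.node (.node (.leaf 0x47e01eb000000dc030b030a04c585d02c64e3b66ca48c32d734) (.leaf 0x41671bfb00002f2649e21e1e18e504f2bc6dc1b83837b658655a)) (.node (.leaf 0x2c78425a00001456334b334a126685164e60c10c01734415f518) (.leaf 0))) (.node (.node (.leaf 0x3a420f7600010a141d951d9416c404518740f01e25208e18b68a) (.leaf 0x4c50491b000148964e902c191ca48416fb6c916c4a529c33515f)) (.node (.leaf 0x31ff3df40000203643cc422d145685f5e71b36680d54ea24d149) (.leaf 0)))) (.node (.node (.node (.leaf 0x2ccd28720001055610e110e0127505b3ff09a10c1d365341d156) (.leaf 0x16ca014f0000396039b228c90ad505501c7686927d03d970a786)) (.node (.leaf 0x7c0059200011a0e0d51374b06760410842fd7e83f72ad11355a) (.leaf 0))) (.node (.node (.leaf 0x472c303c00000f0b291005d21ae30594ad44228449e0265865fc) (.leaf 0)) (.node (.leaf 0x41ec1afd0000272f2bab42e618f50592a35c47a428c7ae00055a)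 (.leaf 0))))) (.node (.node (.node (.node (.leaf 0x1c9d4a46000103100a210a200cd185b71d2d031b44262f32d262) (.leaf 0x46130d86000133f314b150781aa18471503727bc39147c000149)) (.node (.leaf 0x3f53491100001722348a37e818858476fb1f20c17c620e51832d) (.leaf 0))) (.node (.node (.leaf 0x1934ff600010c891547238704748477a94e64b82e54b533524d) (.leaf 0)) (.node (.leaf 0x31f80a490000239446f6233614568510f861b7d20885cb28f149) (.leaf 0)))) (.node (.node (.node (.leaf 0x5a11fa1000107ad1760175f04f304331f0152e91052e77865fc) (.leaf 0x23c631dc00003fdc1f4753250ef504d4ce4623d379154a214025)) (.node (.leaf 0x28c437cf00001d13403a403910d504955580314170f1112c7586) (.leaf 0))) (.node (.node (.leaf 0x51e93088000111a92e5c2e5b1e960534b43c024163971324d2c7) (.leaf 0)) (.node (.leaf 0x9a10cec00012afa4c6003c606b304313977505b22308a29570b) (.leaf 0)))))) (.node (.node (.node (.node (.node (.leaf 0x332347b8000101f3008906a314830476da44d3175ca71c48618b) (.leaf 0x1e2b4582000031664f9b426d0e250576a109434c2826ad21441d)) (.node (.leaf 0x3c994424000115b520782456183285367d25b4eb62e41f12d734)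 (.leaf 0))) (.node (.node (.leaf 0x1c490caa00010b4e0372208e0cc40531333a34ca7a76ba2ab7b2) (.leaf 0x2e232f3f000050044f34501612c30474947ab2356d44d62c712d)) (.node (.leaf 0x3e25447f000121e3380609aa186204b6846f307d0d41a412d486) (.leaf 0)))) (.node (.node (.node (.leaf 0x258531350001068014241423105104b4c139635d67260e7bd586) (.leaf 0xa55502400013c5d47c5511506c484b7ad1fb5ac4845742ab113)) (.node (.leaf 0x4b74e7200011b893e3d3e3c04d384f7821c67a264c020428333) (.leaf 0))) (.node (.node (.leaf 0x508f14d9000010562bc32bc21e7105f20638f3cc610600214025) (.leaf 0)) (.node (.leaf 0x123f4ae20000290d4b2943380a2585f7290e301922a66a262295) (.leaf 0))))) (.node (.node (.node (.node (.leaf 0x1a03183d000004300d890d880c8104725b5d219c63f4cc6de2c7) (.leaf 0x1b7f2420000036795028248e0ca785f39500b2137172477867d9)) (.node (.leaf 0x41004b6d00011899081f28c718e20417366f307d46a3e612d537) (.leaf 0))) (.node (.node (.leaf 0x45c744ec00000dc8264d13c91a9504f68f6a175c2994a115632d) (.leaf 0)) (.node (.leaf 0x366e210a0000255e240f3ecf162705d34859e1a707904b295621)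 (.leaf 0)))) (.node (.node (.node (.leaf 0x4d1c31e4000008de1a8515141cc28594d029d6dd15e6ba2ab180) (.leaf 0x38141dc1000143ae4a2d4d8c16618492e516707d68c43d786486)) (.node (.leaf 0x40c827f300011ea4381e09be18b40513f21435f747879012d113) (.leaf 0))) (.node (.node (.leaf 0x471245900000130430e01e371ae28456a217007e30665c12d486) (.leaf 0)) (.node (.leaf 0x1742074300002d064d8536570ae40450ab2e355d80270704928f) (.leaf 0)))))))))

/-- part of a table -/
def entries34 : Trie := (.node (.node (.node (.node (.node (.node (.node (.node (.leaf 0x189c2d8d00000011004400430c3485947073d1b736924e3337b2) (.leaf 0x4011475800012d883d2d18aa18a18436d251b7bc1a87c4000295)) (.node (.leaf 0xc8b2a0c0000135b25003187083405742968550153a7077d968a) (.leaf 0))) (.node (.node (.leaf 0x42b22f990000092b1b4e1b4d1a3384549e5793f14947b6000333) (.leaf 0x22953e5e000144e3216851330ed184b5ef6d970323e43b32d124)) (.node (.leaf 0x9904f4e00011f05428c428b06b28417996c97f229b24e3352cb) (.leaf 0)))) (.node (.node (.node (.leaf 0x2df92222000104790e650e6412b785336402419434e55f262546)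 (.leaf 0x495846930001373e51764fd51c448516c02761b76850e25fc15f)) (.node (.leaf 0x2fba41dd000018f80d143aa412f285564477e0f53967077d9156) (.leaf 0))) (.node (.node (.leaf 0x1b1c1d8700010e17270026ff0ca18592de24412763d79c2cb180) (.leaf 0)) (.node (.leaf 0x459a2cbf000025d248ba03911a918554607560cd5f567e156428) (.leaf 0))))) (.node (.node (.node (.node (.leaf 0x400e336f0001023a009e078818a105d4f67b33ba4db4e2586149) (.leaf 0x2ec019e40000320c3eb640e512d504128618130c7f63022c7586)) (.node (.leaf 0x327a0aa20001160e2d52363d14678551010b107c6291c87865be) (.leaf 0))) (.node (.node (.leaf 0x41074bbf00010ba02150214f18e204f73d71d222258804546537) (.leaf 0)) (.node (.leaf 0x4b9636f00001224d39562ef41c9184d54405527d4c42275372c7) (.leaf 0)))) (.node (.node (.node (.leaf 0x37a6273c000006cb14f814f7165304d3df4ee4234e32a7537333) (.leaf 0x30d315b100003d1c442936d1143684721a19352a6505c31132cb)) (.node (.leaf 0x519c0b2200011be9096b3ebc1e9185910b2ca27d0c733e53770a) (.leaf 0))) (.node (.node (.leaf 0x42ab152f000110ac115b0d7d1a3305720c7cf7dd61a3bd000335)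 (.leaf 0)) (.node (.leaf 0x3a4e1b80000129814b7b279316c405d2b20075f703529818b113) (.leaf 0)))))) (.node (.node (.node (.node (.node (.leaf 0x4b922f7e0001012203f603f51c9184549c6c02b41ed66e53770a) (.leaf 0x1f1549ff00002fb735a04eda0e4484b7157c36996f31b15fc7b2)) (.node (.leaf 0x45d13044000014b233f533f41a958434ae35b22838304751832d) (.leaf 0))) (.node (.node (.leaf 0x155010b000000a631e501e4f0aa48411a50100f056f30d04968a) (.leaf 0x328092d00014a2a4e2746d304a30510df7a160253420314970b)) (.node (.leaf 0x511e2ba3000120983eda14021e8185d44a19967864a2a748670a) (.leaf 0)))) (.node (.node (.node (.leaf 0xc5f3c12000005a211b9003c082685f5bd0f64eb5402d87b2734) (.leaf 0x39b2376100003a0f522039a0169384554e1b02ea3df2a74862ab)) (.node (.leaf 0x3922493300011a6b20cd3cc616830456fd0f82792f766453718b) (.leaf 0))) (.node (.node (.leaf 0xbb13ca600010f5f29b829b706f38435cd3297ac7f56282cb5be) (.leaf 0)) (.node (.leaf 0x155426b5000127a6271b4a2d0aa48493d143a66248436b049113) (.leaf 0))))) (.node (.node (.node (.node (.leaf 0x4b9e200c000103580b010ad01c9185d3265d61b400e6645372c7)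 (.leaf 0x17d208810000349027734cc30af48450d11c271b7f336a7d924d)) (.node (.leaf 0xc88386e000017823875387408340515667311344ac69b049113) (.leaf 0))) (.node (.node (.leaf 0x40d1034500000cd9243d243c18b484304e25b6621a917a12d68a) (.leaf 0)) (.node (.leaf 0x33bd46d40001240b0cc322c8149385b6c60ed2ea4480ba4862ab) (.leaf 0)))) (.node (.node (.node (.leaf 0x40300f48000107fc025f183218a284117e67b7256453f412d734) (.leaf 0x237e3943000140ca3f631be90ee685d5792230ec4701371137bd)) (.node (.leaf 0x51a735e200011d740a0640b01e9204f5300bd2410f30435be2c7) (.leaf 0))) (.node (.node (.leaf 0x10be173a0001120310372f0308d385d24348a1a72c075b70a621) (.leaf 0)) (.node (.leaf 0x4c0452400002b8c4cb8488a04d40416941290f700258f18b113) (.leaf 0))))))) (.node (.node (.node (.node (.node (.node (.leaf 0x1f818d60001009702220221047785126c31d25f23d6357345be) (.leaf 0x4dd507600002ea2140919b404d485b7b85935fa70058f18b113)) (.node (.leaf 0x248821620000140632b532b410320513521f83004243b1049000) (.leaf 0))) (.node (.node (.leaf 0x1205524c000009c81cd91cd80a2404b7df60855023a4d97d968a)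 (.leaf 0xf0f508a0000474244833b7408a105f7b964103e0e82df262149)) (.node (.leaf 0x11152d4c00011fd84367408008e184b46b65b6a336f6fe41d55a) (.leaf 0)))) (.node (.node (.node (.leaf 0x1ed3320c0001050f101410130e368474d24e36a9342613113124) (.leaf 0x13cf2ebc000138b24a364cb20a7605f48a71f39859449815f486)) (.node (.leaf 0x2de21f82000119ae3bbb3bba12b704531d0ef1941f84de26212d) (.leaf 0))) (.node (.node (.leaf 0x4e17531700010eb8285f047a1e2284f7f35576ae11f64d70b124) (.leaf 0)) (.node (.leaf 0x1b7d3da8000126bb497449730ca785b5e12dd14c0b843d2cb049) (.leaf 0))))) (.node (.node (.node (.node (.leaf 0x22c22b26000102c9094709460ed40454421ff4ca2ee3b82ab15f) (.leaf 0x30a529b000133542cba2ce704a20557e657269274e250335786)) (.node (.leaf 0x2d8818e7000016cc3756205412b205126d3bc5f80ee65e7d9586) (.leaf 0))) (.node (.node (.leaf 0xda10f5500010c3d17650fa008750431813d265a5a137b41d6de) (.leaf 0)) (.node (.leaf 0x1dba3bf80001232b469446930cf28555ba5293fb4bd2f9335025) (.leaf 0)))) (.node (.node (.node (.leaf 0x521d3a3500010765169916981ea185b5903e0127339186214180)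 (.leaf 0x35c1125300013ee6519652fa14f40431c91af37454c4da33524d)) (.node (.leaf 0x2cfa46ef00011cb73fbf140412768556c77bf6121d32f17b2156) (.leaf 0))) (.node (.node (.leaf 0x167226bd0001115419a22db70ac78453d17be67549f3042c770b) (.leaf 0)) (.node (.leaf 0x39c11f8000002a774b113b96169604331d07443744d5cb24d32d) (.leaf 0)))))) (.node (.node (.node (.node (.node (.leaf 0x275c12de000001ae05c405c310a68591d778c14139a3c115f586) (.leaf 0x4f9538d1000130d713001b971e5184b56d1f419140e781537124)) (.node (.leaf 0x95c01c6000115562a50111806a685902a31a43110f0c568a2cb) (.leaf 0))) (.node (.node (.leaf 0x3670476300000b031fd11fd016278416d30aa1e252b2d7295621) (.leaf 0x3f97484200004d9b2e7a44f4189184f6e61402287a37db51832d)) (.node (.leaf 0x147a01c3000021803c14252a0a8785502a1576b308f6b402518b) (.leaf 0)))) (.node (.node (.node (.leaf 0x2b8539160001063613581357125104b57548145a13f72e025000) (.leaf 0xad2a0400003b9650514ad9045505b42928a11e2a15626de734)) (.node (.leaf 0x9c042ce00001b2b2e471b5d06b604165b6fd0c324a40a1132cb) (.leaf 0)))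 (.node (.node (.leaf 0x1c0d37f900011006050a2b160cc105b55948d4104ce236428262) (.leaf 0)) (.node (.leaf 0x3c471647000028984adb4ada182404f2292de1342597dc546113) (.leaf 0))))) (.node (.node (.node (.node (.leaf 0x33d105a6000003e80cb10cb014968430853c975c1993de28f32d) (.leaf 0x3ffd4718000035d1492d5068189785b6ca4b279872f0471562ab)) (.node (.leaf 0x1d6419cf0001183831df39930ce60492826fd1cb6eb40a1137bd) (.leaf 0))) (.node (.node (.leaf 0x2da03b1100000d7a25a225a112b30415a00b53651eb6fe41d546) (.leaf 0)) (.node (.leaf 0x22fb4384000024f3109d480e0ed78576703601f746f48c4287d9) (.leaf 0)))) (.node (.node (.node (.leaf 0x347c165100000893121f187714c785922a0095a35de1ee428333) (.leaf 0x530317f5000142af34102a341ec204725530510413a52018b41d)) (.node (.leaf 0x3e8528cf00001e3a35c935dd187104b4068053d04bb7ae00055a) (.leaf 0))) (.node (.node (.leaf 0x535b1af4000012af304630451ec48572a30fb1203bc74c18b7b2) (.leaf 0)) (.node (.leaf 0x29d019ad00012c8d3ce5461210f584127e7ad1ef746435124156) (.leaf 0)))))))) (.node (.node (.node (.node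 (.node (.node (.node (.leaf 0x18b9335600000054013701360c358534f52332da670783734180) (.leaf 0x2a2b18c300012e1511852f18122305726b16f2356d42df12412d)) (.node (.leaf 0x473e04f4000013ae3228064a1ae385d06f3720f44327b60005fc) (.leaf 0))) (.node (.node (.leaf 0x2d0b41290000097d0da31c1312a20576343703120ac36a049000) (.leaf 0x358b412e000146042289470a14f10576346017e423804b149486)) (.node (.leaf 0x5e431a400001f73259c0ad404f50494c939d7e441317d786486) (.leaf 0)))) (.node (.node (.node (.leaf 0x1daf3349000104c40f3b0f3a0cf205f4f325e1ca7562503337bd) (.leaf 0x16d846b3000037ff21c351a60ad58516c211705f6015c82c72cb)) (.node (.leaf 0x3f290287000019523b2e3b2d18830530373ad6077ea79f1562ab) (.leaf 0))) (.node (.node (.leaf 0x300c04bb00010e6427ab0d12142205906b53e7fa66529c333786) (.leaf 0)) (.node (.leaf 0x126108dd00012652491a49190a270430d6672425266653180335) (.leaf 0))))) (.node (.node (.node (.node (.leaf 0x1f34135000010281086808670e458491e106d2e11880ba537262) (.leaf 0x343918ae000132ad1957405f14c28532667787bc0a26ba2ab295)) (.node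 (.leaf 0x39b0097f00011673127636cc16938410e57c61bc2d369c53718b) (.leaf 0))) (.node (.node (.leaf 0x3b1313c300000bec220a175e16e18471f11fa711306154149486) (.leaf 0)) (.node (.leaf 0x3afb39fc000122bc4633232216d78575896965f454b390428333) (.leaf 0)))) (.node (.node (.node (.leaf 0x28950850001071915c815c704920537b92c32283f64765fc32d) (.leaf 0x1ff1320600003e0251794fe30e578434d22300896fc4fa6de049)) (.node (.leaf 0x2481510800001c541784374910320437c33b530011f32e049000) (.leaf 0))) (.node (.node (.leaf 0xc773270000011012d082d07082784f4df01c1466e1417180335) (.leaf 0)) (.node (.leaf 0x8124b32000129fc3cfd0336068284573115815a6df6b65be32d) (.leaf 0)))))) (.node (.node (.node (.node (.node (.leaf 0x2fed04670001016704dc04db12f605b0662b164714e3c17b2156) (.leaf 0x1132db7000130413f7f45c804648474732596371521a233324d)) (.node (.leaf 0x3b543a1e000015053484348316e484958c7805253b94da33324d) (.leaf 0))) (.node (.node (.leaf 0x832599442100010ab01f111f10105185367d1356aa8087147bd000) (.leaf 0xc584c2f00014bcc43d0517508268517467ba5762693c115f734))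 (.node (.leaf 0x15ac2be2000121100b8624990ab305944f09a7a200865341d335) (.leaf 0)))) (.node (.node (.node (.leaf 0x622b1444bd000005ec1289128812418496886bf6fa3f00db7bd000) (.leaf 0x2f020eb600003ac95248524712e104516a4005dc0dd5bc41d156)) (.node (.leaf 0x45e39ee00001acd3d4e3d4d04c485d5887705fa07908e18b68a) (.leaf 0))) (.node (.node (.leaf 0x1972221800000fb52a6a2a690c4784536346a3a477934555a049) (.leaf 0)) (.node (.leaf 0x180380345d30000281f38882c8b16610476a712c68d0500342cb537) (.leaf 0))))) (.node (.node (.node (.node (.leaf 0x6952941000103a00bda028a065484b41108f5a95444045be113) (.leaf 0x4f9e00220001353642b83bfd1e5185d0031b07037e371c486262)) (.node (.leaf 0x4ffe1814000117de390531dd1e5685d2581b334c02b4ea24d180) (.leaf 0))) (.node (.node (.leaf 0x9c0e1025d200010d271efb1cc408818413bc1ed4e83fe0db025428) (.leaf 0)) (.node (.leaf 0x1787077e0000247f45f81ceb0af104f0ae7c52376715ff18055a) (.leaf 0)))) (.node (.node (.node (.leaf 0x27e0e1d0000084619011900048785d15c5e76075873ef5372ab) (.leaf 0x2d7a1707000141b74a974b3512a785523c3d82eb31638c26212d))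 (.node (.leaf 0x3fc900fb00001dd71615412218950530164b20cd1ae04715632d) (.leaf 0))) (.node (.node (.leaf 0x531e11940000125d22ca2f9d1ec285d1ba35430f79e52018b41d) (.leaf 0)) (.node (.leaf 0x1d72454600012c093a3f4cfa0ce684569d4271cb6eb6131137bd) (.leaf 0))))))) (.node (.node (.node (.node (.node (.node (.leaf 0x2a4703ad000100dc030d030c122604f05473075722f62315f586) (.leaf 0x340b14c100002f2733322eb714c105720510106406705932d734)) (.node (.leaf 0xeac4b2e000114562a04334c08930597307df1bc7215067bd2ab) (.leaf 0))) (.node (.node (.leaf 0x25864b1e00000a151d971d96105104d72f69e33411f718025000) (.leaf 0x308f2c530000489b53d427a0143205f45825e0062af250333786)) (.node (.leaf 0x21381ea7000120363f6f33630ea28513035de4106b06b5621124) (.leaf 0)))) (.node (.node (.node (.leaf 0x340036630000055710e310e214c104153a19011e3f243b428214) (.leaf 0x7f62d0800003961395430e2067784d4672a325f4051957345be)) (.node (.leaf 0x46b272500001a0f3c433c4204c50573dd34f6cc1c958e32d734) (.leaf 0))) (.node (.node (.leaf 0x480432f000000f0c291229111c220494ec1626ae7bb23f70b262)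 (.leaf 0)) (.node (.leaf 0x146627e00000273042b52cb30a8704d3f01576b343435f0252ab) (.leaf 0))))) (.node (.node (.node (.node (.leaf 0xac0089f00000311057f0a2206d40410d27eb42d52b57418b113) (.leaf 0xc4a4acc000033f4392a4de308260557276730644445a715f734)) (.node (.leaf 0x224415f80001172237e905d50ec404921f3a34ca2ee5b72ab15f) (.leaf 0))) (.node (.node (.leaf 0x2fcd367400000c8a2389238812f505b53b3780f50d6435124156) (.leaf 0)) (.node (.leaf 0x213f3c020001239436fd26540ea285f5bb29731b00175570b124) (.leaf 0)))) (.node (.node (.node (.leaf 0x37be00a9000007ae17621761165385d00d3fe3f55cf227486335) (.leaf 0x44fb099700013fdc39f430351a778570e74034797783bd0005fc)) (.node (.leaf 0x25613b800011d13213d2b78048684d1f05924905f31e824d428) (.leaf 0))) (.node (.node (.leaf 0x30504490000011aa2e5d28cc142684168600824806e2ad68a2cb) (.leaf 0)) (.node (.leaf 0x2f23196700012afb3b0e3f8012e20472772e33410dd707049156) (.leaf 0)))))) (.node (.node (.node (.node (.node (.leaf 0xf462a20000001f406a506a408a404d42b01f42d2594f47d9113) (.leaf 0x44861f7f0001316640203ed21a7104d31c7cf7e83f77e200055a))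 (.node (.leaf 0x1c6f0133000115b635b320750cc705f01b0e669745e02032d049) (.leaf 0))) (.node (.node (.leaf 0x14a4be200000b4f208f1b1804660557410b64950505c368a6de) (.leaf 0x3d9d084c0001500553bf4f77185185b0c672357177515d1562cb)) (.node (.leaf 0x454a184e000021e43bc045671a8505525c7524902ca20e15632d) (.leaf 0)))) (.node (.node (.node (.leaf 0x287544e2000006811426142510c784b68f1d06f94936d870a546) (.leaf 0x5000447500003c5f529942ea1e6104168423309e77f7837347bd)) (.node (.leaf 0x21ad4fdf00001b8a1bc935670eb205b7a76d24d84337f970b262) (.leaf 0))) (.node (.node (.leaf 0x47b21f6e000110562bc403ca1af384531a7167ef0741180005fc) (.leaf 0)) (.node (.leaf 0x2e9435710000290e192c4b2a12d18495282155f87f072c2c7000) (.leaf 0))))) (.node (.node (.node (.node (.leaf 0x35d0389d000004310d8b0d8a14f484156973d52505724e33328f) (.leaf 0x2c460225000136794b98514c126504d0303cd5dc48a77a41d518)) (.node (.leaf 0x1c6719c30000189a30333a1c0cc704f2822852b04b017432d049) (.leaf 0))) (.node (.node (.leaf 0x369738d900010dc9264e144f163284f56d69105f1fa4a83332cb)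 (.leaf 0)) (.node (.leaf 0x3f11113d0000255f410d171418818431af5e076e38d15d156428) (.leaf 0)))) (.node (.node (.node (.leaf 0x2c792825000008df1a871a8612668533f72cf5dc7946e915f518) (.leaf 0x308b4784000143af2a8331f214320576d54d052a1d94a83332cb)) (.node (.leaf 0x4fd343ec00001ea51e58420e1e548476796691b769f0135fc7b2) (.leaf 0))) (.node (.node (.leaf 0x28ea1af00001130406170d7810d70552a30175563593d970a546) (.leaf 0)) (.node (.leaf 0x43ef270300012d0611004d861a5705f3db2d53614d011a15670b) (.leaf 0)))))))))

/-- part of a table -/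
def entries35 : Trie := (.node (.node (.node (.node (.node (.node (.node (.node (.leaf 0x501333eb00010011004600451e618475006151e650532a734025) (.leaf 0x3eb13e1c00002d894dc2355918728435e967b1cf5a129112d486)) (.node (.leaf 0x49910620000135c2080253e04d285319d31c3ba08861d18b149) (.leaf 0))) (.node (.node (.leaf 0x349816660001092b1b501b4f14d185122b4b63b622a1ee32d734) (.leaf 0x2b4f1fc7000044e653a74488124505f3215667571302e4025586)) (.node (.leaf 0x286904ed00001f0623af27c910c705306e6e865513b11170a12d) (.leaf 0)))) (.node (.node (.node (.leaf 0x44e206240000047a0e330e661a7704509222403d42c7b70005be) (.leaf 0x36a740450001373f331a2e46163304f61f0e84f25d132a21470b)) (.node (.leaf 0x3ff6389c000118f83aa63aa5189784d56970c42605111a51818b) (.leaf 0))) (.node (.node (.leaf 0xa74f0630e300000e1827010bd91e4104d4bc1ae6a93e971c537262) (.leaf 0)) (.node (.leaf 0x51bf0e49000125d348bc48bb1e9285f16154c6986390435fc2c7) (.leaf 0))))) (.node (.node (.node (.node (.leaf 0x104b29e40000023b078a078908c50574241e97f210d2d92c7786) (.leaf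 0x23ea276c0000320d4fda4fd90ef60553e24ad38072313768a7bd)) (.node (.leaf 0x66c45590000160f0ceb195c064705969e4a73e46d269c486333) (.leaf 0))) (.node (.node (.leaf 0x1ab90cc000000ba1215221510c928531360182b41695b25be2c7) (.leaf 0)) (.node (.leaf 0x9cc3e630000224e1cc145c206b60595f00760a36051a0113786) (.leaf 0)))) (.node (.node (.node (.leaf 0x46bb41de000106cb14fa14f91ab28576447a735329658b12d734) (.leaf 0x2bb62f9e00013d1e528636f8125384d49e64a2350a63d57bd546)) (.node (.leaf 0xbd414800001bea22d23ebd045585b6394134eb47742055a214) (.leaf 0))) (.node (.node (.leaf 0x3e224e0d000110ad05532c6a18620457786761662d058b546486) (.leaf 0)) (.node (.leaf 0x4e5213f0000029824b7c19a31e248451f40281b75b622c70b7b2) (.leaf 0)))))) (.node (.node (.node (.node (.node (.leaf 0x9c830000000012303f803f706b60514aa0807f229a0c51132cb) (.leaf 0x3608434a00012fb94edb2686162205166948443162029c335786)) (.node (.leaf 0x1cd719c0000114b233f733f60cd484f2820912a46f008e2ab15f) (.leaf 0))) (.node (.node (.leaf 0x3dcc2af500010a631e521e51185505943e3635711f312b1562cb)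 (.leaf 0x4e8d52d400004a2d2d0508551e3205b7ec37531b7d444b70b262)) (.node (.leaf 0x35aa3cba0000209c18dd317814f30555cf5e80f420d4167345be) (.leaf 0)))) (.node (.node (.node (.leaf 0x521226db000005a3033511ba1ea18453d46150ea4c932a734180) (.leaf 0x40de41e400013a0f503e291318b485d6453205a964458b54668a)) (.node (.leaf 0x66008d300001a6c3cc83cc706470410d60a5425438781486335) (.leaf 0))) (.node (.node (.leaf 0x404c079900000f6029b903e618a40590b13aa5f75de17a12d68a) (.leaf 0)) (.node (.leaf 0x28721f81000027a844aa321410c784531d0a16bd7a81cc2c7546) (.leaf 0))))) (.node (.node (.node (.node (.leaf 0x10072f26000003590b030b0208c104f49345b0c31035132c72cb) (.leaf 0x354f1780000034914cc7111d14e405f24a1ba6ef7ec4b533524d)) (.node (.leaf 0x3b000c9f0000178336be34c316e10411317d068d5d208a149486) (.leaf 0))) (.node (.node (.leaf 0x16540bc000010cd9243f243e0ac584911b21e65604472c70a2cb) (.leaf 0)) (.node (.leaf 0x40964e8b0001240d371e263718b184d7845da65121b47c586149) (.leaf 0)))) (.node (.node (.node (.leaf 0x47c835a3000007fd053918331af405152c36966606b3e654624d)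 (.leaf 0x315f5376000040cc2aea09c3144485f7fd3525ac0796c55be68a)) (.node (.leaf 0x5d451e300001d752a0f40b104f48497d414276a72044b62124d) (.leaf 0))) (.node (.node (.leaf 0x48233b50000012042f052f041c230475a60996977f42477867d9) (.leaf 0)) (.node (.leaf 0x305a2bd500012b8c4b1b1298142685544e3550c31224e1113786) (.leaf 0))))))) (.node (.node (.node (.node (.node (.node (.leaf 0x346f4bc0000000980224022314c705f73e1b61727b039032d333) (.leaf 0xdc40ba300002ea33aae4e53087604911733c6cf38e30b7b2486)) (.node (.leaf 0x210d23280000140732b601530ea105b37a2fb34c18862878641d) (.leaf 0))) (.node (.node (.leaf 0x43882c5d000109c81cda13bb1a5105145871572b7c115d5182cb) (.leaf 0x2c9a0ed10001474628aa5172127185516d16f3411d02df124156)) (.node (.leaf 0x2c0b0a6f00001fd93cdf0afd12610570fb79e62776b4de124156) (.leaf 0)))) (.node (.node (.node (.leaf 0x47fd3e0700000510101610151af585b5e84ce65a1c116458655a) (.leaf 0x40442ecf000038b351d631dc18a404948b6ea42d1423e612d68a)) (.node (.leaf 0xd1a4beb000119af29033bbc08648557415b37057a636a04924d) (.leaf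 0))) (.node (.node (.leaf 0x278516ac00000eb92860273e10b204b2326096ee5ad740049586) (.leaf 0)) (.node (.leaf 0x23942152000026bc497649750ef18493501d93807232671497bd) (.leaf 0))))) (.node (.node (.node (.node (.leaf 0x55f01ec000002ca0949094804e485f02c6a470552223162128f) (.leaf 0x2e3929f3000133554ffc485b12c385342721e75967372c70a546)) (.node (.leaf 0x45d52742000116cc182137571a9584b3e00b939972a268518428) (.leaf 0))) (.node (.node (.leaf 0x85352f700000c3e22b322d106868477f03e349028a69524d32d) (.leaf 0)) (.node (.leaf 0x280d34310001232c13d510ee10c105b5091d335d33930270a586) (.leaf 0)))) (.node (.node (.node (.leaf 0x1c8731cd00000766169b169a0cd104f4cd6966a9372626428262) (.leaf 0x4407035e00003ee852fc52fb1a6104f04f74f0d02251470006de)) (.node (.leaf 0x6cd3eea00001cb83fc13fc0065605b5fd5990192bb1ab24d149) (.leaf 0))) (.node (.node (.leaf 0x2fe70a5b0001115516f327d512f604f0fa75f10c62562315f518) (.leaf 0)) (.node (.leaf 0x2af4305b00002a783b724c2412378494af70f6365d041418012d) (.leaf 0)))))) (.node (.node (.node (.node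 (.node (.leaf 0x14492999000101ae008705c50a8505341b3fd49057b63c7bd428) (.leaf 0x45393de5000130d84f5a19991a838535e63816b374b1785182ab)) (.node (.leaf 0x11e613bc00001557351c2d3808f604d1f067347f59562315f537) (.leaf 0))) (.node (.node (.leaf 0xf842ad200010b031fd21f2308b104943a1190195d54a2262149) (.leaf 0x222b4fd500004d9c52584dd40ec20577a72392f243374c18b41d)) (.node (.leaf 0x1e9508fa000021813c8c25d50e3484b0d94c01766ea04a3357b2) (.leaf 0)))) (.node (.node (.node (.leaf 0x4c102a6200000637135a13591ca18414301f30ea2c432b73441d) (.leaf 0x1342129d00003b9734b425210a660451d376768d5122f115f537)) (.node (.leaf 0x4eff181500011b2b3dc53dc41e3585f25820b34c07b704786180) (.leaf 0))) (.node (.node (.leaf 0x30b817a90000100727e52b17143385124f5d51a72c01cd734621) (.leaf 0)) (.node (.leaf 0x10033d21000128984113199808c10475d715b2482b31cc2c7786) (.leaf 0))))) (.node (.node (.node (.node (.leaf 0x11cc4f37000003e90cb30cb208f40597973b51fd4ec32e04928f) (.leaf 0xa5e1688000135d151123e5306c485d22f4055d33a008e18b68a)) (.node (.leaf 0xffa2722000018391ba5399408b68553dd1593b66e030a7b2214)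 (.leaf 0))) (.node (.node (.leaf 0x51df15c600010d7a042a12de1e9585f21b32124147434555a2c7) (.leaf 0)) (.node (.leaf 0xc384c22000124f44810480f082585174616345c106435262295) (.leaf 0)))) (.node (.node (.node (.leaf 0x156952ea0001089319c919c80aa60537ee42e4eb2920cb7b2734) (.leaf 0x20a20d62000042b14c1c4c370e920451441f92b435a3465be70a)) (.node (.leaf 0x1427387600001e3b419f322d0a8304f5674744ef53635f0252ab) (.leaf 0))) (.node (.node (.leaf 0x25da0545000112b024d1304710558550773771414c96b4025586) (.leaf 0)) (.node (.leaf 0x3c7e3d1800002c8e474c303a182585d5d63dc01923c3bd586295) (.leaf 0)))))))) (.node (.node (.node (.node (.node (.node (.node (.leaf 0x44144dc300010054013901381a6184977328b4950504015866de) (.leaf 0x33da4abf00002e161eed4d0014968557267ea0cd06d0d824d428)) (.node (.leaf 0x20122556000013af322a32290e818453ae3a643f6d74186de2c7) (.leaf 0))) (.node (.node (.leaf 0x246011c10000097e1c141b0e10270411bf13f0c40d72f318012d) (.leaf 0x1fba0eab000046054f1c528b0e558551695fe703260664486124)) (.node (.leaf 0x247c03bf00011f7310ab42f210278590557bb6553bf1d241d546)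 (.leaf 0)))) (.node (.node (.node (.leaf 0x429001f2000004c50f3d0f3c1a3284102d0b83b333f17a546214) (.leaf 0x9d0dd50000380024c71892045485b1572ed0f01625b25be113)) (.node (.leaf 0x34432ec80001195208660cae14c404748b30542d27752018b68a) (.leaf 0))) (.node (.node (.leaf 0x419e517700000e6527ad27ac18f285d7cb4f33a838958b546486) (.leaf 0)) (.node (.leaf 0x7a0377d00002653491b02c8067504154f7751cf5a108a295486) (.leaf 0))))) (.node (.node (.node (.node (.leaf 0x4367169200000282086a08691a4704f2301695ea5ec4a1156621) (.leaf 0xb055363000032ae392c442f06e204b7fb12579b56109762155a)) (.node (.leaf 0x23fe16230000167436ce36cd0ef685d2244271cb70c5c3113025) (.leaf 0))) (.node (.node (.leaf 0x27eb146900010bec220c220b10b70571fc37139e35966a124546) (.leaf 0)) (.node (.leaf 0x4e992c86000022bd45f1270d1e3285345d2526a97e323f70b262) (.leaf 0)))) (.node (.node (.node (.leaf 0x35ba46d80001071a15ca15c914f38556c62c17ef1e54c52145fc) (.leaf 0x4c60220b00013e034aad05831ca60413626fd4106af1a0113124)) (.node (.leaf 0x3f1d07f800011c543f373f36188185b0bb3ad15a41379f15632d)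 (.leaf 0))) (.node (.node (.leaf 0x370c39d20001110105612d0916410595873067ed3234646de214) (.leaf 0)) (.node (.leaf 0x4aaa1895000029fd2abb0a901c7205526446029f6e84a8333025) (.leaf 0)))))) (.node (.node (.node (.node (.node (.leaf 0x31720c690000016804de04dd144684512e57e7b45174ea24d149) (.leaf 0x109c22b9000030434f1d0e4a08d185937067c4315175c82c72cb)) (.node (.leaf 0x3e6452b0001150506cf261404b704d6945585ea5ec416734621) (.leaf 0))) (.node (.node (.leaf 0x2ab6154900010ab11f1213cf123384d20f3e76361c566a124546) (.leaf 0x38ec1e3400004bd1537d1c0f16770592f62c603d3a32832cb5be)) (.node (.leaf 0x38c6397a0001211143d8449b167404d57c54776d40522c62124d) (.leaf 0)))) (.node (.node (.node (.leaf 0x338e5281000105ec128b128a149205d7e51f94370776b65be32d) (.leaf 0xa0304c300013aca4a11524906c204706c30578f3e052018b295)) (.node (.leaf 0x34712def00011ace19633d4f14c78434776ff1466e143b428335) (.leaf 0))) (.node (.node (.leaf 0x4c9236a300010fb62a6b0f461cb184553e20a2f211c0b021441d) (.leaf 0)) (.node (.leaf 0x26251457000028202481313b106204b1fb3b50b350532e049518)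 (.leaf 0))))) (.node (.node (.node (.node (.leaf 0x52c016be000003a10bdc0bdb1eb404123363807f7b93fc3337b2) (.leaf 0x39d0304e0001353750e04ac516968414ae7c22283883de28f32d)) (.node (.leaf 0x1ecb0ea2000017df390739060e360571690b64d82825c368a262) (.leaf 0))) (.node (.node (.leaf 0x10f00cff00000d2824e624e508d784113a67c3767e55c82c7621) (.leaf 0)) (.node (.leaf 0x45e519e70000248046773f461a9704b28635b42602d0475182ab) (.leaf 0)))) (.node (.node (.node (.leaf 0x4243315500010846141118d71a240474c330342d73d80412d68a) (.leaf 0x2a0532f5000041bb4fcf509b122204b4ec2ff7577bb32e7d9000)) (.node (.leaf 0x1c5f242b00011dd7412441230cc485f39540569902908e18b15f) (.leaf 0))) (.node (.node (.leaf 0x35e4337a0001125d2f9f2f9e14f60494f75655df0ed40a11355a) (.leaf 0)) (.node (.leaf 0x4261449a00002c0a4b174cfb1a250436865513ba06e164586149) (.leaf 0))))))) (.node (.node (.node (.node (.node (.node (.leaf 0x141f5507e4000000dd030f030e0e4684b0b920f30f3427f828f180) (.leaf 0x20cc28a300012f283b6242a20e950594030ed6985e033e48670a)) (.node (.leaf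 0x36b5154c00001457334e334d163384b20f4f705b3135ae214621) (.leaf 0))) (.node (.node (.leaf 0x331c249400010a151d98015814828593a02762ef4134765fc32d) (.leaf 0xfd84f130000489e4703460408b48517953165d346030d7d968a)) (.node (.leaf 0x9650bbf00002037289f382006a704b11968f3766a25b473470b) (.leaf 0)))) (.node (.node (.node (.leaf 0x58274803290001055710e510e410a605104c5676aa80830b7b2000) (.leaf 0x4b472ec1000139621819140d1c8504f48b07719c4f10ff6de70a)) (.node (.leaf 0x24434f5300011a0f3c443528102604779a1c560b02418e15f586) (.leaf 0))) (.node (.node (.leaf 0x350e18ef00010f0c29130c5c14e105d26d7191664bf26a295537) (.leaf 0)) (.node (.leaf 0x17b28002097000027311da820e210c104133a2ec6ee7da72c70a000) (.leaf 0))))) (.node (.node (.node (.node (.leaf 0x36db33a3000103110a240a2316368574fc33b0a35d53c7113786) (.leaf 0x1d5250205f9000133f437bc4e50104104508f4c430040e6b47bd586)) (.node (.leaf 0x13a7377f000017240869113c0a7504f54f7e34953f75bc18055a) (.leaf 0))) (.node (.node (.leaf 0x8fe534400010c8a238b238a069785d7f627c4266d522748618b)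 (.leaf 0)) (.node (.leaf 0x2485391e0000239546f711b8103204b57573114145369b049586) (.leaf 0)))) (.node (.node (.node (.leaf 0x17cc01cd000007af176417630af405902a69f76d08f65e7d928f) (.leaf 0x3140476000003fdd1d67343b14440416d302d42d25903b5be113)) (.node (.leaf 0x4b2c026000001d14139b403b1c8205903506a6787df0e25be2c7) (.leaf 0))) (.node (.node (.leaf 0x2107203a000111aa059c2e5e0ea104f32f57759b01b3472cb180) (.leaf 0)) (.node (.leaf 0x50011ad300002afe4c61442c1e6104329d2b314f1de7507347bd) (.leaf 0)))))) (.node (.node (.node (.node (.node (.leaf 0x3d4a3ef8000101f406a6067218450555fe4700a32b37e9518786) (.leaf 0x4f7127890001316734673fe11e468433e549e3015885cb28f41d)) (.node (.leaf 0xfe0a22000115b735b40ec5045785d0f3046423035340537333) (.leaf 0))) (.node (.node (.leaf 0x4824260600010b4f20901bb91c230493c03911f744c79c2cb7d9) (.leaf 0x468214740001500b536e194d1ab10451fe2243d66677b7000149)) (.node (.leaf 0x22cd4c78000121e43d5e43870ed405b74f5e907f6575b718b15f) (.leaf 0)))) (.node (.node (.node (.leaf 0x20623b9400010681142814270e860455b00686783c47d628f2c7)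 (.leaf 0x478918e500003c621c73529a1af205326d3503a8389790546486)) (.node (.leaf 0x17dc160a00011b8b09443e3e0af48592205d776a1da74004924d) (.leaf 0))) (.node (.node (.leaf 0x3ed6036e0001105709692bc5187484d0506ab71b1d50a954628f) (.leaf 0)) (.node (.leaf 0x43aa2a7c0000290f3c5f4ad71a530554326a150854e4a1156621) (.leaf 0))))) (.node (.node (.node (.node (.leaf 0x9735029000104310d8d0d8c06a78477ad6155ea49f32a73470b) (.leaf 0x177126b70001367c3ca534310ae68433d15537e42586e915f537)) (.node (.leaf 0xd943550000189b3a1e3a1d045685366b3c96512f556028f149) (.leaf 0))) (.node (.node (.leaf 0x4ebf17a000000dca0db0264f1e3385f24f09969751e347786049) (.leaf 0)) (.node (.leaf 0x534e23e20001255f1bc3445e1ec405d38f1d56b777e03918b7b2) (.leaf 0)))) (.node (.node (.node (.leaf 0xead3506000108df1a891a88089305b51e39b38a21260e7bd2ab) (.leaf 0x3a721a81000143b342332e7716c78452960e648719662632d335)) (.node (.leaf 0x1db5251a00011ea50a88420f0cf284b3aa5971e663f543333025) (.leaf 0))) (.node (.node (.leaf 0x3950235600001305273f2cfb168684137e3250c104656028f428)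 (.leaf 0)) (.node (.leaf 0x1cb80ccd00002d074d872c710cd285113662934c7cf57418b180) (.leaf 0)))))))))

/-- part of a table -/
def entries36 : Trie := (.node (.node (.node (.node (.node (.node (.node (.node (.leaf 0x34853d8d000000120048004714d104b5de6d96cc2dd1ee32d734) (.leaf 0x26dd453100012d8b3d1b4133107585b6960ab7583b7414180518)) (.node (.leaf 0x1e5e30a30001135c063831880e2685d4b7193319001613113124) (.leaf 0))) (.node (.node (.leaf 0xe0500c90000092c1b521b51088104b0104112ef6df17902532d) (.leaf 0x3ddb1126000044e85190516718558571ae3ab2c21027db5182cb)) (.node (.leaf 0x4e190b5000011f07428d3c721e2285311016a2e142456e621124) (.leaf 0)))) (.node (.node (.node (.leaf 0xab14eb90001047a01490e6706d384378c5984255070cc32d335) (.leaf 0x194247900000374051774d850c460456d704518221f0cf28f41d)) (.node (.leaf 0x50804091000018f91ffb3aa71e7104162909b69a0f132b734025) (.leaf 0))) (.node (.node (.leaf 0x478b15d000010e18046027021af205721d0291cf5911be12d537) (.leaf 0)) (.node (.leaf 0x3fcb1aff000025d646c30ab018950572a36ac43721a7e9518428)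 (.leaf 0))))) (.node (.node (.node (.node (.leaf 0x496547690001023b078c078b1c4604b6d35192f26e737924d41d) (.leaf 0x14f946ba0001320e3ca320810a978536c24812cd6d524b02518b)) (.node (.leaf 0x4281195c0001160f363f363e1a320432765dd01d48e3f4546734) (.leaf 0))) (.node (.node (.leaf 0x71a44f300010ba121542153066485569028176a3491a233524d) (.leaf 0)) (.node (.leaf 0x2ff41d7c0000224f45c445c312f68492dd78262739b3c115f156) (.leaf 0)))) (.node (.node (.node (.leaf 0x1e9746f5000106cc14fc14fb0e3484f6c821612073c12333315f) (.leaf 0x451f4f8f00003d2352b534561a8185f7a07627d138947a156428)) (.node (.leaf 0x2a141c5900011bea3ebe1de112228492c33bf45a2ac30d049000) (.leaf 0))) (.node (.node (.leaf 0x4bb40c19000010ae1f4414ae1c928491254ec2410dd03b5be70a) (.leaf 0)) (.node (.leaf 0x128153d1000129834b7d3e920a340438063595506e169b7d9113) (.leaf 0)))))) (.node (.node (.node (.node (.node (.leaf 0x4ef74e200001012303fa03f91e3584f77b0662f20ef1c8786180) (.leaf 0x471a4b8d00002fba3f141aba1ae28557387a747f45658b12d486)) (.node (.leaf 0xfe054a2721000014b30b3133f804e40553dd10b55d1d82f062128f)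 (.leaf 0))) (.node (.node (.leaf 0x7b9086100000a641e530e5d06758530ca10f07d563073149537) (.leaf 0x1fe037bf00004a2e4e9850840e5704155479a3a43a205d55a7d9)) (.node (.leaf 0x40760f2a0001209c4435443418a784d1755d87646e17b7586335) (.leaf 0)))) (.node (.node (.node (.leaf 0x41ee3bdf000105a311bc11bb18f505d5b87cc79b0551475866de) (.leaf 0x3a55047f00013a132e0d1b2c16c484b0677785730a75b72ab113)) (.node (.leaf 0x428d478300011a6c08d50dbe1a3205b6d54a05761d917a546214) (.leaf 0))) (.node (.node (.leaf 0x1b5197b00000f6129bb29ba047584b27849677237c202149537) (.leaf 0)) (.node (.leaf 0x20651bc3000127a822181d080e8604b2b910043f5b556024d2c7) (.leaf 0))))) (.node (.node (.node (.node (.leaf 0x3219412634000103590b04027a0c460433c43df34c2d67f824d180) (.leaf 0xb212965000034922fe34f9706e304341536d7ef57e43d7865be)) (.node (.leaf 0x492c4c5e00001784379838761c4305974b71e2b06d442055a7d9) (.leaf 0))) (.node (.node (.leaf 0x4fd6482300000cda244000981e5484d6e406b1767f16c55fc15f) (.leaf 0)) (.node (.leaf 0x1f8032070000240e20e1123f0e540414d22c314b6fc4765fc7b2)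 (.leaf 0)))) (.node (.node (.node (.leaf 0x16fd2e2b000107fd183518340ad785b47e50550878e5c82c7621) (.leaf 0x20e340af000140cd1d8f06de0e9604762a6e549b0c00d828f70a)) (.node (.leaf 0x19ed2d8200001d763bc840b20c5705b4702190c86f44646de7d9) (.leaf 0))) (.node (.node (.leaf 0xdf290b0268000112042f060a8510e10570355391ef69377a41d518) (.leaf 0)) (.node (.leaf 0xd8c28f100012b8e167e3f2808740594091f855d04f65e04928f) (.leaf 0))))))) (.node (.node (.node (.node (.node (.node (.leaf 0xf6b29e7000100980226022508a605742430911e0215a715f734) (.leaf 0x1ac253c017200012ea311ce0465104385902241122d2e0179025546)) (.node (.leaf 0x13a84645000114072f1523cc0a750516b23077e856341441d55a) (.leaf 0))) (.node (.node (.leaf 0x16f501b000009c91cdc1cdb046705f7ab5b847973732a7345be) (.leaf 0x6dc51f20000474942f2336406568597d520d62d39d71328f295)) (.node (.leaf 0x1d6f271600001fda436833280ce605f3dc19a38075228768a025) (.leaf 0)))) (.node (.node (.node (.leaf 0x1cfb3d3100010510101810170cd78575d80e73a4504020428049) (.leaf 0x1040330c000138b32c87439e08c50414ed6480a352c5c870a2cb))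 (.node (.leaf 0x3a4c36c6000019b03bbe3bbd16c40595402635011fe2262ab68a) (.leaf 0))) (.node (.node (.leaf 0x3f590ac800010eb928622861188585310335a7d137d3da156428) (.leaf 0)) (.node (.leaf 0xdf00baf000126bc3095379708778411177f025f7c074d1245be) (.leaf 0))))) (.node (.node (.node (.node (.leaf 0x366403a3000102ca00c8094a16270490543627666a50c214970b) (.leaf 0x2321cd6000033561d730f2c04838452ce25868b1e534555a18b)) (.node (.leaf 0x50cc453b000016cd375937581e7505969646e01221e2032957bd) (.leaf 0))) (.node (.node (.leaf 0x48cd2ffc00010c3e03c222d21c3405b4a954407f16563b62115f) (.leaf 0)) (.node (.leaf 0x5f32a260000232d283e1be504f584742b3f23984c325a2cb537) (.leaf 0)))) (.node (.node (.node (.leaf 0xd53515300010766022f169c08668477c91eb1cf6d973a7b2537) (.leaf 0x53a8424900013ee851591ad21ed305164c2d021318d62f32d7d9)) (.node (.leaf 0x45bd09c200011cb93fc33fc21a9385b0eb35b4261000475182ab) (.leaf 0))) (.node (.node (.leaf 0x31782f1f000011562c392db814468514927e03ce2a37f828f295) (.leaf 0)) (.node (.leaf 0x4d054ec400012a790fbc445b1cc204b78e2636c311c2262ab41d)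 (.leaf 0)))))) (.node (.node (.node (.node (.node (.leaf 0x235131d3000001af05c705c60ee58434ce0932f44f57832147bd) (.leaf 0x506d2148000130d913013d8d1e6605b34f5a01e65051a0113025)) (.node (.leaf 0x257e3d1a00011557351d0cd9104785d5d64c41e34597187bd12d) (.leaf 0))) (.node (.node (.leaf 0x125236d500000b051fd41fd30a268455412436cc4022d87b2734) (.leaf 0x297f3be600004d9d4ab91fd610e685f5b91eb6d64295a77b2156)) (.node (.leaf 0x6cf353c0000218232682130065605f5236e51480a27d628f295) (.leaf 0)))) (.node (.node (.node (.leaf 0x2ee51f860000063808e6135b12d704b31d2151947313022c712d) (.leaf 0x4c1c07f100013b9839c436311ca18590bb09b30f3d1750734180)) (.node (.leaf 0x1fac0ea300001b2c3dc73dc60e550591690b74d8616538486262) (.leaf 0))) (.node (.node (.leaf 0x46152278000110072b182aaf1aa184b36c53c45c477164586149) (.leaf 0)) (.node (.leaf 0x644c080000289a412a33fb04470497434af42336c781537335) (.leaf 0))))) (.node (.node (.node (.node (.leaf 0x3d701697000103e90cb50cb418478412303ad4f226d79f15670b) (.leaf 0x5a4225000035d237a22b0c044685564a28d3582fb0d824d149))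 (.node (.leaf 0x3e6a2e1f0001183a26383995186705547d5da28e1521185865fc) (.leaf 0))) (.node (.node (.leaf 0x1b6a3d3700000d7b25a425a30ca70555d82ba0c85eb40d7867d9) (.leaf 0)) (.node (.leaf 0x39610441000024f52524481116870430633062791104646de2ab) (.leaf 0)))) (.node (.node (.node (.leaf 0x3ecf163e0000089419cb19ca187405f2256766ef7921be54624d) (.leaf 0x791332c000142b149b13f8806748434f06c976a00724e33528f)) (.node (.leaf 0x4002f2300011e3c331f133104c20414932e562d38f61d2ab149) (.leaf 0))) (.node (.node (.leaf 0x2add2ca4000012b119f80df7123685b45f2cf6fa0d26e915f000) (.leaf 0)) (.node (.leaf 0x4ac7102800012c8f45ca10b41c7504f1982922f40a104b1497bd) (.leaf 0)))))))) (.node (.node (.node (.node (.node (.node (.node (.leaf 0x929824d290000005500fb013a10f10457634aa3271aa77a180518) (.leaf 0x1d78506c00002e174e104e0f0ce68517b35e538075218a68a025)) (.node (.leaf 0xd860a1e000113af0653322b087404d0f26853563544f47d924d) (.leaf 0))) (.node (.node (.leaf 0x1a062d7a0001097e1c161c150c8104d46f5482a23680ff6de70a) (.leaf 0x4b214e31000046063b1953b81c8204377d08d19c4f14765be70a))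 (.node (.leaf 0x3177449500001f743df142f3144684f68628d3585b80cf24d295) (.leaf 0)))) (.node (.node (.node (.leaf 0x1d8431c8000004c60f3f0f3e0cf10494cd2861e6421202295025) (.leaf 0x31c71ec8000038021f310472145404f3065140f76040135be113)) (.node (.leaf 0x3f891826000019533b303b2f18910532593c41e007717815632d) (.leaf 0))) (.node (.node (.leaf 0x2e771efe00010e65047927ae12c784f30e7413655f27612c7546) (.leaf 0)) (.node (.leaf 0x47aa52ac000026541b98108b1af30557e767007c61b7e20005be) (.leaf 0))))) (.node (.node (.node (.node (.leaf 0xa8404c400010282086b016c06d204906c34914810261d18b149) (.leaf 0x1d690ca4000132af4a9d261a0ce60531331212a016903f113025)) (.node (.leaf 0x32f43ab00001167436d036cf14778495980673ee1fb79c7865fc) (.leaf 0))) (.node (.node (.leaf 0x44f044c100000bed1a43220d1a7784168c10a25f4057b55865be) (.leaf 0)) (.node (.leaf 0x35934139000122bd4635463414f184763859e1cf4dd26a295537) (.leaf 0)))) (.node (.node (.node (.leaf 0x38d93f820001071b15cc15cb167485360d1fe71b23907570b28f) (.leaf 0xaac1ee400013e051b5852d806d30593093184874ba0cc32d335))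 (.node (.leaf 0x13e02d0d00011c553f393f380a770414675ad07c40f4a21245fc) (.leaf 0))) (.node (.node (.leaf 0x46a017c9000011022d0b2d0a1ab204125235045770e3e6546734) (.leaf 0)) (.node (.leaf 0x21fa51b9000129ff3bbc20ab0eb78557cf53b2b046f40d7867d9) (.leaf 0)))))) (.node (.node (.node (.node (.node (.leaf 0x212507d10001016804e004df0ea204b0b81500da6406b5621124) (.leaf 0x1b71f5b345500013043270a04c10e4685750d28d6dd6400d824d180)) (.node (.leaf 0x1e302537000015063485153a0e258413ac4a40f952432b21441d) (.leaf 0))) (.node (.node (.leaf 0x3afe15c900010ab2033f1f1316d785d21b4653f1557174428335) (.leaf 0x1cea3d5f00004bd3412752ec0cd70555da6960895ef6264287d9)) (.node (.leaf 0xc11327b000021124441404408248434df5d06e23263b17d968a) (.leaf 0)))) (.node (.node (.node (.leaf 0x23b73e5d000005ed128d128c0ef284f5ef6913d37914a8333025) (.leaf 0xeab46a900003acb242b516d08930576c137780756c35f0252ab)) (.node (.leaf 0x2b6d03b900001acf3bad3d50124705b05548336579963c7bd12d) (.leaf 0))) (.node (.node (.leaf 0xd4d4be900010fb72a6d2a6c086605b7414f916659a2947b2486)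 (.leaf 0)) (.node (.leaf 0x397d1340000028224a694a4e168785b1df17c31701805d55a18b) (.leaf 0))))) (.node (.node (.node (.node (.leaf 0x6a9167e000003a20bde0bdd065505322e79a4eb4db24055a734) (.leaf 0x1fd437b70001353843d94b5e0e568495542516c343337928f41d)) (.node (.leaf 0x38902118000117df2262390816718413493912223f779c2cb537) (.leaf 0))) (.node (.node (.leaf 0x377b44a500010d2824e824e7164685768728d3586fb0d824d149) (.leaf 0)) (.node (.leaf 0xad608a000012480468b3c1506d484d0d30915ac7a008e2ab68a) (.leaf 0)))) (.node (.node (.node (.leaf 0x1f1129cb00000847190319020e448434214c11201365b25fc15f) (.leaf 0x7a83f94000141be50544e10067505160f2aa4b35942d7295486)) (.node (.leaf 0x23cd276000001dd8412527070ef505b3e20533804b26357347bd) (.leaf 0))) (.node (.node (.leaf 0x2cfb123d0000125e2fa12fa012768571c663034175130a7b2156) (.leaf 0)) (.node (.leaf 0x251b2b5000002c0b1c784cfc104185744500e6aa70f3d57bd586) (.leaf 0))))))) (.node (.node (.node (.node (.node (.node (.leaf 0x32af0fa6000100dd003b0310147205f18c44a5df34f22c70b6de) (.leaf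 0x3840105900002f294d4d4e98166404119b3c355d58444b62124d)) (.node (.leaf 0x40992ba600011457334f320818b185344a2c503e0b1048000149) (.leaf 0))) (.node (.node (.leaf 0x2324489600000a161d9a1d990ee20496ec48409e0dc29c335025) (.leaf 0x43551cbb0001489e53d830f51a4584b2ca55400608512b5182cb)) (.node (.leaf 0x42e83dfa000120371dde43cd1a350515e75b03582a37ae586295) (.leaf 0)))) (.node (.node (.node (.leaf 0x1a1e0ccf0001055810e606960c8185d1367a32116a10ff55a70a) (.leaf 0x4c3243c10001396451b451f61ca384567418f384139207149049)) (.node (.leaf 0x27a32f3d00001a100d652d3f10b30474946af0c410977a180546) (.leaf 0))) (.node (.node (.leaf 0x1a9021ed00000f0d2914227e0c9184135e79a2414be24055a2c7) (.leaf 0)) (.node (.leaf 0x4af203640000273246db3c861c768450501e71ca1165c3113025) (.leaf 0))))) (.node (.node (.node (.node (.leaf 0x13c84648000003120a260a250a760516b242e1cf34f55c7b2486) (.leaf 0x477b170b000133f517fc50791ae585723c6703ea6543bd0006de)) (.node (.leaf 0x4fb839880001172437eb37ea1e5385157e4dd1f751e4fa6de049) (.leaf 0))) (.node (.node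 (.leaf 0x16e7089c00000c8b238d238c0ad704f0d27683ed2c830470a70b) (.leaf 0)) (.node (.leaf 0x3f19185c0001239546f81839188185325e66349038514d156428) (.leaf 0)))) (.node (.node (.node (.leaf 0x43f14efa000107af0ffe17651a5784379363f6024e626851870b) (.leaf 0x21a274f178e00003fe750fd41a310a605f24a6ce1417c530a15f000)) (.node (.leaf 0x35462f4b00011d14403d403c14e404d4965906ef45825033524d) (.leaf 0))) (.node (.node (.leaf 0x50c94c33000011ab18e52e5f1e750537492aa2a031e2d7295025) (.leaf 0)) (.node (.leaf 0x47ac264e00012afe42132c7d1af30593c575d3282517c45865be) (.leaf 0)))))) (.node (.node (.node (.node (.node (.leaf 0x1be133a000001f506a806a7047585d1de59e1cf10104b295486) (.leaf 0x3c7709dc000031694e7a4f9c182584f0ed6b0019016118586295)) (.node (.leaf 0x1a6d4a3e000115b82cf135b50c8605b71a5193fa42171324d2c7) (.leaf 0))) (.node (.node (.leaf 0x33b6005600000b501b142091149384d00844e38a04571c53718b) (.leaf 0x3ce3482000005015536c538e18350476e401b35831d7e2586149)) (.node (.leaf 0x5501eda000021e545681d3804e484130723a63767d56e70b28f)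 (.leaf 0)))) (.node (.node (.node (.leaf 0x95a3e6100000682142a142906a68555f004d6565692871132cb) (.leaf 0x2ef0274300013c62467a1ebb12d78413e01173655f27892c7546)) (.node (.leaf 0x3c92250400011b8c3e403e3f18328453a932068024c1be546214) (.leaf 0))) (.node (.node (.leaf 0xc8000110f1000010582bc62b4304440431aa06a0f76e10e25be113) (.leaf 0)) (.node (.leaf 0xd16515c000029104b2b067b086484d7c95967331ff6ed04928f) (.leaf 0))))) (.node (.node (.node (.node (.leaf 0x1ce938fe000004320d8f0d8e0cd70535706d92b06491ee32d049) (.leaf 0x3ce27bd0001367d514e514d04b605d3e96f54122af3c768a786)) (.node (.leaf 0x1331420a0000189c3a203a1f0a658436484073ea20165341d55a) (.leaf 0))) (.node (.node (.leaf 0xf083cf400000dcb2651265008a10515d415e62d25c5c7124149) (.leaf 0)) (.node (.leaf 0x38524b4d0000256011ba06ac16648457326e171b2046cd70b24d) (.leaf 0)))) (.node (.node (.node (.leaf 0x1d12108d000008e01a8b1a8a0ce184519f4ab2575542071497bd) (.leaf 0x14003cc9000143b4539109500a810415d04837d127c63c7bd428)) (.node (.leaf 0x4d02a2b00001ea61701421004d484142b6295d356f45018b68a)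 (.leaf 0))) (.node (.node (.leaf 0x1bc6186e0001130530e230e10cb404d2607b04ca2fc22170b7b2) (.leaf 0)) (.node (.leaf 0x29ed0aea00002d084d8838c410f605b10641537f4df55c7b2518) (.leaf 0)))))))))

/-- part of a table -/
def entries37 : Trie := (.node (.node (.node (.node (.node (.node (.node (.node (.leaf 0x275d1a6f000100120003004910a685b2926d460b6520cb15f586) (.leaf 0xc2a4ac700002d8c4dc304bc08250557271a678f00a38c262295)) (.node (.leaf 0x16254b950000135d2e9831890ac304b73b21e5ea01461970a70b) (.leaf 0))) (.node (.node (.leaf 0x1903221a0001092c1b53054a0c4404736350b51677912a5fc15f) (.leaf 0x14154b37000044e951ef20830a8184b7314c615a1c160e7bd32d)) (.node (.leaf 0x36243ace00001f09428e0a9216230495996fb5ea5c575073470b) (.leaf 0)))) (.node (.node (.node (.leaf 0x2ad92d320000047b0e19051f123685346a1097574540cb15f586) (.leaf 0x3228217d0001374051784a2614620513547d307a69609770b55a)) (.node (.leaf 0x47bd1f1e000118f93aa93aa81af385b31163d28e1e50265865fc) (.leaf 0))) (.node (.node (.leaf 0x1cfc000200000e19228727030cd78590010d414c3a70de32d049)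 (.leaf 0)) (.node (.leaf 0x1c5d3dab000125d619e647d40cc485b5e14b916c5ef2262ab7b2) (.leaf 0))))) (.node (.node (.node (.node (.leaf 0x18d13f180000023c078d06b70c368436034616ae7161a068a124) (.leaf 0x49eb0f1300013210348626e11c560571731ad30f7f069528f180)) (.node (.leaf 0x4cbe3deb00001610182532611cb385d5e659e3a444f04b2957d9) (.leaf 0))) (.node (.node (.leaf 0x2c0208500000ba22156215504960413391e54373db7fc24d32d) (.leaf 0)) (.node (.leaf 0x3c6511c3000122500c050a5e182504b1bf23e08b085401000295) (.leaf 0)))) (.node (.node (.node (.leaf 0x1adb4621000106cd14fe14fd0c958576b005527d3812a753770a) (.leaf 0x1d32251800013d264dc952b60ce28453aa52b3d33812503337bd)) (.node (.leaf 0x126636d800001beb3ebf1ef60a2704d5413cd5f41a930841d335) (.leaf 0))) (.node (.node (.leaf 0x3b5f20d1000110ae0545287316e485f33f26d7052e212333528f) (.leaf 0)) (.node (.leaf 0x4d521c08000029841e9e37ba1cc48452bd40569979929818b7b2) (.leaf 0)))))) (.node (.node (.node (.node (.node (.leaf 0x1fa423640000012403fc03fb0e5504938112e6ae80569c486262) (.leaf 0x2f081a9800012fbb4dc40c0f12e105129755b6277d5270180518))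 (.node (.leaf 0x4d9c3a36000014b423be32321cd28595904062f20ad22618b41d) (.leaf 0))) (.node (.node (.leaf 0x24b1154400010a641e5406c7103384320f15e6f971f5c712412d) (.leaf 0x30ba42e000004a3447e8487a143385565f09476607654a21470b)) (.node (.leaf 0x208b4fda0001209d0b53269b0e910577a757b49b0c05806de70a) (.leaf 0)))) (.node (.node (.node (.leaf 0x313b52b9000005a411bd0c1b14438577ea19714607664f537333) (.leaf 0x2022b10531300003a1450950f9a12418417f33fd30c5aa63c7bd586)) (.node (.leaf 0x152c212700001a6e3cc9140f0aa305934b55b3f54611d2180333) (.leaf 0))) (.node (.node (.leaf 0x2a3c2b9900010f6129bd29bc122385944937839f75e1ec12412d) (.leaf 0)) (.node (.leaf 0x517d392f000027aa31e74a2e1e8685b5777e01b91aa7f828f2c7) (.leaf 0))))) (.node (.node (.node (.node (.leaf 0x3fd9384c0000035a0b060b05189585356472375c4a979f15632d) (.leaf 0x12e44d6c0001349241c54c2b0a3704976957f16e1506fe41d335)) (.node (.leaf 0x2924366e000117843878387710e204953a73150352f30d049518) (.leaf 0))) (.node (.node (.leaf 0x1db0487f00010cda244122680cf28416ea78e29f31004a3337bd)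 (.leaf 0)) (.node (.leaf 0x50bf14870001240e0cc434b81e7285f1ff3b469a6102f9333025) (.leaf 0)))) (.node (.node (.node (.leaf 0x21e040a9000007fe183718360eb704162a2dd14c67679c2cb7d9) (.leaf 0x4bbd1c24000040cf2e041f411c9285b2bf1bd2412461775be70a)) (.node (.leaf 0x263533e100011d7640b32fd5106284b5000ae37f2783b17d9518) (.leaf 0))) (.node (.node (.leaf 0x4f751e1000012052f082f0704d584f7d4058725290626428734) (.leaf 0)) (.node (.leaf 0x44ef009800002b8f4cb9397d1a7705f00c3720f41127b60005fc) (.leaf 0))))))) (.node (.node (.node (.node (.node (.node (.leaf 0x3edd28730000009902280227187485b3ff25b52564b17a12d24d) (.leaf 0x372f483400012ea44e540ed4164305f6e53883f10eb66e537335)) (.node (.leaf 0x295f3085000014080ed332b710e585f4b427437f63938c124156) (.leaf 0))) (.node (.node (.leaf 0x3c2347ca000109c91cde1cdd18230476db524172008147586335) (.leaf 0x3a7f0c5e000047514bfd52b516c785f12c7de16e4ac39032d333)) (.node (.leaf 0xf3451f00001fdb436a436904578476936c017223a66e537335) (.leaf 0)))) (.node (.node (.node (.leaf 0x510e66245f0000051110190701088704d39a7d53171f93d57bd2ab)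 (.leaf 0x2a755129000138b417ae2c62122784b7c64072eb0ae2f341d12d)) (.node (.leaf 0x9cf1983000119b03bbf138906b605f27b0e17fa1a109568a2cb) (.leaf 0))) (.node (.node (.leaf 0x362a18cb00000eba24392863162305526b4e45b141e54a21470b) (.leaf 0)) (.node (.leaf 0x32d30620000026bd1f024977147484709202852542c22c70b24d) (.leaf 0))))) (.node (.node (.node (.node (.leaf 0x2e21823400000002cb094c094b0eb104550400b30f23e347786180) (.leaf 0x535523580000335723400ae71ec484b37e4b916c6082262ab7b2)) (.node (.leaf 0x17b91398000116cd375b375a0af38531eb4c97ac26b4352625be) (.leaf 0))) (.node (.node (.leaf 0x52ba362c00000c3f07a422d31eb38555346ca18542e2b62957d9) (.leaf 0)) (.node (.leaf 0x2a7a3eff0001232d4689193b12278555fe8082357fb5ff18012d) (.leaf 0)))) (.node (.node (.node (.leaf 0x4f2d111f00000767169e169d1e4305b1ad77b14c5c15626de049) (.leaf 0x28ca20c600003ee952ea09fc10d505533d42235d6521cc70a586)) (.node (.leaf 0x9a420ba00001cba3fc53fc406b304933c5553ed160265295621) (.leaf 0))) (.node (.node (.leaf 0x212f2235000111561ce111e70ea205f3663260875e122c70b262)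 (.leaf 0)) (.node (.leaf 0x53a40a7300012a7a0fca36931ed30490fc0d414c1090de32d049) (.leaf 0)))))) (.node (.node (.node (.node (.node (.leaf 0x3eed099f000101af007605c8187705b0e774203d7734010005be) (.leaf 0x1cba4a40000130da4aef4f5b0cd285571d09118375d08e2ab41d)) (.node (.leaf 0x52252f3b000015582552351e1ea304b49460514c5c108a149049) (.leaf 0))) (.node (.node (.leaf 0x85258a025d00010b05167b1fd5105105503352d60b7d4777025586) (.leaf 0xd7f0a0400004da153e920e9086785f0f141b11d41938c1245fc)) (.node (.leaf 0x2d83131100002183212b44fd12b20471db0d73510d334d049000) (.leaf 0)))) (.node (.node (.node (.leaf 0x20f21bc700010638135c01b70e968452b91b32b46636d024d70a) (.leaf 0x104c272300013b9937782c8608c50593dd1d072b6e06d870a786)) (.node (.leaf 0x44b1211400011b2c3dc93dc81a72843349144222069027546537) (.leaf 0))) (.node (.node (.leaf 0x87c4d33000010082b1a2b19068785976506d2790af10e53718b) (.leaf 0)) (.node (.leaf 0x3c08402b0001289a3f96337d182205161c4f835342f17a12d214) (.leaf 0))))) (.node (.node (.node (.node (.leaf 0x520b23b3000003ea0a2f0cb61ea105738b2c11826b94c521441d)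 (.leaf 0x4e054ade000135d21f9551131e2204b72878426e30756e621124)) (.node (.leaf 0xcfc2dc10000183b1e513996083785947413f4871966fe180335) (.leaf 0))) (.node (.node (.leaf 0x2642379900010d7b0da625a510650455526c237f43941741d518) (.leaf 0)) (.node (.leaf 0x15c40754000124f5387348120ab40490ac3595504c03b17d968a) (.leaf 0)))) (.node (.node (.node (.leaf 0x103b0fb70001089419cd19cc08c385718d52605b3132d92c7621) (.leaf 0x13ac0108000142b2537316f90a750590174073ea3932f341d6de)) (.node (.leaf 0x32bc4b7300001e3d0ad641a014728597371425bf7320756216de) (.leaf 0))) (.node (.node (.leaf 0xe991063000112b1304824d6089185319d39b4374fc60e7bd32d) (.leaf 0)) (.node (.leaf 0x13ce086e00002c9037ac4d410a7605d0ca76768d10118e15f486) (.leaf 0)))))))) (.node (.node (.node (.node (.node (.node (.node (.leaf 0x3378499e000100550015013b148785170977b50f54d5626de2ab) (.leaf 0x523729b300002e191bfe0d321ea384f41e1d72b076726a149049)) (.node (.leaf 0x2de716b0000013b0322d322c12b704f23307b759633314262546) (.leaf 0))) (.node (.node (.leaf 0x39c291d0000097f1c170b2704b285940c59752a37e50a3332cb)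 (.leaf 0x2641443f0000460736134ebd106504367f7f75c61de1d2180156)) (.node (.leaf 0x51b1029000011f7542f439031e928430380182b45665b25be2c7) (.leaf 0)))) (.node (.node (.node (.leaf 0xd705150000104c60f40044408678417c90d35e25841ec2625fc) (.leaf 0x172a43b2000038035162446f0ae30556730e028432578d1245fc)) (.node (.leaf 0x4d571b92000119533b3119151cc484f2b30fb1204a534a18b15f) (.leaf 0))) (.node (.node (.leaf 0x33cc1af100000e6627b027af14960592a30744370a57f824d428) (.leaf 0)) (.node (.leaf 0x3af11740000126543d5747d816d78432440503e42973cb32d335) (.leaf 0))))) (.node (.node (.node (.node (.leaf 0x522649360001028300b4086c1ea304d6fd29a09d75a2b62957d9) (.leaf 0x286f3fd6000132b04a07211210c705f6153730c40564d62c712d)) (.node (.leaf 0x632e440000167536d12f6d044704748119966c15071c486335) (.leaf 0))) (.node (.node (.leaf 0x4b23f7500010bed220f220e04d384560c3a566c6da174428335) (.leaf 0)) (.node (.leaf 0x1a0c37f4000022be41a042140c8105955917c3fa3ac24055a2c7) (.leaf 0)))) (.node (.node (.node (.leaf 0x1f4625360000071c15cd004d0e4604d3ac4321837cc69528f180)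 (.leaf 0x24d50f3d00003e0643cb4b46103684b17c6d460b0240cb15f586)) (.node (.leaf 0x4b4915c200001c561c9c0dfa1c8505321b17c3fa69e05d55a70a) (.leaf 0))) (.node (.node (.leaf 0x2ed93af4000111020d1a2d0c12d585359e1176fa5f05c82c7586) (.leaf 0)) (.node (.leaf 0x3c0732fc00002a0133f613aa182204f4ec71d3b333f804546214) (.leaf 0)))))) (.node (.node (.node (.node (.node (.leaf 0x118b2c600000016904e204e108f105745901c13c5a55ff18055a) (.leaf 0x5210459100013044403741911ea18416a21b56dd50e5b421441d)) (.node (.leaf 0x1042f9b3708000015073487348612f18575474245ab39630841d156) (.leaf 0))) (.node (.node (.leaf 0x2dd6516100000ab31f151f1412b684d7ca18d3126af4987b2586) (.leaf 0x2992262c00004bd43b03521610f18453c35aa6d65d913241d518)) (.node (.leaf 0xa214ced000021132477426c06c304375e7323f11933cb428335) (.leaf 0)))) (.node (.node (.node (.leaf 0x1f54ffc000105ed01ba128e047784b7a968f4797781867345fc) (.leaf 0x19042400013acb19ff4c4104448530611d86e22bf1775fc68a)) (.node (.leaf 0x20aa4a1300011acf08fa3d510e920557170bd2410c00135be70a) (.leaf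 0))) (.node (.node (.leaf 0x40d7007d00000fb82a6f2a6e18b484f00a5595a916180454668a) (.leaf 0)) (.node (.leaf 0x22d23685000028233d4042db0ed484553c1842a419f6182ab7b2) (.leaf 0))))) (.node (.node (.node (.node (.leaf 0x362a90250d000103a20be00bdf12328413a96bb45a4aa4d9049586) (.leaf 0x426b03be0000353b283150e11a2505705574578f3e0147000295)) (.node (.leaf 0x410d15d2000017e0390930e818e205b21d14307e77b79012d486) (.leaf 0))) (.node (.node (.leaf 0x1cf18dd00000d2924ea24e9047605f26c6f57a42853c768a6de) (.leaf 0)) (.node (.leaf 0x37182a9e0000248137dd0229164185143471e5151a142055a214) (.leaf 0)))) (.node (.node (.node (.leaf 0x4aaf39b2000108471904052a1c7205f5841f50ec6901a23337bd) (.leaf 0x11fd057a000041bf4cb3372808f685b07b7103982196e915f537)) (.node (.leaf 0x12e753de00001dd9185341260a3704f8067c51723265ff180333) (.leaf 0))) (.node (.node (.leaf 0xebf17390001125e2fa32fa2089385f24342a7982d160a02518b) (.leaf 0)) (.node (.leaf 0x390031f000012c0b10784cfd16820414d102d0055f305e5be428) (.leaf 0))))))) (.node (.node (.node (.node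 (.node (.node (.leaf 0x2d373ddf000000de0312031112a384f5e58082350a6417180546) (.leaf 0xc01318f00012f2b22a8375308240434c773501e29732e049113)) (.node (.leaf 0x8e126e4000014583351335006970433d728c79850b6f848618b) (.leaf 0))) (.node (.node (.leaf 0x7e7441200010a16030c1d9b067704f67c0e810740f4c52145fc) (.leaf 0x3a174e83000148a143492dca16c184f78410106421b17432d214)) (.node (.leaf 0xd3b4bec00002038381d284e08658577415f07a459a5bc18055a) (.leaf 0)))) (.node (.node (.node (.leaf 0x59430607800000055910e810e71a4104d0af00452a73f20e156786) (.leaf 0x4ca01e73000039661cf64e0a1cb30412fd28600f0f608a295049)) (.node (.leaf 0xe0b4e4d00001a12240a276b088105777e5fd7d16863b07bd32d) (.leaf 0))) (.node (.node (.leaf 0x35424a9f00000f0e2850291514e40457227cb58357512333528f) (.leaf 0)) (.node (.leaf 0x15143f650000273430a049af0aa18496094413ce2b31ec124149) (.leaf 0))))) (.node (.node (.node (.node (.leaf 0x2bb15259000103120a280a2712538437e04812eb1c572e025546) (.leaf 0x532d303a000133f823b54b1e1ec305b4ad38e0832610de428049)) (.node (.leaf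 0x45ad52a600001725113837ec1a9305b7e73ac38a49e79f5182ab) (.leaf 0))) (.node (.node (.leaf 0x37fc33ac00010c8b03d9238e16568594fc5ca7d21ac7fc28f295) (.leaf 0)) (.node (.leaf 0x38eb2876000023961c13313e16770573ff2f52e964b40d7865be) (.leaf 0)))) (.node (.node (.node (.leaf 0x1ee408f7000007b0176717660e370490d948509d6ea203295049) (.leaf 0x488f0de100013fea487e4a081c3205f15825627f2a86cd70b262)) (.node (.leaf 0x3cd8270900001d15403e296218348513db4cd5730bb17a12d68a) (.leaf 0))) (.node (.node (.leaf 0x17bc3c76000111ab2e602e490af38595c93395215a64a22625fc) (.leaf 0)) (.node (.leaf 0x474c0500012aff450a12c4044604f7434327d264569528f149) (.leaf 0)))))) (.node (.node (.node (.node (.node (.leaf 0x2a3717b9000101f506aa06a9122384f2513d82eb337242262546) (.leaf 0x33bb20a10001316b147e08c0149385733b0552cd3af2a75372ab)) (.node (.leaf 0x1c81183b000115ba35b735b60cd104325b58570322462f32d262) (.leaf 0))) (.node (.node (.leaf 0x2bd50ce00000b5120932092049385b7bf7022cd3df46455a2ab) (.leaf 0x23927d743720000501c5337518610b684f66f15935d03130a7b2000))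 (.node (.leaf 0x357d32a0000121e6149c456914e685b4e40086a336f2ad68a55a) (.leaf 0)))) (.node (.node (.node (.leaf 0x48e4348000010682142c142b1c3504951100a3017ad1ea786180) (.leaf 0x48582f1400003c64329724741c2485149223b12001f63b70b15f)) (.node (.leaf 0x33014bb300001b8d3e423e41148204373d0e415a34805e5be428) (.leaf 0))) (.node (.node (.leaf 0x3eb81488000010592bc7097218728511ff46f1cf10179012d486) (.leaf 0)) (.node (.leaf 0x432b4c50000129103c424aa31a4305774b0041a741e58115670b) (.leaf 0))))) (.node (.node (.node (.node (.leaf 0x26710a8b000104320d910d9010668430fe6d45031de0cb15f156) (.leaf 0x26bb0edb0001367f514f1ed5107285716d5b31ef4736ed049518)) (.node (.leaf 0x383133e20001189d3a210e4e16628435001425bf74944b62155a) (.leaf 0))) (.node (.node (.leaf 0x192e4ed200010dcb044526520c4505d7911996ae74f2a7486124) (.leaf 0)) (.node (.leaf 0x3a04679000125600f3c2b7104b30416bc32337606f073295621) (.leaf 0)))) (.node (.node (.node (.leaf 0x13674d02000108e005061a8c0a6704f7600e02846112df1245be) (.leaf 0x36403b4b000143bb282747d216260415a55490065f6218113786))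 (.node (.leaf 0x365b3ef100011ea60a8939ee16268575fe3110061f32871132cb) (.leaf 0))) (.node (.node (.leaf 0x528b34350000130630e311e31eb105750925c12733932a214180) (.leaf 0)) (.node (.leaf 0xe79023f00012d08136a2ad7088785303176968b58772e0252ab) (.leaf 0)))))))))

/-- part of a table -/
def entries38 : Trie := (.node (.node (.node (.node (.node (.node (.node (.node (.leaf 0x5143007100000013004b004a1e8504700a1382f84dc08255a2c7) (.leaf 0x3f4804e000002d8d35434dc4188505106e0dc4900553da156428)) (.node (.leaf 0x6c63a260001135d318a3118065604d58d26b14812c4a328f295) (.leaf 0))) (.node (.node (.leaf 0x204d0dbe0000092d1b5408950e8505b1536812116d75384862c7) (.leaf 0x43ea4725000044ea53a84b2e1a570556cb2cc05b77620e156621)) (.node (.leaf 0x37a133db00001f0a1d5a01bd16530434ff5a50b44270ba486333) (.leaf 0)))) (.node (.node (.node (.leaf 0xe9d22b70001047b0e690e68089185b3705025ce39c24b7bd428) (.leaf 0x325130d300013741341a517914648434bb23b5250707f970b28f)) (.node (.leaf 0x15a22966000018fa3aab3aaa0ab30454153e948761a308180335) (.leaf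 0))) (.node (.node (.leaf 0xc3285e00000e1a2705270404560473fd6e51480fa0d828f149) (.leaf 0)) (.node (.leaf 0xb4127e7000025d742993b7106e40433f036c3561586b562124d) (.leaf 0))))) (.node (.node (.node (.node (.leaf 0x381a16db0001023c078f078e166185523954016677417b2cb486) (.leaf 0x1ede48b70000321137104dff0e3685d6f25e627f5da392113262)) (.node (.leaf 0x3fea405c0000161136402786189705562070c42606a7e95182ab) (.leaf 0))) (.node (.node (.leaf 0x485e031b00010ba2215821571c2485d0464f616c46633862115f) (.leaf 0)) (.node (.leaf 0x3317357e0000225145c645c5148284f5286d50055f30c95be428) (.leaf 0)))) (.node (.node (.node (.leaf 0x10424273000006ce150014ff08c50456520a17f24e01cc2c7786) (.leaf 0x420c0b8c00003d274a9349681a220591155dd01d4e017a546214)) (.node (.leaf 0x378d025700011beb0d163ec0165105b0332297250442b555a214) (.leaf 0))) (.node (.node (.leaf 0x47028da000110af2c6b114904c584140767f01d48e0de428734) (.leaf 0)) (.node (.leaf 0x236524af0001298436a11a420ee604b3a16da1ca0c003f113025) (.leaf 0)))))) (.node (.node (.node (.node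 (.node (.leaf 0x44b9457000010124004e03fd1a728536a00b816647d3f4546537) (.leaf 0x15164b3000002fbc4e744edc0aa184d73107b14829b677262295)) (.node (.leaf 0x3b77235a000114b40f5e30d716e684f37e53459c38309511355a) (.leaf 0))) (.node (.node (.leaf 0x4b5d165f00000a651e5500771c8585b22a7b12a25025626de2c7) (.leaf 0x20391eaf00004a3a2b8953cf0e828533038023fa70c4045fc70a)) (.node (.leaf 0x48af030a0000209f410844361c3305f0456451851590342cb049) (.leaf 0)))) (.node (.node (.node (.leaf 0x4626196d000105a411bf11be1aa204d2776497ed4b41e412d734) (.leaf 0x9a54b9800013a1752214e2f06b304b73b2aa2a631a2d7295621)) (.node (.leaf 0x3f5a2f8a00001a6f3cca3414188585549d4d70c14fd7db51832d) (.leaf 0))) (.node (.node (.leaf 0x3474201a00010f6229bf29be14c784932967f5f476346c428333) (.leaf 0)) (.node (.leaf 0x5cf27b3000127aa42f64a2f04f405f3e932637454d22c70b24d) (.leaf 0))))) (.node (.node (.node (.node (.leaf 0x225e394f0001035a01f00b070ec485d5797c01b75ba52018b15f) (.leaf 0x204015f2000134933fb150ae0e8504121f1712f879d33e48670a)) (.node (.leaf 0x49a0d03000017852741387904d285513b2646514ae5202ab295)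 (.leaf 0))) (.node (.node (.leaf 0x3c0f020b00000cdb07580457182205f02e6762d233d1be546214) (.leaf 0)) (.node (.leaf 0x27c920d30001241127f40c2510b605333f33c33442430b7b2000) (.leaf 0)))) (.node (.node (.node (.leaf 0x2cd9163d000107fe1839183812758532256526275262f3180518) (.leaf 0x376607c7000040d04f8329ac164604d0b74327d206e69528f149)) (.node (.leaf 0x1492b8f216c00011d771f7c1fbb125105f3527463512206b47bd586) (.leaf 0))) (.node (.node (.leaf 0x19cc2d84000012062f0a2f090c560594703c007232c71324d180) (.leaf 0)) (.node (.leaf 0xabc024e00012b8f4cba3e8c06d38590326d97641b21ee32d333) (.leaf 0))))))) (.node (.node (.node (.node (.node (.node (.leaf 0x16383b0500010099022900650ac385159f21e5ea4ad72c70a621) (.leaf 0x1ad3d1045cd00002ea54cab13e518418416a65e07f259e15d1562cb)) (.node (.leaf 0x86c1b11000114082ec632b806870592a821a68b2c36f848618b) (.leaf 0))) (.node (.node (.leaf 0x1801206f000009ca1ce01cdf0c240433366e607f17004a3337b2) (.leaf 0x7510b9a0000475253c626c3066684311654e07a46521868a55a)) (.node (.leaf 0x421e03dc00011fdb0b07436b1a2285d05772d11e7c10a912d214)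 (.leaf 0)))) (.node (.node (.node (.leaf 0x314c3961000105110176101a144405957b0e401e6c905e5be68a) (.leaf 0x323d0b64000038b5454e37a5146285b11225265a77423f70b55a)) (.node (.leaf 0x42a4cf9000119b130cb3bc004c305575f5944874ba6f132d335) (.leaf 0))) (.node (.node (.leaf 0x468717ce00010eba245c28641ab104f2526707b453d3bd000295) (.leaf 0)) (.node (.leaf 0x9304eb4000126bd4979497806a384178c2865ea507202295621) (.leaf 0))))) (.node (.node (.node (.node (.leaf 0x13b74965000102cb094e094d0a7584f7013cd5df7de30841d6de) (.leaf 0xe261b7e000033584ecb222b088304d2b15fd50f1b32e47bd2ab)) (.node (.leaf 0x6a413aa000016ce375c012d06550491ed6d36800152b555a214) (.leaf 0))) (.node (.node (.leaf 0x29d2043700010c3f22d522d410f584506222f32748178d262518) (.leaf 0)) (.node (.leaf 0xde813310000232e46953f9708770511de1191070a44a22625fc) (.leaf 0)))) (.node (.node (.node (.leaf 0x2fa416f50001076716a0169f12f204923b2ff62714e7407d9156) (.leaf 0x13db4f0400013eeb3fec4e470a7685779418d6cf0094987b2486)) (.node (.leaf 0x12b1294400011cba3fc73fc60a358434111f07d22b255f262149)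 (.leaf 0))) (.node (.node (.leaf 0x11812ad3000011572dba2db908f104343a11b6a35d627a41d6de) (.leaf 0)) (.node (.leaf 0xe39173400002a7b4c250e6508838532431ed6b31ad5060252ab) (.leaf 0)))))) (.node (.node (.node (.node (.node (.leaf 0x1639351b000001b005ca05c90ac385351f51c1a72c014570a621) (.leaf 0x1bf48070112000030db4cec43db1c2204f01810b4102452f0621124)) (.node (.leaf 0x2fcc165a000115580c7b1a8512f505922a46862714e0bf124156) (.leaf 0))) (.node (.node (.leaf 0x529f38e000000b061fd60dbc1eb185f56f0162da3d832a734180) (.leaf 0x2ae715bf00004da64ee251c3123704f21a7e36364a5132180546)) (.node (.leaf 0x45de04e7000121830bb244fe1a9585d06e3680cd1ae7db15632d) (.leaf 0)))) (.node (.node (.node (.leaf 0x9cb4d3400000639135d11bd06b60577650b605f7d013768a786) (.leaf 0x5f02b1100003b9a522f523804f584144106725d321283786486)) (.node (.leaf 0x350a15de00001b2d249e336c14e105521d53107e706154295486) (.leaf 0))) (.node (.node (.leaf 0x1f93488a0000100923382b1b0e548476eb54c6996f30c95fc7b2) (.leaf 0)) (.node (.leaf 0xd9e13370000289b416646de087485d1de45576a0a470704928f)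 (.leaf 0))))) (.node (.node (.node (.node (.leaf 0x26590982000003eb0cb80cb710658530e60415031c31d241d156) (.leaf 0x171f3952000035d3450027ea0ae185f57a02c4953f678b18055a)) (.node (.leaf 0x371744ba0001183b39983997164184f6885487ff6323456de214) (.leaf 0))) (.node (.node (.leaf 0x349e180600000d7c1fe525a614d185d2563a56802ba58e428734) (.leaf 0)) (.node (.leaf 0x5060022b000124f60d2d3dac1e660410306da1ca6462ad1137bd) (.leaf 0)))) (.node (.node (.node (.leaf 0x4e2747cc0000089519ce01791e2304f6db57738475a17b2cb7d9) (.leaf 0x8685346000142b31f33457a06870517f64467485145384862ab)) (.node (.leaf 0x5233005800011e3d371441a11ea384700852c0896bc2b61497d9) (.leaf 0))) (.node (.node (.leaf 0x412c52ab000112b2304a304918e30597e76174797e013e0005fc) (.leaf 0)) (.node (.leaf 0x2176202900012c914d4227870ea784d32c26900f3203472cb049) (.leaf 0)))))))) (.node (.node (.node (.node (.node (.node (.node (.leaf 0x46440e8b00000056013d013c1aa40491674a00f753a17a54668a) (.leaf 0x1ca7440d00012e1a15ac2db60cd204f67b6e36dd5795202ab41d)) (.node (.leaf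 0x20d01a20000113b0322f322e0e9584128b07127d4f56be5372c7) (.leaf 0))) (.node (.node (.leaf 0x1e3b4cb00001097f16de1c180e2585775608830f260195734180) (.leaf 0x160c3ba50000460d387645840ac10595b321e6564d572c70a2cb)) (.node (.leaf 0x9882c3b00001f7642f5396e06b20514556e605f08804a3332cb) (.leaf 0)))) (.node (.node (.node (.leaf 0x46662484000004c70f420f411aa704d39d3e24254383bd000335) (.leaf 0x1f025201366000138044e7c364e10430411e558d39e5e324b02512d)) (.node (.leaf 0x384b0aa5000019543b32157f16640571012bf6ef59333870b28f) (.leaf 0))) (.node (.node (.leaf 0x1b5a3daa00010e66087527b10ca48555e14ac16c4a022c6217b2) (.leaf 0)) (.node (.leaf 0x4e9301f800002655102a26171e3284702d4f626e307221621124) (.leaf 0))))) (.node (.node (.node (.node (.leaf 0xbe4280200000284086e086d06f50493f32c668d0542e72cb537) (.leaf 0x253b09b2000032b248de233910438570e91ce5563ca2e47bd546)) (.node (.leaf 0x340435e30000167636d336d214c10495300fe3b32bb0de428734) (.leaf 0))) (.node (.node (.leaf 0x7872d0c00000bee22112210067404f4675906ef40525033524d) (.leaf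 0)) (.node (.leaf 0x3c26052c000122bf1baf4636182304d0745e166c4e3118586333) (.leaf 0)))) (.node (.node (.node (.leaf 0x38ad18920001071c0c8115ce167205b26417e3ea7e163b70b6de) (.leaf 0x153b3c7f00003e073ec652800aa38575c97e30b4313132180335)) (.node (.leaf 0x114d272e00011c563f3a1d4c08e405b3dd73555d27632e04928f) (.leaf 0))) (.node (.node (.leaf 0x4ee40f36000011032d0d2cce1e3504917c24412702479c2cb180) (.leaf 0)) (.node (.leaf 0x280f18e600012a010f802cc910c105f26d3737083e74d62c7000) (.leaf 0)))))) (.node (.node (.node (.node (.node (.leaf 0x45691a0b0000016a04e404e31a870532895a82790bd0475182ab) (.leaf 0x475137c7000030474f1e47731ae484355550463767d41f54628f)) (.node (.leaf 0x33f14f9c000115073489348814978437a16d32cd0512b555a18b) (.leaf 0))) (.node (.node (.leaf 0xed22a2e00010ab30f9b1f16089584542b7291e07b13d5025428) (.leaf 0x22f1481077500004bd65182424b0a910430ae1aa1e016b60e02532d)) (.node (.leaf 0x85c2c2b0000211419b9449c068685945449e0c12195cb28f32d) (.leaf 0)))) (.node (.node (.node (.leaf 0x303e3647000005ee1290128f142385d53638f3ed7e760021470b)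 (.leaf 0x2a0d0b8800013acd35b50c5e122205b1153593303e83b17d9000)) (.node (.leaf 0x1a09492200001ad03d5232a30c810536fc1bb2116a14fa55a70a) (.leaf 0))) (.node (.node (.leaf 0x165226e700010fb806ab2a700ac58453d73ec43166f4d62c72cb) (.leaf 0)) (.node (.leaf 0x4afc1e32000128230e9c46751c768592f616009e76018a68a025) (.leaf 0))))) (.node (.node (.node (.node (.leaf 0x3bf83fda000103a30be20be116f68516155e579b44e49768a6de) (.leaf 0x228c4a140001353b480250e20ed10597170d472443362f32d262)) (.node (.leaf 0x28651bf0000117e007dd23ac10c704b2bc1165562ff78970a546) (.leaf 0))) (.node (.node (.leaf 0x4831401700010d2924ec24eb1c2384361b39714c6ce21c2cb7d9) (.leaf 0)) (.node (.leaf 0x2780038d00012481369d0b4610b204105273114179530d049000) (.leaf 0)))) (.node (.node (.node (.leaf 0xc3c4ac5000008481906190508258597271190194444a2262149) (.leaf 0x27734c62000041c142e04ddc10a784774e0986557a8242124546)) (.node (.leaf 0x379c2c0600011dd91dfa01ea165185945221911e58c4a66de734) (.leaf 0))) (.node (.node (.leaf 0x3fc40abb0001125f2fa52fa4189504910272375c17115d156428)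 (.leaf 0)) (.node (.leaf 0x33ef301600002c0c12103917149705f4ab3481bc45208255a18b) (.leaf 0))))))) (.node (.node (.node (.node (.node (.node (.leaf 0x4bc927f9000100de031403131c950533f240850c5fd4646de2c7) (.leaf 0x1dc620e300002f2c498637170cf504d3420d509e3681957347bd)) (.node (.leaf 0x42dc2ca800011458335333521a3485945f3a75d36a241f546113) (.leaf 0))) (.node (.node (.leaf 0x524613e700000a170ae21d9c1ea404d1f33a06b71c24b53337b2) (.leaf 0x22b1f512534000048a23cd94e610e468433ac3250f957056028f41d)) (.node (.leaf 0x24ff3dff0000203943ce01d4103785f5e77f622d7e65bc41d12d) (.leaf 0)))) (.node (.node (.node (.leaf 0x53893f230001055910ea10e91ed205360420430f79e5b718b41d) (.leaf 0x295806710001396651f73c7f10e58510990d30b34290bf262156)) (.node (.leaf 0x35d94a2f00001a1327683c4514f48537197805254453fc33328f) (.leaf 0))) (.node (.node (.leaf 0x1cfa462200000f0f291729160cd78556b00580830b8390428049) (.leaf 0)) (.node (.leaf 0x19a221b40001273449d541b20c5504535a3fe08775d64f486124) (.leaf 0))))) (.node (.node (.node (.node (.leaf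 0x1ef308f8000003130a2a0a290e378470d948e1f746f09f2957d9) (.leaf 0x400017c5000133f9507a158818a104125223e08b040026000149)) (.node (.leaf 0x52f81783000017260ff50e7c1eb685124a4ba7037e340a68a262) (.leaf 0))) (.node (.node (.leaf 0x99e2fd600000c8c1b2e1b5e06b285d4a52597fa2c12343332cb) (.leaf 0)) (.node (.leaf 0x18873d96000023972d8d2f080c3404f5e03a06b72fc4b53337b2) (.leaf 0)))) (.node (.node (.node (.leaf 0x3ad61743000007b10798176816d484d24426457322b5202ab68a) (.leaf 0x52a46a700003feb2e70532604e30556c12ba3ee2120347865fc)) (.node (.leaf 0x1b30108300011d163aa7403f0ca284119f23b5a26d17f970b262) (.leaf 0))) (.node (.node (.leaf 0x42a32564000011ac2e611a6d1a330473af3727a25c547c000335) (.leaf 0)) (.node (.leaf 0x35f3110300002b004c62437f14f68471ac2237e80713921136de) (.leaf 0)))))) (.node (.node (.node (.node (.node (.leaf 0x1f722535000001f606ac06ab0e478453ac3db1f75cc4cc6de7d9) (.leaf 0x6e9316d0000316c389d2a5c06570534c46867dd7b0538486333)) (.node (.leaf 0x2c8e0f6e000015bb35b935b8127105d18479564769078d262518) (.leaf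 0))) (.node (.node (.leaf 0x1218333900010b51209520940a248514f14936626443b104968a) (.leaf 0xd3126550000501f5371178508658433c63e879b2252f341d6de)) (.node (.leaf 0x29631d72000021e72dcb456a10e60472dd1c51ef69318e15f518) (.leaf 0)))) (.node (.node (.node (.leaf 0x1773089d00000683142d00460ae68470d276f6cf4565a77b2486) (.leaf 0x469e18a800013c65529b19931ab185d26657908b5f147c000149)) (.node (.leaf 0x4c4f3fdf00011b8d3e4311011ca405f6157cb0815c04a83357b2) (.leaf 0))) (.node (.node (.leaf 0x2e3129bf000110592bc92bc812c384341e6592eb33778970a546) (.leaf 0)) (.node (.leaf 0xa23387c0001291127374b2c06c304756764e42554e39032d333) (.leaf 0))))) (.node (.node (.node (.node (.leaf 0x462a3560000004330d930d921aa20555270294eb3291be12d214) (.leaf 0x10510685000036804abe3c5808c584309a1d072b59e5c870a2cb)) (.node (.leaf 0x29a73d860000189e3a2222a610f204f5de4667585bd34d7d9156) (.leaf 0))) (.node (.node (.leaf 0x397f0fc900000dcc26542653168785f18f5d250f54d17f6de2ab) (.leaf 0)) (.node (.leaf 0x1c3d3bf600002561486147ad0cc285b5ba4800ea63d58f2ab180)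 (.leaf 0)))) (.node (.node (.node (.leaf 0x46714339000008e11a8d17d41aa78436673a10b420813e586333) (.leaf 0x3b1f4f83000143be2029484216e185f7a029007d0a857d149537)) (.node (.leaf 0xf8e3cf100001ea742111a9208b105d5d40987bc094677124295) (.leaf 0))) (.node (.node (.leaf 0x47f6304c0001130630e40dac1af584d4ae74f0d00461470006de) (.leaf 0)) (.node (.leaf 0x1de4172200002d0a4d89224d0cf604923e1c40ec35b03f113025) (.leaf 0)))))))))

/-- part of a table -/
def entries39 : Trie := (.node (.node (.node (.node (.node (.node (.node (.node (.leaf 0x17c626e300010013004d004c0af404d3d713b6666694b104924d) (.leaf 0x2cf14dde00002d902835423b127684377478262715b55c15f518)) (.node (.leaf 0x44d057b0001135e25a9318b04c405b07b77350125551d2ab68a) (.leaf 0))) (.node (.node (.leaf 0x44c039cf0001092d1b561b551a740415856f41fd35402754624d) (.leaf 0xa99395d000144ea2ecf4d9506d285357a63e03e7265b718b149)) (.node (.leaf 0x46bc2eab00011f0a301040791ab28594895f93b30673e6546734) (.leaf 0)))) (.node (.node (.node (.leaf 0x4a04145c0000047c0e6b0e6a1c610491fb4d52a04677502147bd)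 (.leaf 0x139653b800003747517a379d0a7484d80345971b0077077d928f)) (.node (.leaf 0x47e54913000018fb31893aac1af504b6fb3a149521013e5866de) (.leaf 0))) (.node (.node (.leaf 0x481d34a300010e1a270727061c2285b51423a6a97f756e70b124) (.leaf 0)) (.node (.leaf 0x29ce10de000025d848bd057010f505d1a87ce1ef64a677124156) (.leaf 0))))) (.node (.node (.node (.node (.leaf 0x29061f4ae10000023d07910790064485f7290515a96443465be68a) (.leaf 0x26e0be7000132124fdb338d048705d11f44d3174452a74862ab)) (.node (.leaf 0x21441a2600001612278210bd0ea404928b1506b74cd6b562115f) (.leaf 0))) (.node (.node (.leaf 0x130c138a00000ba3150121590a640591e960835627336b7d928f) (.leaf 0)) (.node (.leaf 0x47e43d070000225245c7327a1af50495d52b91b80710485866de) (.leaf 0)))) (.node (.node (.node (.leaf 0x496c32d3000106ce020015011c460594e71002f211c56024d41d) (.leaf 0x2f3b1c2f00003d2b527f4bb812e28572bf7e610c24634d7d9156)) (.node (.leaf 0x534713e100011bec3ec106941ec404f1f31126b744774c18b7b2) (.leaf 0))) (.node (.node (.leaf 0x144c40f1000010b02b332c6c0a850596310c77d12295067bd32d)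 (.leaf 0)) (.node (.leaf 0x241043fa000129854b7e4b6c102284167a5d03344003b17d9000) (.leaf 0)))))) (.node (.node (.node (.node (.node (.leaf 0x53b737640000012503ff03fe1ed384f54e3ff4d4767390428049) (.leaf 0x9bd490500002fbd43864edd06b385b6f71d97445492d7149621)) (.node (.leaf 0x24fc1496000014b5236f024d10378592003cf6bd7a8653180546) (.leaf 0))) (.node (.node (.leaf 0x174852e800010a651e571e560ae40517ee2db76d4c27407d924d) (.leaf 0x1a960d5600004a3d3dca4f300c9184d1434e76987623456de2c7)) (.node (.leaf 0x14060774000020a144373a660a8104d0ae1572ef67135f025428) (.leaf 0)))) (.node (.node (.node (.leaf 0x81c015b000005a511c111c0068285901f63a4e86864045fc32d) (.leaf 0x1479198a00013a1918964f800a8785327b4c650f54d60e7bd2ab)) (.node (.leaf 0x4109001c00001a703ccb08cf18e20530025ee07d4bf3f412d537) (.leaf 0))) (.node (.node (.leaf 0x3b8c15df00010f6329c129c016f105921d5551cf4c3267295537) (.leaf 0)) (.node (.leaf 0x433317be000027ab4a30054f1a4384725176277c08011a15670b) (.leaf 0))))) (.node (.node (.node (.node (.leaf 0x5c206860000035b0b090b0804f404509a22b1fd1bd75570b28f)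 (.leaf 0x13142ba000034954aa8438a046584365958c25d00c08a295486)) (.node (.leaf 0x46a2693000017861a022cc104c50553cd28551502105932d734) (.leaf 0))) (.node (.node (.leaf 0x28074e6b00010cdb2443244210c104f7805263348012d92c7000) (.leaf 0)) (.node (.leaf 0x4ff24ef800002412476a47691e568457934fe59b4686d024d41d) (.leaf 0)))) (.node (.node (.node (.leaf 0x3a95029b000007ff183b183a16d184b03859835366723632d734) (.leaf 0x229648db000040d2478f4f7c0ed184d6f436026e57048c428262)) (.node (.leaf 0xea414600001d78289440b4045705563937d3e46d2340486333) (.leaf 0))) (.node (.node (.leaf 0xe02a0130eb000012072f0c2f0b12220434bc5b66fa27b69b7d9586) (.leaf 0)) (.node (.leaf 0x523f329e00002b904cbb3a9f1ea385f4e370969775f207149049) (.leaf 0))))))) (.node (.node (.node (.node (.node (.node (.leaf 0x48a433d00000009a022b022a1c330494ff0622b05cd6287867d9) (.leaf 0x4e3f0ade00002ea745954bfe1e2385f10570e4d46c10342cb049)) (.node (.leaf 0x1952acd0001140932b92c3b047484b43973d52564b70d33324d) (.leaf 0))) (.node (.node (.leaf 0x4a0f4dac000109ca1ce21ce11c6105f7705f625701754a734025)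 (.leaf 0x38362f590001475352ca3e64166284d49952707a00c64d70b55a)) (.node (.leaf 0x1b2f49e300011fdc436c40c10ca205f7121612e1745221621124) (.leaf 0)))) (.node (.node (.node (.leaf 0x1b2b45fd00000512101c101b0ca20576ab64431955122c621262) (.leaf 0x5222115c000138b54bfc32401ea30451b259e3a478226a295049)) (.node (.leaf 0x51392009000119b2088b31401e828533264c143f64a1775fc70a) (.leaf 0))) (.node (.node (.leaf 0x111c291300000ebb1cad029408e185940c11b6a309027041d55a) (.leaf 0)) (.node (.leaf 0x49aa1b0d000026be3f3036281c530552a568e2b06d44cc55a7d9) (.leaf 0))))) (.node (.node (.node (.node (.leaf 0x2fc0538d000002cc0950094f12f50418006b93416255c7124518) (.leaf 0x1d0000432570001335816bb4fd704440494dc56d5f75de1b15be68a)) (.node (.leaf 0x2a9d0843000116ce375d2bca123285b0c643a3513d236b049000) (.leaf 0))) (.node (.node (.leaf 0x1c0b204500010c4022d722d60cc105733134f31b4426f132d262) (.leaf 0)) (.node (.leaf 0x2a273ac40000232f456b4696122304f5990e06890f678d124546) (.leaf 0)))) (.node (.node (.node (.leaf 0x41b03c30000076816a216a104c285705623d1485173b818b149)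 (.leaf 0x50a80fa900013eee52fd438f1e7205118c53e69a61029c333025)) (.node (.leaf 0x1c4634e300001cbb20d53fc80cc404d51b1126b72fc74c18b7b2) (.leaf 0))) (.node (.node (.leaf 0x456302fe000011582dbc2dbb1a870470447626071da11a15618b) (.leaf 0)) (.node (.leaf 0x60a35b000012a7b0fbd4c26064405552d0c650123b6c55fc68a) (.leaf 0)))))) (.node (.node (.node (.node (.node (.leaf 0xcb4144000101b005cc05cb04560576391ad45c47769528f149) (.leaf 0x13574201000130dc4f5c3f1e0a6684f64818d6cf2252f17b2537)) (.node (.leaf 0x3c7347ee000015591372351f18258476df7cc1485177e2586149) (.leaf 0))) (.node (.node (.leaf 0x41f313e600010b061c661fd718f58471f33954952101475866de) (.leaf 0x181197900014dab52bd263404740432784841fd35429c33524d)) (.node (.leaf 0x23252039000021843638319d0ee204b32f56a14f5e070d335025) (.leaf 0)))) (.node (.node (.node (.leaf 0x4ef4261500010639135f135e1e358493c23911046b943d2cb41d) (.leaf 0x3e6d383b00013b9b526e4a14186705b56369d5217eb1640005fc)) (.node (.leaf 0xa1a2cf300011b2e25290bf206c28554660653ce74e34a18b149) (.leaf 0)))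 (.node (.node (.leaf 0x3c8b478d0000100a0cc52b1c18320576d571d3b37ca65c546734) (.leaf 0)) (.node (.leaf 0x1b5d45e80000289d49ca20fd0ca485b6a823b1205dd7f970b7b2) (.leaf 0))))) (.node (.node (.node (.node (.leaf 0x47b30e3e000003ec0cba0cb91af38471605795213c07b60005fc) (.leaf 0x44354dc7000035d4511551141a6284b77350422268c291546486)) (.node (.leaf 0x7104c8a0000183c373313a306648417515977336a054333328f) (.leaf 0))) (.node (.node (.leaf 0x2d572e8d00010d7c0b2a25a712a684f4856303516c218e7b2586) (.leaf 0)) (.node (.leaf 0x17a40828000024f73dcb48130af30490be42b0f420d0b21245be) (.leaf 0)))) (.node (.node (.node (.leaf 0x5e101960001089619d019cf04f504302427e71159579c786537) (.leaf 0x53c35ca000042b5537430bf04e385952e39711d61f21c2cb5be)) (.node (.leaf 0x4255295b00001e3f133841a21a2484b4136ec5a9642790546113) (.leaf 0))) (.node (.node (.leaf 0x8f3ed0000012b3304b23a1045405f5fb11042d4ac2fa5be113) (.leaf 0)) (.node (.leaf 0x2ec53eb00002c924d434a1604970598085822cd0e40ba5372ab) (.leaf 0)))))))) (.node (.node (.node (.node (.node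 (.node (.node (.leaf 0x16c142c500010056013f013e0ad504365b2150c304c72c2c72cb) (.leaf 0x1a64e9a2c0000002e1b34d542421e3285545203526e09a755621124)) (.node (.leaf 0x39991402000013b1323006b016928531f51bd4370771775be32d) (.leaf 0))) (.node (.node (.leaf 0x4de920d7000009801c1a1c191cd505333f57c27f2a846c32d262) (.leaf 0x1f1b4580000046123b8b34a90e448576a10332a43aa0135be7b2)) (.node (.leaf 0x1ebf4d1a00011f76307842f60e3585f7625f610400154a734180) (.leaf 0)))) (.node (.node (.node (.leaf 0xae550ad000104c70f440f4306d504b7bb68c5761d946c32d214) (.leaf 0x35b440050000380548c851a714f384961a2b325f3c07507345fc)) (.node (.leaf 0x9a82075000119543b343b3306b30513371c905b0eb26729570b) (.leaf 0))) (.node (.node (.leaf 0x4c06209600000e6727b327b21ca104d33a1fc59b274195734180) (.leaf 0)) (.node (.leaf 0x35994f8c00012655491c250b14f18537a04d37723892d7149486) (.leaf 0))))) (.node (.node (.node (.node (.leaf 0x2afd107a00010284086f0234123785b19e6726362b737b18012d) (.leaf 0x91c1776000032b317423df006a28592491dd4cf0534da3332cb)) (.node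 (.leaf 0x274c4ca70001167636d4074410a60597534f970878a2947b2586) (.leaf 0))) (.node (.node (.leaf 0x53af028600000bef221205381ed305f0373a53847bf58e4287d9) (.leaf 0)) (.node (.leaf 0x27b430c7000022c03773463710b38494ba3f01e33326fe180546) (.leaf 0)))) (.node (.node (.node (.leaf 0x293a370a0000071d15d015cf10e28555475b31ef4c66ed049518) (.leaf 0x45dc37e700003e08454551fc1a958595583ac3994a73da518428)) (.node (.leaf 0x3658286300011c5709973f3b16268513fe1602c20e818a68a786) (.leaf 0))) (.node (.node (.leaf 0x17914b54000111032d0e276e0af18437354530d06c02f31806de) (.leaf 0)) (.node (.leaf 0xc94085600002a021b3a377108348490c73945d37d336b7d9113) (.leaf 0)))))) (.node (.node (.node (.node (.node (.leaf 0xaca10c30001016a006204e506d40551a616d55013108e2ab68a) (.leaf 0x10e513bd000130472fb54e4308d704b1f07011e21f16192c770b)) (.node (.leaf 0xaa34b9600001508348b348a06d304773b2257dd61a6f1428335) (.leaf 0))) (.node (.node (.leaf 0x1d4b3d3600000ab41f181f170ce50575d823c2576c84167347bd) (.leaf 0x5c64ea800004bdb34ab538b04f404d78a20937466964d70b24d))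 (.node (.leaf 0x3dbd42e600012115360f3849185385b65f3637662fd14d15670b) (.leaf 0)))) (.node (.node (.node (.leaf 0x46030dcc000105ee129102301aa10471557167d2244118000295) (.leaf 0x8b8139600003ace3e77524a06938511eb4088072a54a66de18b)) (.node (.leaf 0xd0d3fa600011ad00b773d53086405b6104881fd31c65e04928f) (.leaf 0))) (.node (.node (.leaf 0x247647ec00010fb904ee2a71102784d6df7651e31c25ff18012d) (.leaf 0)) (.node (.leaf 0x11391731000028244a85272e08e385324311c1072d11ec2625fc) (.leaf 0))))) (.node (.node (.node (.node (.leaf 0x42ba1a4d000003a403840be31a3385528d7451462fd4e2000333) (.leaf 0x40510f260000353c447c21c118a48431752ee0f025629112d68a)) (.node (.leaf 0x11d23809000017e1390b390a08f484555b3b27055684f404924d) (.leaf 0))) (.node (.node (.leaf 0x427b3ef200010d2a24ee24ed1a258575fe3153ce5d54e2000149) (.leaf 0)) (.node (.leaf 0x14cd2c2a0000248247c047bf0a9505b4544811e030624b025428) (.leaf 0)))) (.node (.node (.node (.leaf 0x724f0305fb0001084804ab19071e4104708f5e719140e340537124) (.leaf 0x1da21e13000041c352de4f0a0cf20452ee1f50ec1e1234333025))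 (.node (.leaf 0x79a2ae400001dda23654127067485543c2165252634b533324d) (.leaf 0))) (.node (.node (.leaf 0x30372675000012602fa72fa6142384f3c925c3ed64c32a21470b) (.leaf 0)) (.node (.leaf 0x19a148d3a9a00012c0d3d784b7a0a9105b5964df0cd4af714025428) (.leaf 0))))))) (.node (.node (.node (.node (.node (.node (.leaf 0x43d043ed000000df031603151a5584167971572b20a15d5182cb) (.leaf 0x3e7a214b00012f2c121a42da186785534f6b010740647c5865be)) (.node (.leaf 0x2abf17af0000145933553354123385f24f801636309242124546) (.leaf 0))) (.node (.node (.leaf 0x23c12b2500010a171d9e1d9d0ef50434421c01cb79d5ae734025) (.leaf 0x2df0194d000048a742ed53d912b78412756941943b20bf262546)) (.node (.leaf 0x20181ea000012039319343cf0e8185130303a3fa3ab4fa55a70a) (.leaf 0)))) (.node (.node (.node (.leaf 0x358f52820000055a10eb003814f105f7e51fa7114e757d149537) (.leaf 0x143d4902000139674f6d4ac40a8385b6f70c76070747147bd18b)) (.node (.leaf 0x405403a00001a163c4612a904c204b61e5007d21f35742ab295) (.leaf 0))) (.node (.node (.leaf 0x2c73494c00010f0f2919291812668476ff5e36470845a77b2156)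 (.leaf 0)) (.node (.leaf 0x3e341dc60000273649d6497618628492e53434b30503e612d537) (.leaf 0))))) (.node (.node (.node (.node (.leaf 0x269b25e70001031300ef0a2b10718573be440758659314262518) (.leaf 0x2e872094000133fa382648e512d104f33a1c345a2741cc70a586)) (.node (.leaf 0x1a453fe5000017270e7937ed0c8504b61636f19c3ac5385372c7) (.leaf 0))) (.node (.node (.leaf 0x4d6b109200000c8d2390238f1cc50571a110172404117432d262) (.leaf 0)) (.node (.leaf 0x4a1912b300012397174846f91c618531d51c01cb7945ae734025) (.leaf 0)))) (.node (.node (.node (.leaf 0x3d42c11000107b1176a176904b68494530e541246e40a68a2cb) (.leaf 0x5266463f00003fef3e2540871ea604d6b17e770315c5c368a262)) (.node (.leaf 0x2a0a39d000001d1740402c1c122205558705630c79636a049000) (.leaf 0))) (.node (.node (.leaf 0x3a9810eb000111ac241a0ab416d18511a96d96cc0a243b32d214) (.leaf 0)) (.node (.leaf 0x3c0330ed00012b014c6346a618220474bc73c6cc1c958b546734) (.leaf 0)))))) (.node (.node (.node (.node (.node (.leaf 0x26aa1897000101f6012e06ad10720552644667583c63227d9518) (.leaf 0x1c627d6463a0001316d4f9e4f9d10b684d6b15c96aa3e92f17b2000))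 (.node (.leaf 0x39b50e36000115bb14c52fed169384b1602ca78561f5385372ab) (.leaf 0))) (.node (.node (.leaf 0x4dca1cad00000b52209720961cd40552c97374ca0ae08e2ab15f) (.leaf 0x3bc81a5f000150234329392216f40512906a255d11550a33324d)) (.node (.leaf 0x1610e674276000121e72ee2456b088704f6521ce7480572e47bd2ab) (.leaf 0)))) (.node (.node (.node (.leaf 0x25eb33a5000106830b6c142e10570574fc37722d46b6b4025546) (.leaf 0x1ff246c600013c6646b227a50e578456c43482b046f0ff55a7d9)) (.node (.leaf 0x260745d900001b8e3e4431f7106104f6a7440758646677262156) (.leaf 0))) (.node (.node (.leaf 0x5ad4cf30000105a2bca051c04f305b75f16707c7c243d7865be) (.leaf 0)) (.node (.leaf 0x328d2972000129130f0c4b2d147105b41906271173217d786486) (.leaf 0))))) (.node (.node (.node (.node (.leaf 0x2ec30b3b000104330d950d9412d504710d64645a8092d970a000) (.leaf 0x1e5a1cc0000036811ab94fe80e268552cc04d2e151b3c7113262)) (.node (.leaf 0x3f7b1a640001189e13d8297718878572922d42791bd7db51818b) (.leaf 0))) (.node (.node (.leaf 0xfcb0ee400010dcc2656265508b405716f2495f71db34d7d968a)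 (.leaf 0)) (.node (.leaf 0x2f783693000025624862442712e685153d1090f51ce30b15f518) (.leaf 0)))) (.node (.node (.node (.leaf 0x133f0e00000008e21a8e050f0a6585f15b03123736077a18055a) (.leaf 0x26500a8f000143bf460039ff10658410fe79650326c65341d156)) (.node (.leaf 0x19384ed700011ea7404f42120c458517914a77037cf69c486262) (.leaf 0))) (.node (.node (.leaf 0x1b523ffa0000130730e630e50ca48456176a414a3ae64d6217b2) (.leaf 0)) (.node (.leaf 0x1a13d2e3fc300012d0c11104d8a184305d6141f260253467e51870b) (.leaf 0)))))))))

/-- part of a table -/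
def entries40 : Trie := (.node (.node (.node (.node (.node (.node (.node (.node (.leaf 0x459539900000014004f004e04c48538014805a97384502ab68a) (.leaf 0xeb54e7800012d9011411304089384b7825412ea44872e7bd2ab)) (.node (.leaf 0x1bd13fef0000135f318d318c0cb48436167631765bb44b62115f) (.leaf 0))) (.node (.node (.leaf 0x17318e0000092e1b57179d044484f4c76d50f025612a5be68a) (.leaf 0x493c017f000044ec3d840eaa1c438590227b12130be5626de049)) (.node (.leaf 0x8871f4100001f0b428f08ab069204f3160bd3991990435be32d) (.leaf 0)))) (.node (.node (.node (.leaf 0x4128028b0001047c0e6d0e6c18e305103769d52165f7c40005be) (.leaf 0x2f8217c00000374849c14b9612f104525202c0f5541308180156)) (.node (.leaf 0x14ef1981000018fc3aad0ef10a9705f27b06138a2e27777bd18b) (.leaf 0))) (.node (.node (.leaf 0x3f3006b900000e1b2709270818838410a066331761412b1562ab) (.leaf 0)) (.node (.leaf 0xba80705000125d9453b241b06f30510a624411d44979c2cb5fc) (.leaf 0))))) (.node (.node (.node (.node (.leaf 0x308553a40001023d07930792143204b80248443156924e3352cb) (.leaf 0xc9d2a0700003214319a0eaf083485b4293165d36d265e7d9113))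 (.node (.leaf 0x4c0e3f2d00001615364236411ca105d6045f610437154a734180) (.leaf 0))) (.node (.node (.leaf 0x43a134cd00010ba3215b215a1a530435197157441e704751870b) (.leaf 0)) (.node (.leaf 0x22f336870001225245c833f90ed784753c2014d467b58e4287d9) (.leaf 0)))) (.node (.node (.node (.leaf 0x1d2b37fc000006cf150315020ce20575595901cb6c42503357bd) (.leaf 0x3fe7125600013d2b367152b7189704f1c93ab1bc67d7db51818b)) (.node (.leaf 0x4a9d481200001bed3ec33ec21c7185b6e323309e6e81cd734025) (.leaf 0))) (.node (.node (.leaf 0x4fc32b64000110b02c6d14511e540474461100fd5d76c55be15f) (.leaf 0)) (.node (.leaf 0x18b2bfd33aa00002986132f140a125785b4fc4df2eb7fb60e02512d) (.leaf 0)))))) (.node (.node (.node (.node (.node (.leaf 0x29ff41ea000101250401040010f685f64559f5c67275a77b2156) (.leaf 0xcb93ede00012fbd3f1648e308358535fb7f062d5894a2124149)) (.node (.leaf 0x3d834b18000014b633f92d90185104772f3e12c27a15815182cb) (.leaf 0))) (.node (.node (.leaf 0x4133376f00000a660d941e5818e384754e7cc5e23df7e25865be) (.leaf 0x16af473c00014a3e27bf526c0ad305f6ce77f7440eb76170a70b))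 (.node (.leaf 0x1a6a462a000120a2443840400c860556b02a51b91e14ea28f2c7) (.leaf 0)))) (.node (.node (.node (.leaf 0x188a2d87000105a501a511c20c3405547046014b32f7fe33315f) (.leaf 0x3039116400003a1c26934e4d14238531b32935083c578373470b)) (.node (.leaf 0x28610c0200011a701b883ccc10c70431221d36f97f130270a12d) (.leaf 0))) (.node (.node (.leaf 0x50a028cb00000f6429c200bc1e720414066a23807be543333025) (.leaf 0)) (.node (.leaf 0x95b0141000027ac40e84a3106a685701c0eb52a0630951132cb) (.leaf 0))))) (.node (.node (.node (.node (.leaf 0x226b51bd0000035c0b0a01f90ec70577cf62221314317432d049) (.leaf 0x26342a31000134964bec0594106284942c06c6d611730d7d9518)) (.node (.leaf 0x2442164d00011786387a03d610260452296ce14127149815f586) (.leaf 0))) (.node (.node (.leaf 0x2a7039af00010cdc24452444122784158262c19462427a41d546) (.leaf 0)) (.node (.leaf 0x59025d100012412476b124504f28413bc1a35bf1b07f962155a) (.leaf 0)))) (.node (.node (.node (.leaf 0x27dd3f4f000107ff183d183c10b685b6067ba6ee62c3c115f586) (.leaf 0x21c149d0157000040d4530733350a9185b01f4c775c6810db025428))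 (.node (.leaf 0x3c161c5800011d780e781181182284d2c336701d48e7dc546734) (.leaf 0))) (.node (.node (.leaf 0x458c15da000112072f0e2f0d1a9105921d42143770614d518428) (.leaf 0)) (.node (.leaf 0x29c71a8d00012b9010404cbc10f504f2966311ef7462df124156) (.leaf 0))))))) (.node (.node (.node (.node (.node (.node (.leaf 0x291c2ea00001009a0028022c10e18594890415036bf41441d518) (.leaf 0x1598395100002ea827604d4b0ab185157a02403e0e855f262149)) (.node (.leaf 0x404224430000140a32ba08a718a40453971365af2771e454668a) (.leaf 0))) (.node (.node (.leaf 0x7f2d504ded000109cb1ce41ce312a68417757823307f63c115f586) (.leaf 0x360230ea00004756466650b616220454bc56f4cf1c92343332cb)) (.node (.leaf 0x3cef1aae00011fdd436e436d183505f2997cc148094147586295) (.leaf 0)))) (.node (.node (.node (.leaf 0x1290a0800010512101e101d04650530f15697111c6202149537) (.leaf 0x333a3621000038b63e1a51d714838555341ae60759971c53718b)) (.node (.leaf 0x30592f18000019b3312f3bc1142685349241e2480d50c568a2cb) (.leaf 0))) (.node (.node (.leaf 0x46fe008a00000ebc1aaa128b1ab785d00b7161465277b7000335)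 (.leaf 0)) (.node (.leaf 0x42cd472b000126bf46cb497a1a3405b6cb5eb01e4c029154668a) (.leaf 0))))) (.node (.node (.node (.node (.leaf 0x8f3088b000102cc095107c506978470d167179872f2a74862ab) (.leaf 0x85b0c8800013359319541a5068685713028d76e4080cf24d32d)) (.node (.leaf 0x3bf50c05000116cf2dc0216716f684b12241e13c5a521868a55a) (.leaf 0))) (.node (.node (.leaf 0x5952d4f00000c4122d922d804f284b46b7637e82ca0756216de) (.leaf 0)) (.node (.leaf 0x518845ad0001232f4697319f1e910516a468649b4295384862c7) (.leaf 0)))) (.node (.node (.node (.leaf 0x41e23dc00000076916a416a318f50455e401b65a5a57e258655a) (.leaf 0x43d92bc500013eef52b22b071a5585344d1e172b4e41785182cb)) (.node (.leaf 0x4a68055500011cbb09bd3fc91c660510781b21cb794218113025) (.leaf 0))) (.node (.node (.leaf 0x41560b370001115a10bf2dbd18e484d10d55963767d80454628f) (.leaf 0)) (.node (.leaf 0x4e84391100002a7c497141b81e3204957517e31b4537f970b262) (.leaf 0)))))) (.node (.node (.node (.node (.node (.leaf 0x3bfe04ea000001b105ce05cd16f685d06e5e60d00553921136de) (.leaf 0x55328d3000130dd1bba4f5d04e484740720838206a64d62124d))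 (.node (.leaf 0x2f9910e80000155a28610c8412f18531a94ed34169e270180518) (.leaf 0))) (.node (.node (.leaf 0x37a734c500000b071fd91fd8165304f51944e16e06f64f537333) (.leaf 0x4cd8384d00014dac525453f61cb485156478e12046629c33315f)) (.node (.leaf 0x7e653b9000121840bb33cb9067704d8034623281d56ad2145fc) (.leaf 0)))) (.node (.node (.node (.leaf 0x399c07fe0000063a1361136016928590bb72875471e05e5be428) (.leaf 0x36c00f0500013ba01cff328d163604117140b0a36154971132cb)) (.node (.leaf 0x32a6192300001b2f3ba13dca147204d2732095df7de33870b6de) (.leaf 0))) (.node (.node (.leaf 0x281335760001100a2b1d21ce10c184752837370842b3d92c7586) (.leaf 0)) (.node (.leaf 0x1d3924b90000289f4adc31060ce28533a24c02a075270d335025) (.leaf 0))))) (.node (.node (.node (.node (.leaf 0x34f91b88000103ec0cbc0cbb14d78532b24b64234781ee32d333) (.leaf 0x28ad1c3b000135d448ae46be10d305b2c07010c460c1452c7546)) (.node (.leaf 0x53b90ffd0000183d3999309b1ed385319357c69751e3cb32d049) (.leaf 0))) (.node (.node (.leaf 0x49ed311200000d7d23f725a81c5605b4bf1e57881a57fc24d180)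 (.leaf 0)) (.node (.leaf 0x6f732ea000124f738df4814065784f4e95fe7646e13ef486335) (.leaf 0)))) (.node (.node (.node (.leaf 0x31543a4e0000089719d219d114448495917c35d36a503b5fc113) (.leaf 0x1acd3da0000142b6537515a10c9505b5e107127d38169c53770a)) (.node (.leaf 0x3b2f104500001e4141a31b6216e305f19a2ae7ef28d1952145be) (.leaf 0))) (.node (.node (.leaf 0x4a4d4060000012b4304c00ec1c6505b62204469a4670c21497bd) (.leaf 0)) (.node (.leaf 0x49be398b00012c954d442ada1c5385d57e5f314c3094cc6de7d9) (.leaf 0)))))))) (.node (.node (.node (.node (.node (.node (.node (.leaf 0x57c4f78000000570141014004e585979e4027397d76282cb537) (.leaf 0x2bbd3a5200012e1c11883f3d125385b59208c39f4f924b02512d)) (.node (.leaf 0x4cd7069a000113b1299032311cb484f09b50916c4a523433515f) (.leaf 0))) (.node (.node (.leaf 0x3e8c189b000009811c1c1c1b18710592646163d037c02600055a) (.leaf 0x53f23f3d0000461552b635ad1ed584560574926e09a059428124)) (.node (.leaf 0x1c21183800001f7742f72efe0cc204325b4992da37258f2ab180) (.leaf 0)))) (.node (.node (.node (.leaf 0x32424438000004c80f460f45146404567f43835627333862128f)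 (.leaf 0x4f1c34a500003806188151a81e4185951436f31b4ed538537262)) (.node (.leaf 0x1c253c9f000019553b363b350cc204b5cc7731835b061d2ab41d) (.leaf 0))) (.node (.node (.leaf 0x416a08cb00010e6727b4268918e50550d55da5bf21a47c5866de) (.leaf 0)) (.node (.leaf 0xd0242b9000126560dcc28dc086404565945176d4067477d928f) (.leaf 0))))) (.node (.node (.node (.node (.leaf 0x13ee2eb100000285087007710a7705d48a0e332811266a2625fc) (.leaf 0x3be4d91000132b4500d500c04b385d76f24a5ea5cf09f295621)) (.node (.leaf 0x153e13950000167736d636d50aa385d1eb3e94873c578b180333) (.leaf 0))) (.node (.node (.leaf 0x2ff62ecd00010bef2214221312f684d48b6303414f118e7b2518) (.leaf 0)) (.node (.leaf 0x515b0ae4000122c00c3746381e8585710607719c4df3456de2c7) (.leaf 0)))) (.node (.node (.node (.leaf 0x45674f9e0001071d15d215d11a8704f7a17527484345811562ab) (.leaf 0xc6205df00013e0b1b634237082704508c7f616e15041741d335)) (.node (.leaf 0xf8d513500001c583f3d3f3c08b105b7c711c01974e1ec262149) (.leaf 0))) (.node (.node (.leaf 0xabd4901000011042d0f186206d385b6f70923e408023632d333)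 (.leaf 0)) (.node (.leaf 0x77e521200002a031c294bd6066785d7d806e2e92646ad7345fc) (.leaf 0)))))) (.node (.node (.node (.node (.node (.leaf 0x18dd2d8c0000016b04e704e60c3685b4706740116582ad68a262) (.leaf 0x4b64174b0000304b41fc4ddf1c860492444ff43f39b71324d2c7)) (.node (.leaf 0x2d9f185e000015091e4314b312b285f25e7b93304406ed7d9586) (.leaf 0))) (.node (.node (.leaf 0xa631b4600000ab51f19007b06c50472ac3f77ed28602032d214) (.leaf 0x5602d1100014be0530134c904e50414680fa1667a321c2cb537)) (.node (.leaf 0x246313ff00012116449e449d10270471f47f622d5b641741d546) (.leaf 0)))) (.node (.node (.node (.leaf 0x4c541f88000005ef12920f271ca484931d2321767315433357b2) (.leaf 0x341e10e000003ad14b324ec614c185d1a907857626962632d734)) (.node (.leaf 0x29f3248200001ad138ad3d5410f684739d1eb6d648173a7b2518) (.leaf 0))) (.node (.node (.leaf 0x14020e7400000fba227625680a810451650f30055823b002532d) (.leaf 0)) (.node (.leaf 0x2e7e00fa000028254a86491312c785d0163ec3655c03d92c7546) (.leaf 0))))) (.node (.node (.node (.node (.leaf 0x34904e82000103a40be50be414d18417840d47ed0990de32d734)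 (.leaf 0x164426a30001353c44c34b150ac50493cf3b757148514570a2cb)) (.node (.leaf 0x437f3a8e000117e10b991a8e1a4785f5956f27666917e9156621) (.leaf 0))) (.node (.node (.leaf 0x4fd5305000000d2b24f024ef1e5484b4af0af16c5b61b15be7b2) (.leaf 0)) (.node (.leaf 0x4fd22471000124820cfb14cd1e5484539c02e1203590c95fc7b2) (.leaf 0)))) (.node (.node (.node (.leaf 0x2e17413c000008491908181c12c184f6387415f841b7612c7586) (.leaf 0x17025a1000141c32f584bfa04678413b709b2e91847507345fc)) (.node (.leaf 0x30b038c500011dda41294128143384156c31d5ea0e15ae734621) (.leaf 0))) (.node (.node (.leaf 0x460a03fe0001126011942fa81aa105505a74f7d2402147000295) (.leaf 0)) (.node (.leaf 0x4ab60c4400012c0e2eed44ce1c7284d12921d2f40a12503357bd) (.leaf 0))))))) (.node (.node (.node (.node (.node (.node (.leaf 0x1cb62515000100df031700b50cd284d3aa4192da3720392ab180) (.leaf 0x1d3d4a4900012f2d4ab34e990ce285b71d4d11cb6c450a3357bd)) (.node (.leaf 0x4b91227b000114592c630bac1c9184336c6df2802a97814862c7) (.leaf 0))) (.node (.node (.leaf 0x27763d0c00010a180bd81d9f10a784d5d563122d7b92df12412d)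 (.leaf 0x1d263c90000048a8537a51950ce204d5cc0793cc6f22f9335025)) (.node (.leaf 0x14470bb80000203a3e9b32f30a8504f1194740c138d35f025428) (.leaf 0)))) (.node (.node (.node (.leaf 0x277749120001055a096f10ec10a784f6fb37139e1c24de12412d) (.leaf 0x40190e4b00013968419a271018a18531615c47b41067ae000295)) (.node (.leaf 0x13127d112ff00001a173c47279f10b68431d978c14102c55c15f000) (.leaf 0))) (.node (.node (.leaf 0x4efd2ca500000f10291b291a1e3585b45f32910413a6282cb41d) (.leaf 0)) (.node (.leaf 0x2e2d3cb50001273649d849d712c305b5cf47375944c5c870a12d) (.leaf 0))))) (.node (.node (.node (.node (.leaf 0x400c3029000003140a2d0a2c18a10594ac64078f167401000295) (.leaf 0xf77068c000133fc39a725cd08a684f09a5c97ed48e4987b2734)) (.node (.leaf 0x29b7065b0000172837ef37ee10f284f0965c05030614b1049156) (.leaf 0))) (.node (.node (.leaf 0x3cdd1deb00000c8e123a11f6183485b2e85cc6627761a412d113) (.leaf 0)) (.node (.leaf 0x2dc61fde0001239846fb46fa12b604d3237307577ee62315f586) (.leaf 0)))) (.node (.node (.node (.leaf 0x116f4f14000007b2176c176b08e605f7953377e417330a15f537)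 (.leaf 0x2c1b16d100013ff052843407126185723907b647084677262156)) (.node (.leaf 0x36c26fc00001d1828e62cf604a70593d85e44f2528186214621) (.leaf 0))) (.node (.node (.leaf 0xd80bd627e2000011ad206a2e6206f484d3f02053820572f062128f) (.leaf 0)) (.node (.leaf 0x525e00f000012b0224da1dd91ea485d01600217605612333515f) (.leaf 0)))))) (.node (.node (.node (.node (.node (.leaf 0x3abd3704000001f706af06ae16d285b54727378f27e6ba18b295) (.leaf 0x6094aea0000316e4f9f1749064405372956d5f74784045be113)) (.node (.leaf 0x16ac2be7000015bc2d0935ba0ad305944f4395080a01452c7621) (.leaf 0))) (.node (.node (.leaf 0x1d7c45e000010b52209920980ce68596a80080126c82ad68a7bd) (.leaf 0x526c3f49000150264f08290a1ea60596065a027f3071a0113124)) (.node (.leaf 0x4ad13abb000021e81bf0456c1c758435984d33fb3732671497bd) (.leaf 0)))) (.node (.node (.node (.leaf 0x7fe4644000006841430142f067785d6b21d428e0fb54a7345be) (.leaf 0x34dc18bc00003c67517c458f14d485926963e5d37d35b718b113)) (.node (.leaf 0x3a0801ad00001b8f3e4532c016c105102867f01d0660de428734) (.leaf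 0))) (.node (.node (.leaf 0x536404480000105b2bcc2bcb1ec504906355226e09a0cc428124) (.leaf 0)) (.node (.leaf 0x1c9248710001291430094a410cd18456ea22541062a6f1428262) (.leaf 0))))) (.node (.node (.node (.node (.leaf 0x2be34448000004340d970d9612570476815331946097187bd12d) (.leaf 0x395e00f90000368236d526f0168685d0163e349044e4a324d428)) (.node (.leaf 0x47a11f290001189f3a243a231af304331353c5e21b31645865fc) (.leaf 0))) (.node (.node (.leaf 0x2faf14e500000dcd265700a512f205f2082e3341377322049518) (.leaf 0)) (.node (.leaf 0xeec4f39000125620d5c486308970597975024263b91797bd2ab) (.leaf 0)))) (.node (.node (.node (.leaf 0x49a12b84000108e21a8f179f1c5304344828a0c851f5626de049) (.leaf 0x12265242000043c0223944080a2504d7df16f65173e2df124149)) (.node (.leaf 0x2e4c3f4700001ea84214421312c50596065103303d778970a000) (.leaf 0))) (.node (.node (.leaf 0x504d0aa70001130730e830e71e6505b1013622f40f2265149025) (.leaf 0)) (.node (.leaf 0x50cf009200012d0d31b549db1e7505f00c18f3807412b6149025) (.leaf 0)))))))))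

/-- part of a table -/
def entries41 : Trie := (.node (.node (.node (.node (.node (.node (.node (.node (.leaf 0x364247e3000100140051005016260456df1d643151728768a2cb) (.leaf 0xbbb3c7300002d9142eb1aca06f38575c922a5213c025a7865fc)) (.node (.leaf 0x469503800001360318e25ac04c50537af48d2d233d43b428214) (.leaf 0))) (.node (.node (.leaf 0x360c0b8b0001092e1b591b58162205911552857148550a3352cb) (.leaf 0x35f51a76000044ee3555495214f684b29331a1b81f40c568a6de)) (.node (.leaf 0x1e9037b300011f0b429142900e3484155413114a6764da33515f) (.leaf 0)))) (.node (.node (.node (.leaf 0x3a0c2f010000047d0e6e002e16c105949100972535c0cc428214) (.leaf 0x38d51f5d00003749517b0551167484b31877d52542c09770b24d)) (.node (.leaf 0x37d44989000118fc3aaf3aae16548497064bc5736e60e25be113) (.leaf 0))) (.node (.node (.leaf 0x2c5b1d6f00000e1c270b270a12658572dc7c56274f05ff180156) (.leaf 0)) (.node (.leaf 0x31373c85000025da3f911041144384f5ca1ae5a350771c537335) (.leaf 0))))) (.node (.node (.node (.node (.leaf 0x4796357f0000023e079507941af284d5287a747f5f36b812d537)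 (.leaf 0x41f705ad0000321631a123b418f584f0856a823727c7b658655a)) (.node (.leaf 0x4162194f0001161536430eeb18e50452757b32371713bd5866de) (.leaf 0))) (.node (.node (.leaf 0x1822206c00000ba4215d215c0c250453365b859b53c6ad73441d) (.leaf 0)) (.node (.leaf 0x2e99140d000022533ff0192b12d18531f57a93511306192c7586) (.leaf 0)))) (.node (.node (.node (.leaf 0x16927d5000106cf1505150404670533ec37e3ee6e31cd2145be) (.leaf 0x2dc935a200003d2c3b59465012b605352c31f3512200cb7b2586)) (.node (.leaf 0xfae0c7800001bee1f5a3d0908b305d12f4aa3f10eb5ed180335) (.leaf 0))) (.node (.node (.leaf 0x4b041003000010b12c6f2c6e1c810491960902a214e6be5372c7) (.leaf 0)) (.node (.leaf 0xd1468500002987430d029704568436bf20d62d00b5cb28f149) (.leaf 0)))))) (.node (.node (.node (.node (.node (.leaf 0x1b26440700010126040304020ca204d67b4892e15792f0621124) (.leaf 0x6f3294800002fbe4ede376106578474113fe3f55de64f486333)) (.node (.leaf 0x4d1d249c000114b6238831451cc285b3a06847883d151d2ab180) (.leaf 0))) (.node (.node (.leaf 0x3a6841ef00010a661e5a1e5916c70516457e15a36443cb428335)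 (.leaf 0xd5c1f9e00004a402e074758086685931e6d43985850cb15f537)) (.node (.leaf 0x324c1d62000020a32c7f424614640592dc0a71fd5db23f70b28f) (.leaf 0)))) (.node (.node (.node (.leaf 0x4416188d000005a611c411c31a6184d2636703ea7497e200055a) (.leaf 0x46043d8900013a1c403430671aa10495de5513ba2dd401586295)) (.node (.leaf 0x1932307a00011a7108d7088d0c458454b25e719153c340537124) (.leaf 0))) (.node (.node (.leaf 0x3bbb362300010f641a0829c316f38575342a325f7c86007345fc) (.leaf 0)) (.node (.leaf 0x1fb63b61000027ad4a3203380e5584d5a803627f3953ef486262) (.leaf 0))))) (.node (.node (.node (.node (.leaf 0x2ce239730001035c0b0c0b0b127604557c12f5dc11630a15f156) (.leaf 0x168f407a0000349944a350af0ad105f6246460a308851370a2cb)) (.node (.leaf 0x11d19d0124900001787387b0c770c568411c73c96c36d13de28f180) (.leaf 0))) (.node (.node (.leaf 0xde2157f00000cdd2447244608770452157ce03d3a32421245be) (.leaf 0)) (.node (.leaf 0x15aa212e00002413476c0d150ab305534b7c51725c5417180335) (.leaf 0)))) (.node (.node (.node (.leaf 0x50400c3000108000260183e04e20490100a707a0a56b570b6de)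 (.leaf 0x2041368a000140d64d0e53420e8504353c4463fa3e110e48670a)) (.node (.leaf 0x52cb1c4500011d7940b640b51eb40572c15720fd5d723433515f) (.leaf 0))) (.node (.node (.leaf 0x13604c8e000112082b852f0f0a670417516604791ff0bf2625be) (.leaf 0)) (.node (.leaf 0x457b2a5e00002b9113f32e1c1a8785742f7527482ed20e15618b) (.leaf 0))))))) (.node (.node (.node (.node (.node (.node (.leaf 0x146852ee0000009b022e022d0a870517ee6bf3170bd60e7bd2ab) (.leaf 0x19be4d8e00012ea84e5507ed0c5585d76c6c02e1745664537124)) (.node (.leaf 0x1046380c0001140a15e232bb08c504d55b69005f1fa5132c72cb) (.leaf 0))) (.node (.node (.leaf 0x28af3638000109cc03041ce510d305f53560f1e352e75b70a12d) (.leaf 0x3911e92000047583f64490b04b28432ff1dd4cf1d43fc333786)) (.node (.leaf 0x13bc2aef00001fde2d6b332a0a7585943c7d43d019041418055a) (.leaf 0)))) (.node (.node (.node (.leaf 0x2c7d383200000513101f03a1126685b5631090f58030cb15f156) (.leaf 0x4a8914d0000138b84c4051d81c710532060932f45267832147bd)) (.node (.leaf 0x210e223b000119b33bc2378f0ea105d36653d59b6b01c82cb180)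 (.leaf 0))) (.node (.node (.leaf 0x4fc269e00010ebc28650e3804d58593cd7747ed10d0cc32d214) (.leaf 0)) (.node (.leaf 0x191e2752000026c0497b38150c4485d3e10512a40293465be15f) (.leaf 0))))) (.node (.node (.node (.node (.leaf 0x50f53ada000002cd095309521e7684b59a4ba3d365940a68a7bd) (.leaf 0x485544990000335a503d2fb61c2484b68653a38760923f70b7b2)) (.node (.leaf 0x1170e002adf000016d015a6375e088104143a8060055d6714025428) (.leaf 0))) (.node (.node (.leaf 0x1e7221cd00010c4122db22da0e2784535b7096976572b61497d9) (.leaf 0)) (.node (.leaf 0x1b9843d1000023314698211e0cb18516760672f267079c786180) (.leaf 0)))) (.node (.node (.node (.leaf 0x1c743ffe0001076916a616a50cc78496177323a45f93cb428049) (.leaf 0x287e1ac300013ef04529529b10c785d29b15b22d7e63042c712d)) (.node (.leaf 0x4359286a00001cbd1b942cca1a458533fe4d22c2726268518786) (.leaf 0))) (.node (.node (.leaf 0x2c2145de0000115b2dbf2dbe12620436a760810c0ca36b7d9518) (.leaf 0)) (.node (.leaf 0x208007de00002a7d41b63aec0e910410b86d327d1f256255a2c7) (.leaf 0)))))) (.node (.node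 (.node (.node (.node (.leaf 0x1bf8013c000101b105d005cf0cb785101b36e2137172e77867d9) (.leaf 0x2c442edb000030de4f5f4f5e126504948d6526270846fe180156)) (.node (.leaf 0x3d6a43630000155b352006e6184705566d2d460248447a518621) (.leaf 0))) (.node (.node (.leaf 0x46ba0b2500010b071fdb1fda1ab285510b37a06436d1e412d734) (.leaf 0x28d2044b00014db0533b2a8510d58450636b230057f51370a586)) (.node (.leaf 0x23c0378600012185343a44ff0ef50415511142573e1186734025) (.leaf 0)))) (.node (.node (.node (.leaf 0x4cd203900001063a136313621cb48450530021767314a83357b2) (.leaf 0x3303132a00013ba1526f24c914820471dd45d4902190435fc32d)) (.node (.leaf 0x2245368800001b3027de1af20ec404b53c2e51dc4cd61d2ab15f) (.leaf 0))) (.node (.node (.leaf 0x210f4b010000100b2b1f2b1e0ea105f72d1a81045d840d2cb180) (.leaf 0)) (.node (.leaf 0x18443312672000028a0241c496d1a438433c90d967519a3da518621) (.leaf 0))))) (.node (.node (.node (.node (.leaf 0x3b256413f8000003ed0cbe0cbd10470491f441122d69f179025546) (.leaf 0x35bc20a5000035d74bb24a0014f385933b2bd28e6db1867345fc))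 (.node (.leaf 0x29f119af0001183d07ff399a10f684327e7f41ef5bd38615f156) (.leaf 0))) (.node (.node (.leaf 0xcbd2dce00000d7e25aa25a9083585b4747ad3ba2c6435124295) (.leaf 0)) (.node (.leaf 0x20f53b98000124f8471a46f70e9684b5b025149b0c037928f70a) (.leaf 0)))) (.node (.node (.node (.leaf 0x90724120001089719d3138b06a204f3940bb006016123333786) (.leaf 0x526112f9000042b9355834701ea60431d96da5a20312ad113262)) (.node (.leaf 0x200e4b0000011e42331141a40e8105d72d1382f86ac0ff55a70a) (.leaf 0))) (.node (.node (.leaf 0x11290c70000112b41f10304d08e305312f0d228e65f0b21245be) (.leaf 0)) (.node (.leaf 0x1da62d7100002c964ca61ccc0cf204d46f0bb1ca4b71233337bd) (.leaf 0)))))))) (.node (.node (.node (.node (.node (.node (.node (.leaf 0x2a6509de0001005701430142122704b0ed7d46893b541418012d) (.leaf 0x4cd923eb00012e1d4e124e111cb485338f73d1b768570d33315f)) (.node (.leaf 0x3e4c4069000013b232321cc218640596224f835659341f12d28f) (.leaf 0))) (.node (.node (.leaf 0x4d320972000109811c1e1c1d1cc38450e506909d75e39032d049) (.leaf 0x470716a000014617239f200b1ae204f2320291cf5d21e412d486))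 (.node (.leaf 0x147002d500011f7836dd2f540a8784104144350f61c1797bd2ab) (.leaf 0)))) (.node (.node (.node (.leaf 0x3202680000104c80f480f4704a30413ca1d97441e726714970b) (.leaf 0x20bf1ea900003807263d51a90e9285f30366927d2d412a5fc2c7)) (.node (.leaf 0x1472654000119553b383b37046604f3c62c03ea74961368a55a) (.leaf 0))) (.node (.node (.leaf 0x463e2ba700000e6827b627b51aa285d44a2fc3532f580412d214) (.leaf 0)) (.node (.leaf 0x62333fa000026571a1c4725064504750246a72580034555a214) (.leaf 0))))) (.node (.node (.node (.node (.leaf 0x1ed73b6c00000286087208710e3684f5a854227f7b34e1113262) (.leaf 0x492502e5000032b547f4486f1c4304b0422722b044c2b555a7d9)) (.node (.leaf 0x45d9222f000016782a4936d71a9585336463f5ce19712b51832d) (.leaf 0))) (.node (.node (.leaf 0x429405e200000bf0134c0b841a3284908d32f515021027546734) (.leaf 0)) (.node (.leaf 0x3e2928bf000122c1275c463918620534056ea47f0583e612d537) (.leaf 0)))) (.node (.node (.node (.leaf 0x4a813d6a0000071e15d415d31c710435db3e03fb15b6352147bd) (.leaf 0x216320e4da100013e0c3a2c52d9146105d770099711058347786537))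 (.node (.leaf 0x48ea311300001c593aa4018c1c350554bf2697887f03472cb180) (.leaf 0))) (.node (.node (.leaf 0xcd93edc000111042d112d1008368535fb78c01d0663c115f734) (.leaf 0)) (.node (.leaf 0x326f425100002a04367e4bd7146705f64e0992843be3477865be) (.leaf 0)))))) (.node (.node (.node (.node (.node (.leaf 0x381633e40001016b04e904e8166184d50026947f51a3472cb537) (.leaf 0x1b805462c180001304b4f1f4a4904e404d4534893561586cd62124d)) (.node (.leaf 0x3fd31a7700011509236930bb18958472933e1228090581518428) (.leaf 0))) (.node (.node (.leaf 0x2aca1de700010ab51f1b1f1a12360552e851e3300d32d815f000) (.leaf 0x4df0463700004bf2525b1ada1cd58416b14b60116af43b32d124)) (.node (.leaf 0x2f250eb3000021173e603e9812e204b16a2db5dc4e97407d9156) (.leaf 0)))) (.node (.node (.node (.leaf 0x23431bc4000105ef129412930ee50472b910329f663600214025) (.leaf 0x2d4702fa00013ad1524b2f0012a604f0446c15f824573a15f586)) (.node (.leaf 0x3ee346500001ad23d563d5504b705d50e3641a75904c5734621) (.leaf 0))) (.node (.node (.leaf 0x1f8508fc00010fba22b12a720e5404b0d95681dc5cc4045fc15f)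 (.leaf 0)) (.node (.leaf 0x1ae8242f000128254a87488f0c960513955992412b81ab24d2c7) (.leaf 0))))) (.node (.node (.node (.node (.leaf 0x370e0d2c69000003a50be70be6088105b4591ed4e85a550602532d) (.leaf 0xb7841a00000353d209450e306e585164100a07d4bf21c786537)) (.node (.leaf 0x521445b4000017e235ee390c1ea18496a52bc127694750214180) (.leaf 0))) (.node (.node (.leaf 0x9d2b31401a00000d2c24f224f1124384361b4c62350a60db7bd546) (.leaf 0)) (.node (.leaf 0x234c1f3e00012483257347c10ee505931568f09e0dc186734025) (.leaf 0)))) (.node (.node (.node (.leaf 0x4f754f5a0000084a190904b41e4684b79a56c1273397fc28f180) (.leaf 0x3a66007e000041c45361272c16c704d00a6223f516117432d335)) (.node (.leaf 0x4d230a7700001ddb32ff31cd1cc30470fc1b62b07ba48c32d7d9) (.leaf 0))) (.node (.node (.leaf 0x19e625460001126105de1bb00c5704d3ad3896975bb17f55a049) (.leaf 0)) (.node (.leaf 0x4021366800002c0f4cfe18b718a204353a3aa11e53d17a12d214) (.leaf 0))))))) (.node (.node (.node (.node (.node (.node (.leaf 0x15148e407c000000e0031903180a9105d6247464374fc6b47bd32d)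 (.leaf 0x5f6231000012f2e41920ed904f584d3780a27397fd2472cb486)) (.node (.leaf 0xfc194e4ed60001145a335733560c4605d79141a6c37cf1e828f180) (.leaf 0))) (.node (.node (.leaf 0x446c214a00000a191da11da01a6705934f65828e15213e5865fc) (.leaf 0x4450240a000048a93daf53691a648413935f94b81ff79054628f)) (.node (.leaf 0x4fc83dfc0001203a3b5643d01e540515e76884ca77e1775fc7b2) (.leaf 0)))) (.node (.node (.node (.leaf 0x446d19d30000055b10ee10ed1a6705b28510a25f1290485865fc) (.leaf 0x2001b03429a0000396951dd22e30ca10476575b91823a124778641d)) (.node (.leaf 0x503b06eb00001a183c4813f41e628570a45293fb2152f9335025) (.leaf 0))) (.node (.node (.leaf 0x1199106f00010f1004b5291c08f185319d80923768741418055a) (.leaf 0)) (.node (.leaf 0x8244ce50001273729111ea1068304975e30627920d4a66de18b) (.leaf 0))))) (.node (.node (.node (.node (.leaf 0x4d622d530001031400de0a2e1cc504546d1b672465b48c32d262) (.leaf 0x3061164c000033fd4fb303ac142704322956950825e20314970b)) (.node (.leaf 0x1192b9b352e0000172937f034f2125185752264a30c65b60a7bd000) (.leaf 0)))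 (.node (.node (.leaf 0x32843d6700000c8f11f3239114710495db27e711393283786486) (.leaf 0)) (.node (.leaf 0x3e212e36000023992d1d46fc18620434804f807e22541f12d537) (.leaf 0)))) (.node (.node (.node (.leaf 0x20425f2000007b3176e176d04820493bf0e415a6df03b5be32d) (.leaf 0x52ab18f600013ff251553c631eb305726f1df4fb55326a149049)) (.node (.leaf 0x3c60155c00011d180a9d3efe182504121061778f43613e000149) (.leaf 0))) (.node (.node (.leaf 0x196f4ed5000011ae2e6323fb0c4705f7913a64d46494636de049) (.leaf 0)) (.node (.leaf 0x2a3d017500002b034c64481c122385b0224686891395c712412d) (.leaf 0)))))) (.node (.node (.node (.node (.node (.leaf 0x26e924da000001f806b0013710760533a55676d61d13c17b2156) (.leaf 0x2e682aa60001316f47cb06b512c705143647375901f6d870a546)) (.node (.leaf 0x3e9f3fba000015bd35bb2a05187185f6115701b82dc4e258655a) (.leaf 0))) (.node (.node (.leaf 0x426f2f1a00000b53209b209a1a2505f49257908b0d547c000149) (.leaf 0x235f39470001503848532ae70ee585f5793640ec2d44c57347bd)) (.node (.leaf 0x3caa1d00000021e9456e456d18330552d10015a331a118586333)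 (.leaf 0)))) (.node (.node (.node (.leaf 0x1fa608fb00000685143214310e5504d0d94ee0113dc2a7537124) (.leaf 0x4478425700003c684ae748d41a6785164e21f2e92640265865fc)) (.node (.leaf 0xfa32a4800001b91154e3e4608b304742e27b3f531a78b180333) (.leaf 0))) (.node (.node (.leaf 0x17e107530001105b2bce2bcd0af60430ac31f77234855c7b2486) (.leaf 0)) (.node (.leaf 0xd3a3fa0000029154b2e028c086585561001c13c0d45ff18055a) (.leaf 0))))) (.node (.node (.node (.node (.leaf 0x20b448d0000104340d990d980e928496f40182b435a4765be70a) (.leaf 0x1bc8242d000136823da920630cb405139554407f37a23f6217b2)) (.node (.leaf 0xf3e4ccf000018a012821ab108a385d75a6af4250b65ed180335) (.leaf 0))) (.node (.node (.leaf 0x45f2516300010dcd17911afb1a978457ca2d57981d847a1562ab) (.leaf 0)) (.node (.leaf 0x4ead1d0700002563486548641e3305b2d14024fb7821ea2cb049) (.leaf 0)))) (.node (.node (.node (.leaf 0x45b417e6000008e31a90029f1a938492541e142661f1785182ab) (.leaf 0x34e01e5b000143c5428b2d7114d70412fb57c4252663cb32d335)) (.node (.leaf 0x2a72155700001eaa1e97421512278452103e96365d030818012d)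 (.leaf 0))) (.node (.node (.leaf 0x511d50470000130830ea30e91e8185b7b036f19c4815385372c7) (.leaf 0)) (.node (.leaf 0x26d8009900002d0f4ba82adb107585100c3f032731e6fe180156) (.leaf 0)))))))))

/-- part of a table -/
def entries42 : Trie := (.node (.node (.node (.node (.node (.node (.node (.node (.leaf 0x41ac07b2000000150053005218f30590b618807c61b7b50005be) (.leaf 0xcff0a2f00012d914dc64dc5083785f0f37ee4234785ff41d333)) (.node (.leaf 0x24412786000113603190318f10260433e533c33480130b7b2000) (.leaf 0))) (.node (.node (.leaf 0xdea12050000092f1b5b1b5a08770551c30ee11d4994de1245be) (.leaf 0x288517f0000044ef2dc5508110d104b25508470842b3022c7586)) (.node (.leaf 0x2dfa37e100001f0c42923eaf12b785555816f2350ae2df12412d) (.leaf 0)))) (.node (.node (.node (.leaf 0x2dc5073b0001047d0e700e6f12b604b0aa42e3120ab55c7b2000) (.leaf 0xf8c4e4a0000374b512a517c08b105977e47b35868f5c7262149)) (.node (.leaf 0x33d21109000118fd22343ab014968451ac4fe7540906d024d428) (.leaf 0))) (.node (.node (.leaf 0x2a94d4300010e1c270d270c04930537672192ea4824a66de18b)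 (.leaf 0)) (.node (.leaf 0x3364220d000025db48be057a148704936271e4ef1da4a655a18b) (.leaf 0))))) (.node (.node (.node (.node (.leaf 0x30e249820000023f0797079614370457062907666a515414970b) (.leaf 0xed02d170000321847194fdc089584146839622846a60e7bd32d)) (.node (.leaf 0x83f0a36000116162ae63644068385f0f63a66b374b4636de2ab) (.leaf 0))) (.node (.node (.leaf 0x3e0e4daa00010ba4215f215e186105d7705245bf2f67e258655a) (.leaf 0)) (.node (.leaf 0x4a6a406400002254192840d61c660556222c069a80361368a7bd) (.leaf 0)))) (.node (.node (.node (.leaf 0x34ff02c5000006d01507150614d785f0403a566c03558e428333) (.leaf 0xc8f435800003d2d520d2a9d083405f66b4a55f703536a7d9113)) (.node (.leaf 0x3c519f00011bee36783c4e04458597cd77b3b639d05d6de214) (.leaf 0))) (.node (.node (.leaf 0x41484100000110b12c712c7018e405163219f76d7ec29112d24d) (.leaf 0)) (.node (.leaf 0x4e1e143c00012987354e4b7f1e2285d1f96e16ae3cd75570b124) (.leaf 0)))))) (.node (.node (.node (.node (.node (.leaf 0x11985302000001270405040408f18517f10d15bf03627018055a) (.leaf 0x330c358b00002fbf4ed84edf148205952956d0c128a4045be32d))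 (.node (.leaf 0x14442e06000014b733fb33fa0a8504947b44315a2381797bd32d) (.leaf 0))) (.node (.node (.leaf 0x2b74051b00000a671e5c1e5b12478490714c62350ae60e7bd12d) (.leaf 0x2b09020c00004a454e9a12e9124105302e6bf6fa76560e7bd586)) (.node (.leaf 0x32e4d44000120a34431405c04a305d7672894f204d26a29570b) (.leaf 0)))) (.node (.node (.node (.leaf 0x4da80941000105a611c511991cd30510e105000f5c93cb32d049) (.leaf 0x201448d500003a1d52224a9a0e818496f41bb21133646455a2c7)) (.node (.leaf 0x4bc32b4700011a723ccd36f41c9504744432124124658055a70a) (.leaf 0))) (.node (.node (.leaf 0xaa4387b00000f6529c529c406d304956759a1725e53cb32d335) (.leaf 0)) (.node (.leaf 0x1288316b000027ae1acc39d20a340514c460855049136b7d9113) (.leaf 0))))) (.node (.node (.node (.node (.leaf 0x5532750000035d0b0d00e7044684b4df3253d636d56028f149) (.leaf 0x32221ad00000349a499b5048146204529d1a97e85852316216de)) (.node (.leaf 0x383b0b60000117870a6c148f166285711205a1b851223170b6de) (.leaf 0))) (.node (.node (.leaf 0x3138116000010cdd03f7244814438511b30a54250b6781486335)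 (.leaf 0)) (.node (.leaf 0x6b9353400012413476d3c2a065585352321911e0a24646de214) (.leaf 0)))) (.node (.node (.node (.leaf 0x246d2344000008011840183f102705b37d2ac5562ff653180546) (.leaf 0x1c57172e000040d8516f53430cc484f23e7921763033b818b15f)) (.node (.leaf 0x4aa6409c00001d7a202d40421c7204d6294d00ec15b7fe3337bd) (.leaf 0))) (.node (.node (.leaf 0x1f3b345d000112092f112f100e4585750d4a96ae51b66e486262) (.leaf 0)) (.node (.leaf 0x4c9522b00012b914969429704d40537da5e90f75295b718b113) (.leaf 0))))))) (.node (.node (.node (.node (.node (.node (.leaf 0x37c33ea30001009b0230022f16540475f51f901e1313465be68a) (.leaf 0x529c249a00002eaa4e560b2c1eb18593a05e418344163521441d)) (.node (.leaf 0x24af03060000140b32bd32bc103305f04541b39e7bf38c12412d) (.leaf 0))) (.node (.node (.leaf 0xbb24eba000009cd162b1ce606f384578c5b95217c82477865fc) (.leaf 0x8114b5d00004759531b5294068284373572f76e0461b15fc428)) (.node (.leaf 0x49b238c000011fde0b081dc31c5384556c01a09d56717f6de049) (.leaf 0)))) (.node (.node (.node (.leaf 0xea94a6a0001051310211020089305371f50242659224b7bd18b)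 (.leaf 0x399a2491000038ba4872323a16928553a011522803a6c55fc428)) (.node (.leaf 0x4f1445c1000019b43bc332db1e418496a609001165269c537262) (.leaf 0))) (.node (.node (.leaf 0x28b330cc00000ebd2028286610d38474ba60f1e32e076170a546) (.leaf 0)) (.node (.leaf 0x4790495f000026c1497d497c1af28417007797115953f4546537) (.leaf 0))))) (.node (.node (.node (.node (.leaf 0x5b71872000102cd0955095404f384f2611064796147042cb5be) (.leaf 0x230220310001335a2c6a46cd0ee104532f04c14f35a26a295025)) (.node (.leaf 0x19063075000116d00779375f0c4404d4b24521dc1702fa5fc7b2) (.leaf 0))) (.node (.node (.leaf 0xf5413ba00010c4203c322dc08a48491f05d06e21f169b7d9113) (.leaf 0)) (.node (.leaf 0x133d35520001233145543b820a6585b52609a59c0502f341d6de) (.leaf 0)))) (.node (.node (.node (.leaf 0x35e20aba0001076a16a703f614f60451026f57a40b709568a55a) (.leaf 0x4f7823c300003ef234d852fe1e4685138d2123013e756028f41d)) (.node (.leaf 0x1caf492500011cbd3fca12530cd205f6fc1ff7883e274c2ab41d) (.leaf 0))) (.node (.node (.leaf 0x33518760000115c1af12dc004a384b2611c905b5a0265295621)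 (.leaf 0)) (.node (.leaf 0x38df24d900012a7f4afd03b8167485f3a54f676a0a433862128f) (.leaf 0)))))) (.node (.node (.node (.node (.node (.leaf 0x4fcc112e000001b205d205d11e540591ae72014b4934045fc15f) (.leaf 0x3d3e33cc000030df377a2d3b184385d4fe48f2a63c567e51870b)) (.node (.leaf 0x4082b7a0001155b30d4352104c20514474996510e84502ab149) (.leaf 0))) (.node (.node (.leaf 0x449a481600000b0818261fdc1a718556e33e23d037c7e200055a) (.leaf 0x3e512edc00004db8533a2611186484348d67b7336a03f412d28f)) (.node (.leaf 0x15f433f0ad800012186450145001a4385f1055a45ea5cf47a156621) (.leaf 0)))) (.node (.node (.node (.leaf 0x3e4904920000063b10080113186405306914358326402712d24d) (.leaf 0x5171229200003ba2496c22901e8684336e20f67853337928f70a)) (.node (.leaf 0x50ea1e3800011b302bbc16c61e760552f65cf3d37c961368a7bd) (.leaf 0))) (.node (.node (.leaf 0x13aa2aee0001100b2b212b200a7505543c7c52375524171806de) (.leaf 0)) (.node (.leaf 0x34ab03f8000128a04add0e2814d205705a3be7bc35c2982ab149) (.leaf 0))))) (.node (.node (.node (.node (.leaf 0x1a2231cc000103ed0cc00cbf0c820454cd50b3fa63f12a5fc2c7)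 (.leaf 0x1a1d1d8f000135d815ce16100c8185b2de7931b94bd4206de2c7)) (.node (.leaf 0x40100e5b0000183e18e7399b18a18411626167b453d401000295) (.leaf 0))) (.node (.node (.leaf 0x4329533c00000d7f25ac25ab1a430537f56c81e2542178518621) (.leaf 0)) (.node (.leaf 0x38e639c3000024f92aa00232167704d5850b107c40f25a7865fc) (.leaf 0)))) (.node (.node (.node (.leaf 0x443d16dc0000089819d519d41a6285b2395f9166198790546486) (.leaf 0x1bb0f9b000042bf4a82537604758571897533a84bb207295537)) (.node (.leaf 0x19f2431900001e43242515000c5784566338d4fb5044636de049) (.leaf 0))) (.node (.node (.leaf 0x3a1c5044000112b5304f304e16c18597b019b7ff48b1ee428734) (.leaf 0)) (.node (.leaf 0x362e483200002c974d464d45162305d6e52ae77c542195214621) (.leaf 0)))))))) (.node (.node (.node (.node (.node (.node (.node (.leaf 0x1ad03c5b00000058014400020c958415c468649b5a45384862c7) (.leaf 0x3e424b4400002e1e4e144e1318640457321361fd63e1e454628f)) (.node (.leaf 0x10280c74000113b22062323308c305112f2ec7440eb61970a70b) (.leaf 0))) (.node (.node (.leaf 0x142e2077000009821c201c1f0a8305d3375664ef0e92e40252ab)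 (.leaf 0xb192fd70000461951b60b9d06e28534a527759c19709762155a)) (.node (.leaf 0x505723db00001f79109942f81e6584f38e60129f1de04b1497bd) (.leaf 0)))) (.node (.node (.node (.leaf 0x2e04eaa000004ca0f4a0f49049704178a4fd38a00310e53718b) (.leaf 0x19d28fa00013807173251aa047485b40959773349950a33324d)) (.node (.leaf 0x8735d8000019573b3a3b39045404f52f3bb5f74f60c95be113) (.leaf 0))) (.node (.node (.leaf 0x28c64dee00010e68116427b710d504d7757946ee0ce4d670a000) (.leaf 0)) (.node (.leaf 0x28c51b3f00002658491d08dd10d504b2aa67c60b4ed5c82c7586) (.leaf 0))))) (.node (.node (.node (.node (.leaf 0x329d0ed60001028608740873147185b16d4443a8472628786537) (.leaf 0x48594692000032b63c75476d1c248536c02521b72496b570b15f)) (.node (.leaf 0x301914380001167936d8161614228531f949f0c31a104a3352cb) (.leaf 0))) (.node (.node (.leaf 0x289c056f00010bf02216221510d18590798031412711112c7586) (.leaf 0)) (.node (.leaf 0x4bbf2000000022c23b1e463a1c9285f32602e1b41ce0435fc2c7) (.leaf 0)))) (.node (.node (.node (.leaf 0x413d03350001071e15d615d518e385b04d43311d4487b50005be)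 (.leaf 0xac9500800013e0d52da200106d40537aa34942d21661d18b113)) (.node (.leaf 0x111e530600011c59242e388708e185d7f124513c4a93081806de) (.leaf 0))) (.node (.node (.leaf 0xc972b3f000011052d132d12083484f4435965fa2666ed04968a) (.leaf 0)) (.node (.leaf 0x1baa204400012a054bd834610cb20553312bf08775d64d70b124) (.leaf 0)))))) (.node (.node (.node (.node (.node (.leaf 0x4b803d8a0000016c04eb04ea1c910415de5821b422e0ba5372c7) (.leaf 0x331f14010000304d453f0783148285f1f50510c166d3465be428)) (.node (.leaf 0x40874d2b0001150a0f9d348c18b104f7635d835820b7b6586295) (.leaf 0))) (.node (.node (.leaf 0x19591ddd00000ab6061603a70c468532e649e3013e25cb28f41d) (.leaf 0x4a59118400004bf6529a41881c658531b61c93d3017265295025)) (.node (.leaf 0xc18042200012118449f382108248510611656e262b7407d968a) (.leaf 0)))) (.node (.node (.node (.leaf 0xa7d4d30000005f01296129506c585b7650302d27d03cb428734) (.leaf 0x331a07f000003ad2524c3fbf14828550bb03315a2380435be32d)) (.node (.leaf 0x3c721a3200011ad208fb2801182584528c13345c37e4e2586149) (.leaf 0)))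 (.node (.node (.leaf 0x49e7505000000fbb2a730ea11c5604f7b105c0f97aa6d028f41d) (.leaf 0)) (.node (.leaf 0x3d5d2bd2000028264a894a88184585b44e0c00c327514d156786) (.leaf 0))))) (.node (.node (.node (.node (.leaf 0x190b4600000103a5010808f50c440576ac0c614b5f96c55fc15f) (.leaf 0x24e004d90001353d45252ae5103704106d3d76f97f127041d12d)) (.node (.leaf 0x41e800fd000117e215f8390d18f505101651b0d044e7c40006de) (.leaf 0))) (.node (.node (.leaf 0x4baf1a9700010d2c16d524f31c9205f29743450c5fd6b65be2c7) (.leaf 0)) (.node (.leaf 0x45893f25000124840cfc0cb81a9105360435b22845f04751832d) (.leaf 0)))) (.node (.node (.node (.leaf 0x58746650001084a190b190a04f204f6bb2bf0d004633870b6de) (.leaf 0x2e41437b000141c750453a2412c504366f47345a4aa5c870a586)) (.node (.leaf 0x30d406f600001ddc412b412a14368490a531a4315170c568a2cb) (.leaf 0))) (.node (.node (.leaf 0xbbf3514000012622faa2fa906f385f51f20b3ee1ad7047865be) (.leaf 0)) (.node (.leaf 0x46dc0fe800012c104cff0e9d1ab485919232f5ac1501a4546113) (.leaf 0))))))) (.node (.node (.node (.node (.node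 (.node (.leaf 0x1f993b34000100e0031b031a0e548535a42ed16c71d5b25be15f) (.leaf 0x1a490cac00002f2f27344e9a0c8505313356143f50d33e53770a)) (.node (.leaf 0x5cd52710000145b335821f304f405b7e309676d4ec23f62128f) (.leaf 0))) (.node (.node (.leaf 0xaaf122b00010a191da31da206d305f1c551a0b46c6059428333) (.leaf 0x4eb93984000048aa49453b421e3385357e3911f775f43d2cb049)) (.node (.leaf 0x11d4be80000203b3de31e94046485b74149f70520470d33524d) (.leaf 0)))) (.node (.node (.node (.leaf 0xaae47360001055b10f010ef06d305d6ce3a566c35558e428333) (.leaf 0xd2734770001396951f83cc3086504f51022007a00c77a41d55a)) (.node (.leaf 0xabe351000001a193c4a3c4906d385d51f00c5a30b66f1428335) (.leaf 0))) (.node (.node (.leaf 0xb5257011ef00000f11291e291d10478411c180622d7b960e02512d) (.leaf 0)) (.node (.leaf 0x95450ac0000273829fe49d906a68497bb6742c21d92ad68a2cb) (.leaf 0))))) (.node (.node (.node (.node (.leaf 0x296b0fe7000003150a300a2f10e605719230950348362315f518) (.leaf 0x4ac53ad3000133fe482c507b1c7504b59a10d14f116265295025)) (.node (.leaf 0x339145bb0001172937f237f114928436a572875425803b5be32d)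 (.leaf 0))) (.node (.node (.leaf 0x4cec2a5b00010c90239323921cb605942f6da5a213f03f113124) (.leaf 0)) (.node (.leaf 0x282912c600012399406e0b9410c30531d62ec55618d61970a12d) (.leaf 0)))) (.node (.node (.node (.leaf 0x180236bf000107b3176f02530c2404553f7cb08177912333515f) (.leaf 0x883241800013ff3531451b206920473944340cd36f3465be428)) (.node (.leaf 0x4c0c19b400011d1926cb113e1ca105928110234c1195b421441d) (.leaf 0))) (.node (.node (.leaf 0x309038dd000011af2e640a42143284156d73652a18f29c333786) (.leaf 0)) (.node (.leaf 0x4b830eb100012b034c664c651c9104716a1b049b0dd2a748670a) (.leaf 0)))))) (.node (.node (.node (.node (.node (.leaf 0xe3d40e1000101f806b206b1088385b6302464ef04263c02518b) (.leaf 0xd80197a000031704c27312a08740412784881fd7703b104924d)) (.node (.leaf 0x533000d3000115bd35bc0c941ec38410140fe4d47670de428049) (.leaf 0))) (.node (.node (.leaf 0x2288223900010b53209d209c0ed10513664b60116b043b32d124) (.leaf 0x4fdb2af90001503c4e4f203c1e5485743e54d1202db2fa5fc7b2)) (.node (.leaf 0x18381dd7000021ea456f3c060c258512e61ac3017451cd73441d)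 (.leaf 0)))) (.node (.node (.node (.leaf 0x44bb25ee00010685143414331a728573be7a747f38e58b12d486) (.leaf 0x4814fe100003c691eef243d04d20437a812945c10358f18b295)) (.node (.leaf 0x312e4f00011b913e473121044584348170645770e2406de734) (.leaf 0))) (.node (.node (.leaf 0x2bf424790000105c232d2bcf125784939c4812eb31624b02512d) (.leaf 0)) (.node (.leaf 0x4f250523000129151eb04b2f1e4304b0743064fb5534a66de049) (.leaf 0))))) (.node (.node (.node (.node (.leaf 0x368d478c000004350d9b0d9a163205b6d56e605f7ca29c333786) (.leaf 0x3dff3ce40001368351503f75185785f5d23e11e238b4a1518621)) (.node (.leaf 0x2e981c93000118a13a263a2512d18512c818130c4403022c7586) (.leaf 0))) (.node (.node (.leaf 0x36eb1de200000dce09d5265816370572e81df60277609f149621) (.leaf 0)) (.node (.leaf 0x4a85417a00002564486748661c7104b63e4a41ca1d332b214025) (.leaf 0)))) (.node (.node (.node (.leaf 0x34de02c0000108e31a921a9114d485d0401845ac54734a2ab68a) (.leaf 0x300530ec000043c653924c46142204b4bc6387fa24c3fc333786)) (.node (.leaf 0x1a84183c00011eaa23dc42160c9104925b5912803812b56de70a)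 (.leaf 0))) (.node (.node (.leaf 0x41c101610001130830eb08c218f404302114358302e02712d24d) (.leaf 0)) (.node (.leaf 0x83b024100012d0f42b44d8b068385703207750f5a63456de18b) (.leaf 0)))))))))

/-- part of a table -/
def entries43 : Trie := (.node (.node (.node (.node (.node (.node (.node (.node (.leaf 0x347623f3000100150055005414c784d3915633e429717432d335) (.leaf 0x1a4a4a3d00012d924dc84dc70c8505571a4a93fa63f3404862c7)) (.node (.leaf 0x19d321b500001361319231910c5684735a4fe59b75d6d024d41d) (.leaf 0))) (.node (.node (.leaf 0x3130267d0001092f1b5d1b5c14438413c972a3f519a33e486335) (.leaf 0x157426e5000044f432052b3e0aa68493d72cf0647ca6e915f734)) (.node (.leaf 0x1adc4a3100011f0c1b2342930c9585971a0b750c6c810e48670a) (.leaf 0)))) (.node (.node (.node (.leaf 0x497e53790000047e028f0e711c4685d7fd3e30721a64a324d41d) (.leaf 0x32fc21f40000374c19e14b1014778593602fb28477817d7865fc)) (.node (.leaf 0x4a6b2e1b000018fe099034931c6605747d4ad38067c13768a7bd) (.leaf 0))) (.node (.node (.leaf 0x14e226cb00000e1d22dd270e0a970453d25332ea3a97187bd2ab)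 (.leaf 0)) (.node (.leaf 0x16670e6e000025dc48c048bf0ac704f1636106757cb75b2c7621) (.leaf 0))))) (.node (.node (.node (.node (.leaf 0xf163f530001023f0799079808a184d6080ee3d601666a124295) (.leaf 0x4a5c21470000321a3d964fdd1c6585934f58c3cc67c08a2957bd)) (.node (.leaf 0x23303e56000016173645284b0ee28415ef1db0ec76c24e3337bd) (.leaf 0))) (.node (.node (.leaf 0x29982ba200000ba5076e216010f185144a0ab75864a27a180156) (.leaf 0)) (.node (.leaf 0x2cfe34df00002255174e42fe127685d51a75a5ab5266237b2518) (.leaf 0)))) (.node (.node (.node (.leaf 0x157a4d3c000106d0150812170aa68557656302d249618e7b2734) (.leaf 0x3d134a7700013d2d2d884816184184772048f69249620e518786)) (.node (.leaf 0x9e010b800011bef18233ec406b70411a51f33612c875073470b) (.leaf 0))) (.node (.node (.leaf 0x31d6319a000010b22c732c72145484d4c85876e21f53465fc68a) (.leaf 0)) (.node (.leaf 0x3f5044e0000129884316345f188584168f0c07d167114d156428) (.leaf 0)))))) (.node (.node (.node (.node (.node (.leaf 0x1f7f1f0c0001012703d004060e4785f3106430895594636de049) (.leaf 0x52b406bf00002fc01f4f1c371eb38490a07a10c82e02021497d9))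 (.node (.leaf 0x4fcb2817000114b70b5a33fc1e540573f63bb0817a812a5be15f) (.leaf 0))) (.node (.node (.leaf 0x1aa2440500010a6703261e5d0c9204567b43450c6c83465be70a) (.leaf 0x3e1e1eb200004a4948eb53e6186185d3051336a30e73bd5866de)) (.node (.leaf 0x49b44a8a000020a4443942761c5384972156b29e73b24055a049) (.leaf 0)))) (.node (.node (.node (.leaf 0x14b55093000005a711c711c60a9384b7ba1aa2cd3af60e0252ab) (.leaf 0x3d543a800013a1e48954d3d04b684b6724615717752ad68a2cb)) (.node (.leaf 0x43da2afd00001a733ccf3cce1a5585543e7562485d54a1156786) (.leaf 0))) (.node (.node (.leaf 0x47df032400000f6629c729c61af485f04c1705250bd0a912d28f) (.leaf 0)) (.node (.leaf 0x439505ee000127ae4a344a331a5184b08d71572b0aa047518786) (.leaf 0))))) (.node (.node (.node (.node (.leaf 0x4e0a39de0001035d0b0f0b0e1e220555877b027f57f22170b124) (.leaf 0xcc938650000349b1fa150b008360535664f92d21922947b2214)) (.node (.leaf 0x1278333800001788347e35610a278514f14074234782f341d333) (.leaf 0))) (.node (.node (.leaf 0x1a8949e900000cde0d6224490c910537124c349b1695626de2c7)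 (.leaf 0)) (.node (.leaf 0x1bba4a4a00012414476f476e0cb285571d52731b4ce33870b262) (.leaf 0)))) (.node (.node (.node (.leaf 0x1a0b224600010801184218410c810573672e81b94bd0826de2c7) (.leaf 0x50685234000140d832872ff21e660517de31329f4090c51137bd)) (.node (.leaf 0x12c74d6a00011d7b40b840b70a3604f76951e4570402d815f734) (.leaf 0))) (.node (.node (.leaf 0x28cf30190000120a2f121c2e10d505f4ab60f6ee3eb75b70a000) (.leaf 0)) (.node (.leaf 0x3aa617cf00002b93222a24d016d204d2527377b43f208e2ab295) (.leaf 0))))))) (.node (.node (.node (.node (.node (.node (.leaf 0x1816206e0000009c023202310c2484d3366912a46f07fe33315f) (.leaf 0x41f011da00012eaa35a147b018f58411c06173ea3fe7b500055a)) (.node (.leaf 0x174508880000140c32bf32be0ae404b0d146b58363a36b7d928f) (.leaf 0))) (.node (.node (.leaf 0xcf62858000109cd02f51ce7083784d3fd22042312677a41d333) (.leaf 0x2282741516f0000475d53c7203b10a60437ca75e6aa3e96e97b2000)) (.node (.leaf 0x387a406800001fe04370436f16678556224db3285937042cb5be) (.leaf 0)))) (.node (.node (.node (.leaf 0x1b62ac30000051410231022047584d4391a14b37de2b6295486)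 (.leaf 0x4cd411de000138ba495936d31cb48491c07362a41f804a3337b2)) (.node (.leaf 0x41881821000119b428f707ef18f205125919f47f4e73f412d537) (.leaf 0))) (.node (.node (.leaf 0x517c0ae900010ebd286828671e868591061f619c4c771328f2c7) (.leaf 0)) (.node (.leaf 0x2f934751000126c237e82def12f18476d211f64714e5ff41d156) (.leaf 0))))) (.node (.node (.node (.node (.leaf 0x23c84a02000002ce095709560ef50517162931cb3ab1cd734025) (.leaf 0x48e2b7c0000335b5025503e04d205d4476117b44e474c2ab295)) (.node (.leaf 0xec3018a000116d137613760089504702342a0cd1bb2e4025428) (.leaf 0))) (.node (.node (.leaf 0x1f22418900000c4322de22dd0e4504563f3836a9617340537124) (.leaf 0)) (.node (.leaf 0x27927bb000123323cb4469904878533e96814ef54d5384862ab) (.leaf 0)))) (.node (.node (.node (.leaf 0xeb94cc20001076b027f16a8089385375a14e38a20c63c7bd18b) (.leaf 0x58a4e4e00013ef22bd352ff04f205577e62b65a5a522170b55a)) (.node (.leaf 0x10f22b1300001cbe3fcc3fcb08d78454410ca5ea05251370a70b) (.leaf 0))) (.node (.node (.leaf 0x8de29900000115d2dc12d04069685d41b1054376cb69524d32d)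 (.leaf 0)) (.node (.leaf 0x4ff0505300002a804c284c271e568417b120d2da0ef71328f180) (.leaf 0)))))) (.node (.node (.node (.node (.node (.leaf 0x23bb01b6000101b2059705d30ef285702938b69a3c47fe3337bd) (.leaf 0x3a2510ab000130df13034f6016c204b1a364b08b2dd6ba2ab295)) (.node (.leaf 0xeb018790000155c35223289089384126139b38a0450db7bd18b) (.leaf 0))) (.node (.node (.leaf 0x4db43c6c00010b081fde1fdd1cd38495c568c09d75e3cb32d049) (.leaf 0x2640526000014db92d702eea10650417e10ab75877f27a180156)) (.node (.leaf 0x4cab3cb000002187306445021cb30575cf1d72b044c09f1497d9) (.leaf 0)))) (.node (.node (.node (.leaf 0x4cb029be0000063c0d4b13641cb384141e4d34fb3372671497d9) (.leaf 0x293d0b2400013ba44561291b10e285b10b3167586bf30d7d9518)) (.node (.leaf 0xc5d422a00001b31160c3791082685b64a44c01d39d38615f214) (.leaf 0))) (.node (.node (.leaf 0x34671c8a0000100c2b232b2214c704f2c659448725658e32d333) (.leaf 0)) (.node (.leaf 0xb962594000028a129fc486d06f284d3b54ac79b6c022c6216de) (.leaf 0))))) (.node (.node (.node (.node (.leaf 0x109e1dbc000003ee0cc1037508d185d2e36b24122c92d970a786)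 (.leaf 0x32db21f9000035da437d511614748573605577333a364d70b24d)) (.node (.leaf 0x536f4a200001183e372a399c1ec505f7190690da79748c32d262) (.leaf 0))) (.node (.node (.leaf 0x3aa235e100010d7f231c25ad16d204553007001944434a2ab149) (.leaf 0)) (.node (.leaf 0x15b349df000124f9481648150ab38477107af3e42fd5ff41d333) (.leaf 0)))) (.node (.node (.node (.leaf 0x8570e2b0000089919d719d6068684f15e65f4e83480d824d428) (.leaf 0x2a321e45000142bf537708d412238452f73c836573b2df26212d)) (.node (.leaf 0x2c3b06ef00011e4341a5331612628570a477e0f57017077d9156) (.leaf 0))) (.node (.node (.leaf 0xb5327a2000012b62ba72dfa06e48473e829773308d6cd70b24d) (.leaf 0)) (.node (.leaf 0x468316eb00012c971a5b05b01ab104723a6d13ce44447c000149) (.leaf 0)))))))) (.node (.node (.node (.node (.node (.node (.node (.leaf 0x445d1d6800010058014601451a6485b2dc32f63715202754624d) (.leaf 0x1026467e00012e1e4e15444e08c304d6bc6904f25d15132c770b)) (.node (.leaf 0x1337127f000113b32dc929e60a6584f1d07975bf7495bc18055a) (.leaf 0))) (.node (.node (.leaf 0x4d590ac00000098312e81c211cc485310304f14a68558f2ab15f)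 (.leaf 0x29d100e00000461d51fb3f6010f58430150ac5030610bf124156)) (.node (.leaf 0x42bc42ea00001f7a231e42f91a3385965f4423e40767c4586333) (.leaf 0)))) (.node (.node (.node (.leaf 0x3c5c44d5000104ca0f4c0f4b182485968e34357303c1a412d113) (.leaf 0x2622035800013809480d3b3f106204504f57a6d61176ed7d9518)) (.node (.leaf 0x301d2b540001195732ad2d0f142285b4452556924d33fc335786) (.leaf 0))) (.node (.node (.leaf 0x4efb072500000e6927b927b81e358570a822a18242b25a78641d) (.leaf 0)) (.node (.leaf 0x4b2d14c800002659333d491e1c8205b20532421139b5b25be2c7) (.leaf 0))))) (.node (.node (.node (.node (.leaf 0x7ea010d0000028708760875067705501772603d42c54a2145be) (.leaf 0x1cb38024e05000032b83f943adb16610457783f239858525a2cb537)) (.node (.leaf 0x2ee244e30001167a36da36d912d704568f1de6897992d970a12d) (.leaf 0))) (.node (.node (.leaf 0x901b01440600000bf10b7f22170ca104367b4776c36d12e72cb180) (.leaf 0)) (.node (.leaf 0x2c131882000022c3463b300412618472630e35ab4672df262156) (.leaf 0)))) (.node (.node (.node (.leaf 0x15234b930000071f15d815d70aa304773b11f5a32545ff41d333)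 (.leaf 0x15b1f9d00003e0f2658414e046685731e6c665a0d428711355a)) (.node (.leaf 0x348e01a000001c5b3f3f3f3e14d105d02800c3b32f56f1428214) (.leaf 0))) (.node (.node (.leaf 0x431a25c0000111052d152d141a418553bb00452a6b15811562cb) (.leaf 0)) (.node (.leaf 0x19128d92eef00012a0724494bd910d585348e8031417e36d82c7000) (.leaf 0)))))) (.node (.node (.node (.node (.node (.leaf 0x2c2b4ee60000016d04ed04ec12620577923705ab54f36a049156) (.leaf 0x44f2102d0001304e4ebc45231a778451985784794807b60005fc)) (.node (.leaf 0x179c17780000150b348d1d310af185924939a7a40b765318055a) (.leaf 0))) (.node (.node (.leaf 0x382245d500010ab61f1d1f1c16620456a722b65a68c75570b55a) (.leaf 0x34882f6b00014bf72a3316d214d105149a5983530b10cc32d214)) (.node (.leaf 0xc6610fb00012119329544a0082704d1aa5397dd22b77a41d333) (.leaf 0)))) (.node (.node (.node (.leaf 0x6fa3eec000005f11298129706578555fd6873f5277340486333) (.leaf 0x445f049700003ad350ff2eb91a6485f0692fc73316d80412d28f)) (.node (.leaf 0x31c3498800001ad33ac131fe14540477064345f71db3465be68a) (.leaf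 0))) (.node (.node (.leaf 0x5151d5200010fbb2a752a7404e284b2db1963d06e47f970b55a) (.leaf 0)) (.node (.leaf 0x222a2322000128264a8b4a8a0ec205537a08634c80561818b41d) (.leaf 0))))) (.node (.node (.node (.node (.leaf 0x322030b1000003a60be90be814620414b917e3ea2017f970b55a) (.leaf 0x377a02770000353e40264a0916468550365920195d51e824d149)) (.node (.leaf 0x2cd7102a000017e3346a390e127584f1983eb6477d878b41d518) (.leaf 0))) (.node (.node (.leaf 0x10521ed600000d2d24f41b4e08c584530715b2487221cc2c7786) (.leaf 0)) (.node (.leaf 0x321812b600012485409244e814618511d539777236017d2cb486) (.leaf 0)))) (.node (.node (.node (.leaf 0x2cb8457d0000084b190c026b12728516a05d76471e936b049518) (.leaf 0x2fd72ec3000141c9348030a912f584f48b16f34162578d124518)) (.node (.leaf 0x21132fbf00011ddc4006412c0ea18474a070e6dd6401c82cb180) (.leaf 0))) (.node (.node (.leaf 0xcfb4149000112621ed8107b08378576394697a223b5ed41d335) (.leaf 0)) (.node (.leaf 0x19bc1e8500012c1148a726360c558592fe0ed3196580ba486262) (.leaf 0))))))) (.node (.node (.node (.node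 (.node (.node (.leaf 0x3bcc12d7000000e1031d031c16f40591d753e35601804a33328f) (.leaf 0x30ee2d3700002f304e9b3623143705d46a1fa5b173857d149621)) (.node (.leaf 0x307732630001145b06933359142784f4dd1df60226d26a14970b) (.leaf 0))) (.node (.node (.leaf 0x1b242d7d00000a1a1da51da40ca204946f7d301132c09770b262) (.leaf 0x1fe848bb000148ac50fc504b0e570516f270208347146455a7d9)) (.node (.leaf 0x34622ecb0000203c271843d114c704548b5a142312562632d335) (.leaf 0)))) (.node (.node (.node (.leaf 0x1b2520f50000055c0a0c10f10ca204b34337531b62a44b70b262) (.leaf 0x2c401810000396a50c82be604960490230420cd5f571324d428)) (.node (.leaf 0x3111130500001a1a3b443c4b14418431da3067ed48e4a66de734) (.leaf 0))) (.node (.node (.leaf 0x2027340800010f1123a825900e8204f5044523fa3e13465fc70a) (.leaf 0)) (.node (.leaf 0x128732e20000273942e849da0a3404f4e93700f702836a049113) (.leaf 0))))) (.node (.node (.node (.node (.leaf 0xe6f0be4000103150a320a31088705f11f2a93170bd7187bd2ab) (.leaf 0x488c3146000133ff47573ad91c320594c25447030d163b621124)) (.node (.leaf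 0xa01241f0000172a37f3108906c20433947737d236461d2ab149) (.leaf 0))) (.node (.node (.leaf 0x3e1b06e000000c912395239418618570a40015df31811858655a) (.leaf 0)) (.node (.leaf 0x127033f80001239a0c9346fd0a2784150240e16e2081d241d333) (.leaf 0)))) (.node (.node (.node (.leaf 0x41d0044a000007b41771177018f484106365773311079012d28f) (.leaf 0x2b9e002800003ff4532752bf125185d0035bd6fa7657777bd586)) (.node (.leaf 0x1c96108100001d1a404240410cd184d19f0e74d8579020428124) (.leaf 0))) (.node (.node (.leaf 0x521f1191000111af2e6503d11ea185f1ba15130f16f4c573441d) (.leaf 0)) (.node (.leaf 0x4a3333e900002b0541bd04701c628475003b469a4672503337bd) (.leaf 0)))))) (.node (.node (.node (.node (.node (.leaf 0x36251367000001f906b3007f162304b1e55d51a721778373470b) (.leaf 0x3d3c2b95000131703ce8348d18438594491c74f21c4178156621)) (.node (.leaf 0x1e3619000115be279035bd044485d5334580f02096c55be68a) (.leaf 0))) (.node (.node (.leaf 0x89251545c900000b54209f209e104184b6a641160b65263c025586) (.leaf 0x3e051ad40001504353e31f74186104b29d3427e857c0480006de))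 (.node (.leaf 0xe135da000021eb321231fc045704352f4fd5a326610e537335) (.leaf 0)))) (.node (.node (.node (.leaf 0x51ac302f00000686143614351e920594ac7f31b469303b5fc70a) (.leaf 0x11e7208b00003c6b4fbe0b6708f604f33944f07e01a73a15f537)) (.node (.leaf 0x377511cf00001b923e493e48164684b1bf7e03ce2bd37928f149) (.leaf 0))) (.node (.node (.leaf 0x1ab23e400001105c1e160c340c928455ee02e1b45540c95fc70a) (.leaf 0)) (.node (.leaf 0x36351538000029164b3026b5162384b20d3e076649463521470b) (.leaf 0))))) (.node (.node (.node (.node (.leaf 0x5292357b000104350d9d0d9c1eb18455285f610442b4c573441d) (.leaf 0x474e4a290001368438b6090e1ae405d7195bb3566d565c12d24d)) (.node (.leaf 0x13b0377c000118a20cb43a270a7584154f70f7a41b627a1806de) (.leaf 0))) (.node (.node (.leaf 0x159e411a00010dce265a26590ab185d633588651726314124149) (.leaf 0)) (.node (.leaf 0x41393cdd000125640d5e1fa218e38535d16160f44320260005fc) (.leaf 0)))) (.node (.node (.node (.leaf 0x2b8a52df000008e41a941a9312510557ec7a55f88093b07bd000) (.leaf 0x27a91044000043c83502278c10b305319a11b22d18d27041d12d))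 (.node (.leaf 0x679333a00001eac3506421706478534f14af4230356f8537333) (.leaf 0))) (.node (.node (.leaf 0x37de4fad0000130930ec1a37165485d7a36695fa59012a5fc68a) (.leaf 0)) (.node (.leaf 0x2334215600002d104d8c23070ee284935033a29f3ad543333025) (.leaf 0)))))))))

/-- part of a table -/
def entries44 : Trie := (.node (.node (.node (.node (.node (.node (.node (.node (.leaf 0x2b6a2bda0000001600570056124705544e63939f73171802512d) (.leaf 0x1e491f0900002d9334a110710e260533105a027f5da40a113262)) (.node (.leaf 0x38380042000113613194319316628510071a35bf3ff7f962155a) (.leaf 0))) (.node (.node (.leaf 0x51eb1bd10001093002c206351e960572ba26b27d4434a328f70a) (.leaf 0x44703794000044f542a8411c1a678415523a15e220613e5865fc)) (.node (.leaf 0x104543af00001f0d2b411dd508c504b67276072b28630270a786) (.leaf 0)))) (.node (.node (.node (.leaf 0xb0d213b0001047e0e730e7206e205b34e5446a367923f62155a) (.leaf 0x3a761be30000374e429d041816c784d2bb28516e20805932d333)) (.node (.leaf 0x5290925000118fe08443ab104e30530df3f925f28d43d2cb5be) (.leaf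 0))) (.node (.node (.leaf 0x37d92d3000010e1d2710270f165485346a0185a95724765be68a) (.leaf 0)) (.node (.leaf 0x37ec1490000125dc3bde47fb16560592000747bc30e5cb24d149) (.leaf 0))))) (.node (.node (.node (.node (.leaf 0x53a3372a00010240079b079a1ed304754960d3a42ce174428049) (.leaf 0x1729122e0001321a4f6821ec0ae30531c56947ef28d0bf2625be)) (.node (.leaf 0x3af52ec9000016183647364616d784b48b5123f51421ee32d333) (.leaf 0))) (.node (.node (.leaf 0x39734de300010ba5038f216116878477753db2797284cc6de18b) (.leaf 0)) (.node (.leaf 0x104a27c500002256348e45c908c50553eb45b0c30aa75b2c7786) (.leaf 0)))) (.node (.node (.node (.leaf 0x10a94d4f000106d1095b150908d30537678031e26c61112c7621) (.leaf 0x492b111700003d2f52b82e9f1c430571ad2e84d40605806de7d9)) (.node (.leaf 0x48fb371200011bf02dfb3b7a1c358575480a26c311c2472cb41d) (.leaf 0))) (.node (.node (.leaf 0x9153f6a000110b22c740d7406a284b60973d4cf09b24e3332cb) (.leaf 0)) (.node (.leaf 0x1a680ca20000298b2a36453c0c8605113310043f7567fc24d70a) (.leaf 0)))))) (.node (.node (.node (.node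 (.node (.leaf 0x3feb20c20000012804080407189705733d1402ea32447a5182ab) (.leaf 0x37882c5200002fc120084ee016510514582386806ca4fa55a734)) (.node (.leaf 0x4fb6141e000014b815bd33fd1e5384d1f668e2b076746355a049) (.leaf 0))) (.node (.node (.leaf 0x3858425400000a681e5f1e5e166485164e1554b816d23f62128f) (.leaf 0x37d22c4b00004a4a38aa0c8d165484545661c5d36a50135fc113)) (.node (.leaf 0xe54018b000020a526041f8908858490234e92ef41360e02532d) (.leaf 0)))) (.node (.node (.node (.leaf 0x2ecb40d3000005a811c911c812d505762e1893123f030470a000) (.leaf 0x2032b8e037000003a212a8e51e3125105d05106130c2a87777bd586)) (.node (.leaf 0x1cbc2d9300011a732a003cd00cd285947127359b53c61d18b41d) (.leaf 0))) (.node (.node (.leaf 0x10fb01d000010f6629c929c808d785702b0175ea13130470a70b) (.leaf 0)) (.node (.leaf 0x6b01764000027af4a351922065584124628a11e53d05d6de214) (.leaf 0))))) (.node (.node (.node (.node (.leaf 0xdac4d5c0000035e0b110b1008750597683e879b4bb65341d55a) (.leaf 0x2e1245bf0000349c415821de12c18456a57ab35147b4d62c7000)) (.node (.leaf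 0x11e3182415f00011788387c3697145104563a7fd3537d00ff55a734) (.leaf 0))) (.node (.node (.leaf 0xd5225a200000cdf23e7244a08668453b70f64b30926237b2537) (.leaf 0)) (.node (.leaf 0xda84e59000024153edf4770087505177f3d765a28527a41d6de) (.leaf 0)))) (.node (.node (.node (.leaf 0x3d932503000008021844184318518473a92e64cf2aa5815182cb) (.leaf 0x4d490d98000040d923c853441cc40531514995165b34502ab7b2)) (.node (.leaf 0x106c507c00011d7c40a7073d08c70597b876060264214570a621) (.leaf 0))) (.node (.node (.leaf 0x25d09310001120a2f142f13048685b0e01f67d156b5cb28f32d) (.leaf 0)) (.node (.leaf 0x52f93af000012b934cbd2af91eb685359e0080da8082ad68a262) (.leaf 0))))))) (.node (.node (.node (.node (.node (.node (.leaf 0xcd2a0d0000009d02340233045605b4297c87bc39156024d149) (.leaf 0x264f425f00002eab3c404573106505f64e7ee1ef1895ff41d156)) (.node (.leaf 0x43e841c30001140c32c00abc1a5705164335b2a646004751870b) (.leaf 0))) (.node (.node (.leaf 0x233c0aff000009ce13c41ce80ee285910873d1ca1c770d333025) (.leaf 0x561231a0001475e53c8181e04e504337835c2222586282cb537))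 (.node (.leaf 0x1c1348c600001fe143710d660cc18476f33f727f5b002032d124) (.leaf 0)))) (.node (.node (.node (.leaf 0x2a3f0adf0001051410251024122385f10579575967378d262546) (.leaf 0x3e4f425c000038bb32393d25186405f64e73c55d0911be54624d)) (.node (.leaf 0x434e2f1c000119b53bc53bc41a4505d4926f24122a37e9156786) (.leaf 0))) (.node (.node (.leaf 0x5c307a700000ebf286a286904f40470b544a6ef0182f070b28f) (.leaf 0)) (.node (.leaf 0x158c3a9c000026c3497e15eb0ab10595965ad7b45174a2124149) (.leaf 0))))) (.node (.node (.node (.node (.leaf 0x44f54dd6000102ce095909581a7784b7745513ee04f1645865fc) (.leaf 0x18581dd10001335b1c8a47810c268512e60140da67021868a262)) (.node (.leaf 0x23da1f34000016d23762271e0ef58553151fc69a6d71957347bd) (.leaf 0))) (.node (.node (.leaf 0x44af14de00010c4322e022df1a7205f2066f01cf1017dc12d486) (.leaf 0)) (.node (.leaf 0x351a31e2000023332485469a14e18554d01df7391bb26a149537) (.leaf 0)))) (.node (.node (.node (.leaf 0x13f249680001076c16aa16a90a7784570150e28477838c1245fc) (.leaf 0x1abc1d8400013ef51c1b36d40c928592de08f2800d94045be70a))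 (.node (.leaf 0x3779286500011cbe3fce3fcd16468533fe20f1482c17f828f295) (.leaf 0))) (.node (.node (.leaf 0x48d0428a0001115d2dc32dc21c3484165454b16c57a63b62115f) (.leaf 0)) (.node (.leaf 0x342e45a400012a8343af4c2914c205d6a41d56685f103918b149) (.leaf 0)))))) (.node (.node (.node (.node (.node (.leaf 0x428453ae000001b305d505d41a320498026f45765691a4546214) (.leaf 0x42be17a8000030e14f4d36911a3385d24f5784252c047c000335)) (.node (.leaf 0x6130cb50001155c3523142d06448471351585737d36b65be113) (.leaf 0))) (.node (.node (.leaf 0xe290c7f00000b091fe01fdf088305312f8064ef0e960e0252ab) (.leaf 0x4e4407c100004dbe4c4c375c1e240490b712514b5d709762115f)) (.node (.leaf 0xacc0c820001218845030bbc06d405913015201e4d145018b68a) (.leaf 0)))) (.node (.node (.node (.leaf 0x2f5936940001063c136505ab12e585353d13a0f500e74d124518) (.leaf 0x364d331300003ba652024b78162605b4ee0fc65630e0c51132cb)) (.node (.leaf 0x13c2b044ad000011b31091f3dcb12410497280c730c7bb7147bd000) (.leaf 0))) (.node (.node (.leaf 0xf6343a20001100c2b252b2408a60476720a67ff48518e15f734)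 (.leaf 0)) (.node (.leaf 0x18f02547000128a14a5107780c378413ad46d29e72d2021497d9) (.leaf 0))))) (.node (.node (.node (.node (.leaf 0x1f591d3e000103ee0a080cc20e468532d57e01276a837928f41d) (.leaf 0x2a7d44a6000135dc4e2c4e20122785b68730775916541441d12d)) (.node (.leaf 0x94007410001183f19891efc06a60410ab1c452a73f03f113786) (.leaf 0))) (.node (.node (.leaf 0x108f2b7900000d8025af25ae08d105f44748a65672675b70a786) (.leaf 0)) (.node (.leaf 0x48f30f33000124fa38e81ed21c3584717c12c2da1190342cb41d) (.leaf 0)))) (.node (.node (.node (.leaf 0x48c910300001089919d919d81c3405319912514b5c056e6217b2) (.leaf 0x4f374016000142c04bc1494a1e4384f61b2e84d412f0826de049)) (.node (.leaf 0x4c73073000011e4441a741a61ca68470aa06f5a20d1137113124) (.leaf 0))) (.node (.node (.leaf 0x30e94fac000112b63050273514370537a36651a7079073295621) (.leaf 0)) (.node (.leaf 0x111808ed00002c9825b733e408e18510d77965df43e2f341d6de) (.leaf 0)))))))) (.node (.node (.node (.node (.node (.node (.node (.leaf 0xa008b0dd80000005901480147045405715744501e19612a5be68a)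 (.leaf 0x384f118500002e1f16b22b77166405f1b62565830916cd70b24d)) (.node (.leaf 0x29c10471000013b410c9323410f504306713d7585bd55f262156) (.leaf 0))) (.node (.node (.leaf 0x236e1d4c000109831c2206580ee605d2d664c2f42fe4e168a7bd) (.leaf 0x87226c80001461d5305361e06878453d244d3174bc71c48618b)) (.node (.leaf 0x4e2502e800001f7c38b542fa1e2304b0422fb08326117d786049) (.leaf 0)))) (.node (.node (.node (.leaf 0x1f0e1d36000004cb0f4e0f4d0e4405d2d545d14b3310c95fc7b2) (.leaf 0x4e2326020001380a51ab158a1e230473c01a814c2cf25a2cb049)) (.node (.leaf 0x48250520000019593b3b34f01c2304b0741754d47102e72cb7d9) (.leaf 0))) (.node (.node (.leaf 0x119f1dbf00010e69047b27ba08f185f2e37ee07a5fe5ff41d55a) (.leaf 0)) (.node (.leaf 0x35473f3c000126593a1b491f14e404f6057381fd1581a233524d) (.leaf 0))))) (.node (.node (.node (.node (.leaf 0x42b74a8500010287087808771a3384f7213e24255073bd000335) (.leaf 0x45211153000132bb45652f021a830431b20d968b10579f5182ab)) (.node (.leaf 0x482151470000167b36db194f1c230437c832918551f1ea2cb049) (.leaf 0))) (.node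 (.node (.leaf 0xd2534f700010bf103a82218086504b51c2ac1b851237b1806de) (.leaf 0)) (.node (.leaf 0x16b05094000022c4463c2d2c0ad38417ba2153610373022c770b) (.leaf 0)))) (.node (.node (.node (.leaf 0x6a03a290001071f021915d9065504158d4134eb0404a655a734) (.leaf 0x4da2115500003e1152db1b641cd30451b22014d478c58e4287d9)) (.node (.leaf 0x4f6c44d600001c5c3f413f401e4605968e35710442b1ab24d41d) (.leaf 0))) (.node (.node (.leaf 0x2faa0263000111062d16236612f20550353705ab7df36a049156) (.leaf 0)) (.node (.leaf 0x2db60e3b00012a084860253212b384d1604247596ce77a41d546) (.leaf 0)))))) (.node (.node (.node (.node (.node (.leaf 0x45a61f280001016d04ef04ee1a9304d31350d2cd57e20e15618b) (.leaf 0x12e517670000304f207d280d0a3704b24640742354465341d335)) (.node (.leaf 0x19fa32390001150b31bf348e0c578554d757b14c1440826de049) (.leaf 0))) (.node (.node (.leaf 0x311a2b5a00010ab71f1f1f1e14418554454bf4eb1d917f55a214) (.leaf 0x23e94a0900004bf842034ea80ef60537166fd1cb70c1a0113025)) (.node (.leaf 0x4f9d2c070000211c44a11a891e5185b4522ca26e57f33e537124)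 (.leaf 0)))) (.node (.node (.node (.leaf 0x13804415000005f2129a12990a7404167c2db76d4057407d924d) (.leaf 0x4a03035200003ad7524d50351c6104704f1d438067c4c57347bd)) (.node (.leaf 0x3113f5100011ad319273d5704a284360805269206e24e3352cb) (.leaf 0))) (.node (.node (.leaf 0x1f1e30a200000fbc2a772a760e4485d4b715816c71d3465be15f) (.leaf 0)) (.node (.leaf 0x107642fd000028274a8d4a8c08c784d66052605b0027612c770b) (.leaf 0))))) (.node (.node (.node (.node (.leaf 0x4c2e48eb000103a60beb0bea1ca305d6f541c00f6f7545295049) (.leaf 0x1ea848b10000353f50e44e2d0e350516f21f30ea5da32b73441d)) (.node (.leaf 0x18e72544000017e432e7390f0c3704f3ad292697303545149049) (.leaf 0))) (.node (.node (.leaf 0x4f6d23a300010d2d24f624f51e4605b38944859b5ad56024d41d) (.leaf 0)) (.node (.leaf 0x510e48060000248647c347c21e8105d6e13832a27cd3ef53770a) (.leaf 0)))) (.node (.node (.node (.leaf 0x23ca4c1d0000084c190e190d0ef50557457262a03366ad2147bd) (.leaf 0x189b1d24000041cb53623c430c348572d428114a3501a23357b2)) (.node (.leaf 0x411538a500011ddd0a4c412d18e284b56a2ee7724c83f412d537)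 (.leaf 0))) (.node (.node (.leaf 0x17f208ae000112632fac2fab0af68450d375a2227022d87b2486) (.leaf 0)) (.node (.leaf 0x292a302b00002c124d002f7710e20554ac6855c66934f47d9518) (.leaf 0))))))) (.node (.node (.node (.node (.node (.node (.leaf 0x1fe546c8000000e2031f031e0e5704b6c43e529e6ea4a655a049) (.leaf 0x3b0731f300012f31273b0f0416e104f4d11a14b33db2b6295486)) (.node (.leaf 0x21010d6b0000145c335a325d0ea104314444418213317d786180) (.leaf 0))) (.node (.node (.leaf 0x12642bd00010a1a1da71da6046504d6596ca47f60d57d295537) (.leaf 0x19f133b000048b153ac35b3047485f1de60476a2397fe33528f)) (.node (.leaf 0x478613180000203d43d343d21af204d1db45e77277158b12d486) (.leaf 0)))) (.node (.node (.node (.leaf 0x1272dbb0001055c10f310f2046504f47353107e225207295537) (.leaf 0x485a33170001396a181f51f91c248554ee2056997996cd6217b2)) (.node (.leaf 0x2d08359700011a1a24912cb112a205152b35933044069b7d9586) (.leaf 0))) (.node (.node (.leaf 0x361f143b00000f12291f19f7162285f1f96045715317fe335786) (.leaf 0)) (.node (.leaf 0x185f4f6b0000273b49db466b0c2685f79d4e36a97cf5c3113262)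 (.leaf 0))))) (.node (.node (.node (.node (.leaf 0x3f73b82000003160a340a3304b784f5ad0947667e56ad214621) (.leaf 0x4df1437e00003401507c45ef1cd584366f77431b27b0cc32d124)) (.node (.leaf 0x1ec648850001172a37f537f40e3604d6eb2c031b13361368a124) (.leaf 0))) (.node (.node (.leaf 0x1438351900000c92239606dc0a8385151f3fd74874b72e7bd2ab) (.leaf 0)) (.node (.leaf 0x7e846410001239b391446fe06770516b208507c0a41867345fc) (.leaf 0)))) (.node (.node (.node (.leaf 0x16750759000107b4177214d80ac784b0ac5101a74c078970a70b) (.leaf 0x25fa112c00013ff753284dc310578551ae69e0c4493777025546)) (.node (.leaf 0x13534d0e00011d1a404321fb0a6684776075a2224b62d87b2486) (.leaf 0))) (.node (.node (.leaf 0x464a3e79000011b02e672e661aa40555f145e55077d58b12d68a) (.leaf 0)) (.node (.leaf 0x3b28363200012b0510e42a0c16e305153523328e65f1cd7345be) (.leaf 0)))))) (.node (.node (.node (.node (.node (.leaf 0x4688336c000101f906b506b41ab10514f653c45c128401586295) (.leaf 0xb3f0a35000131742b3232a806e385f0f62b210720c25a2cb5fc)) (.node (.leaf 0x8c00e2c000115bf09a535be069604115e6db0cd46a3de24d32d)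 (.leaf 0))) (.node (.node (.leaf 0x390e182800010b54037420a0168205d25950b76e4e70135fc428) (.leaf 0x29934e8f000050444e7e4fec10f18477846c237f4df41741d518)) (.node (.leaf 0x390f2585000021ec31f928d1168205f3b445d49057b0c95fc428) (.leaf 0)))) (.node (.node (.node (.leaf 0x3bd72d550001068601eb143716f484f46d21652505712333328f) (.leaf 0x42a634c100013c6c463e45ec1a3304d51915316e4274e2000333)) (.node (.leaf 0x1ba32d7600011b921c2d27c70cb204746f3260873a12f070b124) (.leaf 0))) (.node (.node (.leaf 0x14cb2b0f0000105d2bd005820a950574407cd3997933d57bd428) (.leaf 0)) (.node (.leaf 0x19f40835000129173a604b310c578490c04133a47794a655a049) (.leaf 0))))) (.node (.node (.node (.node (.leaf 0x15b4532a000104360d9f0d9e0ab38497f46523f11212f3180333) (.leaf 0x32591189000036884be9418514648531b65307333be56e70b28f)) (.node (.leaf 0x3afc0fed000018a336ec3a2816d785919255e3f515562f32d333) (.leaf 0))) (.node (.node (.leaf 0x8b6532c00000dcf265c265b069384d7f478738a06841855a18b) (.leaf 0)) (.node (.leaf 0x46200eb400002568486948681aa204116a3ae01d099027546734)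 (.leaf 0)))) (.node (.node (.node (.leaf 0x399141b1000108e417cb1a9516928436420af3995d24045be32d) (.leaf 0x108c4e4b000043c950f94ed908d105977e4f00061c01112c72cb)) (.node (.leaf 0x3c85415800011eac42184165183204b63a4f835349641f12d734) (.leaf 0))) (.node (.node (.leaf 0x6cb12620000130a2c7930ed06560571ce05c3ce44469528f149) (.leaf 0)) (.node (.leaf 0x1e60ba000012d101fa93436047704d1170d507c3056007345fc) (.leaf 0)))))))))

/-- part of a table -/
def entries45 : Trie := (.node (.node (.node (.node (.node (.node (.node (.node (.leaf 0x343551d6000000170059005814c284b7d329d3586675b72ab149) (.leaf 0x1a338823a6500012d9311434dc9167104559321b3a8190704786537)) (.node (.leaf 0x127b35bf00001362175a31950a2785752d7c517253a417180335) (.leaf 0))) (.node (.node (.leaf 0x34ee10d5000009311b5e04d414d705d1a82015f410b174428335) (.leaf 0x44de24de000144f63fa453801a7485d3a572d76a2390a912d28f)) (.node (.leaf 0x496b436100011f0d0aaf2d951c4605766d20c2da0d36d028f41d) (.leaf 0)))) (.node (.node (.node (.leaf 0x3510fa0001047f0e750e74044584b1aa5113b61674206de214)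 (.leaf 0xfe24eae0001374e3d583eab08b604578a6ce0647ca49815f734)) (.node (.leaf 0x53333c6d000118ff3ab23a2d1ec38475c57de00f2e048c32d7d9) (.leaf 0))) (.node (.node (.leaf 0x1e8c1bbe00000e1e271227110e340592b86e607f25b29c33315f) (.leaf 0)) (.node (.leaf 0x15950b7000025dd272a2f5f04668537be4ba79b05803f68a6de) (.leaf 0))))) (.node (.node (.node (.node (.leaf 0x1b480cad000002410221079c0ca40511336834ca6f656e70b7b2) (.leaf 0x42371e4f0000321b1f7d4a441a2384f2f77cf7dd6f57e2000333)) (.node (.leaf 0xff13301000116180736364808b68434ed06045752c0cb15f734) (.leaf 0))) (.node (.node (.leaf 0x3c0511b900010ba6056a0eb5182204b1bd5ee7ff2aa3f412d734) (.leaf 0)) (.node (.leaf 0x381b05be00012257246a180516618570865f12224b62472cb486) (.leaf 0)))) (.node (.node (.node (.leaf 0x1cf40f88000006d2150b150a0cd78491884b64fb32f1ee32d049) (.leaf 0x3f6b1abb00003d314e75509f188705729a4d768b67a7db51818b)) (.node (.leaf 0x19284f6c00001bf13ec5022e0c4505179d56172440333e537124) (.leaf 0))) (.node (.node (.leaf 0x173a3c77000010b32c75168b0ae38555c93d85e24ff2422625be)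 (.leaf 0)) (.node (.leaf 0x11d549cf0000298c35153b3b08f484b70f7fb6377207407d924d) (.leaf 0)))))) (.node (.node (.node (.node (.node (.leaf 0x1f0421c700000129040a04090e4404935b32407f3435b25be15f) (.leaf 0x2d914dfe00012fc14c742edb12b28437767a835122f65e049586)) (.node (.leaf 0x29be180b000114b811b333fe10f285d256624503727707049156) (.leaf 0))) (.node (.node (.leaf 0x3aa4b2a00010a681e601d8904b305573062e5b121726a14970b) (.leaf 0x45c316b500004a594b2c349b1a950472332d575467947a156428)) (.node (.leaf 0x4f4b331c000120a5443b443a1e440574ee5225163bf3465fc15f) (.leaf 0)))) (.node (.node (.node (.leaf 0x8d81935000105a811cb11ca06968512742f71e00777fc28f32d) (.leaf 0x2a519100003a223177522304450557cd0772d26670ff6de734)) (.node (.leaf 0x1484241100001a74306c3cd10a9104939408c0cd06d24b025428) (.leaf 0))) (.node (.node (.leaf 0x1b6619cc00000f6729cb29ca0ca704d28253b2b06f0034786049) (.leaf 0)) (.node (.leaf 0x35610639000127b01bb5294414e60430934947e80f818a11355a) (.leaf 0))))) (.node (.node (.node (.node (.leaf 0x49323c8e0001035e0b130b121c438455ca7a329e73b08255a049)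 (.leaf 0x27ae36330001349e32f750b110b305d5352451e37bf30818012d)) (.node (.leaf 0x357216bd00001789387d325414e68452335e60d067913711355a) (.leaf 0))) (.node (.node (.leaf 0x2b2b040b00010cdf244b0d5b124305705c42975978c71802512d) (.leaf 0)) (.node (.leaf 0x4936153a000124150cc747711c4384d20d45f3a46ce4cc55a7d9) (.leaf 0)))) (.node (.node (.node (.leaf 0x531c390c00010802184505301ec28595726a70ea33951d2ab180) (.leaf 0x261d16d4000140da47bf4140106185b2390d30b34391ec262518)) (.node (.leaf 0x104e0be100001d7e40ba40b908c505d11f15b24862e3042c72cb) (.leaf 0))) (.node (.node (.leaf 0x43684dbd0000120b2f162f151a470517716eb5b157215d518621) (.leaf 0)) (.node (.leaf 0x528f001b00002b9424004abc1eb105f0025647880e00b021441d) (.leaf 0))))))) (.node (.node (.node (.node (.node (.node (.leaf 0x481313000001009d023602351c228471da12670313f221621124) (.leaf 0x34e62b4600002eac12f44e5714d704d4442f65a343848c428335)) (.node (.leaf 0x187d0d3a0000140d15f632c10c2785b140555083144265295049) (.leaf 0))) (.node (.node (.leaf 0x1ee18dc000109ce0d021ce9047705d26c6150f41126ad7345fc)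 (.leaf 0x4452443d0001475f52e822db1a6484567f72d76a34965c12d24d)) (.node (.leaf 0x5170047a00001fe2232943721e8684106749e2115bd5cb28f70a) (.leaf 0)))) (.node (.node (.node (.leaf 0x2d4f4a21000005151027102612a605f7190df6fa76518e15f586) (.leaf 0x4af747a2000038bc51d946e61c7684f6d90eb1e60a14e11137bd)) (.node (.leaf 0x73a355d000019b624a6115306658555266017e459a04b149486) (.leaf 0))) (.node (.node (.leaf 0x1734509200000ec01288286b0ae38497ba13a11d3af74d1245be) (.leaf 0)) (.node (.leaf 0x1fbb0035000126c30dfd497f0e5585700437d0da640340486124) (.leaf 0))))) (.node (.node (.node (.node (.leaf 0x12e23a23000002cf095a020f0a3704558d15c66c0965ed180335) (.leaf 0x2d4a1b6f0000335c503f182012a60552af73075711b5a715f000)) (.node (.leaf 0x315a23ae000116d33764376314448553896d50f06380c95be113) (.leaf 0))) (.node (.node (.leaf 0x4b3818a200000c4422e222e11c828512661d83fa69e1775fc70a) (.leaf 0)) (.node (.leaf 0x2d630b7d00012333469b0c5012a704711458868948838c12412d) (.leaf 0)))) (.node (.node (.node (.leaf 0x46e553840000076d16ac16ab1ab704b80028b0b4125164586335)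 (.leaf 0xf7d527f00003ef74d7239a608a685b7e37ba57610f55c15f214)) (.node (.leaf 0x1f0629cc00001cbf3f833fcf0e4404d4215225164f32fa5fc7b2) (.leaf 0))) (.node (.node (.leaf 0x2daa06af0000115e2dc4192412b305509c7e363644c5bc18012d) (.leaf 0)) (.node (.leaf 0x25442f600002a844c2b4c2a04868496602127d17023de28f32d) (.leaf 0)))))) (.node (.node (.node (.node (.node (.leaf 0x238124f1000001b405d705d60ef10433a71c93d33e1265295025) (.leaf 0x34942271000130e14b264c0314d184936c19857647743b32d214)) (.node (.leaf 0x4cc70ab50000155d352535241cb404f10246014b6244a83337b2) (.leaf 0))) (.node (.node (.leaf 0x86000b519b00010b091fe21fe104440577cd4521347633465fc68a) (.leaf 0x2ff51ae100004dc64df550ac12f684b2a11090f57df0cb15f156)) (.node (.leaf 0x1b511861000021891d463fae0ca48432601962a44b063b70b15f) (.leaf 0)))) (.node (.node (.node (.leaf 0xb0e25780000063e1367136606e205d3b244a5df4a922c70b6de) (.leaf 0xfb11cd000003ba746af527008b38432ce0d11726f51d2180333)) (.node (.leaf 0x53731b3d00011b323dcd3dcc1ec58472aa5a131b7d462632d262) (.leaf 0)))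 (.node (.node (.leaf 0x4e5639ac0001100d050c2b261e2484d5825273877f133870b15f) (.leaf 0)) (.node (.leaf 0x53cc1c4f000028a24ade040e1ed40592c17eb0fd61e57418b15f) (.leaf 0))))) (.node (.node (.node (.node (.leaf 0x4ced134b000003ef03700cc31cb605b1df5656a93cf1a0113124) (.leaf 0x1bb13e43000135dd15d336de0cb28435ee16a2e157956e621124)) (.node (.leaf 0x177a10c400001840399e399d0ae68551a618d6cf5114987b2486) (.leaf 0))) (.node (.node (.leaf 0x526d1b6600000d8125b125b01ea605b2af1c408778a03f113124) (.leaf 0)) (.node (.leaf 0x19202217000024fb3d6a42440c4504136339c2e15796be537124) (.leaf 0)))) (.node (.node (.node (.leaf 0x1ea437b20000089a19db19da0e3504955409b30f617750734180) (.leaf 0x3c1f2a9d000142c14ec21739182285f43471201d6061e4546734)) (.node (.leaf 0xe3637a600001e4541a80e2f088384d5531ce74858a2e47bd2ab) (.leaf 0))) (.node (.node (.leaf 0x1ffa0036000012b730511d430e5785500438969767b41855a7d9) (.leaf 0)) (.node (.leaf 0x432d18cd00012c9931c50a401a4305b26b6eb5b15e504751870b) (.leaf 0)))))))) (.node (.node (.node (.node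 (.node (.node (.node (.leaf 0x301145cb00010059014a014914228436a64d17f263250a3352cb) (.leaf 0x493717bc00002e201e802ddb1c4384f2514bf0831c541855a7d9)) (.node (.leaf 0x2730683000113b406553235048784709a0f82791bd66453718b) (.leaf 0))) (.node (.node (.leaf 0x157042c6000009841c2317a50aa684165b2ce11e04c30b15f214) (.leaf 0x3ac220120001461f3aea50d716d40453291ff13416a3b82ab68a)) (.node (.leaf 0x2f8c14c700011f7c1d7727a712f10592053076471351d241d156) (.leaf 0)))) (.node (.node (.node (.leaf 0x50a1409d000104cb0f500f4f1e7204362963869a7ab3fc333025) (.leaf 0x4503038e0001380b5065341f1a810470527627d156b11a15632d)) (.node (.leaf 0x290d3025000119593b3c24f610e105b4ac3cf5c64c637b180518) (.leaf 0))) (.node (.node (.leaf 0x25e522a00000e6c27bc27bb048685d7da57e76e66d6d024d428) (.leaf 0)) (.node (.leaf 0x3cd924e40000265a15e5101e18348533a62ee0f046029112d68a) (.leaf 0))))) (.node (.node (.node (.node (.leaf 0x2da41f2f00000288087a087912b304931378a2eb6d427041d12d) (.leaf 0x3e201453000032bd4210500e18620411fb19f47f60d3f412d537)) (.node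 (.leaf 0x11229090c2f0001167b0b0536dc10e105312680932763927a180156) (.leaf 0))) (.node (.node (.leaf 0x518f0c2700000bf2221a22191e9105f1264922416393405372c7) (.leaf 0)) (.node (.leaf 0xd22e61000122c40c383f9504568454831b366848b6d024d295) (.leaf 0)))) (.node (.node (.node (.leaf 0x3a6104300000072015db15da16c70430620095a34380cc428335) (.leaf 0x11a4205200003e1552262bb708f304933211c1072530bf2625be)) (.node (.leaf 0xb8f407500011c5c2ccf3f4206f205f6242662375fe64d62155a) (.leaf 0))) (.node (.node (.leaf 0x4153bca000011071ad32d1704c284b5b61fb7bc4f72262ab149) (.leaf 0)) (.node (.leaf 0x370b0b8200002a094bda02a416410571150a801d66546355a214) (.leaf 0)))))) (.node (.node (.node (.node (.node (.leaf 0x1a8f492a0000016e04f104f00c9105f6fc3482b475208255a2c7) (.leaf 0x22742b20000130513ab826790ec78494420301f725b62f4287d9)) (.node (.leaf 0x3ef039ce0000150c3490348f187784158569d5217707c40005be) (.leaf 0))) (.node (.node (.leaf 0x53c116b100010ab803411f201ed404323312907f5d422618b7b2) (.leaf 0xe9f1dbe00004bfa51292a37089185f2e37291e019e3b002532d))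 (.node (.leaf 0xd30347e0000211d44a2354c086584151065b6a360d37b41d6de) (.leaf 0)))) (.node (.node (.node (.leaf 0x43bd1a49000105f2129c129b1a5385b28d3ac6026da3da518621) (.leaf 0x44f8163b00003ad92b623a121a7785122563d28e0fb7c45865be)) (.node (.leaf 0x1f9208fd00001ad43d593d580e548450d961c17635e0135fc7b2) (.leaf 0))) (.node (.node (.leaf 0x4aa03d6b00010fbc2a792a781c720415db4303fb37324e3357bd) (.leaf 0)) (.node (.leaf 0x502d1719000128280eae4a8e1e6205b23d4303fb21529c335025) (.leaf 0))))) (.node (.node (.node (.node (.leaf 0x2b43c3b000003a70bed0bec04938495c16d32cd44856255a2ab) (.leaf 0x304a44a00000354023dd314f14260556870b605f23313768a786)) (.node (.leaf 0x32210350000017e539113910146204304f0a707a00c23f70b55a) (.leaf 0))) (.node (.node (.leaf 0x1e59225500000d2e24f824f70e268533682540116b049768a124) (.leaf 0)) (.node (.leaf 0x47c31fdc00012486369447c41af40473236f076d4ec80412d28f) (.leaf 0)))) (.node (.node (.node (.leaf 0x44f708b80001084c1910190f1a7784f0d43e25217707e20005be) (.leaf 0x50142f51000141cb507d28491e618494990932f411732b214025))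 (.node (.leaf 0x154e193000001dde1dc7412e0aa405d2740d701e2814f4049113) (.leaf 0))) (.node (.node (.leaf 0x20ed2762000012642fad274b0e9605b3e20742b45e05cb24d70a) (.leaf 0)) (.node (.leaf 0x151b177000012c1343d749390aa185724902b01974e242262149) (.leaf 0))))))) (.node (.node (.node (.node (.node (.node (.leaf 0x2cbc4810000100e20321032012728596e301061264869b049156) (.leaf 0x13434c8f00002f334e9c483a0a6604775171f39859830a15f537)) (.node (.leaf 0x13a433270001145c335c335b0a750494f040e07a67f1d241d6de) (.leaf 0))) (.node (.node (.leaf 0x4bd00e8700000a1b085b1da81c958411674131b42a942055a2c7) (.leaf 0x323e0041000048b43e4c53ba146285d00712679b1c63386216de)) (.node (.leaf 0x2eff04ee0001203d43d543d412d785f06e77f39f59676170a546) (.leaf 0)))) (.node (.node (.node (.leaf 0x4bd10f7e0000055d10f40d6f1c9584318770227d52346455a2c7) (.leaf 0x3f7c40d10000396b50e21393188785962e0dc3174bc3da15618b)) (.node (.leaf 0x22323d7900001a1b3c4c033c0ec28455dd40530164029818b180) (.leaf 0))) (.node (.node (.leaf 0x258539700000f132920190c04868518013250c14e756028f428)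 (.leaf 0)) (.node (.leaf 0x2639293f0000273c138e2cf0106285340f5d05c676869b7d9156) (.leaf 0))))) (.node (.node (.node (.node (.leaf 0x427a234e000103160a360a351a2585537d7cf3d66fb7e2000149) (.leaf 0x1774280d00013401507e507d0ae68493f378207e70655c15f486)) (.node (.leaf 0x275547ff0000172b37f6370910a684b6e07f414155b38615f586) (.leaf 0))) (.node (.node (.leaf 0x96008a414b00010c9203db196f04540556395140f753a0435be68a) (.leaf 0)) (.node (.leaf 0x2371416b0001239c207f0c290ee684363d4613fb76c2ad68a7bd) (.leaf 0)))) (.node (.node (.node (.leaf 0x4e762954000007b5177417731e2584d41326978858817b2cb41d) (.leaf 0x21b2b9c1da400013ff851e438bb12518592e24c73303d20db025000)) (.node (.leaf 0x10cc511e00011d1b2be52ff008d50597c57012c20631452c72cb) (.leaf 0))) (.node (.node (.leaf 0x16cf461e000111b02e692e680ad505f6af77f72b29a76170a2cb) (.leaf 0)) (.node (.leaf 0x2b3933c900002b064c6702ba12438534fe3fd63644f72e7bd546) (.leaf 0)))))) (.node (.node (.node (.node (.node (.leaf 0x26143a1000001fa06b706b6048704367206d2791f90ba5372ab) (.leaf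 0x460b37d60001317519ec4b9e1aa10575573e208b3973bd000295)) (.node (.leaf 0x1d793541000015c035c035bf0ce685352401469a2b821868a025) (.leaf 0))) (.node (.node (.leaf 0x21c84a0d00000b5520a1021e0eb40517167d30fd55907570b7b2) (.leaf 0x4c3306b30000504547c44baf1ca38470a033f29e75e57d149049)) (.node (.leaf 0x2981066000021ed45714570049285119d4ec43719e03b5be32d) (.leaf 0)))) (.node (.node (.node (.leaf 0x46fb0fee00000687143914381ab785719274f3f55de4e2000333) (.leaf 0x2b0e402d00013c6e1bad529c124105d61c5fb31201c2e4025586)) (.node (.leaf 0x2a98344500001b9323cb3e4a123285150b49331202a65e049586) (.leaf 0))) (.node (.node (.leaf 0x78144140000105e2bd22bd1067404367c1f176d7c050a33324d) (.leaf 0)) (.node (.leaf 0x52ce0ac40000291825824b321eb405d1031ba4ca77e4b53357b2) (.leaf 0))))) (.node (.node (.node (.node (.leaf 0x22983c0a000004370da10da00ed18515bb59827f5da23632d262) (.leaf 0x26e64dd90001368951525151107604d7746730b33ec5a715f156)) (.node (.leaf 0xff80bea000118a33a113a2908b685111f5cd45762e6e915f734) (.leaf 0))) (.node (.node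 (.leaf 0xc92451700010dcf265e265d08348456933b25736834f4049113) (.leaf 0)) (.node (.leaf 0x4290c7200012569486a28c204c305312f19b66c3551ee428333) (.leaf 0)))) (.node (.node (.node (.leaf 0x23a82231000008e51a971a960ef205136603c01270c3fc333025) (.leaf 0xf741ede000143d04bcc514108a68493077f45766b138615f214)) (.node (.leaf 0x432f483a00011ead42192f781a4305f6e576277c6c647a156621) (.leaf 0))) (.node (.node (.leaf 0x45da3e080001130b17b930ee1a958555e850d1e0654581156428) (.leaf 0)) (.node (.leaf 0xff52c1700012d111104392d08b684b45344c01d66538615f214) (.leaf 0)))))))))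

/-- part of a table -/
def entries46 : Trie := (.node (.node (.node (.node (.node (.node (.node (.node (.leaf 0x526a471700010017005b005a1ea60556ca3c526e62c13768a124) (.leaf 0xb030e7800002d9433d03bdf06e20471652563d06e475570b55a)) (.node (.leaf 0xf3318139130001136231973196145104357521911e04c4646de214) (.leaf 0))) (.node (.node (.leaf 0x8400765000009321b601b5f06860410ad44876e38d56024d428) (.leaf 0x2c994573000044f72a5b20f112718536a01f064769074d262518)) (.node (.leaf 0x1d2c224e00001f0e0b7b17470ce20593676e60120d904a3337bd) (.leaf 0)))) (.node (.node (.node (.leaf 0x45410b7e000004800e770e761a850431146c42ef27c3da518428) (.leaf 0x50f21cf70000374f2b6c49d51e768452d05e62575101371137bd)) (.node (.leaf 0x32914fc60000190022bd1c5f14718437a62fb4b30e617d786486) (.leaf 0))) (.node (.node (.leaf 0x3bb90ff300000e1f271319d916f385319330e28405c6352145be) (.leaf 0)) (.node (.leaf 0x329f3fb0000125df3430372b147185f61112c68d1011c82cb486) (.leaf 0))))) (.node (.node (.node (.node (.leaf 0x4a46443200010241079e079d1c6504d67f2af0120ca154295025)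 (.leaf 0x55239910000321c39e14fde04e484557f1264b832422162124d)) (.node (.leaf 0x4173f5e000016192db02e3d04c284f6087923d65f661818b295) (.leaf 0))) (.node (.node (.leaf 0x339726d800000ba721632162149284f3d454d5ce1382fa5fc32d) (.leaf 0)) (.node (.leaf 0x479741b50000225945cb45ca1af284f64237a07e38d1be12d537) (.leaf 0)))) (.node (.node (.node (.leaf 0x48151c56000106d309ee150c1c2284b2c323b5a22ac63b70b124) (.leaf 0x47d8178b00003d3252ba52b91af485124a5f94b851479054628f)) (.node (.leaf 0x431b081100011bf23ec73ec61a418570bd16965666f67e1562cb) (.leaf 0))) (.node (.node (.leaf 0x1afb4a32000110b405472c760c9685771a0e950c5541e824d70a) (.leaf 0)) (.node (.leaf 0x2de81b570000298e1c3f4b8012b70512ae44123501f435124546) (.leaf 0)))))) (.node (.node (.node (.node (.node (.leaf 0x50ab061f00010129040c040b1e720570917382574731a23357bd) (.leaf 0x100625f400002fc34ee10f4208c104d3bf1e97f220a7612c72cb)) (.node (.leaf 0x41f923e3000014ba150933ff18f585338f23e3ea03602600055a) (.leaf 0))) (.node (.node (.leaf 0x4fb1154100000a691e621e611e5384320f0541f70df2406de049)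 (.leaf 0x4dd11a7d00004a612e1d4cfe1cd48432935931b763358f18b15f)) (.node (.leaf 0x71f0e0c000020a61f86443c066485f15b4e64b83be7fe33528f) (.leaf 0)))) (.node (.node (.node (.leaf 0x23e13783000005a911cd11cc0ef604355108025779118a113025) (.leaf 0x114b27c000003a25521b522408e40573eb01f3741d87077d928f)) (.node (.leaf 0x3bc647fb00001a751c8923ff16f404d6e057237454c25033524d) (.leaf 0))) (.node (.node (.leaf 0x264e282f00010f6704d329cc106505d3f77f65031c35bc41d156) (.leaf 0)) (.node (.leaf 0x3cb31418000027b14a0d19be18338471f639566c0fc147586335) (.leaf 0))))) (.node (.node (.node (.node (.leaf 0x45262f300000035f0b150b141a8304d49400450f5365811562ab) (.leaf 0x3a0410a40001349f2e30433a16c10491a338e4eb39146c428214)) (.node (.leaf 0x21651a2e0001178914602c940ea704b28b36e2133aa43d786049) (.leaf 0))) (.node (.node (.leaf 0x470b450a00010ce0244c07501ae20576916497395f51be12d537) (.leaf 0)) (.node (.leaf 0x470a412b000024161adb12291ae205563445e77203a6b812d537) (.leaf 0)))) (.node (.node (.node (.leaf 0x1455089900000803184602c40a8584b0d252f76e4c31797bd32d)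 (.leaf 0x53e447fc000140db1d993b731ed50496e068c01155b46c32d262)) (.node (.leaf 0x18d4090300001d7f251405e40c368490dc25401155118a68a262) (.leaf 0))) (.node (.node (.leaf 0xa8b3a9e0001120b2f182f1706d20575967377b44d50392ab149) (.leaf 0)) (.node (.leaf 0x47f20c0a00012b943a6b4bcf1af584512257913c6867b600055a) (.leaf 0))))))) (.node (.node (.node (.node (.node (.node (.leaf 0x12110d740000009e023802370a2484314e43a66216174004968a) (.leaf 0x620246a00002ead4e5824ff064504139b4567ed4b42406de734)) (.node (.leaf 0x2c042e320001140d143a31ce12610494801f06474f055f262156) (.leaf 0))) (.node (.node (.leaf 0x4b770a53000009cf1ceb1cea1c8684f0fa28d2f84f10d824d70a) (.leaf 0x361e03d30001476026434263162285d05726d4126ca123335786)) (.node (.leaf 0x92a1eec00001fe34374437306a30553097531a74ba15429570b) (.leaf 0)))) (.node (.node (.node (.leaf 0x14ca0c8f00010515102910280a950551307a54373c22e47bd428) (.leaf 0x483b0179000138bd51da2b5b1c23857022589213139034786049)) (.node (.leaf 0x451e119e000019b73bc60fd81a8185d1ba6f215a68e7e9156428) (.leaf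 0))) (.node (.node (.leaf 0x2ef32fc700000ec1286d286c12d78474a426c75916575b70a12d) (.leaf 0)) (.node (.leaf 0x2cb33e17000026c42622498012728475e944710c1d34b17d9156) (.leaf 0))))) (.node (.node (.node (.node (.leaf 0x37992c8c000102cf095c095b165185345d4c32d21df05d6de214) (.leaf 0x19982ef00000335d50402b840c5485148f0183871085b25be15f)) (.node (.leaf 0x1e0e2259000016d4376637650e2405d3682c85165592503337b2) (.leaf 0))) (.node (.node (.leaf 0x3b43463900010c4422e3079b16e40476b156f55d27623433328f) (.leaf 0)) (.node (.leaf 0x4479282c0000233444cb464d1a678533f753c5e24191645865fc) (.leaf 0)))) (.node (.node (.node (.leaf 0xaf608850001076d023116ad06d584d0d13603b333f020428214) (.leaf 0x267b0aa300003ef9340b122110668571011596d60f218e7b2518)) (.node (.leaf 0x50a939bf00011cbf3fd13fd01e720535846a538074170d333025) (.leaf 0))) (.node (.node (.leaf 0x51d51c870001115e2a742dc51e9584b2c64dd2800c74fa6de70a) (.leaf 0)) (.node (.leaf 0x4e4b445e00012a8425f441ac1e2405768262b0fd49323170b15f) (.leaf 0)))))) (.node (.node (.node (.node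 (.node (.leaf 0x13f44d70000101b405d905d80a7784976b02447968455f2625fc) (.leaf 0x190f4edc000130e213052cc70c4405f79167d1dc7170135fc7b2)) (.node (.leaf 0x1d5120e20001155d06ee35260ce584334208569a5a4186734025) (.leaf 0))) (.node (.node (.leaf 0x1f6449fe00010b0a1fe41fe30e470497157b12136f35626de049) (.leaf 0x483017d900004dc72fae428c1c238412534024fb1c56282cb7d9)) (.node (.leaf 0x504e098e00012189450440cd1e6505d0e663209e76809f2957bd) (.leaf 0)))) (.node (.node (.node (.leaf 0x1ee948bc0001063e136913680e370536f27750835ba2022957d9) (.leaf 0x3433029e00013ba92bbe383614c28470387c03d62fb03918b149)) (.node (.leaf 0x25cf0cdc00001b333dcf3dce105505f1387291413d83b0025000) (.leaf 0))) (.node (.node (.leaf 0x11832f270000100e2b27153808f10474934aa7a412e77a18055a) (.leaf 0)) (.node (.leaf 0x23fb0db7000128a21bca41dd0ef685715333b2a06d73c71137bd) (.leaf 0))))) (.node (.node (.node (.node (.leaf 0x57f39e9000103ef01200cc404e585f5885c21cf6cb17b786486) (.leaf 0x336a1091000035e0476e326d14870551a107750f67a3456de18b)) (.node (.leaf 0x25e243ee0001184039a0399f105704567972922d69f3d5025546)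 (.leaf 0))) (.node (.node (.leaf 0xbee41a100010d8114e225b206f505d64100b25d68e247786486) (.leaf 0)) (.node (.leaf 0x19eb1e87000124fc48173a4f0c570572fe3f800f3694cc55a7d9) (.leaf 0)))) (.node (.node (.node (.leaf 0x44993fbb0001089a19dc109c1a7185361163d5df1017c45866de) (.leaf 0x43a52b81000142c2527943671a5304b4480b93ed0a012b518621)) (.node (.leaf 0x34920d8a00001e4641a901af14d184515060d4eb391174428214) (.leaf 0))) (.node (.node (.leaf 0x26b214b8000112b705fc305210728452045f21ef51c4f4049518) (.leaf 0)) (.node (.leaf 0x21d24cd300002c9b4d47387c0eb484575d2086994f864d6217b2) (.leaf 0)))))))) (.node (.node (.node (.node (.node (.node (.node (.leaf 0x13661dfe0000005a014c014b0a6704d2ec79e3ee6a04de1245be) (.leaf 0x2f2e2f6e00012e2011da4e1612e205d49a7f16471ce4f4049518)) (.node (.leaf 0x120708d2000013b52522254f0a2404f0d60565af4f636a049113) (.leaf 0))) (.node (.node (.leaf 0x7e25c81813000109841c251c2410550512580d66aa02b1797bd000) (.leaf 0x70e22e8000046264f175338066405d37356f55d0911a233324d)) (.node (.leaf 0x2cac189a00001f7d0bfb2700127205926460810c6e84d97d9156)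 (.leaf 0)))) (.node (.node (.node (.leaf 0xc22318d000004cc0f510b2208250454c764103e01566a262295) (.leaf 0x215e4a030000380c4bd6413d0ea485d7162971202de75570b15f)) (.node (.leaf 0x70548690000195a2ee10156066404b6e86421fd40654333528f) (.leaf 0))) (.node (.node (.leaf 0x13130b9000000e6d27be27bd0a648471161c271b7eb36a7d924d) (.leaf 0)) (.node (.leaf 0x35014b610000265b243c492014e104373610f07d7a3073149537) (.leaf 0))))) (.node (.node (.node (.node (.leaf 0x51db079d00010288087c087b1e958570b168e1b452f46355a70a) (.leaf 0x120c2307000132bf33251a500a240593773595501963b17d968a)) (.node (.leaf 0x1f3021ca0001167c075a36dd0e4584135b4af31b01b781537124) (.leaf 0))) (.node (.node (.leaf 0x47d24a9900010bf203a9221b1af48457223667052c37dc12d24d) (.leaf 0)) (.node (.leaf 0x221c2c95000022c6463d461a0ec185945e1904d85c4236428262) (.leaf 0)))) (.node (.node (.node (.leaf 0x15e402d400010720040915dc0ab604904142e4eb1d955c7b2214) (.leaf 0x444c0aa600013e161b6c3abd1a640591013506ef62979054628f)) (.node (.leaf 0xf242a4600001c5d240c3f4308a304942e13f48761a6fe180335)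 (.leaf 0))) (.node (.node (.leaf 0x1e4229c00001110705632d180e260454210377032c509568a124) (.leaf 0)) (.node (.leaf 0x2d824b6900012a091e324bdb12b20457362e330c163707049000) (.leaf 0)))))) (.node (.node (.node (.node (.node (.leaf 0xd1b3fa70001016e04f304f208648576105c076a5e94b104924d) (.leaf 0x1d814292000130523dc84f200cf10436570aa09e4b70c22957bd)) (.node (.leaf 0x1e24ff00000150d34910ce304770457a906e2e92e532a7345be) (.leaf 0))) (.node (.node (.leaf 0x2d002fa500000ab904731f2112a204149f2ff7576417407d9586) (.leaf 0x6c8316600004c044bff207c06560514c43c07b410671324d295)) (.node (.leaf 0x4f2f3a030001211d141a44a31e4305f58a25838452e58055a7d9) (.leaf 0)))) (.node (.node (.node (.leaf 0x52a848e0000005f3129e129d1eb30516f502109d7bf0c22957d9) (.leaf 0x4b58151f00013ada24323a261c8585120b7931b93774fa6de70a)) (.node (.leaf 0x402b302800001ad53d5a370c18a20574ac5ba2d236e7dc546734) (.leaf 0))) (.node (.node (.leaf 0x4b70201f00000fbd218a0afb1c868413297e01b972937928f70a) (.leaf 0)) (.node (.leaf 0x463b504f0000282930454a8f1aa28577b07177ff40258b12d734)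 (.leaf 0))))) (.node (.node (.node (.node (.leaf 0x2d5a4052000003a80bef0bee12a685562018d3123cf2f17b2000) (.leaf 0x1e01b0c45f700013540198043540ca10596ab39110428b43d2cb41d)) (.node (.leaf 0x471399f000017e63913391204c584357f7e16807193cb428734) (.leaf 0))) (.node (.node (.leaf 0x4f151c5a00000d2f23e924f91e4184b2c34af31b39a6f8537262) (.leaf 0)) (.node (.leaf 0x3b00b0f000024872649084904b38411097ca67519a265149621) (.leaf 0)))) (.node (.node (.node (.leaf 0x12e013ad0000084d191219110a370411ed78a7a244a27a41d333) (.leaf 0x275a40da000141cc3d514bc410a685562e5c96aa4534987b2586)) (.node (.leaf 0x43c315b500011dde203737fc1a5504721a3687f20937e9156786) (.leaf 0))) (.node (.node (.leaf 0x17c00bc5000012652ee92fae0af404111b3bc37454c30d7d924d) (.leaf 0)) (.node (.leaf 0x184e1dd600012c154bfb2be70c2605d2e619a4d874528768a124) (.leaf 0))))))) (.node (.node (.node (.node (.node (.node (.leaf 0x3aab026d000000e30323032216d20570356e30192962982ab149) (.leaf 0xab7509500012f344cd22ca706d384f7ba2f65a30e148c428335)) (.node (.leaf 0x29530f270000145d0bb5335d10e584717541b5030c7314124518)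 (.leaf 0))) (.node (.node (.leaf 0x175542c800010a1b030e1da90ae484b65b3bf52532430d04924d) (.leaf 0x1bcd47dc000148b625cc43b80cb405b6dc49c51677944b62115f)) (.node (.leaf 0x229b421d0000203e425f04080ed18576496966a9342390428124) (.leaf 0)))) (.node (.node (.node (.leaf 0x175427a70001055d018f10f50ae48493e849373306a3b104924d) (.leaf 0xf622c160000396c51ee2ae908a604545333711e58c49815f734)) (.node (.leaf 0x407b165000001a1c3c4d2dad18a785722a0015a3155118586333) (.leaf 0))) (.node (.node (.leaf 0x4e4747ed00010f13292229211e2404f6df7b04ca1c222170b7b2) (.leaf 0)) (.node (.leaf 0x93c3c7b0000273d49dc353706a38595c94e01e249408a29570b) (.leaf 0))))) (.node (.node (.node (.node (.leaf 0x4fd4060b000003170a380a371e548490904ec14a3bc05e5be7b2) (.leaf 0x9fa2e2400003405409d4b0306b785547e23c5081db416734621)) (.node (.leaf 0x49f74a530000172c356401331c5684f71e44959b2741e824d180) (.leaf 0))) (.node (.node (.leaf 0x2feb165e00000c932398239712f605722a7306275025a715f156) (.leaf 0)) (.node (.leaf 0x1b54080e0000239d46ff38b10ca48490bc77d12035007570b7b2)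 (.leaf 0)))) (.node (.node (.node (.leaf 0x118225f6000107b517750d4408f10453bf24513c1c178b18055a) (.leaf 0x40d20f7a00003ffb3c884eec18b48451874f35d30a71be546113)) (.node (.leaf 0xbf1076f00001d1c40440f1906f58430ad80007e38d21c2cb537) (.leaf 0))) (.node (.node (.leaf 0x57242f1000011b12e6b2e6a04e584566000b25d71e347786537) (.leaf 0)) (.node (.leaf 0x4ba710a800012b0626314c681c9204f1a351428022e0435be2c7) (.leaf 0)))))) (.node (.node (.node (.node (.node (.leaf 0x3c4d436d000101fa06b906b8182405b66d6f35506c93e612d68a) (.leaf 0x4e10682000131774fa14fa004d504309a0925156320cc32d214)) (.node (.leaf 0x38622333000115c0071635c1166704537c12c28e7a60342cb5fc) (.leaf 0))) (.node (.node (.leaf 0x50d74dda00010b550a7220a21e7584f7746ca2a03ec2b6295025) (.leaf 0x3c76449d00005048521d53fc182584d6865d83581d47b6586295)) (.node (.leaf 0x1e1f30a5000121ed435d45720e2485f4b726d16c2de12333515f) (.leaf 0)))) (.node (.node (.node (.leaf 0xe443b8300000688143b143a08850495ad0dd0c128a50602532d) (.leaf 0x521a056200003c6f429c51d41ea18550790d5072271195734180))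 (.node (.leaf 0x3f94459700011b93123d3e4b18918496a23c41e0793268156428) (.leaf 0))) (.node (.node (.leaf 0x36ba1a420001105e13402bd3163385528d1fc6025a0195734621) (.leaf 0)) (.node (.leaf 0x23d91d4800012918104b32090ef58532d64f701270c5ae214025) (.leaf 0))))) (.node (.node (.node (.node (.leaf 0xddc0f9e00010437033d0da208768591897ba3a81903c115f537) (.leaf 0x4e783e950000368a3772210d1e258515f339d30f79e62878641d)) (.node (.leaf 0x2433b80000018a43a2b3a2a04860475ad0680c10547d628f32d) (.leaf 0))) (.node (.node (.leaf 0x4d41194e00000dd02660265f1cc404327577314b3b251d2ab7b2) (.leaf 0)) (.node (.leaf 0x1bb348c40000256a486c486b0cb28476f329731b62a6cd70b262) (.leaf 0)))) (.node (.node (.node (.leaf 0x7fb29d4000108e502aa025106778574222c97ac1fb0b07345fc) (.leaf 0x183c0d32000043d14b6e53930c258591400850ea10a186734180)) (.node (.leaf 0x197b49a700001eae421b421a0c4785770c45f3a432f46355a049) (.leaf 0))) (.node (.node (.leaf 0x36b839820000130c3075301f163385157e30e2a609c63521470b) (.leaf 0)) (.node (.leaf 0x1ac120a00012d1233524d8d04750591c328647f00908a295486)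 (.leaf 0)))))))))

/-- part of a table -/
def entries47 : Trie := (.node (.node (.node (.node (.node (.node (.node (.node (.leaf 0x2a50295500000018005d005c12268414132cf6fa7ce29415f586) (.leaf 0x3377179d00002d954dca2c1a148784f24c4bf4ef02e17f55a2ab)) (.node (.leaf 0x4dda184100011363063a31981cd485525c0912a43b50392ab7b2) (.leaf 0))) (.node (.node (.leaf 0x4ecf2374000109321b621b611e3405f3831616b777e2216217b2) (.leaf 0x33b33dd9000144f73e8f1ec914938475e55d678561f66e5372ab)) (.node (.leaf 0x16e50ba00011f0e413120c8046705d7be5f67ac3be54a7345be) (.leaf 0)))) (.node (.node (.node (.leaf 0x22c640ae00010480014b0e780ed404d62a6e35167122982ab7b2) (.leaf 0x402335e40001375047e74e2e18a20475301363b34441e4546734)) (.node (.leaf 0x2d3829f6000119003ab43ab312a385142730775934b1d241d546) (.leaf 0))) (.node (.node (.leaf 0x246e439d00000e2027152714102705d6715aa6f93705ff41d12d) (.leaf 0)) (.node (.leaf 0x4b0814e9000025e048c133841c8105120839c1b969e69c53770a) (.leaf 0))))) (.node (.node (.node (.node (.leaf 0xb008540000024207a0079f04558410c723868020b4fa55a734)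 (.leaf 0x36694dbe0001321c4fe04fdf16270537717225b17382d7149621)) (.node (.leaf 0x1e4049f5000116190e8936490e2604171531327f7b318a113262) (.leaf 0))) (.node (.node (.leaf 0x2a3b52b000000ba82165216412238577ea02b3650be38c26212d) (.leaf 0)) (.node (.leaf 0x4a47526c0001225a242c45cc1c6504f7e16063d348a2b6295025) (.leaf 0)))) (.node (.node (.node (.leaf 0x3f383cdc000006d4150d0c9818838515d15e07481ad79f1562ab) (.leaf 0x2b6c445900013d3536bc3ea512470596824431941f824b7bd12d)) (.node (.leaf 0x243c09be00011bf50c6e3ec810238590e96e75566bc55f262546) (.leaf 0))) (.node (.node (.leaf 0x36235142000110b52b242c7716230477c81035b14ba60021470b) (.leaf 0)) (.node (.leaf 0x16c64f200000298f4b8127f70ad504d79618972b59e30470a2cb) (.leaf 0)))))) (.node (.node (.node (.node (.node (.leaf 0x403c0b230000012a040e040d18a285910b2ee7ed18729112d214) (.leaf 0x4527290200002fc43c794ee21a8304f40b1696074fe67e1562ab)) (.node (.leaf 0x227e4a0e000114ba247f34000ec785d7167de00f55939032d049) (.leaf 0))) (.node (.node (.leaf 0x29b92ba500010a691267019e10f285344a2b77587a54d97d9156)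 (.leaf 0x319601fb00004a6230e14e15145184d02d66d5762905806de734)) (.node (.leaf 0x30a52b83000120a6297022d9143304b4481b55b14ba5b421470b) (.leaf 0)))) (.node (.node (.node (.leaf 0x8ec0144000005aa044b11ce069705901c12e2ea56d7814862ab) (.leaf 0x18f3083700003a262d9f17180c378470c059e3a450426a295049)) (.node (.leaf 0x9f50d1800011a7508d83cd206b784b13d4d53ed1dd1cd214621) (.leaf 0))) (.node (.node (.leaf 0x377f199900000f6829ce29cd164685f27c3e37bc0944a324d295) (.leaf 0)) (.node (.leaf 0x3a181800000127b113d03ddc16c18512560302d219262f428214) (.leaf 0))))) (.node (.node (.node (.node (.leaf 0x3acd16540001035f00f30b1616d405b22a2045f715551d18b68a) (.leaf 0x14182fdc000034a050b208c30a818514a569349044e7147bd428)) (.node (.leaf 0x87f30050000178a0a860f1d068785f4aa16b68b11564f4862ab) (.leaf 0))) (.node (.node (.leaf 0x1870a1900010ce103f9244d047404f0f24603567704a833324d) (.leaf 0)) (.node (.leaf 0x16d432547c70001241733d53e0e1a4304b6db3816755c514d51870b) (.leaf 0)))) (.node (.node (.node (.leaf 0x49cb33a700010803184818471c540574fc4456b77fb12a5be15f)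 (.leaf 0x3c7c445c000140dd2d1f534518258596825c47b45e4048000149)) (.node (.leaf 0x381f293200011d7f40bb115f166185f40f04047f1c625a2cb537) (.leaf 0))) (.node (.node (.leaf 0x300840240001120c05cf2f19142205161c1f124862e50a3332cb) (.leaf 0)) (.node (.leaf 0x8be3b0700012b95148b23ca069385d59f3481bc43208255a18b) (.leaf 0))))))) (.node (.node (.node (.node (.node (.node (.leaf 0x3d8d52db0001009e023a0239185105b7ec4b265666f3da1562cb) (.leaf 0x25e7482c00012eaf4e5a4e59105704f6e44e56bd7f135f02512d)) (.node (.leaf 0xa046800000140e1d8224e604550416bf0543b300b2b56de214) (.leaf 0))) (.node (.node (.leaf 0xb44535e000109cf1cc9024006e40497f778466663a56e62128f) (.leaf 0x38a041730000476153c907be167204163e1621b864e23f70b55a)) (.node (.leaf 0x417c064600001fe435ba3d0018e58590944330d036f7b500055a) (.leaf 0)))) (.node (.node (.node (.leaf 0x1d53186400000516102b102a0ce58472604363d36eb1952147bd) (.leaf 0x46e72de5000138be211745c61ab704f4773157a22564e2000333)) (.node (.leaf 0x4dc03372000119b73bc728fd1cd40414f716808162422618b7b2) (.leaf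 0))) (.node (.node (.leaf 0x1af53fec00010ec10498286e0c9684b61661b27d0d95cb28f70a) (.leaf 0)) (.node (.leaf 0x3fbf3de4000126c423554981189385f5e62e61bc4324a151818b) (.leaf 0))))) (.node (.node (.node (.node (.leaf 0x4d2647b1000002d008e2095d1cc304d6da10100f59f17432d049) (.leaf 0x503742340001335d47f245e91e6284f64b28114f26c1a23357bd)) (.node (.leaf 0x508128c4000116d42b4237671e710434061ac3803ec1cd734025) (.leaf 0))) (.node (.node (.leaf 0x26851c1100000c4522e40420107104b2be0ad5c651c0b2262518) (.leaf 0)) (.node (.leaf 0x7234d060001233543623440066504776024a4b3512545295537) (.leaf 0)))) (.node (.node (.node (.leaf 0x12d2091c0000076e16af16ae0a368450dd75a2d22962d87b2734) (.leaf 0x46b910ec00013efb1c2130501ab28531a97796cc57717a546214)) (.node (.leaf 0x2e4712f700011cc009bf3fd212c504f1d96106fa27b5132c7586) (.leaf 0))) (.node (.node (.leaf 0x43cc14950000115f2dc72dc61a550592003ac7fa1b579f518786) (.leaf 0)) (.node (.leaf 0x131922e900002a851bb14c2c0a6485337361e52573732e04928f) (.leaf 0)))))) (.node (.node (.node (.node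 (.node (.leaf 0x46e30a52000001b505db05da1ab70470fa2244233c37b7000335) (.leaf 0x508839b1000130e31e194f611e7105158405338031e5ae734025)) (.node (.leaf 0x76348650000155e3528352706670476e829b5217eb6002145fc) (.leaf 0))) (.node (.node (.leaf 0x4cce3bd400000b0b1fe61fe51cb405d5b81f514b5961a23337b2) (.leaf 0x1302486f00004dcd521551d50a640456e87f11fd5db34d04928f)) (.node (.leaf 0x34a210ac0000218a4506450514d20451a36a07bc47734a2ab149) (.leaf 0)))) (.node (.node (.node (.leaf 0x1fa948b20000063f136b136a0e550536f228c4106b06be486124) (.leaf 0xb0f2c3200003baa431840db06e205f45522b65a4fc6cd70b6de)) (.node (.leaf 0x21d0d0e00011b333c033dd0048285b13b8024902104045fc32d) (.leaf 0))) (.node (.node (.leaf 0x1975263f0001100e117e2b280c4784b3c477b14c0b85626de049) (.leaf 0)) (.node (.leaf 0x34dd3245000028a43f3c390914d485b4db2736e237561d18b113) (.leaf 0))))) (.node (.node (.node (.node (.leaf 0x22db1f31000103f00cc60cc50ed48573150912a435e0392ab7b2) (.leaf 0x42cc3717000135e1452d4af21a340595484a00f705217a54668a)) (.node (.leaf 0x4c393cd60000184134ed39a11ca38535d12aa3a444f0c22957d9)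 (.leaf 0))) (.node (.node (.leaf 0x2c939e100000d8225b425b304960535880744376cb5cb24d32d) (.leaf 0)) (.node (.leaf 0x4a3e1ebf000124fd25b21a011c6285d3057e5012794234333025) (.leaf 0)))) (.node (.node (.node (.leaf 0x230a48f30001089b19de19dd0ee10556f61a109e6632b6295025) (.leaf 0x366c283b000142c42e174a2916270593f846d77c6a220314970b)) (.node (.leaf 0x2d5b20c800011e4629f441aa12a685733d52e45a13f30a7b2000) (.leaf 0))) (.node (.node (.leaf 0xf1325d6000012b81987305308a18473bc2747b4102314124149) (.leaf 0)) (.node (.leaf 0x4adc287f00012c9b49f32ec71c758593ff7ca1ca2ec265149025) (.leaf 0)))))))) (.node (.node (.node (.node (.node (.node (.node (.leaf 0x37ad1b000001005a014e014d165305b2a50ed7a25e533e486335) (.leaf 0x804241b00002e2144cc447e068204939456d0c14fd4045be32d)) (.node (.leaf 0x351f1c94000013b63237323614e185f2c818f3985482b6149486) (.leaf 0))) (.node (.node (.leaf 0x35171133000009851c2611b614e184f1af33d68d5d204b149486) (.leaf 0x4976315e000046293182517a1c4684d4c365f0ea2c40cf24d41d)) (.node (.leaf 0x45b1097e00011f7d42fc42fb1a938430e57151bc41a15d51818b)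 (.leaf 0)))) (.node (.node (.node (.leaf 0x490c0b80000104cc0f530f521c4105911506d2e13d20ba537262) (.leaf 0x1f1249f2c8e0001380d4ef1509a103285f45d5f21417e334d049000)) (.node (.leaf 0x36ae29820001195a3b3d0c52163305d41a02f4f253460021470b) (.leaf 0))) (.node (.node (.leaf 0x370f402100010e6e27c027bf164105f61c1384eb2920ff55a734) (.leaf 0)) (.node (.leaf 0x27690d900001265b16a8092e10a705315115e6f940c5c712412d) (.leaf 0))))) (.node (.node (.node (.node (.leaf 0x369934400000028905b7087d163285350b05269229224e3352cb) (.leaf 0x234a0dbb000032c04fbb21c00ee50551534e429f3ad54a214025)) (.node (.leaf 0x26a90f690000167d3172338a107205318460932731e740049156) (.leaf 0))) (.node (.node (.leaf 0x3af83c4200000bf3221d221c16d78515c20923e44910cc32d335) (.leaf 0)) (.node (.leaf 0xdc84e5b000122c621e1359f087605177f5672222dc3c17b2537) (.leaf 0)))) (.node (.node (.node (.leaf 0x25f39e70000072115de15dd048685f5883e34903854a324d428) (.leaf 0x8c2280f00003e17434e0f5d06960453f37f575c77b0d828f428)) (.node (.leaf 0x262e4900011c5d1adc3f44044504d4815487ff1a83456de214)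 (.leaf 0))) (.node (.node (.leaf 0x2c8a29700000110816392d19127105541902b5dc11638c262156) (.leaf 0)) (.node (.leaf 0x1c394ba500002a0a2f2d4bdc0cc285373c29d6dd74f5b72ab41d) (.leaf 0)))))) (.node (.node (.node (.node (.node (.leaf 0x3a4d3e7a0000016f04f504f416c405b5f149955023a4502ab68a) (.leaf 0x12eb3eef000130544f224f210a370575fd80866c784417180335)) (.node (.leaf 0x1f2b1cc40000150e349334920e450572cc1ae6a969d64f537124) (.leaf 0))) (.node (.node (.leaf 0x45be3cd700000aba1ebc1f221a9385d5d13688072a57db15618b) (.leaf 0x37a32b8b00004c0843a124c116530474484924872173ef537335)) (.node (.leaf 0x453b36e20000211e44a43b151a838575421696077c84a115618b) (.leaf 0)))) (.node (.node (.node (.leaf 0x45fd1aba000005f412a0129f1a9785b29a4211bc63a1785182ab) (.leaf 0x29a6373d00003ade4f392c9b10f204d54b6855c65337077d9156)) (.node (.leaf 0x28432d5000011ad529303d5b10c504746d0a13340b51cc2c7586) (.leaf 0))) (.node (.node (.leaf 0xb4353f600010fbd2a7b2a7a06e40478093263748022f070b28f) (.leaf 0)) (.node (.leaf 0x28c30167000128290e9e30fb10d504702148a35d7d476170a586)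 (.leaf 0))))) (.node (.node (.node (.node (.leaf 0xece346d000103a80bf10bf0089505d50e7291e06cb3b002532d) (.leaf 0x1cb943de0000354250e547950cd28536764062f231558f18b180)) (.node (.leaf 0x2a484db6000117e63915391412260517713323511303867b2586) (.leaf 0))) (.node (.node (.leaf 0x4189258700010d2f24fb24fa18f20533b44f807e57b41f12d537) (.leaf 0)) (.node (.leaf 0x123533f9000124870cfd47c50a2584b50242b7bc35c55f124149) (.leaf 0)))) (.node (.node (.node (.leaf 0x379b084a0001084d0277191316518570c668e6cc7754cc55a734) (.leaf 0x33320e3a000041ce46cc2103148384516038850f3c066453718b)) (.node (.leaf 0x53dc3e0900011de0412f0a3a1ed48595e85931b75b622618b7b2) (.leaf 0))) (.node (.node (.leaf 0x43fd0721000112652fb02faf1a5785b0a80b93ed1dd12b518621) (.leaf 0)) (.node (.leaf 0x145941a700012c16421738510a8585364144315a78724b7bd428) (.leaf 0))))))) (.node (.node (.node (.node (.node (.node (.leaf 0x52f42f4c000100e3032503241eb68494965c519140703f68a124) (.leaf 0x1ae250b39df00012f3514fd2c5010410575877d530009a3d57bd586)) (.node (.leaf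 0x86026ac0001145d335f335e06870413cf6543171106be4862ab) (.leaf 0))) (.node (.node (.leaf 0xe62e6c00000a1c1dab1daa045704d4836873f51a966e486335) (.leaf 0x13680e05000148c0536442d40a6705115b2717ac16d0b22625be)) (.node (.leaf 0xddf13320001203e43d62acb087685f1de1eb1cf34f5a77b2486) (.leaf 0)))) (.node (.node (.node (.leaf 0xe72b310000055e10f710f6045704f4430364254383ef486335) (.leaf 0x254a23800001396c51fa2e22104505538500e6aa6943d57bd586)) (.node (.leaf 0x16fc09e300011a1d3c4e1c1c0ad78590ee0f236173d1112c7621) (.leaf 0))) (.node (.node (.leaf 0x2415130100000f142923091a102284b1da1656aa39a7407d9586) (.leaf 0)) (.node (.leaf 0x53874e610000273f49de49dd1ed204f78016d78858808e2ab41d) (.leaf 0))))) (.node (.node (.node (.node (.leaf 0x40ac3568000003180a3a0a3918b20595273aa11e39741f12d734) (.leaf 0x39ae02820000340644af351d169305d0370462cd65f34053718b)) (.node (.leaf 0xb144b310001172c2b3d37f706e28497311425bf21a0756216de) (.leaf 0))) (.node (.node (.leaf 0x14fe52ec00010c93239a23990a9785d7ee5332ea4c26b47bd18b) (.leaf 0))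 (.node (.leaf 0x504b19d60001239d470039071e6505728529a0ec1172b6295025) (.leaf 0)))) (.node (.node (.node (.leaf 0x5dd269a000007b61777177604f485b3cd5de76a6a66b562124d) (.leaf 0x2473449400013ffc28f53c67102784768627b6bd61e78b180546)) (.node (.leaf 0x24f9237300011d1c09e4404510378533830d155677e27018012d) (.leaf 0))) (.node (.node (.leaf 0x4ffa2ca0000011b22e6d2e6c1e5685545f02210442b0cf24d41d) (.leaf 0)) (.node (.leaf 0x29621aeb00002b074c6a4c6910e60452a16ce5036bf49815f518) (.leaf 0)))))) (.node (.node (.node (.node (.node (.leaf 0x199f4d8a000001fb06bb06ba0c5485f76c54c69945e0435fc15f) (.leaf 0x14dc2e22000031784fa22a010a9585947e08c0cd4c824b025428)) (.node (.leaf 0x4ed3060f000015c1251735c21e348470906a414a35964d6217b2) (.leaf 0))) (.node (.node (.leaf 0x2a992c8800010b5620a420a3123285345d3bf45a76569b049586) (.leaf 0x3be81b510001504f337c3e5a16f60512ae07623768740a11355a)) (.node (.leaf 0x41cd4055000021ee413f146318f405b62035e3564bc79012d28f) (.leaf 0)))) (.node (.node (.node (.leaf 0x494a23460001068809fb143c1c4405537d2e24ca1656c55fc15f)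 (.leaf 0x41e6426700013c6f1a2f474918f504d6506b06a349247c5866de)) (.node (.leaf 0x9ee1c6900001b9409f63e4c06b705d2c45642a64600b021470b) (.leaf 0))) (.node (.node (.leaf 0x1fde4d190000105f2bd52bd40e5685d7625361045d869524d180) (.leaf 0)) (.node (.leaf 0xae642c40000291944ab4b3306d504d65b1c668071948c428734) (.leaf 0))))) (.node (.node (.node (.node (.leaf 0x4b6b39f4000004380da40da31c860575892d12115414ea28f2c7) (.leaf 0x47c747f20000368e31f60d291af404f6e01083746696b812d24d)) (.node (.leaf 0xfde09f7000018a537d93a2c08b485d0ef4550f03a070704968a) (.leaf 0))) (.node (.node (.leaf 0x28bc36ef00000dd126610cf010d385954276b22d59d1452c7546) (.leaf 0)) (.node (.leaf 0x730127c0001256a0fda32df06658411d066507e225073295537) (.leaf 0)))) (.node (.node (.node (.leaf 0x3b034700000008e61a9812cc16e10476c904c3a87d726a295537) (.leaf 0x44012e3c000143d152ae53941a6104348065879b3a513e5866de)) (.node (.leaf 0x3a340d8c00001eaf421c06d616c28491507787bc4775b72ab149) (.leaf 0))) (.node (.node (.leaf 0x40940d810001130c16ee0f7418b18491500bc08b2c67b5000295)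 (.leaf 0)) (.node (.leaf 0x11df503c00012d134a944d8e08f485f7af62452544570704928f) (.leaf 0)))))))))

/-- part of a table -/
def entries48 : Trie := (.node (.node (.node (.node (.node (.node (.node (.node (.leaf 0xe8425f700010018005f005e08910493bf39b4370a50db7bd428) (.leaf 0x13fe3f9c00002d984dcb3c190a7785d60f58825f0653141245be)) (.node (.leaf 0x1677280300001364319900f60ac784f3f331e3767e575b2c7621) (.leaf 0))) (.node (.node (.leaf 0x3dd24286000009341b641b6318558456543e12c26505815182cb) (.leaf 0x23d524a1000044fa44f341390ef584b3a11022a03635b42147bd)) (.node (.leaf 0x34f849bd00001f0f1b7d429414d785170e77416e4ac23632d333) (.leaf 0)))) (.node (.node (.node (.leaf 0x1d50a11000004810e7a0e79047684b0f20a007a73203f68a6de) (.leaf 0x1b394ba400003753414816c40ca285373c1fe5a267009770b262)) (.node (.leaf 0x11a24677000019011f60187908f30456bc2740f420d3141245be) (.leaf 0))) (.node (.node (.leaf 0x1a08334f00010e20271727160c810514f371e67850d4a655a70a) (.leaf 0)) (.node (.leaf 0x3a72683000025e148c348c204b304f3ca29277c5e604b149621)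 (.leaf 0))))) (.node (.node (.node (.node (.leaf 0x2a190b5f0001024200a007a112228531107a835146965e049586) (.leaf 0x1f7b45810000321d4dd21cba0e478576a10771f72ee0ff6de7d9)) (.node (.leaf 0x2d52125d0000161a20a9364a12a68451c975a45a7f72d87b2000) (.leaf 0))) (.node (.node (.leaf 0x4b85196400010ba8216721661c9104b2771f42414e96f853770a) (.leaf 0)) (.node (.leaf 0xb131740000225b45ce45cd04558434c63e501d0994a655a734) (.leaf 0)))) (.node (.node (.node (.leaf 0x3a430e83000106d40202150e16c40471671d50f723b52018b68a) (.leaf 0x42cb1de500013d364e311bcb1a340572e845e5506c958b12d68a)) (.node (.leaf 0x1f691f0400001bf63a8d06520e470533104564fb5ba2b56de7d9) (.leaf 0))) (.node (.node (.leaf 0x29e927f1000110b62c78218110f60533f20be75864a3867b2156) (.leaf 0)) (.node (.leaf 0x45913577000029903d4f396c1a918435284214373db17851832d) (.leaf 0)))))) (.node (.node (.node (.node (.node (.leaf 0x2e4504420001012a0410040f12c504b0633b73303e814570a000) (.leaf 0x3acc367300012fc4126e356f16d405953b34942d1a36ba18b68a)) (.node (.leaf 0x31581fcc000114bb06b43401144485132172f6627381b15fc68a)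 (.leaf 0))) (.node (.node (.leaf 0x15e326e200000a6a1e641e630ab60473d712f45766f30a15f214) (.leaf 0x4c9113cc00014a63516053bb1cb18431f16fb59b274750734180)) (.node (.leaf 0x10ce0239000120a73215443d08d505d03160f57153175b70a786) (.leaf 0)))) (.node (.node (.node (.leaf 0x42d11ec2000105aa11d011cf1a348433060b85a91ba17a54668a) (.leaf 0x184d460800013a27461c432f0c2605b6ac49431932c18a113262)) (.node (.leaf 0x1eb337b600001a763cd3286a0e358475541d46c35c44c573441d) (.leaf 0))) (.node (.node (.leaf 0x1ba949ea00010f6808da29cf0cb20537125447037cf23f621262) (.leaf 0)) (.node (.leaf 0x374f2108000127b233d24a36164405f34850b5505290135fc113) (.leaf 0))))) (.node (.node (.node (.node (.leaf 0x4cf20b4c000003600b180b171cb684510f5d12e13d2392113262) (.leaf 0x198e2ef2000134a0483b0c560c5405d48f05707f37a2fa5be7b2)) (.node (.leaf 0x3cc34e210001178a387e0c73183404777b1365af7361e454668a) (.leaf 0))) (.node (.node (.leaf 0x423b09bc00000ce21cb9244e1a238570e96704231c43bd000335) (.leaf 0)) (.node (.leaf 0x523100da00002418477347721ea38430144e04d412f08a295049)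 (.leaf 0)))) (.node (.node (.node (.leaf 0x3915413f00010804184a1849168284b6388024902194045fc32d) (.leaf 0x28d33898000140de44b24fc310d584756960f6ee40776170a586)) (.node (.leaf 0xbe1502600001d8040bd40bc06f50437ad4027397fd1ea2cb486) (.leaf 0))) (.node (.node (.leaf 0x33c800fe0000120d208a1d3914960510166db0cd3f63de24d32d) (.leaf 0)) (.node (.leaf 0x240a375d00012b9649be2ae3102205554d68570809a4f47d9586) (.leaf 0))))))) (.node (.node (.node (.node (.node (.node (.leaf 0x3b9814000000009f023c023b16f18511f50447114e70c2149537) (.leaf 0x1ba1440100012eb24e1e34890cb204367b1250da2d6097621262)) (.node (.leaf 0x241814340001140e32c332c210228511f92b77083cd36b7d9000) (.leaf 0))) (.node (.node (.leaf 0x155a2c27000009d0193a078f0aa48554544595a97004f47d9113) (.leaf 0x1cc1454f0001476424084ae60cd404369d7a66b72fc6ba18b7b2)) (.node (.leaf 0x12f632e400001fe540dc43750a3784d4e942476402830841d335) (.leaf 0)))) (.node (.node (.node (.leaf 0x446e098b00010516102c02fb1a6705d0e657847973747c0005be) (.leaf 0x1f749020783000038bf51d34f071c410450af16b4d8041227486262))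 (.node (.leaf 0x38dd1232000019b80fd43bc8167485b1c62527333a36b570b24d) (.leaf 0))) (.node (.node (.leaf 0x11625a400000ec22870286f046484d3b721652561112333328f) (.leaf 0)) (.node (.leaf 0x155f168b000126c6497240bb0aa485f22f5d45d34607477d968a) (.leaf 0))))) (.node (.node (.node (.node (.leaf 0x296e4bc3000102d000ca095e10e605d73e3370b315730a15f156) (.leaf 0x380e28b10000335e4c9e1fc4166105d4051a87393ff40d2cb486)) (.node (.leaf 0x4410fe000016d53769376804460491aa61f78f1677f824d295) (.leaf 0))) (.node (.node (.leaf 0x333f161700010c4522e622e5148385f2233836b31ad3ef5372ab) (.leaf 0)) (.node (.leaf 0x2bb54a8800002337469d469c125384b7214c768973b50602512d) (.leaf 0)))) (.node (.node (.node (.leaf 0x259a1dab0001076e16b116b010518552e269e334407777025586) (.leaf 0x488d025500003efd3f4f20931c3205b0331500da8096b5621124)) (.node (.leaf 0x1622387f00001cc12ba23fd30ac30455677ab5b141e4d62c770b) (.leaf 0))) (.node (.node (.leaf 0x11da2698000011600dcf2dc808f48553cd5c076a1da4b104924d) (.leaf 0)) (.node (.leaf 0x3da5256b00012a8547a733d4185304b3af6d75ea00879f15670b)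 (.leaf 0)))))) (.node (.node (.node (.node (.node (.leaf 0xaf05359000101b505dd05dc06d58417f75983534ab0cc32d214) (.leaf 0x2791413e000030e4276d4f6210b28436387fb33458832e7d9000)) (.node (.leaf 0x42ae29880001155e0ca528ed1a3305d41a22442333b118000333) (.leaf 0))) (.node (.node (.leaf 0x1d58354500010b0b0a251fe70ce585152409b69a00432b734025) (.leaf 0x47e216b600004dd23fd353f71af50452332d67e81f47b70006de)) (.node (.leaf 0x4c7c3f0d0001218a450732f41ca68596015e57032ac49768a124) (.leaf 0)))) (.node (.node (.node (.leaf 0x44b40e970001063f136c0f3f1a728491683a76cf6ff291546486) (.leaf 0x192b252100013bab47094d270c450573ab19e41010a66e486262)) (.node (.leaf 0x21613b9c00011b3409203dd10ea70435b02bb3a43a221c7867d9) (.leaf 0))) (.node (.node (.leaf 0x456138920000100f2b2a2b291a870435693816b30571785182ab) (.leaf 0)) (.node (.leaf 0x95e3007000128a44adf355c06a685d4aa1e74cf531613113786) (.leaf 0))))) (.node (.node (.node (.node (.leaf 0xbc650a2000003f10cc80cc706f404d7bb10b55d61c6cd62124d) (.leaf 0x4bf619a2000135e23df8321d1c9684d27e0e950c5237d624d2c7))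 (.node (.leaf 0x2f400e8500011841375e39a212e50411673395ab22e0b2262518) (.leaf 0))) (.node (.node (.leaf 0x485711e800010d8225b625b51c2484f1c14ac16c57a75562115f) (.leaf 0)) (.node (.leaf 0x46281a99000024fe13ef48181aa20512975ef68022a41f546734) (.leaf 0)))) (.node (.node (.node (.leaf 0x3714388d0000089c19e019df16418495685f53537d04a655a734) (.leaf 0x38d81634000142c6218e37cc167485122523a63708656e70b28f)) (.node (.leaf 0x5131e9100011e472c7e41ab04e28472ff12679b56122162155a) (.leaf 0))) (.node (.node (.leaf 0x1f2407e5000112b80ae030540e450490b921a0da3426be486124) (.leaf 0)) (.node (.leaf 0x1e7707ec00002c9c1c6411090e2784f0b9601089320545149049) (.leaf 0)))))))) (.node (.node (.node (.node (.node (.node (.node (.leaf 0x2838137e0000005b0150014f10c38511e775165551e61970a12d) (.leaf 0x415047f600002e224d2e4e1718e48416e034370545d1a412d28f)) (.node (.leaf 0x49a24047000013b71de81db01c5304561f32169771058055a7d9) (.leaf 0))) (.node (.node (.leaf 0x2d6e23ef000109851c281c2712a705d38f801636249242124546) (.leaf 0x499f344a0000462b3c8a52ee1c5185f50b5d631b01c664537124))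 (.node (.leaf 0x12bd00b100011f7e3ffb42fd0a3585b00e02403e39d74d262295) (.leaf 0)))) (.node (.node (.node (.leaf 0x83616000004cd0f550f5404440515333b90f74914045be113) (.leaf 0x1f2268b36060001380f4e6b402810710575323715033c666a124518)) (.node (.leaf 0x2f6424830001195b176d2fe012e604939d3326122463867b2156) (.leaf 0))) (.node (.node (.leaf 0x189133900000e6f27c227c104740531de5286ef79250a33524d) (.leaf 0)) (.node (.leaf 0x3ef33abd0000265c49211b5318778475985243ee04f1475865fc) (.leaf 0))))) (.node (.node (.node (.node (.leaf 0x4c97459600010289087f087e1cb184f6a22c11827ce32a214180) (.leaf 0x44e739cd000132c0140c47171a7704f58567007c3053bd0005fc)) (.node (.leaf 0x3f350e390001167d319c292f188384b16035a50f5a63da15618b) (.leaf 0))) (.node (.node (.leaf 0xffc27ce00010bf3221f221e08b68593eb78c01d0aa55c15f214) (.leaf 0)) (.node (.leaf 0x16460883000122c725d0463e0ac504d0d131e2c24ab75b2c7786) (.leaf 0)))) (.node (.node (.node (.leaf 0x15d30bbc0000072215df04120ab48471195d45d303c36a7d9113) (.leaf 0x222205a00003e1951b952dc04830453323db27920d4cc6de18b))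 (.node (.leaf 0x27352cc000001c5e3f463f4510a384b46104139e6bc1d241d546) (.leaf 0))) (.node (.node (.leaf 0x39b12cc6000111081dfd2d1a16938434611f438a0456f853718b) (.leaf 0)) (.node (.leaf 0x4724ea200012a0b42804bdd04c584578a06945704439032d214) (.leaf 0)))))) (.node (.node (.node (.node (.node (.leaf 0x9ce46140001016f04f704f606b605d6af19a72b7c128768a2cb) (.leaf 0x2fda0fef0001305548a447d712f585519279e62714e4de124156)) (.node (.leaf 0x44a641710001150e3494226c1a7204d63e0291cf5a11e412d486) (.leaf 0))) (.node (.node (.leaf 0x34d40e8600010aba1f230b4214d48491674066e216258f18b113) (.leaf 0x258d478100014c0f35fa5194105105b6d50d66aa70f24b7bd586)) (.node (.leaf 0x4f5d3efe0000211f44a514221e4485b5fe8021202db05e5fc7b2) (.leaf 0)))) (.node (.node (.node (.leaf 0x4df09fd000105f412a212a104d485f0ef5840f046034a2ab68a) (.leaf 0x3f7a12d100013ade191c411018878551d72fe6b301811a51818b)) (.node (.leaf 0x2a0c375e00001ad611963d5c122205954d69f75765b30d7d9000) (.leaf 0))) (.node (.node (.leaf 0x155d0c8900000fbe2a7d2a7c0aa485b13049366252865e049113)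 (.leaf 0)) (.node (.leaf 0x15d02e080000282a494e4a900ab484147b4936621ba3b104968a) (.leaf 0))))) (.node (.node (.node (.node (.leaf 0x465a0aee000103a90bf201dc1aa48551067a70f03756b812d113) (.leaf 0x41e333750001354346ab4c8218f50474f73dc5df0b74e258655a)) (.node (.leaf 0x38c5295000117e83916358d04b20597e643041211424e3352cb) (.leaf 0))) (.node (.node (.leaf 0x20b62fb200000d3014051ddb0e9284d4a006b27d4f56b65fc2c7) (.leaf 0)) (.node (.leaf 0x3d88216a0000248847c6359e18510513525b54122af268156786) (.leaf 0)))) (.node (.node (.node (.leaf 0x46b70f4b0000084e191519141ab284f17e7177ff1a86b812d214) (.leaf 0x4a214e03000041d44c7338281c620437781f13d348a543333025)) (.node (.leaf 0x9b249d800011de138bc16a706b38457102894f21c404b295621) (.leaf 0))) (.node (.node (.leaf 0x1ee84d18000012662fb22fb10e3705176246e3a471d0732957d9) (.leaf 0)) (.node (.leaf 0x2b6711e700012c172a414d01124704f1c14742eb4a56b4025546) (.leaf 0))))))) (.node (.node (.node (.node (.node (.node (.leaf 0x44920dac000000e4032703261a7184515265d0d048d11800055a) (.leaf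 0x4dde021200012f384e9d24101cd485d02f18c14a6853b82ab15f)) (.node (.leaf 0x5341cd70001145e3342321704e38492ce2c603d3572832cb5be) (.leaf 0))) (.node (.node (.leaf 0x3908528000000a1d1dad1dac16820517e506a0c166d0e25be428) (.leaf 0x5202a4a000148c34cdf4be804e304142e35c25f00d6282cb5be)) (.node (.leaf 0x2b3b2b9d00002040112643d7124385744963939f4f971802512d) (.leaf 0)))) (.node (.node (.node (.leaf 0x390935960000055f10f910f8168205352b3240053855b25be428) (.leaf 0xe813d260000396d441551fb08910435d754122838872e7bd32d)) (.node (.leaf 0x3b9b07fc00001a1e3578016416f18570bb6061664132b6295486) (.leaf 0))) (.node (.node (.leaf 0x4508359200010f14292529241a8105152b0d900557b3da518428) (.leaf 0)) (.node (.leaf 0x37dc0f110000274149e049df16548591730af0f06384045be113) (.leaf 0))))) (.node (.node (.node (.node (.leaf 0x28540b3e000103180a3c0a3b10c584910d7516aa55b61970a586) (.leaf 0x23bf1eae0001340714be23560ef285f3037e501270c234333025)) (.node (.leaf 0x2349162c0000172d37f8330d0ee50532245d51e62fe7837347bd) (.leaf 0))) (.node (.node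 (.leaf 0x9e752fa00000c94239b125706b704f7f07262a625e54a21470b) (.leaf 0)) (.node (.leaf 0x193f27560000239f470140f80c4585f3e10f85a267066e537262) (.leaf 0)))) (.node (.node (.node (.leaf 0x19e41245000007b7177917780c570491c728a0c85eb05d6de7d9) (.leaf 0x31d43ea000013ffd5329132914548495f50185a97005b25be113)) (.node (.leaf 0x1460e1c291100001d1d1c594046088185940c0dd0c121050602532d) (.leaf 0))) (.node (.node (.leaf 0x5981061000111b22e6f2e6e04f285119d16a2375fe09762155a) (.leaf 0)) (.node (.leaf 0x4ad0349700002b0821e24c6b1c758415123622f40a10c21497bd) (.leaf 0)))))) (.node (.node (.node (.node (.node (.leaf 0x50301dc4000101fb008b06bc1e628412e51dd1ca77f4da3337bd) (.leaf 0x51f12ec50001317947ef4e091e9684348b20d6980f371328f2c7)) (.node (.leaf 0x1d951089000115c1189835c30cf184b19f3622f41e1265149025) (.leaf 0))) (.node (.node (.leaf 0x352247bb00000b5720a620a514e30456da5b84797216ad7345fc) (.leaf 0x1c833c9e00005053383e4af50cd10475cc74926e2b9059428124)) (.node (.leaf 0x1079346c000121ee0bdd19dc08c785350e6e874421d78970a70b)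 (.leaf 0)))) (.node (.node (.node (.leaf 0x28b629bb00000689143e143d10d384d41e4226557674d670a12d) (.leaf 0x9d153fa00003c704c54366106b684380941e2482900c568a2cb)) (.node (.leaf 0x42f3382700011b943e4d203f1a3584756157908b0857b6000295) (.leaf 0))) (.node (.node (.leaf 0x32b452c20001105f06e12bd614728497eb15523755263b6216de) (.leaf 0)) (.node (.leaf 0x3f662d570000291a404114c0188704d46d2fe6b30577e95182ab) (.leaf 0))))) (.node (.node (.node (.node (.leaf 0x54928810001043801360da504e40534000a71fd0336b570b24d) (.leaf 0x16f20d110001368e2eba1e170ad784513d26c3ed59775b70a621)) (.node (.leaf 0x435311cc000118a53a2d22b41a458471bf7625711c011a1562cb) (.leaf 0))) (.node (.node (.leaf 0x51732b4a00010dd1054e26621e868474443e33fa74369524d2c7) (.leaf 0)) (.node (.leaf 0x4bc604780000256b486d3f741c9504d06738927d52341855a2c7) (.leaf 0)))) (.node (.node (.node (.leaf 0x2dea2f80000108e61a9a1a9912b705549d02b3653b538c26212d) (.leaf 0xc0010f5000043d4538c529108240411aa2880f702836b049113)) (.node (.leaf 0x4cea20cf00011eaf421d3e1d1cb605533d7e77032ac13768a124)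 (.leaf 0))) (.node (.node (.leaf 0x110f11fd0000130d257b30ef08e105f1c25aa59c2005ff41d55a) (.leaf 0)) (.node (.leaf 0x14bc3c7a00012d143b1237d50a938595c94812cd4ff72e0252ab) (.leaf 0)))))))))

/-- part of a table -/
def entries49 : Trie := (.node (.node (.node (.node (.node (.node (.node (.node (.leaf 0x33f4cc8000000190061006004a385f75a4ab3617e72b614970b) (.leaf 0x31b4141200012d984dcc07ce14538491f61c166c5496be486335)) (.node (.leaf 0x31ed1077000113642d5a319a145605b19e5a63586fb5cb24d149) (.leaf 0))) (.node (.node (.leaf 0x22353e2d0001093402c31b650ec284b5eb68478823e51d2ab180) (.leaf 0x5c71edd000044fd3a6452d304f404f30762b58302e22170b24d)) (.node (.leaf 0x445a406f00001f10379925891a648556227a77057eb6b812d24d) (.leaf 0)))) (.node (.node (.node (.leaf 0x33a81046000004820e7c0e7b149305119a2ca78548233e53718b) (.leaf 0x72a1382000137534dd04fda06650551e91a14b305057d295537)) (.node (.leaf 0x39ce0acb000019033ab63ab5169605d1036141e019e0cf28f32d) (.leaf 0))) (.node (.node (.leaf 0x39221aa00000e212719271804b28453594e643130e4b53352cb)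 (.leaf 0)) (.node (.leaf 0xc333d4e000125e10d9648c408258475d97ce3ce36e242124149) (.leaf 0))))) (.node (.node (.node (.node (.leaf 0x4b8610aa0000024307a307a21c9104d1a35fe2802a96644862c7) (.leaf 0x2290255d0000321f4fe120c50ed18413ae55e08752462f32d262)) (.node (.leaf 0xec6019d0001161a364c364b089504d02469e75c3a677702532d) (.leaf 0))) (.node (.node (.leaf 0x4a35188400000ba9216921681c6284b2631312a08034da3357bd) (.leaf 0)) (.node (.leaf 0x6b519c0001225c45d045cf04470577cd4fc0b41253ef486335) (.leaf 0)))) (.node (.node (.node (.leaf 0x52ed12dc000006d5150f13301eb605b1d76fd41045340a113262) (.leaf 0x1708407b00003d38327d1c870ae105162470f7a44fc27a1806de)) (.node (.leaf 0x2ca03a6800011bf61b5f3cf3127204159346b0f50a136b7d9518) (.leaf 0))) (.node (.node (.leaf 0x2a6b4456000010b7059e2c7912270576823cd19473130841d12d) (.leaf 0)) (.node (.leaf 0x4ddf2aab0001299013b141e01cd485f43658416c46634a2ab15f) (.leaf 0)))))) (.node (.node (.node (.node (.node (.leaf 0x1d328328c00000012b04120411147104740604047f6ff40d2cb486) (.leaf 0x4f7d436000002fc54c2d03341e4685b66d1f60f902371328f180))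 (.node (.leaf 0x212e4b03000014bc340334020ea205d72d25627f6dc6cd70b262) (.leaf 0))) (.node (.node (.leaf 0x2bda2caf00010a6a1e651b5b125585545f7cd6fa3f360a7bd000) (.leaf 0x47a848e900004a694dcd51761af30516f53a15e27ea13e5865fc)) (.node (.leaf 0xbf30bdb000020a8443f443e06f584711c5b907d702247786486) (.leaf 0)))) (.node (.node (.node (.leaf 0x1f823b63000005ab11d211d10e540455a805707f3436c55be15f) (.leaf 0x18234aab00003a2832802a7b0c250477235f610421f4c573441d)) (.node (.leaf 0x136290814e100001a7734743cd410e10512080d10b31571d2180156) (.leaf 0))) (.node (.node (.leaf 0x2a9225bf00000f6929d129d012328453b97b93303d74b17d9000) (.leaf 0)) (.node (.leaf 0x1e1b1ccd000027b34a3718fa0e248572cc5296995ee1a23357b2) (.leaf 0))))) (.node (.node (.node (.node (.leaf 0xb710e240001036002370b1906e584315e16707d46a2e7786537) (.leaf 0x28731c04000034a14ba53ac210c78472bd3730c40103d92c7546)) (.node (.leaf 0x167450250000178b387f01390ac78497ad3c65ea0526d870a70b) (.leaf 0))) (.node (.node (.leaf 0x34814d2000010ce2244f08d214d104376305035300b46c32d214)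 (.leaf 0)) (.node (.leaf 0x29c90c51000124183392100910f505312c11c5c67cd0bf262156) (.leaf 0)))) (.node (.node (.node (.leaf 0x1dad37fa00000805184c184b0cf205b5595282f435b3fc335025) (.leaf 0x2d4d4714000040e33d1112ee12a605b6ca3323513d76e97b2000)) (.node (.leaf 0x22213ec600001d81394e14430ec20435f95001833dc5742ab180) (.leaf 0))) (.node (.node (.leaf 0x1b5e24280001120d25a012b50ca485d39520869945e23162115f) (.leaf 0)) (.node (.leaf 0x3b73337c00012b971b21393d16e68474f75d12376813921136de) (.leaf 0))))))) (.node (.node (.node (.node (.node (.node (.leaf 0x27f006900001009f023e023d10b784109b0d239e1c20b212412d) (.leaf 0x51940e5400002eb33fd44e5b1e918491622101b44836f853770a)) (.node (.leaf 0x245f53730000141032c532c4102685f7fd1eb35d3d85a77b2000) (.leaf 0))) (.node (.node (.leaf 0xb7210b1000009d11ced1cec06e58451a504047f45640d2cb486) (.leaf 0x244f23c100004768463a5315102605f38d0a66ee0e02f115f000)) (.node (.leaf 0x319c352f00011fe543761dc614518595226d36802862b555a214) (.leaf 0)))) (.node (.node (.node (.leaf 0x411d31eb000005170b16102d18e285b4d05cc7395f53e612d537)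 (.leaf 0x410e3f22000138bf1a91450418e205d6041362221736b8546537)) (.node (.leaf 0x3bf173d000119b83bc9378604b385f24359e1a70b604b295621) (.leaf 0))) (.node (.node (.leaf 0x362d040700010ec228722871162305b05c31d5ea01463573470b) (.leaf 0)) (.node (.leaf 0x1cc520e4000026c7416431af0cd404b34216808114458f18b15f) (.leaf 0))))) (.node (.node (.node (.node (.leaf 0x33653210000002d10960095f148704b4d31bb68b6884fa55a18b) (.leaf 0x113c50c00000335f25c9412f08e38597bf0ad5e24ff0b22625be)) (.node (.leaf 0x2798119a000016d6376b376a10b28511ba5d033479e3b17d9000) (.leaf 0))) (.node (.node (.leaf 0x1850f5c00010c4622e822e7047404b1817005836a73fc33528f) (.leaf 0)) (.node (.leaf 0x4bbb14f100012337469e36891c9285720911549b58d6c55fc70a) (.leaf 0)))) (.node (.node (.node (.leaf 0x4c0f18eb0000076f040016b21ca105f26d5b859b63132a734180) (.leaf 0x4382510700013eff2891521f1a510457c331024846d7e9156786)) (.node (.leaf 0x6c1176b00011cc139d317f206560432466db7b453d3de24d295) (.leaf 0))) (.node (.node (.leaf 0x43771646000111602dca2dc91a4784f2292b877c52b4a1156621)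 (.leaf 0)) (.node (.leaf 0x2f1d504900002a8638594c2d12e185b7b040e5dc4111d241d156) (.leaf 0)))))) (.node (.node (.node (.node (.node (.leaf 0x38d644cc000001b605df05de167484d68c4ac76a1d575562128f) (.leaf 0x455c170d000130e413064f631a8585923c6c42ef1c179f51832d)) (.node (.leaf 0x3080195d0000155f352a3529143204127664241248e543335786) (.leaf 0))) (.node (.node (.leaf 0x2acf270200010b0c035c184e123605f3db12f5f863149815f586) (.leaf 0x396929af00004dd749cd4665168705341c7b16b35145626de2ab)) (.node (.leaf 0x4656433e0000218b45083e3b1aa484d6677176621a958b12d68a) (.leaf 0)))) (.node (.node (.node (.leaf 0x2c9e148f00000640136e136d127185d1ff7da62745b242124518) (.leaf 0x38b614b100003bac411d39b8167284d2042057a41b66cd6216de)) (.node (.leaf 0x13d4e9004a300001b353dd220181e3284106a23a6a915c44b70b262) (.leaf 0))) (.node (.node (.leaf 0xac2502c0001100f2b2c2b2b06d40457ad6a050149f34a2ab68a) (.leaf 0)) (.node (.leaf 0x185257c2bd8000128a529094ae0104785944e4e90c4493714025546) (.leaf 0))))) (.node (.node (.node (.node (.leaf 0x36fd3110000103f10cca0cc9163785b4bf06336133a073149621)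 (.leaf 0x1b09334b000135e33df251170ca10534f335c2da3151ea2cb180)) (.node (.leaf 0x427e199800001842106739a31a2585d27c3727bc2c17b6000295) (.leaf 0))) (.node (.node (.leaf 0x43a81d1700010d8325b825b71a530512d31e174431114d51870b) (.leaf 0)) (.node (.leaf 0x2ec1432e000124fe40ac2ce612d50436657a93517ee6192c7586) (.leaf 0)))) (.node (.node (.node (.leaf 0x278c450f0001089c029319e110b20596917996ee6b969b049586) (.leaf 0x8c50897000042c94d9c40b3069604b0d23c03997b171324d428)) (.node (.leaf 0x6ab126c00011e4841ac34d206550571ce57b7ed00a0826de214) (.leaf 0))) (.node (.node (.leaf 0x2e502d68000012b930551bcd12c584146e3c67576c25c870a586) (.leaf 0)) (.node (.leaf 0x268f0fa200012c9c46804d48107105f18c0986d61d1677124156) (.leaf 0)))))))) (.node (.node (.node (.node (.node (.node (.node (.leaf 0x51670f740001005b001701511e8604f1872d12115bd4a328f70a) (.leaf 0x1ef83b3b00002e232c914e180e378515a46b10c8331265149049)) (.node (.leaf 0xa043cc1000013b80864323806c20495d026362d1225742ab295) (.leaf 0))) (.node (.node (.leaf 0x2a5e0129000009861c2a1c29122685d01a5e33120ee73a7b2586)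 (.leaf 0x3fdc18470000462d50c3481b189585925c3637546e414d156428)) (.node (.leaf 0xff3427e00001f7f402333d108b684765259f3b64e073a7b2214) (.leaf 0)))) (.node (.node (.node (.leaf 0x3002011b000104cd0f570f5614220450185ec0c30aa7fe335786) (.leaf 0x1ac120ef000138101b3c51ac0c950433427c62b46f26be5372c7)) (.node (.leaf 0x21024e130000195c3b3f3b3e0ea104577912c2da2820342cb41d) (.leaf 0))) (.node (.node (.leaf 0x303317ba00010e6f1e6327c3142384725143605b313195214621) (.leaf 0)) (.node (.leaf 0x1a94e540001265d405e0d20047505377f24c2226220c2295537) (.leaf 0))))) (.node (.node (.node (.node (.leaf 0x1c0c45f80000028a088108800cc10596ab4bb31963d1ee428262) (.leaf 0x6512462000132c11f58331c064684339b1f63d64b471328f295)) (.node (.leaf 0x33612f440000167e36de158e148704349627274805756255a2ab) (.leaf 0))) (.node (.node (.leaf 0x247231800000bf422212220048604f3782a57d17fd4a328f428) (.leaf 0)) (.node (.leaf 0xb7a2b09000022c8463f32ab06e58554404db07e3062472cb486) (.leaf 0)))) (.node (.node (.node (.leaf 0x3ddf3dfe0001072215e115e0185585f5e77910062c920e518786)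 (.leaf 0xde6197700003e1a4d21395f087704d2783710f41d566a1245fc)) (.node (.leaf 0x514a36c400011c5e3f47121b1e850555401732f81aa41855a2c7) (.leaf 0))) (.node (.node (.leaf 0x16a8070700001109226d2d1b0ad30510a62784f25346d82c770b) (.leaf 0)) (.node (.leaf 0x144e066d00002a0c4bde35b90a8505d0985660c166d2e4025428) (.leaf 0)))))) (.node (.node (.node (.node (.node (.leaf 0x3e69055900000170035104f818670530786174797377b50005be) (.leaf 0x1b9250f0207000030564f244f23104105f02e52335d7e335f7bd000)) (.node (.leaf 0x2e2f09470000150f34950f7712c305f0e13ec3656f73d92c7546) (.leaf 0))) (.node (.node (.leaf 0x49325d400000abb1f251f2404d28473bc2066511b574c2ab295) (.leaf 0x350f3f2700014c134b3650d114e105f60448e22245f545295537)) (.node (.leaf 0x1dab20490001211f383f2ced0cf20573314d00ec3ac4a8333025) (.leaf 0)))) (.node (.node (.node (.leaf 0x1b4253c5000005f512a30ee70ca404580543851614433862115f) (.leaf 0x3a40248800003adf524e3a5416c404139d5001346a45742ab113)) (.node (.leaf 0x4581131b00011ad615da3d5d1a910431db63f5ce25812b51832d) (.leaf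 0))) (.node (.node (.leaf 0x3dc1305600010fbe2a7e091c18550434af3c4656436268156786) (.leaf 0)) (.node (.leaf 0x2ae444400000282c3f7a4a91123704968109a1947352f341d12d) (.leaf 0))))) (.node (.node (.node (.node (.leaf 0x49c022af000003aa0bf40bf31c5404136f7f35165f21b15fc7b2) (.leaf 0x2be17380001354450e750e6049385d24338d79820c4186de18b)) (.node (.leaf 0x28bf29f7000117e939171a2110d385f42748a65551e75b70a12d) (.leaf 0))) (.node (.node (.leaf 0x194157d00010d30142b24fc047484921578e73377329c33324d) (.leaf 0)) (.node (.leaf 0x212a23250000248943b947c70ea205537a2096a961764d70b124) (.leaf 0)))) (.node (.node (.node (.leaf 0x7328df29a70001084e04f0191610d585f41c48a35d7c575b70a000) (.leaf 0x266623d4000141d6451741ba106604d38e3095031de5a715f156)) (.node (.leaf 0x44cb287000001de3276f16041a740573ff0295836a71e412d28f) (.leaf 0))) (.node (.node (.leaf 0x2c9152c8000112662fb42fb312718437eb4c95ab3735c7262518) (.leaf 0)) (.node (.leaf 0x1d4319cd00002c1831fd228e0ce50472825b81cb6c46ad7347bd) (.leaf 0))))))) (.node (.node (.node (.node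 (.node (.node (.leaf 0x4dbc46da000100e4032903281cd38596c631821333c23632d049) (.leaf 0x46771be100002f3949494e9e1aa784f2bb15316e4f64e2000333)) (.node (.leaf 0x51d0d08000014603361336004e285b13b5300d009044b70b55a) (.leaf 0))) (.node (.node (.leaf 0x52c7491800010a1d1c311dae1eb404f6fb5904ca4472503357b2) (.leaf 0x71b3557000148c44bb753da066485752650970520425033524d)) (.node (.leaf 0x99c2cf2000020411d26307406b285946605269274e29c335786) (.leaf 0)))) (.node (.node (.node (.leaf 0x52c63d0e0001055f10fb10fa1eb404d5d57381dc5d41a23357b2) (.leaf 0x298c37d40000396e51fc1ae210f10595573d737f4dc27041d518)) (.node (.leaf 0x27f3039900011a1e251b141210b78470532c46bd3bf78d262546) (.leaf 0))) (.node (.node (.leaf 0x23103d7700000f15292608a00ee18415dd24c1e64f50c22957bd) (.leaf 0)) (.node (.leaf 0x1bf734e10000274335df49e10cb784f51b10629e2fc2472cb7d9) (.leaf 0))))) (.node (.node (.node (.node (.leaf 0x4e684db3000003190a3e0a3d1e250517712fb34c07b17d786180) (.leaf 0x27528d6000134083f53469d048784b4074467482ed10e48618b)) (.node (.leaf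 0x44e43abe0001172d37fa37f91a7704959853c5e22634015865be) (.leaf 0))) (.node (.node (.leaf 0x1fdd4c9700000c95239c0b9f0e5685b7523c96c374256028f41d) (.leaf 0)) (.node (.leaf 0x163a0df5000023a011ab47020ac385515931e3760805132c770b) (.leaf 0)))) (.node (.node (.node (.leaf 0x263c0b62000107b7177b177a106285911216537f43932e7d9518) (.leaf 0x19733bb100013ffe4ed01f320c478475b51380833a708255a049)) (.node (.leaf 0x1f0b4cba00011d1d18df40470e440577562e24ca25b6c55fc15f) (.leaf 0))) (.node (.node (.leaf 0x249a352c000111b314b82e70103285552259630057f6ed049586) (.leaf 0)) (.node (.leaf 0x1a97487900002b0c4c6c0ca40c9184f6ea57b49b6f20826de2c7) (.leaf 0)))))) (.node (.node (.node (.node (.node (.leaf 0x41ad3cb9000001fc06be06bd18f305b5cf5c40f42537ae0005be) (.leaf 0x2d242f360000317a1b1b036312a30494944532357ba2f318012d)) (.node (.leaf 0x14ea3e6d000015c335c535c40a970555f064a4263b93d57bd2ab) (.leaf 0))) (.node (.node (.leaf 0x25f54af500000b5820a820a7105784b72a1356f943a7147bd546) (.leaf 0x273206b20001505f4e2a3a3310a38450a02451e333278b180546))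 (.node (.leaf 0x1f4f1d32000021ef457336b90e4605f2d52d31830010d828f180) (.leaf 0)))) (.node (.node (.node (.leaf 0x517936970001068903b5143f1e8685353d3252117273de28f70a) (.leaf 0xf442d1e00013c711a312f3108a404946873501e6c94d904968a)) (.node (.leaf 0x13a0496100001b95113f3b490a7504170109a59c07865341d55a) (.leaf 0))) (.node (.node (.leaf 0x292316fb000010602bd82bd710e204723b6335c64436ed7d9518) (.leaf 0)) (.node (.leaf 0x1bd827170000291b38954b340cb48513dc1a31766496b562115f) (.leaf 0))))) (.node (.node (.node (.node (.leaf 0x3f9213c6000004390da70da618918451f12e6399306581518428) (.leaf 0x3a9a3707000036904206515316d18555473ff2d2296626428734)) (.node (.leaf 0x1a74ffa000018a63a2f3a2e047504f7a962e07d64e26a149537) (.leaf 0))) (.node (.node (.leaf 0x43161c5e00000dd2266426631a4184d2c375241228920e156786) (.leaf 0)) (.node (.leaf 0x24a340460000256c1aac1f25103304761f2746f9553314124546) (.leaf 0)))) (.node (.node (.node (.leaf 0x3e711056000008e71a9c1a9b186784319b28211d5841640005fc) (.leaf 0x3d0c3750000143d427033cc9184105954d0dc0c3286047156786))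 (.node (.leaf 0x3e1d05bf00001eb04199421e186185b0867427a44b602600055a) (.leaf 0))) (.node (.node (.leaf 0x19694f6e0001130d061b30f00c4705379d71e2b01084a655a049) (.leaf 0)) (.node (.leaf 0x36a5256000002d1522af2a75163304b3af1f336167432b734621) (.leaf 0)))))))))

/-- part of a table -/
def entries50 : Trie := (.node (.node (.node (.node (.node (.node (.node (.node (.leaf 0x122a455100010019006300620a2505569e0e066824478d124295) (.leaf 0x4031071400002d9a1f2048b318a28430a725b4eb04041f12d734)) (.node (.leaf 0x46aa14cd0000136511fc319b1ab20552056497ed1871be12d214) (.leaf 0))) (.node (.node (.leaf 0x37263b570000093612321b66164304d5a63f63f15d1227537335) (.leaf 0x25aa1b0b000044ff39351ab410530552a54e56bd7826b4025546)) (.node (.leaf 0x10ae0c7a00011f1012b4429508d305d12f60f76633b75b70a621) (.leaf 0)))) (.node (.node (.node (.leaf 0x452a0711b0000004830e7e0e7d122204f1bd13b45a4aa747049586) (.leaf 0x176e066e00003754517d47560ae605d09871f39854849815f486)) (.node (.leaf 0x21d91d4e0001190330c022b50eb48532d677d1202de09770b15f)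 (.leaf 0))) (.node (.node (.leaf 0x4de73a1600000e22128c161e1cd504f58c36026e5aa48c428262) (.leaf 0)) (.node (.leaf 0x53802092000125e239a248c51ed204133a12930f50e22618b41d) (.leaf 0))))) (.node (.node (.node (.node (.leaf 0x415a3f060001024307a507a418e48556013314b832465c54624d) (.leaf 0x16db365400013220421a47dd0ad58575391c37fa24c1cc70a786)) (.node (.leaf 0x30753a490000161b28ea10c1142784b59158c3ed1db202295621) (.leaf 0))) (.node (.node (.leaf 0x3b2e094600010ba9216b216a16e305d0e129b5215924162145be) (.leaf 0)) (.node (.leaf 0x271918520000225d2e5b16f010a285325e0ae6aa02b3b17d9000) (.leaf 0)))) (.node (.node (.node (.leaf 0xbfe2993000106d51511151006f585d41b20b6cf385704786537) (.leaf 0xa49299400013d394a2c20be06c405341b2635012815742ab113)) (.node (.leaf 0x3437071200001bf7322c3ec914c284f0a70fb45c53d74c18b295) (.leaf 0))) (.node (.node (.leaf 0x208c48f5000110b72c7a11210e910596f62292b46632b555a70a) (.leaf 0)) (.node (.leaf 0x18c489704aa000029914b823f1d1c3284f06a52731b27b64d70b124) (.leaf 0)))))) (.node (.node (.node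 (.node (.node (.leaf 0x273b362e0001012b0414041310a38575347651e359d417180546) (.leaf 0x44ff24dd00012fc6479d4ee31a7785f3a57167ef0657b70005be)) (.node (.leaf 0x7ad2ae8000114bc255b3404067505b43c4853a84bb073295537) (.leaf 0))) (.node (.node (.leaf 0x1eaf3b3000000a6b0bcc09490e3505f5a402f1275e160021441d) (.leaf 0x1de6080400004a6b3c824ecc0cf604d0bc3c514f31013768a7bd)) (.node (.leaf 0x2ffe008d000120a928ec444012f685d00b76f6124e573a7b2518) (.leaf 0)))) (.node (.node (.node (.leaf 0x50bd0ed7000105ab11d411d31e7285b16d49f25747304a3357bd) (.leaf 0x35af342000013a2943f4480114f305f50706e2e90226ad7345fc)) (.node (.leaf 0x4a1268d00001a7831483cd504d30433ca6d97641e743b32d335) (.leaf 0))) (.node (.node (.leaf 0x1b86440800000f6a29d208e30cb104d67b4db6dd65d2472cb41d) (.leaf 0)) (.node (.leaf 0x2d1d0560000027b44a2e44ba12a285b07901030c11930d049000) (.leaf 0))))) (.node (.node (.node (.node (.leaf 0x2f2c03f7000003610b1b0b1a12e205905a3bc5dc76965e7d9156) (.leaf 0x206424a7000134a150b333430e860493a13af2a23631ab24d2c7)) (.node (.leaf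 0x31ee1aac0001178b26093880145605d2996e51482c17d628f295) (.leaf 0))) (.node (.node (.leaf 0x99149c177500000ce3245023bf0a918592491aa1e072a714025428) (.leaf 0)) (.node (.leaf 0x311c25cf0000241946272bac14418593bb7935766b14206de214) (.leaf 0)))) (.node (.node (.node (.leaf 0x17f27d900010805184e184d046785f3ec43603d0910b02145fc) (.leaf 0x3d36267a000140e54b333f4e184384d3c94703ed03711a51870b)) (.node (.leaf 0x406915c700001d8240be10f918a705321b3427a22bf048000333) (.leaf 0))) (.node (.node (.leaf 0x174453f50000120e279c2f1a0ae40498092ff3747c332e7d928f) (.leaf 0)) (.node (.leaf 0x348a2f0f00012b984cbf4cbe14d10554916967ff48b626428734) (.leaf 0))))))) (.node (.node (.node (.node (.node (.node (.leaf 0x4fa433d3000000a00240023f1e530494ff2290832cf56255a049) (.leaf 0x2cae14d600002eb44c494e5c127205d20619d5ab45b322049518)) (.node (.leaf 0x140a21390001141032c624fe0a8105534e4740c12106b402532d) (.leaf 0))) (.node (.node (.leaf 0x24ea2afe000109d1081d1cee103705543e7651e346b417180546) (.leaf 0x1cd134e70000476a31344d260cd484351b2736994b061d18b15f))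 (.node (.leaf 0x3f0932ca00001fe60cbb423018810534e660315a68e268156428) (.leaf 0)))) (.node (.node (.node (.leaf 0x2e640b7a00010517102f102e12c70491143c66897995c870a12d) (.leaf 0x1ab048c0000038c03385502d0c928416f30af2b46f21b15be2c7)) (.node (.leaf 0x22a324f2000019b92f713bca0ed20473a71ff78823e3b82ab180) (.leaf 0))) (.node (.node (.leaf 0x533f04f100000ec3287320ef1ec385f06f1b62b073039032d049) (.leaf 0)) (.node (.leaf 0x41f5069e000026c84983498218f584b09b64059c7c64010006de) (.leaf 0))))) (.node (.node (.node (.node (.leaf 0x1cdb0008000002d2096209610cd485700141916c5ef0392ab7b2) (.leaf 0x40981669000033605041039918b185122b61778f58913e000149)) (.node (.leaf 0x45553374000116d6077b376c1a8584b4f73812ef0ed17851832d) (.leaf 0))) (.node (.node (.leaf 0x46d231b200000c4722ea22e91ab48454cb1705fa49c65c12d113) (.leaf 0)) (.node (.leaf 0x33dc2cdc000023381030469f14968594625ca5ce36f1ab28f428) (.leaf 0)))) (.node (.node (.node (.leaf 0x4163274b0001076f16b416b318e50473e05245bf4461475866de) (.leaf 0x1dbd2d9100003f014b2d523e0cf285b4711db0ec3ac70d333025))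 (.node (.leaf 0x35743d0000001cc23fc43fd414e68495d50146a309021868a55a) (.leaf 0))) (.node (.node (.leaf 0x18e3124600001161248a24c30c370471c72900c85dd1541497d9) (.leaf 0)) (.node (.leaf 0x4bbe180c00012a8811bb4c2e1c9285d25666927d7d512a5fc2c7) (.leaf 0)))))) (.node (.node (.node (.node (.node (.leaf 0x3b43f78000101b605e105e004b384960c46d77c6fd20314970b) (.leaf 0x3cbb2e5c000030e5202b124f18338574826dc0b45657b7586335)) (.node (.leaf 0x4c1e1c910001155f352b345d1ca185d2c802f12744060021441d) (.leaf 0))) (.node (.node (.leaf 0x34cb0ae700000b0d1fe91fe814d405710616d55023a08e2ab68a) (.leaf 0x158304c000004dd93db409e60ab104706c0ef1485e44de262149)) (.node (.leaf 0xbff51a20000218c4509190406f585f7ce09971166d347786537) (.leaf 0)))) (.node (.node (.node (.leaf 0x33b429b000010640136f0cbe149384941e12e2ea3df7814862ab) (.leaf 0x57b0eea00003bad3632527104e585716f58925d17c034786537)) (.node (.leaf 0x1a0531c100001b36201504100c8104b4cd03a3fa42146455a2c7) (.leaf 0))) (.node (.node (.leaf 0x30e42c4a000010102b2d00c514370494564e01e26e608a29570b)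 (.leaf 0)) (.node (.leaf 0x2fce0679000128a60ee03fa512f505d0993c85dc4e566a262518) (.leaf 0))))) (.node (.node (.node (.node (.leaf 0x26644949000003f20ccc0ccb10660496ff5676d67a930b7b2518) (.leaf 0x1e16135a000135e4355412bc0e2484d1e150916c13623433515f)) (.node (.leaf 0x1c8849ee00011842080139a40cd10517126d97031531ee32d262) (.leaf 0))) (.node (.node (.leaf 0x29910d8200000d8425ba25b910f184315013f7587466fe180156) (.leaf 0)) (.node (.leaf 0x4b4631b500002500481a48191c8504d4cb2e81b942a5806de70a) (.leaf 0)))) (.node (.node (.node (.leaf 0x205a28a40000089d156f19e20e8585540319e6784b23404862c7) (.leaf 0x1b721c7a000042cb470721770ca78452c55c20836ec704786049)) (.node (.leaf 0x3f5e1b5800001e4910ef26e6188585d2ae4f54e8687581518428) (.leaf 0))) (.node (.node (.leaf 0x32a01f78000112ba30562914147204131c3c313c0e60756216de) (.leaf 0)) (.node (.leaf 0x2a034ad500012c9d3a8b4d4912220477282e330c11b707049000) (.leaf 0)))))))) (.node (.node (.node (.node (.node (.node (.node (.leaf 0x3bcd1a6d0000005c0153015216f405b2926a576d1bd24e33328f)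 (.leaf 0x32bf457f00002e244e1926df147285f6a06e149547d75570b55a)) (.node (.leaf 0x4d9f5172000013ba118632391cd285f7cb18c1826313b82ab180) (.leaf 0))) (.node (.node (.leaf 0xe8a5299000109861c2c1c2b08910557e64e51e072a35f025428) (.leaf 0x3062f290001462f253a536104a204d4935900c32ae2343352cb)) (.node (.leaf 0x2b5a32d400011f7f3dee1d8d12458554e715775711c35f025000) (.leaf 0)))) (.node (.node (.node (.leaf 0x4190484c000004ce0f580e8a18f28416e65cc7397fd1a412d486) (.leaf 0x4618180e00003811273931851aa185125675d0192ba7c4586295)) (.node (.leaf 0x25be39860000195d3b413b40105385d57e42a0c451e60a02512d) (.leaf 0))) (.node (.node (.leaf 0x5321053a00000e7027c527c41ec304307667f38475a46c4287d9) (.leaf 0)) (.node (.leaf 0x420430e60001265f49223fc51a220494bc36968024c790546214) (.leaf 0))))) (.node (.node (.node (.node (.leaf 0xd480a0d0001028a00b6088208660510f173b7110580cb7b2537) (.leaf 0x32dd1e3b000032c25010500f147485b2f676338277344b62124d)) (.node (.leaf 0xf4523170001167e2b8e36df08a404b3782880f749f74004968a) (.leaf 0))) (.node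 (.node (.leaf 0x27b3159f00000bf52223222210b38472177ee39e6bc13241d546) (.leaf 0)) (.node (.leaf 0x16700896000022c9464146400ac78410d23b777c25914570a621) (.leaf 0)))) (.node (.node (.node (.leaf 0x19f6090c0000072315e315e20c5784d0dc66d09d3665806de7d9) (.leaf 0x313c2b9300013e1a45c2245014438594491717646fd0ba486333)) (.node (.leaf 0x1ca420f200011c5f1f883f480cd204934316812762a58f18b180) (.leaf 0))) (.node (.node (.leaf 0x6db3ee7000111092d1c265606568575fd44978f0627d624d295) (.leaf 0)) (.node (.leaf 0x4fc12feb00012a0c0f854bdf1e540434a767a4ca4471b15fc7b2) (.leaf 0)))))) (.node (.node (.node (.node (.node (.leaf 0x42b46a30001017004fa04f904c30576c110117200817432d335) (.leaf 0x360105f3000030584f25295f162204308f1af43173f543335786)) (.node (.leaf 0x51e00a590001150f1e4c34961e960410fa5992415fb1ab24d2c7) (.leaf 0))) (.node (.node (.leaf 0x1e5407e800010abb1f26060e0e268490b931a4d85c421868a262) (.leaf 0x35ea170400004c1a2c5a52f514f605523c26f13c1c161368a55a)) (.node (.leaf 0x13e83f9800002120338344a60a7705160f4680f40865c71245fc)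 (.leaf 0)))) (.node (.node (.node (.leaf 0x4a4c2e15000105f512a4044c1c6505947d1d93804f02671497bd) (.leaf 0x9c350a800013adf4d2350d206b60477bb5352483623c768a786)) (.node (.leaf 0x136d2c7000011ad70dc13d5e0a6705b45b0235213495c72625fc) (.leaf 0))) (.node (.node (.leaf 0x46170c1f00000fbf27ae2a7f1aa184f1257cf3d64b43bd000295) (.leaf 0)) (.node (.leaf 0x1b674bf20001282d0ea01b2a0ca704f74222a6975bb25a786049) (.leaf 0))))) (.node (.node (.node (.node (.leaf 0x1d360d52000103aa0bf60bf50ce284d1432163804be4b5333025) (.leaf 0x4caf36370000354529c64bf41cb305f53552c0895c9207149049)) (.node (.leaf 0x2cdc1236000117ea39182f0a12758591c64ed3417601d2180156) (.leaf 0))) (.node (.node (.leaf 0x2fca046100000d3124fe24fd12f505506607b647502677262156) (.leaf 0)) (.node (.leaf 0x1b6c4a390001248a47c81b590ca705971a47700f5dd2e72cb7d9) (.leaf 0)))) (.node (.node (.node (.leaf 0x4ba0fb00000084f1918191704d385518d0580b4475626428335) (.leaf 0x46e93beb000141da4f0f43011ab70535b953c172209401586333)) (.node (.leaf 0x16be3b0d00011de3413011bc0ad385d59f6462a609c51370a70b)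 (.leaf 0))) (.node (.node (.leaf 0x6b50915000012672fb62fb5065584b0dd4082d236e4a66de734) (.leaf 0)) (.node (.leaf 0x3e6f282b00012c1821f54d02186705f3f75243ee6e37e25865be) (.leaf 0))))))) (.node (.node (.node (.node (.node (.node (.leaf 0xe211fae000000e5032b032a088304331f76968b4fe72e0252ab) (.leaf 0x4ab00e9d00012f3b27254e9f1c728411685971e67d850a3337bd)) (.node (.leaf 0x1e6a458d0001146017892ebc0e270556a175321319f207295049) (.leaf 0))) (.node (.node (.leaf 0x109225d000000a1e1db01daf08d18453bc0ca52a10251370a2cb) (.leaf 0x3c58210c000148c525ea331e182485134867b5fa07929112d68a)) (.node (.leaf 0x520647020000204221a543d81ea104d6c909434c79554a214180) (.leaf 0)))) (.node (.node (.node (.leaf 0x10933bcc0000056010fd10fc08d18475b648a65630e76170a2cb) (.leaf 0x337647f80001396e51fd297d148784d6e045f68b66946355a2ab)) (.node (.leaf 0x4bc51e5500001a1f3c503c4f1c9504b2fb21949b58d4a66de70a) (.leaf 0))) (.node (.node (.leaf 0xde40f5100010f15292700fe08770491810ad5e27730b22625be) (.leaf 0)) (.node (.leaf 0x382850d60000274446a1326b16620517c05446a36c763b6216de)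 (.leaf 0))))) (.node (.node (.node (.node (.leaf 0x178d3a93000103190a400a3f0af105b5963077e80711d241d6de) (.leaf 0x16823ccc0001340a272047540ad10455d077f72b27575b70a786)) (.node (.leaf 0xc732e4e0000172e37fc37fb08278474816af4251a377a180333) (.leaf 0))) (.node (.node (.leaf 0x292016e400000c96239e239d10e204123a3b50b35fb4d9049156) (.leaf 0)) (.node (.leaf 0xc83868000123a00c97470304560515665a63580667f824d295) (.leaf 0)))) (.node (.node (.node (.leaf 0x124f333e000007b81585177c0a2605f4f17676802ba18e15f734) (.leaf 0xac426b900013fff475a49d606d40493d15e90f705251d18b68a)) (.node (.leaf 0x3ed279700011d1e18d306c904b705b3e73e07666e663521470b) (.leaf 0))) (.node (.node (.leaf 0x4d0932c9000011b42e722e711cc20534e65001833715742ab180) (.leaf 0)) (.node (.leaf 0x1312420e00012b0c100221720a648456487b96371684b17d924d) (.leaf 0)))))) (.node (.node (.node (.node (.node (.leaf 0x34770f25000101fc017806bf14c784f1752dc7640286f132d335) (.leaf 0x51cb16590001317a404839f51e9505722a38550c4830ff6de70a)) (.node (.leaf 0x1e8446cd000015c421e435c60e340496c46a26b75cc50a33315f)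 (.leaf 0))) (.node (.node (.leaf 0x2032215700010b5820aa20a90e828453503526784b22fa5be2c7) (.leaf 0x69609120000506153fc351c065484d0dd06b5d344a6c55fc68a)) (.node (.leaf 0x4a880f65000021f043c63ef51c710511844ae3fb6907502147bd) (.leaf 0)))) (.node (.node (.node (.leaf 0x30c106080000068a14411440143604309047552a564218113786) (.leaf 0x1ade518c00003c735225529d0c9585d7cc4922410043405372c7)) (.node (.leaf 0x4fbf00a700011b95094825af1e5385f00d3482b06c108255a049) (.leaf 0))) (.node (.node (.leaf 0x3f6f17870001106005292bd9188705f24a4f56b33bb5815182ab) (.leaf 0)) (.node (.leaf 0x3a3a1c250000291c4b3524a716c28552bf23d1483293b818b149) (.leaf 0))))) (.node (.node (.node (.node (.leaf 0x535d146f0001043907f00da81ec485b1fc6a714a35951d2ab7b2) (.leaf 0x495147eb000036953a231f0f1c448436df72f1b745103b5fc15f)) (.node (.leaf 0x2fc3284d000018a73a30163812f50473f979564739b4de262156) (.leaf 0))) (.node (.node (.leaf 0x4d88258b00010dd2266626651cd20513b45e91271a65b718b41d) (.leaf 0)) (.node (.leaf 0x4b1d37030001256c486e0ed71c8185b54721a6783966be4862c7)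 (.leaf 0)))) (.node (.node (.node (.leaf 0xa222967000108e70f561a9d06c30454153f73f525402032d333) (.leaf 0x2d71337d000143d5203d4d1c12a78434f774a68962455f124546)) (.node (.leaf 0x53222f3c00011eb0291539441ec304549464e14c10939032d049) (.leaf 0))) (.node (.node (.leaf 0x3e241ad50000130e30f111aa186204929d35e7e459a79012d486) (.leaf 0)) (.node (.leaf 0x469810e600012d15110546641ab18511a9442668269026586149) (.leaf 0)))))))))

/-- part of a table -/
def entries51 : Trie := (.node (.node (.node (.node (.node (.node (.node (.node (.leaf 0x47783bd80000001a006500641ae58515b83a14951ae7ae58655a) (.leaf 0x2e481a0400012d9a27164dcd12c505128921e45a76561970a586)) (.node (.leaf 0x53e5179900011366319d319c1ed504b24c2d031b7d462f32d262) (.leaf 0))) (.node (.node (.leaf 0x114451e5000009371b681b6708e40497d41f855d80265e04928f) (.leaf 0x202607d70000450334c746fb0e8204d0b82e22f879d6c55fc70a)) (.node (.leaf 0x4eb31ffc00001f11258636681e338473255b908942e2477867d9) (.leaf 0)))) (.node (.node (.node (.leaf 0x458a343f000104830e800e7f1a910555096a175c77b67e156428)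 (.leaf 0x3eda1e350000375b47d6517e18748552f63673823a37dc54624d)) (.node (.leaf 0x1ab70d59000019053ab70b760c9284f14354d6984be2fa5fc2c7) (.leaf 0))) (.node (.node (.leaf 0x1c7b47de00000e23100e271a0cc78576dc5634fb77917432d049) (.leaf 0)) (.node (.leaf 0x37742fa000025e340b73ddd04a784f66046205b60454a21470b) (.leaf 0))))) (.node (.node (.node (.node (.leaf 0x374431510000024407a707a616440494c308d42d7364765be68a) (.leaf 0x2aff103f0001322113a74fe2123785f1997af3655c013241d546)) (.node (.leaf 0x1500241c0001161b364e364d0aa10413946947d206e1ec262149) (.leaf 0))) (.node (.node (.leaf 0xa30509600000baa216c20da06c38417ba37c7a264c62f428333) (.leaf 0)) (.node (.leaf 0x1a110d570000225e45d1310e0c818431435112a23684fa6de70a) (.leaf 0)))) (.node (.node (.node (.leaf 0x20c131d4000006d603ab15120e950434ce0b750c1f25384862c7) (.leaf 0x222f223000013d3a2c5b496b0ec205f36600759b71a29818b180)) (.node (.leaf 0x52681a0900011bf7097136a91ea60512894755a2797218113262) (.leaf 0))) (.node (.node (.leaf 0xec24529000010b82c7c2c7b08950456944f175471e3d5025428)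 (.leaf 0)) (.node (.leaf 0xa5110bd000029924b844b8306c48431a56a70f02c851d2ab68a) (.leaf 0)))))) (.node (.node (.node (.node (.node (.leaf 0x249b08410000012c0416041510328570c634e6ee407747049586) (.leaf 0x486a396400002fc84ee42f511c2505557b2ba34c0d303478641d)) (.node (.leaf 0x174f46bf000114bd30ae2ff70ae405f6c27f11fd6d54f404924d) (.leaf 0))) (.node (.node (.leaf 0x2b8412eb00000a6c1e671e6612510491d84dc3123cf179025000) (.leaf 0x41822fa200004a6e50f44fc418f204549f1362226d31e4546486)) (.node (.leaf 0x37e14af0000020aa44424441165604372a0420195f671324d295) (.leaf 0)))) (.node (.node (.node (.leaf 0x12bf3168000005ac11d611d50a3585f4c450e6685f1314124149) (.leaf 0x223c01b000003a2b4a7a4eb10ec285902904f78834258f2ab180)) (.node (.leaf 0xb7d10c000001a793cd73cd606e585b1a60156cf3c243d786486) (.leaf 0))) (.node (.node (.leaf 0xd3234fc00010f6a29d3135c086584551c4aa7a431877a18055a) (.leaf 0)) (.node (.leaf 0x3fc14261000127b40e6725ba18950436503637545e712b15632d) (.leaf 0))))) (.node (.node (.node (.node (.leaf 0x45e11793000103610b1d0b1c1a9704324c0b938a00326851818b)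 (.leaf 0x48e24efd000134a2151550b41c3504579370e6dd15e1c82cb180)) (.node (.leaf 0x7db2ae50000178c38823881067685743c33b3d04bb28711355a) (.leaf 0))) (.node (.node (.leaf 0x4598140c00000ce4245224511a918511f57154376cb04751832d) (.leaf 0)) (.node (.leaf 0x2d0517f700012419477425d712a204b2553bc5f81a530d7d9000) (.leaf 0)))) (.node (.node (.node (.leaf 0x51660e890000080613c1184f1e8604d1674326785336d028f70a) (.leaf 0x12824d65000140e64f4e2e6b0a3404576919d5af54b70704968a)) (.node (.leaf 0xed72b1c00001d8310f63e44089584f4413777542586b402532d) (.leaf 0))) (.node (.node (.leaf 0x43e93ce60001120e0f7d26761a570535d24bd3ed0bb79f51870b) (.leaf 0)) (.node (.leaf 0x7ec2ae200002b994b5a1dfb067705943c1ac5e22631cd7345be) (.leaf 0))))))) (.node (.node (.node (.node (.node (.node (.leaf 0x2fbd2eaa000100a00242024112f285b4895d764739b740049156) (.leaf 0x45b31f6700012eb4242120491a9384731a4b72cd3df47a1562ab)) (.node (.leaf 0x1a5708050000141113f92c1f0c8584f0bc3f643f3102a753770a) (.leaf 0))) (.node (.node (.leaf 0x13f90868000009d21cf01cef0a778530ca3395210fb0b22625be)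 (.leaf 0x507e05560001476a471344d41e6685d0781e71ca7686131137bd)) (.node (.leaf 0x4d47117400011fe63c283b211cc404f1b523908162474c18b7b2) (.leaf 0)))) (.node (.node (.node (.leaf 0x38782824000005180a590dc816678513f727e5e253279c7865fc) (.leaf 0x713127b000138c017b62d7d06648471d060476a1684b533524d)) (.node (.leaf 0x237d4c7c000019bc3bcc3bcb0ee685b74f67409e3ad1a068a025) (.leaf 0))) (.node (.node (.leaf 0x29e7228200010ec32874087f10f604f36d3095035335a715f156) (.leaf 0)) (.node (.leaf 0x22724165000126c8474846bb0ec784563d1b62b02ee48c32d7d9) (.leaf 0))))) (.node (.node (.node (.node (.leaf 0x50742407000102d2096308681e668493934613fb7a91a068a025) (.leaf 0x21908e70001336141ef46b804828530d72762ef0360e25fc428)) (.node (.leaf 0x35044e63000016d81583249a14e10497801d96cf5112d7149486) (.leaf 0))) (.node (.node (.leaf 0x38e0381400000c481f2122eb167704155e2a11073052e72cb5fc) (.leaf 0)) (.node (.leaf 0x215b28ac000123381a7409ac0ea485740352738714364d70b7b2) (.leaf 0)))) (.node (.node (.node (.leaf 0x31b738cd0000077016b616b5145384f56c6821726f564f537333)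 (.leaf 0x1d49518800013f0253002ca40ce50537cc30e3cc2b8186214025)) (.node (.leaf 0x2163368400011cc209c03fd50ea704753c12c38419f0342cb049) (.leaf 0))) (.node (.node (.leaf 0x2932d4a0000116207f22dcb049284746b54c5ce06d0c95fc428) (.leaf 0)) (.node (.leaf 0x4ffd0f1400012a8924263c711e5685b17325318374a37928f41d) (.leaf 0)))))) (.node (.node (.node (.node (.node (.leaf 0x492f3fcd000001b705a605e21c4305f6145d20c815917f6de049) (.leaf 0x191a0d3f000130e64c584f640c448551406d514a3ae0c95be7b2)) (.node (.leaf 0x4ec7428e00001560352d352c1e3404f65464407f5d422c6217b2) (.leaf 0))) (.node (.node (.leaf 0x359023100010b0d13681fea04a685303121772b7c12ad68a2cb) (.leaf 0x44121dc700014ddb2db720aa1a618452e537259c55e47c0006de)) (.node (.leaf 0x24f706fb0001218c36e0450a103784f0a553939e44730841d12d) (.leaf 0)))) (.node (.node (.node (.leaf 0x442a4ee000000641137113701a620557920291cf5981be12d537) (.leaf 0x18594eda00003baf2e5f074c0c268537915e570315318a68a262)) (.node (.leaf 0x368b314700001b3733e010bb16320574c25726924d3250335786) (.leaf 0)))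 (.node (.node (.leaf 0xf102d40000110102b2f2b2e08a184146b11c0195f60bf262295) (.leaf 0)) (.node (.leaf 0x3c713b46000028a749cc19e518258435a54333d65f67b5000295) (.leaf 0))))) (.node (.node (.node (.node (.leaf 0xe203ae5000103f201210ccd088304159d2464ef5361790252ab) (.leaf 0x41c43a1a000035e54b14511818f404958c4f83560af41f12d28f)) (.node (.leaf 0x2c704b4a000018432128348512668417325c15dc6b255c15f518) (.leaf 0))) (.node (.node (.leaf 0x3e634b4700000d8525bc25bb186704773239528e2041475865fc) (.leaf 0)) (.node (.leaf 0x290c2df300002501481b3f4110e105947813f7580c72f3180518) (.leaf 0)))) (.node (.node (.node (.leaf 0x3ec63ad80001089d19e301b1187404d59a2de6ef4057dc54624d) (.leaf 0x33ad3cbf000142cc4b9c5378149305b5cf7c61bc1f66be5372ab)) (.node (.leaf 0x2249474f00011e490a5f41ad0ec40536d177314b6ab51d2ab7b2) (.leaf 0))) (.node (.node (.leaf 0x508d3604000012bb305830571e7105b5322931cb3c67837347bd) (.leaf 0)) (.node (.leaf 0x19f82efc00012c9f4d4a04d10c5785148f3e529e37a42055a7d9) (.leaf 0)))))))) (.node (.node (.node (.node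 (.node (.node (.node (.leaf 0x9fe51a00001005c0154011b06b785d7ce01660250932a73470b) (.leaf 0xc1e3c1a00012e25118c1511082485d5bd3b25732bf34d04968a)) (.node (.leaf 0x26ea03e3000013bb323a0b3210760550583095033b762315f518) (.leaf 0))) (.node (.node (.leaf 0x50934fcb0000098704621c2d1e718477a65f625721e4c57347bd) (.leaf 0x43a733d500014632402c17dc1a5304f4ff2cc05b22358115670b)) (.node (.leaf 0x18ae2ef400001f8042fe02950c3505d48f15130f4034c573441d) (.leaf 0)))) (.node (.node (.node (.leaf 0x2e793eb7000104ce0f5a0f5912c78535f63c668934e6d870a546) (.leaf 0x4de62e890001381131143bdb1cd504d4853ff1916c2626428262)) (.node (.leaf 0x38911f40000195e3b420cbc04b20531c21af43125c543335786) (.leaf 0))) (.node (.node (.leaf 0x2fe8308900010e70047d218f12f60514b43ca34169e3447b2518) (.leaf 0)) (.node (.leaf 0x391645b10000266049244923168284d6a503315a3480135be428) (.leaf 0))))) (.node (.node (.node (.node (.leaf 0x49273acd0000028b088408831c4304f5996cb08959f0826de049) (.leaf 0x93e0a3d000132c2436b3edb06a385d0f67096752c0207149621)) (.node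 (.leaf 0x3fa7058e0000167f36e136e0189304f08070c42600d11a51818b) (.leaf 0))) (.node (.node (.leaf 0x515c0c3a00010bf516bf22241e858591285f52f81aa42055a2c7) (.leaf 0)) (.node (.leaf 0x50ba25ec000122ca41f546421e728553be6913d33c67fe3337bd) (.leaf 0)))) (.node (.node (.node (.leaf 0x2c3f293c0001072315e40546126285f40f44710c4226ed7d9518) (.leaf 0x3c9b352500003e1c385b50221832857522331680323804546214)) (.node (.leaf 0x1f0a1cca00011c6039951d7b0e440552cc4521dc67b3465fc15f) (.leaf 0))) (.node (.node (.leaf 0x4d13b8a0001110a2d1e2d1d04d48435ad4066e225e22618b68a) (.leaf 0)) (.node (.leaf 0x2a401a1a00002a0d47af386b122604128a59d30c2c43c17b2586) (.leaf 0)))))) (.node (.node (.node (.node (.node (.leaf 0x25b7141f0000017104fc04fb105384f1f669e0c476771802512d) (.leaf 0x528e32c4000130584f264c571eb105d4e638f6dd79e60021441d)) (.node (.leaf 0x1053d05011000001510339d3497184104b0180c00c36e014d156786) (.leaf 0))) (.node (.node (.leaf 0xe5231a500010abc03431f2708858454c94c415a2386b47bd32d) (.leaf 0x3760449800004c1c522d08e916460416863df3ba3645cb24d149))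 (.node (.leaf 0x37b31411000121200b8e44a716538471f61b07644942a7486333) (.leaf 0)))) (.node (.node (.node (.leaf 0x34b02f76000005f612a612a514d284149c27378f00b61d18b149) (.leaf 0xf300b0500003ae23caf50e008a38411093d25f45356fe41d335)) (.node (.leaf 0xa4f193800001ad83d5f22e006c405f27440f01e21d29818b113) (.leaf 0))) (.node (.node (.leaf 0x2bd44ef500000fc02743292712558497934df45a7ad714025000) (.leaf 0)) (.node (.leaf 0x3f4a37e50000282f19174a9218850555582d42ef1c17db51832d) (.leaf 0))))) (.node (.node (.node (.node (.leaf 0x1faa1bb0000103ab0bf80bf70e550552b8055724282227537262) (.leaf 0x228e1e600001354615724c0e0ed105d2fc22541071a059428124)) (.node (.leaf 0x3ff04f9d000117eb25c3391918978417a17232cd45815d15618b) (.leaf 0))) (.node (.node (.leaf 0x16e0280700000d3224ff111b0ad70413f350550825e7892c770b) (.leaf 0)) (.node (.leaf 0x1c8c224d0000248b0e0a47c90cd105936757c27f21f3cb32d124) (.leaf 0)))) (.node (.node (.node (.leaf 0x125f4aeb0001084f191a19190a2685f7295e33b32f573a7b2214) (.leaf 0x1abe4ba8000041db2414384f0c9285d73c54c6982b80435fc2c7))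 (.node (.leaf 0x24de41c800011de436064131103685d64351f7083e72d87b2000) (.leaf 0))) (.node (.node (.leaf 0x4d0e18e1000012682fb702a21cc205d26d00759b0ee29818b180) (.leaf 0)) (.node (.leaf 0xcf9435100002c19309a4d03083785366b0ab66c03527a180333) (.leaf 0))))))) (.node (.node (.node (.node (.node (.node (.leaf 0x305d0000100e5003d032c044404708c0035af1a30435fc68a) (.leaf 0x2e883f2600002f3d3a0d0a7c12d10516044396fa3716192c7586)) (.node (.leaf 0x39784bd30000146133633362168785173f1bb68b58746455a2ab) (.leaf 0))) (.node (.node (.leaf 0xfdc057e00000a1f1db117a008b485907b7fb5a970032e7d9113) (.leaf 0xf5c2796000048c6309953c308a48593e73945d36a536b7d9113)) (.node (.leaf 0x2654105a0000204343da43d9106584919b3d737f43927041d518) (.leaf 0)))) (.node (.node (.node (.leaf 0x3c34153f0000056110ff10fe182384920d7423f1494401000333) (.leaf 0x192d0d370001396f24d839de0c4505b1404af31b62a6f8537262)) (.node (.leaf 0x11511ed400011a1f08b53c5108e48433070ae63745d69b7d928f) (.leaf 0))) (.node (.node (.leaf 0xaa64ce000000f162929292806d304d75e0580b406f390428333)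 (.leaf 0)) (.node (.leaf 0x52a73b1c000127443c1038e01eb304f5a062038476f09f1497d9) (.leaf 0))))) (.node (.node (.node (.node (.leaf 0x4201d950000031a0a420a4104c30412e00fe66c4e346c428333) (.leaf 0x38ae0f610001340c4fa810e6167205d1841a97e856364d62155a)) (.node (.leaf 0xc9346870000172f37fe37fd08348476bf4550f0038322049113) (.leaf 0))) (.node (.node (.leaf 0x34471d7000000c972138239f14c404f2dd0a401e29761818b113) (.leaf 0)) (.node (.leaf 0x4ebb1a44000123a2470547041e3385728d2ba0c833240d7867d9) (.leaf 0)))) (.node (.node (.node (.leaf 0x2b86415d000107b8177e177d125104d63a7273516c22e47bd586) (.leaf 0x391c056300004004342c336f16828590791d84900541775fc32d)) (.node (.leaf 0xb0b3c2300011d1f4036404806e20575c02bf0d009064d70b55a) (.leaf 0))) (.node (.node (.leaf 0x3563117c000111b405a02e7314e60471b55353ea1713c768a6de) (.leaf 0)) (.node (.leaf 0x4035029c00012b0d2ab42cff18a284b0386577ed00a79012d214) (.leaf 0)))))) (.node (.node (.node (.node (.node (.leaf 0x10014fe5000001fd06c106c008c10437a82ec7fa2ae72c70a2cb) (.leaf 0x4ac13097000031804fa3078d1c750434b62861e67d808a2957bd))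 (.node (.leaf 0x509b4814000115c435c835c71e718576e32a31cb3c61957347bd) (.leaf 0))) (.node (.node (.leaf 0x308a52d600000b5920ab191814320557ec3a06560444b53332cb) (.leaf 0x183d49a0000050654eaf53fd0c2585b70c0530726585ae734180)) (.node (.leaf 0x41340e35000121f045740a3818e384916028211d61f7c40005be) (.leaf 0)))) (.node (.node (.node (.leaf 0x510c356b0000068b144203be1e810595276542f808c6be4862c7) (.leaf 0x4453526700013c734bef450e1a648477e13667052047dc12d24d)) (.node (.leaf 0x28fb09a900011b960a0a3e4e10d78570e84226555d71cc70a546) (.leaf 0))) (.node (.node (.leaf 0x11fc26f8000010612bdb2bda08f68593d844c68d23034415f537) (.leaf 0)) (.node (.leaf 0x4ce412510001291c4975136f1cb60491c90fc6a98090c5113124) (.leaf 0))))) (.node (.node (.node (.node (.leaf 0x2b38364a0000043a0daa0da9124385153652f2356731797bd546) (.leaf 0x23264e1500013695164e27ca0ee204d7793a01e61f21233337bd)) (.node (.leaf 0x8f027e3000118a737aa3a3106978413f02ca78515833e53718b) (.leaf 0))) (.node (.node (.leaf 0x21b52fb600000dd326670bd40eb284b4a023a6a969d56e70b124)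 (.leaf 0)) (.node (.leaf 0x16053cc50000256d486f16ac0ac104b5d03c665630e5c870a2cb) (.leaf 0)))) (.node (.node (.node (.leaf 0x1ba81fb5000008e81a9f1a9e0cb20513201500da3157f9621262) (.leaf 0x53f73212000043d6268336e11ed584f4d32f65a202c48c428262)) (.node (.leaf 0x143e0a3a00001eb11be83c620a8385d0f65fb6b31ad2e40252ab) (.leaf 0))) (.node (.node (.leaf 0x282c264c0001130e30f2080710c30593c56e865526178970a546) (.leaf 0)) (.node (.leaf 0x2a8f037400012d16110606da123205f0512e330c539322049586) (.leaf 0)))))))))

/-- part of a table -/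
def entries52 : Trie := (.node (.node (.node (.node (.node (.node (.node (.node (.leaf 0x1cee35400001001a000500660cd705d52400c1f70296f1428049) (.leaf 0x8c126bf00002d9c491916fd06960433d17c87541387fc24d32d)) (.node (.leaf 0xf42558210100001367319f319e10458513480dd1413d80db025000) (.leaf 0))) (.node (.node (.leaf 0x3d68012b000109371b4f1b69184705101a6033614d026815670b) (.leaf 0x47de4106000145083e092d4d1af485d6322fc7333bb80412d28f)) (.node (.leaf 0x3eb9050700001f124297429618728530703434b35941a412d486) (.leaf 0)))) (.node (.node (.node (.leaf 0x1d13338f000004840e820e810ce18474f873f1cb38157d1497bd) (.leaf 0xaef19890001375c4e67256406d505f27b3a56802af58e428734)) (.node (.leaf 0x7140b92000119052a313ab806648491161db71b12970d33324d) (.leaf 0))) (.node (.node (.leaf 0x65408d500000e24271c271b06468490d621245c35c56028f149) (.leaf 0)) (.node (.leaf 0x426a4458000125e348c631471a2505568240303e2753bd000295) (.leaf 0))))) (.node (.node (.node (.node (.leaf 0x1128092f0000024507a907a808e30510df7f025f48274d1245be) (.leaf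 0x10c1399b000032244fe3365308d504357f54f4cf41c3022c7786)) (.node (.leaf 0x441a16df0000161c1254364f1a618552397cf7e85123bd0006de) (.leaf 0))) (.node (.node (.leaf 0xcc42e6d00010baa0a37216d083604948375e6cc4026e97b2734) (.leaf 0)) (.node (.leaf 0x13040b9e0001225e17a83a460a6404911669f76d40665e7d928f) (.leaf 0)))) (.node (.node (.node (.leaf 0x44dc0990000106d6151415131a748590e71443823a302754624d) (.leaf 0x441c0b6700013d3c253040ab1a618591122b91b80920485866de)) (.node (.leaf 0x16ea2b0400001bf83eca0e560ad70554401c36026421cc70a621) (.leaf 0))) (.node (.node (.leaf 0x495c2bdb000110b82c7d099c1c4485944e63a17673105e5fc7b2) (.leaf 0)) (.node (.leaf 0x13d80867000029933401434d0a768510ca26107d47d34415f537) (.leaf 0)))))) (.node (.node (.node (.node (.node (.leaf 0x451636a20001012c041804171a8184d53e1697d17fd67e156428) (.leaf 0x110e508c00012fc8133647ca08e105d7b96c27e81ae5bc41d55a)) (.node (.leaf 0x3ddc2818000014be3405010b18558593f63c46564f71781562cb) (.leaf 0))) (.node (.node (.leaf 0x23a6340f00000a6d1e68090a0ef204d5047382573e12f9335025)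 (.leaf 0x1d3c3bf300014a6f519853510ce28595ba2322575a84da3357bd)) (.node (.leaf 0xef743ad000020ac42ce4443089784f67269e2cd05177702518b) (.leaf 0)))) (.node (.node (.node (.leaf 0x60499105e0000105ac11d7032b1c5184308d28c4106af6be486124) (.leaf 0x1ce41fe00013a2b1ab25225047605d64664c13c34f4e168a6de)) (.node (.leaf 0x2f610e8800011a7a3cd8341b12e604316742e5ab2a955c7b2518) (.leaf 0))) (.node (.node (.leaf 0x4a604b4500000f6b29d529d41c660417322fd25748a03f113025) (.leaf 0)) (.node (.leaf 0x23eb4c72000027b53c3d4a380ef605774f2c069a33661368a7bd) (.leaf 0))))) (.node (.node (.node (.node (.leaf 0x4bc80c55000003620b1e01601c9505112c4dd28000e4206de2c7) (.leaf 0x46f71aed000034a42ee83a9d1ab784f2a1745146028147000335)) (.node (.leaf 0x48b538cc0001178c38831fc91c3384b56c66709d73b1ea786049) (.leaf 0))) (.node (.node (.leaf 0x4dd6069600010ce41a4c24531cd484d09b41916c57a08e2ab15f) (.leaf 0)) (.node (.leaf 0x3f8e35940000241b1f134775189105d52b2e63995484a151832d) (.leaf 0)))) (.node (.node (.node (.leaf 0xbc542c2000108060273185006f404b65b17e6ef0187f970b28f)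 (.leaf 0x316e4397000140e94ca714e3144605d67141a62d25c1e828f149)) (.node (.leaf 0x58b513700001d8440c040bf04f20577c72095df0b764d70b55a) (.leaf 0))) (.node (.node (.leaf 0x4c024ec30000120f2f1c2f1b1ca104578e1d46c31634c573441d) (.leaf 0)) (.node (.leaf 0x1fb546f900002b9a4cc14cc00e5584b6c84fd5a22c510e537124) (.leaf 0))))))) (.node (.node (.node (.node (.node (.node (.leaf 0xa821f4c000000a10244024306d20453166117b45e43b82ab149) (.leaf 0x3eb252cc00002eb519834e5d18728457eb6fc25d48d6b8546537)) (.node (.leaf 0x444a19d900011411084617941a6405528545e35659358b12d28f) (.leaf 0))) (.node (.node (.leaf 0x31b31540000109d21cf21cf1145384720f0464234753ef537335) (.leaf 0x2c683b240000476c2f4750e412660515a131f61243c55c7b2518)) (.node (.leaf 0x25b3156b00001fe743770203105384721272922d42e3d5025546) (.leaf 0)))) (.node (.node (.node (.leaf 0xfac350e000105181031103008b305951e7965a30a02f341d333) (.leaf 0x26ed1237000138c24dea502f107605b1c64f95c651c3447b2518)) (.node (.leaf 0x32e71cf1000119bc3a071678147704f2d026910730517b2cb5fc) (.leaf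 0))) (.node (.node (.leaf 0x2e0d450300010ec42876287512c105b69121e45a15e72c70a000) (.leaf 0)) (.node (.leaf 0xeee27b4000026c949854984089705d3e942a79852260a02518b) (.leaf 0))))) (.node (.node (.node (.node (.leaf 0x461f2bad000002d3096509641aa185f44a6d13ce53b7b6000295) (.leaf 0x47ad18f90000336350424d291af305b26f28b10720d4015865be)) (.node (.leaf 0x276c37ef000116d81ac7376d10a70595587f022d69f4a2124546) (.leaf 0))) (.node (.node (.leaf 0x15b53ca700010c4803d422ec0ab384b5cd39a14607637b180333) (.leaf 0)) (.node (.leaf 0x3cdc0549000023393d732f8018348590776575fa43079012d113) (.leaf 0)))) (.node (.node (.node (.leaf 0x463a1c2e00010770168a16b71aa28552bf6f611e3971e412d734) (.leaf 0x51291a9000003f062c343d881e8205329702d2117cd03b5be70a)) (.node (.leaf 0x4a2530bd00011cc33fd73fd61c6204b4b953e69a46704a3337bd) (.leaf 0))) (.node (.node (.leaf 0x1e1421c4000111622dcd2dcc0e2484935b1dd3876f33fc3337b2) (.leaf 0)) (.node (.leaf 0x1ec848ba00002a8a4bd53e150e360516f26fd41071a1a0113124) (.leaf 0)))))) (.node (.node (.node (.node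 (.node (.leaf 0x29274e33000101b7007805e310e204f77d24937f56634d7d9156) (.leaf 0x20e031d2000130e74f654b7e0e960414ce04250c4f571324d2c7)) (.node (.leaf 0x23903e2b000115600ecf352e0ef18415eb569257791202149025) (.leaf 0))) (.node (.node (.leaf 0xaad212100010b0e1fec1feb06d305b34b19817200843b32d335) (.leaf 0x3ca50a9c00004dde53ed0d4a183304b1006163f50a0401000333)) (.node (.leaf 0x2cd208be0000218d2d4240d912758450d47af10c6e85ff41d156) (.leaf 0)))) (.node (.node (.node (.leaf 0x2ea31f2c000106411373137212d30473136462eb7ba2d970a12d) (.leaf 0x7b453bb00003bb152504d89067584980356971167f203149486)) (.node (.leaf 0x5294495700011b373dd33a611eb18497004d518213a1cd21441d) (.leaf 0))) (.node (.node (.leaf 0x53a52ddd000110112b3016851ed304b47559a4fb7823cb32d049) (.leaf 0)) (.node (.leaf 0x22063ec9000128a70ed841da0ec104d5f962227f7b317432d262) (.leaf 0))))) (.node (.node (.node (.node (.leaf 0x314b2381000003f30ccf0cce14440573850c65010526c55fc68a) (.leaf 0x10704528000135e515d94e3f08c78416942ec74460461970a70b)) (.node (.leaf 0x36bd2e570000184439a639a5163385b4825174f256532b214621)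 (.leaf 0))) (.node (.node (.leaf 0x421467000010d851c910e7704c30436bc0300b406f62f428333) (.leaf 0)) (.node (.leaf 0x3dfe41cf000025023f3e330e185785d64379d37621620e518621) (.leaf 0)))) (.node (.node (.node (.leaf 0x76069132e50000089e19e519e406548434e94bc5733261775be68a) (.leaf 0x21c00b1f000042cd519a520c0eb404110a6d20813207f970b7b2)) (.node (.leaf 0x1d0d45f900001e4a41ae25b10ce105b6ab5692570d92031497bd) (.leaf 0))) (.node (.node (.leaf 0x6bc51f8000112bc05fe305906558597d54c32d26675626de734) (.leaf 0)) (.node (.leaf 0x44f4f1000012ca010cc3d6504c405f7950075f738b29818b113) (.leaf 0)))))))) (.node (.node (.node (.node (.node (.node (.node (.leaf 0x22e541640000005d015601550ed704b63d19809d4f81ee32d049) (.leaf 0x309c1dae00002e2749cf030914328592e278e00677504a3332cb)) (.node (.leaf 0xe3e3db7000113bb065723ba088385d5e32a931705c7187bd2ab) (.leaf 0))) (.node (.node (.leaf 0x41bf29ff000109871c2e158618f385f4277b328426b4e25865be) (.leaf 0x299e200f00004633466035cf10f185d3267ee1ef7a55ff41d156)) (.node (.leaf 0x3e12423800011f803c120c2c186184564b3dc5df59a4e258655a)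 (.leaf 0)))) (.node (.node (.node (.leaf 0x159d177d000004cf0d350f5b0ab185b2496947d21140bf262295) (.leaf 0x1fed0eaf00013819174c51ad0e5705b1696d338419f56255a049)) (.node (.leaf 0x183f4f690001195e28d03b430c2585f79d38f6dd74f60021441d) (.leaf 0))) (.node (.node (.leaf 0x33f302f200000e7127c727c6149784704438d7982764636de2ab) (.leaf 0)) (.node (.leaf 0x4cc800f20001266049251b501cb40510161af0815c05433357b2) (.leaf 0))))) (.node (.node (.node (.node (.leaf 0x292f45aa0001028b0886088510e205f6a457a6d61574b17d9156) (.leaf 0x49a42739000032c3207950111c530493df4084d47f44646de7d9)) (.node (.leaf 0x345d04650001167f36e336e214c485b0661fb5ac0965742ab113) (.leaf 0))) (.node (.node (.leaf 0x3dc404d600000bf622262225185504906d3364121143da1562cb) (.leaf 0)) (.node (.leaf 0x46ad3024000022cb464446431ab205b4ac3ae01d27e1a4546214) (.leaf 0)))) (.node (.node (.node (.leaf 0x34a92f6d000007240e6415e514d205349a7eb3ce06657418b295) (.leaf 0x13f6332500003e1d4e8b09f30a7784d4f03e728e7704de1245be)) (.node (.leaf 0x33fb35fd00011c633f492832149785753166d8077c35806de2ab)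 (.leaf 0))) (.node (.node (.leaf 0x2eac52a30000110b13ca2d1f12d30597e71812357f43022c712d) (.leaf 0)) (.node (.leaf 0x4a1c05b200002a0e155f33c41c618590861ac3807017837347bd) (.leaf 0)))))) (.node (.node (.node (.node (.node (.leaf 0x5138180400010171006404fd1e828512562762a27274765fc70a) (.leaf 0x1d073c9a000030591ca83b5b0ce104f5cc5313cc5a4154295025)) (.node (.leaf 0x4d0b19b200011510349818b31cc205728108634c13d61818b41d) (.leaf 0))) (.node (.node (.leaf 0x2131215f00000abd1f291f280ea28433507634107cc075621124) (.leaf 0x21a7203c00014c1c4d7c4dca0eb204f32f644319133755621124)) (.node (.leaf 0x1a92338c0000212244a824180c918454f85f328038117f6de70a) (.leaf 0)))) (.node (.node (.node (.leaf 0x527f0fc1000105f6110b12a71ea685f18f1e77243cd613113124) (.leaf 0x37f522000013ae34069310704a785f7da02f4f252960021470b)) (.node (.leaf 0x1176190100001ad93d613d6008e684d2710324b33db4987b2486) (.leaf 0))) (.node (.node (.leaf 0x29625da00010fc02a8021a6049284d3bc58775c2992fa5fc32d) (.leaf 0)) (.node (.leaf 0x1c4c4a3b0001282f414f4a930cc405971a49951650458f2ab15f)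 (.leaf 0))))) (.node (.node (.node (.node (.leaf 0x285f1a51000003ac0bfa0bf910c585f2900a13343dd3042c7000) (.leaf 0x31b552510000354944f71b52145384b7e012e0b4313781486335)) (.node (.leaf 0x3069012c000017ec0817391a142705301a66f3610bb26714970b) (.leaf 0))) (.node (.node (.leaf 0x37fb107f00010d3204132500165685719e7ea3ba2930cf24d295) (.leaf 0)) (.node (.leaf 0x516e49b30000248c47ca12271e8605d70e41a2117271e828f70a) (.leaf 0)))) (.node (.node (.node (.leaf 0x426d331b00000850191b02dc1a2505b4ee4ce6511b5401586295) (.leaf 0x2e901e0000141dc41871077049705302c1f438a5226f853718b)) (.node (.leaf 0x194d0d3c00001de5413341320c4605b14061f1046615cb24d41d) (.leaf 0))) (.node (.node (.leaf 0x356427440001126805e02fb814e60493e01215bf72a03f1136de) (.leaf 0)) (.node (.leaf 0x37124a7500012c194d041c0b16418457203db2d24964cc6de734) (.leaf 0))))))) (.node (.node (.node (.node (.node (.node (.leaf 0x16480c39db000000e6032e032d1c220595876834d879644b70b262) (.leaf 0x23d41bca00002f3e4ea14ea00ef58492b930e3cc5b56352147bd)) (.node (.leaf 0xfcc4f790001146133640b7c08b405979e4885af73d3b104968a)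 (.leaf 0))) (.node (.node (.leaf 0x4351051f00010a1f1db31db21a458430716c443156479f518786) (.leaf 0x1c714547000048c92bd133f30cc784369d55229e72d0cc4287d9)) (.node (.leaf 0x827296a0001204343db354a068304f41545f68b10546355a2ab) (.leaf 0)))) (.node (.node (.node (.leaf 0x3a0f480a000105611101110016c105f6e164e3b622a48c32d734) (.leaf 0x4bfc324300013973371b39581c968594db20d6988065cb28f70a)) (.node (.leaf 0x4b750f2900001a203c533c521c8684b17556c6783961ab28f2c7) (.leaf 0))) (.node (.node (.leaf 0x12d353d900010f16292b292a0a368478065e33b336d5a77b2734) (.leaf 0)) (.node (.leaf 0x10b71cde0000274649e349e208d384f2ce7941a719a1cc70a621) (.leaf 0))))) (.node (.node (.node (.node (.leaf 0xc4431890001031a0a440a4308260494c74f92d22963447b2734) (.leaf 0x3f412fcf0001340d21cf4db218850434a46634905d614d156428)) (.node (.leaf 0x431e143e0001172f340036d61a4185d1f976257160647a156786) (.leaf 0))) (.node (.node (.leaf 0x345427200010c9723a01a6b04a604b6520807f266518a113786) (.leaf 0)) (.node (.leaf 0x4c964136000123a3416e47061cb184d6384e418341b54a214180)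 (.leaf 0)))) (.node (.node (.node (.leaf 0x4c134959000007b91780177f1ca18477005647881a5195214180) (.leaf 0x4cc24263000140041ce641a91cb404565056f07f2b723433315f)) (.node (.leaf 0x2c352f5c00001d202fc122d0126284b4995d764767c740049156) (.leaf 0))) (.node (.node (.leaf 0x276a3e01000011b516242e7410a70555e81a61e35b6242262546) (.leaf 0)) (.node (.leaf 0x80f2c3900002b0e4c6d2b7e068205f45567d4e86870135fc428) (.leaf 0)))))) (.node (.node (.node (.node (.node (.leaf 0x19473bb8000101fd06c306c20c4604f5b52a56c36d14ea28f180) (.leaf 0xa8a2136000131814fa423fa06d205534e3be7bc6502982ab149)) (.node (.leaf 0x16f50bb3000115c50e7435c90ad784b11921536133a72c2c7621) (.leaf 0))) (.node (.node (.leaf 0x4c1441b300010b5920ad20ac1ca18496421c03010d25ae734180) (.leaf 0x477c14650000507137d843791ae58591fc21f5bf21a7c45866de)) (.node (.leaf 0x367a238c000021f216b71570162785538560167549f54514970b) (.leaf 0)))) (.node (.node (.node (.leaf 0x47c10b380001068b144312c91af404310d5eb66654c29154624d) (.leaf 0x85317f00003c74447f3f59045404b4c66a65015301775fc68a))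 (.node (.leaf 0x3266379100001b9712b63e4f146704d5520662846111c87865be) (.leaf 0))) (.node (.node (.leaf 0x523e04f20000106218e218a81ea385d06f1fa2b06c157d149049) (.leaf 0)) (.node (.leaf 0x40df02cf0000291d4b374b3618b485f0407125ac10b1e454668a) (.leaf 0))))) (.node (.node (.node (.node (.leaf 0x4ba60dc80001043a0dac0dab1c9204d15544550c4c412a5be2c7) (.leaf 0x238b4fd40001369832a540080ef10577a71df3805b509f1497bd)) (.node (.leaf 0x37f222a3000118a83a333a32165684536f1053ba0854a324d295) (.leaf 0))) (.node (.node (.leaf 0x117542f200010dd426680bff08e684b66006025d03a0cb15f537) (.leaf 0)) (.node (.leaf 0x46650e8d0001256e366548701aa704b167551764162401586333) (.leaf 0)))) (.node (.node (.node (.leaf 0x514c18bf000008e91aa11aa01e8505926977b1b95d95626de2c7) (.leaf 0xfe628d5000043da4727487908b604d40734b7ff63273a15f214)) (.node (.leaf 0x8c2a0e00011eb10a8d2bdb04540594297f350123b1b15fc68a) (.leaf 0))) (.node (.node (.leaf 0x5b01ce50000130f30f430f304f38412cf36e28458a43d7865be) (.leaf 0)) (.node (.leaf 0x4b90065300002d17379a2b861c9184109628c50c5236be4862c7)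 (.leaf 0)))))))))

/-- part of a table -/
def entries53 : Trie := (.node (.node (.node (.node (.node (.node (.node (.node (.leaf 0x135a2c7c0000001b006800670a6685545b6302220d418e7b2486) (.leaf 0x138d010900002d9d24f549740a7405b01746b58348036b7d928f)) (.node (.leaf 0x80b3c240001136731a0239806820575c02e24902106b65fc32d) (.leaf 0))) (.node (.node (.leaf 0x18fc2d88000009381b6b1b6a0c378594704964fb32f203149049) (.leaf 0x17aa1ee10001450b50334e780af305530902b3287c22422625be)) (.node (.leaf 0x2e30400a00011f120ab1429812c384161a4737590a66d870a546) (.leaf 0)))) (.node (.node (.node (.leaf 0x45f12d54000004850e840e831a9784346d1e142605114d51818b) (.leaf 0x1776075e00013763517f1b370ae684d0ac7bf16646a2f17b2537)) (.node (.leaf 0x40c22285000019063ab91b0618b404536d3a20f753a1e454668a) (.leaf 0))) (.node (.node (.leaf 0x488a478900010e24271e271d1c320556d562b5a20ab22170b124) (.leaf 0)) (.node (.leaf 0x49a62566000125e42e6248c71c5304d3af3f800f0f646355a049) (.leaf 0))))) (.node (.node (.node (.node (.leaf 0x6a4fb80001024507ab07aa04470557a54a966c49c66e486335)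 (.leaf 0x497f4dbb00013224277c1a831c4685f77157e0ea4546d024d41d)) (.node (.leaf 0x4da4290b0001161c073830021cd304940b57c69706046c32d7d9) (.leaf 0))) (.node (.node (.leaf 0x415b40d600000bab0afc216e18e485762e36738206a7dc54624d) (.leaf 0)) (.node (.leaf 0x3a5222830000225f45d230e016c484536d3546e216203918b113) (.leaf 0)))) (.node (.node (.node (.leaf 0x2fb20f4e000006d71516151512f284517e7b962714e4b17d9156) (.leaf 0x210298a356f00003d3d30ee52bb10f10555277650b308c417180518)) (.node (.leaf 0x34d319a300011bf9377e19eb14d484727e18c5730a774c2ab113) (.leaf 0))) (.node (.node (.leaf 0x36a32198000110b905492c7e16330473575642a60e5195214621) (.leaf 0)) (.node (.leaf 0x331b2cbb0000299415542fa114828574604c27d13e512a5be32d) (.leaf 0)))))) (.node (.node (.node (.node (.node (.leaf 0x1d8e33470000012d041a04190cf105d4f31fa1ca50d57d1497bd) (.leaf 0x1257524d00012fc926a54ee50a2684f7df6302d273e30a7b2214)) (.node (.leaf 0x223b2c93000114be340734060ec285745e0fb3012c534a18b180) (.leaf 0))) (.node (.node (.leaf 0x7f5496900010a6d1e6a1e69067784b7015172846847832145fc)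 (.leaf 0x12294aec00014a7251cd52da0a2505372966003e2f51ec262149)) (.node (.leaf 0x18884d87000020ad3441066b0c3405176c4844ca7a724e3357b2) (.leaf 0)))) (.node (.node (.node (.leaf 0x28044ec2000005ad11d911d810c104978e1d035d6605c870a586) (.leaf 0x358d158e00013a2c3e0c24d914f105b2166e0166413265295486)) (.node (.leaf 0x2c514b4100001a7b09f23cd912658437320b55dc48a37b41d518) (.leaf 0))) (.node (.node (.leaf 0x522467300010f6b29d601e604e30456bc09928449e2477865fc) (.leaf 0)) (.node (.leaf 0x429a1dad000127b63e8d1e601a328552e27177ff77558b12d734) (.leaf 0))))) (.node (.node (.node (.node (.leaf 0x115c5275000103620b200b1f08e48597e33164b802d30d7d924d) (.leaf 0x4f52450000134a4282e3c9004d584b39a0d47ed28662f32d214)) (.node (.leaf 0x1f8146fd0000178d388433820e540436c86a65164f31775fc7b2) (.leaf 0))) (.node (.node (.leaf 0x324b406700000ce52454049514640576224893566292f062128f) (.leaf 0)) (.node (.leaf 0x4d503d0d0001241b47763a711cc48415d56a714a45161d2ab15f) (.leaf 0)))) (.node (.node (.node (.leaf 0xf5a4f7b000008071852185108a485579e5b35736e636a049113)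 (.leaf 0x1da1204000040ea40ce4dc804768551c30eb5bf0094e11136de)) (.node (.leaf 0x396f2ee900001d8540c1075f168705f48e46a7483bb58055a2ab) (.leaf 0))) (.node (.node (.leaf 0x416e222d0001120f2f032f1d18e505d3645701b82004e258655a) (.leaf 0)) (.node (.leaf 0x163e139f00012b9b413c4cc20ac385d1eb7ab5b15cf3d92c7621) (.leaf 0))))))) (.node (.node (.node (.node (.node (.node (.leaf 0x1ed537b0000100a1002a02450e3684b5540140da6170c568a124) (.leaf 0x14c026bb00012eb63cc72f7a0a950413d174375425817902532d)) (.node (.leaf 0x61c35be0000141232c832c7064485952d7c35d30a703b5fc113) (.leaf 0))) (.node (.node (.leaf 0x1ec146c9000009d31cf41cf30e360436c440b4103dc497113124) (.leaf 0x473f32950000476e50cb43f91ae385f4e32d607c2d11180005fc)) (.node (.leaf 0x513c40bf00011fe7437943781e8285962b8023fa48105e5fc2c7) (.leaf 0)))) (.node (.node (.node (.leaf 0x1c11108b000005190f4f0e840cc184319f3935a22d6236428262) (.leaf 0x147e3004000038c344d3044a0a8785d4aa0f368b5873d50252ab)) (.node (.leaf 0x3417475d000019bd1dae3bcd14c184f6d262257664505932d734)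 (.leaf 0))) (.node (.node (.leaf 0xb22111255100000ec5287828770ea18433ae0620ea52462878641d) (.leaf 0)) (.node (.leaf 0x1e1107ef000026cb4581241d0e248430b973d1b73a270d33315f) (.leaf 0))))) (.node (.node (.node (.node (.leaf 0x4de14de7000102d3093309661cd50437755120877f61ee32d262) (.leaf 0x3af61ae6000133635044504316d784d2a13601466e148c428335)) (.node (.leaf 0x4c665164000016d9376f376e1ca604d7ca4ad01124513768a124) (.leaf 0))) (.node (.node (.leaf 0x2aae048600000c4922ee22ed123305d0683c83656f766a262546) (.leaf 0)) (.node (.leaf 0x16192fd9000123390c6746a00ac18534a551052a25c78970a786) (.leaf 0)))) (.node (.node (.node (.leaf 0x2803d280000077116b916b804920415d75682283834045fc32d) (.leaf 0x52eb40d400003f0830c750591eb605762e2c031b39a39268a262)) (.node (.leaf 0x40b3227600001cc412fe2ac118b284736c4f35763911be546214) (.leaf 0))) (.node (.node (.leaf 0x4e6103a4000011632dce2bd21e2504305436e34c3c82e7786180) (.leaf 0)) (.node (.leaf 0x53c6491d00012a8b4c2f17b41ed404d6fb7374ca1c20392ab7b2) (.leaf 0)))))) (.node (.node (.node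 (.node (.node (.leaf 0x2643808000001b805e4026e048704955b39c6077f369c53718b) (.leaf 0x4e661a13000130e813074f661e2504d28a1282da0e33472cb180)) (.node (.leaf 0x378f037c00001561352f2da6165105f0515f37ed6064cc6de734) (.leaf 0))) (.node (.node (.leaf 0x872530153300000b0f1fee1fed104384120d2460c476763c02512d) (.leaf 0x4d2b264300004de4518c53af1cc30573c534f6977f458e32d7d9)) (.node (.leaf 0x37504f5b0001218e42c61600164484179a5755d32c84765fc68a) (.leaf 0)))) (.node (.node (.node (.leaf 0x53e4ccc000006421375137404e385d75a5c207c2d117b7865fc) (.leaf 0xe48266300013bb23a9b4c5508850513c81ed4e868e0db025428)) (.node (.leaf 0x8dc22c400001b383dd53dd406968593712512287d77f828f428) (.leaf 0))) (.node (.node (.leaf 0xb6451d000010120ebc2b31045584d6934e73b65b90ff6de734) (.leaf 0)) (.node (.leaf 0x2cee14af000028a820a04ae1127605d20171f0f51e949815f518) (.leaf 0))))) (.node (.node (.node (.node (.leaf 0x3093cfb000103f30cd10cd004a20535d453e7fa2c104a3332cb) (.leaf 0xccf3ed9000035e651193a15083605f5fb6ce06458930a15f214)) (.node (.leaf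 0x40912f7d000118441658325718b184349c64078f5c2026000149) (.leaf 0))) (.node (.node (.leaf 0x51322f7400010d8625be25bd1e8284549c1581b95d96b65be2c7) (.leaf 0)) (.node (.leaf 0xa1d015500012502481c29a306c285b01f29d35831d5b72ab149) (.leaf 0)))) (.node (.node (.node (.leaf 0x309b35230001089e158f04fa143285752221d41258c2343352cb) (.leaf 0xbbd0246000042ce274a162806f385b03235c25f5a61ea2cb5fc)) (.node (.leaf 0xa5d2c2d00011e4b41af19d506c485b4546845a964261d2ab113) (.leaf 0))) (.node (.node (.leaf 0x34fd36c2000012bd155a206514d785b5400d44875300de32d335) (.leaf 0)) (.node (.leaf 0x4b94262100002ca12f9e4d3b1c918493c30ed69880633e48670a) (.leaf 0)))))))) (.node (.node (.node (.node (.node (.node (.node (.leaf 0x2cfc03e20001005d0158015712768590582ce10c2ec0cb15f156) (.leaf 0x57e522d00002e29154d388504e585d7da73e4b3548247786486)) (.node (.leaf 0x1bef3548000013bc1a82323b0cb705f5242b21f745e25a2cb049) (.leaf 0))) (.node (.node (.leaf 0x20c73781000009881c2f191f0e9504f55105527d4f52275372c7) (.leaf 0x30c90ecb0001463753b45230143605316b5a06567261a0113786))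 (.node (.leaf 0x428a025100011f81226442ff1a3205503310872566f6b812d214) (.leaf 0)))) (.node (.node (.node (.leaf 0x26322f57000004d00f5d0f5c10628454993b23270f24f4049518) (.leaf 0x37cf27040000381a21110e22165405f3db4345f76346b65be113)) (.node (.leaf 0x394605a50000195f0d6933ba168604d0852a57d127c4a328f428) (.leaf 0))) (.node (.node (.leaf 0x1556089e00010e7127c804e90aa484d0d277e5d32c87077d968a) (.leaf 0)) (.node (.leaf 0x1fee310200002662492749260e5705d4be38d4fb5ba4186de7d9) (.leaf 0))))) (.node (.node (.node (.node (.leaf 0x4911d5d0000028c0888088704d28432db62966815145018b149) (.leaf 0x35d202f9000032c44313038b14f484504460476a1da4b533524d)) (.node (.leaf 0x32fd28750000168008cb1251147785b3ff2bb3ee6a71ea7865fc) (.leaf 0))) (.node (.node (.leaf 0x5a03ae600000bf70bdf222704f304159d27e5e21b379c7865fc) (.leaf 0)) (.node (.leaf 0x2ed42d51000122cb0c3a464512d584946d0f230c7966d82c7000) (.leaf 0)))) (.node (.node (.node (.leaf 0x4c77328700010724021b15e61ca684f4e033b0875aa3c7113262) (.leaf 0x13080e0700013e1f52dd35cb0a6405115b3bc37453230d7d924d))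 (.node (.leaf 0x21f922d500011c6439273f4a0eb78533723291853311ea2cb049) (.leaf 0))) (.node (.node (.leaf 0x51f3174a0001110b05f609ae1e968472444fe50c6936d024d70a) (.leaf 0)) (.node (.leaf 0x14be351200002a0f16801a700a9385d51f06138a20c7777bd18b) (.leaf 0)))))) (.node (.node (.node (.node (.node (.leaf 0x2205cb4f3e0000017204ff04fe04f40577977b01fd08f23170b28f) (.leaf 0x50a541770000305a25e24f271e7204b63e3d43d351c24e3337bd)) (.node (.leaf 0x7344d070001151106d53499066584976024c2223182d7295486) (.leaf 0))) (.node (.node (.leaf 0x1a30bad00010abd1f2a107c04750471177096cf7e12b6149486) (.leaf 0x349503900014c24448f513c04a60537af49469262e0c51132cb)) (.node (.leaf 0x13171dff000121223e8644a90a6484f2ec7c74b86a034d7d928f) (.leaf 0)))) (.node (.node (.node (.leaf 0x46450f7b000005f712a912a81aa404b1875eb01e19629154668a) (.leaf 0x47542d6600003ae52c1023bd1ae484946e1443820e402754624d)) (.node (.leaf 0x2b6f2f1b00011ad92e0b1b85124705f49266b7594663d5025546) (.leaf 0))) (.node (.node (.leaf 0x16aa212c00000fc129fa29880ad305534b7683ed4613d970a621)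 (.leaf 0)) (.node (.leaf 0xf5d0ee0000028313fc043be08a485b16f1656e253e32e7d9113) (.leaf 0))))) (.node (.node (.node (.node (.leaf 0x84c09e4000103ac010a0bfb06860590ee1002ef79a7fc24d32d) (.leaf 0x3b0117f90000354a3baf37b416e104325546d398643203149486)) (.node (.leaf 0xf0d5294000117ec0d0c04f508a105b7e63f366805374d124295) (.leaf 0))) (.node (.node (.leaf 0x999395b00000d332502250106b285357a4d17f249d50a3352cb) (.leaf 0)) (.node (.leaf 0x2280c790001248d392347cb048305112f4c84ef02256255a2ab) (.leaf 0)))) (.node (.node (.node (.leaf 0x228a4fd200010850191d191c0ed10557a70e74d85c448c428262) (.leaf 0x242647c8000041dd30863ea7102304d6db45455675a67726212d)) (.node (.leaf 0x1980254e00011de6220d41340c540413ad6884ca2fc1775fc7b2) (.leaf 0))) (.node (.node (.leaf 0x276d05c1000012692fba2fb910a705b0880d239e35955f124546) (.leaf 0)) (.node (.leaf 0x3f8c23b800002c1b3a28173d189105938b4b20cd5f53da156428) (.leaf 0))))))) (.node (.node (.node (.node (.node (.node (.leaf 0x35064bb5000100e60330032f14e104d73d2af222138207295537) (.leaf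 0xcc0451900012f3f2a99420b08360416934152d273e55c7b2214)) (.node (.leaf 0x31e024770001146233663365145604139c3c07b410371324d295) (.leaf 0))) (.node (.node (.leaf 0x3b3e329600000a201a631db416e385d4e336407c20c4c57345fc) (.leaf 0x4eb65254000048ca2e24455d1e3384d7e022a6970df25a786049)) (.node (.leaf 0x3a6d18b9000020441ca643dc16c705b2695523f16831ee428333) (.leaf 0)))) (.node (.node (.node (.leaf 0x14134f4d00000562110311020a818477995fb2ef6df60a02532d) (.leaf 0x1e1c458c000139754a5934680e248596a17362a419f04a3337b2)) (.node (.leaf 0xb4626a200011a203c5421b206e404d3cf2bf6ef05164d70b24d) (.leaf 0))) (.node (.node (.leaf 0x39c01c0600000f17292c08f316960412bd3c039929937924d32d) (.leaf 0)) (.node (.leaf 0x1b76186800012747316a02de0ca784d26058921372d40d7867d9) (.leaf 0))))) (.node (.node (.node (.node (.leaf 0x33d611d00000031b0a0f0a45149684d1c002243744d0cf24d32d) (.leaf 0x3f233b190000340e314a3d3518830475a048f2797c220e51818b)) (.node (.leaf 0x358a4509000017300aaa37ff14f105569162e07d3e509f149486) (.leaf 0))) (.node (.node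 (.leaf 0x11ff09fa00000c9823a11ce208f685f0ef51f7723892d87b2486) (.leaf 0)) (.node (.leaf 0x13820591000023a4470847070a740450840d76666a734d04928f) (.leaf 0)))) (.node (.node (.node (.leaf 0x476e3848000107b9024a17811ae505d56457913c43e47c0006de) (.leaf 0x284b4cab0001400548290b5b10c505775369070840e5132c7586)) (.node (.leaf 0x22f51a2200001d21404a40490ed784b28b0926974cd0cc32d7d9) (.leaf 0))) (.node (.node (.leaf 0x10d42457000011b617782e7508d584939a4f00067751112c72cb) (.leaf 0)) (.node (.leaf 0x10dd29ef00002b0f40b24c6e08d585b42476b0060211452c72cb) (.leaf 0)))))) (.node (.node (.node (.node (.node (.leaf 0x3d632953000001fe06c506c418470474131f260270020e518621) (.leaf 0x443c05b00000318347e347ea1a628590861442223181a4546486)) (.node (.leaf 0x21e83949000015c635cb35ca0eb70515794024fb5ba6282cb7d9) (.leaf 0))) (.node (.node (.leaf 0x84d2e2800000b5a134620ae068605b47e3af4e82293de24d32d) (.leaf 0x4bdb324c0001507c40bf53fe1c958574db4e76981ed0ff6de70a)) (.node (.leaf 0x44950e98000021f3156d3e351a7184b16844279b19002658655a)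 (.leaf 0)))) (.node (.node (.node (.leaf 0x315e4db00000068c144401e1144485d7710515a95723465be68a) (.leaf 0x20b194b252400003c76521026b70c460573ab2d11823a14a328f41d)) (.node (.leaf 0x13001df500001b98197c18370a640412ec46b5832064d97d924d) (.leaf 0))) (.node (.node (.leaf 0x42f91aa20000106318a52bdc1a3585329910a6510e8048586149) (.leaf 0)) (.node (.leaf 0x247e03180001291e4b3842c3102785d0464aa55677e5ed18012d) (.leaf 0))))) (.node (.node (.node (.node (.leaf 0x99f41150000043b0dae0dad06b285f6333b472b4e42f93332cb) (.leaf 0x18403bb2000136994c6b335f0c260415b51b2724578497113124)) (.node (.leaf 0x4d680326000018a91a723a341cc505104c48d4105f043b428124) (.leaf 0))) (.node (.node (.leaf 0x38c0036200010dd5097a2669167404105017e6ef7c063b70b24d) (.leaf 0)) (.node (.leaf 0x44554b420000256f48710fc21a6484b7320b871b7a617a54624d) (.leaf 0)))) (.node (.node (.node (.leaf 0x17c91756000108e902ab1aa20af40532452ff37406b7407d924d) (.leaf 0x448e14d8000143dc216f204e1a7105d20637259c6227b600055a)) (.node (.leaf 0x4e121c5700001eb2421f38ce1e228452c329731b4536cd70b262)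 (.leaf 0))) (.node (.node (.leaf 0x127524600001130f30f52fc20a2784b39b0b57dd1fe6fe41d335) (.leaf 0)) (.node (.leaf 0x475d134900012d1747bc23a21ae485b1df3a738206a29154624d) (.leaf 0)))))))))

/-- part of a table -/
def entries54 : Trie := (.node (.node (.node (.node (.node (.node (.node (.node (.leaf 0x25a2273a0001001b006a006910530453df42a0c45532e4025546) (.leaf 0x1582077900002d9e418c1d590ab10450ae3c845c4f72df262149)) (.node (.leaf 0x10a7205c0000136831a231a108d304f33242276606f1cc70a621) (.leaf 0))) (.node (.node (.leaf 0x4d0c15d6000109391b6d1b6c1cc205921d2e56c36e761d2ab41d) (.leaf 0x3bea1c480000450e43734ab416f60552c15cf1b82ca39268a6de)) (.node (.leaf 0x182136ba00001f13429a42990c2504353f5172f2224783214180) (.leaf 0)))) (.node (.node (.node (.leaf 0x4d32b16000104850e860e8504d48474411845ac4846182ab113) (.leaf 0x1526082600003765510251800aa304d0be3eb3e41935ed41d335)) (.node (.leaf 0x1056399a000119062ded3aba08c584d57f45b0c304c5132c72cb) (.leaf 0))) (.node (.node (.leaf 0xd3d128f00000e2520bb271f086585b1d17965df2d065341d55a)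 (.leaf 0)) (.node (.leaf 0x27c40165000125e60d9848c810b604902141535d4ed0cb7b2586) (.leaf 0))))) (.node (.node (.node (.node (.leaf 0x1d28492e0001024607ac01190ce20516fc6a2380169543333025) (.leaf 0x11931e9c0000322646b726f808f18472ff5aa59c1bf13241d6de)) (.node (.leaf 0x17700e260000161d365004350ae684115e26107d7a334415f537) (.leaf 0))) (.node (.node (.leaf 0x166e193f00010bab2170216f0ac705d2747be6755901cc2c7621) (.leaf 0)) (.node (.leaf 0x24b21ff200012260315f3fe9103384532522f1e342e78d262546) (.leaf 0)))) (.node (.node (.node (.leaf 0x3ffe29a5000106d714ef1243189785d41c3e12ea7ec4a151818b) (.leaf 0x1e1a4cb700013d40436f4ca90e2485575621d1763aa2503357b2)) (.node (.leaf 0x484e439200001bfa302a3bd21c2405d6711a914b5c064d6217b2) (.leaf 0))) (.node (.node (.leaf 0x4c9c0564000010ba2c802c7f1cb18590792332da13d1cd73441d) (.leaf 0)) (.node (.leaf 0x524405ae000129944b864b851ea40490857000fd01050a33515f) (.leaf 0)))))) (.node (.node (.node (.node (.node (.leaf 0xd7a4be60001012d041c041b08678557413710f42be4de1245be) (.leaf 0x33c5337300002fca22ec2ec5149604b4f71e543717156024d428))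 (.node (.leaf 0x36cb1494000114bf2565340816360572002c07fa3e061368a786) (.leaf 0))) (.node (.node (.leaf 0xf404c4d00000a6e1e6c1e6b08a404174a73113452b69b049113) (.leaf 0x1872263e00014a784c1a4a680c278453c473f14c3a757d149049)) (.node (.leaf 0x40ea3929000020af2608444418b70555775d87646837b6586333) (.leaf 0)))) (.node (.node (.node (.leaf 0x334e2223000105ad01a711da148605d3640680c16820d828f428) (.leaf 0x46210d4500003a30265f2a681aa204314236968020b3e6546734)) (.node (.leaf 0x43ba2e5d00001a7c3cda0ac91a538554827564f21c44a1156621) (.leaf 0))) (.node (.node (.leaf 0x31bc2e5900000f6c1b7429d714538594825a50b41c433e486335) (.leaf 0)) (.node (.leaf 0x3f602f4d000027b84a39398218870414965e074843479f1562ab) (.leaf 0))))) (.node (.node (.node (.node (.leaf 0xa424855000003630b220b2106c40456e730542d59752018b68a) (.leaf 0x16892c3d000034a6402e3c5e0ad10534557a905f5e81452c72cb)) (.node (.leaf 0x50be05040001178d388514f01e7285d070259380741234333025) (.leaf 0))) (.node (.node (.leaf 0x3290c7100010ce52456245504a305312f10f74431108a14970b)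 (.leaf 0)) (.node (.leaf 0x508a29760000241c2a2343e81e710554190e80124734c52147bd) (.leaf 0)))) (.node (.node (.node (.leaf 0x434709dd00010807026218531a4504f0ed7524125f620e156786) (.leaf 0x4e352678000140ea1da92c741e2384b3c939d08942e6287867d9)) (.node (.leaf 0x15ca2b0600011d852ab0082d0ab40554403700f72556ed04968a) (.leaf 0))) (.node (.node (.leaf 0x412a264b000012102c8c2f1e18e30553c56dc28449e7b65865fc) (.leaf 0)) (.node (.leaf 0x48a234c300002b9c4cc327191c330455192b21f744c40d2cb7d9) (.leaf 0))))))) (.node (.node (.node (.node (.node (.node (.leaf 0x2c9d25e0000000a202470246127185b3be02310c648435262156) (.leaf 0x44642daa00012eb711d84bcd1a670494724ce25f3491645865fc)) (.node (.leaf 0x461a40b10000141332c91b7c1aa185562b1537bc8004e2000149) (.leaf 0))) (.node (.node (.leaf 0x389a481a000109d318511cf516718556e353b6cf38e40d786486) (.leaf 0x7c83f9700004773501e1a71067605160f40b59c62221811355a)) (.node (.leaf 0x1fb3236600001fe8322303b00e558473811b07030bc2a7486124) (.leaf 0)))) (.node (.node (.node (.leaf 0x13444d08000105190f7310320a660497602b14b30923c17b2537)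 (.leaf 0x31c44e2a000138c319364b72145404977b5685af73d05e5fc68a)) (.node (.leaf 0x5863d2d000119be3bcf3bce04f204d5d77b03d05d623170b6de) (.leaf 0))) (.node (.node (.leaf 0x2e5337c500000ec6287a287912c58475553ec5f87f74d62c7000) (.leaf 0)) (.node (.leaf 0x4b5f3be3000026cd3f423e5e1c8585f5b91382f84e50ff55a70a) (.leaf 0))))) (.node (.node (.node (.node (.leaf 0x2bdc0728000002d40968096712558590a84dc3120d2179025000) (.leaf 0x1a013c9900003364422750450c810435cc4c86783102b555a70a)) (.node (.leaf 0x5642a27000116d93771377004e504942b3f947f45643d2cb486) (.leaf 0))) (.node (.node (.leaf 0x5191446700010c4903c522ef1e918436834fd2415fb0ba5372c7) (.leaf 0)) (.node (.leaf 0x36826660000233a46a246a104a70513c84d53ed0bb75021470b) (.leaf 0)))) (.node (.node (.node (.leaf 0x4c221f270000077216ba00511ca304531348e1f77ba09f2957d9) (.leaf 0x2e06038500003f0b4819120e12c104d05231e30c2c45132c7586)) (.node (.leaf 0x2e5a2a5d00011cc425f7368c12c585542f7415f813f2d92c7000) (.leaf 0))) (.node (.node (.leaf 0x17841ba1000111632dcf2a610af10492b70b57e84fd37b41d6de)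 (.leaf 0)) (.node (.leaf 0x2f600f7300002a8d4c3041ee12e60411872b164752330b7b2518) (.leaf 0)))))) (.node (.node (.node (.node (.node (.leaf 0x3c483a8a000101b805e605e518240515955ee42d2163f412d113) (.leaf 0x404815ce000130eb1308483418a405121b6f35505571a412d113)) (.node (.leaf 0x2d962e7f0001156106f0188412b284d4847c73302c43227d9586) (.leaf 0))) (.node (.node (.leaf 0xa964f4500000b101ec21fef06d284d7992646515642982ab149) (.leaf 0x410f18ed00014dee351a51c618e205f26d6761660a81be546537)) (.node (.leaf 0x1884431a0000218f37382af00c3404966343008177929c33515f) (.leaf 0)))) (.node (.node (.node (.leaf 0x126b45560001064201d513760a2705769e3eb3e40a778b41d333) (.leaf 0xaf946b000003bb44d5504b606d58536c205035342f46c32d214)) (.node (.leaf 0x48d20f0800011b3817f520c11c3484517149a2a43b522c70b7b2) (.leaf 0))) (.node (.node (.leaf 0x2a1f03d200011012050e2b32122285f0571c27572207477d9586) (.leaf 0)) (.node (.leaf 0x14bb490e000128a84ae2220c0a938576f764a4265193d57bd2ab) (.leaf 0))))) (.node (.node (.node (.node (.leaf 0x3eb30e9b000003f40cd30cd218728471684f33a84bb1be546537)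 (.leaf 0x7200b96000035e742741f8c0665041116362739465265149486)) (.node (.leaf 0x1f8723620000184539a839a70e5404f3810bd0fd7120135be7b2) (.leaf 0))) (.node (.node (.leaf 0x49e14e2e00010d8725c025bf1c5604377b7c80ea2c456024d41d) (.leaf 0)) (.node (.leaf 0x52d3063e000025033d761a071eb48470937e51202db1a23337b2) (.leaf 0)))) (.node (.node (.node (.leaf 0x13ed010e0000089f19e719e60a7705b01774a03d2630b21245be) (.leaf 0x21191ea1000142cf2c8947f00ea18533031670725e143d78641d)) (.node (.leaf 0x1403241a00011e4d0a613a300a810473945660c12ca60a02532d) (.leaf 0))) (.node (.node (.leaf 0x1578198b000112bd305b305a0aa685127b5537ff75329415f214) (.leaf 0)) (.node (.leaf 0x34c80c5f00002ca34d4b06e914d405112c7eb42d20557418b113) (.leaf 0)))))))) (.node (.node (.node (.node (.node (.node (.node (.leaf 0x46b6071d0000005e015a01591ab284d0a76f611e53d1be12d214) (.leaf 0x2a670c6600012e29118e4e1a122704f12e42475945177a41d546)) (.node (.leaf 0x26572331000113bc117a323c106584f37c01c75877f5ff180156) (.leaf 0))) (.node (.node (.leaf 0x44da123e000109881c3016c21a748551c67177337736b812d24d)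 (.leaf 0x210a4a12000146394a7447a20ea10557170a26c34332472cb41d)) (.node (.leaf 0x331938ed00001f8243014300148285356f72f76e4e71b15fc428) (.leaf 0)))) (.node (.node (.node (.leaf 0x9370417000004d10f5f0f5e06a384f06060167519a04b149621) (.leaf 0x2ebe13740001381b51ae4b5312d385d1e726c75967376170a546)) (.node (.leaf 0x21c142a60001195f3b453b440eb40436581620fd71223f70b7b2) (.leaf 0))) (.node (.node (.leaf 0x46091a9b00000e7227c90dd51aa105329763d62d192026586149) (.leaf 0)) (.node (.leaf 0x2ce539c40000266324654928127604b58531f6126e80cb7b2156) (.leaf 0))))) (.node (.node (.node (.node (.leaf 0x1e5625320001028c088a08890e2684d3ac3114103dc287113124) (.leaf 0x1ceb45ea000032c5213f14570cd70576a82f60c85dd48c4287d9)) (.node (.leaf 0x15383b0f0001168036e536e40aa385159f78a7a209c27a41d333) (.leaf 0))) (.node (.node (.leaf 0xc744c0e00010bf72229222808278497437965a35de2f341d333) (.leaf 0)) (.node (.leaf 0x35b529b4000022cc4647464614f384b41e23328e0747837345fc) (.leaf 0)))) (.node (.node (.node (.leaf 0x2f4f1b8f0000072515e815e712e505f2b27da6275fd242124518)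 (.leaf 0x389252c100013e204b2252de16718457eb099711393247786486)) (.node (.leaf 0x8e227aa00001c652d183f4b06970453e85d678508d66e5372ab) (.leaf 0))) (.node (.node (.leaf 0x219d01b70001110c2d212d200eb185b0293f92da80543d2cb41d) (.leaf 0)) (.node (.leaf 0x9c414a00012a0f40543a3504548596394bc5736d20e25be113) (.leaf 0)))))) (.node (.node (.node (.node (.node (.leaf 0x30711690000101720501050014278432300214f24e60c229570b) (.leaf 0x3bbe3cdb0001305a4f280ff416f385d5d15b84791ad32a7345be)) (.node (.leaf 0x48ab1d0d00001512349a315a1c330572d15401f76d417b2cb7d9) (.leaf 0))) (.node (.node (.leaf 0x51d4174700000abe1f2c1f2b1e9584924440850c4c64a66de70a) (.leaf 0x32eb03e700004c2535f95362147705705854011d2e53472cb5be)) (.node (.leaf 0x8a20ce400012123417d44aa069304513938d7981f64636de2ab) (.leaf 0)))) (.node (.node (.node (.leaf 0x16c027a5000105f712ab12aa0ad50413e84397f26321452c72cb) (.leaf 0x1a272d7900003ae836f0524b0c8204f46f5222a24b73465fc70a)) (.node (.leaf 0x3ca733dd00011ada3d633d62183304f4ff5d87641e77b7586335) (.leaf 0)))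 (.node (.node (.leaf 0x6d9353a00010fc11ef7168306568535235ca7d25401ab28f149) (.leaf 0)) (.node (.leaf 0x434007c00001283137cf19121a450410b70d94cf1d479f518786) (.leaf 0))))) (.node (.node (.node (.node (.leaf 0x1e8a0ea9000003ad0bfd0bfc0e340551695904ca2ee23433515f) (.leaf 0x492d04020000354b177650e81c4305b05c1bb69778c46455a7d9)) (.node (.leaf 0x1f6107eb000017ed391b013f0e470430b951114c6764206de7d9) (.leaf 0))) (.node (.node (.leaf 0x18bf4d8500010d332503141b0c3585f76c20a2f2315195214180) (.leaf 0)) (.node (.leaf 0x3db01ff60000248e47cc25cf18538413253c41a7535178156621) (.leaf 0)))) (.node (.node (.node (.leaf 0x2517531f00000851191f191e104184f7f37d530040060a7bd000) (.leaf 0x2e7534b6000141de4b4e2b1812c784b5174737591655c870a12d)) (.node (.leaf 0x3a233d8500001de741352be916c20475de40f3ba2c608e18b295) (.leaf 0))) (.node (.node (.leaf 0x1a4b0009000112692fbc2fbb0c850570014fc2f81e16644862c7) (.leaf 0)) (.node (.leaf 0x384e098600002c1c36414927166405d0e632637453222c70b24d) (.leaf 0))))))) (.node (.node (.node (.node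 (.node (.node (.leaf 0x1a980cc8000000e7033203310c918511362382b475246455a2c7) (.leaf 0x92c43bd00002f4149d32a8206a30596737225b121726714970b)) (.node (.leaf 0x48bb42eb00011463336833671c3385765f5773840be3472cb049) (.leaf 0))) (.node (.node (.leaf 0x40e21a8200010a2012d51db518b70452961333e46d24e2586333) (.leaf 0xf012f2d000048cb50c94ffa08a10434937f062d4364a2124149)) (.node (.leaf 0x15e81757000120440b332cd60ab605124531f3b62af0cb7b2734) (.leaf 0)))) (.node (.node (.node (.leaf 0x1985083f00010562095811040c5404b0c07f351677903b5fc15f) (.leaf 0x6fd51f10000397651fe50c5065785b7d51bf5f416a538537333)) (.node (.leaf 0x155841ac00001a213c552caf0aa48516415d75734d074004968a) (.leaf 0))) (.node (.node (.leaf 0x21d724a900010f1724b7292d0eb484f3a147814a3a22f062115f) (.leaf 0)) (.node (.leaf 0x239f30630000274848cc307e0ef185f4b02893d36ac26a295025) (.leaf 0))))) (.node (.node (.node (.node (.leaf 0x215120240001031b00e00a460ea484332c16a16c73c09762115f) (.leaf 0x344915cd0001340e377518e614c405321b64b5504915b72ab113)) (.node (.leaf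 0x277244e8000117303801380010a784568f2746f9010314124546) (.leaf 0))) (.node (.node (.leaf 0x523d46d700000c9923a21bf81ea385b6c628600f2b12022957d9) (.leaf 0)) (.node (.leaf 0x4afb2879000023a5470a47091c768573ff5341ca1d3095113025) (.leaf 0)))) (.node (.node (.node (.leaf 0x2ee616b3000007ba1783178212d704d2331897594513d970a546) (.leaf 0x3000078f000140073129204314220410af6e605f1fa04a3332cb)) (.node (.leaf 0x26fd21ff00011d213bb43a82107685b36078c1ef7c955c15f518) (.leaf 0))) (.node (.node (.leaf 0x45124135000011b72e772e761a818456384be4904dd7db15632d) (.leaf 0)) (.node (.leaf 0x5125196100002b104c6f40ec1e8204b2770e419c4df05e5be2c7) (.leaf 0)))))) (.node (.node (.node (.node (.node (.leaf 0x40125f8000101fe06c706c604c20433bf3a36515645b72ab149) (.leaf 0x53e132830000318432a13ea21ed50434e01982e17af43b32d124)) (.node (.leaf 0x3a9d0b2a000015c735cd35cc16d185b10b5850640670de32d734) (.leaf 0))) (.node (.node (.leaf 0x4ec2444100010b5a14b720af1e340456811a914b5d723162115f) (.leaf 0xc3a4fb700015084342652b008258557a547e3ce2bb2df124149))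 (.node (.leaf 0x175c3e6c000021f5457517430ae48595f061e5253b94d904924d) (.leaf 0)))) (.node (.node (.node (.leaf 0x90d3a990001068c1446144506a205b5964844314d524e3352cb) (.leaf 0x4c2b06a600003c774a60529e1ca305709c2af1f75cd1542957d9)) (.node (.leaf 0x43ad1b0600011b982cf43e501a5305b2a535b2a631a15d518621) (.leaf 0))) (.node (.node (.leaf 0x41cb1343000010642733214918f40571df2de6ef0180a954628f) (.leaf 0)) (.node (.leaf 0x43a027380000291f23184b391a530413df3ac6025d179f51870b) (.leaf 0))))) (.node (.node (.node (.node (.leaf 0x4bcb06d60000043c0c100daf1c950570a23f82b480646355a70a) (.leaf 0x28f2b780000369a51540401049205f4474340cd1ae6b65be32d)) (.node (.leaf 0x116c01d9000118a93a35080e08e605902b33c6cf51130b7b2486) (.leaf 0))) (.node (.node (.leaf 0x290f336e00000dd6266b266a10e105f4f66c237f4745bc41d156) (.leaf 0)) (.node (.leaf 0x29942f7f000125702fa417a910f184949c8093271aa414180518) (.leaf 0)))) (.node (.node (.node (.leaf 0xfa2a0b000008ea1aa30c3d045785542968217223b71c537335) (.leaf 0x4faf048b000043dd3ee84a841e5305f0685952136304186de7d9))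 (.node (.leaf 0x3588258c00011eb24221422014f10513b466507e385073295537) (.leaf 0))) (.node (.node (.leaf 0x537830110000131030f730f61ec58514ab19b6ae3cd0cc428124) (.leaf 0)) (.node (.leaf 0x172e207f00002d184d8f0a1d0ae305d3377da28e65f2421245be) (.leaf 0)))))))))

/-- part of a table -/
def entries55 : Trie := (.node (.node (.node (.node (.node (.node (.node (.node (.leaf 0x3bb709770000001c006c006b16f384f0e51fc4796e51957345be) (.leaf 0x266427b00002da04dcf4dce048704d6524fc7484343ef4862ab)) (.node (.leaf 0x3b6105a80000136931a431a316e604308547565a2994971136de) (.leaf 0))) (.node (.node (.leaf 0x1bb025130000093a1b6f1b6e0cb28413aa142724716075621124) (.leaf 0x123a35b500004511526853550a2585552d3d845c391242262149)) (.node (.leaf 0x3e0d171c00011f13429b3d9a186105b23d64059c5984010006de) (.leaf 0)))) (.node (.node (.node (.leaf 0x1b4e2713000004860e880e870ca405d3dc1616b77a72216217b2) (.leaf 0x1a353e4d0001376728ef4f7f0c8284b5ee72f2f81e11b15fc2c7)) (.node (.leaf 0x386130d6000019073abc3abb16670434bb2fb2846116287865be)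 (.leaf 0))) (.node (.node (.leaf 0x4f2202e100010e25047527201e430450421380832cf08255a049) (.leaf 0)) (.node (.leaf 0xad12e0f000025e711a2207106d484347b5db6627cb45018b68a) (.leaf 0))))) (.node (.node (.node (.node (.leaf 0x3c9638db0000024707ae07ad183284d56d6ab4571fa7dc546734) (.leaf 0x9892576000132271ae94fe406b20533b23d424855824e3332cb)) (.node (.leaf 0x25e810310001161d1581365110570511991356f940c5067bd12d) (.leaf 0))) (.node (.node (.leaf 0x2172378e00000bac217221710ea784555170e4d44cd1c82cb7d9) (.leaf 0)) (.node (.leaf 0x4899002d0000226244dd45d31c328530037634105f0075621124) (.leaf 0)))) (.node (.node (.node (.leaf 0x3067476b000006d815181517142704f6d35312a61f515429570b) (.leaf 0x3e5d214200013d4152bc4a3c186485b34f2ee76a16829112d24d)) (.node (.leaf 0x34972f7500001bfb35243ecb14d184f49c1c66805b948c428734) (.leaf 0))) (.node (.node (.leaf 0x47714260000110ba2c81107d1ae584365028b4950f816458655a) (.leaf 0)) (.node (.leaf 0x13241296000129954b871a5d0a650491d339a7a431865318055a) (.leaf 0)))))) (.node (.node (.node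 (.node (.node (.leaf 0x1e310707810000012e041d000a144104f0af0772d273f3456de214) (.leaf 0x438553a600012fcb4b6d2edd1a5104b8024bd69249679f518786)) (.node (.leaf 0xd5850bf000014c02b59340908668517be7f43a869638615f486) (.leaf 0))) (.node (.node (.leaf 0x3d4c027b00010a6e03281e6d18450590366632485d514d156786) (.leaf 0x137922ed00004a7c52644c100a678533736b903d2645c71245fc)) (.node (.leaf 0x47827b7000120af4446444504c58513e95526802af1ee428734) (.leaf 0)))) (.node (.node (.node (.leaf 0x471f1196000005ae068511db1ae285f1ba3667e445f80412d537) (.leaf 0x27273b1700013a31516e42e910a304f5a046922d75a5ed41d12d)) (.node (.leaf 0x37d34e2800011a7d2da13cdb165484777b54c6e253e0c95fc113) (.leaf 0))) (.node (.node (.leaf 0x46312f7c00010f6c04d529d81aa284349c5f93b300b790546214) (.leaf 0)) (.node (.leaf 0x4422314000127b84a3a461704c40453781d50f705252018b68a) (.leaf 0))))) (.node (.node (.node (.node (.leaf 0x36c923910001036305bd0b2316360533880760a308840a1132cb) (.leaf 0x45d62fc8000034a750b532d61a9584d4a42cc7545e720e15632d)) (.node (.leaf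 0x2ed0321a0001178e07bd388612d58414d34396fa27b6192c7586) (.leaf 0))) (.node (.node (.leaf 0x29e0047700000ce62458245710f604106733c7587463c17b2156) (.leaf 0)) (.node (.leaf 0x47b72ccd0001241c477847771af384f4617457ac7f54e20005be) (.leaf 0)))) (.node (.node (.node (.leaf 0xa850777000008081855185406d204b0ae20445c30e5b718b149) (.leaf 0x2261430b000040ec33cc500b0ec704366139308313643b4287d9)) (.node (.leaf 0x24493a8900001d861a2b40c210260535954f97083e73447b2000) (.leaf 0))) (.node (.node (.leaf 0x34601d78000112102f1f2cf914c70412dd4bb7dd22b1ee428333) (.leaf 0)) (.node (.leaf 0x291a0b2000012b9c4cc42e6d10e185510b01c7580c7417180518) (.leaf 0))))))) (.node (.node (.node (.node (.node (.node (.leaf 0x33b730c9000100a202490248149384f4ba4ee1bc2d322753718b) (.leaf 0x16a00ced00002eb822314e5e0ad30411397a905b1e76192c770b)) (.node (.leaf 0x4de41b3c0001141332ca06841cd50492aa5857030d10de32d124) (.leaf 0))) (.node (.node (.leaf 0x47d02f47000109d402f71cf61af48414963a738205741f54628f) (.leaf 0x15fc1b1800004775410141d40ab68592a85c17ff1c93c115f734))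 (.node (.leaf 0x4b280c2300001fe9437a39151c820511260e419c52d03b5be70a) (.leaf 0)))) (.node (.node (.node (.leaf 0x5172433c0000051a103410331e8684566757e2f808c4ea24d2c7) (.leaf 0x1e912369000038c42a594fa10e3484338125516c13650a33515f)) (.node (.leaf 0xf3d50c9000019bf1e7b3bd008a385b7bf3e87644942f341d333) (.leaf 0))) (.node (.node (.leaf 0x2c113b900010ec617b10b8004960431f05993993a63de24d32d) (.leaf 0)) (.node (.leaf 0x174a1600000126cd3d1a0ded0ae405522013b6664c174704928f) (.leaf 0))))) (.node (.node (.node (.node (.leaf 0x4d86038a000002d5096a09691cd204d0523be0ea7aa5202ab41d) (.leaf 0x11d80875000133654b9b4ba708f48510ce3944b83bb36b7d928f)) (.node (.leaf 0x2f381807000016db36f5377212e28512563bf5ab7d530d049518) (.leaf 0))) (.node (.node (.leaf 0x17d5074f00000c4a22f122f00af484b0ab7a876a67a3b104924d) (.leaf 0)) (.node (.leaf 0x3c6433bd0001233a46a3227318250494fd69d7d20537c4000295) (.leaf 0)))) (.node (.node (.node (.leaf 0x294a079b000107720d04106b10e50550b1440758483314262518) (.leaf 0xc90285400003f0e3365530108348413fd0ae5a91a93b17d968a))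 (.node (.leaf 0x381d06e100001cc52a7c2468166185b0a400a07d3181ea786486) (.leaf 0))) (.node (.node (.leaf 0x4c252ddc000011642dd0124d1ca304b47556969778c2021497d9) (.leaf 0)) (.node (.leaf 0x14e527a800012a8d0fc548ef0a9704b3e84dc78506a1790252ab) (.leaf 0)))))) (.node (.node (.node (.node (.node (.leaf 0x199a3238000001b905e805e70c548554d754d1203502fa5fc7b2) (.leaf 0xc4105de000030ee2a444f67082604308c73b5151a855c7b2214)) (.node (.leaf 0xdf70a130000156435313530087784f0f21305213542422625be) (.leaf 0))) (.node (.node (.leaf 0x18d0083300010b101ff11ff00c368410c00e54d857903f68a124) (.leaf 0x3ed914ab00004df84c9c5192187485320146f76a23979012d28f)) (.node (.leaf 0x370d04b90000219038a3450b164105b06b5113b64e04206de214) (.leaf 0)))) (.node (.node (.node (.leaf 0x642b831958000006431378137712510472765335f82ac7187bd000) (.leaf 0x24d111a600013bb41d21527210368431bb44c6ee7da34415f000)) (.node (.leaf 0x2385203600001b393dd614c60ef104b32f4852a06d72032957bd) (.leaf 0))) (.node (.node (.leaf 0x6c4acd000110132b342b3304470597276e416e78410e537335)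 (.leaf 0)) (.node (.leaf 0x36a22b89000028a9355f4ae3163304544838f3ed461416214621) (.leaf 0))))) (.node (.node (.node (.node (.leaf 0x2e3a36ee000103f4042d0a3612c385554274136573b2d92c712d) (.leaf 0x2aa9030c000135e723e5511a123305304574a68915955f124546)) (.node (.leaf 0x218a4fd30000184639a920b60eb10557a71923010bc1c8786180) (.leaf 0))) (.node (.node (.leaf 0x2f4841ee00010d880f8e25c112e50516456606471ce1ec262518) (.leaf 0)) (.node (.leaf 0x1dd54bff000125030d33481d0cf584b7426fb0ec3ac32b734025) (.leaf 0)))) (.node (.node (.node (.leaf 0x37b64a800001089f19e919e8165384d7210364250e13ef486335) (.leaf 0x2212b3017d2000042d22a08060712438412530c76363377147bd546)) (.node (.leaf 0xbf22e0900001e4e2072300a06f584547b4b47e441317b786486) (.leaf 0))) (.node (.node (.leaf 0x53ed3f08000112be108c305c1ed505b6014b60116721ee32d262) (.leaf 0)) (.node (.leaf 0x35a527600012ca31793369c04a68557e333b0a36053c7113786) (.leaf 0)))))))) (.node (.node (.node (.node (.node (.node (.node (.leaf 0xb28de1a020001005e015c015b10d585d2890ca6aa7972d970a000)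 (.leaf 0x49104a7d00002e2b1f8b32b11c4184172065427f6c26f8486262)) (.node (.leaf 0x12212433000013bd323d1df90a2504339627178f00b4a2262149) (.leaf 0))) (.node (.node (.leaf 0xb274b91000009891c321c3106e304f73b0a225f00d7042cb5be) (.leaf 0x42880de60000463b4b2331c11a320511583ae01d606027546734)) (.node (.leaf 0x47ea064400001f83430233b01af505509431559c5821470006de) (.leaf 0)))) (.node (.node (.node (.leaf 0xca32b33000104d10f600e8608350474430987bc35c242124149) (.leaf 0x1a434bf60001381c174123730c8504774244d3fa35b71c4862c7)) (.node (.leaf 0x115a4f340000196039ad3b4608e485579734e5253b94b104924d) (.leaf 0))) (.node (.node (.leaf 0x53e6432100010e7227ca0aed1ed504d6650586ae11f390428124) (.leaf 0)) (.node (.leaf 0x36a91d110000266419c81b3316330532d309b7440eb75073470b) (.leaf 0))))) (.node (.node (.node (.node (.leaf 0x47793eb40000028d05c9088b1ae58535f62b91b82007b558655a) (.leaf 0x487c23a6000032c6482048781c2585938948b7887f017d2cb180)) (.node (.leaf 0x24a233d100001681088c36e610330454ff098655261242124546) (.leaf 0))) (.node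 (.node (.leaf 0x2d66110000000bf8222b222a12a704d1ac16f23545178d124546) (.leaf 0)) (.node (.leaf 0x4af5381d000022cd369602051c7684b55e67409e6e81a068a025) (.leaf 0)))) (.node (.node (.node (.leaf 0x3fa611540000072615e90e4c189304d1b21402ea24f7db51818b) (.leaf 0x518516fa00003e2152df2bbb1e9104b23b5a52803fd33e48670a)) (.node (.leaf 0x2d95495e00001c663c523f4c12b284b7006bb45a7f032e049000) (.leaf 0))) (.node (.node (.leaf 0x414051c50000110d2d221d0018e40417d035e35615802712d24d) (.leaf 0)) (.node (.leaf 0x248653ac00002a103d2f4912103204d8026857087af7077d9000) (.leaf 0)))))) (.node (.node (.node (.node (.node (.leaf 0x1f6330ff00000173050305020e470474bd7a329e6ea08255a049) (.leaf 0x12d413a00001305b12bd06e20a368491ed10935336e0cb15f734)) (.node (.leaf 0x2913071500011512349b253810e18470a727b75852f78b180518) (.leaf 0))) (.node (.node (.leaf 0x11d02c1c00010abe1f2e1f2d08f48414535d038243469b7d928f) (.leaf 0x1cd32a8200004c28465e4c630cd484743318c14a35074c2ab7b2)) (.node (.leaf 0xee801e40000212529a930d5089705102c39b38a2e20db7bd18b)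 (.leaf 0)))) (.node (.node (.node (.leaf 0x57d0933000005f812ac11d404e585b0e03977724c821c2cb537) (.leaf 0x29db36c500003ae9524f349810f58575401a63275d9242262518)) (.node (.leaf 0x442f28b600011adb3d653d641a6205f4053037392f67dc12d486) (.leaf 0))) (.node (.node (.leaf 0x3bec2f8900000fc22a822a8116f605949d4947e84fd0c51136de) (.leaf 0)) (.node (.leaf 0x10bd0fba0001283337ae386608d385b18d7011e21b26192c770b) (.leaf 0))))) (.node (.node (.node (.node (.leaf 0x50952117000103ad0bff0bfe1e7184b34937e0123b77502147bd) (.leaf 0x49b22b60000354c4ce72a4304d285737041962d09308e2ab295)) (.node (.leaf 0x2ca80fad000117ed269c391c127205118c69f62752630d7d9518) (.leaf 0))) (.node (.node (.leaf 0x4d6c4ca100000d34250416ff1cc50597530fe6ae7bb46c428262) (.leaf 0)) (.node (.leaf 0x73922e20000249047ce47cd066585337310d07e0e7267295537) (.leaf 0)))) (.node (.node (.node (.leaf 0x390c1581000108510e49192016820592160e415a23803b5be32d) (.leaf 0x6760d77000041e024284db6064784d14e4a966c126340486333)) (.node (.leaf 0x52ec1a6500011de7413634581eb60592922fd3196722ad113262)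 (.leaf 0))) (.node (.node (.leaf 0x10d32c1f0000126a2fbd1cde08d58474536b241258c51370a2cb) (.leaf 0)) (.node (.leaf 0x14234f300012c1d3c074823046604551c0e11b80923c768a6de) (.leaf 0))))))) (.node (.node (.node (.node (.node (.node (.leaf 0x131d44ff000100e7033403330a6485b6907a876a5e93b104924d) (.leaf 0x48cf2bc800002f424ea234a41c3405f44d32608159622c70b7b2)) (.node (.leaf 0x396b1b6b00001464101b336916870572af4bf4ef7f341855a18b) (.leaf 0))) (.node (.node (.leaf 0x2af92bcb00000a211d921db6123785344d55b39f5961d2180546) (.leaf 0x9bc0240000148cf53b053db06b3859032044602313265149621)) (.node (.leaf 0x2a1213070001204543dd183012228451da4475f813f4b17d9000) (.leaf 0)))) (.node (.node (.node (.leaf 0x28780ac2000005630a18110510c785110311655677e11170a12d) (.leaf 0x3302209c0000397751ff096e148204533a50b76e23012a5fc32d)) (.node (.leaf 0x2a7c027e00001a220b813c56122785903678a2eb39427041d12d) (.leaf 0))) (.node (.node (.leaf 0x2af5060c00000f18292f292e123784b0904ed23531627018012d) (.leaf 0)) (.node (.leaf 0xdfb4d550001274849e549e408778577681a64794b938c2625fc)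 (.leaf 0))))) (.node (.node (.node (.node (.leaf 0xda434140000031c0a4703cf087504950511b6a347227041d55a) (.leaf 0x231248d70001340f171c27240ee18456f41fa1ca5e0154149025)) (.node (.leaf 0x4112d4d0000173138022ca104c284346b68401901651d2ab295) (.leaf 0))) (.node (.node (.leaf 0x4a944fce00000c9a23a31da51c718497a668f09e760186734025) (.leaf 0)) (.node (.leaf 0xb383b00000123a50c9b13d106e385159f0620f443217d7865fc) (.leaf 0)))) (.node (.node (.node (.leaf 0x20f11a2c000107ba178517840e9684328b2f727d1f21ab28f2c7) (.leaf 0x36270527000040091ee248f4162304f07449d77c4e34c5214621)) (.node (.leaf 0x4a519700001d22404c404b04460557cd2a562d39d4a328f295) (.leaf 0))) (.node (.node (.leaf 0x38d108bc000011b82e792e7816748430d453a63730523f70b28f) (.leaf 0)) (.node (.leaf 0x10bb50ca00002b114c704a8108d38577bf4227664944d670a70b) (.leaf 0)))))) (.node (.node (.node (.node (.node (.leaf 0x32bd25e2000001ff06c906c8147285b3be16a23738e56e6216de) (.leaf 0x20eb28a000003185172a42ec0e9605740305c69835a6d028f70a)) (.node (.leaf 0x27d5044d000115c735ce31f010b684b06371030009a29415f586)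 (.leaf 0))) (.node (.node (.leaf 0xd1134f500000b5b0ca720b0086484351c16538261132e7d928f) (.leaf 0x2dcc40dd000050945396343f12b605962e6bc3123cf6e97b2000)) (.node (.leaf 0x3de0348b000121f52c18457618570415116d75ea5ec15d156621) (.leaf 0)))) (.node (.node (.node (.leaf 0x11a31d920000068d1448144708f30472e009807c2512421245be) (.leaf 0x290735e500003c7843ed146510e104f5302206d65fb30841d156)) (.node (.leaf 0x25fe3dfd00011b9917443e51105785d5e772922d77e3b002512d) (.leaf 0))) (.node (.node (.leaf 0x107f39e3000110642bde2bdd08c785f58815b05b2813042c770b) (.leaf 0)) (.node (.leaf 0x3abb41d40001291f32ee4a8316d28576442646511675202ab295) (.leaf 0))))) (.node (.node (.node (.node (.leaf 0x115f0e170001043c0db10db008e485f15c45576a45270704928f) (.leaf 0x474b1b630000369b411251551ae40572af10837480258b12d28f)) (.node (.leaf 0x1af219cb000018aa36b6398b0c968452824fe50c6c46d024d70a) (.leaf 0))) (.node (.node (.leaf 0x3dfd371d00000dd7266c161a185785b5486d75ea49f79f15670b) (.leaf 0)) (.node (.leaf 0x407a367d00002572441b487218a785553b71a5f41a37b6586333)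 (.leaf 0)))) (.node (.node (.node (.leaf 0x4217130d000108ea1aa40f5f1a2284f1da6f611e24a1be12d214) (.leaf 0x16b10413000043e03c4b3ad80ad38430604395081d66192c770b)) (.node (.leaf 0x14f83b7d00011eb3421242220a978515aa4dc7857ec63c02518b) (.leaf 0))) (.node (.node (.leaf 0x11ec09340001131030f930f808f60590e041516622955c7b2486) (.leaf 0)) (.node (.leaf 0x49c8103400002d194d914d901c540511992c314b5964765fc7b2) (.leaf 0)))))))))

/-- part of a table -/
def entries56 : Trie := (.node (.node (.node (.node (.node (.node (.node (.node (.leaf 0x40fb3e7d0001001c006e006d18b78575f15da17223a47c586335) (.leaf 0x3c4a32df00012da0114a4dd018240554e771d0f705280454668a)) (.node (.leaf 0x21e642ab00011369063e31a50eb704d6582f53a43a240d7867d9) (.leaf 0))) (.node (.node (.leaf 0x7334c880001093a1b711b70066584775152c7e47742b6149486) (.leaf 0x33aa30390001451253a9532814930554ad37d80749e66e4862ab)) (.node (.leaf 0x4db3005500001f1539b126721cd38470083a53840be174428049) (.leaf 0)))) (.node (.node (.node (.leaf 0x4a4023dc000104860e8a0e891c6504138e66f1cb60f2d7149025)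 (.leaf 0x130d2c750001376821f732ae0a6405b45b2db76d63e32e7d928f)) (.node (.leaf 0x1eec1bb4000019083abd2fe60e370592b81c921319f265295049) (.leaf 0))) (.node (.node (.leaf 0x4536159d00000e26272227211a8384d2177527487f55811562ab) (.leaf 0)) (.node (.leaf 0x30db2811000125e7450245d014368573f604d65630e2871132cb) (.leaf 0))))) (.node (.node (.node (.node (.leaf 0x2e1f11900001024707b007af12c185f1ba0f16fa3711cc2c7586) (.leaf 0x43b8277000013228444547681a538513e30b93ed26f26851870b)) (.node (.leaf 0x3cb115640001161e3653365218338432123427a264c048000333) (.leaf 0))) (.node (.node (.leaf 0x165c014900000bad217318950ac585901c51052a7a111170a2cb) (.leaf 0)) (.node (.leaf 0x1a8c20470000226345d545d40c9105933140850c6c44a66de70a) (.leaf 0)))) (.node (.node (.node (.leaf 0x3f981199000006d9151a151918918511ba5b50cd17317815632d) (.leaf 0x4ef1505600013d433b9552bd1e358437b135c2da0e31ea2cb180)) (.node (.leaf 0x49e4261900001bfc3ecc222d1c560493c25a67880ac7f824d180) (.leaf 0))) (.node (.node (.leaf 0x26cf1636000010bb2c822c14107505f2254aa32731e5ed180156)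 (.leaf 0)) (.node (.leaf 0x5392113a000129984b894b881ed28451af5841835ad6182ab41d) (.leaf 0)))))) (.node (.node (.node (.node (.node (.leaf 0x270f3f280001012e01f6041e10a205f6044a533479e36a7d9000) (.leaf 0x2d692aa400012fcc1fdf4ee612a70534363397594664a2262546)) (.node (.leaf 0xff2b21514d000114c006b6340a12430437c86933651eb7147bd546) (.leaf 0))) (.node (.node (.leaf 0x40f11f700000a6f1e6f1e6e04c205f1c230578f25c03918b149) (.leaf 0x12fc00bb00014a7e53e72c2e0a3785900e67242516a37b180333)) (.node (.leaf 0x2a4a23ac000020b14447087612260553896c15f87f02d815f000) (.leaf 0)))) (.node (.node (.node (.leaf 0x28e73376000105ae11dd11dc10d704f4f742265519d4d670a12d) (.leaf 0x172347900003a3447554d47046784551038f1074064162145be)) (.node (.leaf 0x1e86236b00001a7e3cdc1bee0e3404d3815720fd4f32503357b2) (.leaf 0))) (.node (.node (.leaf 0x4e2292300000f6d29da29d904d504540e2012d272258e428734) (.leaf 0)) (.node (.leaf 0x319304ad000027bb315c3e1e145184706a5f37ed24c17f6de214) (.leaf 0))))) (.node (.node (.node (.node (.leaf 0x41261f2e000003640b250b2418e304d3136a825f00d7b75865be)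 (.leaf 0x1db054d29e9000034a8502e169e04e405b4243755834c156e70b28f)) (.node (.leaf 0x51fe15c00000178f3887361c1e9685d21b10524163969524d2c7) (.leaf 0))) (.node (.node (.leaf 0xe74068800010ce603fb2459088784909a4112792ed63c02518b) (.leaf 0)) (.node (.leaf 0x15a8070c0000241d3c1647790ab30510a640e16e6c61d241d333) (.leaf 0)))) (.node (.node (.node (.leaf 0x1ed246f000010808185718560e368456c806f5a20bc137113124) (.leaf 0x2bb0fb6000040ed4b9719ed049385718d4e72ea4ff0ff6de2ab)) (.node (.leaf 0x26551ed00001d8740c32a4c048704b7d467950f7206f853718b) (.leaf 0))) (.node (.node (.leaf 0x19c00830000112112f201f2e0c560410c00426dd65d37924d41d) (.leaf 0)) (.node (.leaf 0x16015e200002b9e4cc50fd3046704121e1023ee1ff5b42145be) (.leaf 0))))))) (.node (.node (.node (.node (.node (.node (.leaf 0x102e4a64000000a3024b024a08c305d71f15b05b3113042c770b) (.leaf 0x21f11bcc00012eb920b04e5f0eb78432b947700f3202832cb049)) (.node (.leaf 0x2bd90cd80000141432cc32cb12558531384c7330440506025586) (.leaf 0))) (.node (.node (.leaf 0x236f22df000009d51cf700700ee605f3726f53fb2d43c768a7bd)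 (.leaf 0xd9c120600004778449447c808748591c31653824997407d924d)) (.node (.leaf 0x2694211100001fea1c83437b10718493490ac5033b75c7124518) (.leaf 0)))) (.node (.node (.node (.leaf 0x5205c040c50001051a017a103504f404162c15066654c6b562124d) (.leaf 0x4a9f4576000138c4427e436c1c7185f6a02ae3fb6901952147bd)) (.node (.leaf 0x62e333f000119bf3bd23bd1064505d4f17a368022a0ff55a734) (.leaf 0))) (.node (.node (.leaf 0x37f1060700000ec7287c287b16568430903c965102f56028f149) (.leaf 0)) (.node (.leaf 0x13d6377b000026ce34ee49860a7684d54f6302223f730a7b2537) (.leaf 0))))) (.node (.node (.node (.node (.leaf 0x357c1c43000102d5096c096b14e68592c14ba79b6e440a68a55a) (.leaf 0x4472a2300003366504616c704c404f42b23942d52b74c18b113)) (.node (.leaf 0x3fe42e8a000116db37743773189704948553f2cd0e412b1562ab) (.leaf 0))) (.node (.node (.leaf 0x3df9270e00010c4a22f322f218578533db5b577c634178156621) (.leaf 0)) (.node (.leaf 0x3c2c18c50000233c46a41b90182305926b3427a241e7ae000335) (.leaf 0)))) (.node (.node (.node (.leaf 0x3cf42fe90000077316bc16bb18358494a764078f4a4401000295)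 (.leaf 0x40bb40bc00003f102fbe530218b285762b6ab45735c0a9546214)) (.node (.leaf 0xfc414e00011cc609c13fd804578596396df7a253a781486335) (.leaf 0))) (.node (.node (.leaf 0x18ed1d20000111652dd22dd10c3705b2d410d1853502672957d9) (.leaf 0)) (.node (.leaf 0x4e243b5300002a8e1b674c311e230495a62bb3a45531ea786049) (.leaf 0)))))) (.node (.node (.node (.node (.node (.leaf 0x50352a34000101b905ea05e91e6284b42c1db0ec11770d333025) (.leaf 0x1c02509374a000130ee4f694f68104105354c58d1417c572e025000)) (.node (.leaf 0x28a8104f000015653533353210d305119a80322d6301112c712d) (.leaf 0))) (.node (.node (.leaf 0x27433f3700000b111ff31ff210a604760533730009a49815f586) (.leaf 0x4e2a111000014dfa3aee4e711e230551ad0a214c1097042cb049)) (.node (.leaf 0x2d844ecd000121903fa1450c12b204978e69f75711c30d7d9000) (.leaf 0)))) (.node (.node (.node (.leaf 0x39981c9000010643137a137916928512c80183992e84765be32d) (.leaf 0x4d5b32a300013bb519aa14fa1cc48574e406569973574c18b7b2)) (.node (.leaf 0x13f053b000011b3927e63dd70a778418030235213544352625be) (.leaf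 0))) (.node (.node (.leaf 0x28f83846000010142b362b3510d785156454f39e4593022c712d) (.leaf 0)) (.node (.leaf 0x469f0e4f000128a93f0e4ae41ab185f1617167d25407b7000149) (.leaf 0))))) (.node (.node (.node (.node (.leaf 0x217142a0000003f50cd50cd40ea784365800a0c84f31ea786049) (.leaf 0x413a362d000035e83170511b18e385553471a5e21007b75865be)) (.node (.leaf 0x3af32440000018472ca939aa16d784739700c5a3277059428333) (.leaf 0))) (.node (.node (.leaf 0x4276051e00000d891fcb25c21a2584d0716707b42ae3bd000295) (.leaf 0)) (.node (.leaf 0x2d393def00002504394f3fce12a38535e678a2eb30927a41d546) (.leaf 0)))) (.node (.node (.node (.leaf 0x41034e6e000008a119eb19ea18e204778073c6cf3c258b546486) (.leaf 0xb4b365c000142d623a6498e06e405753962b5834c123170b28f)) (.node (.leaf 0x24fa281500011e4e41b0404c10378553f62a86553bf78b41d546) (.leaf 0))) (.node (.node (.leaf 0x803536a000112bf1cdd305d06820477fb50b76e58212a5fc32d) (.leaf 0)) (.node (.leaf 0x2533267b00002ca44314247110438473c94c41e359d6b47bd546) (.leaf 0)))))))) (.node (.node (.node (.node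 (.node (.node (.node (.leaf 0x486338b40000005f015e015d1c2504756b20b34c13d17b78641d) (.leaf 0x470d23ba00012e2b118f4e1b1ae205b38b5eb3a81bb41f546537)) (.node (.leaf 0x3f7219ea000013be1afd12e7188784528648f2790af20e51818b) (.leaf 0))) (.node (.node (.leaf 0x27711b900000098a1c341c3310a78432b30d31e34471ec26212d) (.leaf 0x2e912a610001463b52a71b0812d18434300f230c2c41112c7586)) (.node (.leaf 0x15314e026ec00001f84430443030a970413d75d97980030db02518b) (.leaf 0)))) (.node (.node (.node (.leaf 0x337a3f00000004d20f620f6114878556010a87481bd4cc55a18b) (.leaf 0x27c5125a0000381d3031464710b604b1c95676aa70f3c17b2586)) (.node (.leaf 0x536a1b6a000019613b483b471ec50552af47d08740e58e32d124) (.leaf 0))) (.node (.node (.leaf 0x255b23a100000e7327cb07b410458573891ce6ee5ad2e47bd586) (.leaf 0)) (.node (.leaf 0x8fc2d22000026654929327806978594691bf1bc2765385372ab) (.leaf 0))))) (.node (.node (.node (.node (.leaf 0x14f2535d0000028e088d088c0a978457f77461bc72f7187bd2ab) (.leaf 0x13d00599000132c7501222400a768410845c17e40693c115f537))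 (.node (.leaf 0x4b1c2ea7000116812a8109681c818594894a72111357814862c7) (.leaf 0))) (.node (.node (.leaf 0xd944ff400000bf9222d222c08748497a93164b864b30d7d924d) (.leaf 0)) (.node (.leaf 0xb363ca3000122cd34a5425b06e384d5cd26910741a17b2cb5fc) (.leaf 0)))) (.node (.node (.node (.leaf 0x345c1bd70001072615eb15ea14c48592ba4805a936c58f2ab113) (.leaf 0x2b17388300013e22487f5281124184f5681577577ee6b4025586)) (.node (.leaf 0x11241d9c00011c67099d1edb08e30492e03f33ee1f64a21245fc) (.leaf 0))) (.node (.node (.leaf 0x1064465d0001110d05652d2308c70496b96e874443011170a621) (.leaf 0)) (.node (.leaf 0x1ab4d5600002a114be02c5d04750577681d771155209f149486) (.leaf 0)))))) (.node (.node (.node (.node (.node (.leaf 0x2caa36070001017305050504127205553240c6126484b1049156) (.leaf 0x1e7197e0000305c377b147b047704f2785e80f40070b07345fc)) (.node (.leaf 0x3565194100001513349c2c2b14e604b2750762376811a01136de) (.leaf 0))) (.node (.node (.leaf 0x36aa1b0e00000abf1f301f2f16330552a57262a62546ad214621) (.leaf 0x1ef7236d00014c2c4ceb53330e3784f3816ca1854f357d295049))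 (.node (.leaf 0x1e0607ea000021263e4f44ab0e2404d0b946014b3204a83337b2) (.leaf 0)))) (.node (.node (.node (.leaf 0x2a64449b000105f812ad03c4122704968655b39f60927018012d) (.leaf 0x3bcb3f0f00013aea461f2b6016f40576017381fd2ed2f933528f)) (.node (.leaf 0x14d00bb900001add328c3d660a958411194811e03db72e02532d) (.leaf 0))) (.node (.node (.leaf 0x21fb1f3600010fc204f22a830eb785731522a6973431c87867d9) (.leaf 0)) (.node (.leaf 0x482047cf000028341f2d05b21c230416db80000f59f17d2cb049) (.leaf 0))))) (.node (.node (.node (.node (.leaf 0x3a824e39000003ae01e50c0016d104577d3a568000a174428214) (.leaf 0x3cc22c4c0001354d4a1750e918340454566761341db58b54668a)) (.node (.leaf 0x343f10e4000017ee391d16da14c285f1a935414857752018b295) (.leaf 0))) (.node (.node (.leaf 0x3cda371900000d352505089618348555485595a956a65c546113) (.leaf 0)) (.node (.leaf 0x197436b600002491272f47cf0c4784953f4564fb5042406de049) (.leaf 0)))) (.node (.node (.node (.leaf 0x10e031a6000008521922192108d70414c94f06757cb1112c7621) (.leaf 0x37fd2fff000041e134dc3e10165685b4a97c208b09b3de28f295))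 (.node (.leaf 0x3e0b4eea00001de829c8413718610577925e14956d947c5866de) (.leaf 0))) (.node (.node (.leaf 0x451513c20000126b0d731e011a8184b1f10d900523079f51832d) (.leaf 0)) (.node (.leaf 0x2f15262000012c1f376c190912e184b3c309a10c80665341d156) (.leaf 0))))))) (.node (.node (.node (.node (.node (.node (.leaf 0x2f722b4f000000e80336033512e684544476f6122465a77b2156) (.leaf 0x1d194ba900012f4220bd4cbd0ce185373c58c3cc004202295025)) (.node (.leaf 0x15ce41af00011464336a2baa0ab405d6417f11342164f4049113) (.leaf 0))) (.node (.node (.leaf 0x1a9f4baa00010a2103101db70c9185f73c5956980044186de2c7) (.leaf 0x3bfa3e0e000148d053a424d216f68555e86c665a6df28711355a)) (.node (.leaf 0x4d80470f000020461cc33de41cd20416c97eb0f92c445018b41d) (.leaf 0)))) (.node (.node (.node (.leaf 0x206f1d4100010563110711060e8605f2d60451b970c1e828f70a) (.leaf 0x4c4c08cf0001397752000e6e1ca40590d56a26b706c50a33315f)) (.node (.leaf 0x1a8a37fe00011a2208b62c8d0c9105555968e1b46eb46355a70a) (.leaf 0))) (.node (.node (.leaf 0x1a93108a00010f18293129300c9184719f38d50c5544636de70a)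 (.leaf 0)) (.node (.leaf 0x93b49070001274a434349e606a38576f729277c08054514970b) (.leaf 0))))) (.node (.node (.node (.node (.leaf 0x493a52b40001031c0a490a481c438557ea0a838413946355a049) (.leaf 0x24203ac300013412386e153d10230415990ac22d76f5c712412d)) (.node (.leaf 0x1e4621c600011731079d38030e2604d35b26f19139539268a262) (.leaf 0))) (.node (.node (.leaf 0x473929fa00010c9a23a40f391ae38534275b010720c13e5865fc) (.leaf 0)) (.node (.leaf 0xe313f77000023a6470c470b088384360c4112796141790252ab) (.leaf 0)))) (.node (.node (.node (.leaf 0x399f38eb000007bb17871786169285f56f6691e06cb12a5fc32d) (.leaf 0x20ae1e660001400b413a532a0e9205d2fc43450c4706b65be2c7)) (.node (.leaf 0x27872fa100001d24380919ef10b204f49f01f6aa0ef7077d9000) (.leaf 0))) (.node (.node (.leaf 0x34e7433d000011b92e7b2e7a14d704f6676965f41a9626428335) (.leaf 0)) (.node (.leaf 0x22070d6c00002b124c7143240ec104f14447d0875246f132d262) (.leaf 0)))))) (.node (.node (.node (.node (.node (.leaf 0x523230c4000101ff033b06ca1ea38454ba2900c82e01541497d9) (.leaf 0x1b10f5f0001318735014c8104758431817ca68d1b6265149486))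 (.node (.leaf 0x496e23c5000015c835cf06011c4605d38d2d318347e0d828f180) (.leaf 0))) (.node (.node (.leaf 0x432c111300010b5b037620b11a430591ad0d967501479f51870b) (.leaf 0x47c61790000150a051c44ed41af404d24c02958302e1be12d24d)) (.node (.leaf 0x1ef546c2000021f6457744f80e3784b6c41d92b05cc2671497d9) (.leaf 0)))) (.node (.node (.node (.leaf 0x7131880001068d144a144904478434c74a73e449a781486335) (.leaf 0x336d4ca600013c783f6149d8148705b7534c84ef7f32b555a18b)) (.node (.leaf 0x19b3090000001b9b3e5232060c558470dc04601163d3ef537262) (.leaf 0))) (.node (.node (.leaf 0x4e6c4e92000010652be02bdf1e250597872961835ad28378641d) (.leaf 0)) (.node (.leaf 0x15415e5000129203ee94b3a046684921e21713c7742ad68a55a) (.leaf 0))))) (.node (.node (.node (.node (.leaf 0xa4108aa0000043d0db30db206c40430d364b5506045b72ab113) (.leaf 0x26970e990000369c5156444f107184f1684540b33ec677262156)) (.node (.leaf 0x2f160d8e000018ab3a373a3612e184d1507c562722e417180518) (.leaf 0))) (.node (.node (.leaf 0xa1e2bf800010dd70449266d06c285d45135414809452018b295)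 (.leaf 0)) (.node (.leaf 0xa695340000125724873485406c50537f60097256011ee428734) (.leaf 0)))) (.node (.node (.node (.leaf 0x3385470b000008eb1aa61aa5149204b6c956822827205e5fc428) (.leaf 0x301803da000043e135ca534e14228510576c97f27c124e3352cb)) (.node (.leaf 0x9e1280100001eb434ce372306b70433f32935081f578373470b) (.leaf 0))) (.node (.node (.leaf 0x41b3400b0000131130fb30fa18f384761a57025f5a63bd5865fc) (.leaf 0)) (.node (.leaf 0x566465000002d1a28e342af04e504d6b906607d46a25a786537) (.leaf 0)))))))))

/-- part of a table -/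
def entries57 : Trie := (.node (.node (.node (.node (.node (.node (.node (.node (.leaf 0x4f8f216b0000001d0070006f1e5105f3526c02e13dd664537124) (.leaf 0x1af00f8d00002da14dd13a480c968411885ca6987621ab28f2c7)) (.node (.leaf 0x5a320580000136a31a731a604f30473322b210720d40d2cb5be) (.leaf 0))) (.node (.node (.leaf 0x3a5e0c5d0000093b1b731b7216c485d12c7c066264452018b68a) (.leaf 0xa7326ef0000451724134a3006c58473d77de0644d348c32d734)) (.node (.leaf 0x2f7a392a00011f153007429c12e68555776303414e930a7b2156) (.leaf 0)))) (.node (.node (.node (.leaf 0x34bc1c29000004870e8c0e8b14d28592bf31c3ba3976ba18b295) (.leaf 0x30e74ef90001376a19145181143704f79362e5b15ec09f149621)) (.node (.leaf 0x2c954fc1000119083abf3abe127184b7a60245dc76055f262156) (.leaf 0))) (.node (.node (.leaf 0x34cc0c3900010e260464272314d40591285e90f753051d18b68a) (.leaf 0)) (.node (.leaf 0x2a451696000025e848c94887122604b2302e045a15e3447b2000) (.leaf 0))))) (.node (.node (.node (.node (.leaf 0x24e80ec30001024807b207b1103705116b3e865513b2f341d12d) (.leaf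 0x18f8335f0001322b3d014b420c378514f57ca3846f60c21497d9)) (.node (.leaf 0x1fa537b50000161f365536540e5504b5541c14d84336f8486262) (.leaf 0))) (.node (.node (.leaf 0x49e21ec900010bad217411661c5604530658a30f3d11e828f180) (.leaf 0)) (.node (.leaf 0xd18501d000122630c0e45d608648517ab5d03826e369b7d928f) (.leaf 0)))) (.node (.node (.node (.leaf 0x53573371000106d9151c151b1ec484f4f70656990d734a18b15f) (.leaf 0x1c473fe100013d4535303e690cc404f6160a407f17061818b7b2)) (.node (.leaf 0x3f5b064700001bfd3ecd348718858570944700051bf11a51832d) (.leaf 0))) (.node (.node (.leaf 0x4ac61f51000010bc07942c831c7504d3181d73fb37309f1497bd) (.leaf 0)) (.node (.leaf 0x7bc4f05000129990f4b035906758597941d96cf6ff2d7149486) (.leaf 0)))))) (.node (.node (.node (.node (.node (.leaf 0x1cb548cb0000012f0420041f0cd284b6f359359b2b922618b41d) (.leaf 0x49ad2a7700002fcd4ee70e121c5305b4324c34d406005d6de7d9)) (.node (.leaf 0x398b15d7000014c1340c340b169205721d3bb43777b0c95be428) (.leaf 0))) (.node (.node (.leaf 0x18494f6000010a6f1e711e700c2605379d07672474f1a0113124)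 (.leaf 0x147342cc00004a804eb0432e0a8784765b5fb6b34bc60a02518b)) (.node (.leaf 0x2ffd0fec000020b23dd0444812f685b19255362750229415f156) (.leaf 0)))) (.node (.node (.node (.leaf 0x4dfa35f1000005af11de02ec1cd58555310586ae7bb626428262) (.leaf 0x50fa099e00013a36469a451c1e768550e76c61cb51c3c71137bd)) (.node (.leaf 0x22ad4fd800001a7f3cdd0ff80ed205b7a73493012c56ba18b180) (.leaf 0))) (.node (.node (.leaf 0xc60327600000f6e29db1b6008270414df3cf17232637b180333) (.leaf 0)) (.node (.leaf 0x2d1a3a3f000127bb33c1437012a28555907c73300ad34d7d9000) (.leaf 0))))) (.node (.node (.node (.node (.leaf 0x346c0792000103640b270b2614c70590b119b66c0960cc428335) (.leaf 0xaa220bc000034a950b64d9306d304533c60d7a241e174428335)) (.node (.leaf 0xf432b1e000017903889388808a404744157a5010526ed7d968a) (.leaf 0))) (.node (.node (.leaf 0x60608d700000ce7245b245a064404d0d62e25af2086b65fc113) (.leaf 0)) (.node (.leaf 0x6bb3eee0001241d477b477a06558575fd7870642bb41855a734) (.leaf 0)))) (.node (.node (.node (.leaf 0x702dc119e8000008091859185812b60432863ca30c5aa2947b2586)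 (.leaf 0x251344b9000040ee4ef71b43104184768852335d6727777bd586)) (.node (.leaf 0x3c49012600011d8731d340c4182405301a3aa5f738b41f12d113) (.leaf 0))) (.node (.node (.leaf 0x5f72d130001121205c12f2104f584f46812877277117b2cb486) (.leaf 0)) (.node (.leaf 0x5151047400012b9f10474cc61e858430671bb2117464fa55a70a) (.leaf 0))))))) (.node (.node (.node (.node (.node (.node (.leaf 0x4c4229000100a3024d024c044605964a44803e04e7fc24d295) (.leaf 0x137c355600012eba368e467e0a6785952642b0f42be0b21245be)) (.node (.leaf 0x29b0d020001141432cd0a30049285713b1152280906c55fc428) (.leaf 0))) (.node (.node (.leaf 0x38e447a7000109d51cf91cf816770496d939711d49921c2cb5be) (.leaf 0x1d002d720000477a4889391f0ce104146f10f380762073149025)) (.node (.leaf 0x393f329700011fea12a7437c168385f4e344d31705c2a74862ab) (.leaf 0)))) (.node (.node (.node (.leaf 0x127452410000051b103603570a278497df09a7a223a65341d335) (.leaf 0x1f825451642000138c64c0b3fa0104504b2290dd1411f0506025586)) (.node (.leaf 0x455a1ca0000019c03bd3073f1a858552c900415a6df20e15632d)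 (.leaf 0))) (.node (.node (.leaf 0x1bb7108000010ec7287e287d0cb284f19f05a4d865d22170b124) (.leaf 0)) (.node (.leaf 0x499301fc000026cf145949871c5184702d6c02e17bb66e537262) (.leaf 0))))) (.node (.node (.node (.node (.leaf 0x2c6230de000002d6096e096d12660454bb71f0f554f30a15f156) (.leaf 0x437c436900003367304e50471a4785966d5545b14c026851870b)) (.node (.leaf 0xf995300000116dc077d377508b18537f10ac6680d55c7124149) (.leaf 0))) (.node (.node (.leaf 0x186c460f00000c4b22f418cc0c270596ac7a10c83692021497d9) (.leaf 0)) (.node (.leaf 0x340617c80001233c2f37448714c104d25234f6cc53d6f132d214) (.leaf 0)))) (.node (.node (.node (.leaf 0x22133d740001077316be16bd0ec18475dd1b672461648c32d262) (.leaf 0x17b649d400003f1153031b8d0af384d7100e02847f52df1245be)) (.node (.leaf 0x396d35f900011cc73fda3fd9168705b5313c26075684a66de18b) (.leaf 0))) (.node (.node (.leaf 0xfda50770001116605842dd308b48557b85965fa64236a049113) (.leaf 0)) (.node (.leaf 0x2f8d026f00012a8e4c324ab012f105b03578a5ab39627a41d156) (.leaf 0)))))) (.node (.node (.node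 (.node (.node (.leaf 0x3bd91785000001ba05eb001016f485324a4c04b83bb04a33528f) (.leaf 0x343d41d0000030ef16794f6a14c285b64404f0192964502ab149)) (.node (.leaf 0x2862ad60001156635353534049204d43a4450cd38812a5be32d) (.leaf 0))) (.node (.node (.leaf 0xe472d1000010b111ff51ff4088504f46800e15a3483d57bd428) (.leaf 0x2a8c478800004dfc532f537412320596d55b66fa0ab3b17d9000)) (.node (.leaf 0x47440c00001219235c6450d04c584962c00972566f0cc428214) (.leaf 0)))) (.node (.node (.node (.leaf 0x23a14e1d00000644137c137b0ef20437796e60122e629c333025) (.leaf 0x4191db700003bb6511a527304c28532e34b93582a35742ab295)) (.node (.leaf 0x51d84bc100001b3a3d423dd81e9585173e21949b1574646de2c7) (.leaf 0))) (.node (.node (.leaf 0x48083743000110152b382b371c2205154c0a70117656b570b124) (.leaf 0)) (.node (.leaf 0x3c910968000028aa4ae64ae518328430e446f72529002712d734) (.leaf 0))))) (.node (.node (.node (.node (.leaf 0x26c934d6000103f50cd70cd6107505351a3d737f74127a41d156) (.leaf 0xed50cf4000035e9511c47d5089584b13a14e43777b63c7bd428)) (.node (.leaf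 0x24c057100001848399639ab048605907b3574904dd3de24d32d) (.leaf 0))) (.node (.node (.leaf 0x1c80440000010d89069125c30cd104167b0500da6d146c32d262) (.leaf 0)) (.node (.leaf 0x3ed23abc00012505481f481e18748455984f34b842c1be54624d) (.leaf 0)))) (.node (.node (.node (.leaf 0x286b37e2000108a119ed19ec10c70575581e922d5b67612c7546) (.leaf 0x15550e29000042d72c614f100aa484b15e61e5fa56a32e049113)) (.node (.leaf 0x3b922a6f00011e4f174641b116f184543071916622904b295486) (.leaf 0))) (.node (.node (.leaf 0x5d4fbe000112c0305e0f0d044685b7a57e03ce44437928f149) (.leaf 0)) (.node (.leaf 0x512c03f100012ca410ce4d4c1e8205905a08d19c7435b25be2c7) (.leaf 0)))))))) (.node (.node (.node (.node (.node (.node (.node (.leaf 0xc28984f81000000600160015f10d18517a00847083e772c2c7000) (.leaf 0x1fc73b6f00002e2d4e1c46280e5604f5a874b1273954a328f41d)) (.node (.leaf 0x215d2768000013bf323f323e0ea485b3e22776996f356e6217b2) (.leaf 0))) (.node (.node (.leaf 0x20464cd20001098a1c35177e0e8504d75d1ae19c2e664f53770a) (.leaf 0x4ad339700000463c53991efe1c7584757c04c14f11626a295025))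 (.node (.leaf 0x37db2ca100011f84430519f3165485745f06b5d303c6b65fc113) (.leaf 0)))) (.node (.node (.node (.leaf 0x154f0666000104d201d30f630aa405f0982e30f7509322049113) (.leaf 0x2b0b3751000038202fbb19ab124105754d15775779635f025000)) (.node (.leaf 0x1a703ff7000019623b490be00c8684161756c6783107fc28f70a) (.leaf 0))) (.node (.node (.leaf 0x1d9e24b100000e7427cd27cc0cf185d3a204c14f2cc04b2957bd) (.leaf 0)) (.node (.leaf 0x4a2d4eed000126660dd21e421c6205b7926a238054f50a3337bd) (.leaf 0))))) (.node (.node (.node (.node (.leaf 0x1ccc45e60000028f088f088e0cd40596a82040817795b718b15f) (.leaf 0x27213850000032ca46c94c1710a30435650d155676f27018012d)) (.node (.leaf 0x1134e911fe200001682352636e71e328433241fe5a202c09770b262) (.leaf 0))) (.node (.node (.leaf 0x4339364b00010bf9097503b61a438535365545b14ad12b518621) (.leaf 0)) (.node (.leaf 0x31a8048a000022ce4649464814530510685823f10eb10e537335) (.leaf 0)))) (.node (.node (.node (.leaf 0x2e70337f0000072715ed15ec12c78414f77c96893b272c70a546) (.leaf 0x516b18b500013e2552e0519f1e860572692a51b91aa4ea28f2c7))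 (.node (.leaf 0x408d37dc00011c6823623f4d18b105b5576167b4329026000149) (.leaf 0))) (.node (.node (.leaf 0x194330740000110e2d242c310c460474b22d318353c7d628f41d) (.leaf 0)) (.node (.leaf 0x24333c8800012a1139294be110238475ca41b39e31f314124546) (.leaf 0)))))) (.node (.node (.node (.node (.node (.leaf 0x254749710000017405070506104504f7021ce6ee50e3b07bd000) (.leaf 0x3a07196a0000305d165e4f2916c104f2775637ed09905932d734)) (.node (.leaf 0x1b6353c900011513122e349d0ca70478054b40c86f417b7867d9) (.leaf 0))) (.node (.node (.leaf 0x46970e5600010abf03441f311ab184f1623e208b0407e2000149) (.leaf 0x227b28a700004c2e53da3ec70ec78574032852b05cc05932d7d9)) (.node (.leaf 0x2999166e0001212741222a4e10f185322b7f75c67271d2180156) (.leaf 0)))) (.node (.node (.node (.leaf 0x376e2f11000005f9124212ae164605d49204508b5581e828f149) (.leaf 0x3c54315400003aeb5006525018248494c32ee0f053e3f412d113)) (.node (.leaf 0x49de3df000011add0eed3d671c5485d5e702e1204660435fc15f) (.leaf 0))) (.node (.node (.leaf 0x41223b1a00000fc32a852a8418e30455a05243ee2121475865fc)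 (.leaf 0)) (.node (.leaf 0x2a5d32d80001283538f2333e122685b4e726175716334415f000) (.leaf 0))))) (.node (.node (.node (.node (.leaf 0x2ddb1abd000103ae0c020c0112b685729a6303513d730a7b2000) (.leaf 0x39dc08c8000035503579393016968590d53c975c21a56028f428)) (.node (.leaf 0x526002f7000117ee391f391e1ea60410445656a93e940a113262) (.leaf 0))) (.node (.node (.leaf 0x161f2bf900010d35250725060ac185f4513ec4314623d92c7786) (.leaf 0)) (.node (.leaf 0x2c2d171a000124911a1a47d0126205b23d46b0f57014d97d9156) (.leaf 0)))) (.node (.node (.node (.leaf 0x317a03b8000108521924192314468550554827bc30e1e824d149) (.leaf 0x21e21802035000041e54dbe2a180eb104132f2c60f95702832cb41d)) (.node (.leaf 0x4d251f2600011de84138207e1cc304b31348d1f76d443b4287d9) (.leaf 0))) (.node (.node (.leaf 0x4dcb146a0001126b2fbf2fbe1cd40571fc3be1dc06c5202ab15f) (.leaf 0)) (.node (.leaf 0x24c0505a00012c2010934d0510360417b15676aa0e330b7b2000) (.leaf 0))))))) (.node (.node (.node (.node (.node (.node (.leaf 0xee62924000100e803380337089704d40e37780767d6b402518b)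 (.leaf 0x276f222b00012f442fa20edd10a705f3642c46bd3704de26212d)) (.node (.leaf 0x1c553ffb00001465336b0f6c0cc484b6176a714a35051d2ab7b2) (.leaf 0))) (.node (.node (.leaf 0x41142e7a00010a22049d1db818e28494844cd7397d741f12d537) (.leaf 0x239e1ea4000048d153130e140ef185d30341c0123ab545295025)) (.node (.leaf 0x357a2f8600012046232743de14e685549d33b3d056128711355a) (.leaf 0)))) (.node (.node (.node (.leaf 0x95742cb000005641109110806a684f65b5344cf7194e1113786) (.leaf 0x24be2775000039784984394d103385d3e32c46bd6c14de26212d)) (.node (.leaf 0x2ad2261b00011a233c57349112368453c25e33123d15a77b2000) (.leaf 0))) (.node (.node (.leaf 0x3d0a39d100000f192916293218410555872d472b32347a518786) (.leaf 0)) (.node (.leaf 0x29390e400001274b0e3549e710e285316116537f6397407d9156) (.leaf 0))))) (.node (.node (.node (.node (.leaf 0x452e094e0000031d0a4b0a4a1a8305d0e17626077ea47a1562ab) (.leaf 0x4a674430000134133c9729461c6604f67f0b601260f5c368a025)) (.node (.leaf 0x45f72f4a00001732380538041a9784f49650d2cd45820e15618b) (.leaf 0))) (.node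 (.node (.leaf 0x38cd21f200000c9b1e8a0094167405b36016237468423f70b28f) (.leaf 0)) (.node (.leaf 0x6025249000123a642d638b206440457df50b55077d12a5fc68a) (.leaf 0)))) (.node (.node (.node (.leaf 0x4cd113ea000107bb175f17881cb48431f359712057a50a33315f) (.leaf 0x3b5c405f0001400d532b44d616e485962078e73306a29c33324d)) (.node (.leaf 0x3dfb054b00001d26404e404d185785707770c67505211a51870b) (.leaf 0))) (.node (.node (.leaf 0xd914e150a7000011ba2e7d2e7c0a970437bb4df80767d71402518b) (.leaf 0)) (.node (.leaf 0x104d269d00012b131fc14c7208c505b3cd6e87fa24c78970a786) (.leaf 0)))))) (.node (.node (.node (.node (.node (.leaf 0x225f4a0a0000020006cc06cb0ec485f71677012071d08e18b15f) (.leaf 0x17a30ce000003188237208eb0af30471390e332861b2df2625be)) (.node (.leaf 0x50c4e45000115c807191aa104e205977e3753ea68156e70b6de) (.leaf 0))) (.node (.node (.leaf 0x515f27f800010b5c1ae307b01e8585f3f23a643f64a4636de70a) (.leaf 0x10381733000050a14ee0164008c38512431d33ed7e730270a70b)) (.node (.leaf 0x3371073f000021f7442b01f514878430aa79350f61c4206de2ab)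 (.leaf 0)))) (.node (.node (.node (.leaf 0x2e6511d80000068e144c144b12c704b1c051039f1f811170a12d) (.leaf 0x4bcc392400013c7a529f22161c950595774c349b4e905d6de70a)) (.node (.leaf 0x443e293900011b9b3e5338671a6285d40f2fc47f05880412d537) (.leaf 0))) (.node (.node (.leaf 0x178925770001106525ab2be10af10533b24073ea37d65341d55a) (.leaf 0)) (.node (.leaf 0x466f49b5000029214b3c4b3b1aa705f70e57842564447c000335) (.leaf 0))))) (.node (.node (.node (.node (.leaf 0x36ca11280001043d0db50db416360551ae4ad72b27513768a786) (.leaf 0x393c36e50001369c16533f5b168385954239c60759969c53718b)) (.node (.leaf 0x33ec20c3000118ab33c32661149705933d2192ea3a94646de2ab) (.leaf 0))) (.node (.node (.leaf 0x30c5482d00000dd80af4266e143604b6e45654cf11440a1132cb) (.leaf 0)) (.node (.leaf 0x3101d5a00002573487409ba04a28412db4c00a315104a3352cb) (.leaf 0)))) (.node (.node (.node (.leaf 0x4c5b2f8d000108eb1aa70cf91ca485749d6912a42884a83337b2) (.leaf 0x50bb4b7d000143e452710e201e728577376340125101233337bd)) (.node (.leaf 0x14ce1c6b00001eb5422316e70a9505d2c45bd2281737777bd32d)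 (.leaf 0))) (.node (.node (.leaf 0x3a7810d20001131130fd30fc16c78511a80fe66c03546c428333) (.leaf 0)) (.node (.leaf 0x3f523d0f00012d1b4d934d9218858455d576c0051f44a151832d) (.leaf 0)))))))))

/-- part of a table -/
def entries58 : Trie := (.node (.node (.node (.node (.node (.node (.node (.node (.leaf 0x479238ab0001001d007200711af284556a72d07d79a65c12d486) (.leaf 0x385b383800012da11a7d4dd2166485756352771b7eb64d70b24d)) (.node (.leaf 0x2d6505a30000136b31a931a812a704b0852713657990b226212d) (.leaf 0))) (.node (.node (.leaf 0x3cc527a0001093b1b751b7404b60597e35a065656940a1132cb) (.leaf 0x2a693d1f000145183b2d48ad12270535d670f63668527a180546)) (.node (.leaf 0x14f2881038f00011f16393f368310d10430528031413c86d82c7000) (.leaf 0)))) (.node (.node (.node (.leaf 0x52731252000104870e8d02851ea68471c919331955b5c3113262) (.leaf 0x372126010001376e46ac518216430433c017176422333e486335)) (.node (.leaf 0x50f9163a00011909119d3ac01e768532255c538031e03f68a025) (.leaf 0))) (.node (.node (.leaf 0x5272016200000e27272420f81ea68450212234107d4392113262)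 (.leaf 0)) (.node (.leaf 0x177148004c9000125e8375524600a9104106c4c775c19950602532d) (.leaf 0))))) (.node (.node (.node (.node (.leaf 0x13fb01020000024907b407b30a778570170e028448078d1245fc) (.leaf 0x47010c9b0000322d2ed720ca1ae20431315ef68d3a6291546486)) (.node (.leaf 0x51af14e300001620365632c51e9205f2081f92b44296b65be2c7) (.leaf 0))) (.node (.node (.leaf 0x689316400000bae0b93217506540534c42c35505570e25fc113) (.leaf 0)) (.node (.leaf 0x372251490000226445d845d716430457c83835a30a0340537333) (.leaf 0)))) (.node (.node (.node (.leaf 0x32cb1231000006da151e151d14740571c620937468433870b28f) (.leaf 0x5db29ec00003d4652be52b804f48574244916371da22170b24d)) (.node (.leaf 0x7ce2eb000001bfe3ecf3ece067605d48a0e11b82dc09568a55a) (.leaf 0))) (.node (.node (.leaf 0x11323c36000110bc27d32c8408e38455c141b11d3af3141245be) (.leaf 0)) (.node (.leaf 0x299a1c270001299a40194b8a10f18552bf2a837f4dc78b41d518) (.leaf 0)))))) (.node (.node (.node (.node (.node (.leaf 0x75612720001012f04220421066684d1d00eb5bf20109511355a) (.leaf 0x269514be00002fce2e583b36107184b2047ad1ef7c91ec124518))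 (.node (.leaf 0x44cf14ac000014c2274c133c1a7405f2015bb35623d65c12d24d) (.leaf 0))) (.node (.node (.leaf 0x27db471b00000a701e731e7210b68576ca6f733430718e7b2586) (.leaf 0xf1d291400014a84281e43df08a185b40c16345c6505c7262149)) (.node (.leaf 0x46593692000120b31d0d44491aa485353d0b85a964417a54668a) (.leaf 0)))) (.node (.node (.node (.leaf 0x177f500e000105af079011df0ae685f7aa5e31664bf73a7b2537) (.leaf 0x2b94096000013a3737d6522612518490e408c75711b72e025000)) (.node (.leaf 0x4f6380300011a801d6f3cde04d584d55b0e74eb52c48c428734) (.leaf 0))) (.node (.node (.leaf 0x310a39dd00010f6e29dd29dc14410555876cb11e58c5806de734) (.leaf 0)) (.node (.leaf 0x152515a000127bc33bb187304668457c94e365a19861311355a) (.leaf 0))))) (.node (.node (.node (.node (.leaf 0x25f02fe8000003650b290b2810578414a75021e344724b7bd12d) (.leaf 0x47d93af6000034aa4bdc495d1af485359e1443824451a454628f)) (.node (.leaf 0x3d4f286f000117902de81ed0184505f3fe76c7fa2c15815182cb) (.leaf 0))) (.node (.node (.leaf 0x2e67110200010ce8245d245c12c704f1ac1d12356337612c7546)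 (.leaf 0)) (.node (.leaf 0x438c31410001241f0ff1357a1a510594c20b96927ca268518786) (.leaf 0)))) (.node (.node (.node (.leaf 0x14d408a700010809185a0cdb0a958490d35d975471e0db025428) (.leaf 0x352e4240000040f24dd52f9c14e305d64c01625f48232a7345be)) (.node (.leaf 0x199b2d8100001d882a4702260c548574701151b76f46b65fc7b2) (.leaf 0))) (.node (.node (.leaf 0x18702060000012131b552f220c2784133602109d1700c22957d9) (.leaf 0)) (.node (.leaf 0x4062289900002ba01daf276118a704540239566c49c147586335) (.leaf 0))))))) (.node (.node (.node (.node (.node (.node (.leaf 0x3ff402f8000000a4024f024e18978490445b57981d81781562ab) (.leaf 0x162420b900002ebc2d6f45c70ac304933c51c1a75e530270a70b)) (.node (.leaf 0x16a708210000141532cf32ce0ad304f0be1c36021934d670a70b) (.leaf 0))) (.node (.node (.leaf 0x734c04000009d605911cfa04478477433835a3155340537333) (.leaf 0x40f20e8c0000477b53ca51ff18b784516752417223b147586335)) (.node (.leaf 0x4c8b450600001feb1b25437d1cb105769155830115e416734180) (.leaf 0)))) (.node (.node (.node (.leaf 0x318e2c560001051b10381037145105d4583486cc7c108255a214)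 (.leaf 0x3ee834db000038c73a255040187705151a5c40f41120480005fc)) (.node (.leaf 0x12d06100d7d000019c13bd43650064484114e72f6621a91b15fc68a) (.leaf 0))) (.node (.node (.leaf 0x240c39d500000ec82880287f10220595873b530057f4d9049586) (.leaf 0)) (.node (.leaf 0x4b2b2df2000126d049881dfe1c820574780c643f1356b65fc2c7) (.leaf 0))))) (.node (.node (.node (.node (.leaf 0x14a74b9e000102d60970096f0a9304f73b64a42657e60a7bd18b) (.leaf 0x38b352c500003368441a44b316728477eb2086a348d64d62155a)) (.node (.leaf 0x179a2cf8000016dd377737760af18554663cd5df0ed77a41d55a) (.leaf 0))) (.node (.node (.leaf 0x260430b800010c4b22f513f810610494b93d137f5051ec124518) (.leaf 0)) (.node (.leaf 0x4e728db0001233e14fb085804d504f4076967ff59e390428214) (.leaf 0)))) (.node (.node (.node (.leaf 0xb1c01530000077416c016bf06e285901f15523717163b6216de) (.leaf 0x51a945ae00003f15526546cf1e920536a46a649b1575b25fc2c7)) (.node (.leaf 0x4375497e00001cc83fdc3fdb1a4784b7026eb5b125504751870b) (.leaf 0))) (.node (.node (.leaf 0x193d252e000011672dd52dd40c4585b3ab6810873a110e486124)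 (.leaf 0)) (.node (.leaf 0x15a74cef00012a914c330fd10ab304f75e7e30b44275bc180333) (.leaf 0)))))) (.node (.node (.node (.node (.node (.leaf 0x3fb0575000101ba05ed05ec04b785707b4e45b125554a21470b) (.leaf 0x5262389a000130ef4f6b3ed01ea604556964c19140728768a124)) (.node (.leaf 0x3b7c170c000015683537353616e685923c6743ea4a71a068a6de) (.leaf 0))) (.node (.node (.leaf 0x30f53eaf00000b121ff71ff6143784b5f57ca6754d10c214970b) (.leaf 0x29722dea00004e0253de0d9d10e684547751f7580c76237b2518)) (.node (.leaf 0x1e7330f300012193450e15bc0e278474bd1fa2b05cc1541497d9) (.leaf 0)))) (.node (.node (.node (.leaf 0x7f2377900010644137d03a5067784554f5f67ac6a74c57345fc) (.leaf 0x30a133da00003bb832e6253914330434ff4ae76606f1cd214621)) (.node (.leaf 0x11dc29e100011b3a2f09329d08f48594240ae6376a63b17d924d) (.leaf 0))) (.node (.node (.leaf 0x279a3909000010162b3a2b3910b28555725c060b339747049586) (.leaf 0)) (.node (.leaf 0x2e18517c000128aa47464ae712c18517cb6593120ee11170a586) (.leaf 0))))) (.node (.node (.node (.node (.leaf 0x12be167f000003f60cd90cd80a3585d22e8013ba540242124149)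 (.leaf 0x18e18d3000035ea511d1c69047405d26c1f535623d1a233324d)) (.node (.leaf 0x4842051600011848080325721c2404507126607f31623162115f) (.leaf 0))) (.node (.node (.leaf 0x133906c800000d8a25c400a10a658530a140e07a69641441d55a) (.leaf 0)) (.node (.leaf 0x2fac3023000025062ead482012f20594ac3590f539669b7d9156) (.leaf 0)))) (.node (.node (.node (.leaf 0x32f73812000008a219ef19ee147784f55e12828e7703472cb5be) (.leaf 0x466b324f000142d850f8340c1aa70574db7451463754e2000333)) (.node (.leaf 0x13982ebb00011e50268c3edc0a7485148a6bb70511232e04928f) (.leaf 0))) (.node (.node (.leaf 0x3b692aaa000012c12455070316e60534365655df43e1a01136de) (.leaf 0)) (.node (.leaf 0x2cbf148e00012ca615dd3507127285f1ff7b96275266ed7d9518) (.leaf 0)))))))) (.node (.node (.node (.node (.node (.node (.node (.leaf 0x39533dc5000100600162016116868475e424f4e85a54ea24d32d) (.leaf 0x38bc0ed900012e2d4e1d45d5167285916d53a0d003023f70b55a)) (.node (.leaf 0x36c24280000013c0324025d816360456540e17fa0933c768a786) (.leaf 0))) (.node (.node (.leaf 0x30c422ad0000098b1c371c36143604936f6da0061c02ad1132cb)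 (.leaf 0x209e1eab0001463d53ba397f0e9185d30377127d47034555a2c7)) (.node (.leaf 0x33dd09ae00011f852c424306149685b0e87c22286e456028f428) (.leaf 0)))) (.node (.node (.node (.leaf 0x157d3e6f000004d30f650f640aa685b5f078206446d3c115f734) (.leaf 0x3cd53e3000138224a3b316b04b605b8081c452a0632ad1132cb)) (.node (.leaf 0x29850ebd0000196337573b4a10f104b16a65b37f4df37b41d518) (.leaf 0))) (.node (.node (.leaf 0x137b2c7100010e7415c527ce0a6785745b02b32863e2422625be) (.leaf 0)) (.node (.leaf 0x25f606fa00002667492b492a105784d0a552d39e1c271802512d) (.leaf 0))))) (.node (.node (.node (.node (.leaf 0x4a7210500001028f089108901c6684519b06f3cc54f1371137bd) (.leaf 0x4b4f3c4d000132ca141350131c8505f5c26431b93774636de70a)) (.node (.leaf 0x1a041e1a000016832bd636000c810492ee5f52f80b942055a2c7) (.leaf 0))) (.node (.node (.leaf 0x4cad1c3100000bfa222f222e1cb305b2c03231f75cd0732957d9) (.leaf 0)) (.node (.leaf 0x4034446a000122ce464a40f418a28496835cc3b639d1a412d214) (.leaf 0)))) (.node (.node (.node (.leaf 0x1ae61c7e0001072715ef15ee0c9604d2c574b49b6f24ea28f2c7)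 (.leaf 0x1b853c9200013e2643ec52c90cb104b5cc1870ea62a79c786180)) (.node (.leaf 0x17963f6300001c693f4e33860af184d6094246a35d630841d6de) (.leaf 0))) (.node (.node (.leaf 0x322928b90001110e2d262d2514620534053753ea2f644b70b55a) (.leaf 0)) (.node (.leaf 0x9a2387e00002a15344e387d06b304556773f50854e57d149621) (.leaf 0)))))) (.node (.node (.node (.node (.node (.leaf 0x2052f250001017405090508048204b4933b97d128c4045be32d) (.leaf 0x1ba2dce144d0001305d2f99199612b605d1fa71f33053949815f586)) (.node (.leaf 0x2f9087c000015142c28349e04978530ce6864266d510e48618b) (.leaf 0))) (.node (.node (.leaf 0x16d326af00000ac01f3207f30ad58473cf77f72b28675b70a786) (.leaf 0x26e33add00014c2e2b8b3622107604759a6ce5033c649815f518)) (.node (.leaf 0x2adc3119000121281bb61f9b12368594bf60c5f87f034415f000) (.leaf 0)))) (.node (.node (.node (.leaf 0x26d00622000005fa12b012af10758410920d10b37be1d2180156) (.leaf 0x1601536700013aeb3a3b36c40ac10437fb3b75711d430270a786)) (.node (.leaf 0x44612ed700011ade0d6e38841a6704348d32c3ee1ff7b55865be) (.leaf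 0))) (.node (.node (.leaf 0x346815c800010fc32a86292514c705121b37c7a262b62f428333) (.leaf 0)) (.node (.leaf 0x19cf2efe0000283636ba4a940c5605f48f58a30f74f0cf28f41d) (.leaf 0))))) (.node (.node (.node (.node (.leaf 0x44bd4815000003af0c040c031a7285b6e332f6cf7e11a4546486) (.leaf 0x1bda46230001355049b929dd0cb48556b005a1b75ef22170b7b2)) (.node (.leaf 0x3e86417d000017ef3920311e187104d63e71a65a1b67b75866de) (.leaf 0))) (.node (.node (.leaf 0x22f01bc000010d36163b25080ed78412b905000f6fc3cb32d049) (.leaf 0)) (.node (.leaf 0x4530005c00002492284a24451a838410086c46b358a79f5182ab) (.leaf 0)))) (.node (.node (.node (.leaf 0x74e06c60000085319261925066605d0a11d679b0584e168a6de) (.leaf 0x50eb4532000141e93bb923d51e760576960b60123b713768a7bd)) (.node (.leaf 0x4885195600001de9413907de1c3204b27649c70313f075621124) (.leaf 0))) (.node (.node (.leaf 0xe828d6437a0000126c2fc00b2510d584d66f42235d02c4d670a000) (.leaf 0)) (.node (.leaf 0xe1808e800002c213c9d3f1008818510d74112ef37d63c025428) (.leaf 0))))))) (.node (.node (.node (.node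 (.node (.node (.leaf 0x4b9f1801000000e9033a03391c9185f25604627d5fd3405372c7) (.leaf 0x39a9424200012f451ca02f98169305364c12e2ea28d69c48618b)) (.node (.leaf 0x506a0aa100011465336c0bf81e6605510109c2f411739268a025) (.leaf 0))) (.node (.node (.leaf 0x2946244800000a231dba1db910e504d3974540b35fb677262156) (.leaf 0x22ff1625000048d643831dd10ed785f224465089367174428049)) (.node (.leaf 0xe1f10650000204737b9366e088185f19d4c415a6877187bd428) (.leaf 0)))) (.node (.node (.node (.leaf 0x48e91811000105640191110a1c350532580620ea13062878641d) (.leaf 0x511136f900013978520138ac1e8184354456143f06133e53770a)) (.node (.leaf 0x42b138c700001a243c5808001a3384356c4ce5a30e1164586335) (.leaf 0))) (.node (.node (.leaf 0x4d044bb900010f1904b81d231cc204973d4992da47b4502ab41d) (.leaf 0)) (.node (.leaf 0x86b36530000274c360b345206870575391ae6071da71c53718b) (.leaf 0))))) (.node (.node (.node (.node (.leaf 0x3ac50a5e0001031d0a4d0a4c16d404b0fa7eb42d27745018b68a) (.leaf 0x490f0203000134164be5083e1c4105f02e44d4107652a7486124)) (.node (.leaf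 0x4d52319000117323807380604d484b3782be6627765b718b113) (.leaf 0))) (.node (.node (.leaf 0x9be351e00010c9b23a5193c06b385d51f7193ed26f26a29570b) (.leaf 0)) (.node (.leaf 0x31751a38000023a8470d43f3144684b28c49e45c6505cb28f149) (.leaf 0)))) (.node (.node (.node (.leaf 0x3e4a3836000007bc178a178918640555632de6ef6290a954628f) (.leaf 0x33a129010001400e4d104670149304340b07178524f69c53718b)) (.node (.leaf 0xa182fd500011d26381a09d406c28514a51fb7bc2c15742ab295) (.leaf 0))) (.node (.node (.leaf 0x37da3118000111ba2e7e061316548554bf5876e21f12fa5fc113) (.leaf 0)) (.node (.leaf 0x5f1465600002b144b4f4c7304f58436b936e3a834843d786486) (.leaf 0)))))) (.node (.node (.node (.node (.node (.leaf 0x4ae14dd10001020006ce06cd1c760437741c40ec3732ad1137bd) (.leaf 0x2d0331ff0000318926f74af312a20474d17f145a7f034d049000)) (.node (.leaf 0x49c30601000115c90cb935d01c5404709005707f0ae6c55be15f) (.leaf 0))) (.node (.node (.leaf 0x3dc743e600000b5d03fe20b2185504f6793ab2c238f47a518786) (.leaf 0x3a31b74000150ba34ae4c6204b30472b11fa5b15e515414970b))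 (.node (.leaf 0x15440bb6000121f737682d590aa40491193bc5f733a30d7d968a) (.leaf 0)))) (.node (.node (.node (.leaf 0x20e2202e0001068e01ed144d0e9604532c58a6986031e828f70a) (.leaf 0xe3317300013c7b4bae52a004570474c627c3e403864f486333)) (.node (.leaf 0x4ba82f6c00001b9c163f20d01c9205149a6881b41ce5b25fc2c7) (.leaf 0))) (.node (.node (.leaf 0x26164dca000010661f9f092a106184d7736311ef77f2df124156) (.leaf 0)) (.node (.leaf 0xe5101940000292235472fb408858430242460055f363c025428) (.leaf 0))))) (.node (.node (.node (.node (.leaf 0x412547bc0000043e0db70db618e304b6da6404793250260005fc) (.leaf 0x196d49ae0000369d500f45b30c4705b70c7d700f36905d55a7d9)) (.node (.leaf 0x43f54e25000018ac1d0b04991a5784b77b35b2a673d15d518621) (.leaf 0))) (.node (.node (.leaf 0x1b13487b00010dd82670266f0ca18476ea5c20ea62a704786180) (.leaf 0)) (.node (.leaf 0x11e119070001257419e4487508f604327133c6cf38d3c17b2537) (.leaf 0)))) (.node (.node (.node (.leaf 0x2a283fcf000008ec1aa91aa812230516146941940320bf262546) (.leaf 0x48401cbf000043ec25764e581c240412ca7d30fd5f207570b7b2))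 (.node (.leaf 0x4fd1382200011eb52ce542241e548435611bd2a40d70e25be15f) (.leaf 0))) (.node (.node (.leaf 0x25e4305f0000131230fe12dc10570494af7df1e35b67147bd546) (.leaf 0)) (.node (.leaf 0x4f180b5600002d1d3e3823961e4185111039c2e13dd6be537124) (.leaf 0)))))))))

/-- part of a table -/
def entries59 : Trie := (.node (.node (.node (.node (.node (.node (.node (.node (.leaf 0x123624310000001e007300000a2584d39602b0194b438c262295) (.leaf 0x47cb12d500002da34dd44dd31af40571d745e3564bc58b12d28f)) (.node (.leaf 0x20c242ad0001136b2d5431aa0e950456584922410c03ef53770a) (.leaf 0))) (.node (.node (.leaf 0x25ff239b0001093c02c51b76105785f38862539e7c760a02512d) (.leaf 0x3a79369100004519296e50c716c785353d0300b420562f428333)) (.node (.leaf 0x150253117bf00001f173350337410438432517696bd71f24b02512d) (.leaf 0)))) (.node (.node (.node (.leaf 0x24c9181e000004880e8f0e8e103605325875e6aa07b6e97b2000) (.leaf 0x2e35005e0000376f22bb518312c384b0087c968913961970a12d)) (.node (.leaf 0x4693029d0000190a3ac23ac11ab184703865d78f062118000295)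 (.leaf 0))) (.node (.node (.leaf 0x5e0190000010e272726272504f50412710156cf01a2e7786537) (.leaf 0)) (.node (.leaf 0x1acc47d6000025ea48cb48ca0c950596dc2101b45546f853770a) (.leaf 0))))) (.node (.node (.node (.node (.leaf 0x31b14a8e0001024900a207b514538437216867dd1d6538486333) (.leaf 0x2ee81acd0001322d4c911e2c12d705129b7a96366851452c7546)) (.node (.leaf 0x4ea2404c00001621365702721e3304561f73e3a4553347786049) (.leaf 0))) (.node (.node (.leaf 0x369205e600010bae21772176163284508d3b472b6e0250333786) (.leaf 0)) (.node (.leaf 0x46af0c2b000122641f8145d91ab205f1266f04eb4db7dc12d734) (.leaf 0)))) (.node (.node (.node (.leaf 0x339173c000106da151f036c04a38532435553ed26f26729570b) (.leaf 0x11ae092600013d4752bf4e9d08f305d0df41b11d7ea38c1245fc)) (.node (.leaf 0x4eb12f9100011bfe3c513d4a1e3384349e0fa4d476717d2cb049) (.leaf 0))) (.node (.node (.leaf 0x422c4c59000010bd2c862c851a2305974b4ce5a331a401586333) (.leaf 0)) (.node (.leaf 0x265230d40000299b394640ca10658454bb2450b318178b180518) (.leaf 0)))))) (.node (.node (.node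 (.node (.node (.leaf 0x467d0aec00000130042404231aa785b1065b017223a7ae586335) (.leaf 0x393e04f300012fce2cea49b8168385d06f29974874b64f4862ab)) (.node (.leaf 0x16ba4904000114c21f1e340d0ad38556f71897440fc3d970a621) (.leaf 0))) (.node (.node (.leaf 0x367d396f00000a7115a71e74162785b57b6e01a74c026729570b) (.leaf 0x3ecb03ec00004a8537a753e8187405705871d66629d80454628f)) (.node (.leaf 0xdb3341e000020b5444a3a8c08758475057f63ea7e141741d6de) (.leaf 0)))) (.node (.node (.node (.leaf 0x1ae10803000005b011e111e00c960430bc3c02414be71324d2c7) (.leaf 0x44181eba00003a3c4f4850671a6185130553c23769616458655a)) (.node (.leaf 0xe4b057c00001a813ce03cdf088505707b7d549021960a7bd32d) (.leaf 0))) (.node (.node (.leaf 0xb9480030e800010f6f204029de1c220414bc37531b27b56e70b124) (.leaf 0)) (.node (.leaf 0xb8a3a9d000027bd286321ab06f20555966447e81f422c6216de) (.leaf 0))))) (.node (.node (.node (.node (.leaf 0x20373d7b0001036500f50b2a0e8284f5dd4c219c2e60c95be70a) (.leaf 0x1dc000f042b000134ab50b850b7044405f06145d50105a0c95fc113)) (.node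 (.leaf 0x35b1005d00001791388b388a14f384300874e7ac58a6357345be) (.leaf 0))) (.node (.node (.leaf 0x48a5404000000ce922f019a91c3304b61f04e6977f421c7867d9) (.leaf 0)) (.node (.leaf 0x2d601a7a000124200ccd10c612a70412934c9759633435262546) (.leaf 0)))) (.node (.node (.node (.leaf 0x3e0921740000080a185c185b18610533542c507a3607ae00055a) (.leaf 0x1df12a81000040f42ece53460cf68434330a014f31040a68a7bd)) (.node (.leaf 0x503433ee00011d88366712021e628495007361e627829c333025) (.leaf 0))) (.node (.node (.leaf 0x2c094da50001121316612f23126105377027110c0170b2262518) (.leaf 0)) (.node (.leaf 0x46051e000012ba036fb039504c50417d40302d218f62f428214) (.leaf 0))))))) (.node (.node (.node (.node (.node (.node (.leaf 0x1bcb45e7000000a5025102500cb40576a820908150433870b15f) (.leaf 0x6c7294200012ebc4e1a3c27065604f4111ad45c3f26d028f295)) (.node (.leaf 0xd75347200001416152d32d0086784b5101191075db0b22625be) (.leaf 0))) (.node (.node (.leaf 0x420e402f000109d61cfc1cfb1a2205d61c6f04eb62e7dc12d734) (.leaf 0x1a1c2d970001477c3611171e0c818594713c219c35b4646de2c7))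 (.node (.leaf 0x8aa2beb00011fec0b0e27fc069305544f66d8072125806de2ab) (.leaf 0)))) (.node (.node (.node (.leaf 0x459b07f70000051c103a10391a918570bb2cc75403a581156428) (.leaf 0xc2c4fb4000038ca29f24e7208250597a53d1651062435124295)) (.node (.leaf 0x4799140a000019c23bd539f91af28531f56ec71166d3e6546537) (.leaf 0))) (.node (.node (.leaf 0x3f004bb800010ec8288105ba188104173d3ad15a77115d156428) (.leaf 0)) (.node (.leaf 0x1e344184000126d10e0449890e2584963f122788342186214180) (.leaf 0))))) (.node (.node (.node (.node (.leaf 0x1d083342000002d7097209710ce10514f304469a2b8265149025) (.leaf 0x20020d6e0000336a504809d80e810451447a321133608255a2c7)) (.node (.leaf 0x19fc1d23000116dd0b2b37780c578592d42290836ec56255a049) (.leaf 0))) (.node (.node (.leaf 0x4d8b158300000c4c22f722f61cd205721616d7883d10392ab180) (.leaf 0)) (.node (.leaf 0x92320bb0001233f46a646a506a304733c59e1a741e26a29570b) (.leaf 0)))) (.node (.node (.node (.leaf 0x18ea2d8b0001077416c216c10c3705547062e0c836909f1497d9) (.leaf 0x3bd2220200013f151c3852db16f48453622596376a61a233324d))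 (.node (.leaf 0x4872f2a00011cc83fdd2a6f04d204f4937377b42ae08e2ab295) (.leaf 0))) (.node (.node (.leaf 0x4420035d000111672dd72dd61a6204104f6f425d00c1a4546486) (.leaf 0)) (.node (.leaf 0x51034d2600012a922e734b3e1e810477633881b91aa6645372c7) (.leaf 0)))))) (.node (.node (.node (.node (.node (.leaf 0x1c603fe7000001bb010e05ee0cc704161648d1f75bb236428049) (.leaf 0x3370b04000030f031503be604a384f10933d5086f554514970b)) (.node (.leaf 0x1bea47d80001156806f230cc0cb70556dc26900f5dd17b2cb7d9) (.leaf 0))) (.node (.node (.leaf 0x3e8a360e00000b131ff91ff818710555325d879b0fe7b658655a) (.leaf 0x32dc453500004e083ffd53f814748596962774b864b09762124d)) (.node (.leaf 0x33e11b3b000021940c713cee14970432aa4dd7980034fa6de18b) (.leaf 0)))) (.node (.node (.node (.leaf 0x51fa0fe200000645137f137e1e968551920e950c52f1e824d70a) (.leaf 0x164952e600003bb930f041f00ac50537ee21e6561df61970a786)) (.node (.leaf 0x4432d1800001b3b3dda3dd904c404746840f01e4c008e18b68a) (.leaf 0))) (.node (.node (.leaf 0x45573225000110162b3c2b3b1a8584f4d52b876e04667e156428)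 (.leaf 0)) (.node (.leaf 0x1fff4d1e000128ac4abb20520e5785f76277118533134555a049) (.leaf 0))))) (.node (.node (.node (.node (.leaf 0x26841f71000003f70cdb0cda107104931c13d75821e74d262518) (.leaf 0xf9e1db2000035eb454a17d208b185d2e322f7d20884de262149)) (.node (.leaf 0xae026c9000018491e4839ac06d50413d24b63b641c1ee32d734) (.leaf 0))) (.node (.node (.leaf 0x49a70a9d00010d8a171225c51c5304f1007871851eb17f55a049) (.leaf 0)) (.node (.leaf 0x36e83ceb000025074818402216370515d258c3ed4d008a29570b) (.leaf 0)))) (.node (.node (.node (.leaf 0x15323ca0000108a219f012370aa38455cd02c0b41c4308180335) (.leaf 0xc472e46000142d953794a46082604f48134b7ff12c73a15f214)) (.node (.leaf 0xef2330800011e5141b2089808978454ed42a79863a2e40252ab) (.leaf 0))) (.node (.node (.leaf 0x21ee393b000112c10600305f0eb705d5785c208347117b7867d9) (.leaf 0)) (.node (.leaf 0x4c003aa900002ca74d4e4d4d1ca10415974f71827ce5ae214180) (.leaf 0)))))))) (.node (.node (.node (.node (.node (.node (.node (.leaf 0x4aeb46ea00000061016401631c760576c73c514f2ec5c368a025)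 (.leaf 0x214c0200012e2f11911f5204450437431bb6cc3f246455a214)) (.node (.leaf 0x343422fb000013c13241018114c284937568401944461d2ab149) (.leaf 0))) (.node (.node (.leaf 0x1b120d5e0001098b04961c380ca184514373e07232c347786180) (.leaf 0x2c2c0a660000463e39ab52c412620590fb2ff6270847407d9156)) (.node (.leaf 0xad70e6900011f864308430706d484f1635325a91ba5202ab68a) (.leaf 0)))) (.node (.node (.node (.leaf 0x25c53488000104d30f670f66105504b51154130044163c7bd586) (.leaf 0x47584bd50000382345a009981ae485173f32f6372e21a454628f)) (.node (.leaf 0x337f1a55000119631ace3b4b148785f29025868b58758055a2ab) (.leaf 0))) (.node (.node (.leaf 0x40ed06d300000e7527d027cf18b705b0a22821463757c4000333) (.leaf 0)) (.node (.leaf 0x20312fbe0001266731d6492c0e828434a05752f879d4765fc70a) (.leaf 0))))) (.node (.node (.node (.node (.leaf 0x124433f400000290089308920a260495023ca72535c2947b2214) (.leaf 0x2c530060000132cc15b35014126584700902c0f5701308180156)) (.node (.leaf 0xd0025ae0001168328221ac608640413b779966618c30d04924d) (.leaf 0))) (.node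 (.node (.leaf 0x29552de800010bfa2230200710e584b47747b7586bf5c7262518) (.leaf 0)) (.node (.leaf 0x4ec02fec000022d04261200c1e340414a76834ca1c256e70b7b2) (.leaf 0)))) (.node (.node (.node (.leaf 0x9df534900000728133b15f006b685f7f64e30a36015c31132cb) (.leaf 0x1c6d3d3300013e2751aa204d0cc705b5d819b0c85dd0cc4287d9)) (.node (.leaf 0x52ca32a400001c6a2ae2072e1eb40554e40790816bb2f933515f) (.leaf 0))) (.node (.node (.leaf 0x45723a190001110f2d282d271a8784558c4be7487287db15618b) (.leaf 0)) (.node (.leaf 0x3578150700002a163b332db214e685120a41e13c4a90c568a6de) (.leaf 0)))))) (.node (.node (.node (.node (.node (.leaf 0x4abd4b7400000175050b050a1c7285b7371dd1ca1d03fc333025) (.leaf 0x34c3229c0000305e24703fad14d404736e6a050153a34a2ab68a)) (.node (.leaf 0x1b4734e20000151534a0349f0ca404f51b10b6b772d6cd6217b2) (.leaf 0))) (.node (.node (.leaf 0x1848275800000ac107ee1f330c260513e11212e13e203f113124) (.leaf 0x3ffc35ff00004c3547c93ef418978595316d780780279f1562ab)) (.node (.leaf 0x15a1fcf310c0000212944ac0db10e5605f4be6140f95da0cf28f41d)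 (.leaf 0)))) (.node (.node (.node (.leaf 0x3dab1b02000005fb12b212b118530572a51405b15e57db51870b) (.leaf 0x4ca22f3200003aec221b52511cb30454941fa2b06d41541497d9)) (.node (.leaf 0x12770d7f00001adf320e19d70a2784f14e80866c6a45ff180333) (.leaf 0))) (.node (.node (.leaf 0x489a352100000fc42a882a871c3285552205a4d879623170b262) (.leaf 0)) (.node (.leaf 0x2d2d303e0000283730803ba012a305b4ad4ed23571027018012d) (.leaf 0))))) (.node (.node (.node (.node (.leaf 0x28b53c6f000103af0bd30c0510d384b5c580322d3326d82c7546) (.leaf 0x14827d1000135514e4c26fe04660513ec0805bf2f618a11355a)) (.node (.leaf 0x4d383cd0000117ef392239211cc38515d10093a43090cc4287d9) (.leaf 0))) (.node (.node (.leaf 0x2e9a07f300000d3821aa18cd12d18550bb1893123d130470a000) (.leaf 0)) (.node (.leaf 0x34ca392d0001249228e114b014d40555776e35011fe5202ab68a) (.leaf 0)))) (.node (.node (.node (.leaf 0x4ea10a9a00010853027919271e330431004cb29e5e36282cb7d9) (.leaf 0x315128e4000041ea4ad6107614448434082766621ba4765fc68a)) (.node (.leaf 0x1833307000001dea22793c1b0c258474b202f127551416214180)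 (.leaf 0))) (.node (.node (.leaf 0x85528040001126c2fc22fc1068684b3f33250c10543de28f32d) (.leaf 0)) (.node (.leaf 0x1f0f225a00012c214d024d060e4405f36850b5163670135fc7b2) (.leaf 0))))))) (.node (.node (.node (.node (.node (.node (.leaf 0x47522e88000100e9033c033b1ae48454852fc73356d7dc12d24d) (.leaf 0x64308d100012f46449d4ea306460470d604508b3970cf28f295)) (.node (.leaf 0x4d191856000014661d0113df1cc285325e1fb0724402262ab41d) (.leaf 0))) (.node (.node (.leaf 0x10fc057400000a241abb1dbb08d785907b4675b12327892c770b) (.leaf 0x31d24a59000048d948fc3027145484571e6695fa6420135fc113)) (.node (.leaf 0x3add07950000204843df0c2b16d485b0b12be6621505b718b113) (.leaf 0)))) (.node (.node (.node (.leaf 0x231f3c0700000565110c110b0ee185f5bb52c2f42fe2071497bd) (.leaf 0x467a0c3f0000397949f54b251aa78551287cf7dd5303bd000335)) (.node (.leaf 0x349b1c2200011a241ac93c5914d18572bf0e74eb0fa020428214) (.leaf 0))) (.node (.node (.leaf 0x18ad1e8800010f1a13ea17770c3505b2fe4a40f932c783214180) (.leaf 0)) (.node (.leaf 0x19153bbf0000274d49e829710c4484b5b58021205dd05e5fc7b2)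 (.leaf 0))))) (.node (.node (.node (.node (.leaf 0x3ab350a0000031e0a4e001f04b305751e6016755c554514970b) (.leaf 0x18f412480001341914c940fc0c378491c736214c3a7265149049)) (.node (.leaf 0x2ea848e100001733380806e412d30516f51173656f77892c7546) (.leaf 0))) (.node (.node (.leaf 0x182b49a200000c9c23a723a60c2505770c1fc59b2b960073441d) (.leaf 0)) (.node (.leaf 0xd73176000123a9470e1383045684f4c644978f5c21e824d149) (.leaf 0)))) (.node (.node (.node (.leaf 0x4cb33c6b000007bd178c178b1cb38475c563209d4f9545295049) (.leaf 0x2e1d3a3400014012494451e912c185b5903b73306e714570a000)) (.node (.leaf 0x22473b9500001d273d8b31510ec404f5b00860fd4f361818b7b2) (.leaf 0))) (.node (.node (.leaf 0x6d432e3000011bb0e981ad006568494e93c965127e3de28f295) (.leaf 0)) (.node (.leaf 0x4b71538300002b1544984c741c868438001f619c6255cb28f70a) (.leaf 0)))))) (.node (.node (.node (.node (.node (.leaf 0x12d63a240000020106d006cf0a3684d58d18d5151a82f17b2214) (.leaf 0x45ce1505000131894fa54d751a9505d20a31075c4a97db15632d)) (.node (.leaf 0x796441b000015ca35d1130d067484d67c63463740f12333328f)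 (.leaf 0))) (.node (.node (.leaf 0x1c31251000010b5d20b420b30cc28433aa04f7887164502ab41d) (.leaf 0x2fd5174f000150cc34e053ff12f584b24466064739b0bf262156)) (.node (.leaf 0x401b0b2b000021f818ad430518a185710b5d83580677b7586149) (.leaf 0)))) (.node (.node (.node (.leaf 0x4a71d9b0000068f144f144e04d304f2e036014622348c428335) (.leaf 0x19933f1000003c7f4af82b250c5484760302e1205dd0c95fc7b2)) (.node (.leaf 0x3552328f00011b9c094b3e5414e48454e07e55253b91a233324d) (.leaf 0))) (.node (.node (.leaf 0x392d1c3300011066052b2be2168305b2c044674820d10e48618b) (.leaf 0)) (.node (.leaf 0x4f4e469c000129220f1341c41e4405d6c067d1dc7c70135fc7b2) (.leaf 0))))) (.node (.node (.node (.node (.leaf 0x25f30f060000043f0db90db8105784717142a0c46bb2e4025546) (.leaf 0x34b30d880000369e2077436314d284715058408b2dd6182ab295)) (.node (.leaf 0xc854514000018ad3a393a38083404b6931f801e77d3b104968a) (.leaf 0))) (.node (.node (.leaf 0x3d4339aa00010dd92672267118450475824f50a368f4a1518786) (.leaf 0)) (.node (.leaf 0x49c90ece0001257648762d111c5405316b6a651634e1775fc7b2)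 (.leaf 0)))) (.node (.node (.node (.leaf 0x101e106e000008ed1aab1aaa08c185d19d7d805f5e84d62c72cb) (.leaf 0x37a90303000043ee44614b8e16530530451c166c33b6f8486333)) (.node (.leaf 0x784496600001eb6422516a606740497013d455d68424e33328f) (.leaf 0))) (.node (.node (.leaf 0x1a32338900011312310030ff0c828454f845819c4212fa5be2c7) (.leaf 0)) (.node (.leaf 0x4184312c00012d1d400c2a6418f20494c05ee07d79a29112d486) (.leaf 0)))))))))

/-- part of a table -/
def entries60 : Trie := (.node (.node (.node (.node (.node (.node (.node (.node (.leaf 0x498803710001001e007500741c510510511f41912a86f8537262) (.leaf 0x21e331d000002da43a7f38540eb70474ce00b2133aa347786049)) (.node (.leaf 0x471045b70001136c063f31ab1ae28416a550422225841f546537) (.leaf 0))) (.node (.node (.leaf 0x21c22bc0000093d1b4409cb048285937072f76e07103b5fc32d) (.leaf 0x276719480000451c53aa4c4e10a704f2754400c419d67726212d)) (.node (.leaf 0x916142b00001f18429e429d06a284d1f85092c238f250335786) (.leaf 0)))) (.node (.node (.node (.leaf 0x460e1d03cf00010488014d0e90088185b05680600507160e02532d)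 (.leaf 0x3d1e2a9f00003770518440a6184185d43476c7fa1a15815182cb)) (.node (.leaf 0x4dfd3f430001190a184b3ac31cd585b60631872404123632d262) (.leaf 0))) (.node (.node (.leaf 0x20df474600000e2820f427270e9585f6d13fe50c4702274862c7) (.leaf 0)) (.node (.leaf 0x3e5030d5000125ea48c5485818648414bb25b52561141f12d28f) (.leaf 0))))) (.node (.node (.node (.node (.leaf 0x271838e10000024a07b707b610a285156f06c35d7b830d7d9000) (.leaf 0x482b4c5a0000322e4ca22a201c2305774b53b2b07ba40d7867d9)) (.node (.leaf 0xaf753f9000016221dd6365806d584f8093ff2d218f390428214) (.leaf 0))) (.node (.node (.leaf 0x47814ec900000baf217921781af204378e4a025d32117a546486) (.leaf 0)) (.node (.leaf 0x2142d430000226545da45c4048284946b1d84902ca1775fc32d) (.leaf 0)))) (.node (.node (.node (.leaf 0x68713a7000006db07e31520065404f1ed44501e49a0c95be113) (.leaf 0x2f950f4600003d493e221cbb12f184b17e55b6275021d2180156)) (.node (.leaf 0x39a2121800001bff3ed01f7316930451c44921bc7213ef5372ab) (.leaf 0))) (.node (.node (.leaf 0x19f021bb000010be2c882c870c5784135a6d33841702b555a7d9)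 (.leaf 0)) (.node (.leaf 0x17d4be50001299c4b8c4b8b046785b7412930f42731cd7345be) (.leaf 0)))))) (.node (.node (.node (.node (.node (.leaf 0x4ef023d000101300426042504d505f03174911e7c16f1428214) (.leaf 0x2452169b00012fcf2ff5137d102684523051f7084416237b2586)) (.node (.leaf 0x219048d4000014c3340f340e0eb18416f417559b01b2e72cb180) (.leaf 0))) (.node (.node (.leaf 0xf89508200010a711e761e7508b10537b913d45c4e474d262295) (.leaf 0x392e104800004a8a4c8b4e87168305d19a38850f02266e5372ab)) (.node (.leaf 0x3fa8094d000020b63a8a444b18930510e17232cd59215d15618b) (.leaf 0)))) (.node (.node (.node (.leaf 0x325b19da000105b011e311e214648572854787051296cd62124d) (.leaf 0x4da6053100013a3c3e1b32961cd304d0762f60c81eb020428049)) (.node (.leaf 0x33f212f600001a833ce23ce114978451d95f38074c117f6de2ab) (.leaf 0))) (.node (.node (.leaf 0x279245b900000f70284529df10b28456a55f21414c94f4049586) (.leaf 0)) (.node (.leaf 0x1efd0039000127bd4a3c4a3b0e3785b0045696974cd2021497d9) (.leaf 0))))) (.node (.node (.node (.node (.leaf 0x32cc03ee000003660b2c0b2b14740590587846666a756e62128f)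 (.leaf 0x1baf492b000134ac370750b90cb205f6fc44a6a915322c70b262)) (.node (.leaf 0x24e6482100001792388c3744103704d6e401c6bd2e35ff18012d) (.leaf 0))) (.node (.node (.leaf 0x15033ccf00000cea245f245e0aa10475d07da62d275677124295) (.leaf 0)) (.node (.leaf 0x42354015000124212eb446dc1a2384b61b2b966c0fc7b5586335) (.leaf 0)))) (.node (.node (.node (.leaf 0xfba40e20000080b185e185d08b38556302a816e0fc5ed41d335) (.leaf 0x51330c16000040f54c0416ed1e8284712545819c4df2fa5be2c7)) (.node (.leaf 0xa7027a600001d8a40c53eae06c58413e84727ff59e46c428214) (.leaf 0))) (.node (.node (.leaf 0x17182fd0000012142f2400e30ae18514a509a59c20065341d55a) (.leaf 0)) (.node (.leaf 0x36d91aa900002ba139a142a516368532995e57fa09449768a2cb) (.leaf 0))))))) (.node (.node (.node (.node (.node (.node (.leaf 0xa6227ec000000a60253025206c50453f064e3b666539032d214) (.leaf 0x1b201e1d00002ebd454b4e600ca20412ee6d24d865d63b70b124)) (.node (.leaf 0x372e3a0c0001141632d10319164305d58a5e714604d3ef537335) (.leaf 0))) (.node (.node (.leaf 0x803d3417b7000109d71cfe1cfd184384925135a05b4753da156621)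 (.leaf 0x1ea048810001477d523c45680e350416eb05307239563573441d)) (.node (.leaf 0x3cd7319700001fed29a810f3183484f4c83676e225e0a954668a) (.leaf 0)))) (.node (.node (.node (.leaf 0x4dd5039f0001051c103b0dc51cd484b05363e1761f851d18b7b2) (.leaf 0x25db1de8000138cc425d33be10558572e852d60b660777025586)) (.node (.leaf 0x28f1069f000119c23bd73bd610d784309b67c39e4475c82c712d) (.leaf 0))) (.node (.node (.leaf 0x4277155100010ec9288328821a2584f2101537bc29b147000295) (.leaf 0)) (.node (.leaf 0x413706ba000126d223640d5718e384f0a06b010741a1185865fc) (.leaf 0))))) (.node (.node (.node (.node (.leaf 0xd6c4be3000102d70974097308670597410d228e7a655f1245fc) (.leaf 0x138733260001336a14642c640a7404f4f040c1fd7704b104924d)) (.node (.leaf 0x23d1368d000116de097f37790ef584353c5173d379132b214025) (.leaf 0))) (.node (.node (.leaf 0x2a4e1fcd00000c4d22f922f8122605d32176775745418e15f586) (.leaf 0)) (.node (.leaf 0x39824e650000234046a846a716920457801f94373c23465be428) (.leaf 0)))) (.node (.node (.node (.leaf 0x39f93af30000077516c416c3169785359e0544260332b56de18b)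 (.leaf 0x2f203d8c00003f175304161212e20415de69f6272a930d7d9518)) (.node (.leaf 0x52593ebe00001cca0bbe084d1ea48535f67362a437029c33315f) (.leaf 0))) (.node (.node (.leaf 0x35cc134a000111682a35032914f40591df5286ef4bc3fc33528f) (.leaf 0)) (.node (.leaf 0x3c90e1200002a934c34297b04b605315c3134cf53118a113786) (.leaf 0)))))) (.node (.node (.node (.node (.node (.leaf 0x26680499000101bb05f005ef106605106933c7581893c17b2156) (.leaf 0x122233ff000130f04f6c2b2c0a250455028013ba397677124295)) (.node (.leaf 0x73806c2000015693539353806658510a10aa47f0580c2295537) (.leaf 0))) (.node (.node (.leaf 0x4d3406b700010b13035e1ffa1cc38490a055229e4f91ee428049) (.leaf 0x196c0d3900004e0953f826e90c470591404c81853ae2b555a7d9)) (.node (.leaf 0xf552088000121940cde450f08a484b3393165d303c65e7d9113) (.leaf 0)))) (.node (.node (.node (.leaf 0x5d80bed000106451381138004f485111f76338244507562128f) (.leaf 0x4fe63ea400013bb941e94b2b1e5604d5f526b3015884a328f41d)) (.node (.leaf 0x3049114600011b3b09232f7e14260531b02fd7f24e42ad1132cb) (.leaf 0)))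 (.node (.node (.leaf 0x363417b5000010172b3e2b3d162384925127577c40b5b421470b) (.leaf 0)) (.node (.leaf 0xad91936000128ad4ae94ae806d485327431c5fa0796ba18b68a) (.leaf 0))))) (.node (.node (.node (.node (.leaf 0x333e0ff2000103f70cdd0cdc148385d1930f827926b66e5372ab) (.leaf 0xb825369000035ed2ae8344906f20457fb43859c5823386216de)) (.node (.leaf 0x1fca1bb20000184a2ce339ad0e560552b81ad30f23e69528f180) (.leaf 0))) (.node (.node (.leaf 0x45b20e3800000d8b25c60c391a938451603107855197e91562ab) (.leaf 0)) (.node (.leaf 0x40034e37000125083ceb39bf18a104777d39565100a147586295) (.leaf 0)))) (.node (.node (.node (.leaf 0x221f48ae000008a316f519f10ec185f6f07de0116b039032d124) (.leaf 0x33d513e5000042da50245056149684b1f320d5ce39c71328f428)) (.node (.leaf 0x36b507100001e5232ac0b5404a70577b81fc602700195734621) (.leaf 0))) (.node (.node (.leaf 0x41a62f3e000012c32e0f306018f304d49471a5e21b37b65865fc) (.leaf 0)) (.node (.leaf 0x25d3191d00002ca84c65382310558472727291411f03d5025586) (.leaf 0)))))))) (.node (.node (.node (.node (.node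 (.node (.node (.leaf 0x5394d93000100610166016504e385376f2dd3282a579c2cb5fc) (.leaf 0xc7c422800002e302dc63dd5082785964a3d75f476327a41d333)) (.node (.leaf 0x526b35f6000113c10823160a1ea605753126f19140e61368a124) (.leaf 0))) (.node (.node (.leaf 0x1b3b1d820000098c1c3a1c390ca28572de03526e21f755621124) (.leaf 0x7b0496c0001463f4a64363c067584170166f07d64e267149537)) (.node (.leaf 0x50d51cf600011f87412d43091e7584b2d05692574732031497bd) (.leaf 0)))) (.node (.node (.node (.leaf 0x3e9c4813000104d40f690f6818718596e323e3ea38e4010006de) (.leaf 0x10ec4f7f0001382330590f6908d705979e8031e26e66d82c770b)) (.node (.leaf 0x2a0e374f000019643b4d3b4c122205d54c7f145a7654f4049586) (.leaf 0))) (.node (.node (.leaf 0x124b32b800000e7627d227d10a260574e551e4573f973a15f214) (.leaf 0)) (.node (.leaf 0x1c8d204c0000266811d3492d0cd105b33155e08753c0de32d124) (.leaf 0))))) (.node (.node (.node (.node (.leaf 0x2c2b8d31480001029008950894125105b4c25d93120ab0db025000) (.leaf 0x50452ed9000032cf28533f541e6504b48d46d3fb215202149025)) (.node (.leaf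 0x29fe02c9000016843690364210f685d04051f75864a2d87b2156) (.leaf 0))) (.node (.node (.leaf 0x913700078700000bfb2232223116410410af3c245752c4a66de734) (.leaf 0)) (.node (.leaf 0x23973d78000122d0464c464b0ef184f5dd2af01279d154295025) (.leaf 0)))) (.node (.node (.node (.leaf 0x48f102a5000107280c6915f11c3584303a29618309879c786180) (.leaf 0xef1245800003e282d9152e1089784339a50242645824b7bd18b)) (.node (.leaf 0x23dd438b00011c6a18c03f4f0ef585b6706503cc7237832147bd) (.leaf 0))) (.node (.node (.leaf 0x41a90945000111102d0c2bb318f30530e128211d4491640005fc) (.leaf 0)) (.node (.leaf 0xdb941fa00002a174be34be208758536463f049547d6fe18055a) (.leaf 0)))))) (.node (.node (.node (.node (.node (.leaf 0x3b36005900010175050d050c16e384d0085e80f40680b07345fc) (.leaf 0x343a2eae0001305f1a99475f14c28554897923d60673b818b149)) (.node (.leaf 0x4a4905530001151534a234a11c650530780631cb43c073149025) (.leaf 0))) (.node (.node (.leaf 0x843202447d00010ac11f341d4514610456845b907d68c247786486) (.leaf 0x297e308100014c37367a4eb410e685d4b40f637f4742d87b2156))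 (.node (.leaf 0xe951e950000212a2003182c089184b2ff3962286e40db7bd428) (.leaf 0)))) (.node (.node (.node (.leaf 0x34310e58000105fb12b311d014c28431624807b43f258f2ab295) (.leaf 0x295a165800013aec489a2b6f10e585522a37150352f66a124518)) (.node (.leaf 0x29eb06dc00011ae009013d6810f60570a26730b34c762315f518) (.leaf 0))) (.node (.node (.leaf 0x3b1145b300010fc42a8a2a8916e18436a524c2221380c2295537) (.leaf 0)) (.node (.leaf 0x51c228470001283737a14a951e950453f938d50c4c64636de70a) (.leaf 0))))) (.node (.node (.node (.node (.leaf 0x5280c77000003b00c070c0604e305112f47728e5922832cb5be) (.leaf 0x45c91ac60000355450ea3f661a9505329b42143719e17851832d)) (.node (.leaf 0x48984425000017f1392439231c3285167d27731901c56e621124) (.leaf 0))) (.node (.node (.leaf 0x33d0039a00010d382509239e14968410532f71e016b7fc28f32d) (.leaf 0)) (.node (.leaf 0x52cf150d000024932a8b2f841eb405f20a7a01dc7c74a83357b2) (.leaf 0)))) (.node (.node (.node (.leaf 0x359a3a3e000008541929192814f18555907c11cf4c3207295537) (.leaf 0x4be70475000041ec453938d21c9604f06726b27d4c44ea28f2c7))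 (.node (.leaf 0x440e28be00011dea413b413a1a6105d40565d0d01c67b70006de) (.leaf 0))) (.node (.node (.leaf 0x1ded3da90000126d2fc30aa50cf605b5e14750ec0b9218113025) (.leaf 0)) (.node (.leaf 0x3b5b2a5600002c2233154d0716e485742f5294b83a91a233524d) (.leaf 0))))))) (.node (.node (.node (.node (.node (.node (.leaf 0x31cc311a000000ea033e033d14540594bf6881347801775fc68a) (.leaf 0x47c4f3600002f472711164804c585979738e4eb10f46c428214)) (.node (.leaf 0x3b621a7100011466336e336d16e60452930376a309009568a55a) (.leaf 0))) (.node (.node (.leaf 0x3777051d00010a2403111dbc164684f07165f7b41030cf24d295) (.leaf 0x461b14fc000148db531e38701aa18572096707b43297e2000149)) (.node (.leaf 0x3df50340001204843e027e004b685f7af22365633d137113786) (.leaf 0)))) (.node (.node (.node (.leaf 0xdeb0f9700010565110d0962087705718947e03d2632df1245be) (.leaf 0x36c12b690000397b25dc144a16360434464946923640c51132cb)) (.node (.leaf 0xe063d2f00001a253c5b3c5a088104d5d77d54904923d57bd428) (.leaf 0))) (.node (.node (.leaf 0x53fe032000000f1b293429331ed585d04c00c5a28086f1428262)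 (.leaf 0)) (.node (.leaf 0x502a045a0001274d2ea5191d1e620550654d00ec1814a8333025) (.leaf 0))))) (.node (.node (.node (.node (.leaf 0xc3f3c100001031e0a500a4f082585f5bd0987bc0a2677124295) (.leaf 0x1e0d1ccc0000341b17223e550e2405b2cc5281dc4cd50a33515f)) (.node (.leaf 0x51f724410001173317db38091e9684f3970222415fb0cf24d2c7) (.leaf 0))) (.node (.node (.leaf 0x3e07145d00010c9c03e023a8186104f1fb5da5bf20111858655a) (.leaf 0)) (.node (.leaf 0x1b640f85000123aa222c41760ca70491883291853ae6282cb7d9) (.leaf 0)))) (.node (.node (.node (.leaf 0x2f5a06df000107bd178e178d12e58550a27b810c1ed677262156) (.leaf 0x4f5c234d000040164f504ce41e4485937d72f1b76081b15fc7b2)) (.node (.leaf 0x50e84c3800011d274050404f1e760517494942a074118a113025) (.leaf 0))) (.node (.node (.leaf 0x270932c6000011bc2e802e7f10a20534e63b530016f32e049000) (.leaf 0)) (.node (.leaf 0x2b5f012a00002b174c752002124585f01a5fb3126312e4025586) (.leaf 0)))))) (.node (.node (.node (.node (.node (.leaf 0x27259e2c8f00010201008d06d1105185d45d7291417c53b0025000) (.leaf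 0x34820dce0001318c36f23c2014d104515574911e244059428734)) (.node (.leaf 0x41600635000015cb314c35d218e50410933427e85e77ae00055a) (.leaf 0))) (.node (.node (.leaf 0x355a12d200000b5f20b620b514e48551d738b73306a4a833324d) (.leaf 0x5054379c000150d053c51f261e658495526e00ec181265295025)) (.node (.leaf 0x2b5823c7000021f945794578124585138d4436fa47e24b7bd586) (.leaf 0)))) (.node (.node (.node (.leaf 0xc53318b0001068f1451145008268474c751f7ed0156237b2214) (.leaf 0x41a1115f00003c80310d2a4518f30431b280503d4fe0480005fc)) (.node (.leaf 0x466e1b8b00001b9d2ad92fd01aa705d2b265d3f510b7b7000335) (.leaf 0))) (.node (.node (.leaf 0x15c91686000010672be42be30ab405322f3bc5f763465e7d9113) (.leaf 0)) (.node (.leaf 0x49a90482000029231a524b3d1c530530682300895c94fa6de049) (.leaf 0))))) (.node (.node (.node (.node (.leaf 0x2034226f0001043f01380dba0e828493697c32a27231b15fc2c7) (.leaf 0x26674b460000369f21622483106604f73234b1ef77f2d815f156)) (.node (.leaf 0x3d1903d7000118ad3a3a29ee18418530576037f229a1781562cb) (.leaf 0))) (.node (.node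 (.leaf 0x1b8d204000000dda267426730cb105b33104e0724421ea786180) (.leaf 0)) (.node (.leaf 0x79c010a000025774878487706748590174c04b842c70d33524d) (.leaf 0)))) (.node (.node (.node (.leaf 0x14f30740000008ee1aad1aac0a978470ab06138a80235f7bd2ab) (.leaf 0x46b451db000143ee4bab2b2d1ab28497d35042d266741f546734)) (.node (.leaf 0x36bf00ab00011eb633404226163385f00d5b836126f32a73470b) (.leaf 0))) (.node (.node (.leaf 0x1fc84d1b00011313062e31010e560517626db0725e11ab24d41d) (.leaf 0)) (.node (.leaf 0x20bb01bb00002d1e239445210e9285702954d6986633465fc70a) (.leaf 0)))))))))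

/-- part of a table -/
def entries61 : Trie := (.node (.node (.node (.node (.node (.node (.node (.node (.leaf 0x2e9d31e30000001f0077007612d185b4d02785f87ad6d82c7000) (.leaf 0x2cda099500012da441800dd012758550e73cd5dc75130841d156)) (.node (.leaf 0x494d02700000136d31ad31ac1c4405b03606a6b77fb0e25be15f) (.leaf 0))) (.node (.node (.leaf 0x1e0b34580001093d1b77071f0e2405750d3a06b767b12333315f) (.leaf 0x277016b2000145293ef0252b10a78412331635565d45c726212d)) (.node (.leaf 0x35c61b3a00001f1a18292b7c14f404d2aa4d055d02e4a833324d) (.leaf 0)))) (.node (.node (.node (.leaf 0x4f4307c8000004890e920e911e440470b745d14b61e0435fc15f) (.leaf 0x5301038300013770506d36c81ec20430522e56c379551d2ab180)) (.node (.leaf 0x20200c00001190b084a2b6104820450100032ef1c10435fc32d) (.leaf 0))) (.node (.node (.leaf 0x3ed3349e00010e282729272818748475126fc3825006b854624d) (.leaf 0)) (.node (.leaf 0x3e3f1eb9000025eb48cd48cc186285f3054f33a836058b546486) (.leaf 0))))) (.node (.node (.node (.node (.leaf 0x454513e80001024a07b907b81a8504b1f34d20c17c612b51832d)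 (.leaf 0x19d63f130000323026444f850c5684d6030e934c2d61e824d180)) (.node (.leaf 0x24df3cec0001162224f31cdc103685f5d259f33416f5a77b2000) (.leaf 0))) (.node (.node (.leaf 0x39d2274600000bb0217b217a16968453e01b33994466d024d428) (.leaf 0)) (.node (.leaf 0x1e0321cc0001226526d543fd0e2404735b56f07f65723433315f) (.leaf 0)))) (.node (.node (.node (.leaf 0x369c0844000106db1522152116328590c64d17f24e03fc335786) (.leaf 0x18be13d200003d4f50f551230c3585d1f210334c7cf416214180)) (.node (.leaf 0x25e0382100001c0136cc3ed1105704156114e6550d763c7bd12d) (.leaf 0))) (.node (.node (.leaf 0x2c390047000110be054b2c89126285300743a34101736b049518) (.leaf 0)) (.node (.leaf 0x422f3a0f0000299d4b8d4aba1a2305f58a7161465347b7000335) (.leaf 0)))))) (.node (.node (.node (.node (.node (.leaf 0x14d20bdc00000131042804270a9584511c5bd22803a35f7bd428) (.leaf 0x38ab360a00012fd033ea3061167205753254723738e22c6216de)) (.node (.leaf 0xdb41978000114c308392bfd08758492783cf5bf73237b1806de) (.leaf 0))) (.node (.node (.leaf 0x3d2427700000a72104e1e7704b68456521e74cf58c5c31132cb)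 (.leaf 0x232f4b0400014a8b282634590ee205f72d2c81e62fe2503337bd)) (.node (.leaf 0x398c19bb000120b7444c389316920592816881e07b15b25fc428) (.leaf 0)))) (.node (.node (.node (.leaf 0x2f041969000005b111e511e412e10492774ed3414e91d2180156) (.leaf 0x248c314200013a3d18ae522710320594c228814170f740049586)) (.node (.leaf 0x2a544f5200001a843ce43ce3122684979a10975711930b15f000) (.leaf 0))) (.node (.node (.leaf 0x363c017700000f7129e016c016238590224ae76607675021470b) (.leaf 0)) (.node (.leaf 0x15db40ff000127be4a3d494c0ab48576317c76e253e3227d9113) (.leaf 0))))) (.node (.node (.node (.node (.leaf 0x33e3dbe00010366093505ce04a385d5e373f50809c15414970b) (.leaf 0x5242053000134ae50ba4b8604e30493321754797e02e72cb5fc)) (.node (.leaf 0x10a41b7900001793388e388d08d30492b14675b141e7892c770b) (.leaf 0))) (.node (.node (.leaf 0x295021dc00000ceb24601d8810e584135c6e732766b55f262156) (.leaf 0)) (.node (.leaf 0x27a71e7d00002422380425e710b304f2fd7651e32435ff18012d) (.leaf 0)))) (.node (.node (.node (.leaf 0x6392a1d0001080b1860185f064585342a7d706419205d55a214)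 (.leaf 0x127136df000140f81db253470a2784354162c42312627a41d333)) (.node (.leaf 0x24c84fa400011d8a40c6022210360517a313935d3d83447b2000) (.leaf 0))) (.node (.node (.leaf 0x19ee2efb000112142f262f250c5705d48f3482b010808255a049) (.leaf 0)) (.node (.leaf 0x1961b9f24b500012ba110484cc70cb185f3a23f26c37cf40d2cb180) (.leaf 0))))))) (.node (.node (.node (.node (.node (.node (.leaf 0x2acb054c000100a60255025412360570777307571635a715f000) (.leaf 0x12225a900012ebd49482e8204650453b748e22231809f295486)) (.node (.leaf 0xf83d111c510000141732d20eef18418432c30dc0c324a3da1562cb) (.leaf 0))) (.node (.node (.leaf 0x5220053f000009d81d001cff1ea30410767ca38476f0c21497d9) (.leaf 0x462901ab000047805344272b1aa20530285dd01d53b3f4546734)) (.node (.leaf 0x16123f6d00011fed337e437e0ac18456097be4cf2933042c72cb) (.leaf 0)))) (.node (.node (.node (.leaf 0x2ba1219e0000051d103d103c125304335774368959f179025546) (.leaf 0x8e4357000038d051db40d2045405d66b4345f74786b65be113)) (.node (.leaf 0x2cba25ef000019c33bd93bd812728553be7e610c6e834d7d9156)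 (.leaf 0))) (.node (.node (.leaf 0x1f1d4cb400010eca28840f650e4485b7561d817619f1775fc7b2) (.leaf 0)) (.node (.leaf 0x3674c45000126d4498b498a04a704f74a2a33612c860073470b) (.leaf 0))))) (.node (.node (.node (.node (.leaf 0xa791986000102d800cc097506c585327b19b7ff1a10cc428214) (.leaf 0x28b51330000336b4f81504904920577c70bd39972a0135be428)) (.node (.leaf 0xaee461b000016df3765377a06d505d6af51a01d606059428734) (.leaf 0))) (.node (.node (.leaf 0x148b3bad00010c4d22fb22fa0a910575b37275ce39c2e47bd428) (.leaf 0)) (.node (.leaf 0x52dd37ee0001234046aa46a91eb485b5586c916c5b624e3357b2) (.leaf 0)))) (.node (.node (.node (.leaf 0x193a49a60000077616c616c50c4585570c3f626e5b02a7537124) (.leaf 0x1ebd0ea600013f1e1c3e33580e3585b16937e34c2821cd21441d)) (.node (.leaf 0x3ca134c200011ccb3fdf3fde18330435191881462237b5000335) (.leaf 0))) (.node (.node (.leaf 0x42c24a58000011692dd92dd81a3404571e5bb5501310a912d68a) (.leaf 0)) (.node (.leaf 0x4877315200012a93229b4c351c2584f4c30b10ea7aa25a78641d) (.leaf 0)))))) (.node (.node (.node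 (.node (.node (.leaf 0x40b2065f000001bc05f1056e18b28450966fc4571756b8546214) (.leaf 0x4f1d2b5e000030f13bcb4f6d1e4185b4456e401170f0ba537262)) (.node (.leaf 0x4e8b02520000156a29f614e11e3205703310b4104ed6cd621262) (.leaf 0))) (.node (.node (.leaf 0x1760485800000b141ffc1ffb0ae60416e742e1cf3a655c7b2486) (.leaf 0x10822adc00004e1050aa53ca08d104543a6b241209b51370a2cb)) (.node (.leaf 0x16ff51a500002195451041e20ad785f7ce1de60252951370a70b) (.leaf 0)))) (.node (.node (.node (.leaf 0xf473b87000006461383138208a404f5ad2495f73b43227d9113) (.leaf 0x5933f5900003bbc2ac4346d04f284760849a1b84fd22c70b6de)) (.node (.leaf 0xf0c2c6700001b3c3ddb3bbe08a10594591a53ba0850b2124295) (.leaf 0))) (.node (.node (.leaf 0x17931421000010182b402b3f0af18471f80ce5df28c5bc41d55a) (.leaf 0)) (.node (.leaf 0x1f20253e000128af29d443040e450413ac681087570538486262) (.leaf 0))))) (.node (.node (.node (.node (.leaf 0x6c553d8000103f801420cde065604b8065a63580675cb24d149) (.leaf 0x1e425061e09000035ef511e4ebf104104d2ed5fd35d0313b07bd000)) (.node (.leaf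 0x38b14fc30001184a080439ae16728437a623b5df7de63b70b6de) (.leaf 0))) (.node (.node (.leaf 0x34d81b8900010d8b25c825c714d48512b25935fa10b22618b68a) (.leaf 0)) (.node (.leaf 0x35fc1843000125090d38482114f685925c0e51b82ca03f68a6de) (.leaf 0)))) (.node (.node (.node (.leaf 0xdcb120f000108a319f319f208760571c367347f6ff5a715f486) (.leaf 0x312b18c4000042db2a304fff144305726b19e7a25e566e486335)) (.node (.leaf 0x3c67512d00011e520a6341b3182504f7c65da65156447c586149) (.leaf 0))) (.node (.node (.leaf 0x1a1b3bf2000012c4306127dc0c818575ba1732f871541855a2c7) (.leaf 0)) (.node (.leaf 0x81019fe00012ca81af8403806828412888024905d605e5fc428) (.leaf 0)))))))) (.node (.node (.node (.node (.node (.node (.node (.leaf 0x20204e1200000062016801670e820417790e419c2e603b5be70a) (.leaf 0x1a737074ad800012e30349f32cf164104f72845f7257094cc55a734)) (.node (.leaf 0x43237a2000013c22ec100fc04c38455530783e407602032d333) (.leaf 0))) (.node (.node (.leaf 0x7280e0b0001098c05e51c3b066505115b496772696203149486) (.leaf 0x45922e7300014640331846791a918454842d575427247a156428))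 (.node (.leaf 0x3c9f344e00001f89430a3bdd183285f50b6fc4572921e4546734) (.leaf 0)))) (.node (.node (.node (.leaf 0x6e81672000004d505400f6a065705122e0ed7a22bf0ba486333) (.leaf 0x37534977000138275078404316448477023525ac1af2fa5be113)) (.node (.leaf 0x4583132800011964325015921a910471dd31075c3c27e9156428) (.leaf 0))) (.node (.node (.leaf 0xad2b82313900010e7627d427d312510454c15bd6fa3f035f7bd000) (.leaf 0)) (.node (.leaf 0x1c7e242400012669492e1f5b0cc785d39507821337a62632d7d9) (.leaf 0))))) (.node (.node (.node (.node (.leaf 0x12a4bed000002910896021104650557416061662d02b6295486) (.leaf 0x17a020b6000132cf4fc847760af304133c44111d1b31ec1245fc)) (.node (.leaf 0x147b4d3d000116842f1021650a8785776563927972877702518b) (.leaf 0))) (.node (.node (.leaf 0x2d893f2c00010bfb2233145b12b20536045b66fa47e69b7d9586) (.leaf 0)) (.node (.leaf 0x378e2165000022d120c73b80165105d35238d3b62af4186de734) (.leaf 0)))) (.node (.node (.node (.leaf 0x398918ee0000072915f315f2169205326d67a5ce0a803b5fc32d) (.leaf 0x3ee008bb00013e2c52e2519318770410d451b07c3051640005fc))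 (.node (.leaf 0x2adb072400011c6b099e3f5012368570a818d3123f32f17b2000) (.leaf 0))) (.node (.node (.leaf 0x15b65097000011112d2a2d290ab384d7ba3dd5a35075ed41d335) (.leaf 0)) (.node (.leaf 0x4f3617d100012a17498c23b91e4384d2530771f70df3456de049) (.leaf 0)))))) (.node (.node (.node (.node (.node (.leaf 0x207f394b00000176050f050e0e8685f57957e2f86ac6d024d70a) (.leaf 0x8d0485100003060495b4b0006968416e725375c5d237928f32d)) (.node (.leaf 0xbf0a270000151634a434a3045585f0f338d3b62ba4186de734) (.leaf 0))) (.node (.node (.leaf 0x418f359f00000ac31f361f3518f205f52b73c6cf3851be546537) (.leaf 0x2f1c1c2b00004c384f632f8712e18592bf62c10c58d27a41d156)) (.node (.leaf 0x1f1230f00001212a21dd44ad0e448454bd0512a46ea6b65be7b2) (.leaf 0)))) (.node (.node (.node (.leaf 0x379e442f000005fc12b512b4165185d67d7fd35362008255a214) (.leaf 0x3b7b146100013aed49e621df16e68571fc0eb5bf0a54e11136de)) (.node (.leaf 0x3971125f00001ae11f282bc916878431c97d768b66924055a2ab) (.leaf 0))) (.node (.node (.leaf 0xb2f207300000fc514712a8b06e305f33712c28e5921c82cb5be)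 (.leaf 0)) (.node (.leaf 0x53261e7a00012838403c4a961ec304d2fd62221324305932d7d9) (.leaf 0))))) (.node (.node (.node (.node (.leaf 0x28ff021c000003b10c090c0810d785f02f6b255677e2d970a12d) (.leaf 0x2e9311320000355550eb4af912d18471af26c3123f375b70a000)) (.node (.leaf 0x1a8d224b000017f2392639250c9105b3674dd2805a84fa6de70a) (.leaf 0))) (.node (.node (.leaf 0x4a69049000000d39250b250a1c6605306908025701718a113025) (.leaf 0)) (.node (.leaf 0x23d822db00012493340947d10ef58513725e43d3140186214025) (.leaf 0)))) (.node (.node (.node (.leaf 0x3ee924d300000855192b192a18770533a518807c0a413e0005fc) (.leaf 0x45ae12c7000141f051734b381a9305d1d631078528d7db15618b)) (.node (.leaf 0x371e143a00001dec413d413c164185d1f95d27ff75317f6de214) (.leaf 0))) (.node (.node (.leaf 0x32772ed60001126d0ebf14fc146784f48d2f52e918c0347865fc) (.leaf 0)) (.node (.leaf 0x19b4e9b1da100002c2316290a0b1e328572e22051910b52f0621124) (.leaf 0))))))) (.node (.node (.node (.node (.node (.node (.leaf 0x31e530f000100ea0340033f04a285d7f17e52485582343332cb)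 (.leaf 0xc7e3c1800002f48219c2dc1082785d5bd24514605a308180335)) (.node (.leaf 0x2c7c1d6e00001467336f315b12668592dc78262767c3c115f156) (.leaf 0))) (.node (.node (.leaf 0x1832479b00010a250b0b1dbd0c258456d74360f9442195214180) (.leaf 0x3a94a62000148e0260653d504b305371f10d37633b265295621)) (.node (.leaf 0x11640cf300002049278143e108e604913a13971177b2947b2486) (.leaf 0)))) (.node (.node (.node (.leaf 0x46fc39fb00000566110f110e1ab785958962a5f41a313e586333) (.leaf 0x4b60b0b0000397c218d379604d384d1096c77dd6f5390428333)) (.node (.leaf 0x1900206300011a25348f3c5c0c440413360e407f36605e5be7b2) (.leaf 0))) (.node (.node (.leaf 0x42c83ce300000f1c1d0229351a340515d23505af634790546113) (.leaf 0)) (.node (.leaf 0x35d70b490000274e49e9026314f484f10f5294b81102f933528f) (.leaf 0))))) (.node (.node (.node (.node (.leaf 0x476d18490000031f01d10a511ae505b25c44279b56102658655a) (.leaf 0x480940220001341c15fc507f1c2205361c17e31b02a63b70b124)) (.node (.leaf 0x4144516800001735342b380a18e40497ca5ee3742763f412d28f) (.leaf 0))) (.node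 (.node (.leaf 0x18eb323b00000c9d23aa23a90c370574d76010893ae04b1497d9) (.leaf 0)) (.node (.leaf 0x3c892167000023ab4710470f18320533523aa11e7c117a12d214) (.leaf 0)))) (.node (.node (.node (.leaf 0x3ce4382d000007be1790178f18350495617423ce74e026000149) (.leaf 0x1daa2247000140161cf511de0cf20553673a01e67154b5333025)) (.node (.leaf 0x1ce5080800001d2822962ec00cd704b0bc51218535043b32d7d9) (.leaf 0))) (.node (.node (.leaf 0x26873d62000011bd2dde0d2b107104f5db0ee37f7ab4de124156) (.leaf 0)) (.node (.leaf 0xc4e4c2100012b1b3d674c76082605d7460a67ff1062f115f214) (.leaf 0)))))) (.node (.node (.node (.node (.node (.leaf 0x4b3122ff0000020206d306d21c828433758023fa7294045fc70a) (.leaf 0x199933510001318d192a0baa0c548534f51bd2a40290e25be15f)) (.node (.leaf 0x1c664bf4000115cb35d310e80cc704d74234f6973036f132d049) (.leaf 0))) (.node (.node (.leaf 0x969299600010b5f037720b706a705341b2bd1a7590186734621) (.leaf 0x52fa109a000050e93b4e53a91eb68551a154227f307095113124)) (.node (.leaf 0x2ba80307000021fa457a407a12530510454c76890320db025546)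 (.leaf 0)))) (.node (.node (.node (.leaf 0x394111db000006901453145216860431c061f4e83fe7f824d428) (.leaf 0x347b1bd600013c8051f2103a14c78572ba47d4251a358e32d333)) (.node (.leaf 0xaed014500011b9d3e552e9706d505b01c3184570630cc32d214) (.leaf 0))) (.node (.node (.leaf 0x1ffc4c990000106826c82be50e578597524084d44cd4646de7d9) (.leaf 0)) (.node (.leaf 0x156a1b1f0000292413c21f300aa60552a86c101d0aa73a15f214) (.leaf 0))))) (.node (.node (.node (.node (.leaf 0x32cf3f84000004400dbc0dbb147405f60d22b1fd23d6cd70b24d) (.leaf 0xe23467b0001369f4987469b08830476bc52374820d7777bd18b)) (.node (.leaf 0x492147c1000018ae3a3c3a3b1c430436db03a00f0f64fa55a049) (.leaf 0))) (.node (.node (.leaf 0xd39501200010dda2676267508658537ab11b6a36c727a41d6de) (.leaf 0)) (.node (.leaf 0x30b64a8900012577487917ab143384d7214e45b15076ad214621) (.leaf 0)))) (.node (.node (.node (.leaf 0x2e854b63000008ef1aaf1aae12d104b73618130c11c72c2c7000) (.leaf 0x4bd81b8c000043f3301e380f1c958512b26d327d7d556255a2c7)) (.node (.leaf 0x32b114b300011eb742284227147284320427759c07809762155a)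 (.leaf 0))) (.node (.node (.leaf 0x4c7d40d000001314310331021ca685b62e0140da3f00c568a124) (.leaf 0)) (.node (.leaf 0x3f2e424e00002d204d943ae0188305d64c76c4ef0225815182ab) (.leaf 0)))))))))

/-- part of a table -/
def entries62 : Trie := (.node (.node (.node (.node (.node (.node (.node (.node (.leaf 0x33d70b7b0001001f00790078149684f1144493992997d624d32d) (.leaf 0x1a427de29a300012da52b484dd510b685d41c1eb35d7e35a77b2000)) (.node (.leaf 0x3c951fe90000136e31af31ae183284b3244cd3b60aa17a12d214) (.leaf 0))) (.node (.node (.leaf 0x4759301b0000093e1b791b781ae48534ab6ec71b45279054628f) (.leaf 0x24d04a5b0000452b40844cc5103684171e7103005886e915f000)) (.node (.leaf 0x226e22d600001f1b429f12830ec705d3723f74fb47162632d7d9) (.leaf 0)))) (.node (.node (.node (.leaf 0x23a40d6d000104890e940e930ef204914463869a6d74da3337bd) (.leaf 0x21cd28a20000377229e84dde0eb405b4030a71dc5cc6b570b15f)) (.node (.leaf 0x319525010000190c3ac53ac4145184b3a923868010d46455a214) (.leaf 0))) (.node (.node (.leaf 0x36e941c400000e29272b272a16370536434852a63a020329570b)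 (.leaf 0)) (.node (.leaf 0xb3a490c000025ec48cf48ce06e38556f754011d61f3472cb5be) (.leaf 0))))) (.node (.node (.node (.node (.leaf 0x505d38390000024b012307ba1e6585b5636650ec117073295025) (.leaf 0x127e4ae300003231197525780a2785d72915c66c03577a180333)) (.node (.leaf 0x194c49aa00001623173c36590c4605970c4ff59b5b037924d41d) (.leaf 0))) (.node (.node (.leaf 0x1bd42a8c00010bb0217d217c0cb48494335de14a3ae7f96217b2) (.leaf 0)) (.node (.leaf 0x27e900f10000226645db31d410b70530160ad0c413b0b226212d) (.leaf 0)))) (.node (.node (.node (.leaf 0x2ef60c0e000106dc1524152312d784d12276839f4553d970a546) (.leaf 0x4a803a6700013d5427761b6f1c710415932752f47d85b42147bd)) (.node (.leaf 0x1a3621ef00011c013ed21f150c8284d35e7ec2113680135be70a) (.leaf 0))) (.node (.node (.leaf 0x33a20bfb000010bf2c8a234e14930451216717983252a74862ab) (.leaf 0)) (.node (.leaf 0x3a84147e0001299d4b852f2c16d10491fe7747ed0620cc32d214) (.leaf 0)))))) (.node (.node (.node (.node (.node (.leaf 0x49dc101400010131005204291c548591971bd2a41f81775be7b2) (.leaf 0x3f9626dd00002fd14e5746d0189184d3d470c5ce25811a51832d))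 (.node (.leaf 0x29431c8c000014c43204341010e50472c66417586bf66a262518) (.leaf 0))) (.node (.node (.leaf 0x4e7d32d600010a720b551e781e2585b4e71870ea69479c786180) (.leaf 0x38f5102f00014a8f37b0282f167784b1988004794b917d2cb5fc)) (.node (.leaf 0x1212651000020b9444d3b8804650433c61d96cf3a5267149537) (.leaf 0)))) (.node (.node (.node (.leaf 0x39ef1444000105b111e711e6169705f1fa38d7985224186de18b) (.leaf 0x20243ec100013a3e522821340e820495f906a6784b20e25be2c7)) (.node (.leaf 0xe80466900011a843ce63ce508910416bb5025ce5e71797bd32d) (.leaf 0))) (.node (.node (.leaf 0x179b448300000f7229e229e10af18576853dd65a68678b41d55a) (.leaf 0)) (.node (.leaf 0x17a8207c000127bf4a3e48960af305133774a03d0e955f1245fc) (.leaf 0))))) (.node (.node (.node (.node (.leaf 0x4f24260a000003670b2e0b2d1e430493c051114c2614fa6de049) (.leaf 0x1f4e2251000034b029cc50bb0e4605d36804518271a1e828f180)) (.node (.leaf 0x21e5378a0001179407bf05fb0eb704b55148b38419f17d2cb049) (.leaf 0))) (.node (.node (.leaf 0x863074400010ceb1efd198806870470ab38850f72066453718b)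 (.leaf 0)) (.node (.leaf 0x1c1e43d200002424477c32f80cc185d6760690da67048c32d262) (.leaf 0)))) (.node (.node (.node (.leaf 0x3fcd146c0000080c18621861189505b1fc53f75c0a514d156428) (.leaf 0x4dd71105000040f951e653481cd484f1ac26414a4515202ab15f)) (.node (.leaf 0x8851bab00001d8c1dd439d8069204b2b76a65ce06d5b25fc428) (.leaf 0))) (.node (.node (.leaf 0x45fb1094000012150a7806261a978571a12cc79872f5811562ab) (.leaf 0)) (.node (.leaf 0x1f7729cd00002ba34bb61f7e0e4784f4215480c84f33456de049) (.leaf 0))))))) (.node (.node (.node (.node (.node (.node (.leaf 0x19584ed4000000a7025702560c4685179120f30f74f37928f41d) (.leaf 0x175126eb00012ebe4e61490c0ae48433d75d776a00336b04928f)) (.node (.leaf 0x530e25840001141732d318151ec205d3b440f34c07b29818b180) (.leaf 0))) (.node (.node (.leaf 0x2fc9308b000109d802f81d0112f50534b442b3413770b2124518) (.leaf 0x4d42d160001478252e630f104d484946831c5fa43061d18b113)) (.node (.leaf 0x2736376600011fee41d9418310a384d54e5f00c47675bc18012d) (.leaf 0)))) (.node (.node (.node (.leaf 0x51be18aa0001051d103f103e1e9285d26661c49b15712a5fc2c7)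 (.leaf 0x3cb638cb000038d1268a400f183384d56c5da1721d6118586333)) (.node (.leaf 0x3fb630c5000119c33bdb3bda189384d4ba3ab1bc41a7db51818b) (.leaf 0))) (.node (.node (.leaf 0x35c920de00000ecb2886288514f405333f77658358770d33524d) (.leaf 0)) (.node (.leaf 0x3f5d32a9000026d51feb23f8188585b4e41c776e58217815632d) (.leaf 0))))) (.node (.node (.node (.node (.leaf 0xccc414f000002d909770976083605963973b5152a10cb7b2734) (.leaf 0x181d0d330001336b3e66504a0c2485b14013114a3505433357b2)) (.node (.leaf 0x2ad7505f000116df077e377b123684f7b17bf30c2c44987b2586) (.leaf 0))) (.node (.node (.leaf 0x4a12188a00000c4e22fd22fc1c618452635642a04671952147bd) (.leaf 0)) (.node (.leaf 0x16b33cac000123412b0846ab0ad38475cd77f7441c475b70a621) (.leaf 0)))) (.node (.node (.node (.leaf 0x442714590001077616c7021c1a6204f1fb45e77274958b12d486) (.leaf 0x495456800003f2052ad2cbd04d284b69f27378f3e06ba18b295)) (.node (.leaf 0x4bdc36ca00011ccc3fe02c9c1c958595403e52410dd4a655a70a) (.leaf 0))) (.node (.node (.leaf 0x16974b33000111692ddb2dda0ad184f73118972b29b30470a2cb)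 (.leaf 0)) (.node (.leaf 0xd9d0f9400012a9425a82bb2087485b1893944b82634d97d924d) (.leaf 0)))))) (.node (.node (.node (.node (.node (.leaf 0x2e5b134d000101bc05f305f212c58571df6106fa3cf75b2c7000) (.leaf 0x4dc900f4000130f3375a08181cd405301620408159651d18b7b2)) (.node (.leaf 0x3b9011300001156a353a124716f18411af0636cf38d073149537) (.leaf 0))) (.node (.node (.leaf 0x2be9239900010b141ffe1ffd12570533884812eb68572e025546) (.leaf 0x1954307f00014e1053c40c9f0c468494b27e012763d7f828f180)) (.node (.leaf 0x4b0716e700012197451138f91c8104f23a4a93fa42a66e48670a) (.leaf 0)))) (.node (.node (.node (.leaf 0x5fe09fc000006471385138404f585d0ef53d7723f81c82cb486) (.leaf 0x3b4502f300013bbe301a2b3016e404b0444303741d824e33528f)) (.node (.leaf 0x192a460700011b3c38102d2e0c450556ac43e3196583ef486262) (.leaf 0))) (.node (.node (.leaf 0x19f53f1d0001101805102b410c5784b6037020833a74fa55a049) (.leaf 0)) (.node (.leaf 0x2c4e118d000028b1398c38f5126505d1b67af10c42213241d518) (.leaf 0))))) (.node (.node (.node (.node (.leaf 0x3f6c50e5000003f903dd0cdf18870597c13ad6077f315d15618b)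 (.leaf 0x1db43e4e000035f02391511f0cf28495ee7800ec1e13fc333025)) (.node (.leaf 0x4bd719a60001184b190a24431c9584f27e38550c4c43456de2c7) (.leaf 0))) (.node (.node (.leaf 0xa02b8c025c00000d8c25ca25c912510590334df45a7f7714025000) (.leaf 0)) (.node (.leaf 0x27751f830000250a4822243110a784b31d13d6bd3bf55f262546) (.leaf 0)))) (.node (.node (.node (.leaf 0x3efc4534000008a419f519f418778596962607ac6a71640005fc) (.leaf 0x47ef150b000042df30970fc91af505f20a6d107a6877b600055a)) (.node (.leaf 0x4cf0437c00001e53397341b41cb684166f54e31b4aa0c568a124) (.leaf 0))) (.node (.node (.leaf 0x23d24301000012c5244a18ba0ef58456611d438053f4c57347bd) (.leaf 0)) (.node (.leaf 0x4cf84a2b00002cab22ad360d1cb68517196740115f01a068a124) (.leaf 0)))))))) (.node (.node (.node (.node (.node (.node (.node (.leaf 0x783377e00010062016a0169067404754f7cb5836a712333528f) (.leaf 0x4ff1498100012e3243592e951e568437062516c33c87f828f180)) (.node (.leaf 0x1247243e000113c22af1239b0a2604f3966c101d4b42d815f734) (.leaf 0))) (.node (.node (.leaf 0x11ca52770001098d1c3d1c3c08f40557e346676d08f34d7d928f)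 (.leaf 0x327302270001464344fd462d14678470305c207c31c7047865be)) (.node (.leaf 0xb791c6700001f8a430c430b06e58532c439d7e445f628786537) (.leaf 0)))) (.node (.node (.node (.leaf 0x4295250f000104d50f6c0f6b1a3284b3a96ec6cc1c93e6546734) (.leaf 0x50d816330001382a219851691e7585122510f380741073149025)) (.node (.leaf 0x1d1a4a470000196529473b4e0ce185571d33d1cb6eb04b1497bd) (.leaf 0))) (.node (.node (.leaf 0x4c1738a300000e7727d51bd91ca184f56a25c12722f4c521441d) (.leaf 0)) (.node (.leaf 0x50622edd0001266a492f3afa1e6604548d6f53fb7a909568a025) (.leaf 0))))) (.node (.node (.node (.node (.leaf 0x24222604000102910898089710230453c02c46bd2cf78d262546) (.leaf 0x29a22b8000032d0456d038c049285537054d5ce4af3465fc428)) (.node (.leaf 0x3e3208000001685292a36e804b704733906e3766a232a73470b) (.leaf 0))) (.node (.node (.leaf 0xfa21b7f00000bfc2235223408b30452b16af42516077a180333) (.leaf 0)) (.node (.leaf 0x106d01d8000022d33ebd020608c705b02b2ec74452872c70a621) (.leaf 0)))) (.node (.node (.node (.leaf 0x52d6274e0001072915f515f41eb484d3e06343872e312333315f)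 (.leaf 0x4cfc471300003e3241fd36bd1cb68596ca31a4d804121868a262)) (.node (.leaf 0xd9918d000011c6c0c833787087485326c0ae63708669b7d928f) (.leaf 0))) (.node (.node (.leaf 0x41e034bf000011122d2c2d2b18f50415178053d05d60480006de) (.leaf 0)) (.node (.leaf 0x3458151e00012a184afe4be414c485120b7785732bf6ba2ab68a) (.leaf 0)))))) (.node (.node (.node (.node (.node (.leaf 0x32c530950001017605110510147404b4b61506664b97f962128f) (.leaf 0x48de239000013060424a2f391c3485d3880281b72492f070b15f)) (.node (.leaf 0x2a16388e0001151626d834a5122284d56877e7576c24f47d9586) (.leaf 0))) (.node (.node (.leaf 0x366a44d300000ac41f371690162705568e1a137603c2b629570b) (.leaf 0x269f457400014c3a4f994016107185f6a022f3277414de262156)) (.node (.leaf 0x1f6f22520000212b187a2e690e4705f3681380834710ff55a7d9) (.leaf 0)))) (.node (.node (.node (.leaf 0x279613c7000105fc12b712b610b284d1f134e6ee50e4b1049000) (.leaf 0x32321dc900003aee525214d114628452e54f613c0d422162155a)) (.node (.leaf 0x22de162800001ae235e43d690ed485d22458416c2de34a2ab15f) (.leaf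 0))) (.node (.node (.leaf 0x12ea00bf00010fc52a8d2a8c0a3705500e7e30b43c3132180335) (.leaf 0)) (.node (.leaf 0x143a3c790000283927f24a970a838555c942968b5a677702518b) (.leaf 0))))) (.node (.node (.node (.node (.leaf 0x207842df000103b10c0b0c0a0e8685165d7e01b970c37928f70a) (.leaf 0x33d923e80001355550ec3a3d149685338f61b1e019e5cb28f32d)) (.node (.leaf 0xd1950b6000117f2253f392708648537be3164b816d65e7d928f) (.leaf 0))) (.node (.node (.leaf 0x52b4cf100010d390415250c04e305775f06628472125a7865fc) (.leaf 0)) (.node (.leaf 0xae727ad000024943aa2452c06d504f3e86c701d48e626428734) (.leaf 0)))) (.node (.node (.node (.leaf 0x2120203e000008560add0a940ea204132f78426e524097621262) (.leaf 0x37101c53000141f11e89525316418412c317c6cc24a05d55a214)) (.node (.leaf 0x2786470300011dec413e2e9210b204d6c924935d3c834d7d9000) (.leaf 0))) (.node (.node (.leaf 0x512e2f600000126e2f1d0c191e8205d49a00343f64a0c95fc70a) (.leaf 0)) (.node (.leaf 0xd0a128a00012c244d094d0808640551d16853562737077d928f) (.leaf 0))))))) (.node (.node (.node (.node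 (.node (.node (.leaf 0x17213873000000eb034203410ae304356733952124f0b22625be) (.leaf 0x1af370511b500012f484ea432f6164104b1bd4567ed24c2b56de214)) (.node (.leaf 0xea84d48000114673371337008930517675412ea28d63c7bd18b) (.leaf 0))) (.node (.node (.leaf 0x536012f800000a261dbf1dbe1ec50411d967f5a202c46c428262) (.leaf 0x11c5068a000048e552cd388308f404b09a4881fd2ed65e04928f)) (.node (.leaf 0x158256c44a10001204943e343e210470596870dd39e2ff0db025546) (.leaf 0)))) (.node (.node (.node (.leaf 0x4fe2886000105661111111004d585d400225725601059428734) (.leaf 0x1394496a0000397e1d444f2c0a7484970161e5252e54d904924d)) (.node (.leaf 0x3c34ea600001a260a291cf204b604778a1d643104428768a2cb) (.leaf 0))) (.node (.node (.leaf 0x169d177200010f1c293627d00ad185b24911705f74e7892c7786) (.leaf 0)) (.node (.leaf 0x462d03f50000274f290546111aa205b05a35045735c790546214) (.leaf 0))))) (.node (.node (.node (.node (.leaf 0x22ea4c7d0001031f0a530a520ed705574f6c729e35e390428049) (.leaf 0x455642690001341d14ca3a371a8584d6507524905d6581156428)) (.node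 (.leaf 0x10602a2200011735079f380b08c704142b1d33ed2c830270a70b) (.leaf 0))) (.node (.node (.leaf 0x26132a3200010c9d23ab21a2106184742c0986d60f2242124518) (.leaf 0)) (.node (.leaf 0xc1b4fba000023ac196613dc08248577a55965fa78436a049113) (.leaf 0)))) (.node (.node (.node (.leaf 0x1c1221eb000107be179217910cc184535e64e08766139032d124) (.leaf 0x82e0706000040184ce9532c068305d0a625868b44958055a2ab)) (.node (.leaf 0x82f207d00001d2927594051068305f3377a34ef0220ff55a2ab) (.leaf 0))) (.node (.node (.leaf 0x23624302000011be2e822e810ee60456611d609e66328768a025) (.leaf 0)) (.node (.leaf 0x50ff34d800002b1c323602bc1e7685f51a4e32a07415c3113025) (.leaf 0)))))) (.node (.node (.node (.node (.node (.leaf 0x3b4a35fc0001020206d4034c16e40555314d055d8027fe33328f) (.leaf 0xa22b3c0001318e4fa63fcc04550454433215154cb58055a734)) (.node (.leaf 0xefa2696000015cc35d535d408978553cd3778074c135f0252ab) (.leaf 0))) (.node (.node (.leaf 0x2f85100a00000b6007b820b812f104b19657f64714e6fe41d156) (.leaf 0x4d3f0ff7000050ed455353ee1cc385f1933f74fb67362632d7d9))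 (.node (.leaf 0x51b751d3000121fa39f344dc1e9284f7d311549b66b6b65fc2c7) (.leaf 0)))) (.node (.node (.node (.leaf 0x2465155f0000069114551454102704b2108091e369f27a180546) (.leaf 0x20a0340e00013c8152a152670e920415046881b448f5b25fc2c7)) (.node (.leaf 0xe50190f00001b9e3e563e1c08858412717690c138d24b025428) (.leaf 0))) (.node (.node (.leaf 0x26b43e1b000110682be6035310728495e95d05c67c93b17d9518) (.leaf 0)) (.node (.leaf 0x2bc35200000129244b3e284112550477d706130c11935f7bd000) (.leaf 0))))) (.node (.node (.node (.node (.leaf 0x33d35cd000104400dbe0dbd04a385b52e46e4f20fc073295621) (.leaf 0x1f902361000036a047ed50890e548413810af16c73c4045be15f)) (.node (.leaf 0x292914e2000118ae3a3d289d10e20532081f80b342965e049156) (.leaf 0))) (.node (.node (.leaf 0xc99435e00000ddb26782677083485366b7fb5a94897407d968a) (.leaf 0)) (.node (.leaf 0x50a2c6c00002579487a3f4704e205545954723717122c6216de) (.leaf 0)))) (.node (.node (.node (.leaf 0x39de0d99000108ef1ab11ab0169685d1514fe7541974ea24d32d) (.leaf 0x421045c8000043f543ee49791a228416a63a7515632291546214))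 (.node (.leaf 0x11f94f1e00001eb930bd422908f68537957ba3a83f855c15f486) (.leaf 0))) (.node (.node (.leaf 0xb6e193200011314061d310406e505d27412c68d0771c82cb486) (.leaf 0)) (.node (.leaf 0x48d80a4100002d213add08e11c348510f814214a68544b62115f) (.leaf 0)))))))))

/-- part of a table -/
def entries63 : Trie := (.node (.node (.node (.node (.node (.node (.node (.node (.leaf 0x43a30a9600000020007b007a1a530471003685084617e9156621) (.leaf 0x4acd123500002da64dd604e71c7505b1c64e009e751202295025)) (.node (.leaf 0x2e1c4b8e0001136e2224166412c18597387c975711972c70a000) (.leaf 0))) (.node (.node (.leaf 0x10ed093b0001093e1b7b1b7a08d705b0e067c3763d47892c770b) (.leaf 0x44c53ab90001452d35e152ed1a7404b5984a055d1fb3f454628f)) (.node (.leaf 0x42663b4500001f1c248f42a01a2504d5a53e208b6157e2000149) (.leaf 0)))) (.node (.node (.node (.leaf 0x3c1b25ca0000048a0e960e9518228573bb5595761d9804546214) (.leaf 0x13da010b00003773376351850a7685501752e71139318e7b2486)) (.node (.leaf 0x2d1c390f0001190c28673ac612a28595727a83516e73b1049000)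 (.leaf 0))) (.node (.node (.leaf 0x45864ece00000e2a272c057e1a9104d78e7560cd46a4a115632d) (.leaf 0)) (.node (.leaf 0x1536477f000025ed266348d00aa384d6d47c51726f55ff180333) (.leaf 0))))) (.node (.node (.node (.node (.leaf 0x11a94a650001024b07bc07bb08f305371f1632e90225c72625fc) (.leaf 0x318453a70001323136b7362b14510498024c32d24965626de734)) (.node (.leaf 0x3226145a00011623073a365a146204d1fb4895bf7492f062155a) (.leaf 0))) (.node (.node (.leaf 0x114f0be800000bb1217f217e08e405f11f45176d4c236a7d924d) (.leaf 0)) (.node (.leaf 0x1a5f24290001226645dd45dc0c8585f3953832a26a13ef53770a) (.leaf 0)))) (.node (.node (.node (.leaf 0x32d639c6000006dd15261525147484d58549163730523170b28f) (.leaf 0x16134f800013d5652722047046704351c30e2840706352145be)) (.node (.leaf 0x24809f900001c0312d83ed304860510ef4ff2ef3f871324d428) (.leaf 0))) (.node (.node (.leaf 0x4f4409d0000010c0234b21d51e440490ed02d0816bb03b5be15f) (.leaf 0)) (.node (.leaf 0xe191db90000299e4b8e493608818532e358d4e85fe24b025428) (.leaf 0)))))) (.node (.node (.node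 (.node (.node (.leaf 0x51f530a00000132042b042a04e285f7f14f613c43e3386216de) (.leaf 0x53593bd500012fd1127324961ec48535b81fb3870565742ab15f)) (.node (.leaf 0xdf841f9000014c51c2429f108778516463d128e7924351245be) (.leaf 0))) (.node (.node (.leaf 0x3e33423600010a731e7a1e79186284764b32039857c1be546537) (.leaf 0x9602e0e00004a964cce53c906a704147b5d51a77cb1cd734621)) (.node (.leaf 0x2429483e000120b91d6b40cc10230536e57f022d63074d12412d) (.leaf 0)))) (.node (.node (.node (.leaf 0x3d763267000005b211e911e8184784d4dd2d46024e67db51870b) (.leaf 0x108811f000003a3f37ea18f808d10511c20844314623022c7786)) (.node (.leaf 0x19863d9700001a853a4d1a190c5404d5e04456b772d0c95be7b2) (.leaf 0))) (.node (.node (.leaf 0x4d7c12df00000f7329e429e31cc58591d77e16a93f03cb428124) (.leaf 0)) (.node (.leaf 0x3c3750fd000027c01bd54a3f182384f7c271a5f419a7b7586335) (.leaf 0))))) (.node (.node (.node (.node (.leaf 0xf663309000003680b300b2f08a604d4ed44f35333f73a15f214) (.leaf 0x310c3753000134b150bc4d18144105954d27251546e56255a734)) (.node (.leaf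 0x499e2c83000017953890388f1c5185d45d0460115f0340537124) (.leaf 0))) (.node (.node (.leaf 0x167b10ce00000cec1e0b24610ac78571a66106754d15132c770b) (.leaf 0)) (.node (.leaf 0x134b355e000124240cce477d0a6605752675f68d05062315f537) (.leaf 0)))) (.node (.node (.node (.leaf 0x1c5b3d540001080c186418630cc48575da23d1b74a061818b7b2) (.leaf 0xc90a21000140fc1db648af04560530f30420192ba71324d295)) (.node (.leaf 0x1e923b6700011d8c40c729da0e348455a82593876f31a23337b2) (.leaf 0))) (.node (.node (.leaf 0x89e411c000112162af62f27069285d63361c2283f612a5fc32d) (.leaf 0)) (.node (.leaf 0x229c0afc00002ba444762cfd0ed18591085857032c50de32d124) (.leaf 0))))))) (.node (.node (.node (.node (.node (.node (.leaf 0x38234e06000100a702590258166204777844a5df2d02f070b55a) (.leaf 0x2c76526e00002ebf492323f6126684d7e17bf61248a4987b2518)) (.node (.leaf 0x4e3e11650000141832d532d41e2385d1b32b21f775f25a2cb049) (.leaf 0))) (.node (.node (.leaf 0x3a281a93000009d91bac1d0216c20512972e562d58961d2ab149) (.leaf 0x20a107d400014785539436ff0e920430b81da27d4f50e25fc2c7))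 (.node (.leaf 0x4b0317c400001fef437f01ce1c8104725216b2115412274862c7) (.leaf 0)))) (.node (.node (.node (.leaf 0x14974b5c0000051e104110400a9184f7357275ce5e73b07bd32d) (.leaf 0x3a1d1c23000138d151dc455516c185b2bf19011e4cb236428734)) (.node (.leaf 0x32f4a69000019c43bdd3bdc04a305f71f41c05b0eb54529570b) (.leaf 0))) (.node (.node (.leaf 0x37b279b00010ecb2888288704a78573e77262a673d6ad214621) (.leaf 0)) (.node (.leaf 0xb560bcb000026d623f5498c06e484d11b52771b00333870b28f) (.leaf 0))))) (.node (.node (.node (.node (.leaf 0x2f25141c5b000102d90979097810418492c358d14139a24b025586) (.leaf 0x1058023e0000336c504b488808c585103176072b29a14570a2cb)) (.node (.leaf 0x29320e5c000016e00dfb069e10e284516262450352f322049518) (.leaf 0))) (.node (.node (.leaf 0x472f094800010c4e22ff22fe1ae305f0e157952165f47c0005be) (.leaf 0)) (.node (.leaf 0x34133020001234233b546ac04a60434ed0760a31fa40a1132cb) (.leaf 0)))) (.node (.node (.node (.leaf 0x261c05b10000077716c916c810618590861633272155c7262518) (.leaf 0x1e52418600013f201e3653050e2684563f1e77244335c3113262))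 (.node (.leaf 0x3fd1039c00011ccd3cd52f6718958430533c41e044d17815632d) (.leaf 0))) (.node (.node (.leaf 0x388a18990000116a2ddd2ddc167105526458925d37c034786537) (.leaf 0)) (.node (.leaf 0xa3d0df200012a951f01385a06c385b1590fe66c0fc0de428335) (.leaf 0)))))) (.node (.node (.node (.node (.node (.leaf 0x48e7498a000001bd05f505f41c3504f7065f11276412472cb41d) (.leaf 0x3b61cdc000130f4374f4f6e04b384d2ce7531a7535207295621)) (.node (.leaf 0x208f1e630000156b353b0bfa0e9105f2fc38d50c2d44186de2c7) (.leaf 0))) (.node (.node (.leaf 0x17c3fa200000b151fff139904678596101f307c63e32b7345be) (.leaf 0x216d1f3d00014e133d530d9b0ea705b31566709d35e1ea786049)) (.node (.leaf 0x3dd272c000021982dd1451204b685b3dd54e4121c90c568a2cb) (.leaf 0)))) (.node (.node (.node (.leaf 0x2a7711cd0001064713871386122784f1bf79739f455132180546) (.leaf 0x1621339c00003bbf516841c00ac30434f965977c4e311170a621)) (.node (.leaf 0x43783e9d00001b3d3ddc0d721a478515f36c41e238b3da518621) (.leaf 0))) (.node (.node (.leaf 0x4d7407380000101a0e931a901cc58490aa3935a20ab43b428124)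 (.leaf 0)) (.node (.leaf 0x8ad1ee5000128b14aeb4aea069305b3093e51bc32542055a2ab) (.leaf 0))))) (.node (.node (.node (.node (.leaf 0x44e0956000103f90ce10ce004c405d0e330542d21603918b113) (.leaf 0x2e8e32cb000035f2512003e912d105d4e664645a47e51370a586)) (.node (.leaf 0x3d4e43930000184c224639af184505d6711f272b4e467e5182cb) (.leaf 0))) (.node (.node (.leaf 0x3997113b00010d8c0f1f25cb169284f1af58775c3a62fa5fc32d) (.leaf 0)) (.node (.leaf 0x20421bc20001250a482327d40e850452b90f843f53f6645372c7) (.leaf 0)))) (.node (.node (.node (.leaf 0xa3f1391000108a419f719f606c385f1eb0e648709c02032d333) (.leaf 0x287d1c4c000142e04aea314910c785b2c17516555d772c70a546)) (.node (.leaf 0x44bf050f00001e5441b535401a7285f07072d07d5630a912d537) (.leaf 0))) (.node (.node (.leaf 0x3efe2ceb000112c529693062187785d46557025f23d4e25865be) (.leaf 0)) (.node (.leaf 0xb7b0c8700012cab4d4f3c4806e585713026947f51117b2cb486) (.leaf 0)))))))) (.node (.node (.node (.node (.node (.node (.node (.leaf 0x405421d900000063016c016b18a484935c6575fa49c79012d113)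 (.leaf 0x30f7191f00002e3445ac3b38143784f2727c11e252b207295621)) (.node (.leaf 0x431f03db000013c3324332421a4185f0576f24122af7e9156786) (.leaf 0))) (.node (.node (.leaf 0x267d19d10000098e09e91c3e106685b28506032711730b15f518) (.leaf 0x145228080000464652c04a5c0a858453f35660c128a60a02532d)) (.node (.leaf 0x24e1382e00011f8a42fb430d10370435617bb65519d41441d12d) (.leaf 0)))) (.node (.node (.node (.leaf 0x39864bba000004d60f410f6d169204d73d5147542580435be32d) (.leaf 0x64f2a160000382b515f134b064605f42a41a62d1921e828f149)) (.node (.leaf 0x136f22ef000119651ee43b4f0a6705f3738013ee7372421245be) (.leaf 0))) (.node (.node (.leaf 0x476a2cde00010e7727d609131ae505546274f0d036f4e200055a) (.leaf 0)) (.node (.leaf 0x12540d780000266b493149300a2684914e5c17ff48b3c115f734) (.leaf 0))))) (.node (.node (.node (.node (.leaf 0x41b0005400000292020c089918f38410082c57ac7f57ae0005be) (.leaf 0x1e1d3453000132d044b912960e2485b50d1db3874f824e3337b2)) (.node (.leaf 0x3c7f031000011685075e36e9182585f04601b3582a3147586295) (.leaf 0))) (.node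 (.node (.leaf 0x45441a7e00000bfd223603031a850492936c80051f417851832d) (.leaf 0)) (.node (.leaf 0x1f19225e000022d4464d358f0e4485336872f1b747103b5fc15f) (.leaf 0)))) (.node (.node (.node (.leaf 0x44cd453a0000072a15f715f61a7405b69636966629d79054628f) (.leaf 0xb7f168e00013e324d7d16f606e585f22f70e2221730342cb537)) (.node (.leaf 0x34c29e600011c6d1b6a124904a60594242fd7f224c03f113786) (.leaf 0))) (.node (.node (.leaf 0x146a1606000011132d2e2d2d0a870552204744ef1da6b402518b) (.leaf 0)) (.node (.leaf 0x1ff737bb00012a1a44704bd20e5784f5543f800f32046355a049) (.leaf 0)))))) (.node (.node (.node (.node (.node (.leaf 0x129229430000017704dd05120a348454111c25a936c36a7d9113) (.leaf 0x1bc74196000130624f2b4f2a0cb404f6402bf1dc17064d70b7b2)) (.node (.leaf 0x23720b1d0000151834a623820ee684510a5d129f603392113025) (.leaf 0))) (.node (.node (.leaf 0x158f407e00010ac41f3818ca0ab105f6247953582c978d262295) (.leaf 0x203348d300014c3b507246e00e828476f40512116d76b65be2c7)) (.node (.leaf 0x2ca628c30001212b44ae20de127204d40613b6477d8747049518)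 (.leaf 0)))) (.node (.node (.node (.leaf 0x14f50b8000105fd12b912b8046605f7be50707a36028768a55a) (.leaf 0x522d3cb600013aee4dfa4b081ea305b5cf4d34fb5532d7149049)) (.node (.leaf 0x4af03ab700011ae2267a3d6a1c768415982543fb15b49768a7bd) (.leaf 0))) (.node (.node (.leaf 0x204e1d4600010fc62a8f2a8e0e8505d2d63881b93ab66e53770a) (.leaf 0)) (.node (.leaf 0x880a25000128390ea8321f04540510f31da5af0350e25fc113) (.leaf 0))))) (.node (.node (.node (.node (.leaf 0x3c0399c000003b20c0d0c0c04b604157f5654cf7191a0113786) (.leaf 0x4548021600013556259841611a8505102f3812ef03614d518428)) (.node (.leaf 0x2f6619a9000017f3392821af12e604d27e51e0f54c473a15f518) (.leaf 0))) (.node (.node (.leaf 0x30604f5000000d3a250e250d142704179a06336156f08a14970b) (.leaf 0)) (.node (.leaf 0x6e032e00000249647d23e5606570414e928c7dd3266f8486333) (.leaf 0)))) (.node (.node (.node (.leaf 0x4b542de9000008570a91192c1c858494775112a23964206de2c7) (.leaf 0x20ab48f9000141f24b3f1a090e920576f63bb2b46030c95be70a)) (.node (.leaf 0x22bd2c9a00001ded4140413f0ed285b45e31c2f243361d18b41d)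 (.leaf 0))) (.node (.node (.leaf 0x3bc532800001126e2fc426eb16f404b4e003c3567283fc33328f) (.leaf 0)) (.node (.leaf 0x538f32c000012c2515e74d0a1ed205f4e60706dd16f6182ab41d) (.leaf 0))))))) (.node (.node (.node (.node (.node (.node (.leaf 0x6e21760000100eb00500343065704524604642336c3ef537335) (.leaf 0x4dcf3bdd00012f49122a4ea51cd405f5b861114b5c074c2ab7b2)) (.node (.leaf 0x1d170d5100001468337333720ce184f1431df38076226a149025) (.leaf 0))) (.node (.node (.leaf 0x17e552f500010a260a5d1dc00af604b7f03ca4b30543447b2537) (.leaf 0x3d792104000148e52e8653dc18478533481c74f252926815670b)) (.node (.leaf 0x4cb600d40000204a0c2d3e2e1cb384d0141a10831c52b62957d9) (.leaf 0)))) (.node (.node (.node (.leaf 0x38c82ce0000005671113111216740514650381fd23d09770b24d) (.leaf 0x4c2d18f50000397f51ba52021ca305b26f1d92b044c2671497d9)) (.node (.leaf 0x487d44d800011a2608b83c5d1c2585b68e4cb6dd0d21ea2cb180) (.leaf 0))) (.node (.node (.leaf 0xb638801f7400000f1d29382937167104131c2443987de43d2cb486) (.leaf 0)) (.node (.leaf 0x2ec417950001274f49ea457412d504924c1176fa0ab7892c7000)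 (.leaf 0))))) (.node (.node (.node (.node (.leaf 0x48491993000003200a5407d61c2405327c1620fd34e23f70b7b2) (.leaf 0x1d7f24230001341e196c3fac0ce685f39506f3cc004392113025)) (.node (.leaf 0x29bb14f700001736380d380c10f285720934e0b34dc747049518) (.leaf 0))) (.node (.node (.leaf 0x4605373a00000c9e23ac1a691aa104b54b4426682a17c4586295) (.leaf 0)) (.node (.leaf 0x1e03416000023ad1480435f047704150512210740f1862145fc) (.leaf 0)))) (.node (.node (.node (.leaf 0x1eea0eac000107bf179417930e370551696203843aa26a149049) (.leaf 0x12d04d6b0000401950083ff50a368417695537ff12c29415f214)) (.node (.leaf 0x128a00b700011d29405340520a3405500e40c13416a74704968a) (.leaf 0))) (.node (.node (.leaf 0x38e92ce9000111be2e842e8316770534654cb1070a41ea2cb5fc) (.leaf 0)) (.node (.leaf 0x5bd50c600012b1c3db14c7704f385b7bf2965213c079c7865fc) (.leaf 0)))))) (.node (.node (.node (.node (.node (.leaf 0x425449760000020306d606d51a2484970232f5ac5281a4546113) (.leaf 0x355d3f040000318f4fa72c4714e485b6012324b83a94da33524d)) (.node (.leaf 0x37511644000115cc071b2f6e16448432291d86e21f51775fc68a)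 (.leaf 0))) (.node (.node (.leaf 0x39fe410f00010b600b8920b9169785d6327717857ec34555a18b) (.leaf 0x1d70f54000050f25181288f047684f1813117e83f728711355a)) (.node (.leaf 0x98e407f000021fb120b3d3d06b205d6247a00a35e84a83352cb) (.leaf 0)))) (.node (.node (.node (.leaf 0x3d9b1dac000006921457145618518572e270c00648511a5182cb) (.leaf 0x100d529d00003c8221f2414b08c105b7e67516922bd61970a786)) (.node (.leaf 0x4f4f2f1000011b9e3e583e571e4405f4920034ca77e0c95fc7b2) (.leaf 0))) (.node (.node (.leaf 0x86e46b80000106a2be70f92068705d6c23836b33bb3ef5372ab) (.leaf 0)) (.node (.leaf 0x440b171e000129250f144b3f1a6105723d7457a44b64e200055a) (.leaf 0))))) (.node (.node (.node (.node (.leaf 0x4f275144000004410dbf082c1e4304f7c817329e24341855a7d9) (.leaf 0x10327c000036a7366f277704448414df63a6e222b05e5fc68a)) (.node (.leaf 0x21214895000018af3a3e1fa80ea20436ec3c31917b344b621262) (.leaf 0))) (.node (.node (.leaf 0xa543144a7e00010ddb26791ae51a418497206c443110f3da5182cb) (.leaf 0)) (.node (.leaf 0xe8c51340001257b487b3a0308910597c70d639944624b7bd428)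 (.leaf 0)))) (.node (.node (.node (.leaf 0x36fe1819000008f010a71ab2163785d25841c05b28154529570b) (.leaf 0xb831ba3000043f82c77518d06f20472b71a97e82ca2316216de)) (.node (.leaf 0x2b701cb800011eb90d53422a12478412ca48336545572e7bd546) (.leaf 0))) (.node (.node (.leaf 0x468616f1000013152fcb31051ab104d23b1537bc1a8147000295) (.leaf 0)) (.node (.leaf 0x40c90c5b00012d224d95491c18b405312c6ea42d4ac1a412d113) (.leaf 0)))))))))

/-- part of a table -/
def entries64 : Trie := (.node (.node (.node (.node (.node (.node (.node (.node (.leaf 0x3ab82ab800010020007d007c16d28514384063ba54022618b149) (.leaf 0x13854d7400012da74dd7362d0a7404b76b3bc37468465e7d928f)) (.node (.leaf 0x13f82eb50000136f319e31b00a7785148a1f07ef23d74d2625be) (.leaf 0))) (.node (.node (.leaf 0x375a396a0000093f1b7c0068164485557b4c25ac7760c95be113) (.leaf 0x28b2005b0001452e311642d710d38450086b25566bc51370a546)) (.node (.leaf 0x22813ecb00011f1c181d42a10ed10435f968c0117cc3cb32d124) (.leaf 0)))) (.node (.node (.node (.leaf 0x5ec27930000048b055c0e9704f50593e716707d79a43d786486)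 (.leaf 0x25b24a8c0001377349fa1e3f105384572162539e2b12e4025546)) (.node (.leaf 0x25a025650000190d3a313ac710530413af39b55676f60e7bd12d) (.leaf 0))) (.node (.node (.leaf 0x53d9222a00010e2a272e272d1ed485336427369937061d18b15f) (.leaf 0)) (.node (.leaf 0xa435d4000125ed48d248d1045504952f21911e3974a66de734) (.leaf 0))))) (.node (.node (.node (.node (.leaf 0x1a1048730000024c07be07bd0c818416ea30643f2d54a66de70a) (.leaf 0x87946170000323224f74c6706878536af39c6075876be5372ab)) (.node (.leaf 0x28e53228000116242fe10e0810d704b4d554f39e60872c2c7546) (.leaf 0))) (.node (.node (.leaf 0x4c99119d00000bb2218121801cb18531ba68f104371186734180) (.leaf 0)) (.node (.leaf 0x42273b58000122672695428f1a2304f5a64033f11933bd000335) (.leaf 0)))) (.node (.node (.node (.leaf 0x93549d3000106dd1527057206a384b7100aa1e20760c229570b) (.leaf 0x672246300003d5a275e52c0064784539b2997dd530227486335)) (.node (.leaf 0x484611c600011c033ed42f8a1c2404d1bf4895164556cd6217b2) (.leaf 0))) (.node (.node (.leaf 0x23a3489e000110c02c8b24220ef20476ec7a03cc7231233357bd)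 (.leaf 0)) (.node (.leaf 0x3adb0fe00000299f4b904b8f16d48571920915ac0960392ab113) (.leaf 0)))))) (.node (.node (.node (.node (.node (.leaf 0x1e681f0600010132042c03f80e270513104d34fb4712671497d9) (.leaf 0x2708001d00002fd2297e43b210a20510026096ee3e736b049000)) (.node (.leaf 0x373317d5000114c515bb1103164384725316b0b4313227486335) (.leaf 0))) (.node (.node (.leaf 0x438d025b00010a741e7c1e7b1a5105b0334210a372214d518786) (.leaf 0x2ef4304100014a9741b7534b12d78494ae1812357fb3022c712d)) (.node (.leaf 0x47660b7f000120ba444e30141ae504d1147457a42991470006de) (.leaf 0)))) (.node (.node (.node (.leaf 0xa051f48000105b201a911ea06c204b3164996511b558f2ab295) (.leaf 0x22c7202600003a401a8c52290ed404f32c16d14b3200392ab7b2)) (.node (.leaf 0x4a3812b800011a853a7b0da11c628511d54d11cb43c3fc335025) (.leaf 0))) (.node (.node (.leaf 0x207731de00000f7429e629e50e8684f4ce5923fa7911e824d70a) (.leaf 0)) (.node (.leaf 0x3f623211000027c24a414a4018870454d31f268b2c320e51818b) (.leaf 0))))) (.node (.node (.node (.node (.leaf 0x18ba1d26000003690b320b310c358552d42c11826614c521441d)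 (.leaf 0x483c1b000034b250bd3fb304460515bd3df3ba4db5cb24d149)) (.node (.leaf 0x471341340001179507c038911ae28476382fc47f5117dc12d486) (.leaf 0))) (.node (.node (.leaf 0x31e143e000010cec1e92246214560436790747bc20a7f824d295) (.leaf 0)) (.node (.leaf 0x50715263000124262a89477e1e668437e116009e77f49768a7bd) (.leaf 0)))) (.node (.node (.node (.leaf 0x2b6e46990000080d18661865124705d6c05fb2eb6852e4025546) (.leaf 0x7c553b3000040fe29ec5101067604b8030805bf67f0c51136de)) (.node (.leaf 0x16f4485900011d8d0a1140c80ad78496e74395081dd1452c7621) (.leaf 0))) (.node (.node (.leaf 0x3bbc033a0001121705c31a8116f385904d6507ef1e57832145fc) (.leaf 0)) (.node (.leaf 0xdd818de00012ba44663247a087685126c71039859429415f486) (.leaf 0))))))) (.node (.node (.node (.node (.node (.node (.leaf 0xce1285b000000a8025b025a08370433fd3d75f41a927041d335) (.leaf 0xea2205e00012ebf4e622ab908930453324f180749e3d50252ab)) (.node (.leaf 0x29863d800001141832d626b310f104d5de01c7587465ff180156) (.leaf 0))) (.node (.node (.leaf 0x245c23a4000009da14351d03102685938944c6ee74a38615f586)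 (.leaf 0x151d2cf5000047874b7336690aa185b46613a3ce2bd4a2124149)) (.node (.leaf 0x414f3af500011fef43803a6518e405f59e1361fd0336b854624d) (.leaf 0)))) (.node (.node (.node (.leaf 0x19913d900001051e104310420c548435e008f3873034045be15f) (.leaf 0x26b3211c000138d217be51dd107284734962450321e322049518)) (.node (.leaf 0x2d2c1c3c000019c50cdf3bde12a30592c070f63644c41418012d) (.leaf 0))) (.node (.node (.leaf 0x4f6e210000000ecc288a28891e4605d3480682da3d80d828f180) (.leaf 0)) (.node (.leaf 0x4fab2a7a000026d8498e498d1e5305743257b14c5c10826de049) (.leaf 0))))) (.node (.node (.node (.node (.leaf 0x52000382000002da097b097a1ea10410522b36c33c8750734180) (.leaf 0x4f8151020001336d3b87470c1e510437c312e6ae400781486124)) (.node (.leaf 0x456f4a28000116e0377d377c1a8705f7195a431744547a1562ab) (.leaf 0))) (.node (.node (.leaf 0x1ac71c7000000c4f230123000c9504f2c503649b5a46644862c7) (.leaf 0)) (.node (.leaf 0xa3453240001234346ae46ad06c38497f419b66c6da0cc428335) (.leaf 0)))) (.node (.node (.node (.leaf 0x39272f330001077716cb16ca168304f49420050f1b32a75372ab)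 (.leaf 0x477d1ca800003f21530638f31ae585b2c953c2374a74015866de)) (.node (.leaf 0x1a94251d00001cce384c2e190c918493aa70227d4d24fa55a70a) (.leaf 0))) (.node (.node (.leaf 0x14d70d1f0000116b23312dde0a9584f13d7cd3995d260a7bd32d) (.leaf 0)) (.node (.leaf 0x25a10a9f00002a964c362d0110530431007df1e32435067bd12d) (.leaf 0)))))) (.node (.node (.node (.node (.node (.leaf 0x11133f5b000101bd007a05f608e18476086af0d006d77a18055a) (.leaf 0x2fee1511000030f54e8e352b12f605d20b0df10c37718e15f518)) (.node (.leaf 0x256f439a0000156c353d353c104705f6715236f940c35f7bd12d) (.leaf 0))) (.node (.node (.leaf 0x19a53d9400000b16095212620c5504b5e02ca26e21f33e537124) (.leaf 0x4e36401b00014e17533c429e1e2384d61b5f14d47677042cb049)) (.node (.leaf 0x19a04311000021991269386f0c550416630716a922469c537262) (.leaf 0)))) (.node (.node (.node (.leaf 0x313f36420001064813891388144385f5360f85f44ad66e537335) (.leaf 0x87750a300013bc14aac0a7f068784f7bb19e4ef61c66e4862ab)) (.node (.leaf 0x48a513c00011b3d18d8249f04d20557c76e30192bd2982ab149) (.leaf 0)))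 (.node (.node (.leaf 0x17610bb40001101a2b432b420ae60431192b14b33db30b7b2486) (.leaf 0)) (.node (.leaf 0x892142d000028b24aed4aec06928451f86691e06540135fc428) (.leaf 0))))) (.node (.node (.node (.node (.leaf 0x1bd20f83000003fa0ce30ce20cb48451882971203506cd70b7b2) (.leaf 0x45318a000035f35121347c044604b4c74ff03e18771324d295)) (.node (.leaf 0x1c28334c0001184c187f14e90cc20514f33a32da6706ba2ab180) (.leaf 0))) (.node (.node (.leaf 0x7fd4f0200010d8d043125cc067785b7941023ee04f5ae2145fc) (.leaf 0)) (.node (.leaf 0x165a4d380000250b482548240ac585576531e2c20635132c72cb) (.leaf 0)))) (.node (.node (.node (.leaf 0x4b3d0b2c000108a5097c19f81c8285b10b63a43f13505e5fc2c7) (.leaf 0x1edc0030000042e24fdd4d430e368590040080da69d1a068a124)) (.node (.leaf 0x4089480700001e5532a60eb118b10536e14333d622a7b5000295) (.leaf 0))) (.node (.node (.leaf 0x518635ea000012c608c430631e9104d5304ee2415fb2275372c7) (.leaf 0)) (.node (.leaf 0x2f2610a300002cac2c9d4a6c12e204d1a33705ab22e6ed049518) (.leaf 0)))))))) (.node (.node (.node (.node (.node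 (.node (.node (.leaf 0x16410748000100630019016d0ac50430ab51052a18f78970a786) (.leaf 0x151219f200012e34361d45d20aa18452880e30195d52df262149)) (.node (.leaf 0x22b848a6000113c4324419a70ed28516f059359b71a58f18b180) (.leaf 0))) (.node (.node (.leaf 0x142847370001098e1c401c3f0a830516ce44350f0221797bd2ab) (.leaf 0x7992eb20000464749eb0d8f067485348a13170508654333528f)) (.node (.leaf 0x24ac152300001f8b0ea4430e103305920c0ad0c45c14a2262546) (.leaf 0)))) (.node (.node (.node (.leaf 0x52d93fd2000104d601650f6e1eb48536152321760564da33515f) (.leaf 0x4e8051000001382b51af467b1e320417c30386ae11f07570b124)) (.node (.leaf 0x4bc7229b0000196633b43b501c9504f36e68e1b42a94cc55a2c7) (.leaf 0))) (.node (.node (.leaf 0x31ae1d1800000e7827d827d7145305d2d327c3e4311227486335) (.leaf 0)) (.node (.leaf 0x258c52d00001266b4933493210510597ec14e35d4ed63c7bd586) (.leaf 0))))) (.node (.node (.node (.node (.leaf 0x3a7b39280001029200b8089a16c78575775944875306f132d335) (.leaf 0x39293631000132d114161ffe168305353521a68b7ea6be4862ab)) (.node (.leaf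 0x4c7914490000168636eb36ea1ca68531fa5c51912a840a68a262) (.leaf 0))) (.node (.node (.leaf 0x22c3378200010bfd223822370ed40475510701dc4cd34a2ab15f) (.leaf 0)) (.node (.leaf 0x4aa728c8000122d4464f464e1c7204f4063a01e67d81233337bd) (.leaf 0)))) (.node (.node (.node (.leaf 0x16b8139a0001072a021d15f80ad38511eb5055083c57892c770b) (.leaf 0x50364dc800003e34299838561e6284d77350909e6462503357bd)) (.node (.leaf 0x25a533d200001c6e3f523f51105304b4ff14e6552cf72e7bd546) (.leaf 0))) (.node (.node (.leaf 0x37c1319c000111132d2f098016540434c868813452b5b25fc113) (.leaf 0)) (.node (.leaf 0x1dff0ca700002a1c43324be50cf685f1331e71ca50d6131137bd) (.leaf 0)))))) (.node (.node (.node (.node (.node (.leaf 0x3d9e344f0001017700660513185185d50b79d43142f20e518786) (.leaf 0x1be43ff1000030634f2c1a7c0cb704961718708935079c7867d9)) (.node (.leaf 0x32e824d20001151834a834a714770513a516707c2392e77865fc) (.leaf 0))) (.node (.node (.leaf 0x3e1424cb00000ac51f390d9918618493a35c47a42d07ae00055a) (.leaf 0x30041e0b00004c404f9448e714220492ed6a272b6e0543333786))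 (.node (.leaf 0x526e4a240001212c44b044af1ea605d7191d60da8084e168a262) (.leaf 0)))) (.node (.node (.node (.leaf 0x40f519a0000005fe066812ba18b784b27e0bc7dd1967b5000335) (.leaf 0x1630477700003af05253130b0ac38416d45101a719a11170a621)) (.node (.leaf 0x468a302200001ae33d6b37641ab10554ac3153ce2964e2000149) (.leaf 0))) (.node (.node (.leaf 0x1b1a3bf100010fc705042a900ca18555ba0b10ea5511c8786180) (.leaf 0)) (.node (.leaf 0x3b3015910000283a1ce34a9816e38412170933280457832145fc) (.leaf 0))))) (.node (.node (.node (.node (.leaf 0x4fe83ce0000003b30c0f0c0e1e560515d20426dd79e37924d41d) (.leaf 0x407f3bef0000355750af178718a785f5b97cc76405a147586335)) (.node (.leaf 0x14e34f2a000117f30e1539290a970477965bd42608d35f7bd2ab) (.leaf 0))) (.node (.node (.leaf 0xf04466100010d3a2510250f08a10496bb0ac6681f30bf124295) (.leaf 0)) (.node (.leaf 0x429d35280001249647d447d31a3285b5223a751558c41f546734) (.leaf 0)))) (.node (.node (.node (.leaf 0x509d25ea0000085811af192d1e7185b3be5e43d36596352147bd) (.leaf 0x31be277f000141f3514d3022145385d3e36c017226f664537333))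 (.node (.leaf 0x1df4e5200011ded41424141047685f77f19359c62261311355a) (.leaf 0))) (.node (.node (.leaf 0x3cba42ec0000126f1d422fc5183385565f5e166c6da47c586335) (.leaf 0)) (.node (.leaf 0x1b32487800002c261c014d0b0ca28456ea4f626e5b0221621124) (.leaf 0))))))) (.node (.node (.node (.node (.node (.node (.leaf 0x28773d05000000ec0345034410c784f5d51e922d5d42d92c712d) (.leaf 0x37693d1600012f4a46eb4e7716460535d63af3ba5e81ab24d149)) (.node (.leaf 0x13620b9c00011468243a09470a6704511658825f7eb38c1245fc) (.leaf 0))) (.node (.node (.leaf 0x3c464f5800000a2716491dc1182404d79a4715af3b465c546113) (.leaf 0x520231f5000048e64c6946021ea10454d12ae18213a0b021441d)) (.node (.leaf 0x2f5f0c5c0001204a43e543e412e585f12c7956471ce78d262518) (.leaf 0)))) (.node (.node (.node (.leaf 0x4fa00a9700000568111407051e530411003e529e24342055a7d9) (.leaf 0x3dda149d0000398038603c3818558552006ac43130e11a5182cb)) (.node (.leaf 0x4079067300001a273c5e323018a78530991881465277b5000335) (.leaf 0))) (.node (.node (.leaf 0x2db90ff800010f1d04b9293912b38531934532356736fe180546)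 (.leaf 0)) (.node (.leaf 0x487921050000275049ec49eb1c258533482441271a643d2cb41d) (.leaf 0))))) (.node (.node (.node (.node (.leaf 0x1d0f49ef000103200a560a550ce105f7127192a016926a295025) (.leaf 0x3ef506260000342050815080187784b0922c57ac1fb0480005fc)) (.node (.leaf 0x457637c100011736380e0ed21a8784d55516960766967e1562ab) (.leaf 0))) (.node (.node (.leaf 0x53ea12db00010c9e23ae23ad1ed50551d76c741039a626428262) (.leaf 0)) (.node (.leaf 0x3c3c52b8000123ad4712471118238597ea1881462fd13e000333) (.leaf 0)))) (.node (.node (.node (.leaf 0x44b74fcf000107c017950af11a7284f7a67177e43f76b812d537) (.leaf 0x4c0d34360000401a5295174d1ca105b50930e2f26e763521441d)) (.node (.leaf 0x3cec2ff600001d2a0d42405418350594a94333d66fb13e000149) (.leaf 0))) (.node (.node (.leaf 0x7e3615000011bf18be2e85044785d5333883f149166e537335) (.leaf 0)) (.node (.leaf 0x452d07bf00002b1e4c794c781a8305b0b66c46b32513da51818b) (.leaf 0)))))) (.node (.node (.node (.node (.node (.leaf 0x10802f2e0001020306d806d708d10414938032c24366d82c7786) (.leaf 0x96e06610001318f4c764fa806a705d0981035b1572416214621))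 (.node (.leaf 0x3ce90ec7000015ce2b5c35d6183505316b51b7bc2c17c4000295) (.leaf 0))) (.node (.node (.leaf 0x42d350500000b611ecc20ba04c305b51e37c7a25c53cb428335) (.leaf 0x40562845000150f3356a43ae18a484d3f93676e222b0a954668a)) (.node (.leaf 0x1eb93b39000121fb3d7a3a900e358535a45e41835d8186214180) (.leaf 0)))) (.node (.node (.node (.leaf 0x531448440001069201ee14581ec28496e61fb0720235742ab180) (.leaf 0x20c218e1e6d00013c8325fe0c800eb105d2fc73e0725e124778641d)) (.node (.leaf 0x4b180e4100001b9f3e5a3e591c818511611712f852d33e48670a) (.leaf 0))) (.node (.node (.leaf 0x42c311ac0001106a2be92be81a340471bb6f050125580412d68a) (.leaf 0)) (.node (.leaf 0x36c52fee00002926351e4b24163604b4a76fd0c34a41a0113786) (.leaf 0))))) (.node (.node (.node (.node (.leaf 0xf652454000004420dc006b308a604b39a33c6cc7753c17b2734) (.leaf 0x360b39d7000136a73afb515716220575874604cf46e4a83332cb)) (.node (.leaf 0x7a24417000118af08293a3f067504567c4ab739472207149537) (.leaf 0))) (.node (.node (.leaf 0x358031f100000ddc267b267a14f10414d10aa47f5950c2295537)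 (.leaf 0)) (.node (.leaf 0x122724670000257c0e0e487c0a2504f39b3e762d5c24de124149) (.leaf 0)))) (.node (.node (.node (.leaf 0xf9a03c6000108f01ab41ab308b185505645403e093677262295) (.leaf 0x5211b72000143fa2c51175104e30432b10fa28e24f21c2cb5be)) (.node (.leaf 0x32d814ae00011eba2788422b14748512015de76a0a47f962128f) (.leaf 0))) (.node (.node (.leaf 0x53f9178900011315310609e51ed585324a5857037c562f32d262) (.leaf 0)) (.node (.leaf 0x241a25cb00002d2334f54d9610228553bb5b314170f6ed049586) (.leaf 0)))))))))

/-- part of a table -/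
def entries65 : Trie := (.node (.node (.node (.node (.node (.node (.node (.node (.leaf 0xb85241400000021007f007e06f204b3941621b84fd6b570b6de) (.leaf 0x50fc123b00002dab4cc90ece1e768591c661a3d37c949768a7bd)) (.node (.leaf 0x31b22f9c0001136f064031b1145384549e5d616e0fc66e537335) (.leaf 0))) (.node (.node (.leaf 0x388508d0001093f1b7e1b7d04b20517b97002c27263fc335786) (.leaf 0x2dc5079000145324cef52c204968597b861b1e079371328f428)) (.node (.leaf 0x151251c081f00001f1d42a22e6010418590bd80660b7d460e025586) (.leaf 0)))) (.node (.node (.node (.leaf 0x24743b4c0001048b0e990e9810278495a565b6f96bb6fe41d546) (.leaf 0x35271f25000037745186292214e304f3132a325f57e1957345be)) (.node (.leaf 0x4b3e10e20001190d3ac80d031c8285d1a91581b93773465be70a) (.leaf 0))) (.node (.node (.leaf 0x38c4062f00000e2b2730272f16740490927d33741fb07570b28f) (.leaf 0)) (.node (.leaf 0x424a44d0000125ee48d3462e1a2405568e02942d5971e412d68a) (.leaf 0))))) (.node (.node (.node (.node (.leaf 0x130542060001024c078b07bf0a6404b64835935662969b7d928f) (.leaf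 0x271e14090000323338dd3d4610a285d1f55f21413d834d049000)) (.node (.leaf 0xfbc35c3000116252255228308b385952e0ab66c549414180335) (.leaf 0))) (.node (.node (.leaf 0x4774337b00010bb2218321821ae58494f75b023717113e5866de) (.leaf 0)) (.node (.leaf 0x2d353c6a0000226833133e4912a384b5c562c19475e27041d12d) (.leaf 0)))) (.node (.node (.node (.leaf 0x49af1d1f000006de152915281c5305f2d37fd00f6f708255a049) (.leaf 0x3c8e0de400013d5a3d69500d183205d1583a25157536b8546214)) (.node (.leaf 0x4b4b0feb00011c04264b2ae01c850571925482a25023456de2c7) (.leaf 0))) (.node (.node (.leaf 0x28da3f4d000010c12c8d2c8c10d58556067946ee3071cc70a586) (.leaf 0)) (.node (.leaf 0x3d90beb0001299f4b910dc304b685311f6742c21df1a068a786) (.leaf 0)))))) (.node (.node (.node (.node (.node (.leaf 0x397a20c900000133042e042d168785533d5482792ed3456de18b) (.leaf 0x3f262dda00002fd41ccb3d86188304d4754d768b10547a5182ab)) (.node (.leaf 0x28a74930000014c63412341110d304f6fd01755675a30470a12d) (.leaf 0))) (.node (.node (.leaf 0x2d6113ed00010a75032a1e7d12a70431f36602eb4a50bf262546)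 (.leaf 0x14c7075c00004a9842b24a020a9504f0ac64a22846a60a7bd32d)) (.node (.leaf 0xe5713be000120bb0e4215ad088584f1f07d54905953d57bd428) (.leaf 0)))) (.node (.node (.node (.leaf 0x36cf0a48000005b311ec11eb163605f0f850705f5e828768a2cb) (.leaf 0x50f83f8300013a4018bb381c1e7685160d21769a1d11a068a025)) (.node (.leaf 0x52c444ed00001a863ce72bfa1eb404968f6a514b49370d33315f) (.leaf 0))) (.node (.node (.leaf 0x1d3e43dc00000f7529e729340ce285d6763b469a0042f9333025) (.leaf 0)) (.node (.leaf 0x4400cfa000127c24a422dd704c404113a3a35af3b45b72ab113) (.leaf 0))))) (.node (.node (.node (.node (.leaf 0x1f0830a00000036a0b340b330e440514b708d0816ab4765be7b2) (.leaf 0x1dd480611bb000134b2403047b41c2204d1bd6443194aa755621124)) (.node (.leaf 0x1ce420ec000017963892240d0cd704934259800f6f40cc32d7d9) (.leaf 0))) (.node (.node (.leaf 0x4e5f199e00000ced0ad524631e2485f27c6e138705675570b15f) (.leaf 0)) (.node (.leaf 0x2fcb1bd4000024284780477f12f50572ba3d85ab54138c262156) (.leaf 0)))) (.node (.node (.node (.leaf 0x20a94b0f0001080d186818670e9205372d7f31b42fe1b15fc2c7)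 (.leaf 0x4eba3a50000140fe3b4641cf1e338555920660893ca1c87867d9)) (.node (.leaf 0x1fd2320100001d8e40ca40c90e568454d21052f25c44a324d41d) (.leaf 0))) (.node (.node (.leaf 0x50672da2000012192ee62f281e6604f4723c514f1de13768a7bd) (.leaf 0)) (.node (.leaf 0x46c20a5400002ba53bef2b6d1ab40450fa30342d14280412d68a) (.leaf 0))))))) (.node (.node (.node (.node (.node (.node (.leaf 0x311b34a6000100a8025d025c144185751445f72504446355a214) (.leaf 0x36bb3a5500002ec046d240c016338575922c97441c4416734621)) (.node (.leaf 0x15992bf50000141932d832d70ab185345127178f4624a2262149) (.leaf 0))) (.node (.node (.leaf 0x1dbf24ba000009db1d051d040cf285f3a24e614f6a17fe3357bd) (.leaf 0x19ab1d2d000147875276267e0c550572d46870873a1340486124)) (.node (.leaf 0xef3ed400011ff033874381045705f5fb3fe3f510b227486335) (.leaf 0)))) (.node (.node (.node (.leaf 0x3544321e0000051f104404da14e40494d36386664c13fc33328f) (.leaf 0x6bd1261000138d317c01b7b065585b1ce0543b34442406de734)) (.node (.leaf 0x51c32ded000119c53bdf2b1d1e950474775f32800c717f6de70a) (.leaf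 0))) (.node (.node (.leaf 0xb8d3c2d00010ecc28711e5506f205b5c068349521056e70b6de) (.leaf 0)) (.node (.leaf 0xa8d3ba3000026d9498f423c06d205b5b315214851745018b149) (.leaf 0))))) (.node (.node (.node (.node (.leaf 0x47ed1c4d000102da097d097c1af505b2c175d1b84fd7c45866de) (.leaf 0x394f23e00001336e14662657168605f38f0457d10361e828f428)) (.node (.leaf 0x36774f54000016e1339e2208162784f79a1d77663b409f149621) (.leaf 0))) (.node (.node (.leaf 0x3e5b3a7600010c4f23020f0a186485759455963715265c54624d) (.leaf 0)) (.node (.leaf 0x4b360299000123440c6c1faa1c8284d0384c219c4f10c95be70a) (.leaf 0)))) (.node (.node (.node (.leaf 0x163f0a3f0000077816cd16cc0ac385f0f67be6750b61cc2c7621) (.leaf 0x313d017300003f2533965307144385b0224463e42fd538486333)) (.node (.leaf 0x13114c8600011cce3fe10cd50a648437514937331ff65e04928f) (.leaf 0))) (.node (.node (.leaf 0x30263b520001116c1a1812bf142304d5a61fc60219360073470b) (.leaf 0)) (.node (.leaf 0x2752073200002a974c3748b110a68450aa1eb35d4ed73a7b2586) (.leaf 0)))))) (.node (.node (.node (.node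 (.node (.leaf 0x2b6b3314000001be05f805f712470574ee15768948835f02512d) (.leaf 0x51d21d7f000130f74f704f6f1e958452dd7fd1b46930ff55a70a)) (.node (.leaf 0x1a2933440001156c353e195b0c820534f306a6787561775be70a) (.leaf 0))) (.node (.node (.leaf 0x3e3912bc00010b162001200018628531d565777269679012d486) (.leaf 0x10271d9e00004e18527d0a0708c304f2e052605b1e77612c770b)) (.node (.leaf 0x4e0b04b40000219a1f173e051e2205706b2bf08740764d70b124) (.leaf 0)))) (.node (.node (.node (.leaf 0x3ae7284a00000649138b138a16d704f3f96c77dd22b390428333) (.leaf 0x519651d200013bc324be52571e9184d7d303649b5666644862c7)) (.node (.leaf 0x38b7211000001b3e3ddd1f59167284f34903513c0e622c6216de) (.leaf 0))) (.node (.node (.leaf 0x413f16100000101b2b452b4418e385f22301b3282a51475865fc) (.leaf 0)) (.node (.leaf 0x18943f1a000128b24aee26a40c348496035971205eb5433337b2) (.leaf 0))))) (.node (.node (.node (.node (.leaf 0x5ae0c7c000003fb0ce50ce404f305d12f64503d0220342cb5fc) (.leaf 0x45543dc9000135f446ad3a411a858495e45544e868612b51832d)) (.node (.leaf 0xe9021a20000184d24db39b0089184135914e43744d72e7bd32d)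 (.leaf 0))) (.node (.node (.leaf 0x36b738c400000d8e25cd190b163384f56c23c5081d60b073470b) (.leaf 0)) (.node (.leaf 0x285e35a40000250d48263f7210c585d52c3737083cd4d62c7000) (.leaf 0)))) (.node (.node (.node (.leaf 0x16405355000008a612f919f90ac50417f73c665633f6d870a786) (.leaf 0x329614b7000142e21f66537a147184d20457768d5a117b2cb486)) (.node (.leaf 0x38202e3100001e560cee41b6166204148012579b22556e6216de) (.leaf 0))) (.node (.node (.leaf 0x47db4cae000112c6306530641af48577537a77057f36b812d24d) (.leaf 0)) (.node (.leaf 0x45eb3f0900012cac4d5004141a9705760150d2cd3a95811562ab) (.leaf 0)))))))) (.node (.node (.node (.node (.node (.node (.node (.leaf 0x6c332ef00000064016f016e06560474e97f53d636d0d828f149) (.leaf 0x50c2036f00012e35374d41161e7504505073f1cb65957d1497bd)) (.node (.leaf 0x3b9e38e7000113c51159324516f185d56f28947f66d26a295537) (.leaf 0))) (.node (.node (.leaf 0x408c03fc0001098f02e01c4118b105905a51b7bc800164000149) (.leaf 0x30b32f940001464752c11566143384749e29b76649460021470b)) (.node (.leaf 0x4b12475500011f8b383336191c818456d23832a214e3405372c7)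 (.leaf 0)))) (.node (.node (.node (.leaf 0x47f5194a000004d70f700f6f1af584b27562a5df0b77ae58655a) (.leaf 0x9fc40f30001382f2f6936af06b78596311023ed78e5ae214621)) (.node (.leaf 0xa4d09ec000019670fab3b5106c405b0ee3a35af7366ba2ab68a) (.leaf 0))) (.node (.node (.leaf 0x403222fd00010e781d7827d918a284537571201d04e6b8546214) (.leaf 0)) (.node (.leaf 0x518b302a0000266d257c27cb1e910574ac6821b44c664f53770a) (.leaf 0))))) (.node (.node (.node (.node (.leaf 0x2629217b00010293089c089b10620533547351ef1894d9049156) (.leaf 0x502b4ee7000132d3141713d91e620577923a01e67a94b5333025)) (.node (.leaf 0x31c0d060001168736ed36ec04a285913b49f0c34ae70d335786) (.leaf 0))) (.node (.node (.leaf 0x256639ae00000bfe20912239104704d5825fd6f92e33b07bd12d) (.leaf 0)) (.node (.leaf 0x16528d84a2c000122d50c3f0e6d10d585171967c60b8087892c7000) (.leaf 0)))) (.node (.node (.node (.leaf 0x5941e930001072b15f90c7504f28492ff27759c58256e6216de) (.leaf 0x35ac1c3500013e341d114d7a14f30592c04ae1072531cd2145be)) (.node (.leaf 0x1ec546f200011c6f3f543f530e3604b6c81212e18052ad113262)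 (.leaf 0))) (.node (.node (.leaf 0x44084da8000011142d312d301a6105177044279b0587c45866de) (.leaf 0)) (.node (.leaf 0x3874443100012a1c37322dcd166784967f1870f42be2837865be) (.leaf 0)))))) (.node (.node (.node (.node (.node (.leaf 0x337914460001017801fc051414878531fa4566071152406de2ab) (.leaf 0x1178346e000130664f2d4bba08e685150e78c68d6cb55c15f486)) (.node (.leaf 0x157b01ce0000151934a901110aa685702a7bf3b36054987b2734) (.leaf 0))) (.node (.node (.leaf 0x532b07b600010ac51f3b1f3a1ec30570b62dc14c2cf6f132d049) (.leaf 0x19bd1d2c00004c4334b636250c5585b2d468641010a538486262)) (.node (.leaf 0x3e8814d50000212d44b12476187105120618813c34f13e0006de) (.leaf 0)))) (.node (.node (.node (.leaf 0xa764f23000105fe12bc12bb06c584d79628551563217432d214) (.leaf 0x23b248dc00013af1516a3f990ef28456f43b469a6d72503337bd)) (.node (.leaf 0x53f52d5a00011ae30b5c3d6c1ed584b46d55e0874070de32d124) (.leaf 0))) (.node (.node (.leaf 0xbe4f0011b600000fc82a922a911e410411bd4a770315c69c486262) (.leaf 0)) (.node (.leaf 0x2e54016b0000283b4a9a4a9912c584902151c3120d114570a000)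 (.leaf 0))))) (.node (.node (.node (.node (.leaf 0xb9b1777000103b30c110c1006f28572492057a40ed2f062155a) (.leaf 0x283309750000355848f53e4d10c38470e515b22d3321cc2c7546)) (.node (.leaf 0x49da1121000117f51b38392a1c548551ae06b1767316b65fc7b2) (.leaf 0))) (.node (.node (.leaf 0x3e9e457800000d3b2511249d187185d6a03954955637e258655a) (.leaf 0)) (.node (.leaf 0x50564b4b000124974456088a1e6584d73262e1ca77f09f1497bd) (.leaf 0)))) (.node (.node (.node (.leaf 0x41b130cd00010858192f192e18f38434ba6174796147b50005be) (.leaf 0x4b651c8b000141f433d347741c8604b2c661f2a27df7f824d2c7)) (.node (.leaf 0x1b1b4a4d00001dee2f4217980ca185771d58907244240d786180) (.leaf 0))) (.node (.node (.leaf 0x3a110c170001126f2fc72fc616c184312548d2d273e43b428214) (.leaf 0)) (.node (.leaf 0x19c2bec112400012c271087190612570591ae1aa39f73160e02512d) (.leaf 0))))))) (.node (.node (.node (.node (.node (.node (.leaf 0x2060368e000100ec003f03460e8604153c5193fa79137924d70a) (.leaf 0x3ba60a7800002f4e2f854ea616f304d0fc25c11d1b34c52145fc)) (.node (.leaf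 0x4e6399500011469069806f504d504d57f2f611e24a020428214) (.leaf 0))) (.node (.node (.leaf 0x1002466f00010a271dc31dc208c10456bb7d805f2333d92c7786) (.leaf 0x33d41a75000148e949c0387814968492932512286797f828f428)) (.node (.leaf 0x1c173e470001204b0b3538050cc184f5ee2dc0da6d16f132d262) (.leaf 0)))) (.node (.node (.node (.leaf 0x4c94484700000569111611151cb18496e631d6c316363573441d) (.leaf 0xa462e00000039815203349406c404d47b0a401e4e661818b113)) (.node (.leaf 0xa6a365900011a273c603c5f06c50555395637ed10d17432d214) (.leaf 0))) (.node (.node (.leaf 0x14dd09ee00000f1e13b3293a0a9585b0ee7437547d763c025428) (.leaf 0)) (.node (.leaf 0x20b3226e0001275149ed02d00e9284736961c49b0dc0135fc70a) (.leaf 0))))) (.node (.node (.node (.node (.leaf 0x319125be000003210a580a5714518433b979a4eb1fa24055a734) (.leaf 0x4b451d7d0001342122d850821c8504b2dd7d721139b24055a2c7)) (.node (.leaf 0x146e3b7f00001737265222ee0a8705d5aa66b2794453d50252ab) (.leaf 0))) (.node (.node (.leaf 0x2b93dbf00000c9f23b023af04938535e379a1bc43205d55a18b) (.leaf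 0)) (.node (.leaf 0x2d2e094f000023ae465f118d12a305d0e17af3655c913241d546) (.leaf 0)))) (.node (.node (.node (.leaf 0x51a0147d000007c10fd517961e920411fe67a49b66b1b15fc2c7) (.leaf 0x26ff4c300001401d30a11cb0107685f7490f637f31e2d87b2156)) (.node (.leaf 0x3d89037600011d2b4055125e185105305136357160614d156786) (.leaf 0))) (.node (.node (.leaf 0x3a8945a3000011c02e872e8616d10536a41985762691ee32d734) (.leaf 0)) (.node (.leaf 0x485b2bd100002b1f34ca477b1c2485744e0351761f822c6217b2) (.leaf 0)))))) (.node (.node (.node (.node (.node (.leaf 0x53f3dbd0000020406da06d904e385f5e373e0f44322477865fc) (.leaf 0x83e1394000031914b7f4a86068385d1eb3db27905c17f6de2ab)) (.node (.leaf 0x1c1f0cc2000115ce35d835d70cc185f13607870315362632d262) (.leaf 0))) (.node (.node (.leaf 0x43ed054400000b6220bc20bb1a5705b0771e174456a178518621) (.leaf 0x32a34095000150f75037293114720476293260d019b2f070b55a)) (.node (.leaf 0x114c2694000021fc457b386d08e40593cd2886664c136b04928f) (.leaf 0)))) (.node (.node (.node (.leaf 0x1de3186c00000693145a14590cf60472606f53fb71509568a025)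 (.leaf 0x186b0d3e00003c84471f4fb50c270571406ca1853502b62957d9)) (.node (.leaf 0x4745437900011b9f3b353e5b1ae404b66f36966657579054628f) (.leaf 0))) (.node (.node (.leaf 0x191047930000106b2beb2bea0c448416d71d81765bb5b25fc15f) (.leaf 0)) (.node (.leaf 0x4c802fa6000029284b40028e1cb104149f3e012722f63521441d) (.leaf 0))))) (.node (.node (.node (.node (.leaf 0x43254d3968000104420dc20dc1104505b57b41160b66063c025586) (.leaf 0x13644866000036a94d3a51580a670496e83395211294a22625fc)) (.node (.leaf 0x48bd1a45000018b00b9e1ca71c3385b28d36e21313943d786049) (.leaf 0))) (.node (.node (.leaf 0x2fff15c500000ddd237a267c12f685f21b24334169e6237b2518) (.leaf 0)) (.node (.leaf 0x4f880deb0001257c487d2fea1e510511585a56ae3eb33e486124) (.leaf 0)))) (.node (.node (.node (.leaf 0x3e0130b3000008f11ab61ab518610434b923e3ea74902600055a) (.leaf 0x31bf3987000043fb366a368a145385f57e4924873c5340537333)) (.node (.leaf 0xc0f4c2700001ebb422d422c082405f74645155049136a7d9113) (.leaf 0))) (.node (.node (.leaf 0x38bf050d00001316310704f1167285f0706a47a45942316216de)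 (.leaf 0)) (.node (.leaf 0x450717ff00012d232b220c301a8104f2557524905f3581156428) (.leaf 0)))))))))

/-- part of a table -/
def entries66 : Trie := (.node (.node (.node (.node (.node (.node (.node (.node (.leaf 0x1ef2488f00010021000700800e378456eb7194d434304b2957d9) (.leaf 0x5be173200012dab2d404d6104f385d2431a847974b40d2cb5be)) (.node (.leaf 0x364e469b000013700bea31b2162605d6c064c5711fc4e168a786) (.leaf 0))) (.node (.node (.leaf 0x44b30da300000940053e1b7f1a7284715217007e39365c12d486) (.leaf 0x20691624000145343ba32e8e0e860532244483fa3ab7fc24d70a)) (.node (.leaf 0x4ad9009f00001f1e24fa1e711c7585300c7d02f445b08a1497bd) (.leaf 0)))) (.node (.node (.node (.leaf 0x4e164a710000048c0e9b0e9a1e2284d72005a4d80ce22170b124) (.leaf 0x406b079c0001377416db518718a70570b15e166c15047c586335)) (.node (.leaf 0x9060e790000190e3aca3ac906a204d1654604cf1d47fe333786) (.leaf 0))) (.node (.node (.leaf 0x9b74ebc00010e2b2732273106b384f78c6ca3ed0372b629570b) (.leaf 0)) (.node (.leaf 0x1f181d3f000025ef48d4305b0e448512d58021202de4045fc15f)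 (.leaf 0))))) (.node (.node (.node (.node (.leaf 0x3a531a8a0000024d07c107c016c48472964055d36d229818b113) (.leaf 0x454306990001323344814fe51a8504709b4be4902107db15632d)) (.node (.leaf 0x51e20f2f000016271e2d365b1e960451757f527d0c70d828f70a) (.leaf 0))) (.node (.node (.leaf 0x9e9500200010bb32184067006b70537aa1143614d05b473470b) (.leaf 0)) (.node (.leaf 0x21fe162b00002269423945de0eb785d2245b9089559347786049) (.leaf 0)))) (.node (.node (.node (.leaf 0x293722f4000106de152a03fa10e284f37534e0b35fb4b1049156) (.leaf 0x2114324514b00013d5b26a32dcf1a430497c85545b121726851870b)) (.node (.leaf 0x3dd306ff00001c053ed5256218558470a579d4314d567e5182cb) (.leaf 0))) (.node (.node (.leaf 0xcc194036bb000010c212af27450c4604153f5192f237271324d180) (.leaf 0)) (.node (.leaf 0x1ec43200000029a219a126200e360494d207672443340a113262) (.leaf 0)))))) (.node (.node (.node (.node (.node (.leaf 0xfce5398000101330430042f08b405d80145155052936a7d9113) (.leaf 0x23173e2400012fd513c03eb20ee184f5eb1d73fb76c09f1497bd)) (.node (.leaf 0x4b79151c000114c62be12ad41c8685320b7211b969e7fc28f70a)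 (.leaf 0))) (.node (.node (.leaf 0x45cd064800000a7603ea1e7e1a9505b0944bd5ce06d3da518428) (.leaf 0x4fd82bce00014a98324e26401e5485144d7282a437003b5be15f)) (.node (.leaf 0x1c2731c7000020bf444f3c110cc204f4cd2392f222434a18b180) (.leaf 0)))) (.node (.node (.node (.leaf 0x21983c04000105b311ee11ed0eb18515bb3291045d81ea2cb180) (.leaf 0x2042b961fee00013a4118b01a4d125184d3247a55f82452e47bd586)) (.node (.leaf 0xaec3e6500001a873ce93ce806d50595f019857656943b32d214) (.leaf 0))) (.node (.node (.leaf 0x76d355300010f751f4029e8066705b52623328e2047837345fc) (.leaf 0)) (.node (.leaf 0x25d45203000027c344b54a4310558497d714e35d02463c7bd586) (.leaf 0))))) (.node (.node (.node (.node (.leaf 0x50a73d610001036a0b360b351e7204f5db0793cc0f12f9335025) (.leaf 0xb335090000034b32aa647db06e38477ba04011d44840d2cb5be)) (.node (.leaf 0x267c214f0001179638932603106685934f7ba0b327855c15f518) (.leaf 0))) (.node (.node (.leaf 0x1d8949e600010ced03fd24640cf105371232314f2cc2032957bd) (.leaf 0)) (.node (.leaf 0x8f846b5000124284781160206978516c22102cd0336f853718b)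 (.leaf 0)))) (.node (.node (.node (.leaf 0x30101c550000080e1836186914228412c32320c304c4da3352cb) (.leaf 0x402717c7000040ff53484dd818a204f2522de6cc3f20a9546214)) (.node (.leaf 0x32b8148b00011d8e40cb271714728511ff54b59c2dc23f62155a) (.leaf 0))) (.node (.node (.leaf 0xba40ce3000112192f29129206f30491392dd32825143d2cb5be) (.leaf 0)) (.node (.leaf 0x16d7535600012ba525fc3d630ad584f7f74090a352c4d670a2cb) (.leaf 0))))))) (.node (.node (.node (.node (.node (.node (.leaf 0x450f182a000000a90223025e1a8105f2595a476e66d47a156428) (.leaf 0x4097262e00012ec011dc1fc718b184f3c36a862d00b7b7586149)) (.node (.leaf 0x3e1733ed0000141a238c0102186184f5006b06a351a47c5866de) (.leaf 0))) (.node (.node (.leaf 0xf7e0e1b000109dc02fa1d0608a685d15c51f7ed6062d87b2734) (.leaf 0x1b7c47d9000047884a7815220ca78596dc2a14fb5042832cb049)) (.node (.leaf 0x2efa08c300001ff13780438212d78550d518975906c30470a12d) (.leaf 0)))) (.node (.node (.node (.leaf 0x3660cf60001051f1046104504a704d13a23c5081f50b073470b) (.leaf 0x215f3940000138d638ee51100ea485f5790281b74712f070b15f))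 (.node (.leaf 0x222d4a15000119c63be13be00ec205b7172636c35c42262ab41d) (.leaf 0))) (.node (.node (.leaf 0xbb62bb400000ecd26bd288b06f384d44c2ba3ee6e540d7865be) (.leaf 0)) (.node (.leaf 0x175326c7000126da49901fb10ae48473d24474b83a94b17d924d) (.leaf 0))))) (.node (.node (.node (.node (.leaf 0x1c8520f8000002db097e001c0cd104b34359827f5b00cc32d124) (.leaf 0xae9175a0000336f28ee3dc306d505324559a3b66ca3cb32d734)) (.node (.leaf 0xf834667000116e1377f377e08b10476bb41b3d6233314124149) (.leaf 0))) (.node (.node (.leaf 0x60d32b300000c5009cf2303064405b4e532401e1964765be68a) (.leaf 0)) (.node (.leaf 0x3d811954000123450c6d46af1851043276336412289047156786) (.leaf 0)))) (.node (.node (.node (.leaf 0x39593eba0000077916cf16ce16868535f649e0c168271328f428) (.leaf 0x49243b5100013f2640b12cad1c430495a617c69771005d55a7d9)) (.node (.leaf 0x34c71e5f00001ccf33bc242d14d404f2fb7371346a40392ab113) (.leaf 0))) (.node (.node (.leaf 0x19d225480000116d2de02ddf0c568453ad53610428b4a324d41d) (.leaf 0)) (.node (.leaf 0x30e54e2300002a9844520e7a143704b77b3233763d420329570b)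 (.leaf 0)))))) (.node (.node (.node (.node (.node (.leaf 0x20ac4fde000101be05f905c40e920597a76a649b1c71775fc70a) (.leaf 0x36900964000030f839574f3616328410e425569229050a3352cb)) (.node (.leaf 0x451745b00001156d353f28a31a8184f6a500415a771581156428) (.leaf 0))) (.node (.node (.leaf 0x137f521300000b17200206cc0a6785f7d80ef2e909178d2625fc) (.leaf 0x70f06c700004e29482853f9066405f0a125e66653225033324d)) (.node (.leaf 0x1a1f43d70000219b3955441f0c8185f67625867850d58055a70a) (.leaf 0)))) (.node (.node (.node (.leaf 0x15f227ed00010649138d138c0ab68453f076f51546e5a77b2734) (.leaf 0x449c25eb00013bc61ac352741a718593be65879b0fe7ae58655a)) (.node (.leaf 0x66b230800001b400d452bd006470573773f63f117e2a7537333) (.leaf 0))) (.node (.node (.leaf 0x3a6400ec0001101b2b472b4616c70490157323f116262f428333) (.leaf 0)) (.node (.leaf 0x17141426000128b310552af40ae18491f84073ea4a72f341d6de) (.leaf 0))))) (.node (.node (.node (.node (.leaf 0xc7a5190000103fb0ce6012f08278557cd02a42516a5bc180333) (.leaf 0x36373c8a000035f533a05122162384f5ca5585ea0e1416734621))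 (.node (.leaf 0x1f17135f0001184d181b33a10e4484f1e17ec16c73c0435be15f) (.leaf 0))) (.node (.node (.leaf 0x11003d2200000d8f25cf25ce08e10415d72ac1b838865318055a) (.leaf 0)) (.node (.leaf 0x42532781000025100e541b711a248473e51705fa70065c12d113) (.leaf 0)))) (.node (.node (.node (.leaf 0x4fef24ec000108a602a619fa1e5605f3a66e53013e77d628f41d) (.leaf 0xd0e5018000042e44f79060c086405d7ab4a558309136a7d924d)) (.node (.leaf 0x2340b0d00001e5741b841b7048384910979350f6db4fa6de18b) (.leaf 0))) (.node (.node (.leaf 0x37c411af000012c73067306616540491bb7f35012321b15fc68a) (.leaf 0)) (.node (.leaf 0x3072315800002cad4a6b474314278454c34ab36173d207149621) (.leaf 0)))))))) (.node (.node (.node (.node (.node (.node (.node (.leaf 0xd4e9c352a00010064017101701e3285952253027f57f56e70b124) (.leaf 0x5182366b00002e37336d47e91e9104553a5d61b448366e53770a)) (.node (.leaf 0xd4b1284000013c6324629f708660571d13097e42d05a715f486) (.leaf 0))) (.node (.node (.leaf 0x1658198f000009901c431c420ac585127b7c94126ca61970a786) (.leaf 0x4efe4fa20000464850d0511d1e3585d7a30992f23d8347786180))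 (.node (.leaf 0x160a3a9100001f8c4310430f0ac10555961d14315177612c72cb) (.leaf 0)))) (.node (.node (.node (.leaf 0x1cf353c2000104d70f720f710cd78478052250831446f1428049) (.leaf 0x3cff239e000038301ce550b8183585f3887b33ba0884e2586149)) (.node (.leaf 0x36c64af200011967086c3b52163604d72a0b605f1515c368a2cb) (.leaf 0))) (.node (.node (.leaf 0x19ae335900010e7927db27da0c5505d4f527c0da315227486262) (.leaf 0)) (.node (.leaf 0x47d62d5e0001266d49341df51af484d46d6f65254341e412d28f) (.leaf 0))))) (.node (.node (.node (.node (.leaf 0x34bf180300000294089e089d14d285f25618462d58934a2ab149) (.leaf 0xa9a1779000132d449b04f4c06d28552495327d20535202ab295)) (.node (.leaf 0x25ce2d3c0001168836ef36ee105505d46a62560b07b60a025000) (.leaf 0))) (.node (.node (.leaf 0x1a203c9b00010bfe223b223a0c820415cc56d6782d54045be70a) (.leaf 0)) (.node (.leaf 0x35391373000022d64650258e14e38531e71f307c20c7507345fc) (.leaf 0)))) (.node (.node (.node (.leaf 0x262b17100000072c15fb15fa106205723d01f6d62154f47d9518) (.leaf 0x3166512600003e35299214bd144604d7c620c65102f69528f149))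 (.node (.leaf 0x30e1348100001c701c5a21a4143704351124c5ea7a02d7295621) (.leaf 0))) (.node (.node (.leaf 0x53a7121e000111142d332d321ed304f1c46c729e5e36264287d9) (.leaf 0)) (.node (.leaf 0x1309521800002a1e2a4d4be60a640537d85b65830913b17d924d) (.leaf 0)))))) (.node (.node (.node (.node (.node (.leaf 0x4361326c00000179051605151a470434dd5545b17a012b518621) (.leaf 0x20661a2a000030674f2e4cb50e8604d28b2a51b93e14a328f70a)) (.node (.leaf 0x25c34ef60001151922a234aa10550477934f17084683d5025586) (.leaf 0))) (.node (.node (.leaf 0x1bc1172700000ac616930a580cb404323e3c307f3660756217b2) (.leaf 0x129653df00014c4453eb2eee0a3484d8067c76e232634d7d968a)) (.node (.leaf 0x1a831e1f0000213044b344b20c910472ee7fd1b46c80ff55a70a) (.leaf 0)))) (.node (.node (.node (.leaf 0xeca0ee9000005ff129704c5089505516f52d0cd4c8718025428) (.leaf 0x405023f200003af32131353a18a48413914cd57332617a12d68a)) (.node (.leaf 0x2bc83ced00001ae4337a2e5712550515d25d9312631506025586) (.leaf 0))) (.node (.node (.leaf 0x478d343c00010fc804f42a931af205b5095dd3984c33f4546537)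 (.leaf 0)) (.node (.leaf 0x2c619040001283b43754a9b049604d2711ad1e064369528f32d) (.leaf 0))))) (.node (.node (.node (.node (.leaf 0x2ca41f77000003b40c130c12127204931c3bc5dc75165e7d9156) (.leaf 0x516c3e7500013558460a39371e860595f14483fa4df56024d2c7)) (.node (.leaf 0x10f501e000017f6392b07dc046405f7ab7cb5832644a833524d) (.leaf 0))) (.node (.node (.leaf 0x53313dd000010d3b25121db31ec38435e50301f771f3cb428049) (.leaf 0)) (.node (.leaf 0x260503510001249847d531c2106104b04f15e6d60f25c7124518) (.leaf 0)))) (.node (.node (.node (.leaf 0x20c94a0800000859193119300e950537166df2804d77814862c7) (.leaf 0xd5434fa000041f830664ea1086684951c44c68d51234415f537)) (.node (.leaf 0xb1619f100001df04144414306e284d28805a1b838322170b55a) (.leaf 0))) (.node (.node (.leaf 0xe8d4e41000012702fc80af7089105b77e14e43717163c7bd428) (.leaf 0)) (.node (.leaf 0x17b54eb100002c28209e39770af384b78c0235215995c72625fc) (.leaf 0))))))) (.node (.node (.node (.node (.node (.node (.leaf 0x7824d7c000000ed03480347067404576b5ec3747787fe33528f) (.leaf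 0x53f0516c00012f4f48911b9a1ed58417ca6d97033e91ee32d262)) (.node (.leaf 0x15914b3e0000146a33740b8d0ab184373166003e5641ec262149) (.leaf 0))) (.node (.node (.leaf 0x329e457a00000a28042f1dc4147185d6a03f239859440d2cb486) (.leaf 0x2480415a000048eb354b30f4103204163a6096ee0ce36b049000)) (.node (.leaf 0x14aa1eee0001204c201943e60a930553097a51bc7212e47bd2ab) (.leaf 0)))) (.node (.node (.node (.leaf 0x373c09b50000056a1118111716438590e94af423565781537335) (.leaf 0xe9c0d090001398918312f4d089185913b54122867963c7bd428)) (.node (.leaf 0x126c230d00011a281e6d3a490a270593776523f11622f3180333) (.leaf 0))) (.node (.node (.leaf 0x49d34afc00010f1e293c293b1c5484772a61c1763b50135fc7b2) (.leaf 0)) (.node (.leaf 0x368a02500000275249ee17ba16320550330790a33621a2335786) (.leaf 0))))) (.node (.node (.node (.node (.leaf 0x2d183e3e0001032100e20a5912a28515ec6bb45a3714d9049586) (.leaf 0x1835206400003423492849540c2584b3361f30ea63d750734180)) (.node (.leaf 0x11a280832cc00001738380f196010c10514e664830079e6d870a000) (.leaf 0))) (.node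 (.node (.leaf 0x121c32bc00010c9f03e11a3a0a248594e56bb0f017e32e049113) (.leaf 0)) (.node (.leaf 0x3b1e1198000023af4714471316e185d1ba52c7e4173207149537) (.leaf 0)))) (.node (.node (.node (.leaf 0x3bdb109c000107c11798179716f48571a16346377204b533324d) (.leaf 0xcdf38670001402352f7339c083685f56651f7ed53b2d87b2734)) (.node (.leaf 0x3b9c31e100001d2c4057405616f18594d010f07d3e508a149486) (.leaf 0))) (.node (.node (.leaf 0x4feb4720000011c12e8804f31e560576cb05c0f902369528f180) (.leaf 0)) (.node (.leaf 0x230c232b00012b1f3d2141360ee105937a49629f603202149025) (.leaf 0)))))) (.node (.node (.node (.node (.node (.leaf 0x2d783eb80000020506dc06db12a78515f64686895b30bf124546) (.leaf 0x42ed281c0000319349d741ec1a3505b3f653c45c30e164586149)) (.node (.leaf 0x1bdf518d000015cf246935d90cb485f7cc49a2a40292f070b15f) (.leaf 0))) (.node (.node (.leaf 0x44a90fab00000b6320be20bd1a7205318c5ef68d34f291546486) (.leaf 0xf0025f10001510a365d524e08a10413bf0d265102f55f124149)) (.node (.leaf 0x3d601641000121fc0be4457c18470412290dc5081f504715670b)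 (.leaf 0)))) (.node (.node (.node (.leaf 0x3279098700010693145b0b6614678530e639711d41917d2cb5fc) (.leaf 0x537a405400013c853788468a1ec585562034f31b4536f132d262)) (.node (.leaf 0x11361cea00001ba1177d2b0208e384d2cf63107c41a78d1245fc) (.leaf 0))) (.node (.node (.leaf 0x47a338560000106c2a1e2bec1af30475652d607c7c27b70005be) (.leaf 0)) (.node (.leaf 0x8a1387500012929359949ac06930435674137853e34a655a18b) (.leaf 0))))) (.node (.node (.node (.node (.leaf 0x31294839000004430dc302f914430536e56e416e6c60ba537333) (.leaf 0x3b4829ab000036ac3307515916e405141c56a6ef7ec70d33524d)) (.node (.leaf 0x2f144e81000118b03a413a4012e18497840b55dc0dd6fe41d156) (.leaf 0))) (.node (.node (.leaf 0xefb272a00010ddd267e267d08978573dd52d7982767180252ab) (.leaf 0)) (.node (.leaf 0x281d2cb70000257d17e4471510c185b4602ec6ee37861970a586) (.leaf 0)))) (.node (.node (.node (.leaf 0x4d2f48ee000108f11ab81ab71cc305f6f57de00f5c939032d049) (.leaf 0x46320d85000143fb539551471aa28451503667ff2dd7dc12d734)) (.node (.leaf 0x14d3d031e0000011ebb0f7115d818410472ed1f272b0aa20e518786)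 (.leaf 0))) (.node (.node (.leaf 0x22a46ae000013172a87310804830556c16cb6b35ca0826de18b) (.leaf 0)) (.node (.leaf 0x53583eb900002d244d9715741ec48515f64802a440c58f2ab15f) (.leaf 0)))))))))

/-- part of a table -/
def entries67 : Trie := (.node (.node (.node (.node (.node (.node (.node (.node (.leaf 0x38984571000000220082008116718516a00fa16656321c2cb537) (.leaf 0x402d026700012dac115015c018a205b0354f835329641f12d734)) (.node (.leaf 0x21894b080001137031b431b30eb105372d4020f95da6282cb41d) (.leaf 0))) (.node (.node (.leaf 0x28bb46d0000109401b811b8010d38576c60175562b13d970a546) (.leaf 0x95126c20000453553ab35fd06a68433d225457141c18a68a786)) (.node (.leaf 0x3ca2219000001f1f42a442a3183304535701b5f40e57e2586333) (.leaf 0)))) (.node (.node (.node (.leaf 0x358c23b20001048c0e9d0e9c14f105938b24c2227022d7295486) (.leaf 0x513a504c00003775518951881e828557b04c219c74312a5be2c7)) (.node (.leaf 0x1ea108f40001190e3acc3acb0e350430d90850ea5705b473441d) (.leaf 0))) (.node (.node (.leaf 0x22bb0af600000e2c058127330ed28571082646c35c45202ab41d)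 (.leaf 0)) (.node (.leaf 0xc353182000025f02bed41db082584b4c711c0192961ec262149) (.leaf 0))))) (.node (.node (.node (.node (.leaf 0x135b138e0000024e07c307c20a668571e97bf16659a4987b2486) (.leaf 0x1f9b0ea10000323449f023ec0e5485716906b17619f6b65fc7b2)) (.node (.leaf 0x10d0bd126a700011627073b1a8f06f48433cf53073311056e70b28f) (.leaf 0))) (.node (.node (.leaf 0x2c6b19dd00010bb403df2185126605728551e0f58032d815f156) (.leaf 0)) (.node (.leaf 0x26d63ab60001226945df16e3107584d5982206d63ec30841d156) (.leaf 0)))) (.node (.node (.node (.leaf 0x156c2d2c000006df152c152b0aa60594696bc3b66e03867b2214) (.leaf 0xfe31ed800003d5d2b1b52c108b60473071c535372218e15f734)) (.node (.leaf 0x3bde032e00001c063ed73ed616f485d04c7e552544523433328f) (.leaf 0))) (.node (.node (.leaf 0x322a1714000110c2131f2c8e146205523d10b59c6d96cd6216de) (.leaf 0)) (.node (.leaf 0x389f1489000129a2212f0f3b167185f1ff4b47e4622704786537) (.leaf 0)))))) (.node (.node (.node (.node (.node (.leaf 0x245d44dc0000013404320431102685b68e71030013a29415f586) (.leaf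 0x18cc1d2a00012fd62b7f32750c360592d4549087661497113124)) (.node (.leaf 0x4ea333dc000014c72c302caa1e330474ff5c2083261704786049) (.leaf 0))) (.node (.node (.leaf 0x22da51b700010a76041b1e7f0ed48557cf5323876f32982ab7b2) (.leaf 0x4b0c2df900014a9c48214ab81c8105947856143f39b5385372c7)) (.node (.leaf 0x1455158000120bf1ff6417f046604b7c940b59c5984971136de) (.leaf 0)))) (.node (.node (.node (.leaf 0x4f833919000005b411f011ef1e510475755d631b39a66e537262) (.leaf 0x51b810e100003a42390440c61e928511a90af2b44291b15be2c7)) (.node (.leaf 0x2ad5348200011a873cea3222123684b5112ce5f87ad30b15f000) (.leaf 0))) (.node (.node (.leaf 0x4be5433000000f76161320ff1c9604b6670742b44115cb24d70a) (.leaf 0)) (.node (.leaf 0x817259f000127c34a4403ae068284f3b57ec0c16c00135be428) (.leaf 0))))) (.node (.node (.node (.node (.leaf 0xc243d4f0000036b0b380b3708250495d97f062d18774d124295) (.leaf 0x4d7a40d5000034b450be081e1cc585562e2dc0da3cf58e32d124)) (.node (.leaf 0xd22515d000017973894142808650457c95aa59c6d913241d6de) (.leaf 0))) (.node (.node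 (.leaf 0x3905312000010cee24662465168204b4c008d15a79a4765be32d) (.leaf 0)) (.node (.leaf 0x37fa2af3000124292ea24208165685543e0e96681f37d624d295) (.leaf 0)))) (.node (.node (.node (.leaf 0x520f25800001080e0264186a1ea105f3b410334c02b416214180) (.leaf 0xdd414d00014100532239ec045685b63961b7d224471328f295)) (.node (.leaf 0xa093e8c00001d8f40cc01a206c20535f242c08b0d54502ab149) (.leaf 0))) (.node (.node (.leaf 0x11c801ef0000121a2f2b2f2a08f405102c79966654d30d04924d) (.leaf 0)) (.node (.leaf 0x2af3247200012ba6104a2705123784739c11f2eb0ae5ff41d12d) (.leaf 0))))))) (.node (.node (.node (.node (.node (.node (.leaf 0x53c01b93000100a9002c025f1ed40412b31526b744745018b7b2) (.leaf 0x306a32dd00002ec24e633f2b14270554e76064f256a57d295621)) (.node (.leaf 0x5328363c0001141a211d32d91ec30515356ff3847bf43b4287d9) (.leaf 0))) (.node (.node (.leaf 0x62c32be000009dd1d07062b06450594e57064571752b56de214) (.leaf 0x505324050000478a389147da1e658473932903fb215154149025)) (.node (.leaf 0x1afc462b00011ff10b1028800c968596b02f727d4d27fc28f70a)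 (.leaf 0)))) (.node (.node (.node (.leaf 0xb11259900010520018d104706e28433b55de7e85e77f962155a) (.leaf 0x45d0063a000038db4b194ba11a958410934bd5ce0f879f51832d)) (.node (.leaf 0x3b473890000019c729812d3316e404f5690bb76d0514b533324d) (.leaf 0))) (.node (.node (.leaf 0x2761117300000ece288d288c10a70431b51a56550d70b212412d) (.leaf 0)) (.node (.leaf 0x4d1b07f6000026db477f278a1cc28570bb23d30f0ac3b818b180) (.leaf 0))))) (.node (.node (.node (.node (.leaf 0xd512dbf000102db0980097f08668434737ba3a874955c15f486) (.leaf 0x28f61a70000133703f89504c10d784d2930175567b930470a12d)) (.node (.leaf 0x23a40e9000016e221bf378004838556304bf4ef07441855a18b) (.leaf 0))) (.node (.node (.leaf 0x3686313f00010c5003c72304163204d4c17387f26322f93352cb) (.leaf 0)) (.node (.leaf 0x36d606040000234646b01dab163684d0903550c31030951132cb) (.leaf 0)))) (.node (.node (.node (.leaf 0x1bcf50680001077916d006fb0cb405f7b322b4ca6f66cd70b7b2) (.leaf 0x50191eb600013f2724a553081e618533052bc29f4097502147bd)) (.node (.leaf 0x3551ed000011ccf09c4081604a684b3070082483621a068a786)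 (.leaf 0))) (.node (.node (.leaf 0x38391eb30001116d2de22de1166285330515523736023f62155a) (.leaf 0)) (.node (.leaf 0x3469008800002a994c3802b014c705300b4727dd20946c428333) (.leaf 0)))))) (.node (.node (.node (.node (.node (.leaf 0x30155315000001bf05fb05fa142284b7f34c00a346d70d335786) (.leaf 0x1c054298000030f94f3544070cc104b65747231932c46c428262)) (.node (.leaf 0x1d8f492f0000156e354034e90cf105f6fc70929f6a12071497bd) (.leaf 0))) (.node (.node (.leaf 0x31a5219400010b1720042003145304b3571bf5f4674538537333) (.leaf 0xdcc4d5300004e2a49df4ec008760597681397113932947b2486)) (.node (.leaf 0x130a35510001219b45131cd10a640555260566ef2be6ed04928f) (.leaf 0)))) (.node (.node (.node (.leaf 0x8c916810000064a138f138e069605322f0420cd17337924d32d) (.leaf 0x1c623c5e00013bc851b552750cc70455c47de00f6f448c32d7d9)) (.node (.leaf 0x428612e800011b402ec93dde1a3204d1d845e3b641c58b12d734) (.leaf 0))) (.node (.node (.leaf 0x1aae49240001101c2b492b480c9205d6fc1f92b41696b65be2c7) (.leaf 0)) (.node (.leaf 0x186268a061b000028b44af04aef10710550916311ef51078d124518)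 (.leaf 0))))) (.node (.node (.node (.node (.leaf 0x2d680214000003fc0ce80ce712a705102f1f02eb68555f262546) (.leaf 0x408b356e000135f51707428618b105752771a1480fa7b7586149)) (.node (.leaf 0x35c33a130000184e08ff39b114f404758c1f535672823433328f) (.leaf 0))) (.node (.node (.leaf 0x1966206600010d8f152525d00c4704d3362e84d44b00826de049) (.leaf 0)) (.node (.leaf 0x108700c1000125100d3a409408d104f01001752a5643d970a786) (.leaf 0)))) (.node (.node (.node (.leaf 0x185a2525000008a7122819fb0c268553ab33b087661287113124) (.leaf 0x3d2247c9000142e44f401e2e18430456db48f2a667420e518621)) (.node (.leaf 0x120133f300011e570a6540bd0a240435023bc5f720865e7d9113) (.leaf 0))) (.node (.node (.leaf 0x9972e97000112c706022e7b06b284f4882167fa1034b53332cb) (.leaf 0)) (.node (.leaf 0x43cb101a00002cae1f3a4d511a5505719750d0c327520e156786) (.leaf 0)))))))) (.node (.node (.node (.node (.node (.node (.node (.leaf 0x2d8f32cf000000650173017212b205f4e67f145a3714f4049586) (.leaf 0x50910da500012e382e274e1e1e7184315230e3cc7ab186214025)) (.node (.leaf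 0x252302e6000113c6065d245f10430470422a96552cf6b47bd546) (.leaf 0))) (.node (.node (.leaf 0x49e6498f000109901c451c441c5604d70674b12722f4a328f41d) (.leaf 0x30d22fe20000464c52514b5814368454a72236564d53921132cb)) (.node (.leaf 0x1fcd003100011f8c431243110e5605b0040426dd64071324d180) (.leaf 0)))) (.node (.node (.node (.leaf 0x31444970000104d80f740f73144404970206a0f72551775be68a) (.leaf 0x221830650001383051b042470ec18514b04723190010de428124)) (.node (.leaf 0x302126050000196836483b5314230433c037e05b1e775021470b) (.leaf 0))) (.node (.node (.leaf 0x2edb50ef00000e7a27dc275412d58577c17687577bb30470a000) (.leaf 0)) (.node (.leaf 0x2fd94bcb0000266e4936493512f585373e6945dc4e51ec262518) (.leaf 0))))) (.node (.node (.node (.node (.leaf 0x52702e830001029408a0089f1ea68414851606ae40049768a124) (.leaf 0x38a71f7c000032d54a455015167204f31c6447e806975562155a)) (.node (.leaf 0x3e974fca0001168936f136f0187184f7a65e149506911858655a) (.leaf 0))) (.node (.node (.leaf 0x3098002f00000bff223d223c14328510037806561df3fc333786) (.leaf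 0)) (.node (.leaf 0x46640f78000122d6427546511aa70491874423e46d27c4586333) (.leaf 0)))) (.node (.node (.node (.leaf 0x1dd901390000072d15fd15fc0cf585301b2b314f6a17507347bd) (.leaf 0x1f79225000013e361d371eea0e4785336803a00f3674fa55a049)) (.node (.leaf 0xf15456500011c703f563f5508a184b69f0ad1485e44a2262149) (.leaf 0))) (.node (.node (.leaf 0x147726e8000011152d3406aa0a8784f3d742968b6697180252ab) (.leaf 0)) (.node (.leaf 0x43a4219600012a1e4be72aec1a530493574212a6674178518621) (.leaf 0)))))) (.node (.node (.node (.node (.node (.leaf 0xe2b350f0000017a05180517088305751e7d53175ca60a7bd18b) (.leaf 0x3f85312b00013068364639dc189104b4c05b50cd17c268156428)) (.node (.leaf 0x1eb608f60000151a1b0c34ab0e3584d0d92c91047cc416734180) (.leaf 0))) (.node (.node (.leaf 0x4a5f523a00010ac60f221f3c1c6585f7de4ab2574222b6149025) (.leaf 0x520316a700004c45456a4ed11ea104723229b18374a60021441d)) (.node (.leaf 0xd1725a7000121303d7f44b4086484f3b734e52507074704928f) (.leaf 0)))) (.node (.node (.node (.leaf 0x495407cc000105ff01c012bd1c448490b75756996094765fc7b2)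 (.leaf 0x378b52d500003af450cd19cd16510577ec38545766f3456de214)) (.node (.leaf 0x2ce747a800001ae50ab508f9127604f6d951e0f57d873a15f518) (.leaf 0))) (.node (.node (.leaf 0xc52e6600000fc9292e2a94045604b4833c07b432937924d149) (.leaf 0)) (.node (.leaf 0x23ff47490000283c33a94a9c0ef685f6d15e6257140392113025) (.leaf 0))))) (.node (.node (.node (.node (.leaf 0x45b90ff0000103b40c150c141a938531930b938a2d126851818b) (.leaf 0x365411c40000355923bc2daa16268491bf25457108549768a2cb)) (.node (.leaf 0x302547c6000117f6392d392c142304b6db30e2a60e5186214621) (.leaf 0))) (.node (.node (.leaf 0x215a4c1900000d3c251311ac0ea48557454912a46ea22170b7b2) (.leaf 0)) (.node (.leaf 0x4d8a23bc0000249947d747d61cd205538b6e36dd15e2982ab180) (.leaf 0)))) (.node (.node (.node (.leaf 0x44d44ddd00010859193319321a748497747794b842c17a54624d) (.leaf 0x51a41006000041f92d8741941e920491961da27d3fd4765fc70a)) (.node (.leaf 0x18e0090100011df0414641450c370410dc24c4d46f02d7295049) (.leaf 0))) (.node (.node (.leaf 0x191b49af000112702fca2fc90c4485770c7ec16c3690135be7b2)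 (.leaf 0)) (.node (.leaf 0xf7285c00012c2827eb1ff5045784f3fd4ee4236a42a7537333) (.leaf 0))))))) (.node (.node (.node (.node (.node (.node (.leaf 0x36b92771000100ed034a034916338533e31023ed7e75b421470b) (.leaf 0x4919143d00002f504ea84ea71c418531f972a27f5390ba486262)) (.node (.leaf 0x32ab189e0000146c3376337514720572647b03d00fe22170b55a) (.leaf 0))) (.node (.node (.leaf 0x102c46ac00000a291dc61dc508c30596c16483ed4615c870a621) (.leaf 0x3f1c2cb9000148eb53dd3918188185946035a7d170204715632d)) (.node (.leaf 0x460e2f6a0001204d43e740331aa105d49a57803e0b147c000149) (.leaf 0)))) (.node (.node (.node (.leaf 0x40a04d2a0001056a0ba6111918b20417634f83535c217a12d214) (.leaf 0x201284f3af70000398a1db722ff10c505f59e15b60b8083042c7000)) (.node (.leaf 0x2d7e12a100001a293c623c6112a785d1d40ef19434e78d262546) (.leaf 0))) (.node (.node (.leaf 0x19d8335500000f1f293e293d0c568514f520d2da31571328f180) (.leaf 0)) (.node (.leaf 0x8dd40f50000275349ef3ea0069685b63120d5ce4c871328f428) (.leaf 0))))) (.node (.node (.node (.node (.leaf 0x1acf3547000003220a5b0a5a0c9505f52427c6982b82274862c7)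 (.leaf 0x8734f240000342447d94c8606878477962997482ed22748618b)) (.node (.leaf 0x4afa21f50000173937ff38101c7685536031129f751287113025) (.leaf 0))) (.node (.node (.leaf 0x294d1e2e00000ca00e6823b110e505b2f57ad1ef3fd1ec124518) (.leaf 0)) (.node (.leaf 0x44fd123c000023b04715131e1a7785b1c662a28468413e5865fc) (.leaf 0)))) (.node (.node (.node (.leaf 0x1eb13b6b000107c20d9017990e358435a84d518201b750214180) (.leaf 0x399649510001402544345152169284d70006b1e03db6b65fc32d)) (.node (.leaf 0x27f40b7200011d2c09eb405810b784911415e6f90100bf124546) (.leaf 0))) (.node (.node (.leaf 0xb983957000111c12cd50b1e06f285157a1963d04ee63b70b6de) (.leaf 0)) (.node (.leaf 0x1856221d00012b201b414c7a0c2684d3636c66a93723c7113262) (.leaf 0)))))) (.node (.node (.node (.node (.node (.leaf 0x24131c5c0000020606de06dd10228472c35f21414534f4049586) (.leaf 0x229a2c9900013193203936400ed185545e2f65a20bc020428124)) (.node (.leaf 0x50505269000115cf31ab08281e658417e14e009e64608a2957bd) (.leaf 0))) (.node (.node (.leaf 0x12f81b2b00010b641ad120bf0a378512a94ed3f1557270180335)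 (.leaf 0xa32e640001510b35c246dd04550474833486cc48b0ff55a734)) (.node (.leaf 0x50514434000021fd457e457d1e6584367f32314f26c2032957bd) (.leaf 0)))) (.node (.node (.node (.leaf 0x66f333700000694145d145c064705f4f13835a34893ef537335) (.leaf 0x2d7f00f800003c864bd0445512a785f0163c836559666a262546)) (.node (.leaf 0x665246800011ba13e5d3e5c064704b39b4463e4038538486333) (.leaf 0))) (.node (.node (.leaf 0x2be52b620000106d2bee2bed125704b44608c39f73524b02512d) (.leaf 0)) (.node (.leaf 0x16c1f990001292a4b414737046705931e4f75215e95ae2145fc) (.leaf 0))))) (.node (.node (.node (.node (.leaf 0x402516ec000104430dc50dc418a204b23a6ea0642bb3e612d734) (.leaf 0x9eb2c28000136ac27d1515a06b705745446205b6426ad214621)) (.node (.leaf 0xf8a2c64000018b13a433a4208b10554590ee3d631d4de124149) (.leaf 0))) (.node (.node (.leaf 0x3622b1000000dde23111f1d04a70454410166024846ad734621) (.leaf 0)) (.node (.leaf 0x23df162a0001257e0e21487e0ef585f2245b81cb3ab32a734025) (.leaf 0)))) (.node (.node (.node (.leaf 0x505a2e14000108f21aba1ab91e6585547d1d73fb50526a149025)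 (.leaf 0x20f73682000143fe2d4451e10e9684f53c0e950c4f57d624d2c7)) (.node (.leaf 0x4238364e00011ebc1c42422e1a238515365b01727e713e586333) (.leaf 0))) (.node (.node (.leaf 0x4e41ed200001318310a310904d50493070503533623cb32d734) (.leaf 0)) (.node (.leaf 0x1dee506300012d24163038900cf605d7b31d609e7564e168a7bd) (.leaf 0)))))))))

/-- part of a table -/
def entries68 : Trie := (.node (.node (.node (.node (.node (.node (.node (.node (.leaf 0x27b03dde000100220084008310b38415e57f76bd71f27018012d) (.leaf 0x3186313400012dae39532c60145104d4c138951559e17f55a214)) (.node (.leaf 0x470f258a0001137131b631b51ae205f3b45bb4b354865c12d486) (.leaf 0))) (.node (.node (.leaf 0x2cd83f8b000109411b831b82127585160d39a0f569037b180518) (.leaf 0x48ef2d310001453521b353ac1c3505f46a0400f945425a2cb41d)) (.node (.leaf 0xe9386000001f2042a533d704570535660715f45476be537335) (.leaf 0)))) (.node (.node (.node (.leaf 0x209348da0000048d0e9f0e9e0e918476f43482b45e00ff55a70a) (.leaf 0x24dd054f000037773a693601103685b0777f414169438615f586)) (.node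 (.leaf 0x33480d970000190f359d3acd148605115144876e4ee56024d428) (.leaf 0))) (.node (.node (.leaf 0x1d918d100010e2c27352734047685326c0e51b82dc40a68a55a) (.leaf 0)) (.node (.leaf 0x33c43dca000125f10d9e48d514960495e45993994461ab24d428) (.leaf 0))))) (.node (.node (.node (.node (.leaf 0x25a334c80001024e07c507c410530475194f16bd2613d5025546) (.leaf 0x10dc27ca0000323646e846a408d58593eb54f4cf1c972c2c72cb)) (.node (.leaf 0x3f0a15db000016280e0c2ce4188105521d4700054c311a51832d) (.leaf 0))) (.node (.node (.leaf 0x8c2859144e00010bb52187218610c58531fa76030042414570a000) (.leaf 0)) (.node (.leaf 0x2dd32d5f0001226a45e145e012b684746d76f30c65b5a77b2000) (.leaf 0)))) (.node (.node (.node (.leaf 0x2bc50f35000106df152e152d125504b17c1aa75713d714025000) (.leaf 0x262c045300003d6352c23c6410620590651f80b31813b1049518)) (.node (.leaf 0x3fc01df00011c0609763ed804b785902b6fb5ea4d175073470b) (.leaf 0))) (.node (.node (.leaf 0x29bc5042000010c327af2c8f10f28597b006c6d674330d7d9518) (.leaf 0)) (.node (.leaf 0x47d52204000129a346d74b921af484b36232f6371da02754624d)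 (.leaf 0)))))) (.node (.node (.node (.node (.node (.leaf 0x140840770001013400c604330a810516244c615a6870db7bd428) (.leaf 0x50a31c1b00012fd9127843711e720472be5ec1cb7c97fe3357bd)) (.node (.leaf 0x1002f9a2ea5000114c73414341312f18554893eb6471355ed41d156) (.leaf 0))) (.node (.node (.leaf 0xbc726ee00000a771e811e8006f404f3d764466654c22c62124d) (.leaf 0x19c421be00014a9d32af3ace0c5604935a7c80ea5517fc24d180)) (.node (.leaf 0xea73aeb000120c0112c4450089304f59d4e578524f6b402518b) (.leaf 0)))) (.node (.node (.node (.leaf 0x479e1853000105b411f211f11af285d25e17007e57b0a912d537) (.leaf 0x10092b7100013a434df246e108c10534471d072b49d5c870a2cb)) (.node (.leaf 0x479b31ed00001a8833461fb91af28574d06f607d7021e412d486) (.leaf 0))) (.node (.node (.leaf 0x55740ca00010f7629e90d3b04e484f62c4ac76a50b75562128f) (.leaf 0)) (.node (.leaf 0x96708a3000027c44a464a4506a704f0d34e45b17a06ad214621) (.leaf 0))))) (.node (.node (.node (.node (.leaf 0x490a04b80001036b0b3a0b391c4105506b4a96ae3e866e486262) (.leaf 0x176f193c000134b450b72bc30ae605f27476768d6cb18e15f486))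 (.node (.leaf 0x3fb832990000179833c52eaf18938514e34b279820c3da15618b) (.leaf 0))) (.node (.node (.leaf 0x233d01be00000cef246824670ee285b02978e29f66329c333025) (.leaf 0)) (.node (.leaf 0x484513f30000242a46461f6e1c2404b1f40a71dc06c6b570b15f) (.leaf 0)))) (.node (.node (.node (.leaf 0x23c939420000080f186b08a50ef50535791f32576ac32b734025) (.leaf 0x1397441f0000410526c64ccf0a7484f67c7e663730534d7d928f)) (.node (.leaf 0x1ece310800011d8f40cd19010e3605d4be5070116b028768a124) (.leaf 0))) (.node (.node (.leaf 0x3d7403a00001121a2f2c0a7018478490540c05081db12b156621) (.leaf 0)) (.node (.leaf 0x197069b00b900012ba748fa4cc8065485700e54d6621252fa5fc113) (.leaf 0))))))) (.node (.node (.node (.node (.node (.node (.leaf 0x30b45255000100aa0261026014338497e023337608078373470b) (.leaf 0xf0e11f600012ec23b404b7b08a105d1c22c478f4624de262149)) (.node (.leaf 0x14344eb60000141b32db32da0a8384978c48360759963c7bd18b) (.leaf 0))) (.node (.node (.leaf 0x2a85313b000109dd1d0809a4123204b4c16086fa3cf36b7d9000) (.leaf 0x1fda0ea40000478c4a611c3d0e568551690e934c6167d624d41d))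 (.node (.leaf 0x11f27df00001ff243844383046485f3ec7e55256e323433328f) (.leaf 0)))) (.node (.node (.node (.leaf 0x26af39ba0000052110491048107205f58445137f74136a7d9156) (.leaf 0x1f9054b269b000038dc2d7651de04e40573cd64466657575562128f)) (.node (.leaf 0x9e45020000119c708923be206b70497ad0536024845ae734621) (.leaf 0))) (.node (.node (.leaf 0x1a473c5700010ece288f288e0c8504f5c443e2113683ef48670a) (.leaf 0)) (.node (.leaf 0x3b600396000126db0f472edf16e60410530fc5df44d0c51136de) (.leaf 0))))) (.node (.node (.node (.node (.leaf 0xbc427a1000102dc0982098106f40493e80a71fd1bd23f70b28f) (.leaf 0x517b0c3300013372504d2ca61e8685712828d2f85d90cf24d2c7)) (.node (.leaf 0x120f2a1f000116e2378237810a2405f42a7f11344ac4f4049113) (.leaf 0))) (.node (.node (.leaf 0x409b1c2c00000c5123050ccf18b18572bf6dc3ba4cb7b6586295) (.leaf 0)) (.node (.leaf 0x16a1b9010880001234646b126b20cb184119f2fb34c2d617d786180) (.leaf 0)))) (.node (.node (.node (.leaf 0x3df824e70001077a16d216d118578513a636376669112b156621) (.leaf 0x18f23f1500013f28530a53090c3784560324a0830b8545295049))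 (.node (.leaf 0x3da40a9900001cd03fe33fe218530491004b21a74ba04715670b) (.leaf 0))) (.node (.node (.leaf 0x29af1a9a0000116e2b962de310f205f2976335c67cd4b17d9156) (.leaf 0)) (.node (.leaf 0xf6d269000012a992f3f287208a605b3cd1395155553447b2734) (.leaf 0)))))) (.node (.node (.node (.node (.node (.leaf 0x2c231ac000001c005fd05fc04960454c96e55ce1bb0d828f428) (.leaf 0xd413474000130f913104f71086604351013971160d3447b2537)) (.node (.leaf 0xd7b3fa90001156e35410cc6086785761063107c31c2df1245be) (.leaf 0))) (.node (.node (.leaf 0x2eb0376e00000b182005064612d384154e7a96361c51452c7546) (.leaf 0x17ea0c8e00004e2c4c260bb80af605513075f68d23062315f537)) (.node (.leaf 0x1600e7040c30001219c3dab0b00088784162c0dd68b6695060252ab) (.leaf 0)))) (.node (.node (.node (.leaf 0x4ed622a50001064a139113901e3484d36f2056990d72f062115f) (.leaf 0x50fb03e400003bc94ce152761e7685705835525721e4e11137bd)) (.node (.leaf 0x28ec146e00001b413ddf017710d70591fc67c39e3bc7892c7546) (.leaf 0))) (.node (.node (.leaf 0x101345640000101d2a982b4a08c184769f0a17f21b51cc2c7786)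 (.leaf 0)) (.node (.leaf 0x13c4be7000028b64af24af1046585974146e4b3050073295537) (.leaf 0))))) (.node (.node (.node (.node (.leaf 0x20cf42d8000103fc0cea0ce90e9505f65d5d61b42fe6645372c7) (.leaf 0x4ac04dd8000035f7497c1ff11c750417746650ec15b2032957bd)) (.node (.leaf 0x1f6a1cc20000184f39b339b20e470552cc17329e4f817f55a049) (.leaf 0))) (.node (.node (.leaf 0x4cdc4ab100000d9025d225d11cb48597261dd3877353fc3337b2) (.leaf 0)) (.node (.leaf 0x3f9c390d000125113073198f189185957272375c77b15d156428) (.leaf 0)))) (.node (.node (.node (.leaf 0x7738010359000108a70296137c166104304f66725d4651ea786486) (.leaf 0x3adf15c3000142e71f691f3616d485f21b18c5732bf3b82ab68a)) (.node (.leaf 0x4e5b234000011e5841b91e0c1e2485737d05a1b72ff22170b7b2) (.leaf 0))) (.node (.node (.leaf 0x10f63b8b000012c81ae6306808d784d5ad4227663b41cc70a621) (.leaf 0)) (.node (.leaf 0x4e81415b00002caf4d534d521e3204363a6834d80ce56e70b124) (.leaf 0)))))))) (.node (.node (.node (.node (.node (.node (.node (.leaf 0x36b01567000000660175017416338412124d53ed64c75021470b)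 (.leaf 0x3a86100100002e391d9c11e916d104d1960587252b2626428734)) (.node (.leaf 0xda62ac0000113c732483247087504d43901c13c0e64171806de) (.leaf 0))) (.node (.node (.leaf 0x32991484000109911682153414718531ff2961cf34f283786486) (.leaf 0x39c644e70000464d5180333c169604d68f26b75c1994ea28f32d)) (.node (.leaf 0x1b822d7000001f8d158043130cb104546f0400f965840d2cb180) (.leaf 0)))) (.node (.node (.node (.leaf 0x9620d12000004d90f75003206a704513d29b7661f160021470b) (.leaf 0x258419500000383151b1165110510492761356aa4535067bd586)) (.node (.leaf 0x2f53303000019693b553b54049784b4ed0b779872f5384862ab) (.leaf 0))) (.node (.node (.leaf 0x2d9095b00010e7a27dd089c04968530e35ca5ce4bf7fc28f32d) (.leaf 0)) (.node (.leaf 0x2fb29eb0001266e49384937049785742444e38a4c164f5372ab) (.leaf 0))))) (.node (.node (.node (.node (.leaf 0x14b404160000029508a208a10a938490604c77851005060252ab) (.leaf 0xc4d519a000032d6342e0c82082605b7cd4152d22fb0cb7b2734)) (.node (.leaf 0x429e00210001168a077018fe1a3285d0031700641df0a912d214) (.leaf 0))) (.node (.node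 (.leaf 0x521702b800010bff03ad223e1ea184f03c5583015880b073441d) (.leaf 0)) (.node (.leaf 0x2a7e1140000022d7258a4652122785d1b002c39f59678b180546) (.leaf 0)))) (.node (.node (.node (.leaf 0xce246860000072e15ff15fe08370456bf24514603878b180333) (.leaf 0x45f522e00013e371b8441b504c485f7da7c066257252018b68a)) (.node (.leaf 0x53a0385200011c7109a03f571ed304156519809d76f43b32d7d9) (.leaf 0))) (.node (.node (.leaf 0x31cd2ca2000111152d362d35145405b45f1da5af5974765fc68a) (.leaf 0)) (.node (.leaf 0xea61fac00002a21164426c1089304d31f69e2cd00d77702518b) (.leaf 0)))))) (.node (.node (.node (.node (.node (.leaf 0x93c110001017a051a051904440535bd0e401e52703b5be113) (.leaf 0x51c021d4000030694f2f1a441e9504135c2382b456646455a2c7)) (.node (.leaf 0x3e9a25ed0001151a34ad34ac18718553be6a82377e17b75866de) (.leaf 0))) (.node (.node (.leaf 0x2a804b1500010ac703461f3d123204172f3593305aa69b7d9586) (.leaf 0x822082900014c4648fb36da06830450be46a74825334555a18b)) (.node (.leaf 0x4b844d2f000021313e1344b51c910497637c62b41ed69c53770a) (.leaf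 0)))) (.node (.node (.node (.leaf 0xb061f4d0000060012bf12be06e204d31662b65a19923170b6de) (.leaf 0x49411cb500013af5192e34cf1c440432ca3a90fd4551775be7b2)) (.node (.leaf 0xf9b291500001ae73d6e3d6d08b185740c1a678f4ae38c262295) (.leaf 0))) (.node (.node (.leaf 0x481b081800010fc92a962a951c228570bd4780da8092f0621124) (.leaf 0)) (.node (.leaf 0x21bb0af80000283e283036c10eb28571084ac7030bc755621124) (.leaf 0))))) (.node (.node (.node (.node (.leaf 0x3aaa14c3000003b50c16002516d205520516d35836d0392ab149) (.leaf 0x4ee93ce20000355b2e353a051e350535d22a16dd16f2832cb41d)) (.node (.leaf 0x12219d14318000017f7392f392e0c568436632f72da2247fc28f180) (.leaf 0))) (.node (.node (.leaf 0x4ac408b200010d3c251525141c750490d40aa09e6482d7295025) (.leaf 0)) (.node (.leaf 0x4f694db90001249a36dc3da21e460537713df34c02b7f824d180) (.leaf 0)))) (.node (.node (.node (.leaf 0x6833a220000085a19340463065404758d11042d54b6c55be68a) (.leaf 0x3bdf410c000141f934fc31d816f485f63252b7335142f933328f)) (.node (.leaf 0x39f3220500001df14147124b16978473623481bc1d80ff55a2ab)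 (.leaf 0))) (.node (.node (.leaf 0x2e660692000012712fcc2fcb12c704d09b31e6364a55132c7546) (.leaf 0)) (.node (.leaf 0xc39042100002c2b1ffd4ae908258530610d31485770bf262295) (.leaf 0))))))) (.node (.node (.node (.node (.node (.node (.leaf 0x53aa06a4000000ee034c034b1ed305509c0e73a4553020428049) (.leaf 0x4704470600012f5012304ea91ae20496c93503a82723e6546537)) (.node (.leaf 0xd7d1f980000146e2e4e3377086785b31e47b32863e4352625be) (.leaf 0))) (.node (.node (.leaf 0x4e042600010a291dc81dc7044605d0612d37d25400d828f149) (.leaf 0x2c6c3a71000048ee4edf2a2212660595942e06474f02947b2156)) (.node (.leaf 0x1b3a2d920001204e43e83f240ca285547120519153c2f0621124) (.leaf 0)))) (.node (.node (.node (.leaf 0x3e102f580000056b111b111a186184149951b0d02257c40006de) (.leaf 0x4f3f11690000398b4c8725071e4385f1b33db1f751e17f6de049)) (.node (.leaf 0x305b331e00001a2a3c6330d014268574ee6c67f21b53c7113786) (.leaf 0))) (.node (.node (.leaf 0x38334dcc00010f1f0d8c293f16628477736e149555e6cd70b6de) (.leaf 0)) (.node (.leaf 0x27b5272000027553906064f04878577e31976b34ec71c53718b)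 (.leaf 0))))) (.node (.node (.node (.node (.leaf 0x3e53233e000103220a5c0a2a186484737c71271b7a66b854624d) (.leaf 0x3ccf0cd50001342450834399183405f1383a20f75296b8546113)) (.node (.leaf 0x342117ca0001173a225835a814c204325242c08b70e4502ab149) (.leaf 0))) (.node (.node (.leaf 0x26f087400010ca023b323b2048705f0ce29974851464f4862ab) (.leaf 0)) (.node (.leaf 0x19172061000023b1471747160c4484f3360332a44b00435be15f) (.leaf 0)))) (.node (.node (.node (.leaf 0x53e20b39000007c3179b179a1ed504510d60d31970f174428262) (.leaf 0xacd2b020000402648b9057806d405b4401290f723222618b68a)) (.node (.leaf 0x224e1d4000011d2d18f609360ec405d2d60070fd36729818b7b2) (.leaf 0))) (.node (.node (.leaf 0x15b22bb5000011c22e8a2e890ab384544c4007646fd5bc41d333) (.leaf 0)) (.node (.leaf 0x2f120c1400002b232f8b100312e18451253e93414e9308180156) (.leaf 0)))))) (.node (.node (.node (.node (.node (.leaf 0x450e25860001020606e006df1a8105d3b44be4903857e9156428) (.leaf 0x7d7059c0001319533592301067684f0846c665a1b63c71136de)) (.node (.leaf 0x241e2a99000115d013b735da102285d4344556ee3eb707049000)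 (.leaf 0))) (.node (.node (.leaf 0xf20467f00000b6520c009de08a30416bc7f70b44271d2180333) (.leaf 0x3f3b09c70000511740a4106118838570eb4704ef59911a51818b)) (.node (.leaf 0x11a5268a000121fd457f103b08f304b3ca47b32861b4352625be) (.leaf 0)))) (.node (.node (.node (.leaf 0x4282415c00010694145f145e1a3204563a6f04eb10f80412d214) (.leaf 0x1ac9242c00013c861a3d1f110c950533954fd2410040ba5372c7)) (.node (.leaf 0x1ae73ff000011ba2094d2cbe0c9604f61705c69876269528f2c7) (.leaf 0))) (.node (.node (.leaf 0x169e411f0000106e2bf02bef0ad185d63377f72b49d76170a2cb) (.leaf 0)) (.node (.leaf 0x53062fa40000292c1db928b01ec204d49f2392f20ef34a18b180) (.leaf 0))))) (.node (.node (.node (.node (.leaf 0x29f08e1000004440dc60265049285f0d702e75c4a90435fc32d) (.leaf 0x1c70172d000036ad515b2d660cc784123e6ff38436643b4287d9)) (.node (.leaf 0x3b6313e4000018b23a453a4416e60471f31d679b4af28768a55a) (.leaf 0))) (.node (.node (.leaf 0x3c6e286800010dde2680267f182505d3fe3956510e87e2586149) (.leaf 0)) (.node (.leaf 0x28bd20a90000257f23c209d010d385b33b54f39e31f72c2c7546)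 (.leaf 0)))) (.node (.node (.node (.leaf 0xac2dc8000008f31abc1abb04550594745917ff2dd2406de734) (.leaf 0x34f0248a000144022068288114d784139d68c42312646c32d333)) (.node (.leaf 0x2c493b2b00011ebf4230422f12650535a167261279437b180518) (.leaf 0))) (.node (.node (.leaf 0x152220b000011319061f0dfc0aa304533c0ce5f454e5bc41d333) (.leaf 0)) (.node (.leaf 0x3c7d03b200002d254d784413182585b0551887bc4f713e000149) (.leaf 0)))))))))

/-- part of a table -/
def entries69 : Trie := (.node (.node (.node (.node (.node (.node (.node (.node (.leaf 0x112b3507000000230086008508e305751e4547ac2126772625fc) (.leaf 0x459338a700002daf4a504d161a9184756a3680cd17c7e9156428)) (.node (.leaf 0xfc501980000137231b71a4a08b404b0243b55af5974d904968a) (.leaf 0))) (.node (.node (.leaf 0x12af1b2a000009421b851b840a3505f2a93c845c10666a262295) (.leaf 0x38ce14a7000045363a1053ad167405d20143835606522162124d)) (.node (.leaf 0x116909f000001f2240e001bf08e60530ef0be22245f6e97b2537) (.leaf 0)))) (.node (.node (.node (.leaf 0xd97197d0001048d0ea10ea0087484f2785c076a1d574704928f)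 (.leaf 0xca74683000137783b99518a083504f6bf0ee3d609966a124295)) (.node (.leaf 0x11d43306000019103ace209008f48494ed2b771b7f34d97d924d) (.leaf 0))) (.node (.node (.leaf 0xa80e6a29e000010e2d04662736088705542400e6076a660a7bd18b) (.leaf 0)) (.node (.leaf 0x525a1467000025f248ce08101ea48551fc28114a3bc1a23357b2) (.leaf 0))))) (.node (.node (.node (.node (.leaf 0x3bb62cc80000024f07c707c616f384d4612c97ac58a4167345be) (.leaf 0x18c7083d0000323720a24fe60c3604f0c07e77032245c368a262)) (.node (.leaf 0x4d441bf6000116281650365c1cc40492bc5001dc7fb5742ab15f) (.leaf 0))) (.node (.node (.leaf 0x4e65326f00000bb6218921881e2504b4dd66718346821c78641d) (.leaf 0)) (.node (.leaf 0x494911410001226b0d6745e21c440531b002d0815c005e5be7b2) (.leaf 0)))) (.node (.node (.node (.leaf 0x18302212000006e01530152f0c2584136311430f65d5b473441d) (.leaf 0x364b03b500003d64529e52c3162605705526f4314f739268a2cb)) (.node (.leaf 0x440630b900011c0733243ed91a6104d4b93e23d060d3bd0006de) (.leaf 0))) (.node (.node (.leaf 0x4571016a000110c3282b2c901a878430214d24ef61c12b5182ab)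 (.leaf 0)) (.node (.leaf 0x21fd0db4000029a621934b930eb785b1531754d46572e72cb7d9) (.leaf 0)))))) (.node (.node (.node (.node (.node (.leaf 0x501024c200000135043504341e618413a312229f26c6352147bd) (.leaf 0x382e217300002fdb4c984ee8166205d3542563d00e76cd70b6de)) (.node (.leaf 0x15851f45000014c82a4b34150ab104b3163787b41021ec124149) (.leaf 0))) (.node (.node (.leaf 0x36fc2cab00010a77040d1b24163785945f5695081dd202149621) (.leaf 0x18743bbd00004a9e53be2b110c278495b57750830b808a295049)) (.node (.leaf 0x467b06d4000020c144513db91aa78570a23157a277d147000335) (.leaf 0)))) (.node (.node (.node (.leaf 0x15d40d1d000005b511f411f30ab484913d6bb0f063832e049113) (.leaf 0x122f333c00003a44353c522a0a2505f4f15886510b1314124149)) (.node (.leaf 0x28f30b7100011a8826163ceb10d78471140ca6f949351370a546) (.leaf 0))) (.node (.node (.leaf 0x154951aa00000f7729eb29ea0aa40537ce35955052969b7d9113) (.leaf 0)) (.node (.leaf 0x42ea112a000127c4326c4a471a350551ae6707b45e47e2000149) (.leaf 0))))) (.node (.node (.node (.node (.leaf 0x289e517b0000036c0b3c0b3b10d185d7cb60f6ee0e075b70a000)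 (.leaf 0x2071378f000034b53a1f30920e868435517211b93e17fc28f70a)) (.node (.leaf 0xe2a4b21000017991097330508830557301ce7487c23b07bd18b) (.leaf 0))) (.node (.node (.leaf 0x1ef41f800010cef0f0e2469047705f64636407c0a44c57345fc) (.leaf 0)) (.node (.leaf 0xf2c46a20001242b3b852eae08a30596c10d11725c5270180335) (.leaf 0)))) (.node (.node (.node (.leaf 0x44f4309a0001080f186d186c1a778494b64422844b90265865fc) (.leaf 0x3dbb1a48000141054de15349185385728d3ab1e20767db51870b)) (.node (.leaf 0x30ea2ca300001d901fda40ce143705545f29277c6a254514970b) (.leaf 0))) (.node (.node (.leaf 0x2c890fa70001121b05c52f2d127105318c46862745b5c7124518) (.leaf 0)) (.node (.leaf 0xbed0c8a00012ba83cad38fc06f505b1304cb68d4086282cb537) (.leaf 0))))))) (.node (.node (.node (.node (.node (.node (.leaf 0x4d273859000000ab026302621cc304f56559418551f6f132d049) (.leaf 0x3e940c4600002ec34a0e2eb218718491292c507a6ff0480006de)) (.node (.leaf 0x8628550001141b32dd32dc045404d3fd0bd42d6a40135be113) (.leaf 0))) (.node (.node (.leaf 0x4d1638a0000009de1d091c7a1cc284d56a06512764174c18b41d)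 (.leaf 0x32b0211d0001478c3ff451b714728413497637e806944b62155a)) (.node (.leaf 0x29ee369d00011ff32f27438510f605d53d6ce5037cd30a15f156) (.leaf 0)))) (.node (.node (.node (.leaf 0x3f3317e700010521017c104a18838472541f268b3c020e51818b) (.leaf 0x19e23f1f000038dd3e2751450c570456037fd00f5dd0ff55a7d9)) (.node (.leaf 0x50252e37000019c83be43be31e6204b4805282f40f23fc335025) (.leaf 0))) (.node (.node (.leaf 0x30d5428100000ecf28901def143684b6541602c237e49768a2cb) (.leaf 0)) (.node (.leaf 0x1404536c000026dc499249910a810497fb6bf76e1bf60e7bd32d) (.leaf 0))))) (.node (.node (.node (.node (.leaf 0x2643494a000002dd0984098310650476ff5aa6d621513241d518) (.leaf 0x30c304dc0000337340e9436a143604706d6f541205309568a2cb)) (.node (.leaf 0x1deb3d51000116e3077f37830cf60575da09c2f41e139268a025) (.leaf 0))) (.node (.node (.leaf 0x5374125800010c51230723061ec58491c94bb31970f1ee428262) (.leaf 0)) (.node (.leaf 0x325202290000234716d346b214648450306a47057a664d62124d) (.leaf 0)))) (.node (.node (.node (.leaf 0x528213100000077b16d416d31eb10451db02f127694416214180)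 (.leaf 0x15061bae00003f2a27ef21cb0aa104d2b779e3ba3644de124149)) (.node (.leaf 0x343e2ab700011cd03847362614c285d43840545c10608e18b295) (.leaf 0))) (.node (.node (.leaf 0x15af47340001116f20742de40ab305f6ce15c66c33b77a180333) (.leaf 0)) (.node (.leaf 0x2d3330c000002a9b4c3945b412a38474ba02c39f4f930818012d) (.leaf 0)))))) (.node (.node (.node (.node (.node (.leaf 0x485c03b4000101c005ff05fe1c2485905523a38748856e70b7b2) (.leaf 0x48ca2af4000130fa4bc3208c1c3405543e2bf1dc7fb33870b15f)) (.node (.leaf 0x8d60d1600011570354234e7069684d13d4493993a67d624d32d) (.leaf 0))) (.node (.node (.leaf 0x4bfe41e800010b1820060df31c9685d6455362801ce69524d2c7) (.leaf 0x231288331fc00004e2f5382492110d10474d16b230013a51370a586)) (.node (.leaf 0x42e506f40001219d0bbd30881a3504b0a52b9148517048586149) (.leaf 0)))) (.node (.node (.node (.leaf 0x2dbc1f1a0000064b1393139212b385931155b39f33c27018012d) (.leaf 0x33a7115100003bca52771d1c149304f1b20362ea3e366448618b)) (.node (.leaf 0x1a7a3d5600011b412b203de00c868555da28d2f80b90cf24d2c7) (.leaf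 0))) (.node (.node (.leaf 0x1f4441830001101d2b4c2b4b0e4604963f1002f25c456024d41d) (.leaf 0)) (.node (.leaf 0x2a252608000128b636f31855122304b3c04c975944c5c726212d) (.leaf 0))))) (.node (.node (.node (.node (.leaf 0x304c2349000003fd0cec0ceb142605937d4946926fb18a113786) (.leaf 0x422a18cf000035f845c91c5c1a2305526b74f3f52544e2000333)) (.node (.leaf 0x2ca341720001184f36772670127204763e0d76122ec34d049156) (.leaf 0))) (.node (.node (.leaf 0x235b276e00010d9007c225d30ee58573e25e814f5e00b0734025) (.leaf 0)) (.node (.leaf 0x14850e7d000025131a6a22300a9104b16574375456163c025428) (.leaf 0)))) (.node (.node (.node (.leaf 0x52af12c8000008a819fd19fc1eb305f1d633f29e18d1541497d9) (.leaf 0x17ce4616000142e850bb1b2f0af405d6af2e355d11532204924d)) (.node (.leaf 0x1e2649f300001e5941ba0cc80e2504d7152c118201b32a214180) (.leaf 0))) (.node (.node (.leaf 0x377d2347000112c813a03069164685b37d3253d623356028f149) (.leaf 0)) (.node (.leaf 0x3fc6235300002cb0230f02e5189504d37e1402283837db51832d) (.leaf 0)))))))) (.node (.node (.node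 (.node (.node (.node (.node (.leaf 0x409c40bb000100660177017618b185962b69d7d24027c4000295) (.leaf 0x320445d700012e3c4e1f1d9a14610496a735c2220d41ea2cb486)) (.node (.leaf 0x507b1d64000113c820762f111e668572dc0eb1e6505095113025) (.leaf 0))) (.node (.node (.leaf 0x2757432b000009921c46006c10a684f6656f733411f30a7b2000) (.leaf 0x361a34a40001465643f74c7d162285551428143166f2f93352cb)) (.node (.leaf 0xd3642be00011f8d26b83d30086584d6597653d051a4171806de) (.leaf 0)))) (.node (.node (.node (.leaf 0x42ef0a42000104d90f770f761a3505f0f82243d61fc118000295) (.leaf 0x297328490000383251b2508d10e68473f959f5c64c673a7b2518)) (.node (.leaf 0x425823c200011969260035391a2485138d1445d33a002754668a) (.leaf 0))) (.node (.node (.leaf 0xd652db800000e7c27df27de086704b4733d128e1681ec1245fc) (.leaf 0)) (.node (.leaf 0x3fb03c640000266f49141c1418938415c53638072d314d15618b) (.leaf 0))))) (.node (.node (.node (.node (.leaf 0x962b350001029500b908a3045484d4431155fa4386c55fc68a) (.leaf 0x1cc250532fe000132d614182bf8104104b4ec76933430724b025586))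 (.node (.leaf 0x52d2304a0001168b076036f21eb48454ae52b1b76082503337b2) (.leaf 0))) (.node (.node (.leaf 0x1dc01c7600000c002240223f0cf50412c54a41ca4b77832147bd) (.leaf 0)) (.node (.leaf 0x4dee301e000122d8342146531cd505d4ab74926e4696f1428262) (.leaf 0)))) (.node (.node (.node (.leaf 0x135048610000072f160014e70a668416e810947f51a0cb15f537) (.leaf 0x519a2eac00013e3843de4d5b1e918554895fe2806bf3ef48670a)) (.node (.leaf 0x11f53b8f00001c723f593f5808f684b5ad78c68d28a3c115f537) (.leaf 0))) (.node (.node (.leaf 0x1e983b3c0000111620532d370e348515a46c916c2de29c33515f) (.leaf 0)) (.node (.leaf 0x1405d600012a21277b366c044484908c2766620960e25fc113) (.leaf 0)))))) (.node (.node (.node (.node (.node (.leaf 0x4cdd18460000017b051c051b1cb485b25c33a2a42885433337b2) (.leaf 0x159519f60000306a268730b20ab184b28833908b09b0b2262295)) (.node (.leaf 0x6ee35370000151b31b224aa065705d52349248762b340537333) (.leaf 0))) (.node (.node (.leaf 0x4cf612f500010ac81f3f1f3e1cb684d1d953431927b095113124) (.leaf 0x4f4d03b100014c4c4ef850a91e4405b05508d0817a85b25be15f))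 (.node (.leaf 0x41584994000121313bf744b618e48517092ee76a0c63f412d28f) (.leaf 0)))) (.node (.node (.node (.leaf 0x1ee137b90001060012c112c00e370435542aa3a46760c22957d9) (.leaf 0x1553075200013af6314e0bc90aa48470ac1c25a943036a7d9113)) (.node (.leaf 0x1f3c4cbd00011ae73d6f34ec0e458597566797242826f8537262) (.leaf 0))) (.node (.node (.leaf 0x132c2c7b00000fca2a971bd80a6505945b4ed13c0d427018055a) (.leaf 0)) (.node (.leaf 0x1b918d80001283e2c374a9d047585326c46d398285203149486) (.leaf 0))))) (.node (.node (.node (.node (.leaf 0x52f53f35000103b506890c171eb684b60521726e57f1a068a124) (.leaf 0x3ba547b30001355f3e82503d16f304b6da2930f43c91cd7345be)) (.node (.leaf 0x383a06ec000117f708ae25f816628550a455749559833870b6de) (.leaf 0))) (.node (.node (.leaf 0x4aa90f6a00000d3d093925161c720531846423fb1e94da3357bd) (.leaf 0)) (.node (.leaf 0x3f810c9d0000249b47d838cc189104313172375c5d279f15632d) (.leaf 0)))) (.node (.node (.node (.leaf 0x36982c8b0001085a027b1935163285145d4c00a31d704a3352cb) (.leaf 0x203d01b5000041fa534151d20e8285b0292762a23c40e25fc2c7))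 (.node (.leaf 0xfd74c4c00011df11c11362a08b484f74a5c00f056f74704968a) (.leaf 0))) (.node (.node (.leaf 0x20e1416f0001127117562fcd0e9604363d5a628048f7f824d2c7) (.leaf 0)) (.node (.leaf 0x3bb043cc00012c2d4d0c226b16f38416745172847f532b2145be) (.leaf 0))))))) (.node (.node (.node (.node (.node (.node (.leaf 0x2ff31c8e000100ee034e034d12f68472c675a5ab3962d87b2156) (.leaf 0x530c23bb00002f522f4c45861ec205938b64b1823785b72ab41d)) (.node (.leaf 0x18c4254a0000146f337933780c360493ad5a027f21f1a0113124) (.leaf 0))) (.node (.node (.leaf 0x217d4c1000010a2a03331dc90ea785b74504e69734321c7867d9) (.leaf 0x8820e75000148f450a653de06920451651107546e46c55be428)) (.node (.leaf 0x1ec237b40000204f43ea43e90e3604555419a4d85c44e168a262) (.leaf 0)))) (.node (.node (.node (.leaf 0x532f10410001056b111d111c1ec305f19a07821318d62632d7d9) (.leaf 0xf7c53e10000398c383d1d6608a68598080604577a130b15f214)) (.node (.leaf 0x210c4fd600011a2a3c64031d0ea10597a72bb2f25c421c78641d) (.leaf 0))) (.node (.node (.leaf 0x38602ed500000f2029412940166704148d2bb3ee6a021c7865be)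 (.leaf 0)) (.node (.leaf 0x3f5815060001275626853c0a188585120a3ad15a5fe15d156428) (.leaf 0))))) (.node (.node (.node (.node (.leaf 0x6052437000003230a5e0a5d064404b3963b90f71fe1b15be68a) (.leaf 0x40c42293000034262dfc42e218b404936e35e50123b02712d68a)) (.node (.leaf 0x59d291b0000173b3812381104f285b40c54b59c7c663b6216de) (.leaf 0))) (.node (.node (.leaf 0x4b27147500000ca123b4030d1c8204f1fe2e22f86256c55fc70a) (.leaf 0)) (.node (.leaf 0x50284da4000123b142ac209d1e620517701af09e7684da3357bd) (.leaf 0)))) (.node (.node (.node (.leaf 0x17f7485c000107c3179d179c0af684f6e752e7115f330a7b2537) (.leaf 0x43992c870000402a48db51cf1a5185345d35b0a360115d5182cb)) (.node (.leaf 0xb5242c000001d2e4059337f06e484565b0285253a922c70b24d) (.leaf 0))) (.node (.node (.leaf 0x37e515be000011c32e8c2e8b165604b21a7c87bc37e56024d149) (.leaf 0)) (.node (.leaf 0x33e820d800012b234c7b46ba149705133f5917985222b56de18b) (.leaf 0)))))) (.node (.node (.node (.node (.node (.leaf 0x3e4019a0000020706e206e104b70490244ae7661f175021470b) (.leaf 0x50d308b9000031964fa9246e1e758470d441c01251009f2957bd))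 (.node (.leaf 0x13490e06000015d13207186b0a6605315b31f77236055c7b2486) (.leaf 0))) (.node (.node (.leaf 0x2210f700010b6520c11ad704450451aa3a63b30674186de734) (.leaf 0x346617410000511950c221ea14c704d24410117232605932d333)) (.node (.leaf 0x1dfa3d32000021fe45800b3a0cf68555d80eb1e6421095113025) (.leaf 0)))) (.node (.node (.node (.leaf 0xd05265b0000069514611460086404b3c66096ef59336b04928f) (.leaf 0x20d2dcf499d00003c873575495312b605f70976775746918e15f586)) (.node (.leaf 0x53bc1f1c00001ba33a4b1e521ed385931159800f31f0cc32d7d9) (.leaf 0))) (.node (.node (.leaf 0xca938640000106f2bf1275d083505356647b35853b435262295) (.leaf 0)) (.node (.leaf 0x3bed06450001292c0fec486e16f605b09440b59c1bf4971136de) (.leaf 0))))) (.node (.node (.node (.node (.leaf 0x1e18225f000104440dc80dc70e248513687801b75ba4da33315f) (.leaf 0x1e925034ad4000036af49034db8104104772822e6ee62c7777bd586)) (.node (.leaf 0x21e42b2a000118b23a4617bd0eb70494424cb29e4f81ea2cb049) (.leaf 0))) (.node (.node (.leaf 0x49c1482f00000ddf268226811c540436e472014b62405e5fc7b2)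 (.leaf 0)) (.node (.leaf 0x2057416d000125802207487f0e8584f63d4fc2f879d3ef48670a) (.leaf 0)))) (.node (.node (.node (.leaf 0x502745d2000008f41abe1abd1e6204f6a70bb1ca77f1233337bd) (.leaf 0x429725b600004405534348c31a3284f3b937a06473f1be12d214)) (.node (.leaf 0x1694259c00001ec03ef842310ad18493b57a905f2336192c7786) (.leaf 0))) (.node (.node (.leaf 0x2bca371c0000131a310b041c125505554864a30c16360a7bd000) (.leaf 0)) (.node (.leaf 0x220a4a1b00012d254a0637260ec10557175637032c505932d124) (.leaf 0)))))))))

/-- part of a table -/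
def entries70 : Trie := (.node (.node (.node (.node (.node (.node (.node (.node (.leaf 0x693c19000100230088008704470535bd39c48762b69c537333) (.leaf 0x31c1261400002db04b7548e414540433c22c35500020e25fc113)) (.node (.leaf 0x3d5946960001137231b931b818458536c03ad05f08815d1562cb) (.leaf 0))) (.node (.node (.leaf 0x7b4f901feb0001094202c70e061e518413244fd5a20310ba537262) (.leaf 0x2262b91250800014538473a2e1e12518433a94df45a27b60e025586)) (.node (.leaf 0x152256111c700011f223736323d10470431bf4e90c419d60e02512d) (.leaf 0)))) (.node (.node (.node (.leaf 0x2fe93be80000048e0ea30ea212f60535b93326124e56e97b2518) (.leaf 0x4a8419250000377a366b4f011c710492732bc29f7511cd214025)) (.node (.leaf 0x437923cb00011910084c25c41a4785338d5a837621615d518621) (.leaf 0))) (.node (.node (.leaf 0x300311be00010e2e0de3273714220471bd7cb7f210d123335786) (.leaf 0)) (.node (.leaf 0x24db371b000125f348d6153610368575485c96aa4c94987b2586) (.leaf 0))))) (.node (.node (.node (.node (.leaf 0x40fa36cd0001024f07c800dd18b78555406a84871fe7b7586335)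 (.leaf 0x321d05b5000132371de94fe7146185b08624439859879c2cb537)) (.node (.leaf 0x25b01543000016290f49365d105384120f1356f90df5067bd12d) (.leaf 0))) (.node (.node (.leaf 0x17801f4e00010bb60394218a0af104131662c3ea1b027041d55a) (.leaf 0)) (.node (.leaf 0x30c2382b0000226c2cee3472143604556164c57108528768a2cb) (.leaf 0)))) (.node (.node (.node (.leaf 0x682b9a084d000006e11531063b12518550c67273513e83b07bd000) (.leaf 0x212218c4a1600013d6452c43a4c0eb10597172a16dd2c52e72cb180)) (.node (.leaf 0x3b7e12a400001c083edb3eda16e685d1d419359c20061311355a) (.leaf 0))) (.node (.node (.leaf 0x3e58118b000110c52c922c9118648511b665773316d79012d28f) (.leaf 0)) (.node (.leaf 0x149f411b000129a7138811870a9185f6335bd2281ae7777bd32d) (.leaf 0)))))) (.node (.node (.node (.node (.node (.leaf 0x1432509a00000136043600cf0a838457ba5664ef7c860a02518b) (.leaf 0x52a1385800012fdb2efd1c881eb304356548509d75a0732957d9)) (.node (.leaf 0x3bfc37e3000014c93417341616f685955821713c1c12ad68a55a) (.leaf 0))) (.node (.node (.leaf 0x35b8329d00000a781e831e8214f38514e36fb7ac26b32b7345be)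 (.leaf 0x249201f500004aa0513829d6103284502d4556ee307322049586)) (.node (.leaf 0x46b522f2000120c2232344521ab284b3750b83b34443f4546734) (.leaf 0)))) (.node (.node (.node (.leaf 0x12d1f9c000005b611f611f5046505b31e66f07d0d42d7149486) (.leaf 0x4f80415200013a44407d42ee1e5104163a1c14d87af6be486124)) (.node (.leaf 0x326e282200001a893cec3766146705d3f720b3ee7377047865be) (.leaf 0))) (.node (.node (.leaf 0x43c406f200010f7704d922291a550490a51e172b4a414d518786) (.leaf 0)) (.node (.leaf 0x4f2647c2000127c54a494a481e4304d6db0a838476f4cc55a7d9) (.leaf 0))))) (.node (.node (.node (.node (.leaf 0x39551ef30001036c00f70b3d168684b30e1f67d16865cb28f32d) (.leaf 0x2df12740000034b6470b50bf12b78433e0023365455435262546)) (.node (.leaf 0x1e84e500000179a26d43895047705177f0933280867832145fc) (.leaf 0))) (.node (.node (.leaf 0x155b10cf00000cf0246b246a0aa48571a67e65ac1af3227d9113) (.leaf 0)) (.node (.leaf 0x95202d00000242c22da1bd006a684504119352a6b15c31132cb) (.leaf 0)))) (.node (.node (.node (.leaf 0x12e3294000000810186f186e0a3704741102c0b436c308180335)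 (.leaf 0xdf30f5a0000410a34aa05a508778471816417ac29d66a2625fc)) (.node (.leaf 0xf1e106d00011d900f9140cf08a185d19d7ce3ce2a3677124295) (.leaf 0))) (.node (.node (.leaf 0x3ccc072e0000121c2f2f2f2e18340590a86ea42d5973e612d68a) (.leaf 0)) (.node (.leaf 0x3ddd101b00002ba939d51347185585b19753f52a5e412b1562cb) (.leaf 0))))))) (.node (.node (.node (.node (.node (.node (.leaf 0x296f3c43000100ab0265026410e605f5c20a63276392f115f156) (.leaf 0x533b218700012ec34d07175b1ec385735559418559d58e32d7d9)) (.node (.leaf 0x237031d50000141c32df32de0ee68414ce0e52f41f240a68a7bd) (.leaf 0))) (.node (.node (.leaf 0x3caf1d13000009df1d0a0dc6183305f2d31333e40eb3bd586335) (.leaf 0x24f3444c0000478f4e3e367d10378476816c26555d741741d546)) (.node (.leaf 0x3c1d2b5500001ff443874386182285b4453434eb6b11a412d214) (.leaf 0)))) (.node (.node (.node (.leaf 0xd59501c000005220dd4104b08668537ab5cd25d2f629415f486) (.leaf 0x263a16d7000138dd32a424d4106285523934e0b3181747049518)) (.node (.leaf 0x3bae12cb000119c82d8a215816f305d1d643603d0e90b02145fc) (.leaf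 0))) (.node (.node (.leaf 0x21123e2900010ecf15601a2e0ea18455eb2b278826040d2cb180) (.leaf 0)) (.node (.leaf 0x3457284c000026dd203445cb14c484f3f97926e23263b818b68a) (.leaf 0))))) (.node (.node (.node (.node (.leaf 0x2213aef000102dd01d90985048304359d71e4ef1b342055a2ab) (.leaf 0x1b1548c500013373254328050ca184b6f339712710a17d2cb180)) (.node (.leaf 0xda2dcf000116e41cee378404568554747ea3ba2dd0cf24d295) (.leaf 0))) (.node (.node (.leaf 0x21a03cc00010c522309230804828550566d50051f412a5be32d) (.leaf 0)) (.node (.leaf 0x92108250001234746b3067906a30430be362766427265149621) (.leaf 0)))) (.node (.node (.node (.leaf 0x47ff04eb0001077b16d616d51af585f06e65d0d044e7b70006de) (.leaf 0x1fa13b6400013f2a530b2d960e550435a80ed31913333e486124)) (.node (.leaf 0x5072494200001cd217de3fe41e668456ff1931e62155c3113025) (.leaf 0))) (.node (.node (.leaf 0x24342671000011702de62de510238493c90d31e342e0bf262546) (.leaf 0)) (.node (.leaf 0x4bcd0ae200012a9b13224c3a1c9505b1060546981ed2b56de70a) (.leaf 0)))))) (.node (.node (.node (.node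 (.node (.leaf 0x130e06c3000001c1060106000a6405d0a10d76664194f404924d) (.leaf 0x1399086c000030fb4f724a4c0a748530ca5d776a0a436b04928f)) (.node (.leaf 0x4b83db0000015713544354304d38515e30d448709c62f32d333) (.leaf 0))) (.node (.node (.leaf 0x438a478200000b191f0907d41a510556d52cc05f4d320e156786) (.leaf 0x7f92eba00004e3b46ce1a25067785348a6507ef06532b2145be)) (.node (.leaf 0xfec51160000219e4514071a08b60597c54f92d24963447b2734) (.leaf 0)))) (.node (.node (.node (.leaf 0x4bd203480001064b139513941c9584504e5956984114636de70a) (.leaf 0x519f18a100013bcb52783dcf1e9185f2661b049b42971c4862c7)) (.node (.leaf 0x9420d2800001b423de23de106a604513f6f541246e09568a2cb) (.leaf 0))) (.node (.node (.leaf 0x5e201880001101e05122b4d04f50450232b216623840d2cb486) (.leaf 0)) (.node (.leaf 0x19e10907000028b72e7832fc0c570430dc4084d44b04a66de049) (.leaf 0))))) (.node (.node (.node (.node (.leaf 0x1b0a2242000103fd0ced06d40ca105536722a18221f25a78641d) (.leaf 0x54e0be3000035f9512332f004e405d11f1a976d7ec64d62124d)) (.node (.leaf 0x3e8d297e00001850183439b4187105b41951b0d047216400055a)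 (.leaf 0))) (.node (.node (.leaf 0x4e54eab00000d9125d525d404d504b78a5850644d30de32d734) (.leaf 0)) (.node (.leaf 0x2efe0d93000025143a6f452812d785d1511de68934e51370a546) (.leaf 0)))) (.node (.node (.node (.leaf 0x2fd631b7000108a819fe096a12f584d4cb3e761272966a124518) (.leaf 0x2b6209d9000042ea439813ac12470450ed56668928860a02512d)) (.node (.leaf 0x448b297800011e5941bb261b1a7105741915307a7321470006de) (.leaf 0))) (.node (.node (.leaf 0x1c94e5a000012c9306b306a047605377f47565a5944971136de) (.leaf 0)) (.node (.leaf 0x1c50186500012cb03f380f3d0cc48412604802a46f058f2ab15f) (.leaf 0)))))))) (.node (.node (.node (.node (.node (.node (.node (.leaf 0x9875360000000670179017806b204f7fb0790a31512f93352cb) (.leaf 0x475f0fcd00012e3d119a4cbb1ae485f18f72d76a0c60a912d28f)) (.node (.leaf 0xccd0dd6000013c9324a3249083605b15733c6cc2dd3c17b2734) (.leaf 0))) (.node (.node (.leaf 0x14420e6d000109921c481c470a850451635fb2ef41360a02532d) (.leaf 0x2f8a2dfe000146584567350f12f10554787c562739b5ff180156)) (.node (.leaf 0x8e342c100011f8e3f8d4314069704765b0462cd3a93ef5372ab)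 (.leaf 0)))) (.node (.node (.node (.leaf 0x4f233b59000104da0c910f781e430475a646a3a460c34555a049) (.leaf 0x39cf150f000138343f1f51b3169605f20a7f575c43e7d628f32d)) (.node (.leaf 0x472834210000196a1ead3b561ae305150710a25f28d7b55865be) (.leaf 0))) (.node (.node (.leaf 0x312f533100010e7c27e02750144305f7f516b0b454264f486333) (.leaf 0)) (.node (.leaf 0x3a5b06dd0001266f49393d4416c48570a27926e237561818b113) (.leaf 0))))) (.node (.node (.node (.node (.leaf 0x481903d10000029608a508a41c228530571960872207f970b262) (.leaf 0x4b2a3027000032d73fea44471c820554ac5222a23962fa5fc2c7)) (.node (.leaf 0xe6533050000168c360336f3088704b4ed2464ef7f363c02518b) (.leaf 0))) (.node (.node (.leaf 0x3e7c3a7a00010c002242224118678595946160f45db4010005be) (.leaf 0)) (.node (.leaf 0x29121a3000122d93fde465404928433591bd43716b1775be32d) (.leaf 0)))) (.node (.node (.node (.leaf 0x25a8298d0001072f16021601105305141a5021e37bf24b7bd12d) (.leaf 0x217054743ab00003e3947990dbf04e404f67254776d45822c62124d)) (.node (.leaf 0x2b7c234800011c723f5b3f5a124785937d3fd63616563c7bd12d)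 (.leaf 0))) (.node (.node (.leaf 0x4a960da6000111162d3804031c7184d15249d3fb15b4c52147bd) (.leaf 0)) (.node (.leaf 0x5240069700002a224be84b6b1ea404109b4844ca44724e3357b2) (.leaf 0)))))) (.node (.node (.node (.node (.node (.leaf 0x235a4c710001017b0067051d0ee585574f0d509e0dc600734025) (.leaf 0x1bb284622000000306b4f304e2410c504d3621e960b3e92d92c7000)) (.node (.leaf 0x429304a60001151b34af34ae1a3284706a3667ff2aa7dc12d734) (.leaf 0))) (.node (.node (.leaf 0x244d238a00000ac91f411f40102605b3855676aa4c93c17b2586) (.leaf 0x20be306000014c4f53e64de40e9285d4b002e1b42fe0435fc2c7)) (.node (.leaf 0x9853ccb0001213242fa44b706b204b5d06a572b12270d333786) (.leaf 0)))) (.node (.node (.node (.leaf 0x33721fd20000060112c312c214878453231383174ec08255a18b) (.leaf 0x5a84a6000003af93e4a525404f305171f00a2e90e91ea7865fc)) (.node (.leaf 0x13928c820d600001ae83c77314310d505133f4f03343dd6d82c7000) (.leaf 0))) (.node (.node (.leaf 0x4fa3273600010fca2a7a2a981e530473df38d4fb5534636de049) (.leaf 0)) (.node (.leaf 0x4b4e4bc90000283f4a9f4a9e1c8505d73e5d219c52d17f6de70a)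 (.leaf 0))))) (.node (.node (.node (.node (.leaf 0x2ace24e0000003b60c190c18123605d3a60df6fa37118e15f586) (.leaf 0x2d9c2cba000135602fd813b912b28594603bf45a7ad30d049000)) (.node (.leaf 0x29ac2f0c000017f83930228010f205949160932748136b049518) (.leaf 0))) (.node (.node (.leaf 0x35330e3000010d3d2518251714e384716002f11d5194162145be) (.leaf 0)) (.node (.leaf 0x4d5f1ace0001249b45e41fb71cc485f29b7c01b724952018b15f) (.leaf 0)))) (.node (.node (.node (.leaf 0x469422f80000085b193719361ab184937563d62d39d7c4586295) (.leaf 0x4ce90fc7000141fc502c51491cb605318f549087469218113262)) (.node (.leaf 0x50890fa100001df30b9041481e7105318c08569a1d1186734025) (.leaf 0))) (.node (.node (.leaf 0x35827b8000012722fb12fce04a68513e95c57fa1a140a68a2cb) (.leaf 0)) (.node (.leaf 0x1c2320f000002c2e384a4d0d0cc204734300759b2b908e18b41d) (.leaf 0))))))) (.node (.node (.node (.node (.node (.node (.leaf 0x429138d8000000ef0350034f1a3284356d5042d218f291546214) (.leaf 0x3be71c0b00012f5213a9315516f604f2bd4ad07a27c13768a55a)) (.node (.leaf 0x51081a9d00001470337b337a1e8105129768121172710e48670a)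 (.leaf 0))) (.node (.node (.leaf 0x4f58286400000a2b0a0d1dca1e448513fe1d81760565b25fc15f) (.leaf 0x3aec0468000148f6509153dd16d70590662d016e1500de32d335)) (.node (.leaf 0x518e14ef00002050405b43eb1e9105d2086c02b41576645372c7) (.leaf 0)))) (.node (.node (.node (.leaf 0x5a00812b3e0001056c111f111e04540434435685af2084045fc113) (.leaf 0x36d2482b0000398e51f60f9c16368456e44e30a331d613113786)) (.node (.leaf 0x227c4c7600001a2b3c663c650ec785974f4bb4d43430cc4287d9) (.leaf 0))) (.node (.node (.leaf 0x15a520bf00010f20294212e00ab304b33c78a7a25e527041d335) (.leaf 0)) (.node (.leaf 0x39371598000027583eb140d3168384f2174fc74858a3ef4862ab) (.leaf 0))))) (.node (.node (.node (.node (.leaf 0xd690a0f000003240a600a5f08670530f17ad2843be4351245be) (.leaf 0x105007ad00013426508443ff08c58410b56e87fa24a11170a2cb)) (.node (.leaf 0x1de11c790001173c381311d70cf60432c55491ca3684971137bd) (.leaf 0))) (.node (.node (.leaf 0x354d109d00010ca10d7023b514e405b1a16e666672f04a33328f) (.leaf 0)) (.node (.leaf 0x321133e6000023b23a68093414618435002dd77220143d2cb486)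 (.leaf 0)))) (.node (.node (.node (.leaf 0x10912d47000107c4179f179e08d184346b4f00065f66d82c7786) (.leaf 0x4d9741310001402a4cbc532d1cd284f6380911830980392ab180)) (.node (.leaf 0x4d15113800001d2f405a2ef11cc284b1af4b96dd0d25742ab180) (.leaf 0))) (.node (.node (.leaf 0x21b23e54000111c322fc2e8d0eb28455ef126703260221621124) (.leaf 0)) (.node (.leaf 0x4a3f004900002b24431e4c7c1c6285f00752b3d30172f9333025) (.leaf 0)))))) (.node (.node (.node (.node (.node (.leaf 0x3c7846940001020706e406e318258516c02823d61fc7c4000295) (.leaf 0x6735248000031984cea4faa06478477df44d7a277d71c486335)) (.node (.leaf 0x2ba02b80000115d1335e2b2f125304144808c39f51f72e025546) (.leaf 0))) (.node (.node (.leaf 0x225140a000010b6620c320c20ec484362a04f14a67658f2ab15f) (.leaf 0x400914e00001512639c34e6f18a10532080bc08b5f113e000149)) (.node (.leaf 0x38713793000121fe228f4581166784355239d5e258417d7865fc) (.leaf 0)))) (.node (.node (.node (.leaf 0x4cbd20af00000696146314621cb385b33b7ca38433c265149049) (.leaf 0x14da40fc00013c873e674af00a958556317275ce17c2e47bd428))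 (.node (.leaf 0x2e9f38ef00011ba43e5e21fc12d185f56f77f75745476170a586) (.leaf 0))) (.node (.node (.leaf 0x491743f50001106f2bf32bf21c4184f67a3f626e7f6227537262) (.leaf 0)) (.node (.leaf 0x34828880001292e4b42284304a605140040b0a36014971132cb) (.leaf 0))))) (.node (.node (.node (.node (.leaf 0x2d732352000004450c7a0dc912a784737e0e32eb7fb2df26212d) (.leaf 0x7531df2000136b04fc9368d06668472ec19359c5985c31136de)) (.node (.leaf 0x21d13b99000018b43a4731970eb48435b02521b76766b570b15f) (.leaf 0))) (.node (.node (.leaf 0x1d37487400010ddf044d26830ce284f6ea38b69a5a44a8333025) (.leaf 0)) (.node (.leaf 0x53c73d08000125822aa43df61ed404f5d53be1dc7b92982ab7b2) (.leaf 0)))) (.node (.node (.node (.leaf 0x3bac06a1000108f41abf05ff16f305909c0530f420d6357345be) (.leaf 0x353743c900004407258f321814e384f6744623280456ad2145fc)) (.node (.leaf 0x4c674a9700001ec1423216cb1ca604f7222c031b4aa61368a124) (.leaf 0))) (.node (.node (.leaf 0x8992bfe0001131a310c2c78069285345172875420003b5be32d) (.leaf 0)) (.node (.leaf 0x2b1643fb00002d2625634804124184d67a6393307f6777025586)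 (.leaf 0)))))))))

/-- part of a table -/
def entries71 : Trie := (.node (.node (.node (.node (.node (.node (.node (.node (.leaf 0x4cf34f9200000024008a00891cb68477a11e77247965c3113262) (.leaf 0x44294da900002db148e23ba61a620537704a025d3ff17a546486)) (.node (.leaf 0x2aa4404900011373064131ba123304961f5ad2357f474d12412d) (.leaf 0))) (.node (.node (.leaf 0x306d436f000009431b871b86142705b66d7a1602776202149621) (.leaf 0x34244e38000045394058535c14c204977d3a36510626ba2ab295)) (.node (.leaf 0x51b622f600001f2342a742a61e9284d37554d6985fb2fa5fc2c7) (.leaf 0)))) (.node (.node (.node (.leaf 0x4714fc16090001048e0ea50ea40a978592204df8074c160e0252ab) (.leaf 0x13410b940000377c32561d9e0a660431162e073900c2947b2486)) (.node (.leaf 0x15c4bee000119113ad03acf046685974161a7a42d018a68a55a) (.leaf 0))) (.node (.node (.leaf 0x419126dc00000e2f0b8c273818f28433d465777277179012d486) (.leaf 0)) (.node (.leaf 0xe5d2798000025f448d70247088585b3e74112ef6d317902532d) (.leaf 0))))) (.node (.node (.node (.node (.leaf 0x42b3154e0000025007ca07c91a3384720f71614640b118000333)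 (.leaf 0x47cd40db000132383be038bd1af405b62e5ef6ef01841f54628f)) (.node (.leaf 0x513f2ba80001162934be365e1e8285f44a3526787a56c55be70a) (.leaf 0))) (.node (.node (.leaf 0x25f90a4d00000bb7218c218b10578530f87df1e34595067bd12d) (.leaf 0)) (.node (.leaf 0x504a214d0000226d45e3458c1e6505534f7531e6278154295025) (.leaf 0)))) (.node (.node (.node (.leaf 0x339036a0000106e1105f1532149284153e08f0cd7a34045be32d) (.leaf 0x4a99050500013d68312549ce1c7185307031d0ec1e96357347bd)) (.node (.leaf 0x1be838fa00011c083edc223d0cb705157027e2b0108283786049) (.leaf 0))) (.node (.node (.leaf 0x60e2a1a000010c6267f2c93064405d42a67d1342050135fc113) (.leaf 0)) (.node (.leaf 0x3edf2cef000129a84b944082187485f46571271b0a41e454628f) (.leaf 0)))))) (.node (.node (.node (.node (.node (.leaf 0x1f00802e6b0001013604380437045404148367a13412603b5fc113) (.leaf 0x4a62006500012fdc1b0522de1c6604500919a3807014e168a7bd)) (.node (.leaf 0x1bfa4a34000114c9341934180cb785571a1284fb5043472cb049) (.leaf 0))) (.node (.node (.leaf 0x46751a8400010a781494184a1aa784b29621f487252026586335)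 (.leaf 0x4564437100004aa242d8087a1a8704966f0d968b2c33da51818b)) (.node (.leaf 0x3db42f9f000020c431094453185384949e7237661b279f15670b) (.leaf 0)))) (.node (.node (.node (.leaf 0x3a3d40b2000105b711f811f716c285b62b1fb7bc35c2262ab149) (.leaf 0x2815495d00003a45442e095910c184b70064830013a5c870a586)) (.node (.leaf 0x28b13dd100001a8a3cee3ced10d38435e50846bd0df3022c712d) (.leaf 0))) (.node (.node (.leaf 0x3665315900000f780dc429ec162704b4c34d377c53e26714970b) (.leaf 0)) (.node (.leaf 0x24a434c6000127c634bf4a4a103304951947b6bd2cf435262546) (.leaf 0))))) (.node (.node (.node (.node (.leaf 0x4cca1af90000036d0b3f0b3e1cb40552a33a06b706c12333315f) (.leaf 0x1ad72a89000134b650c150c00c9584f4334ee2417622275372c7)) (.node (.leaf 0x51c93be70001179b1a4711611e950535b92292b442956255a2c7) (.leaf 0))) (.node (.node (.leaf 0xa1519f000000cf1246d246c06c284b28804f0192b34502ab149) (.leaf 0)) (.node (.leaf 0x48ec0f150001242c225a47821c3505917327e30f1a579c786180) (.leaf 0)))) (.node (.node (.node (.leaf 0x379834410001081018711870165185150b0543b342f2b56de214)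 (.leaf 0x373833c10001410a281a50b216438514fe06d4873c50ba537333)) (.node (.leaf 0x44044e0c00001d912d2340d01a6104977863d5df59a02658655a) (.leaf 0))) (.node (.node (.leaf 0x10181dba0001121c2f30173608c18512e36480a30885c870a2cb) (.leaf 0)) (.node (.leaf 0x351c2cb000012baa146f4cc914e18594600213a85f50c2295537) (.leaf 0))))))) (.node (.node (.node (.node (.node (.node (.leaf 0x3c9d2c0c000000ac02670266183285b4526577ed28679012d214) (.leaf 0x4ace163800012ec411f14e641c7505d22552c2f445b2071497bd)) (.node (.leaf 0x32ea099b0001141c067e1a0314770550e75f103d3a37042cb5be) (.leaf 0))) (.node (.node (.leaf 0x341522fa000109df1d0c1d0b14c184b37567f01d39d46c428214) (.leaf 0x4d642f4100014797511f3f7b1cc50494961904d8796236428262)) (.node (.leaf 0x2e0431f900011ff40c7437fa12c10494d147345a1a56d870a000) (.leaf 0)))) (.node (.node (.node (.leaf 0x532b2047ce00010522104d104c12430416db6bf1940f60db7bd546) (.leaf 0x29da3e78000038df1c2b084710f58555f14540b34df314262518)) (.node (.leaf 0x4310b0a000019c93be533f504c384310967f5f419a0de428335)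 (.leaf 0))) (.node (.node (.leaf 0x22621a2100000ed0289228910ec704528b07821319f02032d049) (.leaf 0)) (.node (.leaf 0x94427e4000126dd308d499306a60493f03134cf58c0c51132cb) (.leaf 0))))) (.node (.node (.node (.node (.leaf 0x3db917a7000002de09870986185385324f4b21a70b63da156621) (.leaf 0x42ff0eca00003375489e304b1a3585f16b57803e72647c000149)) (.node (.leaf 0x356f2225000016e53786378514e605f3640e11b819709568a55a) (.leaf 0))) (.node (.node (.leaf 0x299f180f00000c540708230a10f185f2567f65037cd5bc41d156) (.leaf 0)) (.node (.leaf 0x301613020000234931a52310142284d1da2167fa24a4b53332cb) (.leaf 0)))) (.node (.node (.node (.leaf 0x2cc0349b0000077c16d70b52127504151257f6477d837b41d518) (.leaf 0x24a7219b00013f2e4d640826103304f35763122d76f2df12412d)) (.node (.leaf 0x37bf17ab00001cd33a093fe5165385f24f6714250b671c486335) (.leaf 0))) (.node (.node (.leaf 0x510b03f2000111702baf2de71e8105705a1ae19c48171c5372c7) (.leaf 0)) (.node (.leaf 0x21b748d100002a9d4c3b0fc30eb284f6f403526e52422c621262) (.leaf 0)))))) (.node (.node (.node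 (.node (.node (.leaf 0x48371535000001c2060306021c2384f20d2f53a40a640d7867d9) (.leaf 0x3db51547000130fb25d43c13185384b20f33677c08004715670b)) (.node (.leaf 0x208d4a1e00011572354635450e9105b71779a2411c705d55a70a) (.leaf 0))) (.node (.node (.leaf 0x5395357c00010b1920071d491ed284b52863e10413a5b718b41d) (.leaf 0x2323d0705f700004e3d529753fa184104f08f4700a31fa11a5182cb)) (.node (.leaf 0x1e2021ce0000219f350b212e0e2504135b74e59b1335ae734180) (.leaf 0)))) (.node (.node (.node (.leaf 0x39cb2f810000064c13971396169605749d05c2286e46d028f428) (.leaf 0x1dd419ce00003bcd4e5329120cf58492825d51e67151cd734025)) (.node (.leaf 0x4eed371600011b4221b73de31e3505b5483971274c917d2cb180) (.leaf 0))) (.node (.node (.leaf 0xae830020000101f2b4f2b4e06d50514aa0d47ed5310de32d734) (.leaf 0)) (.node (.leaf 0x23681629000028b82961487d0ee60512245a01e64d740a1137bd) (.leaf 0))))) (.node (.node (.node (.node (.leaf 0x3603b88000003fe0cef0cee04a70415ad30e2a625e63521470b) (.leaf 0x30642950000135f950a81ede1427049413044602642265149621)) (.node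 (.leaf 0x4d332cc20001185039b525581cc384746107821313902032d049) (.leaf 0))) (.node (.node (.leaf 0x38e5062700010d9225d725d6167704b09240203d2636282cb5be) (.leaf 0)) (.node (.leaf 0x1af8271e00012514477048270c968513dc25149b1697f828f2c7) (.leaf 0)))) (.node (.node (.node (.leaf 0x42e9239c000008a9180819ff1a3505338866101923c7b5586295) (.leaf 0x20a5489a000142ea1f6a37f60e9204b6ec67a49b0dc03b5fc70a)) (.node (.leaf 0x46cb367000001e5b383941bc1ab405753b02942d54b1e412d68a) (.leaf 0))) (.node (.node (.leaf 0x3724136b000012ca306d306c16430491e56543f54616f8486333) (.leaf 0)) (.node (.leaf 0x36e7520d00012cb13b204d54163704f7d762036156f26a14970b) (.leaf 0)))))))) (.node (.node (.node (.node (.node (.node (.node (.leaf 0x1eb046ca00010067017b017a0e358416c46501833dc783214180) (.leaf 0x27af342a00012e3f3cf743cc10b305f5074aa5566305ed18012d)) (.node (.leaf 0x7221df9000013ca324c324b06650452ec59e1cf59826a295537) (.leaf 0))) (.node (.node (.leaf 0x4b1f10e5000009931c4a1c491c8185f1a93881b969e66e53770a) (.leaf 0x34f0be90001465c3af04e5404a605f11f53524829209568a2cb))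 (.node (.leaf 0x4463022d00001f9043150e091a670470307167ef7a61180005fc) (.leaf 0)))) (.node (.node (.node (.leaf 0x1881254c000004db0f7a0f790c340433ad6424ca72d5433357b2) (.leaf 0x59c03cb0000383541d3300004f28590565de7e81f46b56216de)) (.node (.leaf 0x3ae320150001196a3b583b5716d70473293a566c784174428335) (.leaf 0))) (.node (.node (.leaf 0x3843233600000e7d27e227e1166404737c22b1fd31c75570b28f) (.leaf 0)) (.node (.leaf 0x1d1121e4000126700dd8493a0ce184335e2aa2a04be2d7295025) (.leaf 0))))) (.node (.node (.node (.node (.leaf 0x3b022faa0001029608a708a616e104549f63225d4c8545295537) (.leaf 0x42e32fe4000132d95016254b1a350474a72d67b44d57b7000149)) (.node (.leaf 0x289326d10000168d36f425bc10d18473d40ca6aa4c951370a586) (.leaf 0))) (.node (.node (.leaf 0x10615e000000c0122442243046404d21e0795835841a233524d) (.leaf 0)) (.node (.leaf 0x16ad43b3000022da450b1f080ad305b67321536167472c2c7621) (.leaf 0)))) (.node (.node (.node (.leaf 0x187b252700000730160416030c278573ab42f14c6ec545149049) (.leaf 0x2cd33ad900003e3d3b68066e127584759a4005dc1d05bc41d156))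 (.node (.leaf 0x44ac297c00011c733f5d3f5c1a720594193503a80303e6546537) (.leaf 0))) (.node (.node (.leaf 0x4eeb0542000011172d39109e1e350570770b10ea6941c8786180) (.leaf 0)) (.node (.leaf 0x360632f700002a2329ca2929162204d4ec3a065633f123333786) (.leaf 0)))))) (.node (.node (.node (.node (.node (.leaf 0x1e913380000017c051f051e04770531de4ae1072397502145fc) (.leaf 0x261829330000306d1f5e3244106185140f0ad5c61c34a2262156)) (.node (.leaf 0x3980131c0000151c34b0131816920411db6a65ce1381775fc32d) (.leaf 0))) (.node (.node (.leaf 0xe093cf700010ac91f431f4208810535d424600505563c025428) (.leaf 0x5352426b00004c59471853951ec484565077012046b29818b7b2)) (.node (.leaf 0x3c0a0b870000213544b8437418220551152de6cc4857dc546734) (.leaf 0)))) (.node (.node (.node (.leaf 0x15472e020001060112c4044e0aa404f47b13b01e26d4b1049113) (.leaf 0x52644f9700013afd50f652551ea60497a15490870b5497113124)) (.node (.leaf 0x25a279a00011ae82a8c3bd904868553e74822ef79a7d624d32d) (.leaf 0))) (.node (.node (.leaf 0x4fd004d000000fcb2a9a2a991e5484106d0183872e35b25be15f)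 (.leaf 0)) (.node (.leaf 0x29c03c50000284011b2420a04928590562ed0cd39c5b25be428) (.leaf 0))))) (.node (.node (.node (.node (.leaf 0x149b448f000103b60c1b0c1a0a918576857a54371712e47bd428) (.leaf 0x22a70d6900003561235426420ed204f1443be0ea5705202ab41d)) (.node (.leaf 0x3f700736000117f807e5393118878410aa35a50f02e0471562ab) (.leaf 0))) (.node (.node (.leaf 0x12c8167700010d3e251a25190a3605122e3324eb5406e97b2734) (.leaf 0)) (.node (.leaf 0x4d3a1f1d0000249c47a13ccf1cc385531162221333c17432d049) (.leaf 0)))) (.node (.node (.node (.leaf 0x10b93dbb0000085c1939193808d38535e34675b15cf5c82c7621) (.leaf 0x4bf00f7c000141fd401153631c9684118761b27d4c471328f2c7)) (.node (.leaf 0x47b4376900011df30a3b18a41af384954e65828e04213e5865fc) (.leaf 0))) (.node (.node (.leaf 0x4e673a410001127205e322111e2504f5910a26c37957042cb180) (.leaf 0)) (.node (.leaf 0x1412db500012c2e20dc4d0e04660434731215bf2012ad11355a) (.leaf 0))))))) (.node (.node (.node (.node (.node (.node (.leaf 0x172899119f000100ef0313035110d18531ba70133416f1452c7000)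 (.leaf 0x37c7191100002f534eaa338b165404f2720bd42d2590135be113)) (.node (.leaf 0x928473f00011471337d337c06a30516ce7d0766355073149621) (.leaf 0))) (.node (.node (.leaf 0x1dae492c00010a2b1dcc1dcb0cf205d6fc56f29f2cc1a23337bd) (.leaf 0x3e762ed0000048fb53904728186784d48d0012e91841185865fc)) (.node (.leaf 0x2cb514ba00002051280c43ec127284b20461e6122ec4d9049156) (.leaf 0)))) (.node (.node (.node (.leaf 0x285c3f030000056d1121112010c58596011d035d6525c870a586) (.leaf 0x1b9448720001398e3f8e10440cb18496ea2961832b928378641d)) (.node (.leaf 0x26e41cfd00011a2b39f12b8810760492d073b5c647355c7b2518) (.leaf 0))) (.node (.node (.leaf 0x510110a700010f21294429431e810431a34a72115bd69c48670a) (.leaf 0)) (.node (.leaf 0x40cb0c3c000127582a3d099118b405712871d0f71fe80454668a) (.leaf 0))))) (.node (.node (.node (.node (.leaf 0x31231361000103240a620a6114430471e52997dd4ba227486335) (.leaf 0x376c03bc000134273ef333f1164605905561f78f1b57f824d295)) (.node (.leaf 0x15fe534c0000173d381538140ab685d7f65e33b342f73a7b2214) (.leaf 0))) (.node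 (.node (.leaf 0x3cd33ea600000ca223b723b618348475f53205a96421be546113) (.leaf 0)) (.node (.leaf 0x17324eb2000023b3166e47180ae384578c0ef2e94484de2625be) (.leaf 0)))) (.node (.node (.node (.leaf 0x6f320c0a62000007c517a0148514610590fb1751667742832cb486) (.leaf 0x785059d0000402b2188532e067404b0846e666629d04a33328f)) (.node (.leaf 0x3b6e23e900011d2f405c405b16e605d38f6f57a44fc3c768a6de) (.leaf 0))) (.node (.node (.leaf 0x2a890de8000011c42e8e0166123205315846b3302a84d97d9586) (.leaf 0)) (.node (.leaf 0x3b240bf500012b2410b5363b16e30491215d54797217837345fc) (.leaf 0)))))) (.node (.node (.node (.node (.node (.leaf 0x132a44f70000020806e606e50a650556903dd65a68c78b41d55a) (.leaf 0x3c8f2c5e0001319820e83bc9183205f45873c6cc29a1be546214)) (.node (.leaf 0x353517e2000015d20e6f35db14e384b25409b2e961f32b7345be) (.leaf 0))) (.node (.node (.leaf 0x369b2c0900000b6720c41946163285745238b72b2867fe333786) (.leaf 0x44df34d50001512b536d539a1a7485f51a36670508680412d28f)) (.node (.leaf 0x50d01022000121ff458215b81e7584119804469a7ab265149025)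 (.leaf 0)))) (.node (.node (.node (.leaf 0x4f671a1500000697146514641e4604f28a20c2da0ef69528f180) (.leaf 0x30725ff00013c891a3e528304a204f3bf7387f229b2f93352cb)) (.node (.leaf 0xcd6468b00011ba53e5f1046083684d6bf5c97ed0994987b2734) (.leaf 0))) (.node (.node (.leaf 0x32871f7b000010702bf52bf4147104f31c5f12223f77042cb537) (.leaf 0)) (.node (.leaf 0x2b7b02750001292f1aeb446512478570364742eb7fb35f02512d) (.leaf 0))))) (.node (.node (.node (.node (.leaf 0x1ac51867000104450dcb0dca0c9504b2605821b46c410e53770a) (.leaf 0x50462daf000036b1515c37f51e6504d4727c114f26c2072957bd)) (.node (.leaf 0x4adf4c3a000118b41f3536371c7585f74959e1e652604b2957bd) (.leaf 0))) (.node (.node (.leaf 0x446b0aa800000de026840c7e1a670571013e25217eb3bd0005fc) (.leaf 0)) (.node (.leaf 0x4ee73ea20000258437243e371e3504f5f519230180125a78641d) (.leaf 0)))) (.node (.node (.node (.leaf 0x4331871000008f51ac0056904c384726106976412139032d333) (.leaf 0x466a18b80001440741d818131aa70552694033f17d37e2000333)) (.node (.leaf 0x5653b8c00011ec12f8f3be404e504b5ad47707e77b2832cb486)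 (.leaf 0))) (.node (.node (.leaf 0x2ed122010001131b310e310d12d58433622155f86af3022c7586) (.leaf 0)) (.node (.leaf 0x338c412700012d26110e4a2314920596342c322803a0e25fc428) (.leaf 0)))))))))

/-- part of a table -/
def entries72 : Trie := (.node (.node (.node (.node (.node (.node (.node (.node (.leaf 0xb7026b100010024008c008b06e58413d11877e413879c786537) (.leaf 0x366715af00002db34dd813fa162704f2197531a71ba207295621)) (.node (.leaf 0x3f994f860000137431bc31bb18918537a03637540a812b15632d) (.leaf 0))) (.node (.node (.leaf 0x2b11877000009441b891b88049384326123838a0684fa55a18b) (.leaf 0x9af12210001453b25d953ae06b305f1c518f6025342b614970b)) (.node (.leaf 0x3971d5c00011f2517fd2b2304b284f2db5295715b81a2335786) (.leaf 0)))) (.node (.node (.node (.leaf 0x9e507510000048f0ea70ea606b704b0ac08574456a186734621) (.leaf 0x353d36220000377d518b505214e385b5341c05e23576357345be)) (.node (.leaf 0x2f6a36ce000019123ad1212612e60555406c15dc0dd2d815f156) (.leaf 0))) (.node (.node (.leaf 0x2e783bdb00010e2f273a273912c78515b851039f59678970a546)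 (.leaf 0)) (.node (.leaf 0x17fb22cc000025f630dc35970af685737163022279a18e7b2486) (.leaf 0))))) (.node (.node (.node (.node (.leaf 0x34992baf0001025007cc07cb14d185344a7747ed53b23632d734) (.leaf 0x87a0148000032394fe82d73068785501c4fc74872866448618b)) (.node (.leaf 0x3874fe60000162a3592365f04b204f7a83a0656436123333786) (.leaf 0))) (.node (.node (.leaf 0x203e3c0500010bb7199d1a640e8285d5bb45819c6ac6c55be70a) (.leaf 0)) (.node (.leaf 0x17af12270001226d45e545e40af305f1c53c85e244966a2625fc) (.leaf 0)))) (.node (.node (.node (.leaf 0x1d29334d000006e2153415330ce20534f363869a0043fc333025) (.leaf 0x1acb3d5d00013d6a388121270c950575da5fe2804d23ef48670a)) (.node (.leaf 0x3cdf41c700011c091dfc3edd183485f6434f35d33a058b54668a) (.leaf 0))) (.node (.node (.leaf 0x36855104000110c62c941822163204b7c31f1248605543333786) (.leaf 0)) (.node (.leaf 0xc673187000129a94b952a0a082704f4c74697a244a78b41d333) (.leaf 0)))))) (.node (.node (.node (.node (.node (.leaf 0x52d52fc300000137043900481eb484b4a413114a46b5433357b2) (.leaf 0xcd435d000002fdd18a34ee9083684952f06045780030b15f214))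 (.node (.leaf 0x52812090000014ca341b341a1eb104333a09b30f7da32b73441d) (.leaf 0))) (.node (.node (.leaf 0x9023cc200000a791e851e8406a20455d02c86564f72f93332cb) (.leaf 0xac7280500014aa2487c52a206d404f3f33be5af3b42982ab113)) (.node (.leaf 0x3a3f166c000120c44455445416c285f22b7c03d62ba52018b295) (.leaf 0)))) (.node (.node (.node (.leaf 0x5814034000005b811f910f404f204361e15079b6c06b56216de) (.leaf 0xb0c3a9000003a462245078106e205959615079b39c7f962155a)) (.node (.leaf 0x517e27f700011a8a3cef3b021e8685d3f224f43f7a56d024d70a) (.leaf 0))) (.node (.node (.leaf 0x1580536400010f78104c29ed0ab10417fb13a3ce1d474d124295) (.leaf 0)) (.node (.leaf 0x139e3f9f000127c80e71057c0a7485d60f7b96370866ed7d928f) (.leaf 0))))) (.node (.node (.node (.node (.leaf 0x1d5c3da40001036d0b4001710ce58595e11c01cb4d26357347bd) (.leaf 0x3963f55000034b9508550c204b284d60821d4125f6250335786)) (.node (.leaf 0x4c044b6b0001179c108038961ca10497365172f211c32b21441d) (.leaf 0))) (.node (.node (.leaf 0x18c3090b00010cf1246e065e0c360470dc64c19175d28768a124)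 (.leaf 0)) (.node (.leaf 0x1fbf48b90000242d478447830e5585f6f267127f6dc71c486262) (.leaf 0)))) (.node (.node (.node (.leaf 0x20d23b9600010811187318720e958455b01b049b1c72a748670a) (.leaf 0x40d30e8f0001410b4844368118b48471676fc6e217e6b8546113)) (.node (.leaf 0x11fe266b00001d9240d240d108f685d3c859f73968e5a77b2486) (.leaf 0))) (.node (.node (.leaf 0x38041ad20000121d2f310e94166104929d2961cf57c79c786537) (.leaf 0)) (.node (.leaf 0x270b19b000002bab1f6302ca10a205728101f6aa2714f47d9586) (.leaf 0))))))) (.node (.node (.node (.node (.node (.node (.leaf 0x2e1426d7000100ac0269026812c18493d45103300d378970a000) (.leaf 0x113037a400002ec64e650ba708e38415531191072d34a22625fc)) (.node (.leaf 0x938351d0000141d32e02da906a385151f6e01a70b6265295621) (.leaf 0))) (.node (.node (.leaf 0xa194118000009e01d0e1d0d06c28536334807b44e458f2ab295) (.leaf 0x52db3e060000479a263c53cb1eb48575e838b1b769f4a83337b2)) (.node (.leaf 0x2118306100001ff53ff643880ea18514b01870ea6dc28378641d) (.leaf 0)))) (.node (.node (.node (.leaf 0x18e2431d00000523104f104e0c3704566352c0895ef2b61497d9)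 (.leaf 0x3a9c41d1000038e350d6269f16d185964405035336e3cb32d734)) (.node (.leaf 0x3bf7304b000019ca3be62d8c16f684f4ae5420d06c04e11136de) (.leaf 0))) (.node (.node (.leaf 0x2ceb21fb00010ed02893155d12760573606c15dc7602d815f156) (.leaf 0)) (.node (.leaf 0x25e622ac000126de48814994105704d36f69e0c419d71802512d) (.leaf 0))))) (.node (.node (.node (.node (.leaf 0x3a322273000102de00ce098816c284536c40545c39129818b149) (.leaf 0x1d125040784000033762ea70e4110410490af24670878a63c025586)) (.node (.leaf 0x1b690ca0000116e5378721ad0ca70531330fa4d464917d2cb049) (.leaf 0))) (.node (.node (.leaf 0x39742e8000010c54230c230b168784948503a3174ec4fa55a18b) (.leaf 0)) (.node (.leaf 0x520935950001234925e52c591ea105352b31d6c307b5ae734180) (.leaf 0)))) (.node (.node (.node (.leaf 0x8b3041d0001077c023516d8069384706077178535758055a2ab) (.leaf 0xeb137ad00003f314395288d08938435537df1bc2d37147bd18b)) (.node (.leaf 0x17cd4d3900001cd41d4f3fe60af405b76535935672869b7d928f) (.leaf 0))) (.node (.node (.leaf 0x4dbf3ded000011712de92de81cd385f5e660d3a430958e4287d9)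 (.leaf 0)) (.node (.leaf 0x3ac93be400002a9e2697114216d40535b915201e05a57418b113) (.leaf 0)))))) (.node (.node (.node (.node (.node (.leaf 0x2f0e4801000101c20605060412e105d6e10ce5ab5fd41741d518) (.leaf 0x39f62f4e000130fd13114f73169784d49668e2cd0514cc55a18b)) (.node (.leaf 0x38f608b60001157329b21d70167784d0d422a5213541c87865be) (.leaf 0))) (.node (.node (.leaf 0x2148474300000b1a200920080ea40516d136c14b3317f96217b2) (.leaf 0x17f52e0c00004e3e308748670af684b47b5c17e423855c15f486)) (.node (.leaf 0x448d061d0001219f451645151a7105b0916615bf67f0485866de) (.leaf 0)))) (.node (.node (.node (.leaf 0x21dc1f320001064c139913980eb48593151962a46ea7f970b7b2) (.leaf 0x3b71322200013bd05090520116e68434d50e51b838840a68a55a)) (.node (.leaf 0x3ed0397700001b433de4198a187484157c2ee76a0073f412d28f) (.leaf 0))) (.node (.node (.leaf 0x2ad14e290001101f06d22b50123684377b5533307aa29415f586) (.leaf 0)) (.node (.leaf 0x38e33ab5000128b84af3080c167704759821b5e242c7047865be) (.leaf 0))))) (.node (.node (.node (.node (.leaf 0x3c6c2341000103fe0cf0020b182505937d0bc08b2937b5000295)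 (.leaf 0x48263ac0000035fa1bbd3aca1c2304d5990660890f625a786049)) (.node (.leaf 0x489325b90000185139b739b61c328473b949a4d83d722c70b262) (.leaf 0))) (.node (.node (.leaf 0x7205d400000d9325d80428044784508c0f85f41a3664537333) (.leaf 0)) (.node (.leaf 0x486f23ca000125150d3c48281c2505f38d4b4183371704786180) (.leaf 0)))) (.node (.node (.node (.leaf 0x229e3064000108a91a011a000ed185d4b04651916dc174428262) (.leaf 0x402e43000042f038224c07044604148110066870e56024d149)) (.node (.leaf 0xbe3089b00001e5c41be41bd06f50470d25c21cf591704786537) (.leaf 0))) (.node (.node (.leaf 0x46a9336d000112ca306e126d1ab20534f65eb45754041f546734) (.leaf 0)) (.node (.leaf 0x26fe2ce100002cb2128a24a2107685d4651eb6d61d15a77b2156) (.leaf 0)))))))) (.node (.node (.node (.node (.node (.node (.node (.leaf 0x53e3073300000068017d017c1ed50470aa2254104ed6f1428262) (.leaf 0x65d35b800002e404e202a7d064685b52d49e45c4775cb28f149)) (.node (.leaf 0x2aab1b07000113ca324d16a212330572a53d82eb7ba38c26212d) (.leaf 0))) (.node (.node (.leaf 0x474202f5000109931c4c1c4b1ae40450444b03742760a912d28f)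 (.leaf 0x431343f70000465d2d7c2e931a4184767a4be52a0637db1562cb)) (.node (.leaf 0xaa0082f00011f9030de431606d30410be77416e42723632d333) (.leaf 0)))) (.node (.node (.node (.leaf 0x4a1f1eb1000104db0f7c0f7b1c6185f30502f01243c600214025) (.leaf 0x1ad653c7000038362c11511e0c9584d80544e2b46f271c5372c7)) (.node (.leaf 0x20290ef00001196b185b3b590e8205317008d19c6ac4765be70a) (.leaf 0))) (.node (.node (.leaf 0x2f224d2100010e7e27e427e312e20457630d761280634d049156) (.leaf 0)) (.node (.leaf 0x2979067f00002671290b408910e68530997ba0b31573c115f156) (.leaf 0))))) (.node (.node (.node (.node (.leaf 0x201c421a0000029708a908a80e818596494c86783c456255a2c7) (.leaf 0x4783209d000032da150e50171af204733a5bb4b32300a912d537)) (.node (.leaf 0x39583bd60001168d36e436f516868515b820f0050557f828f428) (.leaf 0))) (.node (.node (.leaf 0x302c18cc00010c01221e2245142305926b6502a625432b214621) (.leaf 0)) (.node (.leaf 0x3beb32a5000022db465541cd16f60574e40b64955825c368a6de) (.leaf 0)))) (.node (.node (.node (.leaf 0x6a2c02035f0001073016061605126104504f7da62767c677124156)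 (.leaf 0x421c081900003e44467d49dc1a228590bd5042d272241f546734)) (.node (.leaf 0x31311e4c00011c7433aa10ca14438432f76814250e110e486335) (.leaf 0))) (.node (.node (.leaf 0x179e2fde000111172d3b2d3a0af185d4a57af79b44e13241d6de) (.leaf 0)) (.node (.leaf 0x528918e200012a2339e54be91eb105326d1c03013e763573441d) (.leaf 0)))))) (.node (.node (.node (.node (.node (.leaf 0x3c3517b60001017c05210520182384b25128214640b7c4000333) (.leaf 0x39231e760001306d4da10d9716830472fd3836b33c934053718b)) (.node (.leaf 0x52df04e20001151c06d934b11eb485f06e25938713b23433315f) (.leaf 0))) (.node (.node (.leaf 0x41e41ef400000aca1f451f4418f504930e28213c68616400055a) (.leaf 0x2315226a00004c5a51144b270ee184b3694e009e3ad202295025)) (.node (.leaf 0x15b28024b62000121351394295e10c104573615b60b0231cc2c7586) (.leaf 0)))) (.node (.node (.node (.leaf 0x3df031950000060212c5004018578414c833677c52b3da156621) (.leaf 0x14204b9200003afe5256440a0a8304173b0c76071055067bd2ab)) (.node (.leaf 0x436f210700001ae90b733d701a4705f3484be1a75907e9156621) (.leaf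 0))) (.node (.node (.leaf 0x1db648c300010fcb0e3c2a9b0cf284d6f328114f2d51a23357bd) (.leaf 0)) (.node (.leaf 0x107d0ee3000128414aa14aa008c785b16f1d33ed1db14570a621) (.leaf 0))))) (.node (.node (.node (.node (.leaf 0x9b1509d000003b70c1d0c1c06b38437ba66f36164c26714970b) (.leaf 0x30813138000035624e5f21d014320434c15285717193fc335786)) (.node (.leaf 0x4ca1493e000017f9393339321cb30436fd6651851eb203295049) (.leaf 0))) (.node (.node (.leaf 0xea3268800000d3f251c251b08930473ca42a79820f2e40252ab) (.leaf 0)) (.node (.leaf 0x2f6303440001249c19bd438d12e604704e12f5dc41130a15f156) (.leaf 0)))) (.node (.node (.node (.leaf 0x65a32bb0001085c193b193a06468554e565f7b41750d824d149) (.leaf 0xb5e1758000041ff535a507606e485d24549a6372e22f070b28f)) (.node (.leaf 0x31fa149700011df422954149145685520044978f1b57d624d295) (.leaf 0))) (.node (.node (.leaf 0x398e32c7000012732fd02fcf169205d4e64340cd45f6b65be32d) (.leaf 0)) (.node (.leaf 0xe872ad700002c2f30cf301d089104f43a52d0cd38377702532d) (.leaf 0))))))) (.node (.node (.node (.node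 (.node (.node (.leaf 0x1b0420ff000000f0035303520ca104934380059b5b021c2cb41d) (.leaf 0x99419f400012f533e6b123e06b28492881310a32b3543335786)) (.node (.leaf 0x4f32267c00001472337f337e1e438453c964308959d4186de7d9) (.leaf 0))) (.node (.node (.leaf 0x1a7e242100000a2c1dce1dcd0c8685d39500d2a22cc4a324d70a) (.leaf 0x2fb151d8000148fe33c833ee12f28437d343a34162536b049518)) (.node (.leaf 0x3fb904fd000120511c1926de189385306f6d78072a515d15618b) (.leaf 0)))) (.node (.node (.node (.leaf 0x84f06600001056d11231122068605f0980680c14e70d828f428) (.leaf 0x88c3bac0000398f2c85520406920595b367a5ce4af1b15fc428)) (.node (.leaf 0x6d3091600001a2c3c672c2406568470dd53603e1874a324d295) (.leaf 0))) (.node (.node (.leaf 0x1f2721c200000f23294629450e4504f35b1971917b371c537262) (.leaf 0)) (.node (.leaf 0x3e7b19de00002759344f49f018678572855d83286297b75865be) (.leaf 0))))) (.node (.node (.node (.node (.leaf 0x28b74009000003250a640a6310d384f61a43c6f971f30470a12d) (.leaf 0x48a60a9b00013428508650851c3304d1004db18551f7042cb049)) (.node (.leaf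 0x25d602ac0001173d07a23816105584d03a4e57087da35f025000) (.leaf 0))) (.node (.node (.leaf 0x16164f4300010ca223b923b80ac184d7991d143102f2d92c7786) (.leaf 0)) (.node (.leaf 0xe02857000123b30ca0471904570413fd1bf5f416133e537335) (.leaf 0)))) (.node (.node (.node (.leaf 0x27242dd4000107c5024e17a110a30494753cf6bd782653180546) (.leaf 0x36be17aa0001402b1d062f88163385d24f5f65083c554a73470b)) (.node (.leaf 0x1ff046f600001d3014ba19c40e578416c82190c84f34a66de049) (.leaf 0))) (.node (.node (.leaf 0x45942a65000111c429be0aa11a9184943035b2287d715d518428) (.leaf 0)) (.node (.leaf 0xa3a024500002b254c7d3bd306c385503234f4233136f132d335) (.leaf 0)))))) (.node (.node (.node (.node (.node (.leaf 0x4fa5404f00010208008f06e71e5304b61f79a3a460c24055a049) (.leaf 0x32742da90001319b450c4fab14678494724cb1072736282cb5be)) (.node (.leaf 0x2bf3305d000015d335dc0f6012578474af74663606c7187bd12d) (.leaf 0))) (.node (.node (.leaf 0x3fe01b3900000b6820c5008418970412aa4b279850b3da15618b) (.leaf 0x379709660001512c4cdd31a2165184f0e43f835333f46355a214))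 (.node (.leaf 0xfc2208d0000220145832e1b08b40453394a55f733a7477d968a) (.leaf 0)))) (.node (.node (.node (.leaf 0xf2f4d4e000006981467146608a305f7677f616e6c65bc41d333) (.leaf 0x307b4e9b00013c8d1a3f3882142785778762036133a09f149621)) (.node (.leaf 0x3345274800001ba63e613e60148604b3e03af4e85a53de24d32d) (.leaf 0))) (.node (.node (.leaf 0x273f0fff000110702bf72bf610a385f1936af0c451e5ed18012d) (.leaf 0)) (.node (.leaf 0x52303dd6000029304b430c8b1ea38415e53231f70df203295049) (.leaf 0))))) (.node (.node (.node (.node (.leaf 0x49f2520400010446013a0dcc1c568457d71b334c1196d024d41d) (.leaf 0x4fbe17a5000136b21d3217ec1e5385d24f32169775f34555a049)) (.node (.leaf 0x127240011bd000118b53a48322510220411bd73560b3e932e049000) (.leaf 0))) (.node (.node (.leaf 0xaa8207a00010de02686268506d305133768c42333b46c32d333) (.leaf 0)) (.node (.leaf 0x17924f41000125843e0628460af184579911f65a6df5ff41d55a) (.leaf 0)))) (.node (.node (.node (.leaf 0x12460cbd000108f51ac21ac10a2604d13575f6805b95a715f734) (.leaf 0x202c4a1000004408213a53960e8205971702d2115b505e5be2c7))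 (.node (.leaf 0x9124b5a00011ec24234423306a28457356045711f34b53352cb) (.leaf 0))) (.node (.node (.leaf 0x4eec47280000131c0b1a310f1e350596cb4020f96601ea2cb180) (.leaf 0)) (.node (.leaf 0x13cd4f0d00002d274d981acb0a7605b7946bc77248d6e97b2537) (.leaf 0)))))))))

/-- part of a table -/
def entries73 : Trie := (.node (.node (.node (.node (.node (.node (.node (.node (.leaf 0x1ace506200000025008e008d0c9505d7b31b049b75271c4862c7) (.leaf 0x75e0e0e00002db54bee4dd9066685d15b5d123769613711355a)) (.node (.leaf 0x53563dce0001137431be31bd1ec484d5e47921762e33b818b15f) (.leaf 0))) (.node (.node (.leaf 0x12140cbe000109441b8b1b8a0a248491357a857368365e049113) (.leaf 0x3cd119140000453d53a5444d18348432723435731f53e612d68a)) (.node (.leaf 0x2eef150300001f2640512ac712d705f20a26c75901f76170a546) (.leaf 0)))) (.node (.node (.node (.leaf 0x42f82bcd0001048f014f0ea81a3585144d65862d46213e586149) (.leaf 0x35db3f420001377e1bf9518c14f485760628176a67a1a233524d)) (.node (.leaf 0x112c4cfe000119133ad33ad208e305975f7ad2843251ec1245fc)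 (.leaf 0))) (.node (.node (.leaf 0x40471aec00000e300825273b18a404f2a171d0f76e165c546113) (.leaf 0)) (.node (.leaf 0xa952590000125f948d948d806d284b3b52be6681ac51d18b295) (.leaf 0))))) (.node (.node (.node (.node (.leaf 0xe044fe80000025107ce07cd08810497a858d4e828c72e02532d) (.leaf 0x46f0bee0000323a25ed421904c505f11f7de0641df39032d214)) (.node (.leaf 0x32d7036a0000162b1a5931d1147484f05052771b00733870b28f) (.leaf 0))) (.node (.node (.leaf 0x3086391000000bb8067a218d143204d5750bb006289123333786) (.leaf 0)) (.node (.leaf 0x307f4db70001226e45d94564142785f77133f74421d15414970b) (.leaf 0)))) (.node (.node (.node (.leaf 0x16b4be4000106e215361535046705774123c28e2040b07345fc) (.leaf 0x1204246500003d6b488e086e0a2404939b2db5011fe7407d968a)) (.node (.leaf 0x17b4477e00011c0b09783ede0af38496d46947ef1e51ec2625fc) (.leaf 0))) (.node (.node (.leaf 0x35c80fc5000010c711ed2c9514f405118f43037406b29c33524d) (.leaf 0)) (.node (.leaf 0x3651155e000029aa477245f516268432106742c24361a068a786) (.leaf 0)))))) (.node (.node (.node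 (.node (.node (.leaf 0x1dd33fe300010137043b043a0cf584761629b2f435b600214025) (.leaf 0x2b1d2b5700012fdd127907f1124185b4454436fa0d11797bd000)) (.node (.leaf 0x47fc08cd000114ca341d341c1af58590d563d5df12e02658655a) (.leaf 0))) (.node (.node (.leaf 0x1ea5236500010a791e871e860e3504b3811ac3012c5783734180) (.leaf 0x2a4d283a00004aa3491e49cb122605b3f842e3123f355c7b2000)) (.node (.leaf 0x499b2c01000020c6378305181c51857452055724796227537262) (.leaf 0)))) (.node (.node (.node (.leaf 0x18774797000105b811fb11fa0c2784f6d733d29e72d04b1497d9) (.leaf 0x1eeb003400013a4618b2522b0e3705700433d29e5ee545149049)) (.node (.leaf 0x30c643e700001a8b3cf13cf0143604d6793c52c243613768a786) (.leaf 0))) (.node (.node (.leaf 0x15b90a3c00000f7929ee12680ab38530f66724250b6653180335) (.leaf 0)) (.node (.leaf 0x430a375f000127c910d0476c1a4105554d75241246e5811562cb) (.leaf 0))))) (.node (.node (.node (.node (.leaf 0x4104209b0000036e0b420b4118e204933a4f807e30617a12d486) (.leaf 0x1e3149f2000134b91d6436c20e258437152bc1277b31cd21441d)) (.node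 (.leaf 0x1c9e4ba70000179d389838970cd185d73c51a6ae403059428124) (.leaf 0))) (.node (.node (.leaf 0x2dd0220300000cf20f24246f12b68413622ce5f82450cb15f586) (.leaf 0)) (.node (.leaf 0x500403560000242f43e147851e6104904f31d0ec0f25ae734025) (.leaf 0)))) (.node (.node (.node (.leaf 0x16cb3e6800000812049418740ad50575f04090a346d1cc70a786) (.leaf 0x3e134dc00001410d472449ed186184777301b65a0d47e258655a)) (.node (.leaf 0x2b7733b100011d9240d30215124784f4fd1576896246b4025546) (.leaf 0))) (.node (.node (.leaf 0x2dad26440001121d2f332f3212b305b3c54072eb7f42f341d12d) (.leaf 0)) (.node (.leaf 0x3f47063800012bab3e3c1b31188504f0934700054927e9518428) (.leaf 0))))))) (.node (.node (.node (.node (.node (.node (.leaf 0x1b8849e0000000ad026b026a0cb10517120153013e243d78641d) (.leaf 0x2d94113c00002ec82a604e6612b28491af5d73120d236b049000)) (.node (.leaf 0x1cf9013a0001141e27c132e10cd785301b31821337a0cc32d7d9) (.leaf 0))) (.node (.node (.leaf 0x18cf3353000109e01d101d0f0c3605f4f51d60da6704e168a262) (.leaf 0x1ddd3d390001479a4fc12ee50cf585b5d82bd1e663f186734025))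 (.node (.leaf 0x2c8522600011ff620bf17ad04960517da3c039954837924d32d) (.leaf 0)))) (.node (.node (.node (.leaf 0x261a06ea000105231028105010618550a447e6d67a978d124518) (.leaf 0x496f3e91000038e4230a0d261c4605f5f30451820ee1e828f180)) (.node (.leaf 0x1bf119c9000119ca2e9424780cb784328244421372d6287867d9) (.leaf 0))) (.node (.node (.leaf 0x36da2ffb00010ed12895289416368554a95426926fb4e1113786) (.leaf 0)) (.node (.leaf 0xb124f48000026e034f6415906e284579929707a0a56cd70b6de) (.leaf 0))))) (.node (.node (.node (.node (.leaf 0x1f2d3452000002df098a09890e4505b50d1710da64033e486124) (.leaf 0x330e3f2e0001337648a2210e148205d60467d4e868e0135fc428)) (.node (.leaf 0x233a2c98000116e6078e37880ee285545e28114f0c02f9335025) (.leaf 0))) (.node (.node (.leaf 0x50332f5400000c55230d16be1e6284749926d2f40f24a8335025) (.leaf 0)) (.node (.leaf 0xdc70f530001234a0c7046b4087604f1813097e406962315f537) (.leaf 0)))) (.node (.node (.node (.leaf 0x42df4fa60000077d16da16d91a3485f7a31705fa0790a912d68a) (.leaf 0x20091e6f00003f322d250d5f0e810532fc77b1b970c05d6de70a))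 (.node (.leaf 0x43f0261200011cd438573fe71a578413c21e174400214d51870b) (.leaf 0))) (.node (.node (.leaf 0x2f762299000111710b4b2dea12e684d36e52e5ab2a918e7b2518) (.leaf 0)) (.node (.leaf 0x48f9270500002a9f4acd4c3c1c358533db44418263117d786180) (.leaf 0)))))) (.node (.node (.node (.node (.node (.leaf 0x15104f49000001c3060706060aa184179942b7bc20a0b2124295) (.leaf 0x5630cf0000030fe37fd410404e504713a099711706247786486)) (.node (.leaf 0x6e113ab000015743548354706570431ed6df7a225669c486333) (.leaf 0))) (.node (.node (.leaf 0x50c7349900010b1a200b200a1e7504f51242f69a7ab545149025) (.leaf 0xa934b5000004e454be153e506d284773518c7d21f374c2ab295)) (.node (.leaf 0x33964841000021a0338e4517149284d6e611522846a6b65fc32d) (.leaf 0)))) (.node (.node (.node (.leaf 0x529038a60000064d1218139a1eb184156a30e2f20e3186214180) (.leaf 0xa6526a800013bd219bf527906c504b3cf5526803230cc428214)) (.node (.leaf 0x1635532600011b4309273de50ac384b7f43b777c12130270a70b) (.leaf 0))) (.node (.node (.leaf 0x479f38e80000102018c92b511af285f56f2fc47f4e780412d537)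 (.leaf 0)) (.node (.leaf 0x3d33401d000128b943fc2b40184384761b76c7445494a1518621) (.leaf 0))))) (.node (.node (.node (.node (.leaf 0xdbe4e5c000003ff0cf20cf1087585d77f5aa59c2dc5ff41d55a) (.leaf 0x10f4231f000135fc48d1512408d784937876b67549f6192c770b)) (.node (.leaf 0x3b183e370001185109d3081216e18515ec4e022245f202295537) (.leaf 0))) (.node (.node (.leaf 0x420f374c00010d9325da25d91a2205f54c5bb72560165c12d734) (.leaf 0)) (.node (.leaf 0x1a9b1d8c00012516337548290c918572de66d2805a85806de70a) (.leaf 0)))) (.node (.node (.node (.leaf 0x189a1e8a000008aa1a031a020c348552fe50916c6f42503357b2) (.leaf 0x9504f29000142f25368258506a684179654e41228921868a786)) (.node (.leaf 0x2afa33a600011e5c41bf058512378554fc3eb2eb3945ed41d12d) (.leaf 0))) (.node (.node (.leaf 0x27ef3bd0000012cb306f089e10b705f5b809865505667712412d) (.leaf 0)) (.node (.leaf 0x4ad7062500012cb410d710961c7584f09229a0ec15b57d2957bd) (.leaf 0)))))))) (.node (.node (.node (.node (.node (.node (.node (.leaf 0x17f60bb200010068017f017e0af684d11918d6cf38d2f17b2537)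 (.leaf 0x2c31423000002e414e212878126284364b0106126b230d049518)) (.node (.leaf 0x41381378000013cb324f324e18e38511e751b07c2d11640005fc) (.leaf 0))) (.node (.node (.leaf 0x375c4362000009941c4e1c4d164485966d2766624840e25fc113) (.leaf 0x89d2cf00000465e533d4d88069285b46601839972a5b25be428)) (.node (.leaf 0x10542bc00001f9123284317046404b6596a576d5db24e33328f) (.leaf 0)))) (.node (.node (.node (.leaf 0x3a091a9f000004dc0f7e0f7d16c10532977e16802ba3cb428734) (.leaf 0x47c2328d00013839513451b41af40454e05bb3560af0a912d28f)) (.node (.leaf 0x19534aa70001196c341e3b5a0c468477233e307244269524d180) (.leaf 0))) (.node (.node (.leaf 0xfe80e1300000e7f0ed527e508b605115c33c6cc7c130b7b2214) (.leaf 0)) (.node (.leaf 0x146c365700012671467422a10a870595394836076a663c7bd18b) (.leaf 0))))) (.node (.node (.node (.node (.leaf 0xd88133c0001029702d105d008740511de6096ef0fb74004924d) (.leaf 0x38e7036b000032db50181dd7167704f0505890f41d50347865fc)) (.node (.leaf 0x46c02de70001168e153c36f61ab40414773ae0f76e11a4546113) (.leaf 0))) (.node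 (.node (.leaf 0x4dbe29f400000c02224722461cd385d42722508334b0594287d9) (.leaf 0)) (.node (.leaf 0x12ed1267000122dd23cd2f140a3705b1ce40e16e49c41441d335) (.leaf 0)))) (.node (.node (.node (.leaf 0x4614065200000731160816071aa184909621f1483f9026586149) (.leaf 0x40e927ff00003e472c1214f318b70533f28053f510b7ae000335)) (.node (.leaf 0x51ea046400011c7509d93f5e1e960550661ad1b44836d028f70a) (.leaf 0))) (.node (.node (.leaf 0xcf2c813a6200001118154220b4127104359313a0f57d874d124518) (.leaf 0)) (.node (.leaf 0x22a5340400012a254bea42650ed204b50412930f26058f18b180) (.leaf 0)))))) (.node (.node (.node (.node (.node (.leaf 0x2d2705340000017d0522043d12a304f0763dd3651eb78b41d546) (.leaf 0x2860117f0001306f3f9c4f3110c70411b575165519d61970a12d)) (.node (.leaf 0x47f3117e0000151d317f34b21af58471b57167a40ed11800055a) (.leaf 0))) (.node (.node (.leaf 0x1c72080600010aca03471f460cc78450bc3f74fb32f02032d049) (.leaf 0x26d914a300014c653b2f4c5910758532012ac0b31d1653180156)) (.node (.leaf 0x24e4f11000121363deb25ff048605d7950457d13891e828f428)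 (.leaf 0)))) (.node (.node (.node (.leaf 0xa133f6b0001060212c712c606c28476097703ce5d529818b149) (.leaf 0x25c62c4700013aff525720d6105504d45637714179535f025000)) (.node (.leaf 0xa8c3c2100011ae932273d7106d20595c012945c37e22618b149) (.leaf 0))) (.node (.node (.leaf 0x5ff266200000fcc2a9d2a9c04f585f3c81a873978740d2cb486) (.leaf 0)) (.node (.leaf 0x4e6e1fc4000028424a4f4aa21e2505d3213f26c302b40d2cb180) (.leaf 0))))) (.node (.node (.node (.node (.leaf 0xcb52e68000103b70c1f0c1e083584b4833f366840274d124295) (.leaf 0x22d54cda0000356432d042180ed484b75d4066995ee22618b7b2)) (.node (.leaf 0x29591513000117f90f28393410e585320b163327474435262156) (.leaf 0))) (.node (.node (.leaf 0x113d4d00010d3f251e251d04448435d97c35d344a1b15fc68a) (.leaf 0)) (.node (.leaf 0x1e53135c0000249e47da47d90e268471e15d12e1805392113262) (.leaf 0)))) (.node (.node (.node (.leaf 0x35ee3eb00000085d193c0b0114f605d5f60376a34ee3c768a6de) (.leaf 0x1143330a00014208319151ab08e40474ed4a558363a7477d928f)) (.node (.leaf 0x134c2c7700001df7101a213c0a6605945b3321cf57c6e97b2537)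 (.leaf 0))) (.node (.node (.leaf 0x52d11170000112732fd1244f1eb48431b505269919d29c33515f) (.leaf 0)) (.node (.leaf 0x27c02e8100002c324aab257710b60414850be33411f6e97b2000) (.leaf 0))))))) (.node (.node (.node (.node (.node (.node (.leaf 0x1828d74636000000f10355035410d584f6b143c6aa15c30470a000) (.leaf 0x3243526500002f554eab050314640477e11a976d63e23162128f)) (.node (.leaf 0x29aa03f0000114723381338010f205505a01f6d67434f47d9518) (.leaf 0))) (.node (.node (.leaf 0x3845022000010a2c0527031f166404b03009676d63e23f62128f) (.leaf 0xa8e4074000048ff3945115a06d205d6241ff3582a374c2ab295)) (.node (.leaf 0x3fd711dd00002053144e43ed189584f1c06ac43716b11a51832d) (.leaf 0)))) (.node (.node (.node (.leaf 0x23772b210000056e112511240ee684f44204d0ec48f3c71137bd) (.leaf 0x255e537c0000399143eb4dcb104585d7fd52335d7b835f7bd000)) (.node (.leaf 0x489d1da000011a2c235c3c681c3285b2e21552e13e823f621262) (.leaf 0))) (.node (.node (.leaf 0x44aa061c00010f2304bb29471a720550916497394721be12d537) (.leaf 0)) (.node (.leaf 0xa284738000127592f1949f106c30516ce5523f13110cc428335)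 (.leaf 0))))) (.node (.node (.node (.node (.leaf 0x3161155d0000032602f10a65144604321061f78f38f5cb24d149) (.leaf 0x1fc337be0000342c3dc025870e5604755458a30f3421e828f180)) (.node (.leaf 0x1a3148770000173e381838170c828436ea4c143f3101775fc70a) (.leaf 0))) (.node (.node (.leaf 0x2dfe04ef00000ca323ba105812b785d06e7da39f5c0242124546) (.leaf 0)) (.node (.leaf 0x65c2303000023b43c563e30064685937720f1483f937928f149) (.leaf 0)))) (.node (.node (.node (.leaf 0xe41465c000007c617a2048a08850436b958d4e877124b025428) (.leaf 0xf3f3db60000402d39002b9708a385f5e327b3f55cf308180335)) (.node (.leaf 0x342f336900001d3119c1405d14c205f4f640f3ba54029818b149) (.leaf 0))) (.node (.node (.leaf 0xd2142bf000011c508d10768086504365980923746541418055a) (.leaf 0)) (.node (.leaf 0xcce435400012b25100c4c7e083605d66b1c53530b12f115f214) (.leaf 0)))))) (.node (.node (.node (.node (.node (.leaf 0x41984f840000020906e906e818f28517a02ee7723f829112d486) (.leaf 0x3c3317d40001319c167d4fac18238472531333e40804e2586333)) (.node (.leaf 0x1ab53386000115d335dd18880c9284b4f82ed2804d24765be70a)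 (.leaf 0))) (.node (.node (.leaf 0x452208a00010b6813ab20c604c48453394055d36a229818b113) (.leaf 0x122840890001512f510d4bad0a250516254c978f1925c7262149)) (.node (.leaf 0x46ec36760001220245841d981ab705953b3a10b45447ae586335) (.leaf 0)))) (.node (.node (.node (.leaf 0x2d4ac20001069814691468044505b72703a0642bb4fa55a734) (.leaf 0xfc0018500013c8f4c093d9508b40410231f801e26d65e049113)) (.node (.leaf 0x1b432a8300011ba63e622d510ca40474331a914b5f923162115f) (.leaf 0))) (.node (.node (.leaf 0x17254ceb000010712bf82ab50ae304b75e66047949e1ec2625fc) (.leaf 0)) (.node (.leaf 0x1c912511000129310f184b440cd18433aa0d47245780de32d124) (.leaf 0))))) (.node (.node (.node (.node (.leaf 0x161c4482000004470dce0dcd0ac18596853b757108514570a2cb) (.leaf 0x4af60621000036b3513a42b61c7684d09204d0ec3733c71137bd)) (.node (.leaf 0x8cc2b0c000118b63a49177b06960594405993993061ab24d428) (.leaf 0))) (.node (.node (.leaf 0xa6253550ff00000de126882687104384b7c280622d42e714025546) (.leaf 0)) (.node (.leaf 0x2c8d360c0000258548804861127105b5325ad6126e84a2124156)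 (.leaf 0)))) (.node (.node (.node (.leaf 0x107c279c000108f61ac41ac308c78593e77512a673672c70a621) (.leaf 0x400b14ce0000440d3e4e4e9518a10572056a862d0157b6586295)) (.node (.leaf 0x3ea80f6c00001ec3423514a518720511846f307d5633e612d537) (.leaf 0))) (.node (.node (.leaf 0x1799395f0001131c311131100af185357a7d43d068227a1806de) (.leaf 0)) (.node (.leaf 0x3ba1372000002d281f553a7e16f30435491142e94fe1867345fc) (.leaf 0)))))))))

/-- part of a table -/
def entries74 : Trie := (.node (.node (.node (.node (.node (.node (.node (.node (.leaf 0xb450745000000260090008f06e404b0ab3c355d7c307562128f) (.leaf 0x48a02b8200012db544303a5b1c330414481670c81eb43d786049)) (.node (.leaf 0x32ca46ec0000137531c031bf14740556c762b58329d23170b28f) (.leaf 0))) (.node (.node (.leaf 0x4dc60ab1000009451b8d1b8c1cd404d10216d14b3b20392ab7b2) (.leaf 0x328814d40000453e52f31a7314710512061877e462279c786537)) (.node (.leaf 0x20f822de00011f260abb32b50e9685137261b27d47071328f2c7) (.leaf 0)))) (.node (.node (.node (.leaf 0x169c0154000004900eaa0ea90ad185901f27824868f6d82c7786)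 (.leaf 0x3c4427820000377f3901316218240493e519f55013129112d68a)) (.node (.leaf 0x1d6234eb000019143ad40f210ce604551b5353d36c43c768a7bd) (.leaf 0))) (.node (.node (.leaf 0x1043245500010e30273d273c08c504739a3730c33233d92c7786) (.leaf 0)) (.node (.leaf 0x14bd0dfa000025fa3f2942790a9385b1594dc78561f1790252ab) (.leaf 0))))) (.node (.node (.node (.node (.leaf 0x19023bbb0001025107d007cf0c440455b545d14b3a70435fc15f) (.leaf 0x34bb40b80001323b220b4fe914d285762b5327d248b5202ab295)) (.node (.leaf 0x31a127340000162c3661366014530433df1f43f15d1781537335) (.leaf 0))) (.node (.node (.leaf 0x4c18185100010bb8218f218e1ca185125e0530721a663573441d) (.leaf 0)) (.node (.leaf 0x1f6d458e0000226f3b0145e60e4705b6a17932133aa4fa6de049) (.leaf 0)))) (.node (.node (.node (.leaf 0x4bf30073000006e3153815371c9684700a1b32b44116d024d70a) (.leaf 0x3c22514e00013d6c5144455918230457c87b34874ba3bd586335)) (.node (.leaf 0x43f80cd600001c0c1f543edf1a578511383ac60250979f51870b) (.leaf 0))) (.node (.node (.leaf 0x37a0ee5000110c72c9608b704a785516f25c3ed78e4c5214621)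 (.leaf 0)) (.node (.leaf 0x1b871834000129aa370249e90cb104f25b26978857817b2cb41d) (.leaf 0)))))) (.node (.node (.node (.node (.node (.leaf 0x37e70f0d00000138043d043c165604f17174b3d60164a328f295) (.leaf 0x27fa184500002fde4eeb4eea10b785525c1306bd5d7242262546)) (.node (.leaf 0x2cc30367000014cb341f341e12750470503e9341116308180156) (.leaf 0))) (.node (.node (.leaf 0x17630bd100010a7a032c1e880ae604711c0df25d03a2f115f537) (.leaf 0x4e53512800004aa7503c52b11e248477c62971203bc6cd70b7b2)) (.node (.leaf 0x471626de000120c6445744561ae284d3d47177e41386b812d537) (.leaf 0)))) (.node (.node (.node (.leaf 0x534a09a0000005b911fd11fc1ec40550e80860fd61e3b818b15f) (.leaf 0xe9e08ec00003a4727d7522c089185d0d762575c43e60a02532d)) (.node (.leaf 0x1b10251400011a8b3cf33cf20ca18413aa2dd78857843d2cb41d) (.leaf 0))) (.node (.node (.leaf 0xbb2a0a00010f7929ef0f15045585742966d5763910826de214) (.leaf 0)) (.node (.leaf 0x2d220582000027ca4a402ed612a304508011f2eb6d45ff41d12d) (.leaf 0))))) (.node (.node (.node (.node (.leaf 0x286c08c60001036e0b440b4310c70590d52ec55635972c70a546)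 (.leaf 0x1177019e000134ba15204b6a08e684f0246f71cf3a618e7b2486)) (.node (.leaf 0x3fee30150001179e1a003899189705d4ab2e61bc0c64a151818b) (.leaf 0))) (.node (.node (.leaf 0xed44c4000010cf20d2122f5089584974a0d639945624b7bd428) (.leaf 0)) (.node (.leaf 0x1a402a8800002430478747860c850414334af43f3106f853770a) (.leaf 0)))) (.node (.node (.node (.leaf 0x4ff4348f00010812187618751e568495117c218344156028f41d) (.leaf 0x4bd40ef0000410e4cdb3c6f04d385b63077416e5490cc32d335)) (.node (.leaf 0x1e30f5200001d9340d540d404770471811515e23a354a7345be) (.leaf 0))) (.node (.node (.leaf 0x4e1143f30001121e05c62f341e2284367a1a37244006b5621124) (.leaf 0)) (.node (.leaf 0x2013226600002bad293f287a0e818473693db2a24b24cc6de2c7) (.leaf 0))))))) (.node (.node (.node (.node (.node (.node (.leaf 0xd3c1f94000100ad002d026c086585931e3d265a68c6fe41d55a) (.leaf 0x1e0f1d3000012eca4bd74e670e2405f2d51f514b6ab1a23337b2)) (.node (.leaf 0x4ecb11290000141f32e332e21e340571ae54714b01075562115f) (.leaf 0))) (.node (.node (.leaf 0x2ddc50e1000009e11d121d1112b68597c110975711b30b15f000)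 (.leaf 0x312a111a0000479b42cc32c614430551ad43e7dd0143ef486335)) (.node (.leaf 0x23f115f000001ff7438a43890ef684321f00801279d1a068a025) (.leaf 0)))) (.node (.node (.node (.leaf 0x460c2f0d000005240b4310511aa105949162a66848b7ae586295) (.leaf 0x50d513f000138e442c551df04e205b7c77d307a72a07570b6de)) (.node (.leaf 0x26a2727000019cb3be83be704870553dd43e68b2c366448618b) (.leaf 0))) (.node (.node (.leaf 0x13c93f9500000ed2289728960a7605360f2b14b328530b7b2486) (.leaf 0)) (.node (.leaf 0x18e40839000126e01932176a0c370490c06651854a00732957d9) (.leaf 0))))) (.node (.node (.node (.node (.leaf 0x44a01c17000102df0588098b1a720412be36968d1b6790546486) (.leaf 0x2921e9d0000337742a34c6a04928452ff61c2285610135fc428)) (.node (.leaf 0x3c845103000016e7378905e118320497c319f0646053f412d734) (.leaf 0))) (.node (.node (.leaf 0x35a9104900010c550f32230e14f305319a3e003d0e91862145fc) (.leaf 0)) (.node (.leaf 0x4e4d2bd60001234b3c2e46b51e2405b44e36c14b0106b562115f) (.leaf 0)))) (.node (.node (.node (.leaf 0x109b29100001077d16dc16db08d185740c01752a65030470a2cb)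 (.leaf 0x4cb4005f00013f3351184b4b1cb38490087d038413908a149049)) (.node (.leaf 0x4023d2500001cd53fe93fe804c20455d740f3ba09b08e18b295) (.leaf 0))) (.node (.node (.leaf 0x31e80ecf000011722deb0abe145605116b7c87bc0947fc24d295) (.leaf 0)) (.node (.leaf 0x171c2cf900012a9f268e28680ae185946640e07a4461d241d6de) (.leaf 0)))))) (.node (.node (.node (.node (.node (.leaf 0x19a60838000101c3060906080c5504d0c05fe7033723ef486262) (.leaf 0x2f7e0c59000130ff484a1c9312e685d12c5e364700e73a7b2518)) (.node (.leaf 0x429c084e0001157435490d391a328590c67796cc4853f4546734) (.leaf 0))) (.node (.node (.leaf 0x30325c00000b1b200c069c04458414dc7b15762b25626de734) (.leaf 0x20540b1c00014e512e9b12890e8584910a56143f53f5385372c7)) (.node (.leaf 0x33260a76000021a11f3e4518148304d0fc19e4ef53666e4862ab) (.leaf 0)))) (.node (.node (.node (.leaf 0x41fc2cd00001064d01e9139b18f58594620bc59c58213e0006de) (.leaf 0x528d15d400003bd339ba49a61eb105b21d1f30ea024750734180)) (.node (.leaf 0x49ea072600001b4434133de61c560550a826b3010d24ea28f180) (.leaf 0)))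 (.node (.node (.leaf 0x28f713ee000110201e022b5210d784f1f37941e31c24d670a12d) (.leaf 0)) (.node (.leaf 0x3ff3437f000028ba4af54af4189784766f79138a4c167e5182ab) (.leaf 0))))) (.node (.node (.node (.node (.leaf 0x4f31153e000103ff0cf40cf31e4384320d71e2b07674a655a049) (.leaf 0x2c8c0613000035fd2c6c415c127105909142b3411d055f124156)) (.node (.leaf 0x1a863c960000185239b82fc00c9104d5cc3f82b45a44cc55a2c7) (.leaf 0))) (.node (.node (.leaf 0xd894e5800000d9425db1af0087405377f3b51fd23d4d904924d) (.leaf 0)) (.node (.leaf 0x18f41f7000025183dc421b6047405f6462c876d0fb25033324d) (.leaf 0)))) (.node (.node (.node (.leaf 0x50151888000108aa1a051a041e6184b2634ae3fb2781cd214025) (.leaf 0x4bda18ba000042f352ff537b1c9585526957b49b4e95806de70a)) (.node (.leaf 0x47e14c6400001e5e41c006d31af504374e21f5bf1b002658655a) (.leaf 0))) (.node (.node (.leaf 0x1a59354b000112cb30701c520c858535244a72112cc69c48670a) (.leaf 0)) (.node (.leaf 0x13341dfd00002cb513cc43560a658492ec78a59c6d927a41d6de) (.leaf 0)))))))) (.node (.node (.node (.node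 (.node (.node (.node (.leaf 0x42d44e2b00000069018101801a3484977b5f96e23d4790546113) (.leaf 0x3fad303800012e414e2225f6189305b4ad3638077e012b1562ab)) (.node (.leaf 0x3a630f71000113cb065f325016c70471870783e40a702032d333) (.leaf 0))) (.node (.node (.leaf 0x38e2b750001099402e21c4f04b205d4472c86560e8250333786) (.leaf 0x424b23a00001466153b71b0b1a240573891085f778058b12d68a)) (.node (.leaf 0x302f3fc000011f9143194318142305f61401660204d32a73470b) (.leaf 0)))) (.node (.node (.node (.leaf 0x4c2dc04322000104dc01670f7f12b60416653323516c23867b2586) (.leaf 0x1920f500000383b50b451b504748451810023823a34a833524d)) (.node (.leaf 0x526743700000196d3b5b0aa91ea604f66f09c0da02c39268a262) (.leaf 0))) (.node (.node (.leaf 0xae2550315600010e7f27e727e610458414c341160b0e3179025000) (.leaf 0)) (.node (.leaf 0x9740e27000026724930493b06a784915e4a45b14c078321470b) (.leaf 0))))) (.node (.node (.node (.node (.leaf 0x297720180000029808ab08aa10e684f3295c937f66b2f17b2156) (.leaf 0xdda4d54000132dc46153f8208768557681597394bb30a7b2537))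 (.node (.leaf 0xf862f240000168f36f836f708b104d4933717b410366a124295) (.leaf 0))) (.node (.node (.leaf 0x3048199f00000c0322492248142605127c6fd0c32c140a1132cb) (.leaf 0)) (.node (.leaf 0x277e1b56000022de4657465610a785d2ae41b39e7c738c12412d) (.leaf 0)))) (.node (.node (.node (.leaf 0x4dea134e00010731021f12851cd50551df6966a93f0390428124) (.leaf 0xfd42b1200003e4d52464e1f08b484944106c5ac77665e7d9113)) (.node (.leaf 0x4d013aab00011c763f603f5f1cc204359764b1822746ba2ab180) (.leaf 0))) (.node (.node (.leaf 0x39ba09cb0001111815642d3c16938550eb68742635766e4862ab) (.leaf 0)) (.node (.leaf 0x305547e000012a264beb2d5e142684b6df01472b4ae21868a786) (.leaf 0)))))) (.node (.node (.node (.node (.node (.leaf 0x51c8308f0001017d052405231e950514b479a24147424055a2c7) (.leaf 0xf85403f00003070469c493c08b104b61e6e73586fb55f262149)) (.node (.leaf 0xe68288d0000151e34b31aa9088705140058d6b351472e0252ab) (.leaf 0))) (.node (.node (.leaf 0x1346127700000acb1f481f470a6604d1d051e3a87492d815f486) (.leaf 0xc2e4c2e00004c663e51505d082505d7467aa08b2692df262149))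 (.node (.leaf 0x387d1d600001213744ba44b9166785b2dc0620f44066287865be) (.leaf 0)))) (.node (.node (.node (.leaf 0x4c31376d0001060312c912c81ca384354e7750831c52022957d9) (.leaf 0x4e7116c400013b0540f028ad1e2584323827e30f50e28378641d)) (.node (.leaf 0x522e104000011aea090418bf1ea305d19a04c21363004b2957d9) (.leaf 0))) (.node (.node (.leaf 0x2a7633bf00010fcc27212a9e122784d4fd7c56893b2417180546) (.leaf 0)) (.node (.leaf 0x178b3baf000128424aa307240af10575b38081b81f44171806de) (.leaf 0))))) (.node (.node (.node (.node (.leaf 0x41662fcd000003b80c210c2018e504d4a45e14950f811858655a) (.leaf 0x1b234110000356650e93ad4047584550504c3a803026a295537)) (.node (.leaf 0x1be11860000117fa21c81c920cb70432600622b06f017d786049) (.leaf 0))) (.node (.node (.leaf 0x5245039700000d402520251f1ea404b0531af0817a84da33515f) (.leaf 0)) (.node (.leaf 0xe343c3e000024a13a0a37bb08838495c18064ef7c871402518b) (.leaf 0)))) (.node (.node (.node (.leaf 0x24a00a910000085e193d075510330411001191e35e30b226212d) (.leaf 0x27c13a1b0001420a2385388b10b604358c4f97080ce3447b2000))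 (.node (.leaf 0x2ba5273b00011df7414a3f56125304b3df4df2eb7f460e02512d) (.leaf 0))) (.node (.node (.leaf 0x44ca21f100001274106a2f701a7405536010837477858b12d28f) (.leaf 0)) (.node (.leaf 0x4e0c375400012c3448da4d0f1e2205954d36c26e09a6b5621124) (.leaf 0))))))) (.node (.node (.node (.node (.node (.node (.leaf 0x85410bb000100f10357035606868491a556c0054c37fc28f32d) (.leaf 0x321205000012f554ae531a404a30433320446025d10c214970b)) (.node (.leaf 0xf7128df00001473338218c208a684340778c01d2893c115f734) (.leaf 0))) (.node (.node (.leaf 0x1213246900000a2d1dd01dcf0a2484739b4476e23754b17d9113) (.leaf 0x3223aee000149013e3f336e04a304559d7193ed16004b295621)) (.node (.leaf 0x2250202c0001205343ef43ee0ec484132c4b916c1365742ab15f) (.leaf 0)))) (.node (.node (.node (.leaf 0x87b3e6a0000056f1127112606878575f04a931708f34048618b) (.leaf 0x243811630000399339bb381f10238511b311c0c475f1ec26212d)) (.node (.leaf 0x13ab29df00001a2d2eb63c690a750574227975bf6ff1321806de) (.leaf 0))) (.node (.node (.leaf 0x4db5159500000f24294929481cd384b2172d02131390de32d049)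 (.leaf 0)) (.node (.leaf 0x105728d20000275a48f0087808c584f4071e97f26327612c72cb) (.leaf 0))))) (.node (.node (.node (.node (.leaf 0x1b27183a000103260a670a660ca204f25b547724716755621124) (.leaf 0x3a7404790000342e5088508716c78490674727dd2520de428335)) (.node (.leaf 0x70242020001173e187d381906640456481f535659323433328f) (.leaf 0))) (.node (.node (.leaf 0x1ad8013400010ca303e323bb0c9585101b12e6982b87814862c7) (.leaf 0)) (.node (.leaf 0xd355157000023b5471b471a086584b7c93d765a77427041d55a) (.leaf 0)))) (.node (.node (.node (.leaf 0x19b1208000007c7048517a304748571c321d38250025033524d) (.leaf 0x4a5a3a700001402f465a3d941c658555941df3804f009f1497bd)) (.node (.leaf 0x4c61321300011d313219146e1ca60434d32fd31927b03f113124) (.leaf 0))) (.node (.node (.leaf 0x41023aa7000011c62e902e8f18e20455973a27117931e4546486) (.leaf 0)) (.node (.leaf 0x3ba0fbe00002b284c7f461404b385518d7c11e249415429570b) (.leaf 0)))))) (.node (.node (.node (.node (.node (.leaf 0x2e713dc70001020906eb06ea12c78435e43b739f45514570a546) (.leaf 0x2d21493d0000319d4ce5444212a30436fd55b39f51f1d2180546))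 (.node (.leaf 0x4e550514000115d5194335de1e2484b07114214a3590756217b2) (.leaf 0))) (.node (.node (.leaf 0x214e22d400000b6920c820c70ea405d3723260816ab22c70b7b2) (.leaf 0x49fa054e0001513a52bb4d091c568550777ea2f211c0cf24d41d)) (.node (.leaf 0x44cc1e3600002203458645851a740592f63ae55d6841a454628f) (.leaf 0)))) (.node (.node (.node (.leaf 0x1cd0f99000006990cc9146a047605b1895a03d04bb40a11355a) (.leaf 0x501e293600003c903b24278d1e6185d40f15109e1c34c57347bd)) (.node (.leaf 0x20163d7100011ba73e643e630e8184d5dd07719c79d0ff6de70a) (.leaf 0))) (.node (.node (.leaf 0x3cae030f00001072282000cb183305d0457cc76404d147586335) (.leaf 0)) (.node (.leaf 0x2678098d0000293223744b4510668510e65cd50376829415f156) (.leaf 0))))) (.node (.node (.node (.node (.leaf 0x19ca1e81000104470dd00dcf0c560552fe05c0f965869528f180) (.leaf 0x43e53ea9000136b42af7471b1a5704b5f53ac6027003da518621)) (.node (.leaf 0x386e118a000118b70df23a4a166705d1b653d7ac16d1c82cb5be) (.leaf 0))) (.node (.node (.leaf 0x512a2f0800010de126891f1b1e820554914523fa4812fa5fc2c7)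 (.leaf 0)) (.node (.leaf 0x39b606b40001258548824881169384d0a037d80741a34048618b) (.leaf 0)))) (.node (.node (.node (.leaf 0x2160430a000008f71ac61ac50ea70416612fb08373c6287867d9) (.leaf 0x4d653f330001440d420f34781cc504b60519b6ae3d21ee428262)) (.node (.leaf 0x28300e3400011ec30a93423610c38411601d06f971f5c870a12d) (.leaf 0))) (.node (.node (.leaf 0xcd1085e0001131d268109ce08368430c77106805b96e915f734) (.leaf 0)) (.node (.leaf 0x1430532b00012d2a49f248060a838417f46bf3176e560e7bd2ab) (.leaf 0)))))))))

/-- part of a table -/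
def entries75 : Trie := (.node (.node (.node (.node (.node (.node (.node (.node (.leaf 0x36ee27060001002600920091163705d3db4ab3610bb2b614970b) (.leaf 0x2a8d52d700002db727fd4dda123205b7ec3bc5f87f730d7d9000)) (.node (.leaf 0x3384d920001137531c10be204a385176f2aa2a63c50c229570b) (.leaf 0))) (.node (.node (.leaf 0x31aa1521000009461b8e0d05145305520c036425160664486333) (.leaf 0x323b16d00001453f515a3ee4146285723903513c19875562155a)) (.node (.leaf 0x2e1013c400011f2742a942a812c18411f121e45a27461970a586) (.leaf 0)))) (.node (.node (.node (.leaf 0x19da2d860001049003900eab0c5685547044959b5b07d624d41d) (.leaf 0x2d7442680001378032da421c12a78496506b96361655c712412d)) (.node (.leaf 0x3268055f00011914376a3ad514670510788004796e321c2cb5be) (.leaf 0))) (.node (.node (.leaf 0x32f5349800000e31273e19c0147784b51236e2844802e77865fc) (.leaf 0)) (.node (.leaf 0x1d4c000a000125fb0da248da0ce50590015173d33817832147bd) (.leaf 0))))) (.node (.node (.node (.node (.leaf 0x500850de0000025207d100161e610517c074e14f1896357347bd) (.leaf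 0x4ddc09ab0000323c38ba2e181cd48590e862917628845018b7b2)) (.node (.leaf 0x1e8046fa0001162d29402c6b0e340416c853e51671204a3337b2) (.leaf 0))) (.node (.node (.leaf 0x8410d1400000bb921912190068604313d3574905f31ab24d428) (.leaf 0)) (.node (.leaf 0x3012388b0000227045e71090142284556852b05f496250333786) (.leaf 0)))) (.node (.node (.node (.leaf 0x690b5026ed000106e3153a153906e48413d75de76a50b7f962128f) (.leaf 0x42dd311c00003d6e4f6a4b0e1a3485b4bf7796e26383f4546113)) (.node (.leaf 0x32272e3800001c0d0a331559146204f48054723746575562155a) (.leaf 0))) (.node (.node (.leaf 0x22603b90000010c82c982c970ec70415b00093a46760cc4287d9) (.leaf 0)) (.node (.leaf 0x1bae3348000029ab4b5444020cb205d4f322b5a26706cd70b262) (.leaf 0)))))) (.node (.node (.node (.node (.node (.leaf 0x21b0226b00010138043f043e0eb284136953a27f39523f70b262) (.leaf 0x315c4e9000012fdf17d9499f14448597871d86e21f15b25fc113)) (.node (.leaf 0x8b02bbb000114cb34202f44069384144c5917980452b56de18b) (.leaf 0))) (.node (.node (.leaf 0x215040a500010a7b04a01e890ea484162a14214a3a244b62115f)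 (.leaf 0x44c84c3b00014aa9284827471a740517495ef6ef79229154624d)) (.node (.leaf 0x422602ee000020c732bb44581a2304d042745146223147000335) (.leaf 0)))) (.node (.node (.node (.leaf 0x23ed4c1a000105b90b8b11fe0ef605b7454942a06d70c51137bd) (.leaf 0xdb50ba100003a4b49004fd0087584b11713f23738e2f31806de)) (.node (.leaf 0x809407100001a8c3cf40ea306820536240e415a5fe05e5be428) (.leaf 0))) (.node (.node (.leaf 0x1c48518700010f7a29f129f00cc40517cc2e51dc37a51d2ab7b2) (.leaf 0)) (.node (.leaf 0x1be92422000027cb4a4c4a4b0cb705339501569702943d786049) (.leaf 0))))) (.node (.node (.node (.node (.leaf 0x32f003680000036f0b460b4514778410504447ef4056287865be) (.leaf 0x447e0493000034bc1cd42a771a6785d06922403d0911180005fc)) (.node (.leaf 0x36f71ec30000179f389b389a163784f3062af05b00215429570b) (.leaf 0))) (.node (.node (.leaf 0x36e6319600000cf311be1ae8163704d4c833d50825e54514970b) (.leaf 0)) (.node (.leaf 0x9a2a01000024312cd0234a045485542906b5d30a76b65fc113) (.leaf 0)))) (.node (.node (.node (.leaf 0x459c31ec0000081318770ffd1a918594d063f5ce1bb268518428)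 (.leaf 0x2b3c52bd000141102b19451b12438597ea6933651395067bd12d)) (.node (.leaf 0x3c3f33c800011d932e6803c0182385f4fe3dc5a30b63bd586335) (.leaf 0))) (.node (.node (.leaf 0xe12988480f0000121f2f350c3610f10516e17965037cd65341d156) (.leaf 0)) (.node (.leaf 0x3ad01d7300002bae2b2e21e316d48412dd2736e23266ba18b68a) (.leaf 0))))))) (.node (.node (.node (.node (.node (.node (.leaf 0x132b2402ea000000ae026e026d12430490423fd63644c63c7bd12d) (.leaf 0x4fe4319800012ecc11e44e681e560494c83c007227171324d180)) (.node (.leaf 0x239c01bf0001141f0bbb23930ef18590297a169a3632031497bd) (.leaf 0))) (.node (.node (.leaf 0xed80958000109e107f9198b08958510e35025ce0a81797bd32d) (.leaf 0x2ab438c10001479e24594115123384956c02336573b5c726212d)) (.node (.leaf 0x32fb453c00011ff737e6372114778576965777ac29d17b2cb5fc) (.leaf 0)))) (.node (.node (.node (.leaf 0x265f3b2c0000052510531052106585f5a16af5c67685ed180156) (.leaf 0xfb70b09000038e551e04d2808b384f1095397dd1d677a41d333)) (.node (.leaf 0x113d40e0000119cd0894394808e385b63013d2e961f74d2625be)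 (.leaf 0))) (.node (.node (.leaf 0x2bb0141c00010ed22899289812538411f64dc7596ce179025546) (.leaf 0)) (.node (.leaf 0x39f73f38000026e149953412169784f60538978535241855a18b) (.leaf 0))))) (.node (.node (.node (.node (.leaf 0xc033256000002e0098d098c08240474dc4a55f71557477d968a) (.leaf 0x17b80a3b000033782b9b0ee90af38510f66604791ad0bf2625be)) (.node (.leaf 0x281c07ff000116e70780378a10c18590bb76030046830270a586) (.leaf 0))) (.node (.node (.leaf 0xab6041a00000c562310230f06d384d0606965f419a626428335) (.leaf 0)) (.node (.leaf 0x131f52190000234c455c46b60a6485f7d85d43826e37477d928f) (.leaf 0)))) (.node (.node (.node (.leaf 0x1cf22a8d0000077e16dd06200cd784543360d3a45f9174428049) (.leaf 0x2b57278800013f3630d6393a124584f3e542945a7ce777025586)) (.node (.leaf 0x1844206700011cd52a63252f0c260493362fd31963d2ad113262) (.leaf 0))) (.node (.node (.leaf 0x170104c6000011732dec1de70ae104306c39a7a419937b1806de) (.leaf 0)) (.node (.leaf 0xb42088200002aa0215c101106e40450d125658372f75570b28f) (.leaf 0)))))) (.node (.node (.node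 (.node (.node (.leaf 0x35790acc000001c4060b060a14e685310361a7a44fc49768a6de) (.leaf 0x2a4268b0000310120f242be04930493ca4dd7981f64206de2ab)) (.node (.leaf 0x2ee71b9400001575354a011712d704f2b31c32eb57a1cc70a546) (.leaf 0))) (.node (.node (.leaf 0x2a09434700010b1b200e200d12220536692db5f801c7407d9586) (.leaf 0x851075f00014e5253474e2106868430ac7e015a7717f828f428)) (.node (.leaf 0x404a0fe6000121a138792bbd18a40551922de1341550a954668a) (.leaf 0)))) (.node (.node (.node (.leaf 0x3c4c23870000064e0e8b139c182405938535e50149f02712d68a) (.leaf 0x47f01bf400013bd3386c40851af58412bc44279b6c07c45866de)) (.node (.leaf 0x2c261ad800001b453de83de7126204d29d40c6126b2747049518) (.leaf 0))) (.node (.node (.leaf 0x326a3835000010212b392b53146705556322a52112925a7865fc) (.leaf 0)) (.node (.leaf 0x1bcc3da2000028bb436443760cb40595e112514b3a709762115f) (.leaf 0))))) (.node (.node (.node (.node (.leaf 0x1e1249fa000004000a760cf50e248457154e66991434b53357b2) (.leaf 0x39b743ce000135fd15e64e5a169384f6745fe79806866448618b)) (.node (.leaf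 0xd1226570001185239b90fa808648453c645576a15232204924d) (.leaf 0))) (.node (.node (.leaf 0xa13d35153700010d940f431614184384b20d3ad4f20fc15d156621) (.leaf 0)) (.node (.leaf 0x303517d6000125180d3d482a142384b2531ac6024751cd734621) (.leaf 0)))) (.node (.node (.node (.leaf 0x348310a6000008ab1a071a0614d10471a34657ff2c658e428734) (.leaf 0x4aee3f8e000042ff32454e551c7605d60d6f53fb6903c768a7bd)) (.node (.leaf 0x22f6430f00011e5e286f3c9f0ed784d661696089320390428049) (.leaf 0))) (.node (.node (.leaf 0x1db90cca000012cd2c4d30710cf285313633a29f2cc50a3337bd) (.leaf 0)) (.node (.leaf 0x18191dd300002cb62e834d550c248532e605269902929c33515f) (.leaf 0)))))))) (.node (.node (.node (.node (.node (.node (.node (.leaf 0x10901e98000100690183018208d18412ff4674cf5b87892c7786) (.leaf 0xcb0468400012e423ed14a4208358416bf15e62d5c25c7124149)) (.node (.leaf 0x2dcb1a6e000013cc32510f9412b60572926c15f82ac2d815f000) (.leaf 0))) (.node (.node (.leaf 0x427211cb000009951c511c501a258451bf6d13ce74e47c000149) (.leaf 0x1a6b3d34000046644fcd2e200c860575d820c19c63f69528f2c7))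 (.node (.leaf 0x21923d7600001f940f5c22780eb18455dd20b34c61617b78641d) (.leaf 0)))) (.node (.node (.node (.leaf 0x4bdf41ec000004dd0f810f801c9585f6455f328000e4cc6de2c7) (.leaf 0x363933c30001383b358e51b616238534fe1226750b6186214621)) (.node (.leaf 0x36171c540000196e3b5d3b5c162284f2c321d41248e250335786) (.leaf 0))) (.node (.node (.leaf 0x1e2429c600000e800ccb09820e250494212332da1881cd73441d) (.leaf 0)) (.node (.leaf 0x3ce8103a000126720dd92cda18350511996167b44e4401000295) (.leaf 0))))) (.node (.node (.node (.node (.leaf 0x146253f10001029808ad08ac0a870458090f368b7203b002518b) (.leaf 0x4b6d1e21000032dd4d6733ce1c8605b2f510043f0d656024d2c7)) (.node (.leaf 0x193026310001168f34c236f90c458413c41710da2d60ba486262) (.leaf 0))) (.node (.node (.leaf 0x921b0e49e500010c03224b224a0ca105d71220b34c153704786180) (.leaf 0)) (.node (.leaf 0x2049474b000122de401746580e850536d16542f81406f848670a) (.leaf 0)))) (.node (.node (.node (.leaf 0x39ab06ab00000732160a1609169305709c4ee1bc1f62a75372ab) (.leaf 0x224f22d300013e4f3ae41a140ec405f37230508133103918b7b2))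 (.node (.leaf 0x1bbd1d8800001c773f623f610cb285b2de277319551097621262) (.leaf 0))) (.node (.node (.leaf 0x23f43b91000011192d3d21970ef68495b001469a3630c568a7bd) (.leaf 0)) (.node (.leaf 0x15ff52ef00012a27397c24ae0ab685f7ee75a2d21df6237b2214) (.leaf 0)))))) (.node (.node (.node (.node (.node (.leaf 0x300b375a0000017e05260525142205754d5900c3323250335786) (.leaf 0x3bc71792000030722e5e4f3216f404f24c07958361c1a233524d)) (.node (.leaf 0x314216c80001151e34b534b4144404523845d5012320435fc68a) (.leaf 0))) (.node (.node (.leaf 0x353a033200000acc1f4a1f4914e385504d25c11d3af32a2145be) (.leaf 0x27cf4bd600014c6a51a9416310b605f73f3373003dd30a15f000)) (.node (.leaf 0x513426290000213821823ce41e828493c35752f81aa0e25fc2c7) (.leaf 0)))) (.node (.node (.node (.leaf 0x224c51b600000604097312ca0ec40597cf5001dc46f5742ab15f) (.leaf 0x3918517f00003b062e2d334b16828517cb7c32ef3891b15fc428)) (.node (.leaf 0x37bd1a4f00011aec1a5e2fc8165385b28d7c614607669c537333) (.leaf 0))) (.node (.node (.leaf 0x313e33c700010fcd04f62a9f144385d4fe3835a32c03ef537335)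 (.leaf 0)) (.node (.leaf 0x26141883000028434aa54aa410618492631190b32780b2262518) (.leaf 0))))) (.node (.node (.node (.node (.leaf 0xd4525ab000003b90c230c22086604b3b75672224b630b7b2486) (.leaf 0x2d4b3f480000356850ed34cb12a605760651e3300412d815f000)) (.node (.leaf 0x8fa1b1a000017fb19fb393506978552a85fe7981d83ef4862ab) (.leaf 0))) (.node (.node (.leaf 0x23c20b1900010d40252123440ef504510a38f3cc5b54162147bd) (.leaf 0)) (.node (.leaf 0x6070d75000124a141b34793064404f14e4521341262fa5fc113) (.leaf 0)))) (.node (.node (.node (.leaf 0x4b1e2abd0001085e193f193e1c8185d4385e719c4e53ef53770a) (.leaf 0x23bc2c970000420b535d39620ef285945e2553cc5b550a3357bd)) (.node (.leaf 0x3530097300001df80f7f1d8314e38410e508507c41a1867345fc) (.leaf 0))) (.node (.node (.leaf 0x16bf3515000112742fd32fd20ad385f51f26c3ed7e776170a70b) (.leaf 0)) (.node (.leaf 0x52f1516600002c37493a4d101eb68437ca5e570315c18a68a262) (.leaf 0))))))) (.node (.node (.node (.node (.node (.node (.leaf 0x1dec47d2000000f2035903580cf60596dc0fc1e642118a113025) (.leaf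 0x2e11ed700002f564ead4eac04970433071bf1bc67d33e53718b)) (.node (.leaf 0x2b48537a000114733384338312450517fd3fd30c1a663c7bd586) (.leaf 0))) (.node (.node (.leaf 0x3d8f0de200010a2d1dd1076b185105f1582e64cf5314a1518786) (.leaf 0x4e3833c0000049033a85431c1e238514fe04e69751e1ea786049)) (.node (.leaf 0x5cc53e50000205426023b2c04f405980836c3560af7f962128f) (.leaf 0)))) (.node (.node (.node (.leaf 0x3cc734890001056f11280448183404f5115ba01e4e67dc546113) (.leaf 0x51073d8400013993520538a01e8104f5de1972a274664f53770a)) (.node (.leaf 0x4fb41ff300011a2d3c6a0fdd1e5384932523008959d4206de7d9) (.leaf 0))) (.node (.node (.leaf 0x2f7c0c3400010f2411c0294a12e68591282cf5dc0dd29415f156) (.leaf 0)) (.node (.leaf 0x4f68537b0001275a3cd418c81e460517fd5192f27b871324d180) (.leaf 0))))) (.node (.node (.node (.node (.leaf 0x249d1da8000003270a690a68103285b2e25d03340b569b7d9586) (.leaf 0xfe006840001342e5089412908b604109a13951559e2947b2214)) (.node (.leaf 0x46541a890000173f1f0437d41aa48492963a75d30a741f546113) (.leaf 0))) (.node (.node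 (.leaf 0x52343c6000000ca423bd23bc1ea38495c50aa00f3320c22957d9) (.leaf 0)) (.node (.leaf 0x4f2a4c57000123b533f8441c1e4305574b45f3a478246355a049) (.leaf 0)))) (.node (.node (.node (.leaf 0x36302676000107c717a517a416238413c92bc6755351cd214621) (.leaf 0x4ba34d230001403034b2401d1c920477631f92b48063465be70a)) (.node (.leaf 0x42d90cd400001d33405f405e1a3485313832f5ac59002754668a) (.leaf 0))) (.node (.node (.leaf 0x32f63972000011c72e922e91147784d57c0a225f7c07042cb5be) (.leaf 0)) (.node (.leaf 0x20281e6400002b2c3cf94c800e820512fc3a91b93ab1775be70a) (.leaf 0)))))) (.node (.node (.node (.node (.node (.leaf 0x22044e1f0000020a06ed06ec0ec10497797e16a96403cb428124) (.leaf 0x41d346320000319e4e9206f718f48476b13206371da1be54624d)) (.node (.leaf 0xd87341a000015d635e035df087404f50546676d4053227d924d) (.leaf 0))) (.node (.node (.leaf 0x50c147a900010b6920ca20c91e750436d958c3cc0f1202295025) (.leaf 0xb7e500600005148527a4ca806e585d7aa2b21660a825a2cb537)) (.node (.leaf 0x16b90a3200012203231245870ad38530f60f236126f6d82c770b)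 (.leaf 0)))) (.node (.node (.node (.leaf 0x48331e4200010699146c146b1c238472f721b09d73b704786049) (.leaf 0x41a21e7800013c901a404b6318f30452fd3dc1073c94e25865be)) (.node (.leaf 0x236615fe00001ba81da63e650ee604d21f7e73fb76c13768a7bd) (.leaf 0))) (.node (.node (.leaf 0x341451df000110722bfa2bf914c18497d37e168000a62f428214) (.leaf 0)) (.node (.leaf 0x165347d000029334b462f95046704b5104d55217eb7502145fc) (.leaf 0))))) (.node (.node (.node (.node (.leaf 0x52ff0323000004480dd102c61eb685f04c06f5a2797392113262) (.leaf 0x4ec34af7000036b52012515d1e3404772a4385166bb33862115f)) (.node (.leaf 0x355c40d7000118b83a4c3a4b14e485962e4d138208d50a33524d) (.leaf 0))) (.node (.node (.leaf 0x10c6068900000de2268b268a08d504d09a43c41248e3d970a786) (.leaf 0)) (.node (.leaf 0x32ba0ed80000258648830a00147285516d52707a67f33870b6de) (.leaf 0)))) (.node (.node (.node (.leaf 0xebc0fb3000008f81ac81ac7089385918d3962ea3df60e7bd2ab) (.leaf 0x479023b0000440e4e8f539704c58530316ff01d606236428734)) (.node (.leaf 0x8420bd000001ec442370497068604511c0457d17020cf28f32d)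 (.leaf 0))) (.node (.node (.leaf 0x334211770000131e311227e414860451b52d315a0ed7d628f32d) (.leaf 0)) (.node (.leaf 0x6da00b000002d2b36c502f0065685500e02203e04e0cf24d295) (.leaf 0)))))))))

/-- part of a table -/
def entries76 : Trie := (.node (.node (.node (.node (.node (.node (.node (.node (.leaf 0x197d460300000027009400930c4785b6ac3064fb5f94a66de049) (.leaf 0x459041b200012db74ddb4a241a918416420b93993a612b51832d)) (.node (.leaf 0x22254e160000137631c2069a0ec204b7793a32da6165b72ab41d) (.leaf 0))) (.node (.node (.leaf 0x80c3a94000009471b901b8f06820595963240051f44765be32d) (.leaf 0x8d20e6a000045434f58539806968451635360cd5f54a324d428)) (.node (.leaf 0x3aff008b00011f28301518f216d785f00b74914605a6f1428335) (.leaf 0)))) (.node (.node (.node (.leaf 0x4c6f3afd000004910ead0eac1ca605f59e5070115f028768a124) (.leaf 0x21273ecf00003781515e35af0ea204f5f97b027f39523170b262)) (.node (.leaf 0x42133888000119153ad61b221a228475682fc3534967dc12d734) (.leaf 0))) (.node (.node (.leaf 0x1530041000010e312740273f0aa38410600b57dd1d637b41d333)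 (.leaf 0)) (.node (.leaf 0x3b83dbc000025fc2dab466204b38515e34965b14ad202149621) (.leaf 0))))) (.node (.node (.node (.node (.leaf 0x47a53b1d00010252040f07d21af304b5a06613282f77b55865be) (.leaf 0x164a1b1b0001323d460b2d7e0ac50552a86104cf1c95132c72cb)) (.node (.leaf 0x15ec4d3a0001162e366336620ab60597653ca7250632947b2214) (.leaf 0))) (.node (.node (.leaf 0x4ece0a4400010bb9216a21921e3405d0f826607f7c764d6217b2) (.leaf 0)) (.node (.leaf 0x221725550000227145e945e80ec184f3ae34f31b13358e32d124) (.leaf 0)))) (.node (.node (.node (.leaf 0x3d5247e4000106e40207153b18458456df1f272b4a420e518786) (.leaf 0x2de13d0b00003d6f52c512b312b70435d55ad2354514a2124546)) (.node (.leaf 0x4c2912cf00011c0d3722389e1ca30531d67a10c8159203149049) (.leaf 0))) (.node (.node (.leaf 0x2ce94c36000110c810f82b68127605374942e5ab52655c7b2518) (.leaf 0)) (.node (.leaf 0xe2c4cf4000129ad1fcd3cb2088305975f4112792f763c02518b) (.leaf 0)))))) (.node (.node (.node (.node (.node (.leaf 0x2a8b02530000013904410440123205703313b45a8094b1049000) (.leaf 0x1e081f0f00002fe03ad52b4f0e240513107760fd36704a3357b2))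 (.node (.leaf 0x23be3067000014cc2ba934210ef285d4b052b3d31402f9333025) (.leaf 0))) (.node (.node (.leaf 0x520d450700000a7d1e8b1e8a1ea105b6915d51043781cd73441d) (.leaf 0x105d527c00014aaa51ad524408c585b7e36480a346d6d870a786)) (.node (.leaf 0x3a8d14c0000120c742540c6616d105b2050d47ed01562f32d214) (.leaf 0)))) (.node (.node (.node (.leaf 0xf722921000005ba11d111ff08a684540e0f64eb1d96237b2214) (.leaf 0x4f3a017800013a4b4a7149f61e438550225480c82e00ff6de7d9)) (.node (.leaf 0x1e8e3b3e00011a8c3a4a030b0e3405d5a47cb0813314a83357b2) (.leaf 0))) (.node (.node (.leaf 0x25fc101100000f7b29f329f210578591970d66f90101797bd546) (.leaf 0)) (.node (.leaf 0x26510226000127cb3d5d4a4d10658430303d21ef6466fe41d156) (.leaf 0))))) (.node (.node (.node (.node (.leaf 0x282e48ed000003700b480b4710c305d6f57d839e7bf4d62c712d) (.leaf 0x4ac4cfa000134bc152150c304d305975f59842567423632d333)) (.node (.leaf 0x4e1544b2000017a01f75389c1e2284b688277319652097621262) (.leaf 0))) (.node (.node (.leaf 0x15933f6f00010cf3247124700ab18476098013ba293677124295)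 (.leaf 0)) (.node (.leaf 0x3611130f000124310cd4473116228431da78e00628929c333786) (.leaf 0)))) (.node (.node (.node (.leaf 0x4dd20b7500010813187918781cd484511420638748874c2ab7b2) (.leaf 0x46900f44000041113e8518e41ab184117e32c3ba2b2048586149)) (.node (.leaf 0x1f2a4cb500001d9440d635c50e450557562005a223e2a7537124) (.leaf 0))) (.node (.node (.leaf 0x436a4e9d000012200c312b211a470557877527661f158115670b) (.leaf 0)) (.node (.leaf 0xc37325400002baf4aaa4308082584f4dc3717b43f266a124295) (.leaf 0))))))) (.node (.node (.node (.node (.node (.node (.leaf 0x51ab14cb000100ae0270026f1e920572055142800c70135be70a) (.leaf 0x19dd1d2b00012ece4c053f3a0c5685b2d45ca1823a11ab28f41d)) (.node (.leaf 0xf9378353a00000142032e43180165104780201a57610f17f6de214) (.leaf 0))) (.node (.node (.leaf 0x36ea0546000009e20d921d13163705507742f74443004b149621) (.leaf 0x4528363b000047a23a3437541a830515356c868b4491785182ab)) (.node (.leaf 0x37f81aa400001ff838243875165685129925165172637928f149) (.leaf 0)))) (.node (.node (.node (.leaf 0x82c2bed00010525032d1054068305944f7b16b35ca05d6de18b)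 (.leaf 0x63433f1000138e520f9387f06458495022725154cb56255a734)) (.node (.leaf 0x4d9536a5000119cf201f3be91cd284b53e31c2f216361d18b41d) (.leaf 0))) (.node (.node (.leaf 0x40ad2f0b00000ed3289a1c8f18b205b4915ee7ff4023f412d734) (.leaf 0)) (.node (.leaf 0xfd32d1d000126e12704494108b48474685f25fa56a4f4049113) (.leaf 0))))) (.node (.node (.node (.node (.leaf 0x3d0f434b000102e0098f098e184105f66948f69262e67e5182cb) (.leaf 0x1a69518a000133794be2200e0c860537cc3af2a22cc3de24d70a)) (.node (.leaf 0x206a0db5000016e8378b34340e860551532d12113364ea28f2c7) (.leaf 0))) (.node (.node (.leaf 0xcd22b3900010c5603c9231108368454431eb72535c73a7b2214) (.leaf 0)) (.node (.leaf 0x3da3219f0001234c39cc46b718530473577916755c567e51870b) (.leaf 0)))) (.node (.node (.node (.leaf 0x2c7b406a0001077e16df16de126685762252e5ab46730a7b2156) (.leaf 0x474a3f4000003f39297a4b1c1ae405560602958372f1e412d28f)) (.node (.leaf 0x41fa4aba00001cd635913fea18f58557265e14951bf47c5866de) (.leaf 0))) (.node (.node (.leaf 0x1fe6320e000111732dee2ded0e5704d4d257b14c6765806de7d9)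 (.leaf 0)) (.node (.leaf 0x2c232e3f00012aa13a2a468712620474807f164767c34d049156) (.leaf 0)))))) (.node (.node (.node (.node (.node (.leaf 0x216e1d42000101c4060c01040ea705d2d61a814c71d40d2cb7d9) (.leaf 0xc103d44000131014f7447df08248415d93165d325630d7d968a)) (.node (.leaf 0x20f04cd900011575354c354b0e9684175d3c91b476c56028f2c7) (.leaf 0))) (.node (.node (.leaf 0xdcf41f200000b1c2010200f087605f6460a607d47d2f115f537) (.leaf 0x1eb8310700004e574b454cd60e358514be4f71826b05ae214180)) (.node (.leaf 0x49d006f9000021a2451a45191c548410a54bc14a6330e25be15f) (.leaf 0)))) (.node (.node (.node (.leaf 0x10083cfe0001064e139d071d08c10515d46e87fa09411170a2cb) (.leaf 0x121e4ae500003bd6527b527a0a2485d7291c25a94897477d968a)) (.node (.leaf 0x45ab264d00011b453dea3de91a930573c57568077e067e1562ab) (.leaf 0))) (.node (.node (.leaf 0xf2e4a6f0001102105132b5408a305d71f7ee4233555ff41d333) (.leaf 0)) (.node (.leaf 0x2004203d000028bc4af649ea0e8104932f70643f6d72406de2c7) (.leaf 0))))) (.node (.node (.node (.node (.leaf 0x4a8c2979000104000cf70cf61c710594191b51ca1165ae214025)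 (.leaf 0x335b1c46000035fe2472101214868572c15924904fd7d624d32d)) (.node (.leaf 0x2f6d324600001853371f39ba12e605b4db31f6121ed0cb7b2156) (.leaf 0))) (.node (.node (.leaf 0x52210bfd00000d9525dd25dc1ea304312172229e2432671497d9) (.leaf 0)) (.node (.leaf 0x1da4440e0000251947fc482b0cf204967b7762f40b970d335025) (.leaf 0)))) (.node (.node (.node (.leaf 0x275b3f01000108ab1a091a0810a685760115935d67218e7b2586) (.leaf 0x2a55164f0001430050db537c122684b2297823306e755c15f000)) (.node (.leaf 0x14eb014e00001e5f349237e70a9705701c7272ea0e42e47bd2ab) (.leaf 0))) (.node (.node (.leaf 0x77a44f1000112cd3072251306678556900d507c63e1957345be) (.leaf 0)) (.node (.leaf 0x5156228b00002cb741433e741e8584d36d6cb43f5335806de70a) (.leaf 0)))))))) (.node (.node (.node (.node (.node (.node (.node (.leaf 0xe320d17160000006a01850184146105b23d3912224b643d2cb486) (.leaf 0x1a814821ba800012e4345d74e230a910452b75335ce36f7187bd428)) (.node (.leaf 0x14de51a1000113cc2e85232c0a9585d7ce0613992e87777bd32d) (.leaf 0))) (.node (.node (.leaf 0x2b993447000009961c5207bc125185350b4dc31201c63c025586)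 (.leaf 0x3241379a0001466453bb391b14640435526d258320663b70b24d)) (.node (.leaf 0xdb60f5600011f940aea431a087584d1814697e806978b41d55a) (.leaf 0)))) (.node (.node (.node (.leaf 0x4c413b3000004de0f830f8204d40491f034942d5976ba18b68a) (.leaf 0x4a42a4d0000383d46073b9204d304942e55e3f525462f32d333)) (.node (.leaf 0x4c8925820001196e3b5e061c1cb10533b42bc1274401cd21441d) (.leaf 0))) (.node (.node (.leaf 0x448939b500010e80048327e81a7105358428b49556316458655a) (.leaf 0)) (.node (.leaf 0x34d50f7d00012673493c285414d484b1876295d36d257418b113) (.leaf 0))))) (.node (.node (.node (.node (.leaf 0x97a0c8b0000029908af08ae06a78551305585ea4d10b073470b) (.leaf 0x168b3c22000032df50193c4d0ad10575c018972b4ae3d970a786)) (.node (.leaf 0x8c7502e00011690076236fa069604f7ad74b5ce2584ea28f32d) (.leaf 0))) (.node (.node (.leaf 0x499425b000000c04224d224c1c518493b90b74d8041538486262) (.leaf 0)) (.node (.leaf 0x30cb2af2000022df43f24659143605743e09c5711ac39268a2cb) (.leaf 0)))) (.node (.node (.node (.leaf 0x46d61c8f00010732083b160b1ab484d2c67a70f025658b12d68a)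 (.leaf 0x24cb2cad00003e5041d621a8103605745f67330013a62315f586)) (.node (.leaf 0x73e0e0300011c7709a23f63066585d15b1fa7111c657d149537) (.leaf 0))) (.node (.node (.leaf 0x32fe4c31000111192d3e0adc147785d74912c28e7921c82cb5be) (.leaf 0)) (.node (.leaf 0x8c452f100002a284bed4bec06960497f00744377067f824d428) (.leaf 0)))))) (.node (.node (.node (.node (.node (.leaf 0x4c0513150001017e052805271ca104b1db37e34c47b1cd21441d) (.leaf 0x1eb22360000030734f330b090e358453810162da1886ad73441d)) (.node (.leaf 0x4aed03eb0000151f1d7e34b61c7605b0586da1ca1d303f113025) (.leaf 0))) (.node (.node (.leaf 0x4667007f00010acc0b0200c01aa704f00a74f3f51a9147000335) (.leaf 0xb0a3bae00014c6d5332410706e20555b37b03d04af22170b55a)) (.node (.leaf 0x35ce30130001213844bb224714f405d4ab25e66654d25033324d) (.leaf 0)))) (.node (.node (.node (.leaf 0x50e339790001060412cc12cb1e7604757c5353d36593c768a7bd) (.leaf 0x4cc61ef100013b06288b0adf1cb404d30e0bb5165f24b53337b2)) (.node (.leaf 0x1edf4d1700001aed1f3c3d720e3685f7624270876a85c3113262) (.leaf 0)))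 (.node (.node (.leaf 0x2d06312600000fce2aa12aa012a204d4c040c35122f747049586) (.leaf 0)) (.node (.leaf 0x392f094a000128430eac2fe7168305f0e15e76074493ef5372ab) (.leaf 0))))) (.node (.node (.node (.node (.leaf 0x38252d0406000103b90c2400f4104305b05c2460c4109179025546) (.leaf 0x1d571c730000356950ee508a0ce584f2c525c3cc6f232a214025)) (.node (.leaf 0x3cd65208000117fb26901da7183484d7d73315d356f80454668a) (.leaf 0))) (.node (.node (.leaf 0x316713f700000d4125232522144604f1f42a562d4364ea28f149) (.leaf 0)) (.node (.leaf 0x525334b8000024a247db451f1ea484751760414a46b4b53357b2) (.leaf 0)))) (.node (.node (.node (.leaf 0x1606241e0000085f194119400ac104d3947410065f62d92c7786) (.leaf 0x1fe4e560001420b3f350e88047785d77f2ae7ef0651952145be)) (.node (.leaf 0x466d3e7e00011df8414b09ea1aa705b5f16583e403813e586333) (.leaf 0))) (.node (.node (.leaf 0x21953e21000012752fd52fd40eb184b5eb0fa6c374221c2cb41d) (.leaf 0)) (.node (.leaf 0x45732e8c00012c3816bd4c391a878474855a431708f11a15618b) (.leaf 0))))))) (.node (.node (.node (.node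 (.node (.node (.leaf 0x327630d2000100f2035b035a146784d4bb1925e258425a7865fc) (.leaf 0x3c5d23a500012f564eae43bc182485b38946f0f01f179012d113)) (.node (.leaf 0x3e801c1e00011474069b338518710412be7427a45a14010006de) (.leaf 0))) (.node (.node (.leaf 0x17850b300000a2e1dd31dd204678517be1c05e24195ae7345fc) (.leaf 0x19b92ef300014904263b4fb90c5585348f12e6ae74f781486124)) (.node (.leaf 0x307628e70001205443f03970142784d40842f74460454514970b) (.leaf 0)))) (.node (.node (.node (.leaf 0x1f9446c10000057011290b610e548496c41bd2a46ea1775be7b2) (.leaf 0x33544916000039953017520614868496fb49e0c12105cb28f32d)) (.node (.leaf 0x45a12dd800001a2e3c6c3c6b1a930434754bd2ea24f3da51818b) (.leaf 0))) (.node (.node (.leaf 0x31e204df00000f2512e6265e145604506d7f53d631d0d828f149) (.leaf 0)) (.node (.leaf 0x1e5c345b0000275b15752b1a0e2685950d4616ae7422ad68a262) (.leaf 0))))) (.node (.node (.node (.node (.leaf 0x45104849000103270a6b0a6a1a818416e63812ef32114d518428) (.leaf 0x47ae028c0000342f254c4f3f1af305d0376d111d4497b60005fc)) (.node (.leaf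 0x2a3833ca00001740381b381a12238514fe42b63630955f124546) (.leaf 0))) (.node (.node (.leaf 0x29cc06d100010ca423bf23be10f50590a21190b34df0b2262518) (.leaf 0)) (.node (.leaf 0x527a2a57000023b62ed9471c1ea685542f5343196724e1113262) (.leaf 0)))) (.node (.node (.node (.leaf 0x2fb810ed000007c817a717a612f28511a97a83413773b1049518) (.leaf 0x18bc323d000140312fe84c520c358594d768f1043a15b473441d)) (.node (.leaf 0x14732002e3500001d344060317b146104148047707e3a52e72cb537) (.leaf 0))) (.node (.node (.leaf 0x15335323000111c72e9301620aa38477f415c66c5a05ed180335) (.leaf 0)) (.node (.leaf 0x1d613c5600002b2d4c8135ac0ce60435c440b3cc5a4218113025) (.leaf 0)))))) (.node (.node (.node (.node (.node (.leaf 0x13c137740001020a06ef06ee0a7604354f3321cf1b63867b2486) (.leaf 0x3fdd4ab9000131a14c223b3c189585b7265b50cd36f268156428)) (.node (.leaf 0x3d3b52bb000115d6071e29e218438577ea2d46026da47a518621) (.leaf 0))) (.node (.node (.leaf 0x342c14c500000b6a20cc20cb14c205920526362d1875742ab295) (.leaf 0xceb2a00000151634cd853a2083705742901c1466d25ff180333))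 (.node (.leaf 0x4ea42735000022042f1a199a1e330493df2a14fb60c2832cb049) (.leaf 0)))) (.node (.node (.node (.leaf 0x3921058a0000069a146e146d16830430806814ef5365384862ab) (.leaf 0x3e372f5d00003c9252a2464c186284f4996ab25d00c7dc546486)) (.node (.leaf 0x38ed453300011ba833cd3e66167705b69624411d2e543d2cb5be) (.leaf 0))) (.node (.node (.leaf 0x28620631000010732bfb24cc10c704509315b22d2db1cc2c7546) (.leaf 0)) (.node (.leaf 0x3c293a0d00012933408c3cf4182305358a69d42333b7c4000333) (.leaf 0))))) (.node (.node (.node (.node (.leaf 0x5fd01db000104480dd30dd204f585b02b36d4b32302e7786537) (.leaf 0x18de13d6000136b64e644fdb0c3685d1f21e772474f613113124)) (.node (.leaf 0x44f63adf000018b9298c3a4d1a7784d59a74f7ef7c04e20005be) (.leaf 0))) (.node (.node (.leaf 0x4978210900010de2268d268c1c4685134856c1274401ab28f41d) (.leaf 0)) (.node (.leaf 0x523515940001258627a248841ea384b21710d1853ca2672957d9) (.leaf 0)))) (.node (.node (.node (.leaf 0x4ccb1709000008f91aca1ac91cb405723c4d007f0ae7fe33315f) (.leaf 0x26a21c1c000044105398285110720452be6335c67c96ed7d9518))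 (.node (.leaf 0x4ecd101f00011ec442382f961e3405b1977d30fd49309770b15f) (.leaf 0))) (.node (.node (.leaf 0x1b443c550001131e062131130ca40495c43750816ec44b70b15f) (.leaf 0)) (.node (.leaf 0x489401f300012d2b2ed246d11c3284902d16a2e111b097621262) (.leaf 0)))))))))

/-- part of a table -/
def entries77 : Trie := (.node (.node (.node (.node (.node (.node (.node (.node (.leaf 0x2c2430b7000100270096009512620494b93590f546769b7d9156) (.leaf 0x3ab322f300002db94ddc387e16d284737518462d04e6182ab295)) (.node (.leaf 0x7c637700001137631c318b1067604d54f0b649506913768a55a) (.leaf 0))) (.node (.node (.leaf 0x1e8b003e0001094702c91b910e340570047381dc4cd2f933515f) (.leaf 0x3d614f5c000145444f981757184704379a5e03612c879f15670b)) (.node (.leaf 0x2be24afa00001f293cc642aa125704572a5bd3653b535f7bd12d) (.leaf 0)))) (.node (.node (.node (.leaf 0x56d26f5000104910eaf0eae04e505b3d832947f5111ea2cb486) (.leaf 0x4b5323fe00003782518d50eb1c858473917a321139b08255a2c7)) (.node (.leaf 0x1314127a000019163a500ffb0a648491d05d776a15274004924d)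 (.leaf 0))) (.node (.node (.leaf 0x24aa2a7200000e322742274110330554320ee6f910966a124546) (.leaf 0)) (.node (.leaf 0x123d32b4000125fc2ba541af0a2585b4e53787b43f91ec124149) (.leaf 0))))) (.node (.node (.node (.node (.leaf 0xf3a35c10000025307d407d308a385552e01c1460805ff180333) (.leaf 0x3a9f0e480001323e3b9e3d9016d185f1614657ff106174428214)) (.node (.leaf 0x48b34a860000162f366406601c338477213f229e56725a2cb049) (.leaf 0))) (.node (.node (.leaf 0xd1d1f9f00000bba21942193086485b31e7fb6373497407d924d) (.leaf 0)) (.node (.leaf 0xdc30a15000122713cdb043b08760470f21c507e67f18e15f486) (.leaf 0)))) (.node (.node (.node (.leaf 0xa000e7b000006e5153d153c06c204116564b08b6155b72ab149) (.leaf 0x20d6368900013d6f1ae71d970e9584d53c37d50c1f23404862c7)) (.node (.leaf 0xfb53f7600001c0e3ee03e6108b384b60c3f066c5a06fe180335) (.leaf 0))) (.node (.node (.leaf 0x40224e3f000010c91878203318a204577d6762d266758b546734) (.leaf 0)) (.node (.leaf 0x497215a1000129ae4b963b0a1c4684521900d7880ac69524d180) (.leaf 0)))))) (.node (.node (.node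 (.node (.node (.leaf 0x4596113f00010139005404421a9184d1af6a175c5d24a115632d) (.leaf 0x3502132600002fe14eec492f14e10451dd28947f3c204b295486)) (.node (.leaf 0x1fc4d5d000114cc3422056204778597685d54794807837345fc) (.leaf 0))) (.node (.node (.leaf 0x47e044ea00010a7d0fce1e8c1af504168f53c23727c16458655a) (.leaf 0x6f91b2700014aac3bc1512e06578532a91f43f1491781537335)) (.node (.leaf 0x1f0707e0000120c81cb444590e4404f0b90c614b6fc6b65fc7b2) (.leaf 0)))) (.node (.node (.node (.leaf 0x2b4b4e96000105ba01ab1200124505778742945a7f0718025000) (.leaf 0x3fae363d00003a4c2933202f189305d53579d42665f20e51818b)) (.node (.leaf 0x2fa2100f00001a8d3cf63cf512f20451967f164750234d049156) (.leaf 0))) (.node (.node (.leaf 0x203b421f00010f7b29f529f40e828576496d567836312a5be2c7) (.leaf 0)) (.node (.leaf 0x2e3d46dd000027cc4a4e420d12c385b6c651039f41511170a12d) (.leaf 0))))) (.node (.node (.node (.node (.leaf 0x30d8237d000003710b4a0b49143685138354e4122c921868a786) (.leaf 0x28232dd0000134bf27c650c410c30474750a16bd2ce1cc2c7546)) (.node (.leaf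 0x3649031e000117a1389e389d16260530466da0062a303f113786) (.leaf 0))) (.node (.node (.leaf 0x44880faf00000cf40ff9201c1a7105118c75d1b82dc02658655a) (.leaf 0)) (.node (.leaf 0x2b4e21020000243347880870124505d3480f33304403d5025586) (.leaf 0)))) (.node (.node (.node (.leaf 0x324f282300000814187b187a146405f3f726666641964d62124d) (.leaf 0xf804fe2000141132898082008b10417a816345c2ae435262295)) (.node (.leaf 0x44a7192200011d9440d733731a7204f2731084b37de58b12d486) (.leaf 0))) (.node (.node (.leaf 0xa89257c000112202f3626e806d20533b25e93d61fc51d18b295) (.leaf 0)) (.node (.leaf 0x33c634bc00012bb02d294cca149604d51774b5ce5e74ea28f32d) (.leaf 0))))))) (.node (.node (.node (.node (.node (.node (.leaf 0x31225d5000000af0272027104a28453bc2597fa1b51a2333786) (.leaf 0x91d015600012ecf44ea1e0906a285b01f33a00608550a3332cb)) (.node (.leaf 0x23a024f7000014212a250bc20ef20413a73d43d379170d333025) (.leaf 0))) (.node (.node (.leaf 0x159f2fdf000109e21d151d140ab185f4a57da62d25c242124149) (.leaf 0x18b60836000047a451514f1f0c3584d0c049d2f222432a214180))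 (.node (.leaf 0x1bbe24b800011ff8401e438b0cb285d3a249a4d83e22f070b124) (.leaf 0)))) (.node (.node (.node (.leaf 0x544334401c00000526105610551a4384961b6c81e249414d51870b) (.leaf 0x3fc03229000038e6281d513e18950414d55b50cd38817815632d)) (.node (.leaf 0x1b283341000019d03beb3bea0ca20514f30386ae74f07570b124) (.leaf 0))) (.node (.node (.leaf 0x2855073100010ed3289c289b10c584b0aa1d335d7d430270a586) (.leaf 0)) (.node (.leaf 0x14944f4a000126e2499640ff0a918497994dc75c21a63c025428) (.leaf 0))))) (.node (.node (.node (.node (.leaf 0x359b4b84000002e10991099014f18577381a14b305457d295537) (.leaf 0x216a43890000337a4d0849ee0ea70556705773841433472cb049)) (.node (.leaf 0x38c139c2000116e8378d378c16740435850a71fd7706b570b24d) (.leaf 0))) (.node (.node (.leaf 0x311903de00000c5723132312144185305777b3b62af5626de734) (.leaf 0)) (.node (.leaf 0x2ff93c480001234f46b83b5e12f68535c22ce10c37730b15f518) (.leaf 0)))) (.node (.node (.node (.leaf 0x100000ce0000077f16e116e008c104101076072b29b14570a2cb) (.leaf 0x2fc523fb00003f3b415d405a12f504b39174a62713555f124156))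 (.node (.leaf 0x227d276b00011cd6277128a90ec785b3e248d1f746f43b4287d9) (.leaf 0))) (.node (.node (.leaf 0x49e3348c000011742def122f1c560475116e530115e0d828f180) (.leaf 0)) (.node (.leaf 0xcc1468900002aa24224475c08360436bf5673b35c230b7b2214) (.leaf 0)))))) (.node (.node (.node (.node (.node (.leaf 0x87442ca000001c5060e060d068784965b4af6b30186f853718b) (.leaf 0x373b0176000131024a31131c16438570224a966c5a066e486335)) (.node (.leaf 0x4ef62c4500011576333b2ca01e3584d4562ba34c3c840d786180) (.leaf 0))) (.node (.node (.leaf 0x253717de00010b1c109f2011104384f2535fd6f90df3b07bd12d) (.leaf 0x46d94bc400004e5952734de71ab485373e3a75d37b029154668a)) (.node (.leaf 0x151c448c000021a3451b16200aa185968574a3d631d55f124149) (.leaf 0)))) (.node (.node (.node (.leaf 0x32940e960000064f139f139e147184916836e3a81902e7786537) (.leaf 0x3b97357d00003bd7527c3f6916f184f5286ca47f59557d295537)) (.node (.leaf 0xcfe386f00001b46224f3deb083785d5667f616e4ac5bc41d333) (.leaf 0))) (.node (.node (.leaf 0x161d2cfe0000102209e204240ac185b4667c941205372c70a2cb)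 (.leaf 0)) (.node (.leaf 0x138153bc000128bc4af7062d0a740438036083563544d97d924d) (.leaf 0))))) (.node (.node (.node (.node (.leaf 0x3a9b2ea4000004010cf90cf816d18574893603b336d48c428734) (.leaf 0xe5468e000035ff440c511c045704b6bf7c614637569c537333)) (.node (.leaf 0x14e830010001185339bc39bb0a970514aa08c8070c624b02518b) (.leaf 0))) (.node (.node (.leaf 0x2fc83bed00010d95043325de12f50515b95ad61252d74d124518) (.leaf 0)) (.node (.leaf 0x3a6003470000251a46c4460116c704104e3935f41a943b428335) (.leaf 0)))) (.node (.node (.node (.leaf 0x442c1717000008ac1a0b1a0a1a6205923d3ae3986d9027546537) (.leaf 0x19c7124400004301390e39e30c5604f1c726b3017164a328f41d)) (.node (.leaf 0x37d01ec000011e5f399b275f165484130608f5a97cb1b15be68a) (.leaf 0))) (.node (.node (.leaf 0x34ec0ae1000012ce3074307314d70591060503e437546c32d333) (.leaf 0)) (.node (.leaf 0x28db1b6000002cb94d574d5610d58572af01730078a3d970a586) (.leaf 0)))))))) (.node (.node (.node (.node (.node (.node (.node (.leaf 0x27250a750001006a001b018610a304b0fc13f0c41096fe180546)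 (.leaf 0x4726115900012e444e2409321ae304d1b23e25213e37e20005be)) (.node (.leaf 0x23c74161000013cd0f8f23d10ef504f63d0e80122e632a214025) (.leaf 0))) (.node (.node (.leaf 0x3393459e000109960c951c5314928476a26691e03060135fc428) (.leaf 0x727127d000046654ada4d73066504f1d07533a8201154295486)) (.node (.leaf 0x253f33c500001f95431b1d15104385f4fe2a965575f7187bd12d) (.leaf 0)))) (.node (.node (.node (.leaf 0x305e3d1b000104de090d0f84142685d5d64e30a30885c31132cb) (.leaf 0xc502e4a0001383d4efe3f0108268414815cd4570406e915f734)) (.node (.leaf 0x22922fb40000196f3b5f26f20ed18454a02016a964058e428124) (.leaf 0))) (.node (.node (.leaf 0x517f0c5000010e8127ea27e91e8685f12c00d2a27cd4a324d70a) (.leaf 0)) (.node (.leaf 0x4848114d000026741e8237121c240511b06d20815967f970b7b2) (.leaf 0))))) (.node (.node (.node (.node (.leaf 0x145452f80000029a08b108b00a858497f03fd49005472e7bd32d) (.leaf 0x50ed2877000032e035822dd51e7605b3ff2fd25721e2ad1137bd)) (.node (.leaf 0x18903d910000169136fc36fb0c348415e01db3875bb70d33315f) (.leaf 0))) (.node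 (.node (.leaf 0x47193e3100010c041b13224e1ae28535ec144222173027546537) (.leaf 0)) (.node (.leaf 0x1b1d2d95000122df45243a130ca185b4712c60f94ce2e72cb180) (.leaf 0)))) (.node (.node (.node (.leaf 0x4fcd149f00000733160d160c1e5405b2007f35163bf03b5fc15f) (.leaf 0x46511e5800003e5151312a8a1aa48432fb32f5ac26602754668a)) (.node (.leaf 0x48a1219300001c783f653f641c330433571870890f6283786049) (.leaf 0))) (.node (.node (.leaf 0x31f32fe70000111a2d3f098d14568474a74fe78f4ae6d024d295) (.leaf 0)) (.node (.leaf 0x367e3a8300012a2a27b54bee162785d59529076621657d149621) (.leaf 0)))))) (.node (.node (.node (.node (.node (.leaf 0x1c9f24b40000017f052a05290cd185f3a23a54d874558e428124) (.leaf 0x33634a9e00013074486b4f3414870477225d250f2c34cc6de18b)) (.node (.leaf 0x1c8f33400000152034b834b70cd105f4f300c5a23156f1428262) (.leaf 0))) (.node (.node (.leaf 0x4983313300000acd1f4c1f4b1c510474c127c0da3f064f486124) (.leaf 0x2c361dcf00004c6e3af436b5126284d2e57e610c0ca3227d9518)) (.node (.leaf 0x109521a0000121390b973d3308d184b3590844314f772c2c72cb)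 (.leaf 0)))) (.node (.node (.node (.leaf 0xc54327e0000060512ce12cd08268494df78c01d16755c15f214) (.leaf 0x33ff29ac00003b0a50b946f5149785f41c5952ea4c24186de18b)) (.node (.leaf 0x4b0216f300001aee290d1ebf1c8104523b19967850271c4862c7) (.leaf 0))) (.node (.node (.leaf 0x45cb32ae00010fce0a7d2aa21a950574e47560cd36f67e156428) (.leaf 0)) (.node (.leaf 0x15cb0c81000028444aa605980ab405713013b01e13174704968a) (.leaf 0))))) (.node (.node (.node (.node (.leaf 0x35b904f9000003ba0c250a5414f385306f5d54791ad1cd7345be) (.leaf 0x446a3a7d0001356950ef50601a6705559474f7ef1681470005fc)) (.node (.leaf 0x2d8c3439000017fc3937393612b205950946b3300ad36b7d9000) (.leaf 0))) (.node (.node (.leaf 0x1b2131c300010d41252525240ca20434cd1626ae5786b570b124) (.leaf 0)) (.node (.leaf 0x777129a000024a347dc39f8066784f1d35582e91840b07345fc) (.leaf 0)))) (.node (.node (.node (.leaf 0x4abe457e00000860165519421c7285d6a06043fb1e97fe3357bd) (.leaf 0xf6e0bec0001420e439c4d4608a605d11f6ce06433d30a15f214)) (.node (.leaf 0x202b232e00001df9413732510e8205737a5222a23c42fa5fc2c7)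 (.leaf 0))) (.node (.node (.leaf 0xdb12acf00011275205a2fd608758434397f71b864e27018055a) (.leaf 0)) (.node (.leaf 0x30541a3a00012c394a794d11142684928c5e57fa09318a68a786) (.leaf 0))))))) (.node (.node (.node (.node (.node (.node (.leaf 0x512f480c000000f3035d035c1e8205f6e167d2a27270135fc70a) (.leaf 0x37e39e800012f5841c3484504a785d58843605b21d0b021470b)) (.node (.leaf 0x2e383de800001475336214ee12c38515e651c2eb44f14570a546) (.leaf 0))) (.node (.node (.leaf 0x4225514800010a2e1dd51dd41a2304b7c832c5a3461048586333) (.leaf 0x3984132d00004906465153df16920491dd72075c51105e5fc428)) (.node (.leaf 0x3be04c61000120553f0b045016f604174e0805bf3fe18a11355a) (.leaf 0)))) (.node (.node (.node (.leaf 0x4aba481900010570112b112a1c728556e350909e648234335025) (.leaf 0x50c43975000039974ea90caa1e7504957c1c93d33c62672957bd)) (.node (.leaf 0x2701209e00001a2f3c6d3abc10a204333a7996ee50e30d049000) (.leaf 0))) (.node (.node (.leaf 0x1b3448c800010f25294b277f0ca28496f353027f2b956e70b124) (.leaf 0)) (.node (.leaf 0x4f1043f80000275c32de49f21e4184167a56172411f33e537124)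 (.leaf 0))))) (.node (.node (.node (.node (.leaf 0x97b2b00000003280a6d0a6c06a78574400881a723260073470b) (.leaf 0x1d64e9705e800003430508a1e031e3284f08d4780da0316cd621262)) (.node (.leaf 0x19a84d8900011741381c09cd0c5505176c4fd5a26700ba537262) (.leaf 0))) (.node (.node (.leaf 0x45a948e600010ca5155e1ef81a930536f51e142665f14d51818b) (.leaf 0)) (.node (.leaf 0x5e85221000123b6471e471d04f50517da06271166d628786537) (.leaf 0)))) (.node (.node (.node (.leaf 0x496438b5000007c917a917a81c4604956b3df34c1195cb24d41d) (.leaf 0x206c1f3b000040334a75532f0e860593154ff43f6d771324d2c7)) (.node (.leaf 0x272812c500011d3440611acd10a30511d62ac55663037b18012d) (.leaf 0))) (.node (.node (.leaf 0xd810bae000011c82e952e9408740431177316ef7c030d04924d) (.leaf 0)) (.node (.leaf 0x326b1d6c00012b2d41ff1b7714670572dc53b7ef1520347865fc) (.leaf 0)))))) (.node (.node (.node (.node (.node (.leaf 0x4b7621d70000020b06f106f01c8684d35c5923fa42a1e824d70a) (.leaf 0x28174df1000031a433a4191010c184f7761e960b0ef2d92c7000)) (.node (.leaf 0x530531f8000015d7182b35e11ec204b4d142c18242b4502ab41d)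 (.leaf 0))) (.node (.node (.leaf 0x4c623f3100010b6a20ce20cd1ca60456050e16ae3e83c768a262) (.leaf 0x3dd14445000151653da64bf518558436813635715b814d156786)) (.node (.leaf 0x514f49be0000220521f845881e8505f70e7a32117cd0ff55a70a) (.leaf 0)))) (.node (.node (.node (.leaf 0x46cc046e0001069a1470146f1ab40590666f413415502754668a) (.leaf 0x2e2e104200013c92483e279112c305d19a0f11940321cc2c7546)) (.node (.leaf 0x7a4ac800001ba90db43e6704478557271ae5a314264f537333) (.leaf 0))) (.node (.node (.leaf 0x1a644bf5000110732bfd2bfc0c860497424483fa3ac56024d2c7) (.leaf 0)) (.node (.leaf 0x4ce04de200002935352e4b471cb60417751c40875aa2ad113262) (.leaf 0))))) (.node (.node (.node (.node (.leaf 0x37c93cea000004490dd50dd416540535d25685af38b4045fc113) (.leaf 0x3c2d1111000036b74c6e45b2182305b1ad0bc7dd61a7b5000335)) (.node (.leaf 0x4b41878000118b92d82194904d38492612d016e5a00de32d335) (.leaf 0))) (.node (.node (.leaf 0x433c09b800000de3268f268e1a438590e95a837612104751870b) (.leaf 0)) (.node (.leaf 0x2d40437800002588223a373f12a604166f2e045a27b2947b2586)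 (.leaf 0)))) (.node (.node (.node (.leaf 0x1d5d47d3000108f91acb19b20ce585b6dc1142576c85b47347bd) (.leaf 0x43b939850000441453974cdc1a5385357e4212a63c514d51870b)) (.node (.leaf 0xd1e27dc00001ec513214239086485d3ec62452573770704928f) (.leaf 0))) (.node (.node (.leaf 0x23b63d7d00001320311531140ef284d5dd6340122e64b5333025) (.leaf 0)) (.node (.leaf 0x27073aac00002d2c4d9945f310a204f5976857087da7077d9000) (.leaf 0)))))))))

/-- part of a table -/
def entries78 : Trie := (.node (.node (.node (.node (.node (.node (.node (.node (.leaf 0xcc6085b0000002800980097083604d0c767306421b62315f214) (.leaf 0x4cfd35f300012db945c03bae1cb685b5311606ae11b18a68a262)) (.node (.leaf 0x10351ce30001137731c40f7008c384b2cf2ec7441c472c70a621) (.leaf 0))) (.node (.node (.leaf 0x3e963e1d000009481b931b92187184d5e96dc1b80787b658655a) (.leaf 0x7e249600001454f21c630e6067704570102f11d64b4162145be)) (.node (.leaf 0x4c6a1ab200001f2a42ab295b1ca605529a0b64d80415c368a262) (.leaf 0)))) (.node (.node (.node (.leaf 0x31d92708000004920eb10eb014548533db4bc5734d01775be68a)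 (.leaf 0x17460d250001378216e22fdb0ae404d13f40c1fd1584b104924d)) (.node (.leaf 0x3da80484000119163ad70405185305106833677c6c63da156621) (.leaf 0))) (.node (.node (.leaf 0x4b140f4d00010e32046827431c8184917e72a6785020ba4862c7) (.leaf 0)) (.node (.leaf 0x1c79506d000125fd115748db0cc78537b367f3846f646c4287d9) (.leaf 0))))) (.node (.node (.node (.node (.leaf 0x62940850001025307d607d506450536253067ed0664a66de734) (.leaf 0x37ef237e000132404d7b4fea165605f3836143ce2a30cf28f295)) (.node (.leaf 0x10052adb000016303666366508c104b43a6480a35d56d870a786) (.leaf 0))) (.node (.node (.leaf 0x30d90a4300000bbb2195008814368530f82545711fc18a68a786) (.leaf 0)) (.node (.leaf 0x220c4fd90000227245ea125a0ec10597a73935a20bc43b428124) (.leaf 0)))) (.node (.node (.node (.leaf 0x1ec708f9000106e5153f153e0e3604f0d94ad0117cc13768a124) (.leaf 0x14c410b600013d7051284aa50a950491a51aa1e07b1714025428)) (.node (.leaf 0x636524000011c0e2b261a3b064584d7df0772d221b3456de214) (.leaf 0))) (.node (.node (.leaf 0x284a1abc000110c92c9a2c9910c505529a52633462c7612c7586)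 (.leaf 0)) (.node (.leaf 0x488b52d2000129af40964b971c320577ec2096a97f764d70b124) (.leaf 0)))))) (.node (.node (.node (.node (.node (.leaf 0x22d03b9e0000013a044404430ed48415b031c1b73a261d18b15f) (.leaf 0x46702b4500002fe24eed21291aa78414442b966c126048586333)) (.node (.leaf 0x346b1e24000014cd3159342314c70572f534f4235446f132d335) (.leaf 0))) (.node (.node (.leaf 0x42c0319b00000a7e1e8e1e8d1a340414c85dd1342593f4546113) (.leaf 0x2bcf24ea00014ab1519d53e9125505f3a65bd6fa47e7777bd586)) (.node (.leaf 0x28eb170f000020c94285230510d705723c7941e369f1cc70a546) (.leaf 0)))) (.node (.node (.node (.leaf 0x22143e22000105bb120212010ec18495eb0fe6ae74246c428262) (.leaf 0x1b4f013800013a4d3cfb27c00ca405f01b26607f37a64d6217b2)) (.node (.leaf 0x45ff410700011a8d35d73cf71a9785f6323107854c27db15618b) (.leaf 0))) (.node (.node (.leaf 0x234b438300000f7d29f729f60ee50576702c11ca35a32a214025) (.leaf 0)) (.node (.leaf 0x1fd346f3000027cf15913d0b0e568476c81b334c1886d024d41d) (.leaf 0))))) (.node (.node (.node (.node (.leaf 0x8163f69000003720b4c0b4b068284d6096d50054920c95be428)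 (.leaf 0x5bf4d9a000034c03b663e4304f385f76f53d7ac05c1c82cb5be)) (.node (.leaf 0xdaa0f9c000117a20819389f08750551897653d01905ff18055a) (.leaf 0))) (.node (.node (.leaf 0x15ab1eed00000cf5247324720ab3057309797487217132180335) (.leaf 0)) (.node (.leaf 0x88d3c2b0001243347891692069205b5c056822809005e5fc428) (.leaf 0)))) (.node (.node (.node (.leaf 0x32d350b000108140266187c04a305b51e6b1508461265149621) (.leaf 0x30100cd0001411534d715db04a20430106a272b20a50a3332cb)) (.node (.leaf 0x4b3051de00001d951e8c14811c828417d372f2f862503b5fc70a) (.leaf 0))) (.node (.node (.leaf 0x4cd61106000012212f382f371cb484d1ac28114a6332f933515f) (.leaf 0)) (.node (.leaf 0x8df51a300002bb336b01049069685f7ce1b33995484ea24d32d) (.leaf 0))))))) (.node (.node (.node (.node (.node (.node (.leaf 0x1e2507e7000100af027402730e2504b0b92b36c35c432b73441d) (.leaf 0x30ae030000012ed138144e69143305d04506e3763556ad734621)) (.node (.leaf 0x7f34d7a0001142132e5315d067784776b5b84797786ad7345fc) (.leaf 0))) (.node (.node (.leaf 0x44843a66000009e31d171d161a7104959321f5bf0097c45866de)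 (.leaf 0x441b05b7000147a4246129f51a6185708631559c5981470006de)) (.node (.leaf 0x240505f400001ff9286e438c102204b08f1f830078a65e049586) (.leaf 0)))) (.node (.node (.node (.leaf 0x34ae1a91000105261058105714d205d29707001922a6182ab295) (.leaf 0x24874b19000038e751e10955103204f72f46633440034d7d9000)) (.node (.leaf 0x17781c6c000119d134d33bec0ae68512c45c17e41733c115f537) (.leaf 0))) (.node (.node (.leaf 0x4e69537500000ed4289d11581e250537fd2bb2f23d81ea786180) (.leaf 0)) (.node (.leaf 0x14ae4739000026e311a446570a9305d6ce5bd4265927777bd18b) (.leaf 0))))) (.node (.node (.node (.node (.leaf 0x3d693a82000002e207cb099218470535950c05083a014d15670b) (.leaf 0xc3410f90000337b30b63d8208258491aa47b35836d5c7262149)) (.node (.leaf 0xc16318c000016e93432202e082484d4c75c00f044a74704968a) (.leaf 0))) (.node (.node (.leaf 0x223a421400000c58231523140ec285564923d30f6173b818b180) (.leaf 0)) (.node (.leaf 0xd6625a80000235038162eca086704d3b74547ac0703142625be) (.leaf 0)))) (.node (.node (.node (.leaf 0x194622140001077f16e316e20c4604d36320c2da22469528f180)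 (.leaf 0x8f60d2000013f3b4c7a44bf069784d13f0362ea35266448618b)) (.node (.leaf 0xee14ea400001cd73feb1e54089704378a14e38a50b63c7bd18b) (.leaf 0))) (.node (.node (.leaf 0x5114567000111742df12df004e284369f23a65a19956e70b6de) (.leaf 0)) (.node (.leaf 0x1922519143300012aa21930375b10418531f92467083eb179025000) (.leaf 0)))))) (.node (.node (.node (.node (.node (.leaf 0x3cc8181b000101c5007c060f18340512584f850128141f12d113) (.leaf 0x1c143041e0d000031044f7530181a410492ed6eb00655515d5182cb)) (.node (.leaf 0x4cd01a7f00011577222710e31cb48412937801b74514da33315f) (.leaf 0))) (.node (.node (.leaf 0x3b23493500000b1d1ff2201216e30476fd20a3ee56c0b02145fc) (.leaf 0x1b8131c000014e5d43c140240cb10434cd00a30171621c78641d)) (.node (.leaf 0x19aa1e80000121a3451c35d50c550552fe03627f2b9664486124) (.leaf 0)))) (.node (.node (.node (.leaf 0x2d3d36e10001064f13a113a012a385b5420b536556737b41d12d) (.leaf 0x484f286900003bd841624d711c2405f3fe4385165b32216217b2)) (.node (.leaf 0x18573bb900001b47200a3dec0c2684f5b53555a22d64e1113262) (.leaf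 0))) (.node (.node (.leaf 0x19cb1d2e000110222b562b550c560572d474b12710a4ea28f180) (.leaf 0)) (.node (.leaf 0x3ee33094000028be4af94af818770474b61332e94994e25865be) (.leaf 0))))) (.node (.node (.node (.node (.leaf 0x27d30b480001040101250cfa10b684710f51f70857f6237b2586) (.leaf 0x3e213b00001360116ae505504b70451f01511e263854a73470b)) (.node (.leaf 0x4b8137350000185438ca39bd1c9104354b2ca27d4c45385372c7) (.leaf 0))) (.node (.node (.leaf 0x40cd392500000d9625e025df18b405b5774f850153017a12d68a) (.leaf 0)) (.node (.leaf 0x47952a6b0000251b482d482c1af284b4305f916656b790546486) (.leaf 0)))) (.node (.node (.node (.leaf 0x2ea50a74000108ac1a0c108612d304b0fc0f22356d41112c712d) (.leaf 0x2d0c23b400004302525c537d12a205938b2db5f815e32e7d9000)) (.node (.leaf 0x4a6f425900001e600bad41c11c6605f64e5353d342209568a025) (.leaf 0))) (.node (.node (.leaf 0xf780236000112ce3076307508a685103144c01d53134415f734) (.leaf 0)) (.node (.leaf 0x48f3cfc00012cba33544b3704d205f5d46a07bc2c16182ab295) (.leaf 0)))))))) (.node (.node (.node (.node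 (.node (.node (.node (.leaf 0xe402b1d0000006b0188018708850414414112ef7fd63c025428) (.leaf 0x4092227e00002e453f7d34b518b184536c7b33ba2dd3bd586295)) (.node (.leaf 0x44fa03ed000113cd32521ba61a778550587457ac6a71470005fc) (.leaf 0))) (.node (.node (.leaf 0x16ef1c6d000009971c551c540ad705f2c46462a63a051370a70b) (.leaf 0x4be4d9c000146684671071804d385d76f60d7a23c558e428333)) (.node (.leaf 0x512010a200011f9535d22f591e820411a33242117464765be70a) (.leaf 0)))) (.node (.node (.node (.leaf 0x47212f37000004df0f860f851ae30434944ce25f00d4015865be) (.leaf 0x24661cb40000383e3bda330c102704d2ca2a865519d5ed41d12d)) (.node (.leaf 0x16d93b79000119703b613b600ad58535aa27824862e1112c72cb) (.leaf 0))) (.node (.node (.leaf 0x30c7247500000e8227ec27eb143604f39c26f43102f61368a786) (.leaf 0)) (.node (.leaf 0x1d0e1fbc0001267433ef44b00ce105d32048e3cc004545295025) (.leaf 0))))) (.node (.node (.node (.node (.leaf 0x49ca2ff90001029a08b308b21c540554a951407f2b70435be15f) (.leaf 0xbbe3b01000132e035da1fe606f385d59f09928426b3477865be)) (.node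 (.leaf 0x501f12b00001169111df36fd1e6185f1d506e14f1896ad7347bd) (.leaf 0))) (.node (.node (.leaf 0x3dce1aa600010c052250224f185505d2993e12c27264a1518786) (.leaf 0)) (.node (.leaf 0x1664f071e01000022e0172109701e4104f2ed2005a2031227537262) (.leaf 0)))) (.node (.node (.node (.leaf 0x46a435ed00000734160f160e1ab20495305dd01d04e17a546214) (.leaf 0x4f874b1100003e534d7652341e5104f72f05572411f2a7537124)) (.node (.leaf 0x291918a400011c783f66264a10e18532663e86d642965341d156) (.leaf 0))) (.node (.node (.leaf 0x248e2c5a0000111b2d412d40103205d4584a53343dd36a7d9000) (.leaf 0)) (.node (.leaf 0x531345be00002a2b24c64bef1ec28476a57701274c929818b180) (.leaf 0)))))) (.node (.node (.node (.node (.node (.leaf 0x4c6d50e200000180052c052b1ca605b7c11212e17bb2ad113262) (.leaf 0x4ab5211e000030753eb34f351c7284b34978e29f76029c333025)) (.node (.leaf 0xd5b4be00001152034ba34b908668577410324b355e2f17b2537) (.leaf 0))) (.node (.node (.leaf 0x411f140b00010acd1f4e1f4d18e285f1f571268d0771e4546486) (.leaf 0x6782a1000014c7a3f3b525a064785142a09016e20569c537333))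 (.node (.leaf 0x317e03150000213a393e409a144685d04624f3582c96d024d295) (.leaf 0)))) (.node (.node (.node (.leaf 0x2b0d39d60001060501c212cf124105b5873fd30c65b72e7bd000) (.leaf 0x207260b045900003b0b43f5525810610570654540b3439314262518)) (.node (.leaf 0x34ac356600011aef2f733d7314d205952734914832961d18b149) (.leaf 0))) (.node (.node (.leaf 0x4a522ed800000fcf2aa318571c6584548d33f69a76b57d1497bd) (.leaf 0)) (.node (.leaf 0x26b60e95000128454a9b4aa7107284d16834e0b37be4b1049156) (.leaf 0))))) (.node (.node (.node (.node (.leaf 0x46742287000103ba0c270c261aa784936d53c17223b164586335) (.leaf 0x4b820d420000356a50f150f01c9104514227c69880664f48670a)) (.node (.leaf 0x1cdc3d3a000017ff28b239380cd48595d82be1205eb51d18b7b2) (.leaf 0))) (.node (.node (.leaf 0xf4b26f900000d422527252608a40573d84665504d134d7d968a) (.leaf 0)) (.node (.leaf 0x3cab2a7e000124a347dd32cd183305743271a5f41607b6586333) (.leaf 0)))) (.node (.node (.node (.leaf 0x3b353dd4000108601944194316e384b5e527511d5195b42145be) (.leaf 0x2d3029ba0000420f3d1e506912a384141e4072eb1c565341d546))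 (.node (.leaf 0x3cb52f9300001dfa414c0509183384b49e23e16e549026000335) (.leaf 0))) (.node (.node (.leaf 0xdfd0f920000127623782fd7087785b1891a528448055f1245fc) (.leaf 0)) (.node (.leaf 0x303b2b9200002c3a4c120c1114238574490e84f25654c5214621) (.leaf 0))))))) (.node (.node (.node (.node (.node (.node (.leaf 0x3bc41fd3000100f3035f035e16f40493231f176d08f54333328f) (.leaf 0x2ced1e3700012f594d1e4eaf127605b2f63ca3417512947b2156)) (.node (.leaf 0x4be6229100011475338612b71c9604d36e1ad1b422e69528f2c7) (.leaf 0))) (.node (.node (.leaf 0x18174aac00000a2f1dd71dd60c2484f7236343875bb12333315f) (.leaf 0x2be83df7000049084e6a481012570515e74dc759466179025546)) (.node (.leaf 0x142a43b9000120560b391a9a0a830556736392792f777702518b) (.leaf 0)))) (.node (.node (.node (.leaf 0x5b4f97250c00010571112d112c1e5184f3a95fe70315c3ef486262) (.leaf 0x17b1532000013997505b4b0c0af38437f40244796e574d2625be)) (.node (.leaf 0x3f4d08c100011a2f3c6f3c6e188505b0d50c07d128c12b15632d) (.leaf 0))) (.node (.node (.leaf 0x1fec003a00010f26113d231f0e5705900456b29e4f824055a049)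 (.leaf 0)) (.node (.leaf 0x418c41280001275c22c149f318f205963435e7e441379012d486) (.leaf 0))))) (.node (.node (.node (.node (.leaf 0x3ce70600000103280a6e01c7183504f09000145c103118586295) (.leaf 0x359d056e0001343025df508b14f185b0797d068d28a073149537)) (.node (.leaf 0x43eb371f00001742172d381d1a570575487564f24304a1156621) (.leaf 0))) (.node (.node (.leaf 0x3303c3800000ca623c123c004a38415c158c3ed03708a29570b) (.leaf 0)) (.node (.leaf 0x3edb4538000123b722f6471f18748576963314b82e565c54624d) (.leaf 0)))) (.node (.node (.node (.leaf 0x506403e000107c917ab17aa04e204d61e6447e85e775562155a) (.leaf 0x1e8d4c980000403743ca36ab0e3405b7523d46b767b70d33315f)) (.node (.leaf 0x39e6073700011d3534474062169704d0aa3857980033456de18b) (.leaf 0))) (.node (.node (.leaf 0x3d3d017b000111c82e972e96184385b02266305b5a012b156621) (.leaf 0)) (.node (.leaf 0x4bb3262800002b2e4c823c441c928473c354c6981ed0c95fc70a) (.leaf 0)))))) (.node (.node (.node (.node (.node (.leaf 0x139a4f0e0000020c06f306f20a7485579477e3824994f47d924d) (.leaf 0x4ddb4ab7000131a634f13d5a1cd48577265323876092982ab7b2))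 (.node (.leaf 0x3bee1509000115d7303f193f16f605d20a50707a5fe28768a55a) (.leaf 0))) (.node (.node (.leaf 0x24d824ee00000b6b20d020cf10368513a67ba6ee0e055c15f000) (.leaf 0x23a061424610000516c5365507e064484939b1d86e20385b25fc113)) (.node (.leaf 0x17ca3e69000122052ce845890af40555f040c1fd4ec74704928f) (.leaf 0)))) (.node (.node (.node (.leaf 0x65240f434c0000069b14721471102205f66957a6aa7974b17d9000) (.leaf 0x430e374b00013c944e4048ee1a4105d54c5a465633d47a156786)) (.node (.leaf 0x420705f000011ba93e693e681a2204f08f0294eb52c1e412d734) (.leaf 0))) (.node (.node (.leaf 0x3dc2692000010742bff2bfe04b68593cd25457102149768a2cb) (.leaf 0)) (.node (.leaf 0x30fa3715000029361674208f143785554829a5ea0522b629570b) (.leaf 0))))) (.node (.node (.node (.node (.leaf 0x99a177c000104490dd70dd606b285524969105f2bd7fe333786) (.leaf 0x340716f4000136b73231086a14c104f23b2855151a817432d214)) (.node (.leaf 0x12825293a01000018ba349e2698104305358a0dd39e52e50602512d) (.leaf 0))) (.node (.node (.leaf 0x34a64d2200010de30e2e269014d204d76316d3585b908e2ab295)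 (.leaf 0)) (.node (.leaf 0x14c52806000125883e5c48850a9504b3f34c775c7060db025428) (.leaf 0)))) (.node (.node (.node (.leaf 0x37680312000008fa1acd1acc16460510461006680d556024d149) (.leaf 0x486616cc000044155009396b1c2504d23853b18309840d786180)) (.node (.leaf 0x18a1083100001ec6423b423a0c350430c00936dd57932b21441d) (.leaf 0))) (.node (.node (.leaf 0x33e23a1d000013212e8d3116149704558c77178502d58055a2ab) (.leaf 0)) (.node (.leaf 0x3f4b05c500012d2c31f133df18850570882fe4e812e11a51832d) (.leaf 0)))))))))

/-- part of a table -/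
def entries79 : Trie := (.node (.node (.node (.node (.node (.node (.node (.node (.leaf 0x251e0b5900010028009a0099104185d1104c43003dd7187bd000) (.leaf 0x35312cc100002dbc1858297514e38434610530f40685ae7345fc)) (.node (.leaf 0x46d27c600001379090331c504c505b3eb4727ff2aa0de428734) (.leaf 0))) (.node (.node (.leaf 0x53393de7000109481b951b941ec38535e64bb4d46c11ee428049) (.leaf 0x434b2bd00001455153af4f221a4505744e00452a5e45811562cb)) (.node (.leaf 0x56809f300011f2a0abd42ac04e50510ef39122217379c2cb537) (.leaf 0)))) (.node (.node (.node (.leaf 0x3ea0192a000004930eb30eb218720412733aa7e43f741f12d537) (.leaf 0x4b991661000137834bf04ec41c9185322b0b750c7d55384862c7)) (.node (.leaf 0x41e12357000119173ad8357f18f504337e4330d004613e0006de) (.leaf 0))) (.node (.node (.leaf 0x174027e600000e33274527440ae40413f03593563523b17d924d) (.leaf 0)) (.node (.leaf 0x44d008b700012600196941461a748410d432f63740f1a454628f) (.leaf 0))))) (.node (.node (.node (.node (.leaf 0x35c737c40000025407d807d714f404f5553a06666694b533324d) (.leaf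 0x14b91399000132424ea745db0a938531eb4df80743271402518b)) (.node (.leaf 0xb740890000116311b8a366706e58490d204e6cf7b11ea786486) (.leaf 0))) (.node (.node (.leaf 0x8d211e3c0000010bbb141f17250ea185d5bb0400f95da25a2cb41d) (.leaf 0)) (.node (.leaf 0x4b7e3bec00002273418445eb1c8685d5b957e2f852d6d024d70a) (.leaf 0)))) (.node (.node (.node (.leaf 0x2754179f000006e61541154010a684924c5cd60b7d429415f586) (.leaf 0x1122268c00003d7252c6133e08e30453ca6417ac20f66a2625fc)) (.node (.leaf 0x2b611a3500001c103ee23ee1124704328c3fd63657a72e7bd546) (.leaf 0))) (.node (.node (.leaf 0x48f64a57000010ca2c9b22441c3584d71e57759b7ce3472cb180) (.leaf 0)) (.node (.leaf 0x5d3330e000029b247b8161c04f48474ed6e171b5686cd70b24d) (.leaf 0)))))) (.node (.node (.node (.node (.node (.leaf 0x4afe4c320001013a044604451c7685d7491931e645b6131137bd) (.leaf 0x32552da000002fe3163d4eee146484b47223a63734944b70b24d)) (.node (.leaf 0x4d96459a000014ce261d34241cd284d6a25321822742982ab180) (.leaf 0))) (.node (.node (.leaf 0x16953f6000010a7e1e901e8f0ad184b6091812482b33022c7786)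 (.leaf 0x31d7520100014ab7348c4d2f145484f7d706b5d32c86c55fc68a)) (.node (.leaf 0x1a7d47d7000120c9432a375d0c8685b6dc21219c63f56028f2c7) (.leaf 0)))) (.node (.node (.node (.leaf 0x612588037f000005bc1204120310510510517df6ee3cd7147bd000) (.leaf 0x39e91a5400003a5044bc18a6169705329023838a2e24fa55a18b)) (.node (.leaf 0x14d50e6700011a8e3cf822e40a9584b1634df0cd1bb714025428) (.leaf 0))) (.node (.node (.leaf 0xc7110f000000f7e29f929f808278431aa04176402841441d335) (.leaf 0)) (.node (.leaf 0x32b9050c000127cf10843d5214728530705de7e85637f962155a) (.leaf 0))))) (.node (.node (.node (.node (.leaf 0x188021b6000103720b4e0b4d0c3404135a5281dc3663fc3357b2) (.leaf 0x127a230e000134c034de4fb10a27855377797487196132180335)) (.node (.leaf 0x17122e90000017a31df210340ae18454880312376545ed1806de) (.leaf 0))) (.node (.node (.leaf 0x6b81b2800010cf524741b0106558512a92307ff1284206de214) (.leaf 0)) (.node (.leaf 0x1020205400002434478a0fd608c30413321d06021936d870a70b) (.leaf 0)))) (.node (.node (.node (.leaf 0x4862476200000815187e187d1c250456d30992f20ad24778641d)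 (.leaf 0x28e800ff00004116524a504110d70510167010c40566192c712d)) (.node (.leaf 0x290517c200011d97383740d810e104b2520ab75852f414180518) (.leaf 0))) (.node (.node (.leaf 0x2e042d000012222f392170044505d06164311e0a24636de214) (.leaf 0)) (.node (.leaf 0x2dab52af00002bb44ccb39c512b30577e78082357105ff18012d) (.leaf 0))))))) (.node (.node (.node (.node (.node (.node (.leaf 0x33cd1706000000b002760275149605b23c3c039965471324d428) (.leaf 0x2bbe17ad00002ed219004211125385d24f74663644f6b47bd546)) (.node (.leaf 0x3ae40a58000014221bb8067616d70490fa4b642312543b32d335) (.leaf 0))) (.node (.node (.leaf 0x53bb09cc000109e302fc1d181ed38570eb69608942e6264287d9) (.leaf 0xc9135d1000147a5246253c8083484352f06c5ac43830d7d968a)) (.node (.leaf 0x52834b6a00011ffb438d1cd71eb10477364360f9023195214180) (.leaf 0)))) (.node (.node (.node (.leaf 0xe771edc00000527105a1059088784f3075fd50f61c2e47bd2ab) (.leaf 0x35ad3032000038ea51e22ed814f305b4ad09332861b32b2145be)) (.node (.leaf 0x3d7115a7000019d33bee3bed184784321935a05b60404715670b) (.leaf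 0))) (.node (.node (.leaf 0x178c213f00010ed420b1289e0af105934e78a59c21027a41d6de) (.leaf 0)) (.node (.leaf 0x1c4d0005000026e52fd7328e0cc405b00126314b0b85742ab15f) (.leaf 0))))) (.node (.node (.node (.node (.leaf 0x40b2c62000102e20994099304c20574590863ba1c061818b295) (.leaf 0x4f0b37550001337b504e21101e4105754d3f626e57f2a7537124)) (.node (.leaf 0x118370132ff000116eb32f91d2516410434ec7935762904fa6de734) (.leaf 0))) (.node (.node (.leaf 0x4073201000000c592317231618a784732901b5f416a7e2586333) (.leaf 0)) (.node (.leaf 0x312c040a000123502bfe0c7c144305905c39c48761a6be537335) (.leaf 0)))) (.node (.node (.node (.leaf 0x18e621b20000078016e516e40c3704d35a1d72b04b026a149049) (.leaf 0x310d0b8300013f3f496e530c144105b11517c6cc77524055a734)) (.node (.leaf 0x315b44df00011cd709c73fec144485768e7ec5736a20135be113) (.leaf 0))) (.node (.node (.leaf 0x2c2f2170000011752df32df2126205f3540d76127944f4049518) (.leaf 0)) (.node (.leaf 0x3c607a000002aa345974c3d04b604d0b509c57141c61368a786) (.leaf 0)))))) (.node (.node (.node (.node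 (.node (.leaf 0x221e3c0b000001c6061106100ec185d5bb5a131b5d802032d124) (.leaf 0x538b358f00013104276a23021ed20575297370721f00392ab180)) (.node (.leaf 0x3e4b1d6900001578354d2cc418640572dc4711fd40680454628f) (.leaf 0))) (.node (.node (.leaf 0x46ee151500010b1d0361174f1ab705d20b3727a22bf7b6000333) (.leaf 0x8ac212200004e614d0f1730069305934b23838a56c46455a2ab)) (.node (.leaf 0x2dd01d5000121a40bbf451d049685b02b25375c3c27f828f428) (.leaf 0)))) (.node (.node (.node (.leaf 0x227042a70000065013a313a20ec784165819b0c87121ee428049) (.leaf 0x319738d300003bd94f2a527d145184f56d38545752c0ff6de734)) (.node (.leaf 0x380c045600011b47395c3ded16610590652fb4b3092628786537) (.leaf 0))) (.node (.node (.leaf 0x52fe410b00001023257f17451eb685d6324e36a97c55c3113262) (.leaf 0)) (.node (.leaf 0x2b2d1112000028bf2a384afa124305b1ad0c76360605067bd12d) (.leaf 0))))) (.node (.node (.node (.node (.leaf 0x413217e40000040209d70cfb18e38452541332e95194e25865be) (.leaf 0xcea2dcb000136033cce28f408370554745f03f11625bc180333)) (.node (.leaf 0x37433a4b0000185539bf39be164404759167d13478e12a5fc68a)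 (.leaf 0))) (.node (.node (.leaf 0x105927b200010d9625e11e3808c58533e92ec7fa75372c70a2cb) (.leaf 0)) (.node (.leaf 0x1c9843d80000251d1fb4482e0cd185167631872474f0cc32d124) (.leaf 0)))) (.node (.node (.node (.leaf 0x5381736000008ad03661a0d04e38512432a110720c2e72cb5fc) (.leaf 0x283617ee000143034062537e10c384d2545266bd0df2d92c712d)) (.node (.leaf 0x306638bc00001e6141c21b03142704d56b6ca3ed2c82b629570b) (.leaf 0))) (.node (.node (.leaf 0x1ce71725000012d03077045a0cd704f23e3601f75bb020428049) (.leaf 0)) (.node (.leaf 0x1374420800002cbc313718d10a6784964837807c6294351245be) (.leaf 0)))))))) (.node (.node (.node (.node (.node (.node (.node (.leaf 0x494e286b0001006b018a01891c4405d3fe50b51634e0135fc7b2) (.leaf 0x1a925c1505200002e4622ef4e2510550437b11356aa0ef7147bd000)) (.node (.leaf 0x5192071a000013ce325432531e918450a73fe50c52f64f48670a) (.leaf 0))) (.node (.node (.leaf 0x37f43824000109971c571c56165684956125308b1c07f828f295) (.leaf 0xbf70bba000046702618464f06f584f11953b6cf01a034786537)) (.node (.leaf 0x9182fdd00001f96431c30fd06a28514a573652a46229c333786)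 (.leaf 0)))) (.node (.node (.node (.leaf 0x3aea1652000104df0f880f8716d705522a0e766c09648c428335) (.leaf 0x1a00429f0001383e51b74a010c810416577d72114b705d55a70a)) (.node (.leaf 0x74c3559000019713b633b6206660595265655df59a40a11355a) (.leaf 0))) (.node (.node (.leaf 0x1b113e4600010e8227ed09150ca18435ee2a16dd65d2832cb41d) (.leaf 0)) (.node (.leaf 0x4923bc70000267536e632ba04d28455b618462d1226182ab295) (.leaf 0))))) (.node (.node (.node (.node (.leaf 0x30b514160001029b00da08b4143384b1f62b31e21b275073470b) (.leaf 0x363650f1000032e12c2d4144162384d7c20881a719a195734621)) (.node (.leaf 0x34894809000016920f6e22f314d10536e151206458943b32d214) (.leaf 0))) (.node (.node (.leaf 0x5341069400010c062251124a1ec404309b3a34ca1c26ba2ab7b2) (.leaf 0)) (.node (.leaf 0x478a3584000122e00c43465a1af20555291084b328a6b812d537) (.leaf 0)))) (.node (.node (.node (.leaf 0x2edd4ca300010734161006be12d585b75318130c11b72c2c7000) (.leaf 0x4f3450fa00013e5452e452e31e438497c24c818542e2b555a7d9)) (.node (.leaf 0x1507536200001c7910d32b100aa104f7fb0e06686152df124149)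 (.leaf 0))) (.node (.node (.leaf 0x3f124df60001111b2d432d42188184577648f2ef79a20e51832d) (.leaf 0)) (.node (.leaf 0x35e900f300012a2b31734bf014f60530161c40d005503f1136de) (.leaf 0)))))) (.node (.node (.node (.node (.node (.leaf 0x56f095a00010180052e052d04e505f0e35b907d4bf347786537) (.leaf 0x4a02051000030764f362add04d30413320923e45d10cc32d335)) (.node (.leaf 0x264904910000152131bb02ac106505306913f7584096fe180156) (.leaf 0))) (.node (.node (.leaf 0x202124f600000ace1ab518590e820433a73b91b97914045be70a) (.leaf 0x532c1c3d00004c804c972dc71ec30592c07323a45533cb428049)) (.node (.leaf 0x21291e610001213a44bd44bc0ea20532fc36c26e6a87f9621262) (.leaf 0)))) (.node (.node (.node (.leaf 0x51a317cb0000060612d112d01e9204725243450c4833465be70a) (.leaf 0x3321372600013b0b50303ee2148304354939c6071056be5372ab)) (.node (.leaf 0xb9119fd00001af03d753d7406f284328877d3d05d607570b6de) (.leaf 0))) (.node (.node (.leaf 0x172720b500010fcf2aa52aa40ae304f33c3e728e3e34de1245be) (.leaf 0)) (.node (.leaf 0x30a9048300002847468c1c9d143305306827577c5425ae214621)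 (.leaf 0))))) (.node (.node (.node (.node (.leaf 0x4f113880000003bb0c290c281e4184356806d2e10ce10e537124) (.leaf 0x415e35ac0001356a50f350f218e485d52c71271b4521e454628f)) (.node (.leaf 0xcc52b370000180024ef3939083604b4431395153973447b2734) (.leaf 0))) (.node (.node (.leaf 0x3d47155500010d4225280763184504f2102d472b20a7db5182cb) (.leaf 0)) (.node (.leaf 0x2db8161e000024a439f62deb12b385122367263644f653180546) (.leaf 0)))) (.node (.node (.node (.leaf 0x4ab3503000008611946194504d305751e2f65a3461020428333) (.leaf 0x4185038900014210475b3c7018f204b0523aa7e422917a12d486)) (.node (.leaf 0xe8200cc00001dfb414d22d5089104501062575c21a2e4025428) (.leaf 0))) (.node (.node (.leaf 0x4b7c046600011277289e2fd81c8685906620f6785027f828f2c7) (.leaf 0)) (.node (.leaf 0x46060d4d00012c3a4d1239e01aa104d14274578f5c24e2000149) (.leaf 0))))))) (.node (.node (.node (.node (.node (.node (.leaf 0x3c5b4e95000000f40322036018248577873676e26387dc546113) (.leaf 0x171719ff00012f5a123832920ae184f2888081b83885ff18055a)) (.node (.leaf 0x36df0ecc0000147633883387163685f16b5e60c32c13921132cb)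 (.leaf 0))) (.node (.node (.leaf 0x3a1e166d00000a301dd91dd816c185d22b7de06458939032d214) (.leaf 0x2230255700014909449050210ec28413ae4800ea5704502ab41d)) (.node (.leaf 0x26d3381e0001205743f12d24107584755e7ee1ef47313241d518) (.leaf 0)))) (.node (.node (.node (.leaf 0x2e824bb400000572112f112e12d104573d1de3300d32d970a000) (.leaf 0xdb01570000039994576520708758412150ab4953f741418055a)) (.node (.leaf 0x4ad5036d00001a303c7028251c7584b0506051ca1d0073149025) (.leaf 0))) (.node (.node (.leaf 0xcfd2a0800000f27294c1a1b083785b4293cf17253a653180335) (.leaf 0)) (.node (.leaf 0x2fcf15120000275e274f49f412f505f20b0ef10c69e78d262518) (.leaf 0))))) (.node (.node (.node (.node (.leaf 0x13b44416000003290a700a6f0a7584967c4530d00306fe18055a) (.leaf 0x368c52d800003431508c454616320597ec3d424872270d333786)) (.node (.leaf 0xa982bf600011742381f381e06d285145127378f25c61d18b149) (.leaf 0))) (.node (.node (.leaf 0x33ed405300000ca723c323c2149705b62023042608d4206de2ab) (.leaf 0)) (.node (.leaf 0x45f83afa000123b8438e47201a9785159e35b4266d515d51818b)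 (.leaf 0)))) (.node (.node (.node (.leaf 0x26b80500000007ca17ad17ac10728510700ae37f74169b7d9156) (.leaf 0x50923e1a00014037304451661e718455e95b81cb51c6ad7347bd)) (.node (.leaf 0xa0c213500011d364063147006c205934e3a36514ae6ba2ab295) (.leaf 0))) (.node (.node (.leaf 0xda31051e0e000011ca12242e98144104b2ed71e5155554a655a734) (.leaf 0)) (.node (.leaf 0x3b58301200012b2e438836b216e48514ab1dd71b0c63fc33328f) (.leaf 0)))))) (.node (.node (.node (.node (.node (.leaf 0x3db6156a0001020c06f506f4185384d21270c67519a7e9518621) (.leaf 0x3246240c000031a747064da9146404d39364466618c22c62124d)) (.node (.leaf 0x14243399000115d8311b35840a830494f952f31725124b7bd18b) (.leaf 0))) (.node (.node (.leaf 0x141d448600010b6b037c20d10a8185b6854837d168672e7bd32d) (.leaf 0x3e47240d00015171532d51f1186404f39371d66618465c54624d)) (.node (.leaf 0x4550190000022063f902ff404c484b02404f0f01f158f2ab113) (.leaf 0)))) (.node (.node (.node (.leaf 0x3f033aaf0001069b14741473188104759776c0052304a151832d) (.leaf 0x167152ff00013c95432631d70ac78437f07c97663b472c70a621))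 (.node (.leaf 0x39193e3c00001baa3e6a1a8716828535ec63a4e868e05e5fc428) (.leaf 0))) (.node (.node (.leaf 0x30c5131000010752c012c0004a20597c703c05f2bd3fc333786) (.leaf 0)) (.node (.leaf 0x151f2bf0000129360f1c06860aa185f4510ef1482c178d262295) (.leaf 0))))) (.node (.node (.node (.node (.leaf 0x44a11f760000044a0db20dd81a7204331c3ae3980e61a4546486) (.leaf 0x32a7417c000036b84f8a4c6c147204f63e62b65a5a123170b6de)) (.node (.leaf 0x10db2697000018bb3a4f3a4e08d58573cd4225715554d670a2cb) (.leaf 0))) (.node (.node (.leaf 0x18fd323c00010de426910f2e0c3785b4d760514c6ec08a149049) (.leaf 0)) (.node (.leaf 0x3be33d010000258946a52e9e16f60475d50e11b81f43c768a6de) (.leaf 0)))) (.node (.node (.node (.leaf 0x21af1e67000108fa1acf1ace0eb205f2fc4384106b0221621124) (.leaf 0x138a29d5000044174d3c50500a7405542237055d04f6ed04928f)) (.node (.leaf 0x405d367b00001ec8423c1d7f18a485b53b67b5fa36c3f412d113) (.leaf 0))) (.node (.node (.leaf 0xf56452c000113213118311708a484d6945965fa7a06ed04968a) (.leaf 0)) (.node (.leaf 0x442445dd00002d2d325f4d9a1a620496a75ef68d55e41f546537)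 (.leaf 0)))))))))

/-- part of a table -/
def entries80 : Trie := (.node (.node (.node (.node (.node (.node (.node (.node (.leaf 0x520a158700000029009c009b1ea10552164e41834416ad21441d) (.leaf 0x466c36c300012dbc4c0c444c1aa705954010a764683048586333)) (.node (.leaf 0x244538b200011379065031c6102604b56b13935d3392947b2586) (.leaf 0))) (.node (.node (.leaf 0xea51d94000009491b971b96089304b2e00d61bc1f61797bd2ab) (.leaf 0x4939116d0001455352452c131c438531b351114c3094206de7d9)) (.node (.leaf 0x537e0fc000011f2c2bb4258b1ec585d18f1b67243eb39032d124) (.leaf 0)))) (.node (.node (.node (.leaf 0x9253877000004940eb50eb406a304b5674965b15e520314970b) (.leaf 0x4f0c04b10001378537d147b31e4105906b0a50870b5781486124)) (.node (.leaf 0x2cde24d10000191813320ef6127585d3a511f6471e913241d518) (.leaf 0))) (.node (.node (.leaf 0x18784ed900000e34274727460c2785179158c21337a2022957d9) (.leaf 0)) (.node (.leaf 0xe272a400000260248dc316f088304f42e00e6071053d57bd2ab) (.leaf 0))))) (.node (.node (.node (.node (.leaf 0x37513b10001025407da07d904a784b1f01c05085975ae734621)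 (.leaf 0x49db149b0000324427534feb1c548572005876994882fa5fc7b2)) (.node (.leaf 0x3833d290001163236682c2c04b20475d756f4cf09b2343332cb) (.leaf 0))) (.node (.node (.leaf 0x4984391200000bbc219721961c510495752105a213f781537124) (.leaf 0)) (.node (.leaf 0xb4d1601000122733a810ada06e405b2201506665757f962128f) (.leaf 0)))) (.node (.node (.node (.leaf 0x1441076b000106e6154315420a850430ad6bf76e01a0db7bd428) (.leaf 0x20d81d4900003d73402112040e958512d65821b42fe0ba5372c7)) (.node (.leaf 0x20a624fb00011c103ed93e110e9204d3a751428076c0435be2c7) (.leaf 0))) (.node (.node (.leaf 0x280c19bd000010cb2c9c1da110c10592817516aa1f061970a586) (.leaf 0)) (.node (.leaf 0x367823c6000129b2157345a6162785138d323376691073295621) (.leaf 0)))))) (.node (.node (.node (.node (.node (.leaf 0x1b7157e0000013b04480447047584f2157c11cf5a1154295486) (.leaf 0x9260cee00012fe3478b320206a304d1397c11e24e3207295621)) (.node (.leaf 0x3b7d1af3000114ce342530ea16e685b2a30a007a21a03f68a6de) (.leaf 0))) (.node (.node (.leaf 0x38880fa800000a7f1e911e05167105118c4cb68d1011ea2cb486)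 (.leaf 0x348b356400004ab953cb404e14d10575272f611e4cb48c428734)) (.node (.leaf 0x9451b47000020ca1567445a06a604b2ac5490064854971132cb) (.leaf 0)))) (.node (.node (.node (.leaf 0x33122e77000105bc1206120514828454844587d12292fa5be32d) (.leaf 0x3c4292800003a53205c4dcc04b604940e47552a6b14971132cb)) (.node (.leaf 0x3e0828bd00001a8f3cfa3cf918610514056173ea3ff7b500055a) (.leaf 0))) (.node (.node (.leaf 0x370a375200010f7e29fb29fa164105554d17368028617f55a214) (.leaf 0)) (.node (.leaf 0x292e336a000027d03d084a4f10e205d4f645137f63936a7d9156) (.leaf 0))))) (.node (.node (.node (.node (.leaf 0x47d3516e000003730b500b4f1af48477ca72d76a6a665c12d24d) (.leaf 0x1a5a47d5000134c2168f15310c858556dc1ae19c42171c5372c7)) (.node (.leaf 0x2bc711ad000017a438a021ee125504f1bb7a55f80982e47bd586) (.leaf 0))) (.node (.node (.leaf 0x2bfe103900000cf60cdc2475125785d1995bd3655967777bd546) (.leaf 0)) (.node (.leaf 0x3c06078a00012436395e478b182204d0af5ba2d218f0a9546214) (.leaf 0)))) (.node (.node (.node (.leaf 0x26981483000008161880187f10718511ff15e6d61d10bf124156)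 (.leaf 0x20af0ef2000141172025383c0e9205f1701102804d72fa5be2c7)) (.node (.leaf 0x19c2090f00001d9840d9390b0c560450dc7f512763d0d828f180) (.leaf 0))) (.node (.node (.leaf 0xe2240630e1000112222f3a2347102204d4bc01f6aa15c7077d9000) (.leaf 0)) (.node (.leaf 0x41425d900002bb631ba4ccc04c28493bc4807b45e44502ab149) (.leaf 0))))))) (.node (.node (.node (.node (.node (.node (.leaf 0x1b5b47db000100b0027802770ca48576dc47814a5eb6cd6217b2) (.leaf 0x4bb0227200012ed22d2b38c21c9284136c2ed28022e5b25be2c7)) (.node (.leaf 0x15f1535300011422157132e60ab68437f710935333f30b15f214) (.leaf 0))) (.node (.node (.leaf 0x17ff299d000009e41d1a1d190af685f41b76f6cf57b73a7b2537) (.leaf 0x4cf92ee2000147aa24642cbc1cb685348e0a031b01c03f68a124)) (.node (.leaf 0x1c184bad00001ffc438f438e0cc185173c67f5a231546c428262) (.leaf 0)))) (.node (.node (.node (.leaf 0x374c23a8000105270a2c105b164405938956d5f733a1b15be68a) (.leaf 0x113e3db5000038ec51e31edf08e385d5e32740f42a538c1245fc)) (.node (.leaf 0xa020770000119d308973bef06c20450ae00703e27508e18b295)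 (.leaf 0))) (.node (.node (.leaf 0xc4510f200010ed51b49289f082604b1aa0be3b336d6e97b2734) (.leaf 0)) (.node (.leaf 0x4a632401000126e546340e161c660473930e169a0843c768a7bd) (.leaf 0))))) (.node (.node (.node (.node (.leaf 0x32b73e10000002e309960995147284f5e905a1b864e22170b55a) (.leaf 0x2e0e182e0000337c4a9e4b0112c105d2597ab3511303d92c7586)) (.node (.leaf 0x3bce144f000016ec378f378e16f405d1fa7cb5835874a833524d) (.leaf 0))) (.node (.node (.leaf 0xa6053fe00010c592319231806c50418097327252903cb428734) (.leaf 0)) (.node (.leaf 0x28b804f70000235146ba46b910d385106f4676bd6c15c82c712d) (.leaf 0)))) (.node (.node (.node (.leaf 0x261e00450001078016e716e6106185d00741b50376838c124156) (.leaf 0x50610a8600013f414920530b1e660430fe56529f26c40a1137bd)) (.node (.leaf 0x212d4a1700001cd837273fed0ea205b71749c7030bc075621124) (.leaf 0))) (.node (.node (.leaf 0x45a23857000111752df428a51a930455653688072127e91562ab) (.leaf 0)) (.node (.leaf 0x390116ab00002aa43c2f3c1e168204323256d0c138d1b15be428) (.leaf 0)))))) (.node (.node (.node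 (.node (.node (.leaf 0xdca0f96000101c606130612087605518944f07e5522d815f486) (.leaf 0x1c2259004a1000031074f764d6e105184106a0d66aa3e91797bd000)) (.node (.leaf 0x235e4a0700001579354f354e0ee585d7166151e62fe6ad7347bd) (.leaf 0))) (.node (.node (.leaf 0x400d2df500000b1e2014201318a105b47826003e1877c4000295) (.leaf 0x3261240300004e624f6245ed14670433931754791ff2832cb5be)) (.node (.leaf 0x181a4605000021a527942ffa0c248556ac38b1b73694a83337b2) (.leaf 0)))) (.node (.node (.node (.leaf 0x26e834d700010650137913a4107605151a41537f31e0cb7b2156) (.leaf 0x46070eb700003bdf4caf4eaa1aa104f16a40303e73e7e2000149)) (.node (.leaf 0x511a14f900001b483def3dee1e818552094fc2f808c6644862c7) (.leaf 0))) (.node (.node (.leaf 0x5fc5073000110232b582b5704f58597b82961cf21979c786537) (.leaf 0)) (.node (.leaf 0x5d12c13000028c0423a3a3c04f48434531a33820577f962128f) (.leaf 0))))) (.node (.node (.node (.node (.leaf 0x3a6902cd000104020cd00cfc16c705304067f5f410b0de428335) (.leaf 0x1adf0cae0001360424e94f240c9585f1336c02b41696645372c7)) (.node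 (.leaf 0x98024150001185520f639c006b20413941f124836450a3332cb) (.leaf 0))) (.node (.node (.leaf 0xb652e0700000d9723df25e206e504b47b4443a81bb628786537) (.leaf 0)) (.node (.leaf 0x135d355b0001251d482f18c60a6685b5265c17e42d055c15f486) (.leaf 0)))) (.node (.node (.node (.leaf 0x126d35b4000108ad02981a0e0a2705b52d39a1466d237b180333) (.leaf 0x286e22240000430950e643e710c705d3640a16bd40c3042c712d)) (.node (.leaf 0x12ce353200011e6441c441c30a3605d52312f4574db49815f734) (.leaf 0))) (.node (.node (.leaf 0x267f523c000112d030793078106685f7de51f7581892d87b2156) (.leaf 0)) (.node (.leaf 0x51100d8000002cbd4d582da41e8184115006d2a274610e53770a) (.leaf 0)))))))) (.node (.node (.node (.node (.node (.node (.node (.leaf 0x19a0f980000006c018c018b04748551895294b842c1a233524d) (.leaf 0x162e070900002e47321a4e260ac305d0a63ec1e26c63d92c7621)) (.node (.leaf 0x41de1a0d000113ce32550beb18f485d2896fc3824451e454628f) (.leaf 0))) (.node (.node (.leaf 0x7c1496e0000099818b61c5806760437016fd59c64e40a11355a) (.leaf 0x33e90fc30000467253bc5262149705318f28a8070c605d6de18b))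 (.node (.leaf 0x4c820c9100011f973085431d1cb104513106e3010d232a734180) (.leaf 0)))) (.node (.node (.node (.leaf 0x257747ef000004e00aa80f89104784f6df7d51e344760a7bd12d) (.leaf 0x3d48114b0000383f51b84e0218450511b05e07f249d15d1562cb)) (.node (.leaf 0x333043c8000019720ede3b64148384167444674858a5384862ab) (.leaf 0))) (.node (.node (.leaf 0xd4e50bd00000e8327ee00af086605d7be6ce47f1c630a15f537) (.leaf 0)) (.node (.leaf 0xe5342f7000126760dda493d088584766022e7d13e57777bd32d) (.leaf 0))))) (.node (.node (.node (.node (.leaf 0x2d1fc148860000029c027d08b50e560436eb3c00727b337924d41d) (.leaf 0x144d22c9000032e339c248800a8505b3714c615a79a60e7bd32d)) (.node (.leaf 0x27511fd00001169236ff36fe10a684332306030040030b15f000) (.leaf 0))) (.node (.node (.leaf 0x385d406100000c0716982252166485b62216a70512909762124d) (.leaf 0)) (.node (.leaf 0x1cfd4a3f000022e1308b43c40cd785b71a59a4fb7793cb32d049) (.leaf 0)))) (.node (.node (.node (.leaf 0x4ee011a800000735161216111e350411bb4cb6dd7da6282cb41d) (.leaf 0x1525296900003e553497504f0aa304b4154533f531a2f3180333))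 (.node (.leaf 0x289436a900001c7b3f67247b10d184953e54f60b0233022c7586) (.leaf 0))) (.node (.node (.leaf 0xd372db00000111d2d452d44086584f47302a0d03a51321806de) (.leaf 0)) (.node (.leaf 0x2cf6102600002a2c4bf14a1d127684d19818d6470a14987b2518) (.leaf 0)))))) (.node (.node (.node (.node (.node (.leaf 0x445c383d000101810530052f1a648595636ec71b1293e654624d) (.leaf 0x2b2c18c90000307b4f16497e124305926b4c62357ba60e7bd12d)) (.node (.leaf 0x22b4cf70001152134bc34bb048305775f5482797c23456de18b) (.leaf 0))) (.node (.node (.leaf 0x41541fdb00000acf1f501f4f18e484932367b73356d29112d24d) (.leaf 0x1891090e00014c832eda521a0c348430dc7362a46f029c33315f)) (.node (.leaf 0x25a621950000213b44bf44be105304d35737722d75a35f02512d) (.leaf 0)))) (.node (.node (.node (.leaf 0x3bd83af20001060612d211c516f485159e0523820bd24e33528f) (.leaf 0x3f361a00003b0e1b614510044585f53346a72526958055a734)) (.node (.leaf 0x5334e7000011af13d773d7604e384778200b2e93af3477865be) (.leaf 0))) (.node (.node (.leaf 0x2a1344bc00010fd02aa72aa612228476885d46fa3cf36a7d9000)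 (.leaf 0)) (.node (.leaf 0x4015446f00012847135b370618a184b6838053ce444048000149) (.leaf 0))))) (.node (.node (.node (.node (.leaf 0x418d450c000103bb0c2b0c2a18f205b6916f307d7021a412d486) (.leaf 0x3ad224440001356c159850f416d48453971845ac1256182ab113)) (.node (.leaf 0x13774c8300001801393a2ade0a6784f7513d85e258438c2625fc) (.leaf 0))) (.node (.node (.leaf 0x2a3a09bf00010d43252a252912238550e97b81944f967726212d) (.leaf 0)) (.node (.leaf 0x4bd600e8000124a43bce22821c9584d01566d28022e0826de2c7) (.leaf 0)))) (.node (.node (.node (.leaf 0x47404f9a00000862194819471ae40417a15ef6ef05129154624d) (.leaf 0x4c3e0ffa000042145269499d1ca385d1934ab4fb34b2b61497d9)) (.node (.leaf 0x1914221f00011dfb37f9410e0c4484936372f1b75ef1b15fc7b2) (.leaf 0))) (.node (.node (.leaf 0x53863aae000112782fd927651ed204d5976e36dd7da5202ab41d) (.leaf 0)) (.node (.leaf 0x2346368000012c3c4d13307b0ee504d53c0942f44f56ad2147bd) (.leaf 0))))))) (.node (.node (.node (.node (.node (.node (.leaf 0x160e257f000100f4004103610ac105d3b27be4cf23c1cc2c7786)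 (.leaf 0x25ee2bca00002f5b4a7f3864105705d44d4f16bd3703b002512d)) (.node (.leaf 0x1b990ccb00011476338a33890cb185313636e34c1532e7786180) (.leaf 0))) (.node (.node (.leaf 0x27c62d6e00010a301ddb1dda10b604d46e6733004005a715f000) (.leaf 0x3f8095f0001490a263f517804b78510e368f376216186734621)) (.node (.leaf 0x38a4409700002058415f0c3b16720496293753ea39356e70b6de) (.leaf 0)))) (.node (.node (.node (.leaf 0x39d93fd3000105720195113016968536152512281ae37928f32d) (.leaf 0x1af34bfa0000399b4ca03ef60c968477425362805a84a324d70a)) (.node (.leaf 0x2019306b00001a312de128fe0e818534b05f52f86ac4a655a70a) (.leaf 0))) (.node (.node (.leaf 0x3716130c00010f2704bd294d164184d1da6cb11e04c0826de214) (.leaf 0)) (.node (.leaf 0x161a015d0001276049f649f50ac185501f7410061c07612c72cb) (.leaf 0))))) (.node (.node (.node (.node (.leaf 0x49ba1a470001032900e40a711c5385528d3852130be3456de049) (.leaf 0x529341bc00013431508d259b1eb18476425b859b5ad6ad73441d)) (.node (.leaf 0x38a528ce000017433820204b167204b4067d307a00907570b6de) (.leaf 0))) (.node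 (.node (.leaf 0xf59346000010ca723c40fdf08a485350e06c5ac07930d7d968a) (.leaf 0)) (.node (.leaf 0x41991197000023ba472134a218f28531ba4cd73978717a12d486) (.leaf 0)))) (.node (.node (.node (.leaf 0x4535400d000107ca0d7917ae1a8384b61a6c868b3c014d51818b) (.leaf 0x3a8516e900004038251f4e8816d104b23a4b63b604e43b32d214)) (.node (.leaf 0x22f73b9d00011d373e3640640ed784f5b02f60c8712020428049) (.leaf 0))) (.node (.node (.leaf 0x270d358e000111ca2e9a2e9910a205b5297311411f069b049586) (.leaf 0)) (.node (.leaf 0x3cc61ecf00002b2f44ed1023183404d30671d0f700265c546113) (.leaf 0)))))) (.node (.node (.node (.node (.node (.leaf 0x4c23372e0000020d06f706f61ca30475497194d406004b2957d9) (.leaf 0x41134dfc000031a94fad4fa918e28477766fc25d17c6b8546537)) (.node (.leaf 0x1d8a37f5000015d935e335e20cf10555592922f43ac545149025) (.leaf 0))) (.node (.node (.leaf 0x56c057f00000b6c20d320d204e505907b80007e30617d2cb486) (.leaf 0x155e500a0001517a53e129000aa485d7aa4476e20bb6ed7d968a)) (.node (.leaf 0x158a3ba100002207458a1b9c0ab10555b307b1484d5314262149)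 (.leaf 0)))) (.node (.node (.node (.leaf 0x1d9b1d8e0000069c147614750cf18572de7531e64bd154295025) (.leaf 0x4943512000003c9630fa4afc1c440477c60034ca3160435fc15f)) (.node (.leaf 0x360d375c00011bac2bb11fec162205b54d64241258c4da3352cb) (.leaf 0))) (.node (.node (.leaf 0x182a0d3600011075260c2a670c250551402c91043a10b073441d) (.leaf 0)) (.node (.leaf 0x3dc24826000029374b48247d18550456e42e64cf0535815182cb) (.leaf 0))))) (.node (.node (.node (.node (.leaf 0x2eb80ff10001044a013b0dd912d38511930f223534b6d82c7546) (.leaf 0x8233390000036b9260d339406830474f913831761b08255a18b)) (.node (.leaf 0x4f741648000118bb3a403a501e468492293250f91f03de28f180) (.leaf 0))) (.node (.node (.leaf 0x23f61a2d00010de5045e26920ef684d28b355257791095113025) (.leaf 0)) (.node (.leaf 0x1732bf0482a0001258a3b64170212578416e44c76896240db025546) (.leaf 0)))) (.node (.node (.node (.leaf 0xfc4190d000008fb1ad0139f08b404927160913478074004968a) (.leaf 0x43b71ff90001441747f617b81a5384f32550d36164c58115670b)) (.node (.leaf 0x1648534a00011ec8423d1e0f0ac50517f651c52a42f30270a786)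 (.leaf 0))) (.node (.node (.leaf 0x40080c25000013222b35311918a10511263427d2540048000149) (.leaf 0)) (.node (.leaf 0x530187a00002d2e1f3d4d9b04e384126148b32806817d2cb5fc) (.leaf 0)))))))))

/-- part of a table -/
def entries81 : Trie := (.node (.node (.node (.node (.node (.node (.node (.node (.leaf 0x47e71f8d000100290009009d1af504f31d6703ea3fe7e200055a) (.leaf 0x4e453b4800002dbe31ef4ddd1e2404b5a549c5166bb44b62115f)) (.node (.leaf 0x19d7083e0000137a31c831c70c5684f0c07ea2f23720d824d180) (.leaf 0))) (.node (.node (.leaf 0x2e4a47120000094a09ff1b9812c50556ca1d13510412d92c7000) (.leaf 0x3b1036ad000045563e20075b16e184153e6e016646a267295537)) (.node (.leaf 0x4ca7053800011f2d42ad13271cb304f07662e0c851f26a149049) (.leaf 0)))) (.node (.node (.node (.leaf 0x12a01765000104940eb70eb60a350412463787b43f2435124295) (.leaf 0x33c21efa000137862e893609149604530e6141e072a1e828f428)) (.node (.leaf 0x2bc40e5000119183ad90b44049385963041378551942055a2ab) (.leaf 0))) (.node (.node (.leaf 0xa5285a00000e3527492748045504b3fd2307ff4024fa6de734)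 (.leaf 0)) (.node (.leaf 0x17800052e400001260235f10bc4044404b48102d42d54b05e5be68a) (.leaf 0))))) (.node (.node (.node (.node (.leaf 0x226f1d4d0000025507dc07db0ec705f2d664e14c2de48c32d7d9) (.leaf 0x49631649000132454fec3a801c4604722941a6c30ad0cf28f41d)) (.node (.leaf 0x3a5d0ae0000016333669012416c485b10604f0f003858f2ab113) (.leaf 0))) (.node (.node (.leaf 0x4118185800010bbc2199219818e285125e25b4b354817a12d486) (.leaf 0)) (.node (.leaf 0x21621a90000227445ec2214048284d3594c27d16710c95be428) (.leaf 0)))) (.node (.node (.node (.leaf 0x30e35058000006e71545154414370477b152c77c53e2b614970b) (.leaf 0x400416e300003d7442bd07a718a104923a2c503e04e7ae000295)) (.node (.leaf 0x209b2c9d00001c113ee43ee30e9185745e7872411c717f55a70a) (.leaf 0))) (.node (.node (.leaf 0x33460633000110cb2c9e2c9d148604d0932d10055d64a328f428) (.leaf 0)) (.node (.leaf 0x19ea1d2f000029b340a52e420c570552d47871853ae41855a7d9) (.leaf 0)))))) (.node (.node (.node (.node (.node (.leaf 0x2a3e11620001013b044a0449122385d1b30e32eb44f66a262546) (.leaf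 0x3cca2ca900012fe4490f432d183405545f4715af1dd80454668a)) (.node (.leaf 0x2bea101e000114cf295a342612570551977a51941f83b07bd12d) (.leaf 0))) (.node (.node (.leaf 0x2db1376b00010a7f1e931e9212b384354e70f63633727a180546) (.leaf 0x41f6039d00004abb4ed62e4018f584d0535da5bf1b011858655a)) (.node (.leaf 0x44452dac000120cb445b09c51a6404b4725ef6ef27341f54628f) (.leaf 0)))) (.node (.node (.node (.leaf 0x166f066f000005bd120812070ac705f0987ab5b17383d92c7621) (.leaf 0x4dba20a300003a55195106a61cd385533b1c6384415020428049)) (.node (.leaf 0x1ff133500001a903cfc3cfb047785f1de29b5217924162145be) (.leaf 0))) (.node (.node (.leaf 0x30361e4e00010f7f29fd29fc142384d2f77262a66f554a21470b) (.leaf 0)) (.node (.leaf 0x232724fa000027d1362916ea0ee204f3a74d00ec76c7fe3337bd) (.leaf 0))))) (.node (.node (.node (.node (.leaf 0x19503bb6000003740b520b510c468415b521230171656028f41d) (.leaf 0x16421b4e000034c34a721c8c0ac50452ac7ab0067754d62c72cb)) (.node (.leaf 0x8942e92000117a410fe38a106928494880af3994a71b15be428) (.leaf 0))) (.node (.node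 (.leaf 0x1ab843d400010cf6247610e50c928516761bd2410040e25be2c7) (.leaf 0)) (.node (.leaf 0x339402b300002437478c0ccc149284903c1bd4373c20e25be428) (.leaf 0)))) (.node (.node (.node (.leaf 0x237c276400000817188218810ee68593e20a014f35a03f68a025) (.leaf 0x35a72f310001411a534a29b114f304f4940885e25366007345fc)) (.node (.leaf 0x51cf067000011d9940db40da1e9505f09901a49b1574cc6de2c7) (.leaf 0))) (.node (.node (.leaf 0x4d9445b5000012232f3b14a81cd28496a52be34c0d35b718b41d) (.leaf 0)) (.node (.leaf 0x39924df900002bb747534ccd169284577654c5ce17c0c95fc428) (.leaf 0))))))) (.node (.node (.node (.node (.node (.node (.leaf 0x17411b4d000000b1027a02790ae40432ac69f76d05130d7d924d) (.leaf 0x1c4197600002ed440f32ea804760492783133d037c18a11355a)) (.node (.leaf 0x44d744c70000142332e832e71a7484f68c37a76a0071e412d28f) (.leaf 0))) (.node (.node (.leaf 0x25f74284000109e41d1c1d1b105784f65437722d7b935f02512d) (.leaf 0x33b804fe000047ad41f3510e149385106f6df80743269c48618b)) (.node (.leaf 0x134d138700011ffc3a7c41250a6605b1e93ca4b355e3447b2537)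 (.leaf 0)))) (.node (.node (.node (.leaf 0x4a8628ca00010528017e105c1c7104d4065581e60a14167347bd) (.leaf 0x3bc2432d000038ef3b3e1c1e16f40456657a01fd4ec12333528f)) (.node (.leaf 0x36c83df2000019d43bf13bf016360515e71216925582ad1132cb) (.leaf 0))) (.node (.node (.leaf 0x1bfe518b00000ed728a128a00cb785d7cc3f229e37a40d2cb7d9) (.leaf 0)) (.node (.leaf 0xcd5285f000026e642564997083684b3fd7ba57632955c15f214) (.leaf 0))))) (.node (.node (.node (.node (.leaf 0x52383de3000102e3099809971ea38515e624c4d47302d7295049) (.leaf 0x39c51b9d0001337c504f1fcf169604b2b36db0cd4af1ab24d428)) (.node (.leaf 0x9fd22c5000116ec3791379006b785b37130e2a673d186214621) (.leaf 0))) (.node (.node (.leaf 0x145c0c8d00000c5a231b231a0a858591306bf76e23060e7bd32d) (.leaf 0)) (.node (.leaf 0x4312388c0000235246bb19f01a418455685a465656911a1562cb) (.leaf 0)))) (.node (.node (.node (.leaf 0x460801a90000078116e916e81aa10510284ce6512f5164586149) (.leaf 0x4d12357500003f43256747e01cc284552835430f1a503918b180)) (.node (.leaf 0x7ae2eb400011cd83fef3fee067505d48a18f3982852b6149486)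 (.leaf 0))) (.node (.node (.leaf 0x1d4d4a37000011762d472df50ce505b71a37e0125547502147bd) (.leaf 0)) (.node (.leaf 0x3e55022200002aa52f564577186484b0303437052043e612d24d) (.leaf 0)))))) (.node (.node (.node (.node (.node (.leaf 0x51fd39fa000001c7061506141e9685b58961b27d4435cb28f70a) (.leaf 0x41b229b70001310948034ba418f384541e39528e0421475865fc)) (.node (.leaf 0x3ee24ddf000115792104355018770457747cc5e22637e25865be) (.leaf 0))) (.node (.node (.leaf 0x32b50e9100000b1f17292015147284b1681a35bf6ff6b56216de) (.leaf 0x32e54dd300014e633f4c5002147704b77427e5e242c2837865be)) (.node (.leaf 0x500530b4000121a522c53c811e6104b4b92bd1e6505186734025) (.leaf 0)))) (.node (.node (.node (.leaf 0x26a31f7a0000065113a613a5107204731c4a57583b77477d9518) (.leaf 0x46c4538c00013be03238527e1ab40498005ef5af27729154668a)) (.node (.leaf 0x3a7c06d700001b493df02c5316c78590a248d7a223a43b428335) (.leaf 0))) (.node (.node (.leaf 0x37c841cd0000102416e82b59165405164367a13421603b5fc113) (.leaf 0)) (.node (.leaf 0x12430d70000028c14afc4afb0a2604714e0df5763292f115f214)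 (.leaf 0))))) (.node (.node (.node (.node (.leaf 0x2b751550000004030cfe0cfd124784b2100c763606c5067bd12d) (.leaf 0x479c07f20001360515ea51251af28590bb0b816623817a546486)) (.node (.leaf 0x112f4a670000185639c11f8208e305f71f22f5215924de2625be) (.leaf 0))) (.node (.node (.leaf 0x2aec281a00010d9716fe228c12370593f640e36548841441d12d) (.leaf 0)) (.node (.leaf 0x4beb392e0000251e29e142001c9605757774b49b0dd4a328f70a) (.leaf 0)))) (.node (.node (.node (.leaf 0x399e1850000108ae17f71a0f169285d25e02e75c5480435fc32d) (.leaf 0x398530c0001430e2f8d2a8604b28517f173d4cf1fc70d333786)) (.node (.leaf 0x2f87147f00011e67410c26c712f104f1fe7e33414f1132180518) (.leaf 0))) (.node (.node (.leaf 0x649408b000012d126dd2be4064605362561f78f5895cb24d149) (.leaf 0)) (.node (.leaf 0x299530100002cc04d5925e604928537f10af39943e4045be32d) (.leaf 0)))))))) (.node (.node (.node (.node (.node (.node (.node (.leaf 0x36311e490001006c018e018d16238432f74a45b150732b214621) (.leaf 0x6f44d6100002e484d111c8406578497690715f41a369c537333)) (.node (.leaf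 0x314138ba000013cf32573256144404356b56d5f73b44045be113) (.leaf 0))) (.node (.node (.leaf 0x37ac152b0000099918cb1c59165305920c6867dd01410e486335) (.leaf 0x46ea1bdc00014677430f524c1ab70552ba67042336c3bd000335)) (.node (.leaf 0x16d20d2200011f982a6942a40ad584513f1de7fa6652d970a786) (.leaf 0)))) (.node (.node (.node (.leaf 0x3ab910ea000004e10ac20f8a16d28531a96296685f145018b149) (.leaf 0x4892096d0000384023e351b91c328450e46e16ae7bb6cd70b262)) (.node (.leaf 0x464d18b700011972360a3b651aa405b2693ae0f71fe02754668a) (.leaf 0))) (.node (.node (.leaf 0x2526514f00010e8327f027ef104304d7c87d51e324360a7bd12d) (.leaf 0)) (.node (.leaf 0x1a2197200012677493f493e04750452781fa71167f154149486) (.leaf 0))))) (.node (.node (.node (.node (.leaf 0x38ba4b790001029c08b708b616728557374786a34722f062155a) (.leaf 0x4fc20f07000132e3501a09dc1e540451714340816bb3465be15f)) (.node (.leaf 0x35dc35f5000016940aba370014f48595311db71b7f370d33324d) (.leaf 0))) (.node (.node (.leaf 0x3af0c7300010c072254225304b305f12f29076635557d149621) (.leaf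 0)) (.node (.leaf 0xc235db000022e2465c465b045604552f58a45c35c1e828f149) (.leaf 0)))) (.node (.node (.node (.leaf 0x17952e9e00010735161416130af184b48870f7a412e41418055a) (.leaf 0x6a64d6700013e551b9d4a8d065504d76938545770e0ff6de734)) (.node (.leaf 0x395f12a900011c7b3f682775168685f1d457e76e4ee6d024d428) (.leaf 0))) (.node (.node (.leaf 0x4f28533e0001111d056b255e1e430517f57932136304206de7d9) (.leaf 0)) (.node (.leaf 0x3159210f00002a2d37414bf214448533488025fa59005e5fc68a) (.leaf 0)))))) (.node (.node (.node (.node (.node (.leaf 0x2f334e8a000001820161053112e28477845d45dc4e936a7d9156) (.leaf 0x177c0c8c0000307c32c74e8a0ae685913060c47f3c238615f486)) (.node (.leaf 0xc09361f00001523278b34bd08240535337990f755769b049113) (.leaf 0))) (.node (.node (.leaf 0x16612e0a00010acf1f521f510ac704347b51c1a71ba14570a621) (.leaf 0x2db506b800014c86529645be12b384b0a065239f4f92f318012d)) (.node (.leaf 0x1ea746ce0001213c44c029e90e3504f6c47260f95246ad21441d) (.leaf 0)))) (.node (.node (.node (.leaf 0x42c70f320000060712d412d31a3404f17c1085f77e56b812d113)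 (.leaf 0xb954f4400003b10482a3c5006f284b79925265a1c123f70b55a)) (.node (.leaf 0x372d18ce00001af20f2d3d78164305b26b72a3f531a0ba486333) (.leaf 0))) (.node (.node (.leaf 0x4d812fa300000fd1065c2aa81cd204349f16812764122618b41d) (.leaf 0)) (.node (.leaf 0x42c1520c000128484aa94aa81a340437d75ef5af3b441f546113) (.leaf 0))))) (.node (.node (.node (.node (.leaf 0x20b2255c000003bc0c2c00ab0e928453ae54c6985e00c95fc70a) (.leaf 0x239848aa0001356d158b41f40ef18516f066f1cb70c2d7149025)) (.node (.leaf 0x31ad1d0400011801393b0e69145305b2d12105a32546f8537333) (.leaf 0))) (.node (.node (.leaf 0x3ab0071700000d44252b172716d28410a72be6680405b718b149) (.leaf 0)) (.node (.leaf 0x529b2cb6000124a53f27151e1eb18574602c91043780b073441d) (.leaf 0)))) (.node (.node (.node (.leaf 0x3f440c0300000863194911e5188504912235a7d15a504715632d) (.leaf 0x2f4719a100014214517449de12e504f27e0e00f552378d124518)) (.node (.leaf 0x20db0db100001dfc414e28340e9585715303649b0dc3ef48670a) (.leaf 0))) (.node (.node (.leaf 0x4ea62191000012792fdb2fda1e3304d3570b109d76f1c87867d9)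 (.leaf 0)) (.node (.leaf 0x339c4b8200002c3d1d8e4d1414928597380af3994561b15be428) (.leaf 0))))))) (.node (.node (.node (.node (.node (.node (.leaf 0x37e42fed000000f50363036216560494a76db7b45171ab24d149) (.leaf 0xd9a28f900002f5d3de625a4087485540959673350036a04924d)) (.node (.leaf 0xd57265900001477338b0107086684f3c65c97722014987b2486) (.leaf 0))) (.node (.node (.leaf 0x3e312a3b00000a311ddd1ddc186284342c4cd73946517a12d486) (.leaf 0x1a4f27150000490f414153e00c8505f3dc1996787562a748670a)) (.node (.leaf 0x52bb1f1900012058216e43f21eb385731153100f2b11542957d9) (.leaf 0)))) (.node (.node (.node (.leaf 0x52d7194c00000573113211311eb484f2756912a40d77fe33315f) (.leaf 0x7650b950000399c31c640e2066704b11631d25f1295ae7345fc)) (.node (.leaf 0xd8d4d5f00011a313c713b10087405b7687996664b969b04928f) (.leaf 0))) (.node (.node (.leaf 0x40ab03f400000f28294e283c18b205705a2de6cc48b7dc546734) (.leaf 0)) (.node (.leaf 0x382730bf00012761498a3b09166204f4b97b03d051a23170b6de) (.leaf 0))))) (.node (.node (.node (.node (.leaf 0x411749550000032a0a730a7218e284f7003313983db65c546486)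 (.leaf 0x33c0fbc00013433312c341704a385918d77505b475202295621)) (.node (.leaf 0xbf8193a0000174438211fb506f585127447707e57b2e72cb537) (.leaf 0))) (.node (.node (.leaf 0x22431a2700000ca823c623c50ec404728b1d56b767b52018b15f) (.leaf 0)) (.node (.leaf 0x16c298b2f02000123bb4723472210f105749102a327743132180518) (.leaf 0)))) (.node (.node (.node (.leaf 0x3ee61cfb000107cb17b017af187704d2d06b010740f1185865fc) (.leaf 0x3db214190001403929d944c218538451f63e11e249458151870b)) (.node (.leaf 0x3e99148200001d383c29353e18718531ff0bc59c6227b500055a) (.leaf 0))) (.node (.node (.leaf 0x7541291000111cb05a82e9b06668491d30e51b809203f68a6de) (.leaf 0)) (.node (.leaf 0x132d138c00002b30448e2fad0a6505b1e970f7a459a41418055a) (.leaf 0)))))) (.node (.node (.node (.node (.node (.leaf 0x294b39f00001020d06f906f810e50575891305c6443242262518) (.leaf 0x9c502d3000031ab4faf4fae06b604b04140b0a3722218113786)) (.node (.leaf 0xd7e27de000115d935e535e4086785d3ec7ce03d2646771245fc) (.leaf 0))) (.node (.node (.leaf 0x2464051200010b6c068320d410270490710d15563591d2180546)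 (.leaf 0x1782241300015182538351bf0af104539415c1b82ca5ed1806de)) (.node (.leaf 0x1fbd4c910001220725803e0b0e5585b7520716a969d6be537124) (.leaf 0)))) (.node (.node (.node (.leaf 0x3f6941010000069d1478147718870536321c77485141781562ab) (.leaf 0x1d251e1000013c961a4952a30ce204b2ee03c0125544da3337bd)) (.node (.leaf 0x483450f700001bad39643e6b1c238497c224438441543d2cb049) (.leaf 0))) (.node (.node (.leaf 0x4df82ee500001076064b2c021cd585148e2d031b02a0de32d124) (.leaf 0)) (.node (.leaf 0x4e0802050000293824790a191e2205102e49c7037c544b621262) (.leaf 0))))) (.node (.node (.node (.node (.leaf 0x6e34d6e0001044b07250dda06570477695d616e09666e537335) (.leaf 0x13711df1000036bd38ab20c30a678432ec13a11d2064a21245fc)) (.node (.leaf 0x4f0d39da000018bc3a523a511e4105b58765427f09a6be486124) (.leaf 0))) (.node (.node (.leaf 0x15e9300b00000de6211326930ab60534aa59d7ed6063c17b2734) (.leaf 0)) (.node (.leaf 0x7e537710000258b48874886067704b54f1c05e23a36357345be) (.leaf 0)))) (.node (.node (.node (.leaf 0x3d582f15000108fb1ad21ad1184585149235a2485583da1562cb)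 (.leaf 0x259c08450000441a48ca3ad310518590c65026ee0b524b7bd586)) (.node (.leaf 0x24ec33a100011ec9423f423e10370594fc11b22d2db27a41d546) (.leaf 0))) (.node (.node (.leaf 0x4d664a98000113222a9b0b151cc504d72234f31b27b58e32d124) (.leaf 0)) (.node (.leaf 0x12650cbb00012d2e4d9d4d9c0a2704b1354ed3f16831d2180333) (.leaf 0)))))))))

/-- part of a table -/
def entries82 : Trie := (.node (.node (.node (.node (.node (.node (.node (.node (.leaf 0x28fe2aad0000002a009f009e10d785d43660f1e37c775b70a12d) (.leaf 0x311d081600002dbf4dde47f1144185b0bd3c245766f4646de214)) (.node (.leaf 0x383c05b60001137a064308a9166285908627759c6d956e6216de) (.leaf 0))) (.node (.node (.leaf 0x3fa029060000094b1b9a1b99189304140b3c47853e326815618b) (.leaf 0x27e812a3000145565161506110b70511d413d6bd37074d26212d)) (.node (.leaf 0x8bc490000001f2e42ae3ddf06938596f705442661f2406de2ab) (.leaf 0)))) (.node (.node (.node (.leaf 0x41733d03000004950eb90eb818e58475d51336a36794e258655a) (.leaf 0x2daf028000003788377c518e12b305f03702c39f6f778b180546)) (.node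 (.leaf 0x23a22033000019193adb3ada0ef204532f1ba2a03367fe3357bd) (.leaf 0))) (.node (.node (.leaf 0x241d34a000010e35274b274a102285b51406c35d7d465e7d9586) (.leaf 0)) (.node (.leaf 0x23562b220001260348dd0e9b0ee584d4420880ec76c1957347bd) (.leaf 0))))) (.node (.node (.node (.node (.leaf 0x2b51cd90000025607de07dd049384b2ce56b78535724055a2ab) (.leaf 0x537237ce000032461b4b1e981ec58455557de01155b48c32d262)) (.node (.leaf 0x3cf023a000116332434366a04b605f03164c5716064e168a786) (.leaf 0))) (.node (.node (.leaf 0x15430d1000000bbd219b219a0aa404713d19d5af59770704968a) (.leaf 0)) (.node (.leaf 0x1e01135e0001227445ed26d30e240431e17000fd4f33fc3357b2) (.leaf 0)))) (.node (.node (.node (.leaf 0xf171d59000106e7154610ae08a184f2db47e3ce1d478d124295) (.leaf 0x2c983fb500013d794bb4197812718516113395ab5260b2262518)) (.node (.leaf 0x3448008e00001c123ee63ee514c405100b77350152761d2ab113) (.leaf 0))) (.node (.node (.leaf 0x1863413000110cc2ca02c9f047404d5050bb76d7c04b533324d) (.leaf 0)) (.node (.leaf 0x11c2399d000029b440c93f3308f404557f57a3560186ed7d928f)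 (.leaf 0)))))) (.node (.node (.node (.node (.node (.leaf 0x1e4c1cc10000013c044c044b0e260592cc0fc6a96400c5113124) (.leaf 0x26910c4a00002fe548a342f710718431293f36d67be4a2124156)) (.node (.leaf 0x4c21121d000014d0342834271ca30431c466f08959f2d7149049) (.leaf 0))) (.node (.node (.leaf 0x22fd51ba00000a801e94023a0ed785b7cf55e2b05cc62f32d7d9) (.leaf 0xc3b519300014abe531238c008258577cd0ee3d62fb4de124149)) (.node (.leaf 0x4bef369a000120ce0b6a367f1c9605f53d6141b400e0cf28f2c7) (.leaf 0)))) (.node (.node (.node (.leaf 0x1513470000005be120a120904668435100146a351a0c568a6de) (.leaf 0x1fe308f000013a5727e143900e570470d901a09d35e17f6de049)) (.node (.leaf 0x423217b400011a902a703cfd1a238452512244233137b7000335) (.leaf 0))) (.node (.node (.leaf 0x1e7449f900000f8029ff29fe0e278497154e04d43432022957d9) (.leaf 0)) (.node (.leaf 0x7e44d72000127d136ac46ff067704976b1142e92e55b47345be) (.leaf 0))))) (.node (.node (.node (.node (.leaf 0x382b045b000103740b540b53166205706562b65a77422170b55a) (.leaf 0x3f04132b000034c43a774f5f18810491dd6634904dd12b15632d))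 (.node (.leaf 0x50ad2971000017a538a221b01e7205b41903c0125104da3337bd) (.leaf 0))) (.node (.node (.leaf 0x300132f800000cf72478247714220434ec3d424870924e3332cb) (.leaf 0)) (.node (.leaf 0x169f2fd400002438478e478d0ad185f4a51de7fa09451370a2cb) (.leaf 0)))) (.node (.node (.node (.leaf 0x32e644cd0001081718841883147704d68c4db3280072472cb5fc) (.leaf 0x40840dca0000411f534b532918b10491555c47b4175048000149)) (.node (.leaf 0x3d563b4700001d9a40dd40dc184584d5a54700a315111a5182cb) (.leaf 0))) (.node (.node (.leaf 0x3b7f00f5000112232f3d2f3c16e685f0162237e81ae13711355a) (.leaf 0)) (.node (.leaf 0x35bb218600012bb845200c5a14f38573554e45215996ad2145fc) (.leaf 0))))))) (.node (.node (.node (.node (.node (.node (.leaf 0x1b78506b000000b2027c027b0ca78517b348b3847a721c2cb7d9) (.leaf 0x483a2b9100012ed445890dd71c238554490b109d75e25a786049)) (.node (.leaf 0x10b33f7d000114232ccb16b408d384760c6b277c12151370a70b) (.leaf 0))) (.node (.node (.leaf 0x1622db6000009e51d1e1d1d04670454731d428e1524c57345fc) (.leaf 0x4655228d000147ad246c4cf01aa484b36d7796e217e3f4546113))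 (.node (.leaf 0x10534eaf00011ffd439007ca08c584778a7d805f7ca3d92c7786) (.leaf 0)))) (.node (.node (.node (.leaf 0x3b3c46dc00000529105e105d16e38596c64a411d3af32b2145be) (.leaf 0x9f10e6c000138ef506f3d1806b78431635e44f226d63521470b)) (.node (.leaf 0x219f1ea6000119d413533bf20eb185f3035b918271a347786180) (.leaf 0))) (.node (.node (.leaf 0x2c57526f00010ed728a328a2126584f7e18086126b2417180518) (.leaf 0)) (.node (.leaf 0x2b1c34a9000126e6499814c212418595144835f880972e7bd000) (.leaf 0))))) (.node (.node (.node (.node (.leaf 0x22552b28000002e4099a09990ec484b44229d3874f86ba2ab7b2) (.leaf 0x2732590000338129b048c0044504f4dc6cb11e53d0826de214)) (.node (.leaf 0x22e60b10000016ed379337920ed704d10a0580831366264287d9) (.leaf 0))) (.node (.node (.leaf 0x2d6211df00000c5b231d231c12a70451c07da39f73167712412d) (.leaf 0)) (.node (.leaf 0x65233f7000123534215156b06468455023e37bc80069524d149) (.leaf 0)))) (.node (.node (.node (.leaf 0x53e719e30001078116ea04551ed504f2860e74d80ce020428124) (.leaf 0x1d1c2d9000003f443f5c46920ce18594711c93d36c42672957bd))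 (.node (.leaf 0x4b59067800001cd93ff13ff01c858530993c219c52d4a66de70a) (.leaf 0))) (.node (.node (.leaf 0x3e610066000111762df72df618670430092607ac6117c40005be) (.leaf 0)) (.node (.leaf 0x9b5532d00012aa64170361606b384b7f47a16026da202149621) (.leaf 0)))))) (.node (.node (.node (.node (.node (.leaf 0x2cc92ce6000001c802af061612750534653076471e941441d518) (.leaf 0xf2d4cff0000310a4f7726db08a305b75f809487217414180335)) (.node (.leaf 0x12f53a2f0000157a168435510a3784b58d7d44251a327a180333) (.leaf 0))) (.node (.node (.leaf 0x523a36e900010b1f20161e351ea385554260108959d04b1497d9) (.leaf 0x3ec2309800004e654b88530a18740454b63a26664801e454628f)) (.node (.leaf 0x3a132270000021a6451f451e16c184736c0e66cc2dd62632d734) (.leaf 0)))) (.node (.node (.node (.leaf 0x3f3f0ff90001065113a813a7188385f19348f27905c67e5182ab) (.leaf 0x5300312500013be449651b561ec20414c03a32da0e36ba2ab180)) (.node (.leaf 0x8d308a500001b4a37fb13a606968470d34fe75403a6d024d428) (.leaf 0))) (.node (.node (.leaf 0x99b0159000110242b5b2b5a06b285701f63424831d123333786)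 (.leaf 0)) (.node (.leaf 0x4c1f1406000028c22b7d4afd1ca185f1f54360f91300b021441d) (.leaf 0))))) (.node (.node (.node (.node (.leaf 0x3a3b5043000004040d000cff16c28577b00fb45c80034a18b149) (.leaf 0x22fa0db900003606322651260ed78551533ff4d43436264287d9)) (.node (.leaf 0x6d422600011856356b39c2044705b64a36f4233c333e537335) (.leaf 0))) (.node (.node (.leaf 0x4d213b1800000d9825e425e31cc30435a04720c81eb0de428049) (.leaf 0)) (.node (.leaf 0x55927b60001251e0d3f394a04e48533e953a6372e223f70b28f) (.leaf 0)))) (.node (.node (.node (.leaf 0x23a707dd000008af1a111a100ef204f0b85901cb79d234335025) (.leaf 0x307c44da000043105360537f142785968e5553ed597265295621)) (.node (.leaf 0x43441a3900001e6841c641c51a4504928c4d22c265012b5182cb) (.leaf 0))) (.node (.node (.leaf 0x4e864b1b000112d1307b307a1e3204d72f547724400755621124) (.leaf 0)) (.node (.leaf 0x1e1e1f0a00012cc01eeb4d5a0e2485d31060414a4717fe33515f) (.leaf 0)))))))) (.node (.node (.node (.node (.node (.node (.node (.leaf 0xf1f5429c90000006d0190018f0e4684942149e3010bc71328f180)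 (.leaf 0x3c98002a00012e483ffa4e27183285100367b7256013f412d734)) (.node (.leaf 0x12e132e1000013d032582f9b0a370434e93077dd22b1d241d333) (.leaf 0))) (.node (.node (.leaf 0x46b147540001099918f31c5a1ab28436d232f51512c1a4546214) (.leaf 0x183a252300014678417b3f310c258553ab25c12762a32a214180)) (.node (.leaf 0xbef1c6600001f993781431e06f505f2c421b3a838917b786486) (.leaf 0)))) (.node (.node (.node (.leaf 0x4cf702f1000104e10af00f8b1cb684f0443114106af287113124) (.leaf 0x3b195174000138404449396016e18537cb3231664bf073295537)) (.node (.leaf 0x248f0dec000019733b673b66103205f1586337083cd4b17d9000) (.leaf 0))) (.node (.node (.leaf 0x467f27f600010e84250627f11aa785f3f2224423035118000333) (.leaf 0)) (.node (.leaf 0x11d143a600012678494036db08f48436723164b811065e7d928f) (.leaf 0))))) (.node (.node (.node (.node (.leaf 0x2fad2dfb0000029d08b908b812f205b47869f62713565e7d9156) (.leaf 0x35de29a8000032e5501b3ca414f485d41c4e64b83bb7fe33528f)) (.node (.leaf 0x97f5000000116941919370106a785f7aa06e3762166ad734621) (.leaf 0))) (.node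 (.node (.leaf 0x3d8c478b00010c0814a0225518510596d56d752a6b115d1562cb) (.leaf 0)) (.node (.leaf 0x481c2b52000122e2213b42ae1c228594451fe5a20ab07570b124) (.leaf 0)))) (.node (.node (.node (.leaf 0xab9139b000007361616161506d38531eb55e3f54ad0de32d335) (.leaf 0x1b8e492700003e565063501b0cb105d6fc2b278874525a2cb41d)) (.node (.leaf 0x4ae71f5e00001c7c3f692ee31c7604f3187e73fb15b13768a7bd) (.leaf 0))) (.node (.node (.leaf 0x229948a50000111e14b52d460ed18536f05120876a81ee32d262) (.leaf 0)) (.node (.leaf 0x123c455700002a2f3f5a47e40a2585969e4687bc4775c7124149) (.leaf 0)))))) (.node (.node (.node (.node (.node (.leaf 0x3fef4bdf0001018205330532189705f73f79138a52220e51818b) (.leaf 0x13f3059f0000307d23ed4f370a778470848013ee6a76771245fc)) (.node (.leaf 0x3591484d000015241e25210814f18436e660573932108a149486) (.leaf 0))) (.node (.node (.leaf 0x26c508b300010ad003681f53107504b0d411b1ef47327041d518) (.leaf 0xafd2d2d00014c8d504a4d3f06d585b4696d96cc1c91ee32d734)) (.node (.leaf 0x15a12860001213d1d13167c04668551d13555df59a09511355a)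 (.leaf 0)))) (.node (.node (.node (.leaf 0x16924b53000106070b1212d50ad184573526c6926fb75b70a786) (.leaf 0x15e742cf00003b1144592fa70ab604f65b75f68041c5a715f734)) (.node (.leaf 0x1b3f43d600001af32bc203050ca285f6762080da315231621262) (.leaf 0))) (.node (.node (.leaf 0x357b064900010fd12aaa2aa914e68570945420d006d09511355a) (.leaf 0)) (.node (.leaf 0x2be72fea0000284916ca4aaa125704f4a764a2354513d57bd546) (.leaf 0))))) (.node (.node (.node (.node (.leaf 0x41c637cc000003bd09290c2d18f404d55571d66654c65c54624d) (.leaf 0x19a4090a0000356f49103ea80c550490dc58219153c10e537124)) (.node (.leaf 0x185e275500001802393c238b0c2685d3e106f5a2315392113262) (.leaf 0))) (.node (.node (.leaf 0x4cfe1a0500010d440419252c1cb685d289223410765137113124) (.leaf 0)) (.node (.leaf 0x52e347fa000024a617c747de1eb60476e050701170f4e168a262) (.leaf 0)))) (.node (.node (.node (.leaf 0x1c420f8000010863194b194a0cc40451880070fd5f908e18b15f) (.leaf 0x29de41e10001421651bb2fb710f585d6452c45c67cd4de262156)) (.node (.leaf 0xdfc120c00001dfd4150414f08778591c33f33ee1fb4a21245fc)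 (.leaf 0))) (.node (.node (.leaf 0x2f9f18af000112792fdd2fdc12f185f2667af10c37713241d518) (.leaf 0)) (.node (.leaf 0x103d50c300012c3e3ec0101608c385b7bf1d06024755c870a621) (.leaf 0))))))) (.node (.node (.node (.node (.node (.node (.leaf 0x21b33d75000100f5036503640eb28475dd2080da64064d621124) (.leaf 0x482202e400002f5e390a1e851c2304504220b2b05cd17b7867d9)) (.node (.leaf 0x2b2e483000011477338d338c124305d6e50f339f6f73d5025546) (.leaf 0))) (.node (.node (.leaf 0x2e28342f00010a311ddf1dde12c30515077c968915972c70a546) (.leaf 0x3e4323dd0001490f2fe44d24186404738e6766ef27358b54628f)) (.node (.leaf 0x12954d690001205943f33eb40a3484b76949366215065e049113) (.leaf 0)))) (.node (.node (.node (.leaf 0x1dd153cf00010573113411330cf584380568f09e3685b47347bd) (.leaf 0x52981c9a0001399d34f84ff41eb18512c837e34c02b750214180)) (.node (.leaf 0x839351600011a323c720f5a068385351f2727481ad56255a2ab) (.leaf 0))) (.node (.node (.leaf 0x2853179600010f2817f90cba10c584724c15b60b4ed1cc2c7586) (.leaf 0)) (.node (.leaf 0x311f0b5e0001276240a12fd3144185f1107a36806ca0ff55a734)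 (.leaf 0))))) (.node (.node (.node (.node (.leaf 0x2e6e384e0001032a0a750a7412c705d5647ab2354663d92c7546) (.leaf 0x1d7254c32dc00013435508f508e10450594e758d1414c924b025586)) (.node (.leaf 0x24f015b3000117441b993822103784121a2ac5567b937b18012d) (.leaf 0))) (.node (.node (.leaf 0x50ec21fd00010ca803e523c71e760593606fd1cb51c40a1137bd) (.leaf 0)) (.node (.leaf 0x16e35022000023bc472547240ad70477ad1de6027762d970a621) (.leaf 0)))) (.node (.node (.node (.leaf 0x12f10919000007cc17b217b10a378430dd6523f149a6fe180335) (.leaf 0x4c2747b90000403a2db553301ca304f6da53100f0f6207295049)) (.node (.leaf 0x533629b500011d3834e31eb41ec384d41e2852b012f17432d049) (.leaf 0))) (.node (.node (.leaf 0x24ad1b01000011cc2e9d2e9c103305b2a513d6bd2ce55f262546) (.leaf 0)) (.node (.leaf 0xde94e5e00012b3132cb4c83087705377f6e732811255f2625fc) (.leaf 0)))))) (.node (.node (.node (.node (.node (.leaf 0x319f2c810000020e06fb06fa145185f45d01a5766014cc6de734) (.leaf 0x3475538f000031ac44b7036914c784b8007e15a327762f428333)) (.node (.leaf 0x448228cc000115da1ad631001a710454066d107a6ff47c0006de)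 (.leaf 0))) (.node (.node (.leaf 0xdf6341900000b6d20d620d5087784d5054407ef4053142625be) (.leaf 0x30a04042000051844f04476b143304161f09377c4e332b214621)) (.node (.leaf 0x2ec835a800002208458b324f12d505152c5053514695c82c7586) (.leaf 0)))) (.node (.node (.node (.leaf 0x44b50700001069d147a147904c40577b81120f723234a18b68a) (.leaf 0x383424cc00013c99493b522216628493a35de7e85856b56216de)) (.node (.leaf 0x2f0d2f0900011bad3c6e3e6c12e105b4914533417696fe180156) (.leaf 0))) (.node (.node (.leaf 0x177d2b05000110762c042c030ae685b4402cf07e79329415f486) (.leaf 0)) (.node (.leaf 0x3b834e62000129384b49322416f104778018f398219207149537) (.leaf 0))))) (.node (.node (.node (.node (.leaf 0x287649150000044c0ddc0ddb10c784d6fb45b39e44775b2c712d) (.leaf 0x52085283000136bf485911131ea10517e52bd2da3d8186734180)) (.node (.leaf 0x47804bbc000118bc3a543a531af204173d5eb3a8348291546486) (.leaf 0))) (.node (.node (.leaf 0x2bd04e2c00010de6044f2694125584177b7433302c463c025586) (.leaf 0)) (.node (.leaf 0x42b839830001258b488838e41a3385157e32c5a30b67b5586335)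 (.leaf 0)))) (.node (.node (.node (.leaf 0x72c355f000008fc139c085f06650595267ca68d55e0c2149537) (.leaf 0x391736a80001441a4e9e1c6b168284f53e4c27d13210c95be428)) (.node (.leaf 0x3776155800001ecb0ed14240164684d2104827bc20a7d624d295) (.leaf 0))) (.node (.node (.leaf 0x8192fd3000113230623311a06828534a51d84900555b25fc428) (.leaf 0)) (.node (.leaf 0x2063430c00002d2f3bb648380e8604766141a21153f0cf28f2c7) (.leaf 0)))))))))

/-- part of a table -/
def entries83 : Trie := (.node (.node (.node (.node (.node (.node (.node (.node (.leaf 0x207939330001002a00a100a00e868535781f619c1405cb28f70a) (.leaf 0x2d040c9a00012dbf4ddf1cf912a20491315b66fa3f33b17d9000)) (.node (.leaf 0x27a505860000137b31ca31c910b304b0803d76f95c127a41d546) (.leaf 0))) (.node (.node (.leaf 0x345a36720001094b1b9c1b9b14c485553b0fb5fa54474c18b113) (.leaf 0x3c1c34a70001455721d153b0182285951446f72566f79012d214)) (.node (.leaf 0x25cc2ca700001f2f3ebc4150105505945f39b30042b60e7bd586) (.leaf 0)))) (.node (.node (.node (.leaf 0x2264368f000104950ebb0eba0ec704953c67f3843aa0de428049)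 (.leaf 0x312d4c5d00003789451250dd144305b74b67917241e781537335)) (.node (.leaf 0x3ae62de30000191a3ac93adc16d704d4771c67a244a020428333) (.leaf 0))) (.node (.node (.leaf 0x530f182200000e36274d274c1ec205f2591d52f23d803918b180) (.leaf 0)) (.node (.leaf 0x1b8a45fb000026043bd834430cb10556ab5f112763d7042cb180) (.leaf 0))))) (.node (.node (.node (.node (.leaf 0x121008db0001025607df008c0a248410d661e5fa2664d904968a) (.leaf 0xa9c2cfc000032473ec80d5506d285946662966811457418b295)) (.node (.leaf 0x17f40bd600001634366c366b0af684911c2ce07d3e530b15f486) (.leaf 0))) (.node (.node (.leaf 0x43ce0a4600010bbd219d219c1a5505d0f84b705f08811a1562cb) (.leaf 0)) (.node (.leaf 0x4874169500002276169f41e61c258492302a16dd15e2e72cb180) (.leaf 0)))) (.node (.node (.node (.leaf 0x95d4d35000006e80e3b037d06a685b7651602c27a149768a2cb) (.leaf 0x338616a300013d7d2aed0c79149204d2320bd3995d20435be32d)) (.node (.leaf 0x34a269500011c123ee7106604a60553cd2c07fa10d61368a786) (.leaf 0))) (.node (.node (.leaf 0x46d11d7a000010cd2ca10ac11ab48432dd5f96e222b3e654668a)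 (.leaf 0)) (.node (.leaf 0x3d7e4dbf000129b424c01a17184785d77176c74428158151870b) (.leaf 0)))))) (.node (.node (.node (.node (.node (.leaf 0x388741740001013c044e044d167104f63e1921cf1b61c8786486) (.leaf 0x393a218100012fe5471c4eef168385535519e4ef7c834048618b)) (.node (.leaf 0x3cf74afb000014d134113429183584f72a5e166815147c586149) (.leaf 0))) (.node (.node (.leaf 0x26f5397b00010a801aa50661107684b57c5cd5033c66e915f518) (.leaf 0x1b2e1fb800014ac04d3935e80ca205d32026672440364d621124)) (.node (.leaf 0x3b552e8b000020cf22cf445c16e484b4855977330e450a33324d) (.leaf 0)))) (.node (.node (.node (.leaf 0x4e2e3a02000105be01ac120b1e2305d58a12c3847bf1c82cb7d9) (.leaf 0x4bcf10dc00003a5a479721f61c9505f1a877127d7d534555a2c7)) (.node (.leaf 0x1f37253100001a913cfe2d340e4584f3ac19e4107cc340486124) (.leaf 0))) (.node (.node (.leaf 0x268c297700010f802a012a00107105941911c5c64731ec262518) (.leaf 0)) (.node (.leaf 0x34730a56000027d215894a5014c78470fa3f73f514202032d333) (.leaf 0))))) (.node (.node (.node (.node (.leaf 0x2f3d14fb000003750b560b5512e285b20961e61258d4d9049156)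 (.leaf 0x1dfc4a38000034c54d8d0f530cf685971a4613fb63f1a068a025)) (.node (.leaf 0x1b4d3d3f000017a61af638a30ca405b5d86d208150463b70b15f) (.leaf 0))) (.node (.node (.leaf 0x1d480ca300000cf8247a24790ce50511331022a07525ae214025) (.leaf 0)) (.node (.leaf 0x19d92ef9000124380cd63a6c0c5685348f2516c37cf7f828f180) (.leaf 0)))) (.node (.node (.node (.leaf 0x6f153d0000008181886188506578438062ca14602833e537335) (.leaf 0x31b61ff0000041234c3d3c5b145384d32505548764c2a7537333)) (.node (.leaf 0xe8911f300001d9b303c40de08910531c21355ce2005067bd32d) (.leaf 0))) (.node (.node (.leaf 0x34860eb50001122415f42f3e14d104d16a3ff2d273e390428214) (.leaf 0)) (.node (.leaf 0xc404c0300012bb945194cce082604174333c6cc53d30b7b2214) (.leaf 0))))))) (.node (.node (.node (.node (.node (.node (.leaf 0x2c412dab000100b2027e027d12650434724ed34160f270180518) (.leaf 0x3928342900002ed52ea44e6a16830515074a74ef0e97814862ab)) (.node (.leaf 0x482e3fca0000142432ea32e91c2305d6144b40c8032704786049) (.leaf 0))) (.node (.node (.leaf 0x3c2e5338000109e51d201d1f182305d7f55700b46c64e2586333)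 (.leaf 0x527d4059000047b131794d331ea685b62054e31b39a21868a262)) (.node (.leaf 0xb6f066800001ffe422c439106e505f0983f23982e840d2cb486) (.leaf 0)))) (.node (.node (.node (.leaf 0x40e01bec000105291060105f18b70412bb6163f51a9026000335) (.leaf 0x1a5c45ec000138f14a2851e40c858596a84463fa63f5384862c7)) (.node (.leaf 0x378a478a000019d63bf43bf316510556d566d5766b10826de214) (.leaf 0))) (.node (.node (.leaf 0x247209db00000ed828a528a410278450ed6af0c443a77a180546) (.leaf 0)) (.node (.leaf 0x73b44fb000026e736734999066585769062e07d0d409f149486) (.leaf 0))))) (.node (.node (.node (.node (.leaf 0x12dc3ee6000002e5099c099b0a368595fd2cf0644446e915f734) (.leaf 0x1b7a45e90000338450504d9f0ca78556a82f53a4779034786049)) (.node (.leaf 0x129a51ff000016ee192337940a348557d57e65ac1253227d9113) (.leaf 0))) (.node (.node (.leaf 0x20c5202100010c5b0dea209f0e9504b32c12e69866369c48670a) (.leaf 0)) (.node (.leaf 0x3cb900ac0001235526c41d3e183385300d6407dd26f401000333) (.leaf 0)))) (.node (.node (.node (.leaf 0x4c422fc500000782126b16eb1ca40454a41ba4ca1657fe33515f)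 (.leaf 0x1369521100013f444ec3162d0a670537d80244796e374d2625be)) (.node (.leaf 0x174c365a00011cd936593ff20ae40595395b658357569b7d928f) (.leaf 0))) (.node (.node (.leaf 0xcf735d60000117720b22221083784f52f2a816e20878b41d333) (.leaf 0)) (.node (.leaf 0x4fae298100002aa74a1f1aab1e5305d41a01a09d7bf4cc6de7d9) (.leaf 0)))))) (.node (.node (.node (.node (.node (.leaf 0x8ba0df8000101c806180617069385515938978551917f55a2ab) (.leaf 0x216816220000310b39403c370ea70512242963a42de79c7867d9)) (.node (.leaf 0x3e8b061e0000157b3552210b18710570916b06a303011858655a) (.leaf 0))) (.node (.node (.leaf 0x2a01b7a00000b202018201704930412b14c32ea24f05d6de18b) (.leaf 0x306b396300014e66530253a3142705757b2af05b484207295621)) (.node (.leaf 0x27cb2a53000121a64521452010b605742f34b60b65273a15f586) (.leaf 0)))) (.node (.node (.node (.leaf 0x9274ce20000065213aa13a906a304f75e1a137606f57d295621) (.leaf 0x395b170800013be65280527f168685723c4822ef6df7d624d32d)) (.node (.leaf 0x2da747be00001b4b15d13df112b304f6da7c568959f417180546) (.leaf 0)))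 (.node (.node (.leaf 0x2eb9161a0001102505142b5c12d38532235056363097892c7546) (.leaf 0)) (.node (.leaf 0x1588257e000028c340af4afe0ab10513b26b93d623c0bf124295) (.leaf 0))))) (.node (.node (.node (.node (.leaf 0x4ce50166000104040d0109d21cb604b0214755a20d1497113124) (.leaf 0x10c51edf000036075127414c08d504b3078032c26b11112c72cb)) (.node (.leaf 0x28f923ed00001857270c39c310d785338f76b22d7e66192c712d) (.leaf 0))) (.node (.node (.leaf 0x296915c100010d9825e625e510e605321b13937f4742947b2156) (.leaf 0)) (.node (.leaf 0x378639180001251f48314830165104d57557b7ed48e5806de734) (.leaf 0)))) (.node (.node (.node (.leaf 0x7f40594000108af1a131a12067784908437e3ee29d7502145fc) (.leaf 0x2a12a410000431136e73bd7049304342e05442600d2b56de18b)) (.node (.leaf 0xe0a513000001e6941c841c708810557c700e15a0ed60a7bd32d) (.leaf 0))) (.node (.node (.leaf 0x3fbb218b000012d20764307c189385735570c4261007e95182ab) (.leaf 0)) (.node (.leaf 0x4a104dc400002cc131e3043f1c618417732931cb0ca1cd734025) (.leaf 0)))))))) (.node (.node (.node (.node (.node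 (.node (.node (.leaf 0x2fb92ab00000006e0192019112f285343801061252d30d049518) (.leaf 0x4c45304500012e4911b72af81ca404b4ae3d46b77fb70d33315f)) (.node (.leaf 0x379a3527000113d027b13259165185552238951546e41855a734) (.leaf 0))) (.node (.node (.leaf 0x88a3a980000099a1c5c1c5b06920555964450cd39c0c95be428) (.leaf 0x4363c370001467b230450b504c384d5c147d4255076f132d335)) (.node (.leaf 0x2af6382500011f990aec3e76123784d5613dd3655f278b41d546) (.leaf 0)))) (.node (.node (.node (.leaf 0x244c4365000004e20f8d0f8c102605966d41535d6600cb7b2586) (.leaf 0x2dcd3f05000138413d99518b12b605b6012e045a13f3447b2000)) (.node (.leaf 0x3f132a69000119733b573b6818818474304f54e82294a151832d) (.leaf 0))) (.node (.node (.leaf 0x4f1a081200000e85115227f21e418550bd19e4107d466e486262) (.leaf 0)) (.node (.leaf 0x17932031ad90001267b49413869146104729d4b47e42d017b786486) (.leaf 0))))) (.node (.node (.node (.node (.leaf 0x3ada1e280000029e08bb08ba16d48552f55325a936c2982ab113) (.leaf 0x4a2c045c000032e62b5745ea1c6205906563869a76b4da3337bd)) (.node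 (.leaf 0x2cb70c4f0000169637033702127284f12977e0f50a14f47d9518) (.leaf 0))) (.node (.node (.leaf 0x3b991c9500000c092257225616f18532c81d96cf57b267149537) (.leaf 0)) (.node (.leaf 0x3c0e4341000022e43a003040182205d6691363b36206b8546214) (.leaf 0)))) (.node (.node (.node (.leaf 0xcdd2dc90001073616181617083685b4745cd4573f929415f214) (.leaf 0x259346700003e58483c52e5048685350e56c00557b1ab28f428)) (.node (.leaf 0x46c723f800011c7d3f6a1c261ab404f3916495012971be12d113) (.leaf 0))) (.node (.node (.leaf 0xddd12020001111e2d352d47087685b1c306025d19b0cb15f537) (.leaf 0)) (.node (.leaf 0x33ac07b400012a30469129f314930590b61f438a7e07815372ab) (.leaf 0)))))) (.node (.node (.node (.node (.node (.leaf 0x36f6348a0000018305350534163784d5116064f24e62b629570b) (.leaf 0x1f281f0d0001307f3fc939bc0e4505131065427f6dc6f8486262)) (.node (.leaf 0x477f12a60000152516cc34be1ae585f1d437259c1977b600055a) (.leaf 0))) (.node (.node (.leaf 0x341818ac00000ad10ab71f5414c18512667327255f13cb428734) (.leaf 0x18fb1d2100014c8e53e82ee00c378572d41a108314457d295049))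 (.node (.leaf 0x14e9175c0001213e44c12ed00a9705324574379852263c02518b) (.leaf 0)))) (.node (.node (.node (.leaf 0xbbc49030000060812d712d606f38596f70fa28e04217d2cb5fc) (.leaf 0x38042800003b132a0b4da504458510613c24575404a66de734)) (.node (.leaf 0x515a392000001af42f4f3d791e858555772e81b95d90826de2c7) (.leaf 0))) (.node (.node (.leaf 0xe1e530500000fd32aac2aab088185d7f122e7d103635f7bd428) (.leaf 0)) (.node (.leaf 0x20b03d7e00012849111a4aab0e928415dd72850c1f205e5be2c7) (.leaf 0))))) (.node (.node (.node (.node (.leaf 0x107213b5000103bd0c2e032708c78451f03735081dd3d92c7621) (.leaf 0x42e1444300013570158d251e1a3504368128b3581d4401586295)) (.node (.leaf 0x380544770001180236df2c67166104b68436d4b355e2e7786537) (.leaf 0))) (.node (.node (.leaf 0x2957538800000d45252d23d910e584f80047e6d60f32df124156) (.leaf 0)) (.node (.leaf 0xbf00d13000124a647df2a7906f584113d32947f5f36282cb537) (.leaf 0)))) (.node (.node (.node (.leaf 0x315203a200000864194d194c14448450541585736e66b65be113) (.leaf 0x123152470001421a32204b840a258437df4413ce20b435124295))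 (.node (.leaf 0x3737267400011dfd11080735164384f3c919e7a2037340486333) (.leaf 0))) (.node (.node (.leaf 0x1fb746cc0001127a2fde2e3b0e5584f6c468708757066e486262) (.leaf 0)) (.node (.leaf 0x1283176f00002c3f22051c980a340472467f11345de34d04968a) (.leaf 0))))))) (.node (.node (.node (.node (.node (.node (.leaf 0x2a882c54000000f60367036612320514582ff7572207407d9586) (.leaf 0xf9425d800002f5f33ad123108b18493bc3d16513e0435124295)) (.node (.leaf 0x3b3a20aa000014780bee248216e385533b5582e94484167345be) (.leaf 0))) (.node (.node (.leaf 0xb34477200000a321de11de006e38496d439d5e21006287865be) (.leaf 0x7fa2ae300004914274e092c067785543c1fc4794806007345fc)) (.node (.leaf 0x2ddf410d0000205a3a5543f412b685f6325e331201c73a7b2586) (.leaf 0)))) (.node (.node (.node (.leaf 0x46e087a000005741136113504c505d0ce5a135342f02032d214) (.leaf 0x22834e170000399e410305870ed10477793a54d8282174428262)) (.node (.leaf 0x343b370000011a333c743c7314c28575470653ce36e34a18b149) (.leaf 0))) (.node (.node (.leaf 0x178a3c2f00010f292950294f0af10555c07e34957c61321806de)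 (.leaf 0)) (.node (.leaf 0x450b158000002763342328de1a8105721600415a41320e15632d) (.leaf 0))))) (.node (.node (.node (.node (.leaf 0x387223d20000032b0a770a76166784538e2b210727340d2cb5be) (.leaf 0x239548d2000034372e120d010ef184b6f404469a3360c21497bd)) (.node (.leaf 0xd63265f00001745382323c608670473c67aa7ef15266a2625fc) (.leaf 0))) (.node (.node (.leaf 0x11b94cc600000ca923c923c808f385375a3f33ee74b74d1245be) (.leaf 0)) (.node (.leaf 0x4eb238c6000123bd447247261e3384556c4b40c82b117b7867d9) (.leaf 0)))) (.node (.node (.node (.leaf 0x319b1da5000107cc025017b314518572e24e73b64e03456de214) (.leaf 0x1c78354f0000403b3b174c960cc78515247e129e71762f4287d9)) (.node (.leaf 0x6b453d500001d394066406506558498064dd3b30674fa6de734) (.leaf 0))) (.node (.node (.leaf 0x4b130e53000111cc2e9e1d7d1c818471620f843f0d66645372c7) (.leaf 0)) (.node (.leaf 0x2e3399300012b3410134377049704757f1b02ea3242a74862ab) (.leaf 0)))))) (.node (.node (.node (.node (.node (.leaf 0x2d16413d0001020e06fd06fc12a284d6387e65f80983227d9586) (.leaf 0x15600884000131ac3c5c4e850aa60410d13324eb1fa6e97b2734))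 (.node (.leaf 0x29150e5f000015db35e6181810e184b1627965034832f341d518) (.leaf 0))) (.node (.node (.leaf 0x4b06147900010b6e20d820d71c8104d1fe4fc2f84f13ef48670a) (.leaf 0x20bd42110000518a421e512d0e9285b6490af2b46034045be70a)) (.node (.leaf 0x43ff181a000022092f8333171a5785f2584b705b21d11a15670b) (.leaf 0)))) (.node (.node (.node (.leaf 0x1bd74bf80000069e147b041d0cb484f74252738730333870b15f) (.leaf 0x4159144800003c9c447352a418e48531fa4cd70552241f12d28f)) (.node (.leaf 0x15134b5e00001bae3e6d07c10aa18477357953586fb4de262149) (.leaf 0))) (.node (.node (.leaf 0x38973e11000010772c062c05167184f5e906607d07825a786537) (.leaf 0)) (.node (.leaf 0x304439a0000129394b4b4b4a14260495820760a331d1a0113786) (.leaf 0))))) (.node (.node (.node (.node (.leaf 0x3dc5382c0000044d0dde0ddd185504b5617235711c015d1562cb) (.leaf 0x22123e53000036c04da62d280ec18455ef0e62e151b62632d262)) (.node (.leaf 0x1a3f0cc1000018bd3a563a550c8285f1360512112cc3465be70a) (.leaf 0))) (.node (.node (.leaf 0x4043289f00000de71f241a9818a404740267613476358b54668a)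 (.leaf 0)) (.node (.leaf 0x3eb04fc40001258c488a488918728417a625b4b37de17a12d486) (.leaf 0)))) (.node (.node (.node (.leaf 0x2aa533d8000108fc13fb1ad3123304b4ff42b6365cd0b212412d) (.leaf 0x3f7432840001441b4cf7513018878494e01c774872826815618b)) (.node (.leaf 0x1ba0183900011ecb0a953f2f0cb204125b49c70337244b621262) (.leaf 0))) (.node (.node (.leaf 0xf2490405fc00001324311c311b1c4104908f6797243d76f8537262) (.leaf 0)) (.node (.leaf 0x376a331800002d3046bc405316460554ee20c6513e06d028f295) (.leaf 0)))))))))

/-- part of a table -/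
def entries84 : Trie := (.node (.node (.node (.node (.node (.node (.node (.node (.leaf 0x3c128dd0000002b00a300a204b60434076da00648e03f113786) (.leaf 0x2892484b00002dc02e23415610d18456e648a35d66076170a586)) (.node (.leaf 0x4b5b046a0001137b31cc31cb1c8585706645f67814e4cc55a2c7) (.leaf 0))) (.node (.node (.leaf 0x4e461a340000094c1b9e1b9d1e2404d28c2bf1dc7b964d70b7b2) (.leaf 0x3a064d25000045582f4826b916c104d7632dc3b620b58e32d734)) (.node (.leaf 0x50264e0700001f3042af170e1e6204d77846029f1de7fe3337bd) (.leaf 0)))) (.node (.node (.node (.leaf 0x48c604d20000049607c60ebc1c3404d06d20908162464d70b7b2) (.leaf 0x1e4730f60001378b45cc10a00e2604f4bd3c526e5705c368a262)) (.node (.leaf 0x15f31b440001191a084f2ac50ab68472ac2436cc7752d87b2734) (.leaf 0))) (.node (.node (.leaf 0x245a4e9c00000e370912274e10268557876f73345ad18e7b2586) (.leaf 0)) (.node (.leaf 0xd3e0a0b000126042c323f20086585d0f16af0d00585ed1806de) (.leaf 0))))) (.node (.node (.node (.node (.leaf 0x4dc223510000025707e005f11cd404537e0701dc7fb34a2ab15f) (.leaf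 0x1c9274941080000324821514fed10a605363241535d7e355c7b2000)) (.node (.leaf 0x2fdf008f00011635366e366d12f585f00b80161252d242124518) (.leaf 0))) (.node (.node (.leaf 0x458e001600000bbe219f219e1a9105d0022d57540a811a15632d) (.leaf 0)) (.node (.leaf 0x13ba01070000227745ee14b90a758550173eb79b4bb78b41d55a) (.leaf 0)))) (.node (.node (.node (.leaf 0x48e32613000106e8154815471c350473c22b27883d140d2cb180) (.leaf 0x3e84409a00003d8440c81e2218710496294330d048d7b500055a)) (.node (.leaf 0xb4f3b7c00001c131caf3ee806e405f5aa44a6ef4c222c70b24d) (.leaf 0))) (.node (.node (.leaf 0x563258000010ce2ca32ca2044684d4dc65f7b453d0cf24d295) (.leaf 0)) (.node (.leaf 0x18d2c831f79000129b52f6c0ddf127104731c3c85dc7602df262156) (.leaf 0)))))) (.node (.node (.node (.node (.node (.leaf 0x4b1022f10000013d0450044f1c818413750a53fa42a69c48670a) (.leaf 0xb6951a800002fe734bd3fd106e50537ce2fb4b354817d786486)) (.node (.leaf 0x2210215a000114d106bc342a0ec184135048d4103dc43b428124) (.leaf 0))) (.node (.node (.leaf 0x42327100000a811633114404460454df06865127e7d628f295)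 (.leaf 0x24f40f0000004ac63ff7376910378491710ab0c443a27a180546)) (.node (.leaf 0x3e70182000120cf39cd099604b704f0230881a77cb195734621) (.leaf 0)))) (.node (.node (.node (.leaf 0x2dfd08ca000105bf06b1120c12b785b0d54c97595d05c726212d) (.leaf 0x115b511900013a5a2298470508e48577c55967330e436a04924d)) (.node (.leaf 0x3eab189400011a9138bf147618720572642de6cf7e17dc546486) (.leaf 0))) (.node (.node (.leaf 0x469b2ea600000f812a02298b1ab185748940303e1873bd000295) (.leaf 0)) (.node (.leaf 0x15665358000127d2375f42d30aa604d7f751e45752c2d815f734) (.leaf 0))))) (.node (.node (.node (.node (.leaf 0x3fe137cb000103750b5702f218970435556d780745d15d15618b) (.leaf 0x42db0f1f000034c63c734be01a348571737a70f01f16b812d113)) (.node (.leaf 0x4a433798000117a638a538a41c6504755248e3cc70109f2957bd) (.leaf 0))) (.node (.node (.leaf 0x3e64443500010cf8247b040a186704967f3425215e90480005fc) (.leaf 0)) (.node (.leaf 0x4a3624cd000024394790478f1c6284d3a36913d348a4a8333025) (.leaf 0)))) (.node (.node (.node (.leaf 0x274551cf000008191888188710a604b7d073b70857f0cb7b2586)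 (.leaf 0x1ea63b6800014125415315be0e3504d5a825c1277b34c521441d)) (.node (.leaf 0x126e333300001d9c39af29730a2705d4f111f5a364413241d335) (.leaf 0))) (.node (.node (.leaf 0x199d1e830001122505c82f3f0c5485b2fe0af16c3691b15be7b2) (.leaf 0)) (.node (.leaf 0x1be7454a00002bbb4ccf44140cb704f69d5f14d44b07042cb049) (.leaf 0))))))) (.node (.node (.node (.node (.node (.node (.leaf 0x4989216e000100b30280027f1c510533527c626e22069c537262) (.leaf 0x46c5201900012ed511ea3cb01ab404b3295dd13476317a54668a)) (.node (.leaf 0x29064e35000114240680063310e104d77d2a837f66b5ed41d156) (.leaf 0))) (.node (.node (.leaf 0x4ba13d8f000009e61d221d211c920435de7f31b42a91b15fc2c7) (.leaf 0x16104b3b000147b637be4eed0ac184173151c52a56430270a786)) (.node (.leaf 0x35c0016e00001fff340e439214f404102170058361c50a33524d) (.leaf 0)))) (.node (.node (.node (.leaf 0x2afb2ff50000052a106105cc12378574a942475916530841d12d) (.leaf 0x1fa268028c2000138f63d6646f310710414060d30b33ec0bf262156)) (.node (.leaf 0x2d933578000119d63bf63bf512b28475284475f81a54b17d9000)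 (.leaf 0))) (.node (.node (.leaf 0x2005489f00010ed828a728a60e8104b6ec7b12a24b25626de2c7) (.leaf 0)) (.node (.leaf 0x4b8d03f3000026e8407348491c9105b05a1bf2b441133e53770a) (.leaf 0))))) (.node (.node (.node (.node (.leaf 0x259438d4000102e500d0099d105184956d39b30040e60e7bd586) (.leaf 0x342535e6000033861d403e1614c204b5302e562d04e51d2ab295)) (.node (.leaf 0x3f463048000016ef37963795188504d4ae4d70c16c047a518428) (.leaf 0))) (.node (.node (.leaf 0x105c53e200000c5c231f231e08c58598081166927d078970a786) (.leaf 0)) (.node (.leaf 0x272a18f7000023562abe46bc10a305526f2206f960c77a41d546) (.leaf 0)))) (.node (.node (.node (.leaf 0x4fa29e30000078311c214d604d58554241c668024c020428214) (.leaf 0x401e10ef00003f47530d30ec18a185d1a97cc1480a2147586295)) (.node (.leaf 0x3626260000001cda0b2f3ff3162304d3c009476606f6ad214621) (.leaf 0))) (.node (.node (.leaf 0x371c2b5f00011177058a2df816418594457d70647ca24055a734) (.leaf 0)) (.node (.leaf 0x8f5535f00002aa84c3e3f52069784b7f77c61bc63a6be5372ab) (.leaf 0)))))) (.node (.node (.node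 (.node (.node (.leaf 0x20f324a2000001c9061a06190e968473a11052411c74a324d70a) (.leaf 0x2cc13ab80001310b3f094f7812750435984075ab15b2f341d518)) (.node (.leaf 0x1429122a0000157c285219580a830531c548360744972e7bd2ab) (.leaf 0))) (.node (.node (.leaf 0xc14325f00010b2003621c7708248494dc7fb5a936c32e7d9113) (.leaf 0x1527339500004e6753fa53890aa304f4f942476422330841d335)) (.node (.leaf 0x14142e93000021a7452201ef0a818494880c77d112e5067bd32d) (.leaf 0)))) (.node (.node (.node (.leaf 0x12a253dd0001065213ac13ab0a3504580679535836d4de262149) (.leaf 0x17373cae00003be85281151c0ae384f5cd7b81072d36772625fc)) (.node (.leaf 0x43c10f0400001b4c27c429f91a5504317135b0a315115d5182cb) (.leaf 0))) (.node (.node (.leaf 0x36a80301000110262b5e2b5d16330510451ac60204d78373470b) (.leaf 0)) (.node (.leaf 0x1e9f48b5000028c40feb04260e3485f6f252b1b75ba2f933315f) (.leaf 0))))) (.node (.node (.node (.node (.leaf 0x2ade4faf000004050d030d02123685d7a376f30c44073a7b2586) (.leaf 0x497b23aa0001360749ad3af61c468573895927881a51e824d180)) (.node (.leaf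 0x207e4a0500011857080824bb0e8685d7163e33fa3ab4a324d70a) (.leaf 0))) (.node (.node (.leaf 0x31f7444f00000d9925e71af4145684f6817ea3ba3640d824d149) (.leaf 0)) (.node (.leaf 0x534c184f000125203ad248321ec405925c77314b5d761d2ab15f) (.leaf 0)))) (.node (.node (.node (.leaf 0x428f2169000008b01a1400611a3205f3524b03b66ca65c12d734) (.leaf 0x436c23ad000143154d3553731a470593896c81e263814d51870b)) (.node (.leaf 0x190c0d3000011e6919f4152c0c4405914002d0816ec03b5be15f) (.leaf 0))) (.node (.node (.leaf 0x4cef301c000012d3307e307d1cb605f4ab6f526e2203c768a262) (.leaf 0)) (.node (.leaf 0x472d1c3600012cc148f2160d1ae305b2c05513ee20f1645865fc) (.leaf 0)))))))) (.node (.node (.node (.node (.node (.node (.node (.leaf 0x32ed46e10000006f01940193147705b6c700a2e964b21c7865be) (.leaf 0x24b7525200002e4a2e3a4e28103384f7e01306bd0df38c26212d)) (.node (.leaf 0x458f32c3000013d1325a10531a9105f4e63680cd1737db15632d) (.leaf 0))) (.node (.node (.leaf 0x1e9d00370001099a18e91c5d0e3485b0044d16995ee3fc3357b2) (.leaf 0x3ebd25e40000467f4b6941ae187285b3be2ee77237c3f412d537))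 (.node (.leaf 0x14924b3f00001f9a0c5f2c0f0a918457317464370a57187bd428) (.leaf 0)))) (.node (.node (.node (.leaf 0xe082b7f000104e20ae40f8e08810514477690c168224b025428) (.leaf 0x28220a7b000138423ce14f8610c30450fc3730c45c13d92c7546)) (.node (.leaf 0x2fe52dee000019753b6a3b6912f604b4776bc5ab3963867b2156) (.leaf 0))) (.node (.node (.leaf 0x41860c9600010e85176827f318f204d1312de6cf01a0a9546537) (.leaf 0)) (.node (.leaf 0x4a0c17150001267c2bda196b1c6105923d30e3cc54f6352147bd) (.leaf 0))))) (.node (.node (.node (.node (.leaf 0x3d808700001029e08bc00c704b68510ce0a043142f03f68a786) (.leaf 0x35263722000132e64f9d1b9e14e304d54923c28e3e34167345be)) (.node (.leaf 0x2a5205b0001169719793704049304b3324088077e04646de2ab) (.leaf 0))) (.node (.node (.leaf 0x27f1110e00010c092259225810b78431ac7f022d7b974d12412d) (.leaf 0)) (.node (.leaf 0x5f84f16000022e53874465d04f58517954443a838917d786486) (.leaf 0)))) (.node (.node (.node (.leaf 0xd2d4be100000738161a1619086505b7410ab49555e27a1806de) (.leaf 0xca4285600003e5a2bcf52e608350493fd0d31483291ec262149))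 (.node (.leaf 0x232b232a00011c7e3f6c3f6b0ee205737a46029f6634a8333025) (.leaf 0))) (.node (.node (.leaf 0x4b6a079a0000111f2d492d481c860550b143267850269528f2c7) (.leaf 0)) (.node (.leaf 0x45ef499500002a314bf32bf71a9705f7093688074527db15618b) (.leaf 0)))))) (.node (.node (.node (.node (.node (.leaf 0xf92456a000101830069053608b184569f2c478f1b578d262295) (.leaf 0x2b2a4c58000130803be7458a124305574b4742eb6d435f02512d)) (.node (.leaf 0x14f4088d0000152634c034bf0a978490d174379863a1790252ab) (.leaf 0))) (.node (.node (.leaf 0x2d41463c00010ad10e0f1f5512a60436b16bc3126af3867b2586) (.leaf 0x4c561b9500004c8f44093c051ca484d2b321612057a12333315f)) (.node (.leaf 0x11024fef0000213f44c21e3308e10457a87f63ea4a741741d6de) (.leaf 0)))) (.node (.node (.node (.leaf 0xcf83edf0001060812d912d808378515fb7f70b42051d2180333) (.leaf 0x3b2b303300003b141e1232e316e30574ad0942847e06ad2145fc)) (.node (.leaf 0x11ce27b900011af42bd43bac08f405d3e963337406b4b17d924d) (.leaf 0))) (.node (.node (.leaf 0xefe288f00000fd427da2aad089785d4006252cd6d560a02518b)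 (.leaf 0)) (.node (.leaf 0x42b6156c0001284a3aba35351a3384d21274f3f5535147000335) (.leaf 0))))) (.node (.node (.node (.node (.leaf 0x2cc7062e000103be0c300c2f127504f0927c5627373417180518) (.leaf 0x473300d50001357228792a281ae384701422403d4ff7b70005be)) (.node (.leaf 0x5113262200001803393d07fe1e818473c32992f85d92274862c7) (.leaf 0))) (.node (.node (.leaf 0x864088c00010d45252f252e06870490d16814ef56810e48618b) (.leaf 0)) (.node (.leaf 0x44d21f50000124a747e0104f1a7484531817052526365c12d24d) (.leaf 0)))) (.node (.node (.node (.leaf 0x9011ba500010864194f194e06a20432b74304125f629c335786) (.leaf 0x1c751c750001421b532e4a340cc784b2c538e0831440de428049)) (.node (.leaf 0x1c7f38f000001dfe415241510cc785f57006909d7a748c32d7d9) (.leaf 0))) (.node (.node (.leaf 0x52844bb20000127c2fe02fdf1eb104973d0850ea4c9186734180) (.leaf 0)) (.node (.leaf 0x2df2063f00012c404d15450612b784509380163616567712412d) (.leaf 0))))))) (.node (.node (.node (.node (.node (.node (.leaf 0x45954df7000100f6036903681a9184b7764bd5ce4c83da518428) (.leaf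 0x1f3307e200012f5f175d4eb00e458470b916b4d8433227486262)) (.node (.leaf 0x40e6433f00011478338f338e18b704d66771a5f41617b7586335) (.leaf 0))) (.node (.node (.leaf 0xce035de00010a3203151de2083704152f7bb5a343841441d335) (.leaf 0x294e3c460001491d522c32d310e505d5c222f3274744de262156)) (.node (.leaf 0xedb50750001205a127543f508958577b84e51e030635f025428) (.leaf 0)))) (.node (.node (.node (.leaf 0x2446497a0001057411370b5f102604d70244f6ee7da2d815f000) (.leaf 0x10d80bef0001399f37cb278408d585111f8032c233d6d82c7786)) (.node (.leaf 0x3ba948e300001a34195a3c7516f30536f51ac5e24497837345fc) (.leaf 0))) (.node (.node (.leaf 0x427205600000f2a2952295104c304f33228516e42705932d333) (.leaf 0)) (.node (.leaf 0x53c41f85000127630e40464a1ed404931d2040813bf5b718b15f) (.leaf 0))))) (.node (.node (.node (.node (.leaf 0x1c1b4a480000032c040b0a780cc185771d47d08753c58e32d124) (.leaf 0x32d247a400003438431d4a7314748456d92977335006cd70b24d)) (.node (.leaf 0x18db1e8b000017461fb824d70c368572fe53431932c4e1113262) (.leaf 0))) (.node (.node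 (.leaf 0x67a455300010ca91e3418a2064785569e19e7a253a66e486335) (.leaf 0)) (.node (.leaf 0x1f9646fb000023be472847270e5484d6c854d1201363465fc15f) (.leaf 0)))) (.node (.node (.node (.leaf 0x4036475a000007cd17b4053518a284d6d25595762b265c546734) (.leaf 0x2c6123380001403b3e413acc126604337c33261248a6e97b2518)) (.node (.leaf 0x4aae0fa400001d3a151038981c7205d18c2c81e65262503337bd) (.leaf 0))) (.node (.node (.leaf 0x160b2134000011cd2e9f15550ac105734e31e2c237e5132c72cb) (.leaf 0)) (.node (.leaf 0x121736d900002b351dbc47f30a2484f5414595a91a97077d968a) (.leaf 0)))))) (.node (.node (.node (.node (.node (.leaf 0x1cac37ff0000020f06ff06fe0cd20595597a60f94426ba18b180) (.leaf 0x85a2b0b000031ad4fb14fb006868554405924904dd7d624d32d)) (.node (.leaf 0x396e4a23000115db35e835e7168705d7191383170bd0ff55a2ab) (.leaf 0))) (.node (.node (.leaf 0x455034b100000b6f20da20d91a858415170d90054923da518428) (.leaf 0x13324c800000518c435a4ff30a6584575102c4955983081806de)) (.node (.leaf 0x49d03ca000122092e9c448d04d285b0565db03e2bc57418b295)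 (.leaf 0)))) (.node (.node (.node (.leaf 0x505842530001069e147d147c1e6585164e10d14f4092672957bd) (.leaf 0x48ee0cd900003c9d447a52a51c3505d1386451271a60342cb41d)) (.node (.leaf 0x2c3d05b900001baf0fe73e6e126285b0863bf5ab54f69b049156) (.leaf 0))) (.node (.node (.leaf 0x27bf3dec0001107705322c0710b385f5e65aa6f96c15ff41d12d) (.leaf 0)) (.node (.leaf 0x280e3f200001293a2963102c10c105d6040a133416f3042c7000) (.leaf 0))))) (.node (.node (.node (.node (.leaf 0x1c3321ee0001044d0ddf0b500cc284735e7c00f932c03918b180) (.leaf 0xdc64ff5000136c016674031087604d7a934b07d07873a15f537)) (.node (.leaf 0x70c44f9000118bd3a583a5706640596904841fd63e24e33528f) (.leaf 0))) (.node (.node (.leaf 0x104751eb00010de7141d269508c504f7d45262487097612c72cb) (.leaf 0)) (.node (.leaf 0x46224510001258d3e07488b04c504539a0e66cc48562632d734) (.leaf 0)))) (.node (.node (.node (.leaf 0x29c827fa000008fd1ad51ad410f50513f247b7587a5435262156) (.leaf 0x4f1f14320000441d35734bd11e4185f1f91996ae3eb2a7486124)) (.node (.leaf 0x2c58282800001ecc3972424112658513f740e5dc43c41441d518)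 (.leaf 0))) (.node (.node (.leaf 0x410832c50001132425c7311d18e20514e63aa7e445f41f12d537) (.leaf 0)) (.node (.leaf 0x3e131a100002d321f0e422804b70434c91226751ba186214621) (.leaf 0)))))))))

/-- part of a table -/
def entries85 : Trie := (.node (.node (.node (.node (.node (.node (.node (.node (.leaf 0x487f537e0001002b00a500a41c2585f7fd73e07244024778641d) (.leaf 0x7524d0500012dc14de01d4106668457602237e85123921136de)) (.node (.leaf 0x43430c6b0000137c31cd186f1a4504712e5a465651711a1562cb) (.leaf 0))) (.node (.node (.leaf 0x40c513d0000094d1ba01b9f04c20597c77737d205351d2ab295) (.leaf 0xcba41420001455b33494dad08358556391307d22a138c262295)) (.node (.leaf 0x324e425500011f3142b04197146405d64e16155d26422162124d) (.leaf 0)))) (.node (.node (.node (.leaf 0x1d1048ca00010496098b0ebd0ce18416f35553cc5a4265295025) (.leaf 0x170e2c31000037934d8a38de0ae105d45511f65a19e13241d6de)) (.node (.leaf 0xf5b09370000191b30ed384008a48570e05c00f03d44b1049113) (.leaf 0))) (.node (.node (.leaf 0x140f257d00010e372750274f0a8105f3b25fb2ef37d2e4025428)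 (.leaf 0)) (.node (.leaf 0x8eb01cc0001260548df48de069705702a6827853b964f5372ab) (.leaf 0))))) (.node (.node (.node (.node (.leaf 0x1d74186a0001025707e207e10ce684926061a3d36c449768a7bd) (.leaf 0xe4d507d0001324813c74086088505b7b87690c14dd72e02532d)) (.node (.leaf 0x42e04afe000016363670366f1a3504172a75d0190167c4586295) (.leaf 0))) (.node (.node (.leaf 0x53d10c0c00010bbe21a0037f1ed48431226291762e357418b15f) (.leaf 0)) (.node (.leaf 0x3f211f210000227845ef39d418830433130c050f53612b1562ab) (.leaf 0)))) (.node (.node (.node (.leaf 0x1fb04883000006e9154a15490e558416eb1f41917b36f8537262) (.leaf 0x6854d6600013d851afc2668065404b7691da5af1a34765fc68a)) (.node (.leaf 0x36e44a5e00011c133eea3ee9163704971e77505b700202295621) (.leaf 0))) (.node (.node (.leaf 0x4e094340000110ce2ca4055b1e220536691250da797097621262) (.leaf 0)) (.node (.leaf 0x18e240e0204000129b611782583102205d02e45135d7c536a7d9000) (.leaf 0)))))) (.node (.node (.node (.node (.node (.leaf 0x474d35fb0001013d01d704511ae405b5314a055d7c33f454628f) (.leaf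 0x52d00c0700002fe84d9b4ef01eb48411224c01767f170d33515f)) (.node (.leaf 0x1cb421ea000014d20cda342b0cd284935e5db1043a145018b41d) (.leaf 0))) (.node (.node (.leaf 0x26bf3fb700000a821e961e95107285f6114550b31d1707049156) (.leaf 0x23401a2b00004ac752af51af0ee504128b2bd1e61f25b47347bd)) (.node (.leaf 0x26f4381f000120d042051cca107684955e7f41ef51034415f518) (.leaf 0)))) (.node (.node (.node (.leaf 0x44e60361000005c0120e120d1a7704d0501530f40071470005fc) (.leaf 0x43f61ec400003a5b4ca132481a5784d3062cc05b60458115670b)) (.node (.leaf 0x51bc370900001a923d003cff1e928595474bc50c4c61775be70a) (.leaf 0))) (.node (.node (.leaf 0x4df50b4b00010f8124b52a031cd584b10f59a2e13e846c32d262) (.leaf 0)) (.node (.leaf 0x3ec044c2000027d31d874a51187404168c19f76d7c029112d24d) (.leaf 0))))) (.node (.node (.node (.node (.leaf 0x4a161dc0000003760b590b581c6184d2e50e801260f32a214025) (.leaf 0x426311ec000134c850c419341a250471c157803e2bc7b6000295)) (.node (.leaf 0xb52b3a000017a738a738a6045584b4432297258002b555a214) (.leaf 0))) (.node (.node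 (.leaf 0xcf2085c00000cf9247d247c08378450c76c27a223a41741d335) (.leaf 0)) (.node (.leaf 0x3b2d07bd00012439165f423816e305b0b668f47949e1867345fc) (.leaf 0)))) (.node (.node (.node (.leaf 0x10a146720000081a188a188908d30436bc08437642772c2c7621) (.leaf 0x35b63c65000141291dda3ed414f384d5c549d3ee61432a2145be)) (.node (.leaf 0x3785415600011d9c2f9431c4165104b63a4134eb56942055a214) (.leaf 0))) (.node (.node (.leaf 0x307015a4000112262d0a2f4014278412191c905b00226729570b) (.leaf 0)) (.node (.leaf 0x380950d300012bbd4cd14cd016610537c036e3a869643d786486) (.leaf 0))))))) (.node (.node (.node (.node (.node (.node (.leaf 0x15e27d8000000b400910281046685d3ec4273d06c75c31136de) (.leaf 0x14db22cd00002ed844004e6b0a9585737164a2282723d57bd428)) (.node (.leaf 0xc9a0dda0000142532eb2ea608348551575c00f017e4b1049113) (.leaf 0))) (.node (.node (.leaf 0x4444233a000009e71d2317671a6404937c5dd1fd63e3f454628f) (.leaf 0x2269162f000047b7519b40090ec70532247323a471d62f4287d9)) (.node (.leaf 0x372190c00011fff43933f1c04a78452715642a633a195214621)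 (.leaf 0)))) (.node (.node (.node (.leaf 0x1a9d3bff0001052a106310620c9185b5ba6d327d0d92b555a70a) (.leaf 0x4df94a2d000138f717d53b2e1cd585371968c0117653cb32d124)) (.node (.leaf 0x22a84b0e000019d73bf83bf70ed205172d7eb0f96dc45018b41d) (.leaf 0))) (.node (.node (.leaf 0x431d34ad00000ed928a928a81a4185b5146c84310441785182cb) (.leaf 0)) (.node (.leaf 0x3321ce4000026e9145e499a04a38452cf33f74456557d149621) (.leaf 0))))) (.node (.node (.node (.node (.leaf 0x4b3b2eaf000002e6099f099e1c828574897ec21139b0435be2c7) (.leaf 0x4c6b4ca90001338614752f7c1ca60577535cf6ae11b39268a262)) (.node (.leaf 0x1c4019c8000116ef379736760cc404128242c4ca72d4502ab7b2) (.leaf 0))) (.node (.node (.leaf 0x4f6328e100010c5c23201d851e460474080451826b90cf28f41d) (.leaf 0)) (.node (.leaf 0x3cfd149c0000235746be46bd183585b20061778f3e07b5000295) (.leaf 0)))) (.node (.node (.node (.leaf 0x2a5347640001078316ed16ec12268476d32433510ad2d87b2000) (.leaf 0x328c189000003f4b4c13530e147105926404e6cf38e1ea786486)) (.node (.leaf 0x3e042f500011cdc3ff53ff404b70416601b55b17a05ae214621)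 (.leaf 0))) (.node (.node (.leaf 0x4f331e4b000011782dfa2df91e438472f75d20c831f4cc6de7d9) (.leaf 0)) (.node (.leaf 0xcb6317200002aa9499441fa083584d4c61a678f00b242262149) (.leaf 0)))))) (.node (.node (.node (.node (.node (.leaf 0x32d9009a000101c9061c061b147485300c54b70511223f62128f) (.leaf 0x49fe3ce70000310c4f7a4f791c5685d5d24fe59b6314ea24d180)) (.node (.leaf 0x1dfd00030000157d355312350cf685b0010e52f41e103f68a025) (.leaf 0))) (.node (.node (.leaf 0x4f0a0b8400000b21201a20191e4105511519719140764f537124) (.leaf 0x233250c0b8500014e6d4293513f10410591151ed334407506025586)) (.node (.leaf 0x19821242000121a7452337d30c540451c71100fd0b86c55be15f) (.leaf 0)))) (.node (.node (.node (.leaf 0x336b50e30000065313ae13ad14870577c12e86075680826de18b) (.leaf 0x413c09cf00003bea5282448a18e38590eb80503d3577ae0005be)) (.node (.leaf 0x26b9148100001b4e25b33df210728531ff06c6d661065e7d9156) (.leaf 0))) (.node (.node (.leaf 0x4d3b3625000010272b602b5f1cc385753447d09d73b6f132d049) (.leaf 0)) (.node (.leaf 0x4a910e9e000128c4487525251c718431685d51e60a17837347bd)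 (.leaf 0))))) (.node (.node (.node (.node (.leaf 0xe9a2916000104050d050d04089185540c37775409035f025428) (.leaf 0x4b1918a50000360a4c1132cc1c818532664463fa37710e48670a)) (.node (.leaf 0x2fec1bd5000118591b8f39c412f60592ba42e5ab0d60cb7b2156) (.leaf 0))) (.node (.node (.leaf 0x213048d900010d9904340ab20ea28416f427731913356e621124) (.leaf 0)) (.node (.leaf 0x90e2c330000252132e9433506a205d45525e0062c9250333786) (.leaf 0)))) (.node (.node (.node (.leaf 0x2e9638ae000108b01a1517b012d184d56a76875722f3d970a586) (.leaf 0x80a3ba7000143184d6640f706820555b345276e0712fa5fc32d)) (.node (.leaf 0x201d2c9e00001e6c41ca41c90e8185b45e7d721153f24055a2c7) (.leaf 0))) (.node (.node (.leaf 0x204324a6000012d4307f13780e850473a13832a23c43405372c7) (.leaf 0)) (.node (.leaf 0x25ca072900002cc34d5b35fc10550550a84e570813a6b4025586) (.leaf 0)))))))) (.node (.node (.node (.node (.node (.node (.node (.leaf 0xf394d960001006f0196019508a385376f3d75f44ad27041d335) (.leaf 0x5118200800012e4a2da845791e818513264af43f7a56f853770a)) (.node (.leaf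 0x2bb41562000013d2261f1fd212538492121aa39f33c60e02512d) (.leaf 0))) (.node (.node (.leaf 0x1d212d7c0000099b1c5f1c5e0ce204346f6a53804be70d333025) (.leaf 0xe733994000046814e7b4630088784757f2a93170186b47bd18b)) (.node (.leaf 0x1994431700011f9a4320431f0c548496632ed16c4a04765be7b2) (.leaf 0)))) (.node (.node (.node (.leaf 0x1347486b000004e30f900f8f0a6604f6e873025d4655a715f486) (.leaf 0xfd60cfe000038443e75164f08b484d13a5b357325e6ed04968a)) (.node (.leaf 0x12b14f01b430001197536f9193d0a978412ac1aa2cd05171402518b) (.leaf 0))) (.node (.node (.leaf 0x20b948a400000e8627f527f40e928536f04bc50c4700e25be2c7) (.leaf 0)) (.node (.leaf 0x443442310000267d45a2397b1a6284964b0b81662d017a546486) (.leaf 0))))) (.node (.node (.node (.node (.leaf 0x11632a2c0000029f08be08bd08e604742b6ce47f7b149815f486) (.leaf 0x356e3fd0000032e7500c47c314e605d61519a4953f628768a55a)) (.node (.leaf 0x14ee461d00001698370504930a9705d6af7461bc4526b47bd18b) (.leaf 0))) (.node (.node (.leaf 0x2fbc370b00010c0a225b225a12f28595476bb5ab7df4d9049156) (.leaf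 0)) (.node (.leaf 0xde32ac7000022e61d7c465e087704743941b11d2e53141245be) (.leaf 0)))) (.node (.node (.node (.leaf 0x4923260700010738161c161b1c430473c03db1f75cd4cc6de7d9) (.leaf 0x491a34a200013e5a4fd94f891c418555141ae6a980964f537124)) (.node (.leaf 0xf8100c400001c7f0a273f6d08b10430100d314829b0bf262295) (.leaf 0))) (.node (.node (.leaf 0xd0433a2b97000111202d4b2d4a1a438554492b877c6fd67e15670b) (.leaf 0)) (.node (.leaf 0x30df239500002a324bf42996143685f3881e74cf23c613113786) (.leaf 0)))))) (.node (.node (.node (.node (.node (.leaf 0x3d5f3d1c0000018405380537184585f5d64f50a35e85815182cb) (.leaf 0x2b403a460001308142cb3f3912450415914c635122f60e7bd586)) (.node (.leaf 0x31de41cb0001152634c127ee145485d64361c5d346012a5fc68a) (.leaf 0))) (.node (.node (.leaf 0x4f7b396900000ad21f571f561e4685757b4820726601e824d180) (.leaf 0x2302510388a00004c9831444b5710418415684e97080ce714025000)) (.node (.leaf 0x19643bb00001213f3f2144c30c470495b503a00f5dd46455a7d9) (.leaf 0)))) (.node (.node (.node (.leaf 0x276b08c900000609078412da10a70570d54545563bc314262546)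 (.leaf 0x4884313100013b194ea00bed1c320494c11250da3cf56e621124)) (.node (.leaf 0x2679118e00001af515f23d7a10668531b67f41ef40938615f156) (.leaf 0))) (.node (.node (.leaf 0x375516ce00010fd42aaf2aae164484b23872f66252803b5fc113) (.leaf 0)) (.node (.leaf 0x2da537250000284b4406470d12b304b54930775978c41441d12d) (.leaf 0))))) (.node (.node (.node (.node (.leaf 0x340a0269000003bf0c320c3114c105503559435336e58e32d734) (.leaf 0x519d41d800013573456923791e9185b6445821b44c610e53770a)) (.node (.leaf 0x2dae12c00000180414db393e12b305d1d615c68903277a180546) (.leaf 0))) (.node (.node (.leaf 0x167c2b0a00000d46076c25300ac785944051c1a725530270a70b) (.leaf 0)) (.node (.leaf 0x3d405122000024a847e109a618450417c60c00c32ae12b1562cb) (.leaf 0)))) (.node (.node (.node (.leaf 0x443b0b6b00000865195017341a628571127177e477458b12d486) (.leaf 0x68b51f40000421c50e1505306540577d53bb5f716a12a5be68a)) (.node (.leaf 0x2c660a8e00011dfe41544153126604d0fe75f10c60f62315f518) (.leaf 0))) (.node (.node (.leaf 0x8b547710001127d150c2fe1069384b6d42304261004206de2ab)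 (.leaf 0)) (.node (.leaf 0x35f111dc00012c421f852a2f14f68431c06743ea1b02ad68a55a) (.leaf 0))))))) (.node (.node (.node (.node (.node (.node (.leaf 0x53824ecc000000f7036a00081ed204578e6110720233b82ab180) (.leaf 0x8f11b4900002f6048464c3606978432ac5822cd45810e53718b)) (.node (.leaf 0x470e182b0001147917d133901ae205d2596f01cf6cb7dc12d486) (.leaf 0))) (.node (.node (.leaf 0x2b180b5a00000a3314c71de312418511104c635122060e7bd586) (.leaf 0x4f203acf0001491f4cde52cc1e4304159970609d75a2b56de7d9)) (.node (.leaf 0x1d424bfb0000205b43f6417e0ce50457425f62575a84c57347bd) (.leaf 0)))) (.node (.node (.node (.leaf 0x536d471d00000575113911381ec505b6ca73226e3073cb428124) (.leaf 0x3b3b36e0000139a641aa41b916e38575420885e23571957345be)) (.node (.leaf 0x46f4244900011a3417283c761ab78493974ce5a3142401586333) (.leaf 0))) (.node (.node (.leaf 0xc43327d00010f2a293b278f08260474df6ce06406749815f734) (.leaf 0)) (.node (.leaf 0x35ff2aac00002764225349f714f685f4365d123768713711355a) (.leaf 0))))) (.node (.node (.node (.node (.leaf 0x134e22e10001032c0a7a0a790a6605d3730df25d2f618e15f486)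 (.leaf 0x931477d00013438468e509006a38436d46651a7535073295621)) (.node (.leaf 0x38101880000117461e4f3645166184126306271160d628786537) (.leaf 0))) (.node (.node (.leaf 0x28ee3bda00000caa23ca198d10d705d5b848a65513b75b70a12d) (.leaf 0)) (.node (.leaf 0x4ab80503000123be471d3c0e1c728510701db0ec69024e3337bd) (.leaf 0)))) (.node (.node (.node (.leaf 0x2e4f2ee7000107cd17b50d8312c505f48e3ec5f801c3d92c7586) (.leaf 0x20dc51bf0000403e3acf49330e958597cf7c62b435a69c53770a)) (.node (.leaf 0x3534376000011d3a2133406714e384954e1ac5e24ff1cd7345be) (.leaf 0))) (.node (.node (.leaf 0x1fcc0eaa000111cd2ea00b200e560591695a67882607f824d180) (.leaf 0)) (.node (.leaf 0x3d8b025e00012b35480e3e8a18510570336ac43104411a5182cb) (.leaf 0)))))) (.node (.node (.node (.node (.node (.leaf 0x2a26136d0000021007010700122304d1e579e39f1eb66a124546) (.leaf 0x48c40606000131ad4fb205661c340490903c307f31644b62115f)) (.node (.leaf 0x35321f66000115dc35ea35e914e384531a43603d3df1952145be) (.leaf 0))) (.node (.node (.leaf 0x8a0bdb160800000b70155c20db06f48572204ac76a6a622c62124d)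 (.leaf 0x3cf10f01000151904f3c2bc618358431710bc08b61513e000149)) (.node (.leaf 0x1eca003d0000220a458c08c80e360550045cf6ae74239268a262) (.leaf 0)))) (.node (.node (.node (.leaf 0x4ceb40510001069f147f147e1cb605762009c0da3f061368a124) (.leaf 0x4720290c00003ca0227d4eff1ae304140b63d28e24f7c45865be)) (.node (.leaf 0x3fa12f3900011baf22bf093c189304349453f2cd57e14d15618b) (.leaf 0))) (.node (.node (.leaf 0x195e4f63000010782c092c080c4685d79d24f6dd4036d024d41d) (.leaf 0)) (.node (.leaf 0xfee02340001293b0f2a41e808b605d03133711e29a30a15f214) (.leaf 0))))) (.node (.node (.node (.node (.leaf 0x4e0f40260000044e0de10de01e2205f61c22b5a28086cd70b262) (.leaf 0x6991b25000136c2166a312606548532a90af0f02091b15be68a)) (.node (.leaf 0x270292a000118be3a592899048784140e4a74ef61c7814862ab) (.leaf 0))) (.node (.node (.leaf 0x32f139cc00000de826961ce0147784358566752135421c7865be) (.leaf 0)) (.node (.leaf 0x4f5133bc0001258e488d488c1e448434fd63a1767f14045fc15f) (.leaf 0)))) (.node (.node (.node (.leaf 0x16620bb1000008fe1ad71ad60ac70451190f137603c3042c770b)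 (.leaf 0x4183470d0001441d502b539918f20476c967616656b58b546486)) (.node (.leaf 0x2aa350d00011ecc42421d2c049305551e78738a56c17f55a2ab) (.leaf 0))) (.node (.node (.leaf 0x1ab6487000001325311e1ae00c9284d6ea11549b5a46b65fc2c7) (.leaf 0)) (.node (.leaf 0x132f06cf00002d333e2b3f2d0a6505f0a17af79b1c613241d6de) (.leaf 0)))))))))

/-- part of a table -/
def entries86 : Trie := (.node (.node (.node (.node (.node (.node (.node (.node (.leaf 0x390617f40000002c00a700a6168204d2552e24905956c55fc428) (.leaf 0x467910db00002dc246a03e6a1aa78531a875d66c4787c4586333)) (.node (.leaf 0x22a407d20001137c31ce1f500ed20490b815230164057418b180) (.leaf 0))) (.node (.node (.leaf 0x184a0d350001094d1ba21ba10c260551402c031b10a39268a262) (.leaf 0x15d708af0001455c51c22bf50ab484f0d37e65ac5ec34d7d968a)) (.node (.leaf 0x1239333d00011f320df442b10a258534f174a3d62ba0b2124295) (.leaf 0)))) (.node (.node (.node (.leaf 0x370e3749000004970e870ebe164105d54c46a7251d758055a734) (.leaf 0x1b233c9700003794518f4cf50ca20475cc43841010a338621262)) (.node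 (.leaf 0x35a809440000191c1f913add14f30510e127511d7ea5ae2145fc) (.leaf 0))) (.node (.node (.leaf 0x50174dc100000e38275227511e6184f7730d509e77f1957347bd) (.leaf 0)) (.node (.leaf 0x52e4a6c0001260648e01bec04e305d71f5b952165f3477865be) (.leaf 0))))) (.node (.node (.node (.node (.leaf 0x426707ce0000025807e407e31a2504f0b774f7d23644e2000149) (.leaf 0x346424420000324a16694ab214c70493970300b43c33cb428335)) (.node (.leaf 0x2297215900011636074136710ed184f3503ff191395626428262) (.leaf 0))) (.node (.node (.leaf 0x22b32fb300000bbf21a221a10ed28474a01842da6166182ab41d) (.leaf 0)) (.node (.leaf 0x344b0790000122783d6d244c14c40570b10865f71553b818b68a) (.leaf 0)))) (.node (.node (.node (.leaf 0x3ebc4b7a000106e9154c154b18728597374cd73947241f12d537) (.leaf 0x2b69031900013d862cbb164312470530464c623501f0db7bd546)) (.node (.leaf 0x1777502a00001c143eeb27520ae684f7ad63022213830a7b2537) (.leaf 0))) (.node (.node (.leaf 0x2d1b4b8b000010cf2ca62ca512a285773877e75713d7077d9000) (.leaf 0)) (.node (.leaf 0x3f061313000029b73d0f4b98188104d1db2fe4e83487e9518428)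 (.leaf 0)))))) (.node (.node (.node (.node (.node (.leaf 0x26ab297f0000013e0453045210720574196855c65104f47d9518) (.leaf 0x419f3e3f00002fe94e86068218f285f5ec6fc25d68e1e4546486)) (.node (.leaf 0x467c392b000014d30dcd342c1aa78595776614871fe7b5586335) (.leaf 0))) (.node (.node (.leaf 0x453200de00010a821e981e971a8384501476260704211a15618b) (.leaf 0x23ab48fe00014ac8535453ea0ef20576f65722a03632503357bd)) (.node (.leaf 0x46ae14ec000020d1445e445d1ab205d2085bb72526965c12d734) (.leaf 0)))) (.node (.node (.node (.leaf 0xab52bba000105c005fa120f06d384b44c58576412162f32d333) (.leaf 0x49421ad00013a5b4a4a51d604d284935963e03e27551d18b295)) (.node (.leaf 0x3ec824d400001a933c7e3d0118740513a535e35623d02712d24d) (.leaf 0))) (.node (.node (.leaf 0x4f9c1da600000f8220982a041e518592e258219140710e537124) (.leaf 0)) (.node (.leaf 0x10343f7f000127d310bc203108c384960c7606025a014570a621) (.leaf 0))))) (.node (.node (.node (.node (.leaf 0x472b3cbd000103760b5b0b5a1ae30575cf7457ac1f61470005fc) (.leaf 0xecd4f76000034ca50c54405089505b79e3962282720db7bd428))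 (.node (.leaf 0x2a1c25cc000117a738a810a412228593bb5d73120d136b049000) (.leaf 0))) (.node (.node (.leaf 0x37190b5100010cf9247e05ca16418531101bb6cc7c146455a214) (.leaf 0)) (.node (.leaf 0x166d40f90001243a146845160ac705b6313b777c53e30270a70b) (.leaf 0)))) (.node (.node (.node (.leaf 0x5310f40001081a188b15df04468471aa24f3580674ea24d149) (.leaf 0x2eb4f3c0001412a4bca52d0049705779768742602d66e4862ab)) (.node (.leaf 0x25ab152c00001d9d40df3d6e105305720c69e0c4109777025546) (.leaf 0))) (.node (.node (.leaf 0x1f6221c5000012270f452f410e4704535b25838414334555a049) (.leaf 0)) (.node (.leaf 0x301744b600012bbe3ba94cd2142284f68838b72b59e4a83332cb) (.leaf 0))))))) (.node (.node (.node (.node (.node (.node (.leaf 0x4e213ac1000100b4028302821e2304359906709d76f79c7867d9) (.leaf 0x51f6289c00012ed94e6c413e1e9684d4024492b466b7d624d2c7)) (.node (.leaf 0x431745c50001142532ec2d7b1a4184f6a62b857141c4a1156786) (.leaf 0))) (.node (.node (.leaf 0x16a14ce1000109e71d251d240ad304375e1814f25d13022c770b) (.leaf 0x9b2dc7000147b851f536c004548574745876e217e2fa5fc113))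 (.node (.leaf 0x30dc112b0000200043942b3414368591ae6742c25e42ad68a2cb) (.leaf 0)))) (.node (.node (.node (.leaf 0xd7125a30000052b1064003608678433b71632e918c5c72625fc) (.leaf 0x16e85003000138f837112a100ad70517aa2153610bb3022c770b)) (.node (.leaf 0x46f11c81000019d83b7e3bf91ab78432c610a7646e17b5586335) (.leaf 0))) (.node (.node (.leaf 0x4d8316a100010ed90f0027291cd20472320706dd0d234a2ab180) (.leaf 0)) (.node (.leaf 0x3f22d12000026ea14cc499b04b78454681035b14c060021470b) (.leaf 0))))) (.node (.node (.node (.node (.leaf 0x3b400b4e000102e609a109a016e404110f6421fd1584da33524d) (.leaf 0x4edd10740000338a505250511e3485b19e5301b72ff56e70b7b2)) (.node (.leaf 0x5dc272b000016f00e50379804f48593dd54b7052c363b62124d) (.leaf 0))) (.node (.node (.leaf 0x3f8b412500000c5d23222321189105763414022871e47a518428) (.leaf 0)) (.node (.leaf 0x37ea28140001235846bf256b16560553f61ad45c4f769528f149) (.leaf 0)))) (.node (.node (.node (.leaf 0x471c056900000784161f15761ae28590793a76cf7b1291546486) (.leaf 0x20ff162700003f4d50993b670e9685f2245362802fe69524d2c7))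 (.node (.leaf 0x4975326400001cdd20b83f051c4684b4dd21230115e3de28f180) (.leaf 0))) (.node (.node (.leaf 0x29ab37d20001117829b62dfb10f205755724937f08c3227d9518) (.leaf 0)) (.node (.leaf 0x4f192a9b00012aa94c3f0e591e418534346797243cd781537124) (.leaf 0)))))) (.node (.node (.node (.node (.node (.leaf 0xc0e042c000001ca061e061d082405d06157a5015274b17d9113) (.leaf 0x3d2602e90001310d3cde4f7b184304d0422fe7441e711a51870b)) (.node (.leaf 0x387624090001157d06fc3554166784d3935f103d1842472cb5fc) (.leaf 0))) (.node (.node (.leaf 0x47874b6c00010b21201b1a261af204f7366497397fd1e412d486) (.leaf 0x47753dcb00014e6e3de550dc1ae584b5e46615bf4460485866de)) (.node (.leaf 0x2cad297b000021a920ae4524127205b4192db5dc1d07407d9156) (.leaf 0)))) (.node (.node (.node (.leaf 0xf4f095d0001065313af0cac08a405f0e363342d6914b17d9113) (.leaf 0x3a67248700013bea5283117b16c704f39d47d4252666f132d335)) (.node (.leaf 0x453429bd00011b4e23063df31a8384941e4d24ef07426851818b) (.leaf 0))) (.node (.node (.leaf 0x2f620435000110272b6116d412e60450620df10c58d2f115f156)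 (.leaf 0)) (.node (.leaf 0x2e6a4abb000028c631083d6b12c705572661019473575b2c712d) (.leaf 0))))) (.node (.node (.node (.node (.leaf 0x9a04ce7000004060d070d0606b304175e46e4f219320329570b) (.leaf 0x66452430001360b4b4a512806470497df1717646830ba486333)) (.node (.leaf 0x317b445f0000185b39c526da144685768265f7b41020d824d149) (.leaf 0))) (.node (.node (.leaf 0x43233aca00000d9b25e925e81a430475995a45ea00811a15670b) (.leaf 0)) (.node (.leaf 0x174e3b77000125223356132e0ae405d5aa19d6ef7ec32204924d) (.leaf 0)))) (.node (.node (.node (.leaf 0x218b2327000008b104ec02fd0eb105737a2f530f34240d786180) (.leaf 0x222328119280000431b3e700d59147104327339d7e4069628786537)) (.node (.leaf 0x2976538200001e6d41cc41cb10e684d8001596d65fb30a7b2156) (.leaf 0))) (.node (.node (.leaf 0x2921147b000012d50cb02dce10e20431fe60932766b740049156) (.leaf 0)) (.node (.leaf 0x2181db800012cc31e0e263004828512e34c14e86875b25fc428) (.leaf 0)))))))) (.node (.node (.node (.node (.node (.node (.node (.leaf 0x2a2302ef000000700198019712230470428016365cd67712412d)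 (.leaf 0x3ba3121500012e4c4e2911a816f30471c438f1075ca4162145be)) (.node (.leaf 0x4bba40b9000113d2325b30211c9285562b54d6984113465fc70a) (.leaf 0))) (.node (.node (.leaf 0x16342b00001099b1c611c60046704765901625f1296ad7345fc) (.leaf 0x5e939e0000046822ebd38d704f505358804e6cf38521c786537)) (.node (.leaf 0x354151c900001f9b432127c514e40437d053e35635229c33324d) (.leaf 0)))) (.node (.node (.node (.leaf 0x2bae298e000104e30f920f91125305d41a5331941596b47bd546) (.leaf 0x41dd1b6800013846175c51ba18f485b2af3437057f33e612d24d)) (.node (.leaf 0x42f4482e000119763b6c3b6b1a358496e462a6681147ae586295) (.leaf 0))) (.node (.node (.leaf 0x3c363c8000000e8727f727f6182384d5ca0015a30e147c586335) (.leaf 0)) (.node (.leaf 0x28ac30310001267d494213f210d30594ad0846bd2cf72c2c7546) (.leaf 0))))) (.node (.node (.node (.node (.leaf 0x256b3efd0001029f08c008bf10470575fe7d51e32db3d57bd546) (.leaf 0x1b685189000132e723f14edb0ca70517cc35c1f745e1ea2cb049)) (.node (.leaf 0x37d550550001169837060d34165484b7b12ed0f03d45b25be113) (.leaf 0))) (.node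 (.node (.leaf 0x1ed4236c00010c0b03b1225c0e368493815e57032c549768a124) (.leaf 0)) (.node (.leaf 0x31390adc000122e60c45339314438531056543f55cf6be486335) (.leaf 0)))) (.node (.node (.node (.leaf 0x3fb7005a00000739161e161d189384f0086ac38a06811a51818b) (.leaf 0x2c1d0b6e00013e5e1ba447bd126185b11274a62776b55f124156)) (.node (.leaf 0x1937221300011c7f0f033f6e0c4584f3631ae6a922471c537262) (.leaf 0))) (.node (.node (.leaf 0x4cae3424000011212d4d2d4c1cb305d5072900c815957d149049) (.leaf 0)) (.node (.leaf 0xc613d4200002a334bf5219108270435d913f4872562f3180333) (.leaf 0)))))) (.node (.node (.node (.node (.node (.leaf 0x22280efd00010184053a05390ec20511707731835d851d2ab180) (.leaf 0x2e8d15dd000030834f38442112d105b21d5053510ad7892c7000)) (.node (.leaf 0x50e047a10000152734c334c21e760416d90763cc7ab1a0113025) (.leaf 0))) (.node (.node (.leaf 0x2a711cb700000ad319821f5812278432ca40e3655f21d241d546) (.leaf 0x8fd365800004c9c33b24732069785b5394fd38a4c10ba5372ab)) (.node (.leaf 0xa5326be0001214044c544c406c48473d17c066277603918b113)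 (.leaf 0)))) (.node (.node (.node (.leaf 0xcb42b380000060a12dc12db08358494431a53ba3970b2124295) (.leaf 0x2856432600003b1a47ac525910c584d6655263344002d92c7000)) (.node (.leaf 0x1412142e00001af61bcf3d7b0a818451f866b4e828c3b002532d) (.leaf 0))) (.node (.node (.leaf 0x64a230500000fd52ab12ab006460553772d108b2c64a328f295) (.leaf 0)) (.node (.leaf 0xd4927d40001284c0eb037f808660533ec33c6cf0e73c17b2537) (.leaf 0))))) (.node (.node (.node (.node (.leaf 0x27422f40000103bf0c340c3310a60454960a66ee0b518e15f586) (.leaf 0x3b7042620001357949784d5816e68416504614955e72ad68a55a)) (.node (.leaf 0x51d131b9000118042df0393f1e958434cb4c349b66b5626de2c7) (.leaf 0))) (.node (.node (.leaf 0x31e6060300010d4625322531145604d0901ad45c2ae6d028f295) (.leaf 0)) (.node (.leaf 0x1c261e11000124a847e241ce0cc204d2ee08634c6d13b818b180) (.leaf 0)))) (.node (.node (.node (.leaf 0x513036fb00000866130a005d1e8284154463a43f5334045fc70a) (.leaf 0x31fe23930000421e50b1061e145685d3881053ba5e869524d149)) (.node (.leaf 0x454011d900011e000a4125951a850411c05a84e81b015d518428)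 (.leaf 0))) (.node (.node (.leaf 0x2936130000127e2fe2048404450535332725151062b555a214) (.leaf 0)) (.node (.leaf 0x217b4c7900002c4335ed49aa0ea785774f5f14d46572472cb7d9) (.leaf 0))))))) (.node (.node (.node (.node (.node (.node (.leaf 0x3bf92221000100f7036c036b16f68533640146a34ee0c568a6de) (.leaf 0x475c2a5f00002f624eb140fe1ae485942f7794b832417a54624d)) (.node (.leaf 0x20303e250000147a33911ce40e828415eb1d83fa3e11775fc70a) (.leaf 0))) (.node (.node (.leaf 0x3382312700010a331de51de414920454c04340cd4c83465be428) (.leaf 0x2ada0f1b0001492333af49ba123685517352e45a1a530a7b2000)) (.node (.leaf 0x102b4b220000205c17b31e0008c30577301e93616742d92c7621) (.leaf 0)))) (.node (.node (.node (.leaf 0x17e8168d00010575113b113a0af605122f6bc7723893867b2486) (.leaf 0xc5b5194000139a733fc520808268577cd1593b604e30a7b2214)) (.node (.leaf 0x209848a200011a3523573c770e918516f028a50c2d45626de2c7) (.leaf 0))) (.node (.node (.leaf 0xc0d4fb300000f2b29542953082405b7a53b55af1424d904968a) (.leaf 0)) (.node (.leaf 0x217839310001276449f949f80ea78515781670c86ab43d786049)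 (.leaf 0))))) (.node (.node (.node (.node (.leaf 0x3e7809890000032d0a7c0a7b18678510e643311d53213e0005fc) (.leaf 0x49ab15270000343920db16dc1c5305720c38969778c41855a7d9)) (.node (.leaf 0x27383cd8000017473825382410a38515d13d76f96c127041d12d) (.leaf 0))) (.node (.node (.leaf 0x1a78354a00010caa23cc23cb0c8685152449e2116a15cb28f70a) (.leaf 0)) (.node (.leaf 0x289713ce000023c03b501cb510d184f1f17946ee7da4d670a000) (.leaf 0)))) (.node (.node (.node (.leaf 0x4e731640000007ce053117b61e258472290400f927140d2cb180) (.leaf 0x3a7e27fc0001403f4fce3bc616c785d3f25a142347802032d333)) (.node (.leaf 0xa2a1ee700001d3b3513406806c305530947d42567458e32d333) (.leaf 0))) (.node (.node (.leaf 0xdb3282409e000011ce2ea100df147104562964507e5521c82cb486) (.leaf 0)) (.node (.leaf 0xa2f070200012b374c854c8406c305f0a606976404d48c32d335) (.leaf 0)))))) (.node (.node (.node (.node (.node (.leaf 0x5189336100010210070307021e910534f60ed6984740ba4862c7) (.leaf 0x40b14e87000131af4b0b4fb318b28437842ee7ed4b43f412d734)) (.node (.leaf 0x15325a0000115de35ec35eb04668473b706f5df31813711355a)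 (.leaf 0))) (.node (.node (.leaf 0x30f1319900010b70037e20dc14378434c846d77c259202149621) (.leaf 0x3f221219000051964f0937c618830451c44f56b35ca4a151818b)) (.node (.leaf 0x389114b00001220a17f1458d167184320417516664e2e72cb537) (.leaf 0)))) (.node (.node (.node (.leaf 0x2ad02c44000006a014811480123684145626175722f38615f586) (.leaf 0x242a040c00003ca835d452a6102305505c4400c45c1314262546)) (.node (.leaf 0x9b80a3100001bb00d233dfe06b38510f60633617e708a14970b) (.leaf 0))) (.node (.node (.leaf 0x38251ad6000110782c0b2c0a166204b29d36c7a459a7f962155a) (.leaf 0)) (.node (.leaf 0x8d50bdf0000293c4a6a4b4c069684b11c7c222871e56028f428) (.leaf 0))))) (.node (.node (.node (.node (.leaf 0x3b8420990001044e013c0de216f104933a46e4b3408073295537) (.leaf 0x29f81b8e000036c338e315a310f68512b278c1ef7a53c115f156)) (.node (.leaf 0x37e3428c000118bf082e3a5a165604765458a45c6501e828f149) (.leaf 0))) (.node (.node (.leaf 0x24ae1d1e00000de923990bd7103305d2d37ce22d63067712412d) (.leaf 0)) (.node (.leaf 0x18b28f50000258f27b8101804740574094d055d1fb7fe33328f)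 (.leaf 0)))) (.node (.node (.node (.leaf 0x37e93df5000108fe1ad81a1f16560535e71e53582c97fc24d295) (.leaf 0x66e2a120000441e32604223064705d42a0f85f454766e537335)) (.node (.leaf 0x43b32f9500001ecd42432b271a5384749e3104f20fc7e9156621) (.leaf 0))) (.node (.node (.leaf 0x2e80e1e00011326311f2b65049705115c7c61bc0c669c53718b) (.leaf 0)) (.node (.leaf 0xbac212600002d343d5c4d9e06f305934b4cb1073c96282cb5be) (.leaf 0)))))))))

/-- part of a table -/
def entries87 : Trie := (.node (.node (.node (.node (.node (.node (.node (.node (.leaf 0x52c91b5c0001002c00a900a81eb40532ae6e607f45904a3337b2) (.leaf 0x4eb511500012dc219944de104d50577c53ff2d27d0626428734)) (.node (.leaf 0x35df1a000000137d31cf1ab814f485f2890023820bd12333528f) (.leaf 0))) (.node (.node (.leaf 0x7c27d82eee0000094e1ba30d0f10b685148e7f41417c534415f000) (.leaf 0x40346630001455d21d84b7704c20476bb1d56681ac52018b295)) (.node (.leaf 0x11344e7100001f331e662c5708e38497821632e94484352625be) (.leaf 0)))) (.node (.node (.node (.leaf 0x2d8713290001049701510ebf12b204f1dd37031241b6ed049586)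 (.leaf 0x188913dc0001379716ef04aa0c340531f256a1dc37a04a3357b2)) (.node (.leaf 0x40740a5f0001191c3ade39f218a78490fa8053f5277048000333) (.leaf 0))) (.node (.node (.leaf 0x41ab1c3a00010e382754275318f30572c06b010720d47c5865be) (.leaf 0)) (.node (.leaf 0x4ce72e8600002607464b02491cb604f48526f1917ee39268a262) (.leaf 0))))) (.node (.node (.node (.node (.leaf 0x22800d660001025807e607e50ed10411442d031b1330de32d124) (.leaf 0xf6038020001324a4fee20e608a604155b0be3b34ab3867b2214)) (.node (.leaf 0x2f643a000001637367227f0049784d6720552cd45822753718b) (.leaf 0))) (.node (.node (.leaf 0x1d1157300010bbf21a421a3047684321516049506918a68a55a) (.leaf 0)) (.node (.leaf 0x4ccf3eb5000022792fa945f01cb405f5f62c851634e2503337b2) (.leaf 0)))) (.node (.node (.node (.leaf 0x128e1b29000006ea12ae154d0a3405d2a92e30f7557322049113) (.leaf 0x295b367800013d8722fa37a810e585753b6311ef3fd78d124518)) (.node (.leaf 0x25ef1aa700011c143eec10cd105705f29942a0c413b60a02512d) (.leaf 0))) (.node (.node (.leaf 0x3fc734bb000110cf2ca70836189504f51770c5ce0f811a51832d)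 (.leaf 0)) (.node (.leaf 0x41c52e84000129b94b9a4b9918f404b48519f76d4ec3f412d28f) (.leaf 0)))))) (.node (.node (.node (.node (.node (.leaf 0x3f372cc90001013e04550454188384f4612fe6b358a7e95182ab) (.leaf 0x2e760ab700012fe939dd371a12c784d1026101946245132c7546)) (.node (.leaf 0x4ee27b5000114d3342d133704d505d3e94657ff1a1174428214) (.leaf 0))) (.node (.node (.leaf 0xc3e361400010a831e9a1e99082585d5332747b412838c124295) (.leaf 0x3b511b3700014ac92877251216e48432aa1db71b50b24e33328f)) (.node (.leaf 0x2ed75160000120d14460445f12d584f7ca1893122453d970a586) (.leaf 0)))) (.node (.node (.node (.leaf 0x21bf306c000005c10f7b12100eb285f4b06a41915da231621262) (.leaf 0x69f316c00013a5c36e9427f065485f4c461c5d37b012a5fc68a)) (.node (.leaf 0x103c40ee00011a933d02341d08c38596306e87440fc11170a621) (.leaf 0))) (.node (.node (.leaf 0x1a2f1fb000000f832a0510270c8205f32000343f50d0c95fc70a) (.leaf 0)) (.node (.leaf 0x4e283fce000027d44a5242f51e2305161466709d52e21c7867d9) (.leaf 0))))) (.node (.node (.node (.node (.leaf 0x1d35108c000003770b5d0b5c0ce284b19f49f2576c804a3357bd)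 (.leaf 0x495309d1000134ca2bec292b1c448470ed0512a42886b65be7b2)) (.node (.leaf 0x154d40f7000117a8225e38a90aa405b6312ff5f71db7407d968a) (.leaf 0))) (.node (.node (.leaf 0x71e521000000cfa2480247f066485d7d800238273712333528f) (.leaf 0)) (.node (.leaf 0x1f6830af0001243b479144110e470514b777b14c71d05d6de7d9) (.leaf 0)))) (.node (.node (.node (.leaf 0x3b670b790000081b188d188c16e604f1143c57a41995c368a6de) (.leaf 0x3d038050000412d4145534c04b684155b1602c233f18a68a786)) (.node (.leaf 0x4b35475300011d9d3aac3cea1c8284b6d22762a25020e25fc2c7) (.leaf 0))) (.node (.node (.leaf 0x2cab0610000112272f432f42127205709105634111636a049156) (.leaf 0)) (.node (.leaf 0x47052fad00002bbf11674b561ae204b49f6f425d17c027546537) (.leaf 0))))))) (.node (.node (.node (.node (.node (.node (.leaf 0x393329b2000000b502850284168384741e1994ef04271c48618b) (.leaf 0x45df0d9400002eda4e6e4e6d1a9585f1512d575420011a15632d)) (.node (.leaf 0x358331240000142632ed2e0a14f10474c029007d6d3154149486) (.leaf 0))) (.node (.node (.leaf 0x483c09b6000009e817631d261c238590e94cb29e4f91ea2cb049)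 (.leaf 0x210324f8000047c0534f3f000ea10473a73f26c374225a2cb41d)) (.node (.leaf 0x498153a900002001438943951c510438025821917ee0ba537262) (.leaf 0)))) (.node (.node (.node (.leaf 0x372a04030001052b10661065164305505c2005f454e2a7537333) (.leaf 0x3480196b000038fa4ef012c514d104127758506421b62f32d214)) (.node (.leaf 0x4f343a7000119d83bfb3bfa04d58476723a5680323174428214) (.leaf 0))) (.node (.node (.leaf 0xe5a093a00000eda28ab28aa08858550e05fd7d12293b07bd32d) (.leaf 0)) (.node (.leaf 0xdad28fc000026eb2faf1709087505b40965b6a348d6fe41d55a) (.leaf 0))))) (.node (.node (.node (.node (.leaf 0x425e3a85000002e709a309a21a2485d5953660f046080412d68a) (.leaf 0x117b4f730001338b505335c808e685779e15973927230a7b2537)) (.node (.leaf 0x531a3a30000016f1178d37991ec285559006512702434a18b180) (.leaf 0))) (.node (.node (.leaf 0x4d554c6800010c5d232423231cc484b74e4802a47314502ab7b2) (.leaf 0)) (.node (.leaf 0x3b8a343e000023592e6646c016f105550962039859126a149537) (.leaf 0)))) (.node (.node (.node (.leaf 0x28e4426a00010784164116ee10d704965076b22d2db1452c7546)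 (.leaf 0x32d53ab100013f4d50ab5071147484b5981554b826363b62124d)) (.node (.leaf 0x2c381ebc00001cde35603ff6126285130561e61279432e049518) (.leaf 0))) (.node (.node (.leaf 0xa943f62000011792de52dfc06d284960931c3ba09b6ba18b295) (.leaf 0)) (.node (.leaf 0x48e84fa000002aac17a637b61c350517a304e07244021c78641d) (.leaf 0)))))) (.node (.node (.node (.node (.node (.leaf 0x243d0230ee000101ca0620061f18410454bc76c7fa10d4a1518786) (.leaf 0x4cb215900000310e4c011fa61cb384521704c2130be26a295049)) (.node (.leaf 0x3a53aed0000157e0f6b355504b304b59d6e01a741e26729570b) (.leaf 0))) (.node (.node (.leaf 0x1a384bac00000b22201c1f920c8285173c63a43f50d4045fc70a) (.leaf 0x298e1a9e00004e7044fe4f7a10f105d2976af5c67275ed180156)) (.node (.leaf 0x45b02cca000121a90bc145251a938414613ac38a0683da51818b) (.leaf 0)))) (.node (.node (.node (.leaf 0x507a38300001065401db13b01e6685556304d0ec0f2287113025) (.leaf 0x1aad37fd00013beb5007183d0c9205b5596881b46c41775fc70a)) (.node (.leaf 0x12f053d300001b503df421560a3784180639a1466e1653180335) (.leaf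 0))) (.node (.node (.leaf 0xc22818185d0001102805232b6210c185125e6e86aa07b78970a000) (.leaf 0)) (.node (.leaf 0x3544ea9000028c7176619bb04a684978a4ba05f4d303f68a786) (.leaf 0))))) (.node (.node (.node (.node (.leaf 0x12b553d4000104060d090d080a3584b8064c978f27e435262295) (.leaf 0x13750b980000360d3b75099a0a6784b1164680f44060bf1245be)) (.node (.leaf 0x3f8a450d0001185c0c530faa189105569170c5ce1bb7e9518428) (.leaf 0))) (.node (.node (.leaf 0x3aa845a200010d9b0ce725ea16d20516a415214857757418b295) (.leaf 0)) (.node (.leaf 0xa50280c00002523473d3dbd06c48413f37785731f56ba2ab68a) (.leaf 0)))) (.node (.node (.node (.leaf 0x13be4642000108b11a171a160a7585d6b20ce5df34f41741d6de) (.leaf 0x31da1de90001431d4a7b4fbc14548552e854d6624842fa5fc113)) (.node (.leaf 0x1463088900011e6d1a283ebb0a870470d15664ef7f360a02518b) (.leaf 0))) (.node (.node (.leaf 0x3f6d1095000112d50a203080188705b1a135a50f7203da15618b) (.leaf 0)) (.node (.leaf 0x35731b9a00002cc444ef22a314e68472b34273d039c61311355a) (.leaf 0)))))))) (.node (.node (.node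 (.node (.node (.node (.node (.leaf 0x518c14cf00010070019a01991e910592056df2806bf69c48670a) (.leaf 0x12494aee00012e4d45e221840a260537296bc3b622a6e97b2734)) (.node (.leaf 0x3bc10739000013d3325d325c16f40430aa3d455d02e70d33324d) (.leaf 0))) (.node (.node (.leaf 0x34f50e820000099c1c631c6214d784b16719817253a43b32d335) (.leaf 0xf754eac000146832a72334e08a684b78a5cd45766f29415f214)) (.node (.leaf 0x363465200011f9b4322025904a70476b91d474456a4c5734621) (.leaf 0)))) (.node (.node (.node (.leaf 0x353b09cd000004e40f940f9314e38570eb72603d10054a2145be) (.leaf 0x301a081c000138471cd0519e14228550bd634248722123333786)) (.node (.leaf 0x494b3ef700001978211427d21c440575fe4521dc3943465fc15f) (.leaf 0))) (.node (.node (.leaf 0x3a0d356700010e8727f820bc16c105b5273934eb0fa43b428214) (.leaf 0)) (.node (.leaf 0xcf5468f0001267e0ddd0c58083784b6bf809487530414180335) (.leaf 0))))) (.node (.node (.node (.node (.leaf 0x4cb14008000002a008c208c11cb384361a36214c0a60c21497d9) (.leaf 0x3d781fc9000032e9501d501c184785132166305b21d14d15670b))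 (.node (.leaf 0x509f050200011699076537071e7185f0701d438031e54a734025) (.leaf 0))) (.node (.node (.leaf 0x102f4d4c00000c0d06fa225d08c305f7677d84f25344d62c770b) (.leaf 0)) (.node (.leaf 0x179d015c000022e72e963e030af185b01f65213c5a56fe18055a) (.leaf 0)))) (.node (.node (.node (.leaf 0x3a5c3923000107391620161f16c48595774b95736835742ab113) (.leaf 0x394c2d00003e6052e751f004458537467935765f14fa6de734)) (.node (.leaf 0x5018004800011c803bec3f6f1e618510074a41ca7687832147bd) (.leaf 0))) (.node (.node (.leaf 0x29562011000111212d4f2d4e10e584d3290ee37f5664de124156) (.leaf 0)) (.node (.leaf 0x310b04bc00012a334bf74bf6144105706b5487ff4850ff6de734) (.leaf 0)))))) (.node (.node (.node (.node (.node (.leaf 0x4e14130e00000185053c053b1e228491da76341039a44b621262) (.leaf 0x39d61bff000130831f6c4f39169684d2bc7ea0cd3830cf24d32d)) (.node (.leaf 0xbb347760001152706dd34c406f38476d44b47ef6db17b7865fc) (.leaf 0))) (.node (.node (.leaf 0x1a87429e00010ad31f5903550c9104f6577872414be41855a2c7) (.leaf 0x481643f000004c9e5325265c1c2284d67a03526e5aa22c621262))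 (.node (.leaf 0x2b5616c90000214117ea44c6124584d23847431241b6b4025586) (.leaf 0)))) (.node (.node (.node (.leaf 0x288f35910000060b12de12dd10d105f52b0ca6aa07b2d970a000) (.leaf 0x41321a800013b1b3eba489904c284735940545c30e29818b149)) (.node (.leaf 0x19843f1e00011af6186c3d7c0c5404960372014b3a74045fc15f) (.leaf 0))) (.node (.node (.leaf 0x4e8512e200010fd52ab209101e3204b1d80a701167223f70b262) (.leaf 0)) (.node (.leaf 0x1e5749fb0001284e42f84aac0e2684f71553431901b095113124) (.leaf 0))))) (.node (.node (.node (.node (.leaf 0x49f8270f000003c00c360c351c568513db5ca1820ee7fc28f180) (.leaf 0x26ee16310000357a1a0f50f5107605d2250a63277412f115f156)) (.node (.leaf 0x43c823980000180532d933041a550513884210a35e81785182cb) (.leaf 0))) (.node (.node (.leaf 0x3a4419ab00010d47250f236116c404927e64b5501966ba2ab68a) (.leaf 0)) (.node (.leaf 0xa5c10c8000024a947e447e306c48591a629d5ac5285b72ab113) (.leaf 0)))) (.node (.node (.node (.leaf 0x35ca4058000108661952195114f40556204603560187fe33328f) (.leaf 0x213930680001421e53084ffd0ea28534b054b3195d863b621124))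 (.node (.leaf 0x15e627ac00001e013fcf29fd0ab604d3e86c101d2892d815f734) (.leaf 0))) (.node (.node (.leaf 0xe9240101160001127e0f9f2fe3102204301828814103136b049000) (.leaf 0)) (.node (.leaf 0x26c31cfa00012c434d16319210750472d06af5c651077a180518) (.leaf 0))))))) (.node (.node (.node (.node (.node (.node (.leaf 0x2ce6062c000000f800a6036d127604d09273062715b62315f518) (.leaf 0x3a8117c600002f6317503bee16d10432522d04570400de32d734)) (.node (.leaf 0x1822aca0001147a069d16dd047404543956f55d68423433328f) (.leaf 0))) (.node (.node (.leaf 0x1f941f600010a340e8e1de604778536462bd28e0fb5b47345be) (.leaf 0x4cc912ae000049284e0707cc1cb40531d47000fd5b33fc3357b2)) (.node (.leaf 0x49361c0001205c404529eb044605353351966826937924d149) (.leaf 0)))) (.node (.node (.node (.leaf 0x1a7720ea00000576113c04c90c8684f3424822a23681e824d70a) (.leaf 0x39490210000039a8520a5209168605302f1002ef37d56024d428)) (.node (.leaf 0x9923f6e00001a3633dd3c7806b28456097e52485d51a2333786) (.leaf 0))) (.node (.node (.leaf 0xb73d01078600010f2b2633295518410430af3ad05f52c15d1562cb)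 (.leaf 0)) (.node (.leaf 0x2e228d400002765185649fa049704540727c42606a64f4862ab) (.leaf 0))))) (.node (.node (.node (.node (.leaf 0xa2b212a0001032d05250a7d06c305734b6223f50a005932d333) (.leaf 0x90c213c0000343a329c509106a205934e56a2c265004a3352cb)) (.node (.leaf 0x51470e8a00011747114c38261e8504f16745f67806146355a70a) (.leaf 0))) (.node (.node (.leaf 0x434d445b00000cab23ce23cd1a4505b6825a82c210215d5182cb) (.leaf 0)) (.node (.leaf 0x4ae444ce000023c10fa647291c7604968c5491ca116218113025) (.leaf 0)))) (.node (.node (.node (.leaf 0x11873d2a000107ce17b817b708f104f5d77653d04924171806de) (.leaf 0x2f2f480300014040371d533112e205f6e119d5ab7d5322049518)) (.node (.leaf 0x12cf1b2600011d3b3e5740690a3605f2a90df57626918e15f734) (.leaf 0))) (.node (.node (.leaf 0x273a1f11000111ce2ea32ea210a385531102a55631f132180546) (.leaf 0)) (.node (.leaf 0x2b333c8b00002b384c863e6d12438475ca56668973b60a02512d) (.leaf 0)))))) (.node (.node (.node (.node (.node (.leaf 0x10103f5c000002110705070408c184160875169236472c70a2cb) (.leaf 0x2073d23000031b01bdc472f048204f5d72e24905d66c55fc428))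 (.node (.leaf 0x131b2c7e000115df1f5635ed0a6485745b7e66373493227d924d) (.leaf 0))) (.node (.node (.leaf 0x1b16338300000b7120de20dd0ca184d4f819230171625a78641d) (.leaf 0x914259b0001519c4d79508806a28493b578e0061ac04a3332cb)) (.node (.leaf 0x309f34480001220b323b458e143285f50b4e64316207fe335786) (.leaf 0)))) (.node (.node (.node (.leaf 0xe942d42000106a001f21482089184946b1355ce36f7147bd428) (.leaf 0x2da20a7000003ca91df704de12b30450fc0312357ba5ed18012d)) (.node (.leaf 0x39e4328900001bb13ca03e6f16970494e041378502d42055a2ab) (.leaf 0))) (.node (.node (.leaf 0xd13347a000010792c0c046b08648475103b27051294f404924d) (.leaf 0)) (.node (.leaf 0x48db10190001293c0f1e4b4d1c348571974912a473122170b7b2) (.leaf 0))))) (.node (.node (.node (.node (.leaf 0x1bf30f8b0000044f0de40de30cb784718853d4fb5f90342cb049) (.leaf 0x147d0146000136c3206e4c640a8785b01c3fd7480af63c7bd18b)) (.node (.leaf 0x3902d46000018c03a5b2f1f04b284146b33a006016543333786) (.leaf 0))) (.node (.node (.leaf 0x1509407200000dea269826970aa10536241f07d208855f262149)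 (.leaf 0)) (.node (.leaf 0x122e470001259137c22fac04448454813525ac1502fa5be113) (.leaf 0)))) (.node (.node (.node (.leaf 0x3f203729000008ff1ada1ad918830415496036074fe1781562ab) (.leaf 0x4283510b0001441e23c51c7c1a320477c35bb7257a10a912d214)) (.node (.leaf 0x2bbf00a000001ece33363ca2125385f00d0612356737777bd546) (.leaf 0))) (.node (.node (.leaf 0x16f108a100001327312131200ad78430d311705b0027892c770b) (.leaf 0)) (.node (.leaf 0x12f9353d00012d3431b825b40a3785352370f14605a414180335) (.leaf 0)))))))))

/-- part of a table -/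
def entries88 : Trie := (.node (.node (.node (.node (.node (.node (.node (.node (.leaf 0x27c21b360000002d00ab00aa10b60452aa1c560b7d418e15f586) (.leaf 0x14d6076d00002dc346c84b740a9584d0ad7a54376433b07bd32d)) (.node (.leaf 0x19674aa00000137e31d131d00c4704f7230771f73033456de049) (.leaf 0))) (.node (.node (.leaf 0x145d2b0d0001094e02cb1ba40a8585b4406934902195067bd32d) (.leaf 0xe5f52280000455e4fb84012088585f7da52376e4e735f7bd428)) (.node (.leaf 0x66736d400011f3342b342b2064704f5412005f4161227537335) (.leaf 0)))) (.node (.node (.node (.leaf 0x18d9335a000104980ec10ec00c368534f531a4d87450c568a124) (.leaf 0x4dab303b00013798179751901cd30574ad3ff4d47106264287d9)) (.node (.leaf 0x2a6e2f120000191d3ae03adf122705d4920ce75901f41741d546) (.leaf 0))) (.node (.node (.leaf 0x1a52186200000e391ea71f610c858452603881b97156645372c7) (.leaf 0)) (.node (.leaf 0x3f655169000126083dbe48e1188704b7ca6036071da26815618b) (.leaf 0))))) (.node (.node (.node (.node (.leaf 0x2a251d25c20000025907e807e7104185b3bb0dd14155b506025586) (.leaf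 0x16083e8f0000324b4fbf1f9d0ac10515f26595711fc78970a786)) (.node (.leaf 0x425b436e000116370cff36731a2485766d7176627766b812d113) (.leaf 0))) (.node (.node (.leaf 0x2966289d00000bc021a621a510e604d40244f3275662d815f156) (.leaf 0)) (.node (.leaf 0x1d59506100012279289645f10ce58537b31ac3801691cd734025) (.leaf 0)))) (.node (.node (.node (.leaf 0x43931fe4000106ea0218154e1a518473242d50c36e047a156786) (.leaf 0x28311f6d00003d8a1fa7384410c384331a6e865576711170a12d)) (.node (.leaf 0x4c342cc500001c153eed284f1ca38494611c92130be265295049) (.leaf 0))) (.node (.node (.leaf 0x30344011000010d015dc2ca8142384961b09b7440fc32b734621) (.leaf 0)) (.node (.leaf 0x19c84d84000129ba1b824b9b0c5605176c1e578874556024d41d) (.leaf 0)))))) (.node (.node (.node (.node (.node (.leaf 0x92f07010000013f0457045606a305f0a604c1e254204b295621) (.leaf 0x1aef506e00002feb17cd4ef10c9605f7b36e549b1697d628f2c7)) (.node (.leaf 0x14d32e0b000014d41cfa31e90a9584747b5335ce5f57187bd428) (.leaf 0))) (.node (.node (.leaf 0x39670b4000000a840a661e9b168704f10f1733171f917f55a2ab)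 (.leaf 0x14a44ce800004ace53104a6e0a9304975e4df80749e60e0252ab)) (.node (.leaf 0x53095289000120d224d541f71ec20537e54992da7b858f2ab180) (.leaf 0)))) (.node (.node (.node (.leaf 0x1bd4d5a000105c112121211047585b7683627391900c2149537) (.leaf 0x7ff3f9000003a5d32c416d0067785f60f01625f23d32a7345be)) (.node (.leaf 0x2f89336000011a9428c13d0312f10534f60b55dc52d37b41d518) (.leaf 0))) (.node (.node (.leaf 0x10d128000010f832a062989046405b1d103c3562be3fc33328f) (.leaf 0)) (.node (.leaf 0x2f814e3e000127d40e7637a012f104377d62c10c62527041d518) (.leaf 0))))) (.node (.node (.node (.node (.leaf 0x7664d00000103770b5f0b5e066704d76009428407054a2145be) (.leaf 0x7074c87000034cb50c648ac066404f7514d055d2064a833324d)) (.node (.leaf 0x401251d0000017aa36d938aa18a18457d301b3582fb7e2586149) (.leaf 0))) (.node (.node (.leaf 0x2d52a2400000cfb0e2c2481049684b42b2f71e04561ab28f428) (.leaf 0)) (.node (.leaf 0x1e581d380000243c147c38d40e268512d554e31b5d80c568a124) (.leaf 0)))) (.node (.node (.node (.leaf 0x494505130000081c08dc188e1c4404b0710e407f0ae03b5be15f)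 (.leaf 0x3b8d35870001412e3b65258116f105b5292aa4b30540c2295537)) (.node (.leaf 0x993eda00001d9f35d640e004548535fb7285ac10b05e5be68a) (.leaf 0))) (.node (.node (.leaf 0x28e01ef7000012282f441d6810d704130e4676bd2e35c82c712d) (.leaf 0)) (.node (.leaf 0x2eec064200012bbf10544cd312d70590942781947351112c712d) (.leaf 0))))))) (.node (.node (.node (.node (.node (.node (.leaf 0x40cf369b000100b5002f028618b405f53d6761342051be546113) (.leaf 0x544330d00002edb2b870b2e04e40494ed6d258372f7f970b28f)) (.node (.leaf 0x277b32a600011426210f32ee10a78574e40ee6f943a66a124546) (.leaf 0))) (.node (.node (.leaf 0x2f054d2d000109e805a21d2712e104b76370f6121ed27a180156) (.leaf 0x2b263ac5000047c14dce4f55124304d59915768959f6b4025546)) (.node (.leaf 0x47c419e60000200213f73eed1af40492863506ef72879054628f) (.leaf 0)))) (.node (.node (.node (.leaf 0x2e3e04ff0000052c02ed106712c385d06f7be6363091cc2c7546) (.leaf 0x2758144c000138fa3e8e4c4810a68511fa7103003dd6e915f000)) (.node (.leaf 0x494039a1000119d9089918241c4404158208d0813b24765be7b2) (.leaf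 0))) (.node (.node (.leaf 0x4f45449c00010eda0db620441e4404b68656d0fd5d74045be15f) (.leaf 0)) (.node (.leaf 0x17da365f000126ed24af499c0af48555397e66376a63227d924d) (.leaf 0))))) (.node (.node (.node (.node (.leaf 0x5353c32000002e809a4043904e384b5c124411d44843d2cb5be) (.leaf 0x424853770000338c4bc550541a240517fd3ae0f75291a4546113)) (.node (.leaf 0x35e0235b000116f1379b379a14f604137e5490d06c04971136de) (.leaf 0))) (.node (.node (.leaf 0x3849523d00000c5e2326232516640537de54455d26463b62124d) (.leaf 0)) (.node (.leaf 0x44e82ce40000235a46c246c11a7705146528b1072391645865fc) (.leaf 0)))) (.node (.node (.node (.leaf 0x38f916320000078516f016ef16778532250fa28e79221c2cb5be) (.leaf 0x364231b00013f504ee9529004a704937837e05b7761cd214621)) (.node (.leaf 0x3fa4053b00011cde09c93ff718930490766d780721279f1562ab) (.leaf 0))) (.node (.node (.leaf 0x18d221b000011179058c2dfd0c3684535a19331963d5c3113262) (.leaf 0)) (.node (.leaf 0x4431188f00002aad4b8302b21a628432636ec71151a3e6546537) (.leaf 0)))))) (.node (.node (.node (.node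 (.node (.leaf 0x1f40f5d000001cb06220621047784918174e7ac6a75ae7345fc) (.leaf 0x2f5b0c300001310e131b240e12e585712802b5dc4e938c262156)) (.node (.leaf 0x4763110c0000157f355612d11ae50471ac65d0d009011800055a) (.leaf 0))) (.node (.node (.leaf 0x70b138900010b22201e201d06640571e94603562be7fe33328f) (.leaf 0x3374432f00014e7052aa42bf14878496657b16b308f05d6de18b)) (.node (.leaf 0x2c18004b000121aa4527452612618510076b93414225c7124518) (.leaf 0)))) (.node (.node (.node (.leaf 0x11af0c7d0000065513b213b108f305f12f7ce03d0e96771245fc) (.leaf 0x529a07f500013bec1c8031c01eb18550bb1fc59b46860073441d)) (.node (.leaf 0x319a2c0b00011b50092b3df5145185545257b7ed3230826de214) (.leaf 0))) (.node (.node (.leaf 0x210407da000010292b63035f0ea10490b836e34c61643d78641d) (.leaf 0)) (.node (.leaf 0x4e6b44d2000128c74aff100f1e2505768e10610413a2472cb41d) (.leaf 0))))) (.node (.node (.node (.node (.leaf 0x13d53324000004070d0b0d0a0a7684b4f02cf07e67f29415f486) (.leaf 0x31af03020001360d15f05129145305f0451b076453471c486335)) (.node (.leaf 0x2cf816390000185e39c739c6127685122555362745b6e915f518)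 (.leaf 0))) (.node (.node (.leaf 0xa20e612c1400000d9c25ec25eb08870434531ed6b34345060252ab) (.leaf 0)) (.node (.leaf 0x41351f6f0000252428b924f018e384b31a74203d4ff4010005be) (.leaf 0)))) (.node (.node (.node (.leaf 0xff651ef000108b21a191a1808b684d7d46f772570918e7b2734) (.leaf 0x3d8551090000431e40493ee0185104b7c353f52a06312b1562cb)) (.node (.leaf 0x4b1b41d300001e6e41cd1d3c1c818576441972a27df71c5372c7) (.leaf 0))) (.node (.node (.leaf 0x3f0b358a000012d63082308118810575294d70c10547db51832d) (.leaf 0)) (.node (.leaf 0x6ff316300002cc54d5d4d5c065785f4c427c3e4557227486335) (.leaf 0)))))))) (.node (.node (.node (.node (.node (.node (.node (.leaf 0x347380100000071019c019b04a604f55b0b605f52c5c368a2cb) (.leaf 0x45e21fd500002e4f4e2b4e2a1a970453234b72cd0e447a1562ab)) (.node (.leaf 0x9f20bbb000113d309db325e06b78451195b83617806ad734621) (.leaf 0))) (.node (.node (.leaf 0x4457379d0000099d1c651c641a6484f5526f65256111e412d28f) (.leaf 0x1abd2d9d0000468b39b416600c9285b47172850c6eb03b5be70a)) (.node (.leaf 0x19c6431400001f9c43231bbe0c5604d6631ad30f5796d028f41d)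 (.leaf 0)))) (.node (.node (.node (.leaf 0x49821951000004e50f960f951c510452761b07032ac2a7486124) (.leaf 0x2a5a436c0000384951883072122685566d63035147b30a7b2000)) (.node (.leaf 0x1d2d204600011978087311390ce205b3313d43d36eb24e3337bd) (.leaf 0))) (.node (.node (.leaf 0x141119f700000e8827fa27f90a818432883fd49049263c7bd428) (.leaf 0)) (.node (.leaf 0xb470d2e0001267f459e1c7106e404f13f7b01fd35222170b24d) (.leaf 0))))) (.node (.node (.node (.node (.leaf 0x2f5810da000102a008c3045b12e58511a874a6275fd0b2124518) (.leaf 0x3668537f000032ef227b501e16270517fd7ca675590265149621)) (.node (.leaf 0x3bb51f6a0000169a3709370816f384b31a5e47ef0421862145fc) (.leaf 0))) (.node (.node (.leaf 0x4d4aca00010c0d225f225e044605b72735778f0623de24d295) (.leaf 0)) (.node (.leaf 0x3f6e3afc000022e83897465f188705d59e48f2790bd67e5182ab) (.leaf 0)))) (.node (.node (.node (.leaf 0x2b192a910000073a1621127412418534340c730c2a85067bd586) (.leaf 0x531236af00003e614b1352e81ec284553e7c00f966003918b180)) (.node (.leaf 0x5083192100001c821e883f701e7104727302f0123b74162147bd)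 (.leaf 0))) (.node (.node (.leaf 0xd1370330ef000011222d512d5016410474bc7a368010d08255a214) (.leaf 0)) (.node (.leaf 0x42ca054800012a343f7811471a3405507764950149f1e412d68a) (.leaf 0)))))) (.node (.node (.node (.node (.node (.leaf 0x358e359d00010185053d044614f105d52b7096cf57b207149537) (.leaf 0x50ef14a2000030844f3a47011e7605f2010e169a1d109568a025)) (.node (.leaf 0x36f90cd00000152834c5306b16378531380446025290c214970b) (.leaf 0))) (.node (.node (.leaf 0x439e442800000ad41f5b1f5a1a5185d67d3102482927db1562cb) (.leaf 0x30530c6c00004ca44e944ede142684712e5e60c34a4137113786)) (.node (.leaf 0x2844feb000121414201108104920497a86881e06545b25fc428) (.leaf 0)))) (.node (.node (.node (.leaf 0x33553d060001060b12e012df148684b5d520f00507137928f32d) (.leaf 0x1e41253900003b1c523133510e260433ac549087524218113262)) (.node (.leaf 0x3f3231500011af73d7e3d7d04b784737820a6750520b021470b) (.leaf 0))) (.node (.node (.leaf 0x454b4ab200010fd604f92ab31a850577262b876e5824a115632d) (.leaf 0)) (.node (.leaf 0x377843990001284f3ab32095164685167149e45c4e471328f295)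 (.leaf 0))))) (.node (.node (.node (.node (.leaf 0xb1b2cfb000103c001100c3706e285746652707a72a33870b6de) (.leaf 0xe3a0fb90001357a15954292088385518d5fd50f3c03b07bd18b)) (.node (.leaf 0xd0827dd000018060c35394008640513ec73555d2644d904924d) (.leaf 0))) (.node (.node (.leaf 0x4e58439400000d48253425331e2485167127769937009762115f) (.leaf 0)) (.node (.leaf 0xd3425af000124aa4339339508658493b77bb5df4b641441d55a) (.leaf 0)))) (.node (.node (.node (.leaf 0xbaf4730000008671954195306f305f6ce00b2e90e92477865fc) (.leaf 0x16da2d2100004220371c456e0ad585546918972b6e03d970a786)) (.node (.leaf 0x27f9384f00011e021020415510b78535647ad39e7c71ec12412d) (.leaf 0))) (.node (.node (.leaf 0x4d9348450000127f0a8b2fe41cd28476e62066c311c74c2ab41d) (.leaf 0)) (.node (.leaf 0x12b4091a00002c444d170f830a358490dd66003e0150bf262295) (.leaf 0))))))) (.node (.node (.node (.node (.node (.node (.leaf 0x14b34eb7000100f8036f036e0a9384778c5332ea4487187bd2ab) (.leaf 0x4fe30f3f00002f6431ec2c0c1e5604717c7f51273390d828f180)) (.node (.leaf 0x149939540000147b339333920a9185357a08c0cd3f672e02532d)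 (.leaf 0))) (.node (.node (.leaf 0x51e121d300000a351de71d761e9604335c1e52b466b56024d2c7) (.leaf 0x11b11ced0000492950d8266008f38432cf7ad2847f54351245be)) (.node (.leaf 0x217a276d0001205d43f843f70ea78553e25401f75cc17b2cb7d9) (.leaf 0)))) (.node (.node (.node (.leaf 0x384c214300010576113e113d166405934f49c76d40607562128f) (.leaf 0x21ce42d4000139a84cda520b0eb405d65d4385163672216217b2)) (.node (.leaf 0x4d67516200001a373c7a3c791cc504f7ca2850116af05932d124) (.leaf 0))) (.node (.node (.leaf 0x359502be00000f2c2957295614f184b03c722398219267149537) (.leaf 0)) (.node (.leaf 0x3c5e537d0001276549fb1631182485d7fd7125ac5901e454668a) (.leaf 0))))) (.node (.node (.node (.node (.leaf 0x2b3715390000032e0a7f0a7e124384f20d4297596ce777025546) (.leaf 0x1eab0ea70001343a21850d500e3505716946278823e54a214180)) (.node (.leaf 0x4c1b31e000011748239738271ca18574d00e86dd7ad32a214180) (.leaf 0))) (.node (.node (.leaf 0x22aa48f200010cab23cf07a50ed20556f616d7883420392ab180) (.leaf 0)) (.node (.leaf 0x5363f7c000123c1472a15f504e384d60c5890f40450347865fc)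 (.leaf 0)))) (.node (.node (.node (.leaf 0x43a50c7000007cf17ba17b904c38557bf2dc7641b258e32d333) (.leaf 0x53e01fd400014048317a27091ed50413233187244000cc32d124)) (.node (.leaf 0x341d2ea800001d3d27622fb014c185b4895526801870cc428214) (.leaf 0))) (.node (.node (.leaf 0x4c684109000011cf14a42ea41ca605163249431902a0c5113124) (.leaf 0)) (.node (.leaf 0xb5f300e00002b394ace4c8706e485f4aa6e171b45275570b28f) (.leaf 0)))))) (.node (.node (.node (.node (.node (.leaf 0x1f4749f400010211070707060e4604f7152d11821334ea28f180) (.leaf 0x2f42007b000031b248b5036a12e504500a50e34141138c124156)) (.node (.leaf 0x2f741e56000015e02f6335ee12e68492fb2ce10c58d0cb15f156) (.leaf 0))) (.node (.node (.leaf 0x4a702da600000b720e62154a1c6684147241e01260f21868a025) (.leaf 0x35672fc1000151a44547520514e604f4a40b64955e713768a55a)) (.node (.leaf 0x410c358d0000220c458f127218e20595296ea47f4561a412d486) (.leaf 0)))) (.node (.node (.node (.leaf 0x495b03ba000006a109b714831c448570554c23877990c95be7b2) (.leaf 0x1733477300013caa1a5749060ae38476d43c85e23572df2625be))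 (.node (.leaf 0x15d10bd800011bb13cb73e700ab484311c3bf5fa7a030d04968a) (.leaf 0))) (.node (.node (.leaf 0x432e3a0e0001107911352c0d1a4305d58a6f27663557e9156621) (.leaf 0)) (.node (.leaf 0x83550990000293d389c4b4e068384b7ba4c84ef5992b555a18b) (.leaf 0))))) (.node (.node (.node (.node (.leaf 0x2c5a383e0001044f0de60de512658555637970f54675bc180156) (.leaf 0x95627a4000136c53262167306a684d3e831100648e3c7113786)) (.node (.leaf 0x1e3721c1000118c01c6a3a5c0e2584f35b0d507239560073441d) (.leaf 0))) (.node (.node (.leaf 0x1fae3b3800010dea0c5b26990e5505d5a45d631b001664537124) (.leaf 0)) (.node (.leaf 0x31641cb6000025924637488e14460492ca3af3ba0853de24d295) (.leaf 0)))) (.node (.node (.node (.leaf 0x344a39f3000108ff1ab31adb14c405558923942d1a334a18b68a) (.leaf 0x11cf0237000044213e191b3e08f405f0314a558358736a7d924d)) (.node (.leaf 0x11cb53ee00001ecf2d57336808f40578086853567287077d928f) (.leaf 0))) (.node (.node (.leaf 0x31808e6000013283122221d04a28510d72556920d550a3352cb) (.leaf 0)) (.node (.leaf 0x369a1da200002d384d9f2eab16328552e22167fa665123333786)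 (.leaf 0)))))))))

/-- part of a table -/
def entries89 : Trie := (.node (.node (.node (.node (.node (.node (.node (.node (.leaf 0xe5620840001002d00ad00ac088584d3391ce76e01a2e47bd428) (.leaf 0x26064e0200012dc5495e4de2106104d7781305c626c38c262156)) (.node (.leaf 0x262f50d50001137e31d22b1f106205f7c04a575840936a7d9156) (.leaf 0))) (.node (.node (.leaf 0x198a1d280000094f1ba61ba50c540552d43bb0816ec12a5be15f) (.leaf 0x1d5e242a0001455f4d4142e10ce585d39538f3cc2b8600214025)) (.node (.leaf 0x4e1b34ab00001f3425d342b41e2285751452731b7d433870b262) (.leaf 0)))) (.node (.node (.node (.leaf 0x274a50ec000004990ec30ec210a60557c167330040e62315f586) (.leaf 0x8ef461a0000379932f2431b069705f6af4921bc0c634053718b)) (.node (.leaf 0x2089223d0001191d085021870e9105336670227d47046455a2c7) (.leaf 0))) (.node (.node (.leaf 0x444f098a00010e392755081b1a6405f0e64b037441965c12d24d) (.leaf 0)) (.node (.leaf 0x44909f60000260948e348e204c40530ef42c5af63458f2ab113) (.leaf 0))))) (.node (.node (.node (.node (.leaf 0x22bf30690000025a07ea07e90ed285f4b05841835d834a2ab180)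 (.leaf 0x44254e0a0000324d309e3dd61a6204b7785dd39857c3f4546537)) (.node (.leaf 0x19894d8d00001638367536740c5405376c67a4ca6f61b15fc7b2) (.leaf 0))) (.node (.node (.leaf 0x1fb120e00000bc121a821a704778571c349d3ee04f4c52145fc) (.leaf 0)) (.node (.leaf 0x3867105e0001227b45f345f2166704f19b5777ac0703472cb5be) (.leaf 0)))) (.node (.node (.node (.leaf 0x3b864b65000006eb1550154f16f104d7361df73932109f149486) (.leaf 0x45b706bc00013d923fa652c71a9384f0a07568072d34a115618b)) (.node (.leaf 0x2f4d36c100011c150be63eee12e505b5400245dc4e955f262156) (.leaf 0))) (.node (.node (.leaf 0x3133bcb000010d12caa2ca904a28475b63b472b122250333786) (.leaf 0)) (.node (.leaf 0x52fd4caa000029bb4b9d4b9c1eb685b75361a19140e49768a124) (.leaf 0)))))) (.node (.node (.node (.node (.node (.leaf 0x12aa3ee00001013f005604580a350555fd02b019444242262149) (.leaf 0x12030cb300002fec26cd41be0a240471350d701e77d34d04968a)) (.node (.leaf 0x49dd2810000114d406bd342e1c5485b3f60183877994765be7b2) (.leaf 0))) (.node (.node (.leaf 0x15c20e2300010a841e9d1e9c0ab404515e0d701e6c934d04968a)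 (.leaf 0x1ae3419f00004ad62c153d3e0c960476407f527d0d90d828f70a)) (.node (.leaf 0x21353e55000020d31a0422bc0ea284b5ef1552e174223f621262) (.leaf 0)))) (.node (.node (.node (.leaf 0x4b4a1e2c000005c202d312131c850552f56cb43f5410826de2c7) (.leaf 0x272047bf00003a5e3919522d10a30416da8091e324341418012d)) (.node (.leaf 0x27ac3cbb00001a963d053d0410b30595cf65b6f960c6fe41d546) (.leaf 0))) (.node (.node (.leaf 0x29d3034e00000f842a0725ef10f584704e7aa0b34dc66a262518) (.leaf 0)) (.node (.leaf 0x4a152a30000127d51dc026671c6184b42c05338067c6357347bd) (.leaf 0))))) (.node (.node (.node (.node (.leaf 0x3a704332000003780b600a6b16c78416671900b44f6236428333) (.leaf 0x4c9345b2000034cc28c44eab1cb18476a510334c47b60021441d)) (.node (.leaf 0x2b51295a000017ab38ac38ab12458434136bf6fa27460e7bd586) (.leaf 0))) (.node (.node (.leaf 0x4e5a3efa00010cfb248201b51e248555fe55712046b64d70b7b2) (.leaf 0)) (.node (.leaf 0x2caf0f6f0000243e112234fd127205f1847f16471e94f4049518) (.leaf 0)))) (.node (.node (.node (.leaf 0x1d23440f0001081c1890188f0ce204767b7cb2576c81233357bd)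 (.leaf 0x339b39080000412f3db5534d149285757258775c7063465fc428)) (.node (.leaf 0x394213e000001da03b913cf616860451f30680c12107d628f32d) (.leaf 0))) (.node (.node (.leaf 0x94e3b71000012292f462f4506a605d5aa0372c21df3c768a786) (.leaf 0)) (.node (.leaf 0x35cf4bdb00002bc03bf22de914f405f73f56f55d1151a233324d) (.leaf 0))))))) (.node (.node (.node (.node (.node (.node (.leaf 0x53712e82000000b6028802871ec58434850fe6ae11f0de428124) (.leaf 0x306e23c800012edb28071926142705d38d48e2a63a054529570b)) (.node (.leaf 0x4f2e483b0000142732f032ef1e4305d6e57a329e18d0ff55a7d9) (.leaf 0))) (.node (.node (.leaf 0x4e90e1c000009e90b65098704d505315c55e6cc29a62f32d214) (.leaf 0x216c51b4000047c24fb6508c0ea70597cf4442136f317d786049)) (.node (.leaf 0x4ef334850000200314d943961e358475114b418346817b78641d) (.leaf 0)))) (.node (.node (.node (.leaf 0x4be0228e0001052c106910681c9604136d7c82802a956024d2c7) (.leaf 0x24f80a4f000038fb444b50bd10378510f88091e37c741418012d)) (.node (.leaf 0xeae0929000019da3bfd3bfc089305d0df7297854823b002518b) (.leaf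 0))) (.node (.node (.leaf 0x711129e00000edb28ad28ac06648431d37805256113fc33328f) (.leaf 0)) (.node (.leaf 0xac50e2e000026ee15932e1306d404b15e7a601e4c06ba18b68a) (.leaf 0))))) (.node (.node (.node (.node (.leaf 0x12600d76000102e809a609a50a2704114e4533f51616fe180335) (.leaf 0x168d21310001338c169d116e0ad105b34e0f20c34a46d82c7786)) (.node (.leaf 0x1be61729000016f2379d379c0cb704d23e5401f73033472cb049) (.leaf 0))) (.node (.node (.leaf 0x9aa43b800010c5e03cb232706b30556736203610e509f149621) (.leaf 0)) (.node (.leaf 0xabb0df70001235a30c446c306d385715936014640b020428333) (.leaf 0)))) (.node (.node (.node (.leaf 0xfbd0fbf00010785023916f108b385b18d7f70b4313270180335) (.leaf 0x10973f5800013f5125c525f508d184f60843c4120163d970a786)) (.node (.leaf 0x62a230900011cdf23f03eca064505537745f7253f946355a214) (.leaf 0))) (.node (.node (.leaf 0xd5255d4e9e0001117a13bc2dfe104585b78776933474a24b025586) (.leaf 0)) (.node (.leaf 0x28a9094c00012aad16c330ba10d30530e167c39e7bf5c82c712d) (.leaf 0)))))) (.node (.node (.node (.node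 (.node (.leaf 0x423933ce000101cb062406231a238534fe66148709c048586333) (.leaf 0x3fe6016d0000310f4f7c2993189704d0216ac38a00311a51818b)) (.node (.leaf 0x484733ba00001580259735571c2404f4fd54714b3b222c6217b2) (.leaf 0))) (.node (.node (.leaf 0x29c51be000000b232020201f10f504b2bb0d30b34dc1ec262518) (.leaf 0x12d91b2d00004e7e523310850a368532a95c17ff10655c15f214)) (.node (.leaf 0x408e01a1000021ab452834c118b105d02801b358066147586295) (.leaf 0)))) (.node (.node (.node (.leaf 0x7d51920001065513b413b3044785b7cd0a542576369c486333) (.leaf 0x145b2c2900013bed39ed52840a858574544740c14dd6b402532d)) (.node (.leaf 0x40370e5d00001b513df6389b18a284f1626ab45770e7dc546734) (.leaf 0))) (.node (.node (.leaf 0x13a105900001102905152b640a750430840b57e80696fe41d55a) (.leaf 0)) (.node (.leaf 0x444730d0000028c8327e45a51a6404f4bb0295835841be12d24d) (.leaf 0))))) (.node (.node (.node (.node (.leaf 0x25bd2e53000104070d0d0d0c105385b48239b5563ca0db7bd546) (.leaf 0x2bbc1a4c0001360e35a6512a125385928d7436890be63c02512d)) (.node (.leaf 0x23823ec30000185f39c939c80ef10455f918f3807232071497bd)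 (.leaf 0))) (.node (.node (.leaf 0x189f13d000000d9d14b225ed0c3485f1f200217610812333515f) (.leaf 0)) (.node (.leaf 0x3a6e49ba0001252437c7219f16c705d70e64e42548948c32d335) (.leaf 0)))) (.node (.node (.node (.leaf 0x24d26f7000008b31a1b1a1a048605b3d844876e4087fc24d32d) (.leaf 0x1bdc0004000143201f9a50bc0cb485900116a16c4a056e6217b2)) (.node (.leaf 0x4746389900011e6e41ce08531ae404d56964976d4581be12d24d) (.leaf 0))) (.node (.node (.leaf 0x93a0244000112d73084308306a38550321d77661b226a14970b) (.leaf 0)) (.node (.leaf 0x3c9305ed00012cc54d5e4ce2183284708d71201d6e06b8546214) (.leaf 0)))))))) (.node (.node (.node (.node (.node (.node (.node (.leaf 0x48693a8600010071019e019d1c2505359539110447e79c2cb180) (.leaf 0x453d218a00012e5031244e2c1a8385b3556eb4ef59915d51818b)) (.node (.leaf 0x4442b18000013d412db325f04c404944126350149f2262ab68a) (.leaf 0))) (.node (.node (.leaf 0x10a31fa20001099d1c671c6608d304731f0ca5ea01451370a70b) (.leaf 0x64b35b70000468f34654aa6064605752d4327d22446d028f295)) (.node (.leaf 0x45e7073500011f9d43243a0c1a9704f0aa2cc79850b20e15618b)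 (.leaf 0)))) (.node (.node (.node (.leaf 0x411e1c97000104e50f980f9718e285d2c83203982e858b546486) (.leaf 0xe8e2b7700013849176151bb089105d44742a0cd3f660a02532d)) (.node (.leaf 0x3e60240b000019793b6d348218670413936404796a04010005be) (.leaf 0))) (.node (.node (.leaf 0x1987090900010e88190f14010c5404f0dc51407f3660135be7b2) (.leaf 0)) (.node (.leaf 0x3af94bcc0000268122913b3016d785373e6d976452743b32d335) (.leaf 0))))) (.node (.node (.node (.node (.leaf 0x3b6611d2000002a108c508c416e604d1c026f13c16b39268a6de) (.leaf 0x158d2138000132ef4afa36e30ab105b34e42b7bc37e55f124149)) (.node (.leaf 0x40f949b90001169a370a165d18b785370e61716e20513e000333) (.leaf 0))) (.node (.node (.leaf 0x33e44de100000c0e2261226014970497750544263b92406de2ab) (.leaf 0)) (.node (.leaf 0x44c26fd000122e80c461a0b04c40593d864b5501316ba2ab68a) (.leaf 0)))) (.node (.node (.node (.leaf 0x338303810001073a1623162214920470521107547d76c55be428) (.leaf 0x2fdc079300013e63404624bd12f58590b11f064750255f262156)) (.node (.leaf 0x47be137c00011c823f723f711af385d1e765d7ac05c7b70005be)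 (.leaf 0))) (.node (.node (.leaf 0x2d8a15d9000111222d532d5212b205521d40c3516e74b1049000) (.leaf 0)) (.node (.leaf 0x3f2f48e700002a354b763269188305f6f51f268b44967e5182ab) (.leaf 0)))))) (.node (.node (.node (.node (.node (.leaf 0x45313b400000186053f053e04c48471f03546e263803918b113) (.leaf 0x44391eb7000030864f3b32811a628533053a76cf6c741f546537)) (.node (.leaf 0xf9d0d010001152834c6119008b185b13b0d26514a40b2124295) (.leaf 0))) (.node (.node (.leaf 0x4d9013ca00010ad41f5d1f5c1cd28411f159359b7ce58f18b180) (.leaf 0x15a3387000004ca9532353e40ab304756703117241e5ed180335)) (.node (.leaf 0x3b6a18420000214344c743c016e605525c09c79b6e461368a55a) (.leaf 0)))) (.node (.node (.node (.leaf 0x5163bc10000060c12e212e104e284d5b603513c44d22c6216de) (.leaf 0x489b084700013b1e4e4634bc1c328570c65576ae3d233870b262)) (.node (.leaf 0x4fe702a200001af81b303d7f1e5604f03a1ad30f7da6d028f41d) (.leaf 0))) (.node (.node (.leaf 0x53c51c0300000fd72ab52ab41ed404b2bd3490fd49361d18b15f) (.leaf 0)) (.node (.leaf 0x1d900d5a000128510eb24aad0cf18411436051ca36808a1497bd)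 (.leaf 0))))) (.node (.node (.node (.node (.leaf 0x24e20609000003c10c390c3810370450904aa55635977a180546) (.leaf 0x1d04440c0000357b29aa50f60ce104967b6b12575540c21497bd)) (.node (.leaf 0x1233d243acc000118062aef394118430495995e03610e515d156621) (.leaf 0))) (.node (.node (.leaf 0x3a102f7b00000d492536253516c184149c4bb3b35c20cc428214) (.leaf 0)) (.node (.leaf 0x2572087000024ab41263703048684f33928d76e38d0d824d428) (.leaf 0)))) (.node (.node (.node (.leaf 0x12fa51f600010867195619550a378557d53cd5f476377a41d333) (.leaf 0x49f40f37000142205211327c1c5684917c2f72da13d1ab28f41d)) (.node (.leaf 0x3e6223da00001e03415634e2186704538e57025f3493bd5865fc) (.leaf 0))) (.node (.node (.leaf 0x34ce369500001280265927ad14d405d53d1ff1344ac74c2ab113) (.leaf 0)) (.node (.leaf 0x162c212500002c454d1849160ac305934b3c65ea5c56d870a70b) (.leaf 0))))))) (.node (.node (.node (.node (.node (.node (.leaf 0x239d0af1000000f9037103700ef185b10810f3805b508a1497bd) (.leaf 0x1c53080d00002f66133534af0cc48470bc7701203ae29818b7b2)) (.node (.leaf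 0x2ee34c6f0000147c33942da212d704774e77f39f1f875b70a12d) (.leaf 0))) (.node (.node (.leaf 0xbd2074700010a351dbd1de806f48450ab4f676a72022162124d) (.leaf 0x40f30f7f0001492d5109526f18b78471877b34872523bd586335)) (.node (.leaf 0x4f5f11420000205e43f9191a1e4485f1b00512a43703465be15f) (.leaf 0)))) (.node (.node (.node (.leaf 0x436028e60000057710e2113f1a470414083816751ba178518621) (.leaf 0x182c2529000039aa4a221e450c250593ab4d51826611cd21441d)) (.node (.leaf 0x18dc323200001a383c7c3c7b0c368594d70a031b10a40a68a262) (.leaf 0))) (.node (.node (.leaf 0x2d7c1ca900010f2c2958085a12a78592c95ad2350ae74d12412d) (.leaf 0)) (.node (.leaf 0x45c81b520001276649f149fc1a950512ae0b939943e12b51832d) (.leaf 0))))) (.node (.node (.node (.node (.leaf 0x4ba948040001032e0a810a801c920536e11da27d7d50e25fc2c7) (.leaf 0x4d78144b0000343b1a9625451cc58511fa6ff191539236428262)) (.node (.leaf 0x220120370000174938280b1d0ec104332f55226e5701ee428262) (.leaf 0))) (.node (.node (.leaf 0x4817388600000cac23d123d01c2284f5682051916c26cd621262) (.leaf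 0)) (.node (.leaf 0x7b32d07000023c24676145a067584746728947f38e04b295486) (.leaf 0)))) (.node (.node (.node (.leaf 0x395d1cac000007d017bb0b56168685b2c972115a1c17fc28f32d) (.leaf 0x302a4c550000404939945332142305574b2a336131a195734621)) (.node (.leaf 0x2d440b4300011d3d2eb110b912a604910f31f3513e855c7b2000) (.leaf 0))) (.node (.node (.leaf 0x56a5072000111cf2ea62ea504e50557b822a7117931c8786486) (.leaf 0)) (.node (.leaf 0x12cc126d00002b3b4c894c880a360591ce59d7ed06230b7b2214) (.leaf 0)))))) (.node (.node (.node (.node (.node (.leaf 0x3fcf3bd90000021207090708189505f5b83e12283f64a151832d) (.leaf 0x3fab07be000031b32b9e3c3118930570b66ac38a49e7e95182ab)) (.node (.leaf 0xee01ed5000115e01549332008970413070d61bc45d24b7bd18b) (.leaf 0))) (.node (.node (.leaf 0xb230ce800010b7220e020df06e304713953d7ac1f60342cb5fc) (.leaf 0x145310b4000051a74faa463b0a858471a50f30055913b002532d)) (.node (.leaf 0x1b4951810001220d1de645900ca40537cc0381dc71707570b7b2) (.leaf 0)))) (.node (.node (.node (.leaf 0x232c4a1d000106a1148514840ee205971770014f0c03fc335025)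 (.leaf 0x20fd438a00003cab271f3db20e9685b6705ca69835a7fc28f70a)) (.node (.leaf 0x22ca28a900001bb22e2105430ed40554033be1dc46f5202ab15f) (.leaf 0))) (.node (.node (.leaf 0x29c22b410001107a2c0f2c0e10f50454440986d6743242124518) (.leaf 0)) (.node (.leaf 0xc812e6a0001293d287b4b4f08340434836091346a436b049113) (.leaf 0))))) (.node (.node (.node (.node (.leaf 0xcac4143000004500de70d30083505963913d45c39155f262149) (.leaf 0x4a074476000036c949b6515e1c6104f6842a31cb0ca600734025)) (.node (.leaf 0x4de537c0000018c13a5e3a5d1cd504b5550500da8093cb32d124) (.leaf 0))) (.node (.node (.leaf 0x285b12d400000deb269b269a10c58571d745b1414535132c7586) (.leaf 0)) (.node (.leaf 0x1742498442200002593488f0c07103285167d1656aa79732e7d9000) (.leaf 0)))) (.node (.node (.node (.leaf 0x48d615ba000009001add1adc1c3484d21a5571204a533870b15f) (.leaf 0x1732658000044232bc0461b04678473c65643286291952145be)) (.node (.leaf 0x14600d2400011ed0424442040a8704113f3fd74805772e7bd2ab) (.leaf 0))) (.node (.node (.leaf 0x1e2f2258000113282b7231230e2505f3682ae1826b0195214180)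 (.leaf 0)) (.node (.leaf 0x214f1d4400002d391cdb352f0ea405f2d62560fd5596cd70b7b2) (.leaf 0)))))))))

/-- part of a table -/
def entries90 : Trie := (.node (.node (.node (.node (.node (.node (.node (.node (.leaf 0x234e22d00000002e00af00ae0ee505d3722ae3fb4701952147bd) (.leaf 0xe7228d900012dc63af9467f08878454075237481bd7777bd18b)) (.node (.leaf 0x34b916670000137f31d431d314d285322b59378f19222618b149) (.leaf 0))) (.node (.node (.leaf 0x4a342f530001094f086d1ba71c628494992553cc67c50a3357bd) (.leaf 0x241903df000145613ba44e0810228530577fb3343dd32e7d9000)) (.node (.leaf 0x192636b900001f3642b642b50c4504d53f4fc4d865d664486124) (.leaf 0)))) (.node (.node (.node (.leaf 0xe4e0957000104990ec50ec4088505d0e34c415a7877187bd428) (.leaf 0x12bc3ee50000379a4ae03ae80a358595fd27178f00a0b2262295)) (.node (.leaf 0x3ed4062b0000191e3ae1308e18748490925cc5252633e612d24d) (.leaf 0))) (.node (.node (.leaf 0x3083415300010e3a046a17e3143204763a2c865610f2f93332cb) (.leaf 0)) (.node (.leaf 0x304311c800012609178b140814260471bf50705f74e4e168a786)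 (.leaf 0))))) (.node (.node (.node (.node (.leaf 0x1dd4d570001025a07eb01c3047685b7682543ea55249768a6de) (.leaf 0x1e2d4cb9000032502c3c1e3b0e2505b7562bd2da6165b473441d)) (.node (.leaf 0x420032f90000163936760d071a220414ec4a05767093f4546734) (.leaf 0))) (.node (.node (.leaf 0x4236267700010bc121a90b4c1a2384d3c93157a264c4e2000333) (.leaf 0)) (.node (.leaf 0x67133fc0000227c45f545f406478435026e416e4f60ba537333) (.leaf 0)))) (.node (.node (.node (.leaf 0x2dff0d9c000106eb0209155112b785f1515886895b3314124546) (.leaf 0x4e98344300003d951fe752c81e3285150b23b5a28087f970b262)) (.node (.leaf 0x427333b500001c163eef35231a258474fd2243d668f7b7000149) (.leaf 0))) (.node (.node (.leaf 0x53764de9000010d22a4627221ec584d7755942e17af58e32d124) (.leaf 0)) (.node (.leaf 0x37cb3718000029bc4b9e34ba16540575485140f749f0435be68a) (.leaf 0)))))) (.node (.node (.node (.node (.node (.leaf 0x3d9725bb00000140045a0459185184f3b96ac43118f7e9518786) (.leaf 0x5624c4400002fed265d4ef204e504574a20b6cf7b117b786486)) (.node (.leaf 0x397b405b000014d5342f33d916878576206cb6b34bc0826de18b)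 (.leaf 0))) (.node (.node (.leaf 0x5066233700010a85032f14321e6604d37c26f09e77f61368a7bd) (.leaf 0x300e434400014add28a05321142205d6691ba6922924b53352cb)) (.node (.leaf 0x9495348000120d44462446106a60537f647552a620218113786) (.leaf 0)))) (.node (.node (.node (.leaf 0x1913418000005c312151214047484350533a63740f54333328f) (.leaf 0x4fdf0ecd00013a5f2b4451191e5485f16b61c17605612a5fc15f)) (.node (.leaf 0x434a331500001a973d062a8d1a450554ee1696564f767e1562cb) (.leaf 0))) (.node (.node (.leaf 0x8700bcd00010f8408272a08068784111b6e46076690ba5372ab) (.leaf 0)) (.node (.leaf 0x271c31ef000027d64a544a5310a28594d07fb3343787407d9586) (.leaf 0))))) (.node (.node (.node (.node (.leaf 0xfe440cc000103780b61026108b604962c5673b34d33c17b2734) (.leaf 0x3479151d000034cf4fe447a414c785320b7323f15573cb428335)) (.node (.leaf 0x28325f5000117ab07c938ad04920473bf1f943721a3465be428) (.leaf 0))) (.node (.node (.leaf 0x1e27253800000cfc24831e810e2504f3ac4e41833dc54a214180) (.leaf 0)) (.node (.leaf 0x9ab2be50000243f34fa2aaa06b305744f33d50846104b149621)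 (.leaf 0)))) (.node (.node (.node (.leaf 0x116d507b0000081d1892189108e605b7b873b71130655c7b2486) (.leaf 0x5254322b0001412f1de052a81ea48494d573d1b760824e3337b2)) (.node (.leaf 0x21c52b2e00011da040e240e10eb404b4426834ca25b44b70b15f) (.leaf 0))) (.node (.node (.leaf 0x4ee14a5400011229125801281e3504371e48b78858821c2cb41d) (.leaf 0)) (.node (.leaf 0x37d4f7500012bc04cd54cd404a785b79e1f336173632b734621) (.leaf 0))))))) (.node (.node (.node (.node (.node (.node (.leaf 0x11e5018c000100b6028a028908f604b0234f91664132947b2486) (.leaf 0x4d9226d200002edc2c0e4e141cd28453d41842da47b6182ab41d)) (.node (.leaf 0x41808e200001428168732f104c28510d704f01923c58f2ab295) (.leaf 0))) (.node (.node (.leaf 0x2451315b000109e91d28169410268434c35cd60b0ef6e915f000) (.leaf 0xc323277000047c342aa0ba108258454df41b3d6067314124149)) (.node (.leaf 0x119745690001200343971eaf08f184f69f2a83ea1b078b41d55a) (.leaf 0)))) (.node (.node (.node (.leaf 0x530a45000001052d106b106a1ec20556911121046b974c18b41d) (.leaf 0x201f3c0c000138fb3e7f50cc0e8185f5bb5d219c14017f6de70a))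 (.node (.leaf 0x52482aa8000019db0c063bfe1ea40514365281dc7c73fc3357b2) (.leaf 0))) (.node (.node (.leaf 0x204b1f3800000edc28af28ae0e850573153f643f3362275372c7) (.leaf 0)) (.node (.leaf 0x36de1036000126ee499d14c4163685d1994277f24e45c31132cb) (.leaf 0))))) (.node (.node (.node (.node (.leaf 0x48523b40000002e909a809a71c248455a51261762882216217b2) (.leaf 0x1fd83b310000338e24b32f2b0e568515a42531830017f828f180)) (.node (.leaf 0x265e5233000116f2219e2bd5106585d7de27b758409308180156) (.leaf 0))) (.node (.node (.leaf 0x48f5520700000c5f18b423281c3584b7d72fb34c13d62878641d) (.leaf 0)) (.node (.leaf 0x2bb7154f0000235c20211ef2125384f20f7276363372e47bd546) (.leaf 0)))) (.node (.node (.node (.leaf 0x6c255415a50000078616f205d910458492191ed334378506025586) (.leaf 0x320a045500003f522dd33d3a14610550652ba7e419840d786486)) (.node (.leaf 0x455e12ab00001ce03ff93ff81a8585d1d45a476e68247a156428) (.leaf 0))) (.node (.node (.leaf 0x1e291f0e0000117b2e002dff0e250533106fb59b71a750734180) (.leaf 0)) (.node (.leaf 0x17f9193d00012aae4c414c400af685327478207e3853c115f537)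 (.leaf 0)))))) (.node (.node (.node (.node (.node (.leaf 0x27ab3030000001cc0626062510b30574ad01c6bd261417180546) (.leaf 0x342a2df1000031104eea48d314c20554780a403e01561818b295)) (.node (.leaf 0x1d0120fe00011580355935580ce10433437a169a6f2202149025) (.leaf 0))) (.node (.node (.leaf 0x2774ea500010b23153e2021048784f78a1ae60766964f5372ab) (.leaf 0x234260a4ee200004e8053b24a8b10610557921a6327215242262518)) (.node (.leaf 0x8ae122d000121ac452a4529069305d1c55952ea4824186de18b) (.leaf 0)))) (.node (.node (.node (.leaf 0x2e69021b0000065613b613b512c705302f6592eb24978970a546) (.leaf 0x5106373900003bef528505561e8104d54b3f643f0612a753770a)) (.node (.leaf 0x4e724f5d00001b52382a3df71e2584579a6451270241c82cb180) (.leaf 0))) (.node (.node (.leaf 0x25b817a10000102a2b652651105385124f14e65575f63c7bd12d) (.leaf 0)) (.node (.leaf 0x26a0409f000028c94b0046b110720416297993277ab69b049156) (.leaf 0))))) (.node (.node (.node (.node (.leaf 0x352812ce000004080d0f0d0e14e30511d65e47ef28d6352145be) (.leaf 0x1e52b0232fb000036122d5f1e9f12410454ec56675711b60a025000))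 (.node (.leaf 0x46e023f60000186039cb39ca1ab70413915b017222b13e586333) (.leaf 0))) (.node (.node (.leaf 0x4d034b6400000d9e25ef25ee1cc20477361d52f216352018b41d) (.leaf 0)) (.node (.leaf 0x2b72512e0000252520f7454912478457c65fb2eb31660a02512d) (.leaf 0)))) (.node (.node (.node (.leaf 0x48431553000108b3029a1a1c1c240472101616b75d033862115f) (.leaf 0x1d6b000e000143235376504e0ce60570015cf3d34d261368a7bd)) (.node (.leaf 0x38a513900011e6f41cf0e0d04b20557c74604cf0534a83332cb) (.leaf 0))) (.node (.node (.leaf 0x22372150000012d8132c1bff0ec284f3500651277b374c18b41d) (.leaf 0)) (.node (.leaf 0x33004ec600002cc634644d5f148204178e3b97d13211b15be428) (.leaf 0)))))))) (.node (.node (.node (.node (.node (.node (.node (.leaf 0x19bb3237000000720163019f0c558574d744e31b62a71c537262) (.leaf 0x558023000002e514e2d37eb04e485103119671b4527f970b28f)) (.node (.leaf 0x304e2862000113d432613260142605d3fe0e17fa09409568a2cb) (.leaf 0))) (.node (.node (.leaf 0x1cfe0cab0000099e1c691c680cd785d1333a53846f658e4287d9) (.leaf 0x2d3f04f6000046934b6829ce12a385f06f3e963644f78b180546))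 (.node (.leaf 0xfb237ae00001f9e4325311208b38455537ee42356513241d335) (.leaf 0)))) (.node (.node (.node (.leaf 0x17302bb8000004e60f9a0f990ae384144c4680f40685c71245fc) (.leaf 0x13e549670000384b4d34336b0a7704b70144111d2e54351245be)) (.node (.leaf 0x4221b730001197916973b6e04c30452b11b61725e548c32d335) (.leaf 0))) (.node (.node (.leaf 0x287a064c00000e8927fc27fb10c78550946900c443a5132c7546) (.leaf 0)) (.node (.leaf 0x2462d14000026821ce73de8048604d46820c15a7716d028f428) (.leaf 0))))) (.node (.node (.node (.node (.leaf 0x21e1202a000102a108c6014a0eb704332c2a14fb1362e72cb7d9) (.leaf 0x5329342c000132f0501f170a1ec305350755229e6300cc4287d9)) (.node (.leaf 0x2462512f0000169b1b1136aa10270457c67ee39e3bc13241d546) (.leaf 0))) (.node (.node (.leaf 0xf5042f900010c0e2263226208a48416602b75ac5ec4d97d968a) (.leaf 0)) (.node (.leaf 0x16732011458000122e9237632a214610431fb3f947f51a79c2cb537) (.leaf 0)))) (.node (.node (.node (.leaf 0xeba50cd0000073b1625162408938557bf69e2cd4ff7180252ab) (.leaf 0x2a2a111900003e6527364fa412230551ad3e763678c4de12412d))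 (.node (.leaf 0x289602b000011c833f743f7310d184d03c01730058830470a000) (.leaf 0))) (.node (.node (.leaf 0x7424c8c00011123056d2d54066604575164c13c77428768a55a) (.leaf 0)) (.node (.leaf 0x18c521b100012a3643093b550c3604b35a1c408753c03f113124) (.leaf 0)))))) (.node (.node (.node (.node (.node (.leaf 0x36483d1d000101860541054016260515d65654cf23c1a0113786) (.leaf 0x28a1053e0001308648974f3c10d304307676b22d76f6192c712d)) (.node (.leaf 0x3e062e3d00001529306834c7186104d4806a823700c7b658655a) (.leaf 0))) (.node (.node (.leaf 0x14c8168a00000ad51f5f1f5e0a9505122f4df0cd45f60e02532d) (.leaf 0x2b0f374d00014caa53e045e5124105f54c66b45a5f03d5025586)) (.node (.leaf 0x4948199c00002144314244c81c4405127c56d0fd5b31b15be7b2) (.leaf 0)))) (.node (.node (.node (.leaf 0x1e6129c80001060c01c412e30e270434214964fb73c2021497d9) (.leaf 0x3a88336700003b223bfe501d16d10514f63184574db23632d734)) (.node (.leaf 0xb94142300011af82ca83d8006f28491f823b5df12e7f970b55a) (.leaf 0))) (.node (.node (.leaf 0x23f224ac00010fd72ab60f960ef68453a14e32a03c46131137bd)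 (.leaf 0)) (.node (.leaf 0x327b3a77000028524aae199514678575945890f440640d7865be) (.leaf 0))))) (.node (.node (.node (.node (.leaf 0x1a14108f000103c10c3b0c3a0c8184919f77b1b91e15626de2c7) (.leaf 0xd6034f60001357b2a550efa086704151c1a52846110b21245be)) (.node (.leaf 0x278431f600011807394236d010b20494d13b530042b4d9049586) (.leaf 0))) (.node (.node (.leaf 0x27c80fce00010d4910d81e8310b605118f73b7083eb55c7b2000) (.leaf 0)) (.node (.leaf 0x4e48031f000124ab0d0e20601e240510467846b777e56e6217b2) (.leaf 0)))) (.node (.node (.node (.leaf 0x2de91acb000008681958195712b705329b6b96362490bf124546) (.leaf 0x3e2703550000422253594ca4186204f04f2de6cf3a50a9546537)) (.node (.leaf 0x27bd218f00001e0440f1415710b385b3558091e359d27a180546) (.leaf 0))) (.node (.node (.leaf 0x35c4f38000112802fe62fe504a685979741e24846d21868a786) (.leaf 0)) (.node (.leaf 0x36a01d600002c461a564d1904a705502b2c97441af416734621) (.leaf 0))))))) (.node (.node (.node (.node (.node (.node (.leaf 0xdf918d2000100f903730372087785326c15e25f0650bf1245be) (.leaf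 0x506c19d500012f664eb23dc71e660592851c40ec0f203f113025)) (.node (.leaf 0x20f443040001147c339523d70e9684966120d6986035cb28f70a) (.leaf 0))) (.node (.node (.leaf 0x15cd10cd00000a361d721de90ab405b1a66085504d14d97d968a) (.leaf 0x19704aaf0001492e266953c10c4784172379321372d4206de7d9)) (.node (.leaf 0x4296096e0000205f43fb43fa1a3284d0e47a73534ab6b812d214) (.leaf 0)))) (.node (.node (.node (.leaf 0xa833cca000105770197114006d20475d06a07bc4f734a2ab149) (.leaf 0x311044b8000039ab520c463c14418416885113b67194fa6de734)) (.node (.leaf 0x38172a3c00011a381ed63c7d166184f42c4db07e3a57042cb537) (.leaf 0))) (.node (.node (.leaf 0x261124c100000f2d100a295910618433a311c5c626c0bf262156) (.leaf 0)) (.node (.leaf 0x4a512da800002767217849fd1c6584347246e0120ca073295025) (.leaf 0))))) (.node (.node (.node (.node (.leaf 0x105429220000032f0a830a8208c584940e1d30a336230270a786) (.leaf 0x101b0d050001343c498d143908c185713b45b0c34a475b2c7786)) (.node (.leaf 0x13c453b50001174907a638290a7604980331f7720fe0cb7b2537) (.leaf 0))) (.node (.node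 (.leaf 0x947088700000cad23d21fd906a604f0d13c52c233f13768a786) (.leaf 0)) (.node (.leaf 0x1a854403000023c42148472b0c9104b67b28a50c55405d6de70a) (.leaf 0)))) (.node (.node (.node (.leaf 0x30144a70000007d117bd17bc14228497200526927d029c335786) (.leaf 0x1a1648c70000404b3b932e100c8184d6f345f67831046355a70a)) (.node (.leaf 0x4f7e3a8000001d3e406a26251e4685d59500d7880e04a324d41d) (.leaf 0))) (.node (.node (.leaf 0x1ad44bfe000011d02ea82ea70c958497426df2800d969c48670a) (.leaf 0)) (.node (.leaf 0x2b9525bc00012b3b4c8a457f125184b3b9743330041179025000) (.leaf 0)))))) (.node (.node (.node (.node (.node (.leaf 0x1c59354e00010212070b070a0cc48535246842a445e61d2ab15f) (.leaf 0x345123f1000131b349c94fb414c48433914b957322b2262ab68a)) (.node (.leaf 0x9f91937000015e135f035ef06b785327437e05b21d75021470b) (.leaf 0))) (.node (.node (.leaf 0x446030da00010b7320e220e11a670414bb62a2840707ae5865be) (.leaf 0x482f5339000051b14d8e53d11c2305f7f55b90896f7347786049)) (.node (.leaf 0x521536a60000220e296645911ea184b53e4a40f9023783214180)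 (.leaf 0)))) (.node (.node (.node (.leaf 0x66288a4120000106a21486134510d10556340173004683d970a586) (.leaf 0x7a6059300013cad2ba843c9067504d08433d68d1b604b149486)) (.node (.leaf 0x6f613a500001bb33ae9364c065784d1ed37d3e449a66e486335) (.leaf 0))) (.node (.node (.leaf 0x22342fb90000107b26452c100ec28494a029d6dd69d6ba2ab180) (.leaf 0)) (.node (.leaf 0x53d22fc40000293e2c8447a31ed48454a418c14a2db74c2ab7b2) (.leaf 0))))) (.node (.node (.node (.node (.leaf 0x49121c52000104500de90de81c418452c30f85a213f664537124) (.leaf 0x412b18ff000136c94d56443b18e305726f5e13ee20f1185865fc)) (.node (.leaf 0x4abc25e5000018c20e9708811c728593be33a29f6e8543333025) (.leaf 0))) (.node (.node (.leaf 0x848299800010deb269d269c068605141b3df4903857f824d428) (.leaf 0)) (.node (.leaf 0x1cc23ff80000259416a93e400cd404561761114b32f3b82ab15f) (.leaf 0)))) (.node (.node (.node (.leaf 0x340e3363000009011adf1ade14c105d4f61b651512839032d214) (.leaf 0x422e48380001442340b9367b1a2305d6e55793f131147c000335)) (.node (.leaf 0x111b22bd00001ed12afd33b708e18573707653d039c5ff18055a)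 (.leaf 0))) (.node (.node (.leaf 0x537d2a5500001329246731241ec585b42f47231965246c428262) (.leaf 0)) (.node (.leaf 0x50c0062800012d394da037ab1e750410924852a03ec073295025) (.leaf 0)))))))))

/-- part of a table -/
def entries91 : Trie := (.node (.node (.node (.node (.node (.node (.node (.node (.leaf 0x44e347ac0001002e00b100b01a770476d96d111d50047c0005be) (.leaf 0x96a40fb00002dc74de3433c06a705563149d77c3d432a21470b)) (.node (.leaf 0x52762d620001137f119231d51ea684d46e0eb72411f095113124) (.leaf 0))) (.node (.node (.leaf 0x46220dc9000009501ba91ba81aa20451555bb7253f90a912d214) (.leaf 0x1aac45f200004562527437390c920596ab1da27d5a84765fc70a)) (.node (.leaf 0x3e2a171d00011f3642b719de186205523d71d22231865c546486) (.leaf 0)))) (.node (.node (.node (.leaf 0x30fc05470000049a0a390ec6143785907760567549f08a14970b) (.leaf 0x334d37eb0001379b16f121b8148605b5584ff2ef6df37924d32d)) (.node (.leaf 0x48ad1b030000191f308c3a931c3305b2a527e2b07ba79c7867d9) (.leaf 0))) (.node (.node (.leaf 0x16a24b9d00000e3b0ee627560ad304573b6462a62542d970a621)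 (.leaf 0)) (.node (.leaf 0xdd14ffd0000260a48e432b308768437a96d43987de30b15f486) (.leaf 0))))) (.node (.node (.node (.node (.leaf 0xe6e08780001025b07ed07ec088705d0ce5237483bb35f7bd2ab) (.leaf 0x2fe621da000132514fef1dff12f604d35c6c15dc72973a15f518)) (.node (.leaf 0x2e8918e3000116392c541ecf12d105326d2155f86313022c7586) (.leaf 0))) (.node (.node (.leaf 0x4b5a1bd900010bc221ab21aa1c858552ba4bf2110d641855a2c7) (.leaf 0)) (.node (.leaf 0x3c8d314c0001227c45f745f6183205b4c26ea0644d33e612d734) (.leaf 0)))) (.node (.node (.node (.leaf 0x3b260584000006ec1553155216e304d0802c17ef00d32a2145be) (.leaf 0x3c801e700003d964e180ae504b605102c5490066ca218113786)) (.node (.leaf 0x14a0387900001c182a913ef00a930415674dc78524f63c02518b) (.leaf 0))) (.node (.node (.leaf 0x3c51326e000010d32b792cab18248434dd6575fa5ec02712d68a) (.leaf 0)) (.node (.leaf 0x9982bf4000129bc4b9f4aca06b28514512320c30944da3352cb) (.leaf 0)))))) (.node (.node (.node (.node (.node (.leaf 0x53183e3600010140045b01e81ec28515ec4b96dd16f2262ab41d) (.leaf 0x246a027400012fed12842ab1102705503646922d2db78b41d546))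 (.node (.leaf 0xfcf3468000114d50714343008b405f50e57a50121d4b17d9113) (.leaf 0))) (.node (.node (.leaf 0x17a24cee00000a861e9f1e9e0af304575e7951072534de2625be) (.leaf 0x32f8009500004ae24f4a4764147785100c2965210fb2837865be)) (.node (.leaf 0x10f84f1c000120d63e9e3cfa08d78517957011e26341452c7621) (.leaf 0)))) (.node (.node (.node (.leaf 0x363a52b5000105c31217121616238557ea0d51e22fd60073470b) (.leaf 0x4e1d081b00013a6318c5235a1e2285b0bd5de4104ed7f9621262)) (.node (.leaf 0x84085500001a993b6b2ba404540490c72c355077d4765fc68a) (.leaf 0))) (.node (.node (.leaf 0x847485400000f852a0a2a09068604f6e72d10055954a328f428) (.leaf 0)) (.node (.leaf 0x119c0d04000127d74a564a5508f185913b3f04957c62f31806de) (.leaf 0))))) (.node (.node (.node (.node (.leaf 0x4e3a09b7000003790ae80b621e238550e94db1856bc2472cb7d9) (.leaf 0x2494096f000034d141d150ba10328490e47fb33462c7407d9586)) (.node (.leaf 0x4e5d44ab000017ac38af38ae1e2485b68754b16c60823f6217b2) (.leaf 0))) (.node (.node (.leaf 0x448a189c00010cfc248411721a710552646703ea38e3bd0006de)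 (.leaf 0)) (.node (.leaf 0x11553998000024423f191e3d08e484b57f3944b83a94d97d924d) (.leaf 0)))) (.node (.node (.node (.leaf 0x712565512c0001081d09d11594104704b7c658d39e35972e025546) (.leaf 0x3b532d6000004131412c3ab216e484746e00238256d4a833524d)) (.node (.leaf 0x115e01e500001da138f402e308e485d02c3b27052e234d04928f) (.leaf 0))) (.node (.node (.leaf 0x330832c10000122a18f72f4714820514e608d15a7875b25be428) (.leaf 0)) (.node (.leaf 0x22671bce00002bc1243b2b6b0ec704f2b95634fb73c05932d7d9) (.leaf 0))))))) (.node (.node (.node (.node (.node (.node (.leaf 0x20fa1f30000000b7028c028b0e968553150222410dc0d824d70a) (.leaf 0x26e7309b00002edd25cb479a107604f4b644f3270f12d815f156)) (.node (.leaf 0x1e4f225c00011428068132f20e2605f36864c1916dc4e168a262) (.leaf 0))) (.node (.node (.leaf 0x1f4329c1000009ea09831d290e460474210682da8057d628f41d) (.leaf 0x48353c87000147c4507736211c2384b5ca2c629e5672832cb049)) (.node (.leaf 0x33223855000120040b17439814830455652997487c222748618b) (.leaf 0)))) (.node (.node (.node (.leaf 0x2136255a0000052e106d106c0ea284d3ae52731b01b64d70b124)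 (.leaf 0x3d87391c000038fc406451e0185104f57570c00648e7e9518786)) (.node (.leaf 0x23cf3938000119db2ad11c6e0ef505f5784363d31400b0214025) (.leaf 0))) (.node (.node (.leaf 0x44c6381500010edc28b0085d1a7404d55e45e3567706b812d24d) (.leaf 0)) (.node (.leaf 0x50d444c0000126ef1db833791e7584968c0631cb65908a1497bd) (.leaf 0))))) (.node (.node (.node (.node (.leaf 0x23053ecd000102e909aa09a90ee104b5f972229f0dc2d7149025) (.leaf 0x32b20da00001338e505515ba14728451520283ea39322c70b6de)) (.node (.leaf 0x3a033730000016f3379f379e16c104754b0694573f939032d214) (.leaf 0))) (.node (.node (.leaf 0x1710259100010c5f232a23290ae18413b53077e80f841441d55a) (.leaf 0)) (.node (.leaf 0x3004fe90000235d22ab46c404a20417a86387fa1034da3332cb) (.leaf 0)))) (.node (.node (.node (.leaf 0x80707730001078616f416f3068204f0ae0c62ef27c6c55fc428) (.leaf 0x3b5d20ce00013f5550a5254816e485b33d73d52532470d33324d)) (.node (.leaf 0x1cc838f400011ce031b03ffa0cd40515701526b76f645018b7b2) (.leaf 0))) (.node (.node (.leaf 0x61327a0000117c2e01154304470434df56117222b538537333)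 (.leaf 0)) (.node (.leaf 0x20e6378700002aaf4c4226be0e9604d55126b27d1f24ea28f2c7) (.leaf 0)))))) (.node (.node (.node (.node (.node (.leaf 0x4b552844000101cc007e06271c8584b3f930643f1354646de2c7) (.leaf 0x4c6451c0000131104f7d11a71ca60497d00802e13d218a113262)) (.node (.leaf 0x246739a400011581161d1e28102704f5822206f97f130841d12d) (.leaf 0))) (.node (.node (.leaf 0x250019300000b2419112022048684102420f0055957f828f428) (.leaf 0x3681391700004e8a3dd13be5163204357553e7fa24a04a3332cb)) (.node (.leaf 0x3d371e4a000021ad452c452b184384f2f74d72a61d67db51870b) (.leaf 0)))) (.node (.node (.node (.leaf 0x20ee42da0001065613b813b70e9605d65d6141b44d70cf28f2c7) (.leaf 0x2761ed900013bf037f45286048784d30720050f02e2a75372ab)) (.node (.leaf 0x1186466000011b523df93df808f104d6bb02a0d06c01321806de) (.leaf 0))) (.node (.node (.leaf 0x5137227f0001102a2b672b661e8284f36c7ec2117460135be70a) (.leaf 0)) (.node (.leaf 0x44ee14a4000128ca4b01497b1a7705d2012d607c0a41180005fc) (.leaf 0))))) (.node (.node (.node (.node (.leaf 0x406431bd000104080d110d1018a70494cb61716e7847b5000335)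 (.leaf 0x15720bcc0000361344ad34f70aa684511b5e33b34d35a77b2734)) (.node (.leaf 0xaf30d2c00011860080b39cc06d584713f74911e46e059428734) (.leaf 0))) (.node (.node (.leaf 0x35690d9f00010d9e25f125f014e60531516fd59c20040a11355a) (.leaf 0)) (.node (.leaf 0x1aa41e1e000125250d4148330c920492ee7f31b455403b5fc70a) (.leaf 0)))) (.node (.node (.node (.leaf 0x2b521643000008b409411a1d12458452290f33300ad3b0025000) (.leaf 0x2cf0309300004325521e313912768414b61090f57d830b15f518)) (.node (.leaf 0x11350b0100001e70135741d008e384b1090d35e23570bf2625be) (.leaf 0))) (.node (.node (.leaf 0x1c50ba5000112d82cfe1419047604b1175490d047221811355a) (.leaf 0)) (.node (.leaf 0x4c4e222e00012cc64d614d601ca405d3645ec0fd5b34b53357b2) (.leaf 0)))))))) (.node (.node (.node (.node (.node (.node (.node (.leaf 0x44362a3800010072001d01a01a6284d42c37a07e2251be12d537) (.leaf 0x36631a1d00012e514e2e43ad162704728a6323763d454529570b)) (.node (.leaf 0x1e7629ce000013d5326332620e2784d42162e0c871226a149049) (.leaf 0))) (.node (.node (.leaf 0x2c77443c0001099e1c6b1c6a126684f67f6303410ca18e7b2518)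 (.leaf 0x41433217000046954ce83e0f18e40474d33a26665751e454628f)) (.node (.leaf 0x631243c00011f9e0aee432606458433965f53535c242055a214) (.leaf 0)))) (.node (.node (.node (.leaf 0xe20852000104e60f9c0f9b04570450c71b07646832a7486333) (.leaf 0x1c20a160000384e51bc37bd04760450f21d679b0fe28768a55a)) (.node (.leaf 0x132e22e70000197a3b6f13b80a6505d3734006a36c741741d6de) (.leaf 0))) (.node (.node (.leaf 0x206d51bc00010e89161927fd0e8605b7cf61f2a24b27f824d2c7) (.leaf 0)) (.node (.leaf 0x27b23c6e0000268326f1494310b38455c57f622d2e041741d546) (.leaf 0))))) (.node (.node (.node (.node (.leaf 0x27a53e6000002a208c808c704878558083f62790af22753718b) (.leaf 0x4b9d40b0000032f150200dc21c9185b62b12e69876969c48670a)) (.node (.leaf 0x39e08ea0000169c1c0c234d04b285d0d760457123c7fe335786) (.leaf 0))) (.node (.node (.leaf 0x224a438000000c0f226522640ec40556701126b75cc34a18b15f) (.leaf 0)) (.node (.leaf 0x475a20cd000122ea231420161ae485533d6f65253a91be12d24d) (.leaf 0)))) (.node (.node (.node (.leaf 0x61933350001073b1627162606448534f12766624894765fc68a)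 (.leaf 0x1b950d5400003e674e380e260cb184b14336d1823a143d78641d)) (.node (.leaf 0xd2f501f00011c843f751107086505f7ab7f63ea2f65bc41d55a) (.leaf 0))) (.node (.node (.leaf 0x2aaa1522000011242d2d00ea123305520c07b75906067726212d) (.leaf 0)) (.node (.leaf 0x463c14f600002a3714e44bf81aa285920932f5154cb027546734) (.leaf 0)))))) (.node (.node (.node (.node (.node (.leaf 0x3c1a081d000001870543054218228550bd6ab4570440a9546214) (.leaf 0x135906cd000130874e424f3d0a668530a160c47f1c634415f537)) (.node (.leaf 0x4d2812c100011529189c34c81cc30511d619b0c80321ee428049) (.leaf 0))) (.node (.node (.leaf 0x2b9201f100000ad61f611f60125184502d06130c7bb35f7bd000) (.leaf 0x217740ac00014cac44a93b5d0ea784f62a4db1857127042cb049)) (.node (.leaf 0x1d2e49e4000121441dc444c90ce205d7121ba2a07524b5335025) (.leaf 0)))) (.node (.node (.node (.leaf 0x388b29740000060d12e512e416710574190b13a847225a786537) (.leaf 0x2dd1321d00013b223817116c12b68434d35c16fa4aa3c115f586)) (.node (.leaf 0x45b643c400011af90909388c1a9384d6742cc79804520e15618b) (.leaf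 0))) (.node (.node (.leaf 0x15ed01c700000fd82ab72a290ab605b02a3324eb5693867b2214) (.leaf 0)) (.node (.leaf 0x152e070b0001285246c73ab60aa305d0a640076453441741d335) (.leaf 0))))) (.node (.node (.node (.node (.leaf 0xe4a26f2000003c20c3d0c3c08850553d81ce76e2303b07bd32d) (.leaf 0x40f6034c0000357c435550f718b784d04e6dc0b42087b6586333)) (.node (.leaf 0x43c22fe300011808394439431a550454a72d50c34ae47a156786) (.leaf 0))) (.node (.node (.leaf 0x4ff3261700000d4a253825371e568473c25361043784a324d41d) (.leaf 0)) (.node (.leaf 0x1ffb0eae000124ac11e2202c0e5785716968e2b025b4cc55a7d9) (.leaf 0)))) (.node (.node (.node (.leaf 0x20de162e00010868028119590e9585d2246712804d771c4862c7) (.leaf 0x13a52d0f0001422335684e320a7504b46762c3ea7e127a41d6de)) (.node (.leaf 0x51521e5c00011e04415941581e858452fb5d219c7434cc6de2c7) (.leaf 0))) (.node (.node (.leaf 0x2bef0a4c000112812fe70a50125705f0f87466362496b47bd546) (.leaf 0)) (.node (.leaf 0x3c6613fd00012c46143d245b182504d1f46a862d38f7b7586149) (.leaf 0))))))) (.node (.node (.node (.node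 (.node (.node (.leaf 0x406e4bc6000000fa0375037418a705d73e5241722097e2586333) (.leaf 0x1b02582391d00012f6718724eb3105104557572914139a3d5025586)) (.node (.leaf 0x9cd01430000147d3397339606b605b01c12169249603f113786) (.leaf 0))) (.node (.node (.leaf 0x346d39f100000a371deb1dea14c705b5891900b436c43b428335) (.leaf 0x2e1102b70001493d4cc64ec112c184303c51c31209830270a586)) (.node (.leaf 0x4660043b0000206016e034b01aa704106232c5a32667b5586335) (.leaf 0)))) (.node (.node (.node (.leaf 0x498512e1000005780b6e11411c5104b1d80716a93cf6be537124) (.leaf 0x413643cd000139ac46e9244018e384d6745d83280687b65865fc)) (.node (.leaf 0x5398140400011a393c7f3c7e1ed28511f531c2f23d86ba18b180) (.leaf 0))) (.node (.node (.leaf 0x392a07b300010f2d295b295a16830550b61976b361b71c53718b) (.leaf 0)) (.node (.leaf 0x45bb362b0000276849fe23fd1a938575346a178535767e1562ab) (.leaf 0))))) (.node (.node (.node (.node (.leaf 0x4f6b4e970001032f0a850a841e4605778743218374a6d028f41d) (.leaf 0x4f54512a0001343e509249311e448497c64c11203591775fc7b2)) (.node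 (.leaf 0x2f3226250001174a1236382a12e28453c344710c1ed4b17d9156) (.leaf 0))) (.node (.node (.leaf 0x4ee841c100010cad23d423d31e350516432dd7883e743d2cb41d) (.leaf 0)) (.node (.leaf 0x27e00ab0000023c732b012a610b704110211c0c419d1ec26212d) (.leaf 0)))) (.node (.node (.node (.leaf 0x2c342ff000007d217bf17be049604766058a22871e1e828f428) (.leaf 0x3c7068f0001404c533316b604b604f09a7e741228913768a786)) (.node (.leaf 0x58c2c6300011d3e1d653fe004f205945909613c68623f62155a) (.leaf 0))) (.node (.node (.leaf 0x4459425d000111d005aa2ea91a6485364e7794b83be3f454628f) (.leaf 0)) (.node (.leaf 0x890259500012b3d172c245806928413b54bc7545e71775be32d) (.leaf 0)))))) (.node (.node (.node (.node (.node (.leaf 0x2e15484a00000213070d070c12c184b6e63c67571636d870a000) (.leaf 0x238a2329000131b4137015650ef105537a42f69a36304b1497bd)) (.node (.leaf 0x3cf515b2000115e1072235f1183584b21a26003e2bc7c4000295) (.leaf 0))) (.node (.node (.leaf 0x127608de00000b741eb320e30a2784d0d67e30b44f65bc180333) (.leaf 0x427539ad000051b7518353fb1a2584b5825b035831d13e586149))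 (.node (.leaf 0x41e912ac0001220e45871a2c18f50531d46163d04ee4010006de) (.leaf 0)))) (.node (.node (.node (.leaf 0x5750187000006a31488148704e584b0232a17395f52e72cb537) (.leaf 0x4b51201e00003cae4f5252a71c8584332977b1b942a05d6de70a)) (.node (.leaf 0x3c9a084200011bb33e723e7118328550c636701d4e00a9546214) (.leaf 0))) (.node (.node (.leaf 0x1c615780001107b05342c11047604d2153c57a45a15c368a6de) (.leaf 0)) (.node (.leaf 0x1df43fea0001293e106e311c0cf684961654e2f43ac21868a025) (.leaf 0))))) (.node (.node (.node (.node (.leaf 0x7454d03000004510deb0dea066604b7600fc5df31818a11355a) (.leaf 0x246f286d000136cc4981515f102705f3fe6c265513b5bc41d12d)) (.node (.leaf 0x3b3730c2000118c225a73a5f16e384f4ba0d507c41a6007345fc) (.leaf 0))) (.node (.node (.leaf 0x3dec311b00000dec269f269e18570594bf7237661f179f15670b) (.leaf 0)) (.node (.leaf 0x4a7c0aa00001259429c00d5d1c6685910101469a8030c568a7bd) (.leaf 0)))) (.node (.node (.node (.leaf 0x7a27463214000109011ae0155310a604d4d330914102c5a715f000) (.leaf 0x509a0ed30001442733ab4bd81e7185516d23c2575104167347bd))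 (.node (.leaf 0x1f6c345a00011ed1424642450e4705950d3c209d5ee4a66de049) (.leaf 0))) (.node (.node (.leaf 0x11e95224000113293126312508f60537da1397114e73447b2537) (.leaf 0)) (.node (.leaf 0x342d026600002d3a3505255c14c205b03549965116758f2ab295) (.leaf 0)))))))))

/-- part of a table -/
def entries92 : Trie := (.node (.node (.node (.node (.node (.node (.node (.node (.leaf 0x4b0a14c90000002f00b300b21c8105520543e2111356644862c7) (.leaf 0x42e72b6700012dc71c851b571a3504f4463153ce5b8147000295)) (.node (.leaf 0x44112a3d0000138031d731d61a6184342c5b023700c7ae58655a) (.leaf 0))) (.node (.node (.leaf 0x11be4d9d000009511bab1baa08f385d76f6417ac26b2df2625be) (.leaf 0x16cd01c40001456345e6533e0ad505b02a1812486053022c7786)) (.node (.leaf 0x1d7e38fc00001f373fee42b80ce685d5704e32a01695c3113025) (.leaf 0)))) (.node (.node (.node (.leaf 0x3e833a6f0000049b0ec80ec718710475937cc79b1907e258655a) (.leaf 0x34b236f20001379c442a519114d284554418c7d22a174c2ab295)) (.node (.leaf 0xa6852e9000019203ae225b806c50517ee3934eb62e236428734)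 (.leaf 0))) (.node (.node (.leaf 0x6d13a2500010e3b275722be065684358d25308b04037928f149) (.leaf 0)) (.node (.leaf 0x400116fd0001260b3bd6359418a104323b69d7d2645164000149) (.leaf 0))))) (.node (.node (.node (.node (.leaf 0x4ad814aa0000025c07ef07ee1c7585120146d3fb1e92031497bd) (.leaf 0x1b613fe6000032534ff04f250ca70436163911f730343d2cb049)) (.node (.leaf 0x8432e050000163a25613677068604747b2d315a4137d628f32d) (.leaf 0))) (.node (.node (.leaf 0x3609020800000bc321ad21ac162205302e56a2c233d70d335786) (.leaf 0)) (.node (.leaf 0x4327260f0001227d3d3445f81a4304f3c075276642720e156621) (.leaf 0)))) (.node (.node (.node (.leaf 0x46eb0463000106ec155515541ab705706615316e096147000335) (.leaf 0x487603aa00013d9633b935d11c2584d05458907222f03478641d)) (.node (.leaf 0x693176800011c18351f3ef106548472466695fa36c0135fc113) (.leaf 0))) (.node (.node (.leaf 0x16041f49000110d32cad2cac0ac104931651052a10211170a2cb) (.leaf 0)) (.node (.leaf 0x44a328c7000029bd4ba00e821a7204740630373919080412d537) (.leaf 0)))))) (.node (.node (.node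 (.node (.node (.leaf 0x1ba43c9300000141045d045c0cb20495cc36c26e5b06b5621124) (.leaf 0x19094f6500012fee4ef319c90c4405379d32407f37a4765be7b2)) (.node (.leaf 0x50111dc3000014d634311f291e618432e51b51ca6465b42147bd) (.leaf 0))) (.node (.node (.leaf 0x2ee41c0900000a871ea11ea012d70492bd4393654886192c712d) (.leaf 0x17cb014000004ae740e651da0af405701c0566ef0af6ed04928f)) (.node (.leaf 0x1b7420e9000020d740ad44630ca784934239714c14417d2cb049) (.leaf 0)))) (.node (.node (.node (.leaf 0x29700a57000105c401cf121810e68410fa44c0b30f338615f156) (.leaf 0x205000e4c2800013a644efd517d044405d74650b5505570135fc113)) (.node (.leaf 0x301e0b5800011a99305f3c4a142285d1103b472b29a2f93332cb) (.leaf 0))) (.node (.node (.leaf 0x4ec8239200010f852a0c2a0b1e340513880a71dc45923f70b7b2) (.leaf 0)) (.node (.leaf 0x17e26032e33000027d84a573695106104748022f32711778d262518) (.leaf 0))))) (.node (.node (.node (.node (.leaf 0x147650a60000037a0b640b630a8784d7bb4744ef02e35f0252ab) (.leaf 0x4519517d000134d150c70a091a818537cb6c42ef3f83da518428)) (.node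 (.leaf 0x1d8b45f1000117ac143338b00cf10576ab1d73fb71526a149025) (.leaf 0))) (.node (.node (.leaf 0x46ca165300000cfd248624851ab405522a1085f75de58b12d68a) (.leaf 0)) (.node (.leaf 0x17e70e2800002445479347920af604f15e51e3a87712d815f486) (.leaf 0)))) (.node (.node (.node (.leaf 0x1f10ba20000081e1894189304778431172b325f40532b7345be) (.leaf 0x2311cee000041324d52434504838432cf7b16b358a5626de2ab)) (.node (.leaf 0x436303ac00011da140e440e31a470470546f27666e67db15670b) (.leaf 0))) (.node (.node (.leaf 0x4c4611710001122a2f492f481ca404d1b50790813b21a23357b2) (.leaf 0)) (.node (.leaf 0x36031e0400002bc3349d348b16220472ed25e0060212f93332cb) (.leaf 0))))))) (.node (.node (.node (.node (.node (.node (.leaf 0x32d03813000100b7028e028d147484155e16a70540f56e62128f) (.leaf 0xe330b0300012edd11ef37e0088384710922e50f1e57777bd18b)) (.node (.leaf 0x2c8728c10000142932f31edd127104f40607b6470a1314262518) (.leaf 0))) (.node (.node (.leaf 0x38a839be000109ea02fe1d2a167205158468349547d44b70b55a) (.leaf 0x3ae521df000147c734ef449616d704b35c77416e49c0cc32d335))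 (.node (.leaf 0x1bf4e530000200543994368047585f77f24a4b359409f295486) (.leaf 0)))) (.node (.node (.node (.leaf 0x1a40a120001052e0180106e04750490f210d07e732265295486) (.leaf 0x29ba40ba000138fd51a34ee410f285562b5963274816ed049518)) (.node (.leaf 0x12e249605e9000019dc15ee0ae3103284d08d5b314103136a049000) (.leaf 0))) (.node (.node (.leaf 0x360a04b200010edd25a328b1162205506b0bb0067754b53332cb) (.leaf 0)) (.node (.leaf 0x6a353d2000026f0499e2f82065504780638d3b61674636de214) (.leaf 0))))) (.node (.node (.node (.node (.leaf 0x371b0810000002ea09ac09ab16418570bd0772d23620ff6de734) (.leaf 0x292510090000338f5056218910e204b1964881ef3fd3b1049518)) (.node (.leaf 0x2dca12dd000116f311551f4a12b60551d775f6fa3f05a715f000) (.leaf 0))) (.node (.node (.leaf 0x268e39b400000c60232c232b107105d58427437f31e38c124156) (.leaf 0)) (.node (.leaf 0x18263bb70001235d0c783c540c2504d5b523c6c32d6416734180) (.leaf 0)))) (.node (.node (.node (.leaf 0x503f29300000078716f616f51e6285f40f00209e7681233357bd) (.leaf 0x36180b5400003f5849f82b95162285111033a0062af543333786))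 (.node (.leaf 0x144257d331600001ce13ffc3ffb104785b4ee1ed6bd3bf0db025546) (.leaf 0))) (.node (.node (.leaf 0x3c0d39d30001117c2e020fed182205b58735e11e46e02712d734) (.leaf 0)) (.node (.leaf 0x2006340300002ab0365a46ea0e8104d5040a83fa79146355a70a) (.leaf 0)))))) (.node (.node (.node (.node (.node (.leaf 0x474929a4000001cd062906281ae405341c3506ef4c23e654624d) (.leaf 0x531526d400003112208248711ec284b3d44800ea69458f2ab180)) (.node (.leaf 0xdf51571000015820f66355a087784b2150ac3ee6a75c71245fc) (.leaf 0))) (.node (.node (.leaf 0x3da1404a00010b2520242023185304361f5b577c5e6178156621) (.leaf 0x2dc3179400014e8e5098251812b604724c0df6fa0d12f115f000)) (.node (.leaf 0x3a2c37d7000121ad376d452d16c205955742c08b4cb58f2ab295) (.leaf 0)))) (.node (.node (.node (.leaf 0x32ec12340000065713b9004414770591c639d5e27736287865be) (.leaf 0x3f2c18f300003bf224a3148a188305926f1c774825326815618b)) (.node (.leaf 0x395c146400001b533dfb3dfa16868591fc2127d112e3de28f32d) (.leaf 0))) (.node (.node (.leaf 0x38f3cf60000102b264f150704b205f5d41f552a4621a2333786)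 (.leaf 0)) (.node (.leaf 0x1871b0f1fb3000028cb1e95327b0ca105f3200992f2670347786180) (.leaf 0))))) (.node (.node (.node (.node (.leaf 0xa2c43ba000004090d12002906c305967367f5f40e546c428333) (.leaf 0x1e649971fea000136152a5148dc1c5184f3244ee0112452a7537124)) (.node (.leaf 0x12d7294a0000186139ce39cd0a3684f41152e6cc53d30a7b2214) (.leaf 0))) (.node (.node (.leaf 0x26f73ab200000d9f25f325f2107684f5981596d67be30a7b2156) (.leaf 0)) (.node (.leaf 0x3b08359e000125264834405016e105152b7223985482d7149486) (.leaf 0)))) (.node (.node (.node (.leaf 0x2ad4cf8000008b519b11a1e049305b75f5917987212406de2ab) (.leaf 0x40290c2c0001432738484fe018a20531266f37ff1281a412d214)) (.node (.leaf 0x66633f000011e703e2d1fa0064704d5021ae5a326671c537335) (.leaf 0))) (.node (.node (.leaf 0x2ff2174d000012d91bfb308512f68452445e36471355a77b2156) (.leaf 0)) (.node (.leaf 0x4371cda00002cc746884d6204c384f2ce6223f553517432d335) (.leaf 0)))))))) (.node (.node (.node (.node (.node (.node (.node (.leaf 0x46c9308d0000007301a201a11ab40534b44a00f74913f4546113)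 (.leaf 0x4d8f528c00002e52366d4b941cd205f7e56a00ea1306182ab41d)) (.node (.leaf 0x46992abc000013d61bf232641ab18534385513ba4db164586149) (.leaf 0))) (.node (.node (.leaf 0xc108530000099f1c6d1c6c04560430c71e535820b7fc24d295) (.leaf 0x10670cfc0001469524b952fc08c704f13a45b50825e5132c770b)) (.node (.leaf 0x3c8c025400001f9f43273ba8183205903314335336202712d734) (.leaf 0)))) (.node (.node (.node (.leaf 0x2ef7117b000004e70f9e0f9d12d784f1b54096893b21cc70a546) (.leaf 0x23bd4212000138504fe73cc10ef285b6491312a03634da3357bd)) (.node (.leaf 0x4fa125610001197a3b713b701e530433af23838476f46455a7d9) (.leaf 0))) (.node (.node (.leaf 0x95526e000000e8a0fc127fe06a684b3d70a043104440a68a2cb) (.leaf 0)) (.node (.leaf 0x515d06d00001268345a949441e8585b0a203a3fa4c746455a2c7) (.leaf 0))))) (.node (.node (.node (.node (.leaf 0x424728ea000102a208ca08c91a2404f40845e5506046b812d113) (.leaf 0x47501b34000132f150214b431ae48412aa0b871b0033f454628f)) (.node (.leaf 0x1e3922560001169c1a86370b0e258533682750f96dc5b421441d) (.leaf 0))) (.node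 (.node (.leaf 0x50e5036300010c0f148d22661e7604b0501b21cb3c64971137bd) (.leaf 0)) (.node (.leaf 0x3fce3ebf000022eb3c494660189505d5f679d5ce19720e51832d) (.leaf 0)))) (.node (.node (.node (.leaf 0x4ccd1ca60000073c1628157a1cb405b2c94844ca31629c33515f) (.leaf 0xa10142f00013e6b2f533e2106c28411f86a77b42ae51d2ab295)) (.node (.leaf 0x15410e6400001c853e1f3f760aa40431632db5014e632e7d9113) (.leaf 0))) (.node (.node (.leaf 0x51954750000111242d550f671e9184b6d207127d44369c53770a) (.leaf 0)) (.node (.leaf 0x2d2a3cb300012a3841f846bf12a30555cf4247595cd30841d12d) (.leaf 0)))))) (.node (.node (.node (.node (.node (.leaf 0x2e030c9200010187054400b112c10471310f16fa0d23042c7000) (.leaf 0x1bc3d3050fb0000308939ac3e9918438417c260336164c26815670b)) (.node (.leaf 0xab41470000152a2ba029c9045505763938951524441855a734) (.leaf 0))) (.node (.node (.leaf 0x33984f8b00010ad61f6205f014928517a04bc7544bf1775be32d) (.leaf 0x4ec93df300004cb053f152e71e340535e717e4ca7e67f970b7b2)) (.node (.leaf 0x3c9025b50000214544ca0f4818328413b93434eb52c3e612d734)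 (.leaf 0)))) (.node (.node (.node (.leaf 0x2db22cce0001060d12e712e612b38454617af3651395ff41d12d) (.leaf 0xf34187000013b2837a6127f08a38492610417646fd1d241d333)) (.node (.leaf 0xad40bbe00001afa3d823d8106d484911963e5d36a25b718b113) (.leaf 0))) (.node (.node (.leaf 0x3b9a2cb500000fd923f918d216f18554602af222702154295486) (.leaf 0)) (.node (.leaf 0x35107a90000285312c0441604a68430b55e57fa04c49768a2cb) (.leaf 0))))) (.node (.node (.node (.node (.leaf 0x49441556000103c20c3e08931c440492103b96b706c4045be15f) (.leaf 0x100b513b0001357d2acf50f808c10577c769005f74e75b2c7786)) (.node (.leaf 0x2a2e3a0a0001180907ec3945122305d58a588689159314124546) (.leaf 0))) (.node (.node (.leaf 0x5913bc500010d4a2539073104f28435b615523727c23f62155a) (.leaf 0)) (.node (.leaf 0x45ee1442000024ad166c0e3f1a9705d1fa2d57982e211a15618b) (.leaf 0)))) (.node (.node (.node (.leaf 0x2d491a0700000869195b195a12a60532892b145a5f03c17b2586) (.leaf 0x21f25483a88000042262c43536410450515954e97080e0714025000)) (.node (.leaf 0x3dca33ad00001e0528f0415a18550554fc70c0061ac11a5182cb)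 (.leaf 0))) (.node (.node (.leaf 0x26ec46e30000128213602fe810760596c70be75821e6e97b2518) (.leaf 0)) (.node (.leaf 0x4f3b2b9e00012c474d1b4d1a1e438574496cb0896bc5806de7d9) (.leaf 0))))))) (.node (.node (.node (.node (.node (.node (.leaf 0x46c29ea000100fa0043037604c505942437c11e5553cb428734) (.leaf 0x529e185400002f684eb443581eb185d25e1d46c307b54a734180)) (.node (.leaf 0x13f72d050000147e33981f710a7784f46716f25f7c02df1245be) (.leaf 0))) (.node (.node (.leaf 0x2d34c4100000a381ded1dec049684774a1b33997b16d024d428) (.leaf 0x56926600001493f2677462504e50533c81751660a82e72cb537)) (.node (.leaf 0xae302db0001206043fd43fc06d504704160d4eb6b1174428214) (.leaf 0)))) (.node (.node (.node (.leaf 0x411938ec000105781142107418e285356f67b1cf6cb29112d486) (.leaf 0x1c0220f9000139ae48f11df80cc10453435a131b10a62632d262)) (.node (.leaf 0x21a524f000001a3a3c813c800eb204b3a70386ae51b09770b262) (.leaf 0))) (.node (.node (.leaf 0xc0317b00010f2e295d295c04560414c65990190993de24d295) (.leaf 0)) (.node (.leaf 0x34d1043a000127683f6d49ff14d484306231c5fa2666ba18b68a)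 (.leaf 0))))) (.node (.node (.node (.node (.leaf 0x1e5f1f00000003300a870a860e2685f31022341071a137113124) (.leaf 0x1800ba60000343f3d315093047404111756a6ef40570d33524d)) (.node (.leaf 0x47651a730000174c382c382b1ae504b29310a6a36797b558655a) (.leaf 0))) (.node (.node (.leaf 0x193b0d3400000cae23d5130f0c4585714019719166164f537124) (.leaf 0)) (.node (.leaf 0x4cc03dcd000123c8472c0be51cb40415e47760fd45504a3357b2) (.leaf 0)))) (.node (.node (.node (.leaf 0x485d4451000107d212ed17c01c2485b6821fe2a473107570b7b2) (.leaf 0xec013bf0001404d28cb3cb608950411f07df3995d25067bd32d)) (.node (.leaf 0xf373c3100001d3f2b6a3aed08a384f5c102a4250e1132180335) (.leaf 0))) (.node (.node (.leaf 0x4aa4b2c000011d12eab2eaa04d30557306965f40e5390428333) (.leaf 0)) (.node (.leaf 0x4c6e178800012b3f27cc4c8b1ca605d24a53531b01c09568a124) (.leaf 0)))))) (.node (.node (.node (.node (.node (.leaf 0x33cf3ebd00010213070f070e149605f5f66e55ce2007d628f32d) (.leaf 0x94b2d2f000031b54fb50f0706a60574697e74121c95c368a2cb)) (.node (.leaf 0x9393b06000015e2358735f206a385359f24c5ea5cf2d7295621)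 (.leaf 0))) (.node (.node (.leaf 0x318c478500010b74139820e414510596d54dd3b34d34fa6de734) (.leaf 0x34a00d4e000051bf53d943a714d20411427a63ce20b6ba18b295)) (.node (.leaf 0x2cd61f560000220f42bb4323127584d3184245ab15b77a41d518) (.leaf 0)))) (.node (.node (.node (.leaf 0x2a6c331a000106a3148a148912270594ee39a68979937b18012d) (.leaf 0x26e208b400003caf4ccd510010760450d41c51ef51018e15f518)) (.node (.leaf 0x2e16459c00001bb53e743e7312c184d6a26106fa7ce5132c7586) (.leaf 0))) (.node (.node (.leaf 0x16992bf30000107c2c132c120ad18534512150c32c172c2c72cb) (.leaf 0)) (.node (.leaf 0x42e60f0f0000293f2e5909ed1a3504d1717cf3d65f63bd000295) (.leaf 0))))) (.node (.node (.node (.node (.leaf 0x4eaa1524000104510ded0dec1e3305520c1920835c125a786049) (.leaf 0x4b0d3020000136cd23da36791c8105b4ac06d2a27df0ba5372c7)) (.node (.leaf 0x32c44dd5000118c33a613a60147404977454455d04f23f62128f) (.leaf 0))) (.node (.node (.leaf 0x41e530d00010dec22ed26a004c285d7f17c03d61fc52018b295) (.leaf 0)) (.node (.leaf 0x124a455c00002595143c48500a2605569e73057647762315f214)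 (.leaf 0)))) (.node (.node (.node (.leaf 0x49fc3714000009021ae21ae11c568595482516c316337928f41d) (.leaf 0x69c12600000442a534530f906548591ce0185a97845b25be113)) (.node (.leaf 0x4578301a00001ed242473ab41a878514ab6eb4ef54d0475182ab) (.leaf 0))) (.node (.node (.leaf 0x16314eb50000132a31272c810ac384378c3c65ea0e15c870a621) (.leaf 0)) (.node (.leaf 0x4c632f4200012d3a4da24da11ca604749619a4d865b4e168a262) (.leaf 0)))))))))

/-- part of a table -/
def entries93 : Trie := (.node (.node (.node (.node (.node (.node (.node (.node (.leaf 0x41463f390001002f00b500b418e404d6054711fd35265c54624d) (.leaf 0x2dc81a5c00002dc94c80300c12b605129059d30c2a83c17b2586)) (.node (.leaf 0x4daf342e0001138031d815e11cd305f5077490c80326f1428049) (.leaf 0))) (.node (.node (.leaf 0x276804e80000095205ae1bac10a705106e3d16550561ec12412d) (.leaf 0x2b892c500001456746584a85125105345808c75746924b025586)) (.node (.leaf 0x42494db800001f3842ba42b91a2405377136901e21d790546113) (.leaf 0)))) (.node (.node (.node (.leaf 0x4d3d09ce0001049b01520ec91cc385b0eb7e129e5673cb428049)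 (.leaf 0x186927510001379d519244620c270533e104469745e265149049)) (.node (.leaf 0x2ac13ea500011920296c3ae312360435f52b145a2743c17b2586) (.leaf 0))) (.node (.node (.leaf 0x43d422a200000e3c1ffa05901a5584936f0b969274e268518786) (.leaf 0)) (.node (.leaf 0x3e7730dd0000260d48e538d6186784f4bb71a5e22067b65865fc) (.leaf 0))))) (.node (.node (.node (.node (.leaf 0x173d490b0001025c07f107f00ae385b6f744111d5194351245be) (.leaf 0x4d794999000032564ff10c151cc585370955226e4691ee428262)) (.node (.leaf 0x4ecc28160001163a074336781e340593f63750813bf44b70b15f) (.leaf 0))) (.node (.node (.leaf 0x52864e6900010bc321af21ae1eb104d7804627888016ad21441d) (.leaf 0)) (.node (.leaf 0x29cb39220001227e0c1a45f910f505757747e6d61aa78d124518) (.leaf 0)))) (.node (.node (.node (.leaf 0x24700c60000006ed15571556102784112e04139e44741441d12d) (.leaf 0x317f3d1000003d9a518e36a6144685f5d600d0191fc4a324d295)) (.node (.leaf 0x3cbf277b00011c1920513ef2183385f3e35241727e77e2586333) (.leaf 0))) (.node (.node (.leaf 0x38181eb0000010d42caf2cae16618513050156cf0e72e7786537)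 (.leaf 0)) (.node (.leaf 0x18f298010a0000029bf4ba1282310f10411a311b1ef5bd27a41d156) (.leaf 0)))))) (.node (.node (.node (.node (.node (.leaf 0x136265600010141045f045e046584d3c642f77274904b149486) (.leaf 0x35dd471e00002fef26732cb514f485b6ca73663772029c33324d)) (.node (.leaf 0x37e62b61000014d714bf3432165604d44605c3ce1d46d028f295) (.leaf 0))) (.node (.node (.leaf 0x43d7060d00000a881ea31ea21a5584f09050d0c32ae5811562cb) (.leaf 0x22d49001e0c00004ae82b0352561c410412ed6e401124510e537124)) (.node (.leaf 0x2c4d2146000120d720644312126505b34f55b6274f01d2180156) (.leaf 0)))) (.node (.node (.node (.leaf 0x4203011a000005c505a412191a220470184b03b60aa0a912d214) (.leaf 0x15742b700003a654d54440b046684f65933b3d060d3c71136de)) (.node (.leaf 0x470c158600001a9a3d0737591ae20592164a025d71e3f4546537) (.leaf 0))) (.node (.node (.leaf 0x4326052200010f862a0e2a0d1a4304d0742b877c5e64a1156621) (.leaf 0)) (.node (.leaf 0x1df70f84000027d93a2e4a580cf684f18831129f2d53c71137bd) (.leaf 0))))) (.node (.node (.node (.node (.leaf 0x1e9931040000037b0b660b650e348534be49f14a47170d33515f)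 (.leaf 0x12f4294b000034d4369250c80a3784941155b3f51551d2180333)) (.node (.leaf 0x379404ab000017ad38b1388e165184906a5917ff1c92406de734) (.leaf 0))) (.node (.node (.leaf 0x16df52e700010cfd24871d0a0ad585f7ee26c69229276170a2cb) (.leaf 0)) (.node (.leaf 0x89c4480000024464711479406928596851bd4376810e25be428) (.leaf 0)))) (.node (.node (.node (.leaf 0x423c017e0001081e189511c11a2385902275d66c6da026586335) (.leaf 0xab80a3800004134534e076f06d38510f657c4252c03cb32d335)) (.node (.leaf 0x417516ba00011da232f5121e18e584b23351b0d009016400055a) (.leaf 0))) (.node (.node (.leaf 0x3edc21fa0000122b24bc22f4187485936067b73377329112d24d) (.leaf 0)) (.node (.leaf 0x528c358500012bc326ec26c91eb1059529293072271783734180) (.leaf 0))))))) (.node (.node (.node (.node (.node (.node (.leaf 0x2f8e14eb000000b80290028f12f105d2083e934169e78b180518) (.leaf 0x3749537000002ede4e6f289716440537fd06a0f75090e25be113)) (.node (.leaf 0x39bc36200001142932f4211616938595340717851006be5372ab) (.leaf 0))) (.node (.node (.leaf 0x28fa2cd8000109eb1d2c1d2b10d785546243c6f96bb3d970a546)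 (.leaf 0x351e1405000047cb4fcb2b0f14e185d1f533f68d6cb154149486)) (.node (.leaf 0x2a361531000120050b63439a122384d20d07b7590a6314262546) (.leaf 0)))) (.node (.node (.node (.leaf 0x3be516b80000052f0eb4106f16f604b2332fd7e807103f1136de) (.leaf 0x227a4c16000138fe21532d150ec785574534f69765758e32d7d9)) (.node (.leaf 0x451b056c000119dc089a270b1a8185707975249028a20e15632d) (.leaf 0))) (.node (.node (.leaf 0xdec28f000000ede096728b208770594091632e95004352625be) (.leaf 0)) (.node (.leaf 0x2a9a2c0f000126f03de00814123285545277e75765b7077d9000) (.leaf 0))))) (.node (.node (.node (.node (.leaf 0x27830c99000102ea09ae09ad10b20471314a533474a7477d9586) (.leaf 0x171b015f000133935057504d0ae185701f7c52376814171806de)) (.node (.leaf 0x49713a4f000016f437a021c91c468435917e012722f37928f41d) (.leaf 0))) (.node (.node (.leaf 0x333417e800010c60232e232d148384925421a68b5a66f848618b) (.leaf 0)) (.node (.leaf 0x4a0928bc0000235e422944bd1c610534055173d342232b214025) (.leaf 0)))) (.node (.node (.node (.leaf 0x35a51e710001078716f714d414f304b2fd1221075ca6352145be)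 (.leaf 0x4c86312100013f58221315261cb104d4c00d507264160073441d)) (.node (.leaf 0x3612531000001ce22171074616228457f30022c20634a83352cb) (.leaf 0))) (.node (.node (.leaf 0x339f3e3a0000117d2e032b73149285f5ec61c22817312a5fc32d) (.leaf 0)) (.node (.leaf 0x3454538500002ab118b84c4314c484980029d5ac1255b72ab113) (.leaf 0)))))) (.node (.node (.node (.node (.node (.leaf 0x16ec2c20000101cd062b062a0ad705945411705b7005c82c7621) (.leaf 0x27231f2b000031144af4220610a30473135aa6f95c113241d546)) (.node (.leaf 0x373e116a00011582355c355b164385d1b344d7a209c2a7486333) (.leaf 0))) (.node (.node (.leaf 0x440f217900010b26202620251a6105f3545783d06c747c0006de) (.leaf 0xfa1205f00004e8f33f20cb108b304333265b3e41936fe41d335)) (.node (.leaf 0xee43999000021ae452f452e089704957f3962ea3a960e7bd2ab) (.leaf 0)))) (.node (.node (.node (.leaf 0xf38173f0001065713bb13ba08a38512437bb5a32c041441d335) (.leaf 0x19fe13dd00003bf6435740ba0c5785d1f25952137174186de7d9)) (.node (.leaf 0xf111e9900001b54103c24c208a18432ff47b3585b8435262295) (.leaf 0)))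 (.node (.node (.leaf 0x18394ed00001102b2b681a530c2585379109b30f40332b73441d) (.leaf 0)) (.node (.leaf 0xd2b1288000128cb404d173108650571d153959c05030841d6de) (.leaf 0))))) (.node (.node (.node (.node (.leaf 0x12c931670001040907200d130a360534c43ca7255f13447b2734) (.leaf 0x3a372f72000136174ff9512b16c284f49c0653ce20b74c18b295)) (.node (.leaf 0x125259f344d000118610a5a39c1105185f50b62560b79760a025000) (.leaf 0))) (.node (.node (.leaf 0x352b52a400000da01e7225f414e30577e71fc47949e6007345fc) (.leaf 0)) (.node (.leaf 0xd820f570001252747693e1408740451814a558329d7477d928f) (.leaf 0)))) (.node (.node (.node (.leaf 0xc194c25000108b51a1f093a08248537463945d32094d97d968a) (.leaf 0x18ee335e00004328538022c40c3705d4f570969745e207149049)) (.node (.leaf 0x1ae4454d00011e710a6f41d10c9604969d6db50c6c43de24d70a) (.leaf 0))) (.node (.node (.leaf 0xef62c19000112d906083086089784d4534e57853526b402518b) (.leaf 0)) (.node (.leaf 0x124208d400012cc74ba34d630a260450d612f45780030a15f214) (.leaf 0)))))))) (.node (.node (.node (.node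 (.node (.node (.node (.leaf 0x16dc1b100001007301a401a30ad58592a82150c30aa3022c7786) (.leaf 0x3575491900012e524e2f2d5514e684b6fb5e579b4af18a68a55a)) (.node (.leaf 0x26cb46e2000013d71039326510750576c701c7583b7417180518) (.leaf 0))) (.node (.node (.leaf 0x481f0b5b0001099f1c6e13ec1c2285f1104f626e469338621262) (.leaf 0x98204cf000146964855331906b204506c7cb7f23e0123335786)) (.node (.leaf 0x2814113100011f9f4328186d10c18491af1166ee74a11170a586) (.leaf 0)))) (.node (.node (.node (.leaf 0x1af13c5d000104e70fa00f9f0c968435c47c249b6f256028f2c7) (.leaf 0x312447cb000138521769499214430496db5611725c533e537335)) (.node (.leaf 0x3f341f630000197b3b733b72188384931a3ad60704215d15618b) (.leaf 0))) (.node (.node (.leaf 0x205942dc00000e8b27ff16210e8585365d6e41b93ab10e53770a) (.leaf 0)) (.node (.leaf 0x11590233000026844946494508e48530312b771b0c636b7d928f) (.leaf 0))))) (.node (.node (.node (.node (.leaf 0x278d4126000002a3061408cb10b205b6341f830044165e049586) (.leaf 0xdf11970000032f44e2544f208778432780d228e7700b21245be)) (.node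 (.leaf 0x366b23af0000169d370c0aa716270573897c11e21f115429570b) (.leaf 0))) (.node (.node (.leaf 0x4d60321c00010c10226822671cc50414d34723194aa0de428124) (.leaf 0)) (.node (.leaf 0x1c58506a000122eb44a6344d0cc48517b329d3876495b72ab15f) (.leaf 0)))) (.node (.node (.node (.leaf 0x1d5b45e40001073c162a16290ce58576a80e80125544c52147bd) (.leaf 0x1aa28f300003e6f475e458004750554092926cf6ff04b149486)) (.node (.leaf 0x13950b000001c863e010a1e04658537be0213a83602d7295486) (.leaf 0))) (.node (.node (.leaf 0x168c3a9b000011250ac42d560ad10595965057f22bc7892c7786) (.leaf 0)) (.node (.leaf 0x14234cec00012a390fad2bbf0a8304775e66b2792533b002518b) (.leaf 0)))))) (.node (.node (.node (.node (.node (.leaf 0x23211f48a900000188054605450ea185f6f06451276a80342cb41d) (.leaf 0x19f3124d0001308b259a273d0c578471c75f314c0b817f6de049)) (.node (.leaf 0x50201ada0000152b34c907e61e6204129d56a14f26c04a3357bd) (.leaf 0))) (.node (.node (.leaf 0x4bfb36c000000ad704e11f631c968575400222414e90d824d70a) (.leaf 0x2fa3366400014cb52cdc535812f204753a19d5ab541707049156))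 (.node (.leaf 0x2e193e35000121450b9c44cb12c18535ec47345a47e5c870a586) (.leaf 0)))) (.node (.node (.node (.leaf 0x17a907040000060e12e912e80af30530a613a11d7ea4a21245fc) (.leaf 0x14581c6800013b2a525a45270a858512c44837d13f863c7bd428)) (.node (.leaf 0x30de3dfb00011afa2d4c3d83143685d5e75d10062a3137113786) (.leaf 0))) (.node (.node (.leaf 0x27f205ac00010fd92ab92ab810b78450856410c449366a262546) (.leaf 0)) (.node (.leaf 0x27fc09a300002856334c20cc10b78590e81a565561e55f124546) (.leaf 0))))) (.node (.node (.node (.node (.leaf 0x1a881fb1000003c30c400c3f0c910513200546980042406de2c7) (.leaf 0x489538d00001357f1ece44f51c3284b56d14272404144b621262)) (.node (.leaf 0x4582209a0000180a394739461a9104533a4b71e079347a156428) (.leaf 0))) (.node (.node (.leaf 0x48b62f9000010d4b253b253a1c3384d49e0a214c6ce2472cb7d9) (.leaf 0)) (.node (.leaf 0x4a222e3e000024ae12eb47e51c620454807a03cc67c1233357bd) (.leaf 0)))) (.node (.node (.node (.leaf 0x14cc10cc00010869195c16c90a950591a64dc75c51163c025428) (.leaf 0x42741cbd00004227536653651a258492ca6610192bd048586149))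 (.node (.leaf 0x1c3c4a4400011e05415c415b0cc285971d1fb0724ce5742ab180) (.leaf 0))) (.node (.node (.leaf 0xe384d98000112822fea2fe9088385176f4e927926b60e0252ab) (.leaf 0)) (.node (.leaf 0x3a910e5a00002c4830a2205b16d184316255e6cc53d62f32d214) (.leaf 0))))))) (.node (.node (.node (.node (.node (.node (.leaf 0xc493c1e000000fb0378037708260535bd75e6cc0a23867b2214) (.leaf 0x7720b9d00012f69382f4eb506678451166150f45db32a7345be)) (.node (.leaf 0x2828028e0000147f339a339910c30510377601e352e30270a12d) (.leaf 0))) (.node (.node (.leaf 0x4e5c027900010a38105d076d1e248590365de14a2db7f96217b2) (.leaf 0x8bd024a0000494027061b2d069385b0324c32ea4ff5626de2ab)) (.node (.leaf 0x2f350c1e000120610b3d42cd12e284b1257a83410dd65e049156) (.leaf 0)))) (.node (.node (.node (.leaf 0x1542076e00000579114411430aa40450ad7f113478034d04968a) (.leaf 0x29740f2d000039af38fa3dd310e68491756d45036bf30b15f518)) (.node (.leaf 0x7b64d7d00011a3a24cf3c82067584d76b60616607857d295537) (.leaf 0))) (.node (.node (.leaf 0x44620a8700000f2f295e11d21a670450fe5795215e97b60005fc)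 (.leaf 0)) (.node (.leaf 0x484c3ef0000027694a001d071c240595fe0381dc7fb09770b15f) (.leaf 0))))) (.node (.node (.node (.node (.leaf 0x32853a600001033000e60a88147104b5930156cf00943d786486) (.leaf 0x303a01740001343f1d7a2542142385502246205b6da6ad214621)) (.node (.leaf 0x22e237890001174c3819382d0ed70455513a53843aa174428049) (.leaf 0))) (.node (.node (.leaf 0xc84468d00000caf1c56149808340496bf7990f753030d04968a) (.leaf 0)) (.node (.leaf 0x10bf4d90000123c9472d125f08d385f76f0ca5ea4ad2d970a621) (.leaf 0)))) (.node (.node (.node (.leaf 0x4d9d4b8a000007d317c217c11cd285b73862934c13d45018b41d) (.leaf 0x3b09528f00004051253d2ecc16e10537e57ca68d6cb265149486)) (.node (.leaf 0x6240d7e00011d3f406b2eff064504914e7935760fa4206de214) (.leaf 0))) (.node (.node (.leaf 0xc5e3612000111d12eac0154082685d5331eb7255f15a77b2734) (.leaf 0)) (.node (.leaf 0xcae435600012b4124754c8c083505d66b41b3d62ba38c124295) (.leaf 0)))))) (.node (.node (.node (.node (.node (.leaf 0x50f64dd400000214071006091e7684d77433b2a07be287113025) (.leaf 0xd0c4bef000131b71ae14fb608640597417316ef2be69b04928f))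 (.node (.leaf 0x47fe0d9b000015e335f435f31af585d1515783d04ee47c0006de) (.leaf 0))) (.node (.node (.leaf 0x362002ed00010b7520e620e5162304104268f376427186734621) (.leaf 0x35b53ea000151c3522b53f404a68578085426924964e1113786)) (.node (.leaf 0x118f3cfd000022103f8a01f708f105f5d46af0d00555ed1806de) (.leaf 0)))) (.node (.node (.node (.leaf 0x481e2a9c000006a4148c148b1c2285d4346a4191539231621262) (.leaf 0x18cd1e8600003cb047e64c470c3605b2fe31327f5b00c5113124)) (.node (.leaf 0xc6468c00001bb73e763e75045604d6bf74b3d64b44a328f295) (.leaf 0))) (.node (.node (.leaf 0xc919df13d30001107c2c14217f0c5685f1f21b334c1534ea24d180) (.leaf 0)) (.node (.leaf 0x2291226d0001293f4ac60b570ed184336957c27f7b346c32d262) (.leaf 0))))) (.node (.node (.node (.node (.leaf 0x4edf1033000004520def0dee1e3485f19920869937023162115f) (.leaf 0x1f521356000136ce4b5c3ae70e468451e124f6dd2c54ea24d180)) (.node (.leaf 0x3d9f2c89000118c408301467185185f45d3e12c21df4a1518786) (.leaf 0))) (.node (.node (.leaf 0x52ad06aa00010ded045126a11eb305b09c46e3a460c203295049)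 (.leaf 0)) (.node (.leaf 0x12434f40000259647b108ed046504951c10f07d4b608a149486) (.leaf 0)))) (.node (.node (.node (.leaf 0xb1f2bfa000109021ae41ae306e285f45149a1b82002f070b55a) (.leaf 0x41a505370000442b42e41b4a18f304b07651b07c7c27c40005be)) (.node (.leaf 0x4ca093e00011ed24249424804d40550e07371341db08e2ab68a) (.leaf 0))) (.node (.node (.leaf 0x3bf606340000132b312807a316f684d09333b3d04923c71136de) (.leaf 0)) (.node (.leaf 0x141c2cfa00012d3b11174da30a8185946644315a0ed1797bd32d) (.leaf 0)))))))))

/-- part of a table -/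
def entries94 : Trie := (.node (.node (.node (.node (.node (.node (.node (.node (.leaf 0x31d824e30000003000b700b614548513a62ed0f03a04765be68a) (.leaf 0x3a16262a00002dcb425a4ca316c184d3c359435300b6f132d214)) (.node (.leaf 0x14b2477b000013810de831d90a938456d45bd42635735f7bd2ab) (.leaf 0))) (.node (.node (.leaf 0x1a4e0136000109521bae1bad0c8505d01b16b2112cc64f48670a) (.leaf 0xeaa4cf5000045683b784eeb089305575f52d7983257180252ab)) (.node (.leaf 0x3f16357900011f393adc42bb188184d5284700055957e9518428) (.leaf 0)))) (.node (.node (.node (.leaf 0x1752db10000049c0ecb0eca046784b47308507c5935b47345be) (.leaf 0x23414cd80000379e4f714d530ee504375d31d0ec76c6357347bd)) (.node (.leaf 0x2a9e442a000019211dcd0ce5123285d67d4475f801c6ed7d9586) (.leaf 0))) (.node (.node (.leaf 0x1cb20d5000010e3c0fcb27580cd284514318c18266174c2ab41d) (.leaf 0)) (.node (.leaf 0xa244b900001260d48e748e606c304973b0095a331a1ee428333) (.leaf 0))))) (.node (.node (.node (.node (.leaf 0x3ca32b8a0000025d07f307f218330474483dc5a34614e2586333) (.leaf 0x176c40f8000132564ff22f5c0ae605963131f77217c0cb7b2537))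 (.node (.leaf 0x2b4d23ab0000163c367919e7124505b3896935f81a57147bd000) (.leaf 0))) (.node (.node (.leaf 0x1c1d2d9c00000bc421b012a00cc185b4716ff19175d43b428124) (.leaf 0)) (.node (.leaf 0x45771b300000227f45e803121a8784f2aa00450f02e5811562ab) (.leaf 0)))) (.node (.node (.node (.leaf 0x200707d3000106ed155915580e8104f0b81732f82e617f55a70a) (.leaf 0x3fff1a0f00013d9b34b7072f189785f28979d4266d520e51818b)) (.node (.leaf 0x272c06a300001c1a3ef43ef310a305909c0ab0c455327a180546) (.leaf 0))) (.node (.node (.leaf 0x38e84c37000010d52cb12cb0167705174948b32811217d2cb5fc) (.leaf 0)) (.node (.leaf 0x49701a14000129c025941d561c4684128a1f60f97aa5cb28f41d) (.leaf 0)))))) (.node (.node (.node (.node (.node (.leaf 0x3a4b3240000001420461046016c40574db0a401e77d3b818b68a) (.leaf 0x97e168200012fef31f34ef406a785d22f1511e238b4c5734621)) (.node (.leaf 0x2a8a3143000014d83434343312320554c23703120d136a049000) (.leaf 0))) (.node (.node (.leaf 0x1cb1108600010a881ea51ea40cd284319f2be34c6d151d18b180) (.leaf 0x49f5191600004aed3b4a14611c5684b2723c96c30ad56028f41d))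 (.node (.leaf 0x123b2301000020d8446544640a2585737707b148175314262149) (.leaf 0)))) (.node (.node (.node (.leaf 0x2e8a19be000105c5121b121a12d105528176875711930470a000) (.leaf 0x4624373b00003a66365c3eea1aa204954b5eb457175291546214)) (.node (.leaf 0x33de2aa000001a9b3d093d08149685d4361b33994a94ea24d32d) (.leaf 0))) (.node (.node (.leaf 0x18a43d9200000f870fe22a0f0c350495e02750f94425ae214180) (.leaf 0)) (.node (.leaf 0x387c3831000127d93ac64a59166785956304e07c62921c7865be) (.leaf 0))))) (.node (.node (.node (.node (.leaf 0x4a970c400001037b0b670a671c7184f1290942f47d86ad2147bd) (.leaf 0x25b12f96000034d54eac50c9105384349e39665512f60e7bd12d)) (.node (.leaf 0x279c3a33000117ad1d30350010b285959039435d0244d97d9586) (.leaf 0))) (.node (.node (.leaf 0xbe252fb00000cfe2489248806f50457f073e4b328a347786537) (.leaf 0)) (.node (.leaf 0x4149032800002447479505be18e405304c4f83566d517a12d24d) (.leaf 0)))) (.node (.node (.node (.leaf 0x1f391d330000081f189718960e458532d536f31b00133e537124) (.leaf 0x31794691000041372a262ebe14468536c01f63d623c71328f295))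 (.node (.leaf 0x2c4b3a7200001da33081229912650575943eb64767c5ed41d156) (.leaf 0))) (.node (.node (.leaf 0x4c240a710000122c2f4b2f4a1ca30490fc0632b06d40731497d9) (.leaf 0)) (.node (.leaf 0x5c80e1400012bc64cd645bb04f405115c3c355d58744b62124d) (.leaf 0))))))) (.node (.node (.node (.node (.node (.node (.leaf 0x39f55165000100b802920291169784b7ca5917982762406de2ab) (.leaf 0x98a213d00012ede4e714e7006b205534e5900c34ae250335786)) (.node (.leaf 0x16a5387a0000142a32f632f50ad304b5675055081605c82c7621) (.leaf 0))) (.node (.node (.leaf 0x32674945000009ec1d2e1d2d146704f6ff2ba3ee6a040d7865be) (.leaf 0x17ae4733000047d9529c4c930af305d6ce0ef2e902278d2625fc)) (.node (.leaf 0x3abc2ead00002006439b2f2f16d285948963e03e01551d18b295) (.leaf 0)))) (.node (.node (.node (.leaf 0x8e9300c000005301071107006970534aa5a580745233e48618b) (.leaf 0x1fb069a3ee200003902502a2c6906548555fd1155fa49c6b65fc113)) (.node (.leaf 0x51e7201c000119dd3c003bff1e9604f32974b49b5664ea28f2c7) (.leaf 0))) (.node (.node (.leaf 0x313650f500010ede28b428b3144384d7c22005f4535227537335)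 (.leaf 0)) (.node (.leaf 0x13dc2aed000026f1499f47ec0a7685943c78207e55255c15f486) (.leaf 0))))) (.node (.node (.node (.node (.leaf 0x117c0eec000002eb083f09af08e685916f5cd25d4c86e915f537) (.leaf 0x2dec1c4b000133942416505812b70592c174a6892880b212412d)) (.node (.leaf 0xb022417000116f4078637a106e20453943260d036f2f070b55a) (.leaf 0))) (.node (.node (.leaf 0x236b1f3700000c612330232f0ee605731526f09e3ad39268a025) (.leaf 0)) (.node (.leaf 0x22fe474e0000236022b619680ed785d6d17490c83316f1428049) (.leaf 0)))) (.node (.node (.node (.leaf 0x1a7c3daf0000078816f916f80c868595e17211b91e11ab28f2c7) (.leaf 0xdd941fb00013f59530f5300087685364644c68d10138615f486)) (.node (.leaf 0x4c8c158200011ce209ca3ffd1cb10592161227880ac186214180) (.leaf 0))) (.node (.node (.leaf 0x52500ab40001117d058d25361ea484110233a2a40d750a33315f) (.leaf 0)) (.node (.leaf 0x2b2f3a0900002ab223b21f38124305f58a5666890322e4025546) (.leaf 0)))))) (.node (.node (.node (.node (.node (.leaf 0x1b711724000001ce062d062c0ca784323e24438417079c2cb7d9) (.leaf 0x4b4d079f00013114381128761c8505b0b171e67814e42055a2c7))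 (.node (.leaf 0x1e5d45840000158307ba355d0e2685b6a10e54d828240a68a262) (.leaf 0))) (.node (.node (.leaf 0x2f19180800000b2720271bb212e18532564075ab5fd2f341d518) (.leaf 0x3f8631fb00004e90504345df189104d4d16ac4373db11a51832d)) (.node (.leaf 0x1e0a4588000021af2b5345300e240556a14d007f25b7fe33315f) (.leaf 0)))) (.node (.node (.node (.leaf 0x2a223b5b000006580396024412230455a650e2357f438c12412d) (.leaf 0x2c3724c700013bf619d64e0b126284f3a34595dc48a4f47d9518)) (.node (.leaf 0x1f2630f700011b543dfd3dfc0e4504d4bd3f626e524227537262) (.leaf 0))) (.node (.node (.leaf 0x4e77497b0001102d24b11e241e2584f7024db6dd7da2472cb41d) (.leaf 0)) (.node (.leaf 0x87e1753000128cc31884b02068785d2451994ef54d2a74862ab) (.leaf 0))))) (.node (.node (.node (.node (.leaf 0x335a32ac0000040a0d150d1414868554e428d76e1bf0cf24d32d) (.leaf 0x3a150d870000361a512c3fdc16c184b1504727ff2c60de428734)) (.node (.leaf 0x4c0a35860000186238b839cf1ca10555292a32da13d60073441d) (.leaf 0))) (.node (.node (.leaf 0x4067174c00010da025f50ab618a704f2445da17222b118586333)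 (.leaf 0)) (.node (.leaf 0x37cd054a000025293c9318c1165405b0776a65010521775fc68a) (.leaf 0)))) (.node (.node (.node (.leaf 0x3c6f439b000008b61a211a20182505f67157062d4624e2586149) (.leaf 0x452a1c3e0000432952ac37a31a830552c075274825320e15618b)) (.node (.leaf 0x7161df800001e72177341d2066484d2ec5294b81ff2f933528f) (.leaf 0))) (.node (.node (.leaf 0x154c09000012da30883087044484b7434c15fa36c5b25fc113) (.leaf 0)) (.node (.leaf 0x115d53ed00002cc943111ea908e485b8085d038256d3b17d924d) (.leaf 0)))))))) (.node (.node (.node (.node (.node (.node (.node (.leaf 0x38fa12300000007401a601a516778551c606628477825a7865fc) (.leaf 0x31d502a300002e534e300c23145484b03a1bd5ac1af0e25be113)) (.node (.leaf 0x2394d94000113d732673266048385376f30627905c4646de2ab) (.leaf 0))) (.node (.node (.leaf 0x1328521b000009a01b691c6f0a650517d86723d00e737b1806de) (.leaf 0x4edc2aff00004698343e1abc1e3485943e77d12046b07570b7b2)) (.node (.leaf 0x21081e6200001fa012fa43290ea10512fc36d18271a2e7786180) (.leaf 0)))) (.node (.node (.node (.leaf 0x43c5428d000004e80e570fa11a5504b65463f7fa2bc268518786)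 (.leaf 0x181030760000385522eb05dd0c248414b24d16994b050a33515f)) (.node (.leaf 0x3a4f49b10001197b3b740f2316c405f70e30542d20503918b113) (.leaf 0))) (.node (.node (.leaf 0x6924d6000000e8c28012800065484576902e6620960c95fc113) (.leaf 0)) (.node (.leaf 0x43641a1b0001268436d2335c1a4704928a5a837653e04751870b) (.leaf 0))))) (.node (.node (.node (.node (.leaf 0x3f514c6b000102a308cd08cc188584374e60315a3fe268156428) (.leaf 0x373a2b9a000132f41429300516438554494fc0b41c43ef486335)) (.node (.leaf 0x158e3e840001169d338c370d0ab105d5f20e30191fc66a262295) (.leaf 0))) (.node (.node (.leaf 0x25dc371300000c112269097410558595481356aa6945067bd586) (.leaf 0)) (.node (.leaf 0x4d021316000022ec22d446611cc20451db40f34c0d308e18b41d) (.leaf 0)))) (.node (.node (.node (.leaf 0x241245cf0000073d144d162b10228456a662460b672322049586) (.leaf 0x1eed4c9000003e7452e91a5f0e3705b75202109d4f82d7295049)) (.node (.leaf 0x2a20514600011c863f77213212230417c827136551f4a2262546) (.leaf 0))) (.node (.node (.leaf 0x1fdb003f000111252d582d570e568570047ea2f251b0cf24d41d)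 (.leaf 0)) (.node (.leaf 0x1ed8310d00002a3a4bbc311f0e368514be61a1916dc18a68a262) (.leaf 0)))))) (.node (.node (.node (.node (.node (.leaf 0xdab1201000101880548054708750571c302a0d019b5bc18055a) (.leaf 0x32244e000000308c485a4af614620497780381b857c07570b6de)) (.node (.leaf 0x3bab26460001152b34cb34ca16f30573c546232861b54a2145be) (.leaf 0))) (.node (.node (.leaf 0xb58198500010ad71f651f6406e485127b16a70552256e62128f) (.leaf 0x153f0a3000004cb632423f680aa385f0f603117226f77a180333)) (.node (.leaf 0x1680a050000214620cf200904670510f151728416d32b2145be) (.leaf 0)))) (.node (.node (.node (.leaf 0x52f04a900000060f0ebd12ea1eb68417220140da02c21868a262) (.leaf 0x2b660c6700013b2d45184563124704d12e429759633777025546)) (.node (.leaf 0x13a2525260300011afb3b543af8104304b3c01ed6bd2610db025546) (.leaf 0))) (.node (.node (.leaf 0x52e91a5000000fda2aba06481eb60532900802e13dd0c5113124) (.leaf 0)) (.node (.leaf 0x497d4e91000128574ab04aaf1c4685b78720f30f7f07f828f180) (.leaf 0))))) (.node (.node (.node (.node (.leaf 0xd1c1283000103c30c420c4108648591d12b771b2044d97d924d)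 (.leaf 0x4fbc1a43000135804a0f50f91e5385928d28a0c82e005d6de7d9)) (.node (.leaf 0x53dd08cc0001180a3948289a1ed485b0d55db1203bc45018b7b2) (.leaf 0))) (.node (.node (.leaf 0x3325121b00000d4c253c09b1148304b1c45616b33c933e53718b) (.leaf 0)) (.node (.leaf 0x50dd099d000124b1102d47e61e7585b0e766f1cb7c92671497bd) (.leaf 0)))) (.node (.node (.node (.leaf 0x1d5545420000086a195e195d0ce584b69d2931cb6c47837347bd) (.leaf 0x4c8a4121000142293a964ed21cb105563408830f3d1195734180)) (.node (.leaf 0x14051baa00001e06415e415d0a8104b2b76934904fd5067bd32d) (.leaf 0))) (.node (.node (.leaf 0x468d14cc000112832fec2feb1ab105b2055b035806713e586149) (.leaf 0)) (.node (.leaf 0x2b7f114300002c49437c4b29124785f1b00f339f5c03d5025546) (.leaf 0))))))) (.node (.node (.node (.node (.node (.node (.leaf 0x19250111bf000100fb0379034210410431bd80660b15c714025000) (.leaf 0x49c6382000002f6b4eb63e5f1c5404d5610bd0fd4550135be7b2)) (.node (.leaf 0x4b662ec40001147f069f2aa11c8604d48b20c19c6256d028f70a) (.leaf 0))) (.node (.node (.leaf 0x32f2062a00010a3911ad176f147784509253d7ac04f0342cb5fc)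 (.leaf 0x1ee646f40000494452cf4e490e3704d6c81df4fb73c09f1497d9)) (.node (.leaf 0x505b4063000020623d4343fe1e658576222922f40f2545149025) (.leaf 0)))) (.node (.node (.node (.leaf 0x43cf237900010579111c11451a5505f3833102485587db1562cb) (.leaf 0x146126a6000139af4b1639fd0a870433cf52f3171f91797bd2ab)) (.node (.leaf 0x238d4a1a00001a3b3c8331030ef105b7175553cc53f2672957bd) (.leaf 0))) (.node (.node (.leaf 0xaa1339700010f2f295f08cd06d30434f94b64235e61ee32d333) (.leaf 0)) (.node (.leaf 0x50ae14df0001276a3104477c1e7205d2067a03cc1d14a8335025) (.leaf 0))))) (.node (.node (.node (.node (.leaf 0x523b20ad000003310a8a0a891ea385733b62e0c831f09f1497d9) (.leaf 0x1333129300003442509440980a658471d315c1b85125ed1806de)) (.node (.leaf 0xe7f0e190000174d32733355088785f15c4c46071157187bd2ab) (.leaf 0))) (.node (.node (.leaf 0x3d18143000010caf23d6208b18418511f90c00c375312b1562cb) (.leaf 0)) (.node (.leaf 0x350932ce000023ca46e433c914e10534e66b17e41730c2149537) (.leaf 0)))) (.node (.node (.node (.leaf 0x3b7634b4000107d317c417c316e684d5173117e80f828711355a)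 (.leaf 0x1302dba000140521e8d533404658414734853a8201203295486)) (.node (.leaf 0x148061a455f00001d400a35399e064485569e7ec5736d20135be113) (.leaf 0))) (.node (.node (.leaf 0x394c4ab6000011d22eae2ead168605972651976e1bf37924d32d) (.leaf 0)) (.node (.leaf 0x1c1924bf00002b433fd035030cc18533a27e16a97cf62f428262) (.leaf 0)))))) (.node (.node (.node (.node (.node (.leaf 0x5b44e7c000102140712071104f38497826675217c81ea7865fc) (.leaf 0x3ef539b000031b93fba4e1904b705f8016155ea7386ad734621)) (.node (.leaf 0x1cf82714000115e335f635f50cd78513dc19809d7a743b32d7d9) (.leaf 0))) (.node (.node (.leaf 0x5332159900000b761a2d048f1ec38452175a11856bc62632d7d9) (.leaf 0x3c591fc1000051c550641e53182485332125b66257217a12d68a)) (.node (.leaf 0x19794edf000122102c583b610c478537917b121371705d6de7d9) (.leaf 0)))) (.node (.node (.node (.leaf 0x3b050386000106a4148e148d16e104b0523627392720c2149537) (.leaf 0x36892c5b00013cb14df02a4a16320534586a272b29a50a3332cb)) (.node (.leaf 0x4818143900011bb709563e771c228511f953a27f2a823f70b262) (.leaf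 0))) (.node (.node (.leaf 0x6ca51fe0000107d1c99185206560557d574b3d66674ea28f149) (.leaf 0)) (.node (.leaf 0x454e23ec0000294049bc02901a8505d38f7627d137d47a156428) (.leaf 0))))) (.node (.node (.node (.node (.leaf 0x1d9943df000104520df10df00cf18536767ca1ca50d0c21497bd) (.leaf 0x1d563ffc000036d2448c0d860ce584d6177262a076254a214025)) (.node (.leaf 0x2ba60a9e000018c53a620799125304d1007cd3651eb3d57bd546) (.leaf 0))) (.node (.node (.leaf 0x40661c8d00000dee26a200a718a704d2c66a848744a7b6586333) (.leaf 0)) (.node (.leaf 0x242c11150001259647be406310230591ad15e6f91090bf124546) (.leaf 0)))) (.node (.node (.node (.leaf 0x153449dd000009031ae503a30aa384971062c42356527041d335) (.leaf 0x18ef2ef80000442e539a43e00c3705f48f1fa2b064957d149049)) (.node (.leaf 0x35ae363000011ed30a99424a14f305d5351515e24494c57345fc) (.leaf 0))) (.node (.node (.leaf 0x1bf04bfc0001132b312a31290cb784174266709d36621c7867d9) (.leaf 0)) (.node (.leaf 0x109f08eb00002d3d152831fa08d185f0d760f5711fc75b70a786) (.leaf 0)))))))))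

/-- part of a table -/
def entries95 : Trie := (.node (.node (.node (.node (.node (.node (.node (.node (.leaf 0x91b448a00010030000b00b806a28576855295711c02f93352cb) (.leaf 0x27ce301000012dcb4de4302b10b605d4ab0a66ee3cd2f115f000)) (.node (.leaf 0x9035d300011381064531da045484152f1bd5ac2661775be68a) (.leaf 0))) (.node (.node (.leaf 0x10d649c0000009531bb01baf08d584d70f01752a18f3d970a786) (.leaf 0x181f275d0000456a53b150fb0c2485f3e13b42a445e2f933315f)) (.node (.leaf 0xd3315e600001f3b42bc061a086584721e24513c19878b18055a) (.leaf 0)))) (.node (.node (.node (.leaf 0x4228533b0001049c04d00ecc1a230517f56583e40eb7ae586335) (.leaf 0x44ec28740001379e417241021a770593ff2b92e92e57b55865be)) (.node (.leaf 0xd6f50bc000119223ae53ae4086705f7be6417ac16d2df2625be) (.leaf 0))) (.node (.node (.leaf 0x480f434300000e3d21dc27591c2205f6691a931901c64d621124) (.leaf 0)) (.node (.leaf 0x12510cb80000260f488c48e80a268431352cf06421b29415f214) (.leaf 0))))) (.node (.node (.node (.node (.leaf 0x34190e460001025d00a807f414c185316138e4eb5400de428734)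 (.leaf 0x207242a1000032574ff343dd0e8684565800d2a236369524d2c7)) (.node (.leaf 0x88e3e800001163c367b367a069205d5f205739943e2fa5be32d) (.leaf 0))) (.node (.node (.leaf 0x1348521700010bc4039809570a660517d859d7393ff30b7b2486) (.leaf 0)) (.node (.leaf 0x4c520860001227f0d08211c04d404b3392045f778051d18b68a) (.leaf 0)))) (.node (.node (.node (.leaf 0x38d2c6f000006ee155b155a04b205b4597765711c004a3352cb) (.leaf 0x37a4256c00013d9c4993507516530493af6df7a2008781486335)) (.node (.leaf 0x4b421c8300011c1a0fbf0e341c850452c63db2a23964cc6de2c7) (.leaf 0))) (.node (.node (.leaf 0x15bd3c7c000110d52cb202760ab385b5c94ed3f11b21d2180333) (.leaf 0)) (.node (.leaf 0x1e44135d000029c145344ba20e260491e16da5a20bc03f113124) (.leaf 0)))))) (.node (.node (.node (.node (.node (.leaf 0x1173452a000001430463046208e684769451f77271e6237b2537) (.leaf 0x5a2268f00002ff129d0136304f30453ca70e3282511c82cb5be)) (.node (.leaf 0x45974958000114d806bf34351a9184f70050d1e064320e15632d) (.leaf 0))) (.node (.node (.leaf 0x37f7247000010a891ea605c2165684f39c02203e5640d824d149)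 (.leaf 0x576019200014af229ab53cc04e584d0241921cf5d21c8786486)) (.node (.leaf 0x12cb00bd000020d9443a28880a3605700e6c101d39d73a15f214) (.leaf 0)))) (.node (.node (.node (.leaf 0x2baa1d0e000005c6121d121c12530552d164a2357ba60a7bd12d) (.leaf 0x2ecd12d300013a6618c715d612d505b1d74396fa3cf1452c7000)) (.node (.leaf 0x2159393c00011a9b3d0a247e0ea48535785de14a5ba6b562115f) (.leaf 0))) (.node (.node (.leaf 0x3e1812bf00010f872a1010d918618511d58053d06c70480006de) (.leaf 0)) (.node (.leaf 0x27632fc6000027db4a5a413510a70474a422f1e32db78d262546) (.leaf 0))))) (.node (.node (.node (.node (.leaf 0x4eea1dea0000037c0b690b681e350552e858907202340d786180) (.leaf 0x22cb4c1e000034d81ef90e960ed40577457374ca34308e2ab15f)) (.node (.leaf 0x17e210be000017ae38b222fd0af60451a571f39859130a15f537) (.leaf 0))) (.node (.node (.leaf 0x20ce393000000cff1925009a0e9505d57804627d2d43405372c7) (.leaf 0)) (.node (.leaf 0x48ff3ce8000024482de3392b1c3585f5d253d59b0ee1c82cb180) (.leaf 0)))) (.node (.node (.node (.leaf 0x3ea540920001081f18991898187204b62914307e39379012d486)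 (.leaf 0x133c44f00000413850473fa70a658596900b57e858537b41d6de)) (.node (.leaf 0x41302ccc00001da440e52a9a18e38414615c40f40450480005fc) (.leaf 0))) (.node (.node (.leaf 0x294c0fe10001122c2f4d2f4c10e50591920ac50352f5c7124518) (.leaf 0)) (.node (.leaf 0x419c4b8600012bc7272312a418f28597383434b328a3e612d537) (.leaf 0))))))) (.node (.node (.node (.node (.node (.node (.leaf 0x51fc0794000000b9029402931e968590b12531b448337928f70a) (.leaf 0x122c35b300002edf43e245030a2505952d1f07d22a174d262295)) (.node (.leaf 0x6d6176e0001142a2a711f67065684d2467ea3ba2b20d824d149) (.leaf 0))) (.node (.node (.leaf 0xf233aec000109ec18431d2f08a304759d6c27a25e541741d335) (.leaf 0x45843aa8000047db2b4643da1a910495973ac3993063da518428)) (.node (.leaf 0x199e13df00002007439d439c0c5485d1f261c17664912a5fc15f) (.leaf 0)))) (.node (.node (.node (.leaf 0x21c6202d000005310b5e10720eb404d32c54714b6fc22c6217b2) (.leaf 0x1c6453c80000390324fc4f750cc70498054720c836946c4287d9)) (.node (.leaf 0x21090ef4000119de089b3c010ea105317029618300179c786180)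 (.leaf 0))) (.node (.node (.leaf 0x2e22290f00000edf28b628b512c304540b7be63678c3042c712d) (.leaf 0)) (.node (.leaf 0x25b438c9000126f149a02510105384956c54155631f72e7bd546) (.leaf 0))))) (.node (.node (.node (.node (.leaf 0x2b6507cd000102eb09b109b0124704b0b76bf19460960e7bd12d) (.leaf 0x333b1f1500013396505938b4148385731120050f1e522753718b)) (.node (.leaf 0x2aea149e000016f537a337a212370552007c56897995ff18012d) (.leaf 0))) (.node (.node (.leaf 0x773d4500000c6223322331044784f5d93f63f1297227537335) (.leaf 0)) (.node (.leaf 0x1f2c45860000236146c50c6f0e450596a144670326010e486124) (.leaf 0)))) (.node (.node (.node (.leaf 0x38472ed20001078816fb16fa166404f48d20937418464d70b24d) (.leaf 0x46c321d600003f5a524933391ab404735c4b05f716a0a912d68a)) (.node (.leaf 0x78d29dc00001ce33fff3ffe067405b4226a255d1fb54333328f) (.leaf 0))) (.node (.node (.leaf 0x41ed17020000117e2e052e0418f505b23c18813c6df7b500055a) (.leaf 0)) (.node (.leaf 0x2b880def00012ab326fd4837125105115874333053963c025586) (.leaf 0)))))) (.node (.node (.node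 (.node (.node (.leaf 0x2c485237000101ce062f062e12650517de4533410172f3180518) (.leaf 0x24b4156f00013116452e38eb10338492127f022d59d4a2124546)) (.node (.leaf 0x51900293000015840d7e30961e918410381bf2b466b5385372c7) (.leaf 0))) (.node (.node (.leaf 0x33e32e8f00010b270364202814970474857fd2cd56d0ff55a2ab) (.leaf 0x22ef393400014e9853f93bb80ed705f5782250835ba0594287d9)) (.node (.leaf 0x50851f70000121af0bc345311e7104b31c11425721e5b47347bd) (.leaf 0)))) (.node (.node (.node (.leaf 0x518d02620001065813bd13bc1e9105b03528c50c6936f848670a) (.leaf 0x4f4a2bd300003bf82f1e42ef1e4405544e0c614b4936c55fc15f)) (.node (.leaf 0x35e812aa00001b553dfe2c4414f60511d45a03d06821a01136de) (.leaf 0))) (.node (.node (.leaf 0x120a32b00000102e2b691ca30a240554e513b01e25274704968a) (.leaf 0)) (.node (.leaf 0x5ab4b26000128cd4a0b333304f30577304db3282f77042cb5be) (.leaf 0))))) (.node (.node (.node (.node (.leaf 0x214d438f0001040a0d170d160ea405b6707846b746f09762115f) (.leaf 0x27cd20c10001361a512d475010b605b33d13935d6722947b2586)) (.node (.leaf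 0x463f1664000118630e5a320d1aa285f22b1700641920a912d214) (.leaf 0))) (.node (.node (.leaf 0x24fd112200000da125f6225f103785b1ae13f0c40106fe180546) (.leaf 0)) (.node (.leaf 0x44a53a6b0000252a18bc068a1a7204b5935eb3a84bb41f546537) (.leaf 0)))) (.node (.node (.node (.leaf 0x1c093346000108b61a2204e40cc10534f30fe6ae4030de428124) (.leaf 0x3ac12dec0001432950234e0d16d40434775e90f70285b718b113)) (.node (.leaf 0x30ac1b0a00011e7241d441d314330592a54a45b141e78321470b) (.leaf 0))) (.node (.node (.leaf 0x360e4025000112da308910f0162205d61c1f552a42f1a2333786) (.leaf 0)) (.node (.leaf 0x2fe223fc00002cca455845b112f604539176762739b2f115f156) (.leaf 0)))))))) (.node (.node (.node (.node (.node (.node (.node (.leaf 0xfbe173e0001007401a801a708b385d2435aa7dd7e75ff41d333) (.leaf 0x1e1029cf00012e562c5e40c50e2484142178e12073c29c33315f)) (.node (.leaf 0x2a6f4690000013d932693268122705f6c011f2eb24913241d546) (.leaf 0))) (.node (.node (.leaf 0x4fa7219c000109a01c711c701e5304f35766d09d75a5806de7d9) (.leaf 0x25164a73000046a127895303104184d7201ce6ee7af3b07bd000))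 (.node (.leaf 0x13ad4f0c00011fa0432b432a0a7505b79457f07a00937b41d6de) (.leaf 0)))) (.node (.node (.node (.leaf 0x22b23e27000104e80fa30fa20ed28455eb2066c351b74c2ab41d) (.leaf 0x500f28b200013855176b1acf1e6105f40520a1ca7681952147bd)) (.node (.leaf 0x337c1a660000197c39da0d4314878592923062792ed4a66de18b) (.leaf 0))) (.node (.node (.leaf 0x2ea0121100000e8d28020ad812d30411c421519459f72c2c7546) (.leaf 0)) (.node (.leaf 0x4c8e528a00002685444049471cb105d7e56150ea4546ad73441d) (.leaf 0))))) (.node (.node (.node (.node (.leaf 0x50495238000002a408cf08ce1e650537de49629f1892031497bd) (.leaf 0x3f5f1ac7000132f51da22fdd188585f29b48f2ef03667e518428)) (.node (.leaf 0x532a3cb70001169e370e35701ec30555cf5634fb60c17432d049) (.leaf 0))) (.node (.node (.leaf 0x81f2bf700010c1103b3226a068285f45135200544e6c55be428) (.leaf 0)) (.node (.leaf 0x356804e5000122ec4662337b14e605106e2fd7e81ae2ad11355a) (.leaf 0)))) (.node (.node (.node (.leaf 0x22c94a0f0000073e162d162c0ed40537167eb0fd36745018b7b2) (.leaf 0x209a421900003e75383052ea0e918556493f82b466346355a70a))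 (.node (.leaf 0x3a2a356200001c872e743f7816c20555270863ba39761818b295) (.leaf 0))) (.node (.node (.leaf 0x388428c9000011262d5900d516710494064027394bb6282cb537) (.leaf 0)) (.node (.leaf 0x68632e600002a3b42a03d61065404d4e95140f76e10135be113) (.leaf 0)))))) (.node (.node (.node (.node (.node (.leaf 0x15630d2a00010189054a05490aa604713f71f01d66530a15f214) (.leaf 0x4c2a52aa0001308c47654f3e1ca30557e76064d47f42b62957d9)) (.node (.leaf 0x4341cec0000152c34cd34cc04c38492cf6ff1462fd236428333) (.leaf 0))) (.node (.node (.leaf 0xfc631a900000ad81f671f6608b404d4c96855014e64f47d9113) (.leaf 0x9610bde00014cb74f67523506a704311c6fb5ea5ec32b734621)) (.node (.leaf 0x3c24136a000121462e7544cc18230491e56407dd217026000335) (.leaf 0)))) (.node (.node (.node (.leaf 0x5f23b840001060f12ec12eb04f58455ad12c68d0540342cb537) (.leaf 0x3e0a045e00013b304966115618610550656dc1b80927b75866de)) (.node (.leaf 0x516f1b8100001afc30ef01731e8605f2b206867864a0d828f70a) (.leaf 0))) (.node (.node (.leaf 0xbfa09e100010fda256a2abb06f58550ee06607d79a1c8786486)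 (.leaf 0)) (.node (.leaf 0x45042fac000028584ab24ab11a8104949f6c42ef79a79f51832d) (.leaf 0))))) (.node (.node (.node (.node (.leaf 0x3a4a18b0000003c40c440c4316c40552691120f753034a18b68a) (.leaf 0x1a4153c00000358121a350fa0c850438050902a24b769c53770a)) (.node (.leaf 0x9b32bb70001180b36b305ad06b384744c41c05b5a009f295621) (.leaf 0))) (.node (.node (.leaf 0x4049008400010d4c253e253d18a405300b35e50105a79012d113) (.leaf 0)) (.node (.leaf 0x6aa51f9000024b2280e182706550557d54e73b639d3456de214) (.leaf 0)))) (.node (.node (.node (.leaf 0x44683b270001086a1960195f1a670515a15513ee6e34015865be) (.leaf 0x46cf15180000422a50a032371ab405f20b5bb55055765c12d113)) (.node (.leaf 0x964485f00011e070a43415f06a70496e774e1e263863573470b) (.leaf 0))) (.node (.node (.leaf 0x25e50605000112842fed0c1f105704b09039b5563bc0db7bd546) (.leaf 0)) (.node (.leaf 0x3a31262600002c4a4d1c066716c28433c34b93585b95742ab295) (.leaf 0))))))) (.node (.node (.node (.node (.node (.node (.leaf 0x4c9526d3000000fc037b037a1cb184b3d42bd2da0d35b473441d) (.leaf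 0x53e81a5b00002f6e19c5150d1ed505129059a2e14243cb32d124)) (.node (.leaf 0x36f4f1a00011480339c339b04a705f7955f65083a054a73470b) (.leaf 0))) (.node (.node (.leaf 0x6505d200000a3a1def1dee044704b08c09016e0966be537335) (.leaf 0x36e019120000494a486849a816370412722aa2a61f50c229570b)) (.node (.leaf 0x42b01ffd0000206343ff16b91a3384132563d5f419a026586335) (.leaf 0)))) (.node (.node (.node (.leaf 0x13a12850000057a1147114604658551d133d68d55e545149537) (.leaf 0x463336fd000039b049054fca1aa284754472d11e2a165c12d734)) (.node (.leaf 0x51d02ec000001a3c3c853c841e9584148b0546985fb2406de2c7) (.leaf 0))) (.node (.node (.leaf 0x1b2a37f200000f30296013490ca205555910b4104426cd621262) (.leaf 0)) (.node (.leaf 0x403918a70000276b21eb34c518a285326646f72526902712d734) (.leaf 0))))) (.node (.node (.node (.node (.leaf 0x29c34337000103310a8c0a8b10f504766727437f08c314124518) (.leaf 0x34d200e50001344314de2e9014d48450155840f017e6182ab113)) (.node (.leaf 0x4fb27cc0000174e382e013504d58573eb6c701d6e0390428214) (.leaf 0))) (.node (.node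 (.leaf 0x248412ea00010cb023d7071210320491d848860b67265e049586) (.leaf 0)) (.node (.leaf 0x49b51569000023cb329336661c5384b2126d338433c56255a049) (.leaf 0)))) (.node (.node (.node (.leaf 0xe3c50cf000107d417c617c508838597bf76968b5a624b02518b) (.leaf 0x17c327af000140531d29146c0af40473e87f11fd2ed34d04928f)) (.node (.leaf 0x2cb052c700001d422022242a12728417eb3bf5ab15b30d049518) (.leaf 0))) (.node (.node (.leaf 0x21cb2765000111d21e06025d0eb40573e210b6b746f2f062115f) (.leaf 0)) (.node (.leaf 0x4e571cba00012b443a5f4c8d1e2484f2ca4912a419d23170b15f) (.leaf 0)))))) (.node (.node (.node (.node (.node (.leaf 0x46c83bee00000215068b07131ab40515b95eb01e52741f546113) (.leaf 0x25c22616000131bb32533d3210550453c242a3343782e4025586)) (.node (.leaf 0x10a37824b1d000015e435f835f7165104572f5954577a14636de214) (.leaf 0))) (.node (.node (.leaf 0x29ea0c3600010b76038020e710f605512844f3271aa73a15f518) (.leaf 0x40572de6000051cd531c527c18a484f4773315d344a80454668a)) (.node (.leaf 0xace1c61000122114593459206d405d2c40705af6346182ab113)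 (.leaf 0)))) (.node (.node (.node (.leaf 0x201b0afe000006a5148f05f30e818571086cb43f5b50826de2c7) (.leaf 0x411a07fd00003cb24d2d4d7f18e28550bb6ab25d71e0a9546537)) (.node (.leaf 0x2f00373700001bb839593e7812e104154b39a0f54c437b180518) (.leaf 0))) (.node (.node (.leaf 0x13b3332f0000107e2c162c150a758474f07af79b37c5ff41d55a) (.leaf 0)) (.node (.leaf 0x366f1fc00001294141df4b50162705f32124a5ea57209f295621) (.leaf 0))))) (.node (.node (.node (.node (.leaf 0x270e18ec000104530df30df210a205d26d6337080e04b17d9000) (.leaf 0x3187195f000136d3292d49e3145104f27668e6cc24a46355a214)) (.node (.leaf 0x51b92abb000118c53a630e8f1e928534384ec24147405e5be2c7) (.leaf 0))) (.node (.node (.leaf 0x46443a500010dee26a426a304c504967219b7ff7751ee428734) (.leaf 0)) (.node (.leaf 0x145007580000259746ee44910a858410ac4c615a3480db7bd428) (.leaf 0)))) (.node (.node (.node (.leaf 0xa631750001090313901ae6045504d4c63f83535c246355a214) (.leaf 0x460119620000442f3ccc2d2f1aa104327710a65121b048586149)) (.node (.leaf 0x29510a5000001ed4424b01b910e58430fa1190b35fb4a2262156)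 (.leaf 0))) (.node (.node (.leaf 0x4fc44afd0000132c1ec412ce1e5404972a6a651643a5b25fc15f) (.leaf 0)) (.node (.leaf 0x1f58225300012d3d42413a860e468513681f60f95da5cb28f41d) (.leaf 0)))))))))

/-- part of a table -/
def entries96 : Trie := (.node (.node (.node (.node (.node (.node (.node (.node (.leaf 0x3ce6305c0000003100ba00b9183504d4af71a14820a7b6586295) (.leaf 0x6be316500012dcc21573024065585d4c432151510634555a214)) (.node (.leaf 0x3b04312a0001138231dc31db16e10494c04d377217c267149537) (.leaf 0))) (.node (.node (.leaf 0x4f793e9f000109531bb21bb11e468535f372130f16f1ab28f41d) (.leaf 0x2e20493a0001456b2610367012c30416fd51039f1eb78970a546)) (.node (.leaf 0x28f4039300001f3c42be42bd10d78490530846bd7a872c2c7546) (.leaf 0)))) (.node (.node (.node (.leaf 0x19ac2d8f0000049d0ece0ecd0c550594707c626e5b06be537124) (.leaf 0x1cc31c7c000037a04f374d5e0cd40472c56a05166ec34a2ab15f)) (.node (.leaf 0x17524f2b000119233ae73ae60ae48457965d438208d36a7d924d) (.leaf 0))) (.node (.node (.leaf 0x35053aa000010e3d275b275a14e104b597044711306265149486)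 (.leaf 0)) (.node (.leaf 0x35f823e40000261148e948c114f685138f2543ea37d18a68a55a) (.leaf 0))))) (.node (.node (.node (.node (.leaf 0x156d36560000025e07f607f50aa605b5392e07ed24c2947b2214) (.leaf 0x32c834d0000132574ff44d4a147405151a09676d79263b62124d)) (.node (.leaf 0x315d283e0001163d2feb367c144485b3f85755d303c0e25fc113) (.leaf 0))) (.node (.node (.leaf 0x4fa62b8800000bc521b221b11e5304d4483852135e30ff6de7d9) (.leaf 0)) (.node (.leaf 0x21d822d8000022801dd245fa0eb48513725301b747144b70b15f) (.leaf 0)))) (.node (.node (.node (.leaf 0x183b460d000106ee155d155c0c258576ac7260f932c54a214180) (.leaf 0x220f4b0700013da131ee4bf30ec105f72d3f727f5da62632d262)) (.node (.leaf 0x1bb80cc400011c1b3ef5395b0cb28511361552e174563b621124) (.leaf 0))) (.node (.node (.leaf 0x2aa6256f000010d62cb3083c123304d3af7b819459f314262546) (.leaf 0)) (.node (.leaf 0x190388f0f6d000129c10f634a1e167105f18473e4b3285247786486) (.leaf 0)))))) (.node (.node (.node (.node (.node (.leaf 0x159c015000000144046504640ab185901f02308b1c0435262295) (.leaf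 0xc763d4900012ff14ef53542082784d5d95f03f149a132180335)) (.node (.leaf 0x1bd619ca000014d93436010d0cb484d2824912a44b023170b15f) (.leaf 0))) (.node (.node (.leaf 0x7c22d0b00000a8a1ea81ea706760454675353ea38e3c768a6de) (.leaf 0x36ec371000014af328b83ad016370595480214f256a2d7295621)) (.node (.leaf 0x52873aa2000020da446744661eb104f5970e86dd50e4c521441d) (.leaf 0)))) (.node (.node (.node (.leaf 0x51b5071e000105c6121e01bb1e9284b0a772850c48303b5be70a) (.leaf 0x22f91d4a00003a693a0440550ed78532d659800f55923632d049)) (.node (.leaf 0x11c328d700001a9c3d0b366408f404740745176d1bd7477d928f) (.leaf 0))) (.node (.node (.leaf 0x39e51fdd00010f8804df2a11169704b3237022cd56d46455a2ab) (.leaf 0)) (.node (.leaf 0x4cb804fa000027dc19a622491cb385106f60514c3090731497d9) (.leaf 0))))) (.node (.node (.node (.node (.leaf 0x179f41170001037c0b6b0b6a0af185f6334006a34ee41741d6de) (.leaf 0x4da26f1000034dc4fd142b704d48553d80915ac5280392ab113)) (.node (.leaf 0x2bfb2afb000117ae38b438b3125785743e64a23539460a7bd12d) (.leaf 0))) (.node (.node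 (.leaf 0x44d3102900010cff1637248a1a748471982fc7334997dc12d24d) (.leaf 0)) (.node (.leaf 0x39f1db40000244a4436022404b285f2e326d4122a3123335786) (.leaf 0)))) (.node (.node (.node (.leaf 0x51b2475e00000820189b189a1e928456d266927d3fd0135fc70a) (.leaf 0x50cd1e3c0000413c4e1b33b31e7505b2f67753d351c08a2957bd)) (.node (.leaf 0x1aa120fc00011da535b13c470c920433436a649b5a45b25fc2c7) (.leaf 0))) (.node (.node (.leaf 0x22152fb00001122d05e92f4e0ec184b4a00304d828262f428262) (.leaf 0)) (.node (.leaf 0x15c6280000002bc8330b4cd70ab404d3f30565af7e536a049113) (.leaf 0))))))) (.node (.node (.node (.node (.node (.node (.leaf 0x5de5030000100b90295004204f485d7af0285250bd2f070b28f) (.leaf 0x16343caf00002ee019df21830ac38495cd7c976607661970a70b)) (.node (.leaf 0x45fe03270000142b32f832f71a9785d04c4b72cd03311a15618b) (.leaf 0))) (.node (.node (.leaf 0x4bec06d2000009ed1d311d301c960590a21e52b41ed7fc24d70a) (.leaf 0x2f72c1d000047e04fe610d4049784f45368278515871c53718b)) (.node (.leaf 0x503124c5000120070b19282c1e628433a333a29f1de50a3337bd)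 (.leaf 0)))) (.node (.node (.node (.leaf 0x50d93f8f00010531107410731e7585360d7a169a610202149025) (.leaf 0x266c2e10000139034d1451e5106605947d13937f5053447b2518)) (.node (.leaf 0x17b2041f000119df3c0207e00af38450607da28e6db6771245fc) (.leaf 0))) (.node (.node (.leaf 0x51ed367e00010edf04a328b71e9605b53b7c82803fd7fc24d70a) (.leaf 0)) (.node (.leaf 0x406d0fe3000126f20e1149a118a705b19223e16e096026000335) (.leaf 0))))) (.node (.node (.node (.node (.leaf 0x3cad1528000102ec00d209b2183305b20c43342554e13e000333) (.leaf 0x6c04d6f000133974e06226306560417697c87bc1a87fc24d295)) (.node (.leaf 0x209d0af5000116f537a537a40e9185b10821949b0c04a66de70a) (.leaf 0))) (.node (.node (.leaf 0x22c350000000c6423342333048305951e03a3173c94fa55a18b) (.leaf 0)) (.node (.leaf 0xc022e4c0000236246c62e55082404548163342d1a36ed7d968a) (.leaf 0)))) (.node (.node (.node (.leaf 0x26311dc50000078916fd16fc10628432e52b775877f4d97d9156) (.leaf 0xbeb10ca00003f5b3337426006f50571a62f54b3230034786537)) (.node (.leaf 0x36b61ff400011ce340003bcf163384d3252a336103760073470b)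 (.leaf 0))) (.node (.node (.leaf 0x14671b4c0000117f2e062db10a8704f2ac6392791107180252ab) (.leaf 0)) (.node (.leaf 0xed2dc600002ab426a90f35045705b4745823f117e0ba537333) (.leaf 0)))))) (.node (.node (.node (.node (.node (.leaf 0x34843731000001cf0631063014d104954b0925152a123632d734) (.leaf 0x489f2c820000311723373b001c3285f45d0280117652f070b124)) (.node (.leaf 0x41dc3f460001158406fe355e18f485960646f76a72002712d24d) (.leaf 0))) (.node (.node (.leaf 0x465f0c5200000b28202a20291aa485f12c2fc66248980412d68a) (.leaf 0x4d7b3f0a00004e9c53ea49fe1cc585760156370313f05932d124)) (.node (.leaf 0x30e01ece000021b13a70453214370413066e01a71ba265295621) (.leaf 0)))) (.node (.node (.node (.leaf 0x486801220001065913bf13be1c2505101a17559b0ee2e72cb180) (.leaf 0x15bb024800003bfb396752870ab385703242476449477a41d333)) (.node (.leaf 0x1b7e38f800011b553e003dff0ca785d57021b09d6f617b7867d9) (.leaf 0))) (.node (.node (.leaf 0x4387313c0001102e2b6b2b6a1a5104f4c16a17f259e67e1562cb) (.leaf 0)) (.node (.leaf 0x1881f5049fc000028ce3fbd48ab0e4684171556c1273951ab28f41d)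 (.leaf 0))))) (.node (.node (.node (.node (.leaf 0x24ef2bc70000040b0d190d18103705f44d27b6bd40c30818012d) (.leaf 0xec952220000361b512e261308950537da0d63992e81797bd32d)) (.node (.leaf 0x28500c60000186439d02c48049204b0101da75c0a50e25fc428) (.leaf 0))) (.node (.node (.leaf 0x201a01ba00010da125f825f70e818550295482a23633456de2c7) (.leaf 0)) (.node (.leaf 0x9f386c0000252b436d176c045485f5666695fa54712a5fc68a) (.leaf 0)))) (.node (.node (.node (.leaf 0x391e4f8a000108b7029c1a23168285d7a04587d13f86c55be428) (.leaf 0x2d43389e0000432b33ca4e2912a60475697677577962f115f000)) (.node (.leaf 0x29f70f7000011e7315a841d510f684f1870327587462f17b2156) (.leaf 0))) (.node (.node (.leaf 0x203f48a1000012db308a00ee0e8285f6f01581b93ab3465be70a) (.leaf 0)) (.node (.leaf 0x19f14f70d2b00012cca3f6e4d640a9784f13f7272ea1583b07bd18b) (.leaf 0)))))))) (.node (.node (.node (.node (.node (.node (.node (.leaf 0x24253b560000007501aa01a9102304b5a63f36f95534a2124546) (.leaf 0x429f442700002e58412322541a3285f67d2fc35342f80412d214)) (.node (.leaf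 0x20884b09000113d9326b326a0e9105172d4131b44d742055a2c7) (.leaf 0))) (.node (.node (.leaf 0x3f32376c000009a1179a1c72188384554e76c4ef0744a151818b) (.leaf 0x3dcf2bcf000146a3233a4dc6185505f44d79d43125c20e518786)) (.node (.leaf 0xf64427f00011fa1431f428e08a604965273b51546e0cb7b2734) (.leaf 0)))) (.node (.node (.node (.leaf 0x4e8f0372000004e90fa50fa41e3205f0512667243eb64d621124) (.leaf 0x209422690001385651bd403a0e918493694c349b3ad05d6de70a)) (.node (.leaf 0x2253416a0000197d398f3ad60ec484763d4056995ee29818b7b2) (.leaf 0))) (.node (.node (.leaf 0x51ff008100010e8d048728031e9685f00b1b32b41574ea24d2c7) (.leaf 0)) (.node (.leaf 0x4172491f000126852756189b18e58456fb7cc79b39c7e258655a) (.leaf 0))))) (.node (.node (.node (.node (.leaf 0x17ac43b5000102a400bd08d00af305967337807c2f74351245be) (.leaf 0x3a023d81000132f916eb4ac716c10455de07857647702032d214)) (.node (.leaf 0x1bc0454e0000169f2fee370f0cb404169d7846b772d56e6217b2) (.leaf 0))) (.node (.node (.leaf 0x48c0482700000c12226b07a01c340416e436c14b3b27f96217b2) (.leaf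 0)) (.node (.leaf 0x31c84fae000022ed4664466314540517a37205505294045fc113) (.leaf 0)))) (.node (.node (.node (.leaf 0x12c13a2a0000073f162e08050a3604358d42e4eb70e0cb7b2734) (.leaf 0x378c314f00013e7b47363d0216510594c279a4eb1d905d55a214)) (.node (.leaf 0x52e50b3500011c8709a93f791eb604b10d49431955b18a113262) (.leaf 0))) (.node (.node (.leaf 0x2dbd362f000111262d5b2d5a12b385b5347d468973b41418012d) (.leaf 0)) (.node (.leaf 0x369d352400012a3b49734bf9163285b5222320c3323543335786) (.leaf 0)))))) (.node (.node (.node (.node (.node (.leaf 0x8591c650000018a054c054b06868532c42127d138956028f428) (.leaf 0x495e3d190000308f4f3f4ecf1c4485d5d645814a2496c55be15f)) (.node (.leaf 0x1241246c0001152c34cf34ce0a2604339b59d7ed0993c17b2734) (.leaf 0))) (.node (.node (.leaf 0x3d5a03b600010ad8034b195618458550552fe7fa1b57e9518786) (.leaf 0x43e00f3100014cb94da744a21a5704117c0b93ed56f26851870b)) (.node (.leaf 0x1c0618310001214844ce44cd0cc104d25b10172457805932d124) (.leaf 0)))) (.node (.node (.node (.leaf 0x3bad52a10000061012ee12ed16f305b7e708507c2515b47345be)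 (.leaf 0x338117fd00003b313bf94e4814920432556881e03db1775fc32d)) (.node (.leaf 0xbcc014d00011afc3d853d8406f405901c6836ef72856e70b28f) (.leaf 0))) (.node (.node (.leaf 0x44d83f8000010fdb2abc282d1a7485160d0b871b0a43f454628f) (.leaf 0)) (.node (.leaf 0x53cb064d000128582c4f42c11ed40570946e35166bb5202ab15f) (.leaf 0))))) (.node (.node (.node (.node (.leaf 0x9c91754000103c401120c4506b60532451b20c37534971132cb) (.leaf 0x3e4d2e130001358117c14b0a186405b47d19f76d5db3f412d28f)) (.node (.leaf 0x4fb927780000180c394a39491e538533e34084d47304a66de049) (.leaf 0))) (.node (.node (.leaf 0x4fe941ca00000d4d2540253f1e560536435a67880e05cb24d41d) (.leaf 0)) (.node (.leaf 0x4dd311d1000024b3144747e71cd48471c01842a47316182ab7b2) (.leaf 0)))) (.node (.node (.node (.leaf 0x37421a100000086b19621961164404528a0035af73d0435fc68a) (.leaf 0x1b3725170000422c495049950ca284f3aa4ac70337222c621262)) (.node (.leaf 0x449f148c00011e082bdd41601a7185f1ff57913c34f47c0006de) (.leaf 0))) (.node (.node (.leaf 0x7f04419000012852fef2fee067784167c5e47ef7c06352145be)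 (.leaf 0)) (.node (.leaf 0x1cbd1d8b00012c4d4b674d1d0cd285b2de63e10421f5b718b41d) (.leaf 0))))))) (.node (.node (.node (.node (.node (.node (.leaf 0x373d52b3000000fd037d037c164385b7ea09016e6da6be537335) (.leaf 0x17fd09e700012f6e41eb4eb70af685b0ee26107d6d338615f486)) (.node (.leaf 0x1cf53c5c0000148122e7339d0cd784b5c477414c6ec23632d049) (.leaf 0))) (.node (.node (.leaf 0xd9f4e5700000a3b1df11df0087485f77f3b270511234d04928f) (.leaf 0x1cbf4ba30001494b4d4843800cd285f73c1842da67034a2ab180)) (.node (.leaf 0x349a5041000120630b3e352014d18557b005872535c390428214) (.leaf 0)))) (.node (.node (.node (.leaf 0x43b04a840000057b114911481a5384172135b2a61d604751870b) (.leaf 0x28cb4057000139b03ee3211510d505762043c6aa39a3d970a586)) (.node (.leaf 0x19224aa800011a3d3c8608ad0c4504572344d41044271c486262) (.leaf 0))) (.node (.node (.leaf 0x12827d000010f302962296104650513ec0636cf6c7073149537) (.leaf 0)) (.node (.leaf 0x2e40463b0001276b4a01463212c50416b165931224511170a586) (.leaf 0))))) (.node (.node (.node (.node (.leaf 0x42fc1076000003320a8e0a8d1a3585919e5513ba09b401586295)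 (.leaf 0x2050378800003444509650950e8584155139c1b979169c53770a)) (.node (.leaf 0x2a5238be0001174e25bd382f122684556b76f30c13d5a77b2000) (.leaf 0))) (.node (.node (.leaf 0x53974df400000cb123d923d81ed284f7764192da0e30392ab180) (.leaf 0)) (.node (.leaf 0x2f3c40b6000123cb3dfa472e12e285962b43a341411740049156) (.leaf 0)))) (.node (.node (.node (.leaf 0x23034899000007d517c817c70ee10476ec63209e3ad545295025) (.leaf 0x400a026b000140551d2b4a5f18a10550355da65127e118586295)) (.node (.leaf 0x3fbc20a800011d42396109fe189385933b53f2cd44812b1562ab) (.leaf 0))) (.node (.node (.leaf 0x2468114f000011d32eaf28bd10270511b07f76bd40c27018012d) (.leaf 0)) (.node (.leaf 0xd852acc00002b4518174c8e087404b43973555d77832e04928f) (.leaf 0)))))) (.node (.node (.node (.node (.node (.leaf 0x6df16730000021607150714065685f22e1053ba4db69524d149) (.leaf 0x3e9b4b7c000131bc49614fb718718577375da5bf67f47c5866de)) (.node (.leaf 0x2d9b2498000115e4072335f912b28573a04596fa3d17077d9000) (.leaf 0))) (.node (.node (.leaf 0x22df474000000b7820e920e80ed485f6d118c14a4713b82ab15f)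 (.leaf 0x78053b2000051d13e0d515b067404180303c3567704da33324d)) (.node (.leaf 0x13270b97000022124403362f0a6504f1164246a360d30841d6de) (.leaf 0)))) (.node (.node (.node (.leaf 0xd8f18db000106a514911490087405f26c57a3560654b17d924d) (.leaf 0x3a1436f600013cb852a813cd16c184954437c11e2443cb428734)) (.node (.leaf 0x39eb12d800011bb83e7a3e7916970571d757b42608d5806de2ab) (.leaf 0))) (.node (.node (.leaf 0x3f2812c90000107f2c022c1718830511d635a50f0e90471562ab) (.leaf 0)) (.node (.leaf 0x2c67022a000029424b5144c0126604f0306c15dc6b273a15f518) (.leaf 0))))) (.node (.node (.node (.node (.leaf 0x2b79439e000104540df50df412478536716933655967147bd546) (.leaf 0x29e1229f000136d41676516010f604336e73b5c60610cb7b2156)) (.node (.leaf 0x1eb74884000118c608313a640e3584f6eb1fc59b133195734180) (.leaf 0))) (.node (.node (.leaf 0x4f5739a900010def26a626a51e4484f5824c23872e312a5be15f) (.leaf 0)) (.node (.leaf 0x49ce2bc9000125973f7148901c5405d44d4340815c06b65be7b2) (.leaf 0)))) (.node (.node (.node (.leaf 0x1562dbd000009041ae81ae7046684d4735420d02254e11136de)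 (.leaf 0x53ee14450001442f539b53871ed505d1fa3a54d83dd58e428124)) (.node (.leaf 0x862535b00011ed438ec424c06870457f75e76077f334053718b) (.leaf 0))) (.node (.node (.leaf 0x23b321540001132c2c29312b0ef28473502593804b21a23337bd) (.leaf 0)) (.node (.leaf 0x30f0520f00012d3e11193fb214378417d77d07663b4073149621) (.leaf 0)))))))))

/-- part of a table -/
def entries97 : Trie := (.node (.node (.node (.node (.node (.node (.node (.node (.leaf 0x1c1033800001003100bc00bb0cc18414f80096a93721ee428262) (.leaf 0x22dc438200012dcd116243270ed48596702736991436ba18b7b2)) (.node (.leaf 0xd8e41fc0001138331dd28a1087405d64645176d79236a7d924d) (.leaf 0))) (.node (.node (.leaf 0x4dce3ebc0001095407511bb31cd405d5f66a05165b36182ab7b2) (.leaf 0xeda01de0001457640b453b2089585502b69e75c511718025428)) (.node (.leaf 0x3364e7b00011f3d3dde312804a384d78262036164c26a14970b) (.leaf 0)))) (.node (.node (.node (.leaf 0x3e3033e70001049d0a220ecf18628415002ee77274929112d486) (.leaf 0xe324e77000137a63b284d1508838457824c46075996b47bd18b)) (.node (.leaf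 0x4cc0ee1000019243ae8154c04d405916f1685f778e22618b68a) (.leaf 0))) (.node (.node (.leaf 0x4d94f1b00000e3e275d275c04d485379563e5d33a051d18b68a) (.leaf 0)) (.node (.leaf 0x217f4a000001261146b6291f0ea785f71604000f36725a2cb049) (.leaf 0))))) (.node (.node (.node (.node (.leaf 0x2bc419190001025e07f807f712550492724c73300ad0db025000) (.leaf 0x1e2130fc0000325a45af4ff50e250434bd68f1047cc186734180)) (.node (.leaf 0x433d460000163f367d219b04460475d941a62d0150cf28f295) (.leaf 0))) (.node (.node (.leaf 0x2fbf0e4c00010bc521b421b312f285f1615d45dc4e57477d9518) (.leaf 0)) (.node (.leaf 0x4ad647ad0001228027f32cd91c7584d6d97531e67d82072957bd) (.leaf 0)))) (.node (.node (.node (.leaf 0x53691a08000006ef1533155e1ec50532893935a2808236428262) (.leaf 0x6ea126900013da351c028ab06570551ce44e16e78471c537335)) (.node (.leaf 0x2403078c00001c1c3ef620e010220470af63370840e6ed7d9586) (.leaf 0))) (.node (.node (.leaf 0x519910ee000110d6060a0d7b1e918531a97c62b41576be5372c7) (.leaf 0)) (.node (.leaf 0xe4c01d4000029c33fd84283088505902b24600540817902532d)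 (.leaf 0)))))) (.node (.node (.node (.node (.node (.leaf 0x19ba2d8a00010144046704660c558554704ee01132c227537262) (.leaf 0x2d64039200002ff2350c4ef612a70490530241941f874d26212d)) (.node (.leaf 0x50592820000114d9224e24f81e658533f70aa09e7680c22957bd) (.leaf 0))) (.node (.node (.leaf 0x4ebd42ef00010a8a1ea9155b1e3385b65f80000f2e021c2cb7d9) (.leaf 0x39dd3e0500004af83bd053d0169685b5e82f71e04a71ab28f428)) (.node (.leaf 0x47fa05cf000120da446944681af58550887457a428c4e200055a) (.leaf 0)))) (.node (.node (.node (.leaf 0x98c3c2e000005c71220121f06b20595c06a272b4a4543333786) (.leaf 0x3fa50bf100003a6a3d6c522e189304b1214b27987210471562ab)) (.node (.leaf 0x3d7f537400011a9c3d0c17ce184785f7fd1f260250967e51870b) (.leaf 0))) (.node (.node (.leaf 0x40d849b700000f892a132a1218b485170e5cc6624893e612d68a) (.leaf 0)) (.node (.leaf 0x2f512286000127dc27f933a712e584336d4686272a95c7124518) (.leaf 0))))) (.node (.node (.node (.node (.leaf 0x39bb03300001037d0b6d0b6c169385704d0362ea4483ef4862ab) (.leaf 0x2fe1538b000034de50ca4b5b12f604380059d3414f130b7b2518))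 (.node (.leaf 0x1bde0caf000117af1ce9321b0cb485d1336e138710875570b15f) (.leaf 0))) (.node (.node (.leaf 0x684176a00000d00248c248b06540492466881341551775fc68a) (.leaf 0)) (.node (.leaf 0x1e381d350001244a334a1f650e258512d53e01275e163521441d) (.leaf 0)))) (.node (.node (.node (.leaf 0x35d82eeb00010820026a189c14f485148e59773351454333328f) (.leaf 0x262330bb0001413e1dec534f10620474b945137f2787477d9518)) (.node (.leaf 0x1f4b1cc700011da640e740e60e460572cc2a56c37424a328f41d) (.leaf 0))) (.node (.node (.leaf 0xb1a44870000122e12162f4f06e28556854913ea68123170b6de) (.leaf 0)) (.node (.leaf 0x43db107200012bc82b5f4cd81a5585719e2cc05f6fb20e156786) (.leaf 0))))))) (.node (.node (.node (.node (.node (.node (.leaf 0xf410cfd000000ba0297029608a404313a4885af7e565e049113) (.leaf 0xa4c2e2600012ee14e723f5d06c405947e2e51341db51d2ab68a)) (.node (.leaf 0x1b4119c10000142c189332f90ca404328217e4ca2fc7f970b7b2) (.leaf 0))) (.node (.node (.leaf 0x55e0e1a000109ed02ff1d3204e485d15c4f676a0c633862128f) (.leaf 0x4f5513f6000047e23e1753361e4484b1f42761b769f4765fc7b2))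 (.node (.leaf 0x4220260b00002008439e01d01a230413c05517641e7164586335) (.leaf 0)))) (.node (.node (.node (.leaf 0x13d1496200000532107610750a768437012ce07d0780cb15f537) (.leaf 0xd32b34000039042048388904568474431053ba4cb4a324d295)) (.node (.leaf 0x42ad2a75000019e03c043c031a3305b43221f487014026586335) (.leaf 0))) (.node (.node (.leaf 0x462c37de00000ee01b1f28b81aa20595576f45760fa1a4546214) (.leaf 0)) (.node (.leaf 0x1dfe518f000026f41ec049a20cf685d7cc5d129f6a11371137bd) (.leaf 0))))) (.node (.node (.node (.node (.leaf 0x7a14d78000002ed09b409b3067504376b46e4b37de203295486) (.leaf 0xf5e522c00003399505a299108a485d7da62466273870704968a)) (.node (.leaf 0x43844b16000016f60eba37a61a5104972f35b0a3605047518786) (.leaf 0))) (.node (.node (.leaf 0xc083c1700010c642336233508240515bd1f801e05a65e049113) (.leaf 0)) (.node (.leaf 0x3d0e0206000123621c6846c7184105d02e4f50a36015815182cb) (.leaf 0)))) (.node (.node (.node (.leaf 0x452c3cb80001078916ff16fe1a830595cf5a827920d15d51818b) (.leaf 0x2af243e100013f5b1c72465c12378456790ce75906c5bc41d12d))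 (.node (.leaf 0x15d9066a00001ce51cce2c4e0ab485309843a66273874004968a) (.leaf 0))) (.node (.node (.leaf 0x37cc1de30001117f10512e0716540592e82c35504c04765fc68a) (.leaf 0)) (.node (.leaf 0x3c1144bb00012ab42b0d0c1d18228436885cc3b641c3e612d734) (.leaf 0)))))) (.node (.node (.node (.node (.node (.leaf 0x4f663a43000001d0063306321e4604d5912a56c33c84ea28f180) (.leaf 0x38410fde0001311946814abf166404319078466618c09762124d)) (.node (.leaf 0x156226ae0001158507cf355f0aa60453cf7676802862f115f214) (.leaf 0))) (.node (.node (.leaf 0x10cb527e00010b28202c202b08d50577e379465610f4d670a2cb) (.leaf 0x4eef270000014ea9533143841e3505f3db00b30f79e24778641d)) (.node (.leaf 0xf1421a1000121b14533400d08a184935913d45c4f755f262149) (.leaf 0)))) (.node (.node (.node (.leaf 0x443733ef0001065a01dd13c01a6284f5007a747f60d6b812d537) (.leaf 0xb9435b00013bfb19d85288045585366b6d368022a56255a734)) (.node (.leaf 0x42c941ce00011b56092d3e011a340536436f41346911a4546113) (.leaf 0))) (.node (.node (.leaf 0x351238ac0000102f2b6d2b6c14e184556a73f77217c57d149537)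 (.leaf 0)) (.node (.leaf 0x32aa297a000128ce4b03433f14720554192bf0d003064d70b55a) (.leaf 0))))) (.node (.node (.node (.node (.leaf 0x1a194baf0001040b0d1b0d1a0c8185373c70643f7562b56de70a) (.leaf 0x196336bc0000361c4977512f0c4704753f6430894a04186de7d9)) (.node (.leaf 0x16c526e10001186539d105210ad504b3d711705f7ca7892c7786) (.leaf 0))) (.node (.node (.leaf 0x9114b3c00000da225f900d906a284373159752a02f543333786) (.leaf 0)) (.node (.leaf 0x361443f90001252b0ffa46ae162284967a59752a7a150a3332cb) (.leaf 0)))) (.node (.node (.node (.leaf 0x1bc938f3000008b81a251a240cb40535701506b77a77f96217b2) (.leaf 0x1131187d0000432f538121a008e38432616e732804555f2625fc)) (.node (.leaf 0x8d10bbd00011e7429f839ea069684311961b1e06435cb28f32d) (.leaf 0))) (.node (.node (.leaf 0x18d120d000112db291a308b047405b1c343037404f24e33528f) (.leaf 0)) (.node (.leaf 0x50d11f5200002ccb4d6505961e758433181d93807be2d7149025) (.leaf 0)))))))) (.node (.node (.node (.node (.node (.node (.node (.leaf 0x4b0b026100010075001e01ab1c8105703519e6783963404862c7)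 (.leaf 0x138501500002e5a2935056004658517ab1c925d3ff265295486)) (.node (.leaf 0x2e2a3036000013da326d326c12c30554ad1d12357f42d92c712d) (.leaf 0))) (.node (.node (.leaf 0x3a4941e3000109a102e61c7316c40536452e51344ac61d2ab113) (.leaf 0x2e0516ae000046a55082536f12c104b2326593123f378970a000)) (.node (.leaf 0x1ba120b00001fa4432d432c04758551c329a25d48d57d295537) (.leaf 0)))) (.node (.node (.node (.leaf 0x3b942e7c000104e9016b0fa616f18494846b17e456b265149486) (.leaf 0x22c042ac000038582f0f22ce0ed40416583490fd4f36ba18b7b2)) (.node (.leaf 0x2b5538b60000197f16653b75124584b56b3fd30c11972e7bd000) (.leaf 0))) (.node (.node (.leaf 0x3bd54a9c00000e8e2805280416f484b72249f70568870d33524d) (.leaf 0)) (.node (.leaf 0x2c4c19df000026863d482ea012650592857d40f546727a180156) (.leaf 0))))) (.node (.node (.node (.node (.leaf 0x3df1520e000002a508d208d118578437d77237667e515d156621) (.leaf 0x2c3a0b6f000032fb4fb0356d12628551127c762708434d7d9156)) (.node (.leaf 0x4a5e3b2e0001169f279237101c6585d5a173f1cb43c154149025) (.leaf 0))) (.node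 (.node (.leaf 0x1d16487500010c12226c14970ce184d6ea42f69a6f2545149025) (.leaf 0)) (.node (.leaf 0x31a2917000122ed0dec0c5404a285540c38b72b4a47fe333786) (.leaf 0)))) (.node (.node (.node (.leaf 0x2b982c8a0001073f162f1578125185145d48145a5f024b025586) (.leaf 0x40ee369800003e7e2bef49d418b705d53d3dc5a34893bd586335)) (.node (.leaf 0x10e7452000001c88301936f108d704f6940175ea7a03d970a621) (.leaf 0))) (.node (.node (.leaf 0x17a638740000112709e72d5c0af304d5673d85e253638c2625fc) (.leaf 0)) (.node (.leaf 0x21d0430700002a3c4bfa38680eb484166123b12013663b70b15f) (.leaf 0)))))) (.node (.node (.node (.node (.node (.leaf 0x48c7382a0001018a006b054d1c3404f56162b0fd5f222170b7b2) (.leaf 0xde70bab00013090484333f7087704f11763107c40f78d1245fc)) (.node (.leaf 0x41cf30170000152d07e934d018f405f4ab3a266606b6b854624d) (.leaf 0))) (.node (.node (.leaf 0x30eb311100000ad914f91f6814370574bf1d776663826a14970b) (.leaf 0x1f9d1bbf00004cbc44202bb90e5485b2b87282a43aa05e5be7b2)) (.node (.leaf 0x7d3441a000021493a9144cf067684767c5e60d047213711355a)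 (.leaf 0)))) (.node (.node (.node (.leaf 0x46f0174e00010610070412ef1ab78412446583e449a7ae586335) (.leaf 0x333106b100003b3550034db414838430a01713176e50ba4862ab)) (.node (.leaf 0x407c1bda00011afd2d56136118a78592ba51b42554b7c4000333) (.leaf 0))) (.node (.node (.leaf 0x2fb6446600000fdc20452abd12f284d6834595dc42a4f47d9518) (.leaf 0)) (.node (.leaf 0x29f60e8e0001285a353427b310f684d1676f75c606130a7b2156) (.leaf 0))))) (.node (.node (.node (.node (.leaf 0xcbc2a02000003c50c470c4608358594290ac6682440bf124295) (.leaf 0x4fe04a50000135823e7844191e5604171e1e578880156024d41d)) (.node (.leaf 0x29b136fa0001180c394c394b10f28435445d05c653369b7d9156) (.leaf 0))) (.node (.node (.leaf 0xb9a015100010d4d2542254106f285501f03513c68675562155a) (.leaf 0)) (.node (.leaf 0x23742023000124b334993bc30ee684932c16009e66318a68a025) (.leaf 0)))) (.node (.node (.node (.leaf 0x9810e730001086b0282196306b204316503c05f6154da3332cb) (.leaf 0xb9c44810001422e42ca529f06f285968523a65a5a544b70b55a)) (.node (.leaf 0x2f8845a000001e094161268d12f10516a409a10c3772f341d518)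 (.leaf 0))) (.node (.node (.leaf 0x3cbc1a4b000112852ff00ad2183385928d61716e5a07b5000335) (.leaf 0)) (.node (.leaf 0x390d23b500002c4f49a14d1e168205b38b3b97d13e54045be32d) (.leaf 0))))))) (.node (.node (.node (.node (.node (.node (.leaf 0x40a11963000100fd037f037e18b204327719f06473e29112d214) (.leaf 0x10b5187c00002f6f31f44eb808d384b26167c3766fd7892c770b)) (.node (.leaf 0x4637262f00001482151b339e1aa284f3c37a73535c26b812d214) (.leaf 0))) (.node (.node (.leaf 0x4332153d00010a3b1df31df21a4384520d6f27661b27db15670b) (.leaf 0x131806c90001494e52fe49f90a648510a143a7333be36b04928f)) (.node (.leaf 0x2b4603a10001206420d717ca124504d0541577576416b4025586) (.leaf 0)))) (.node (.node (.node (.leaf 0x34ba14f00001057b114b114a14d285520909108b4cb08e2ab295) (.leaf 0x13bb4f08000039b1332f4d700a758577944246a348d77a41d55a)) (.node (.leaf 0x437038b800001a3e25353c871a4784156b4d23763b412b518621) (.leaf 0))) (.node (.node (.leaf 0x4bde02c200000f31296429631c9585d04038d50c5fd4186de2c7) (.leaf 0)) (.node (.leaf 0x261742370000276c4a0221be106184f64b3715031de4de124156)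 (.leaf 0))))) (.node (.node (.node (.node (.leaf 0x1c9a1d86000103320a900a8f0cd18552de1c631963d48c428262) (.leaf 0x3ecc123800013444426e1b6b18740591c65ee3747783f412d28f)) (.node (.leaf 0x323a05b30001174f3831383014628550862057a43182f062155a) (.leaf 0))) (.node (.node (.leaf 0x35fd4ab400010cb123db23da14f685b7264614955821a068a6de) (.leaf 0)) (.node (.leaf 0x2f6700eb000023cd472f446712e604f01573062722e62315f518) (.leaf 0)))) (.node (.node (.node (.leaf 0x13e6441e000107d517ca17c90a7704d67c7b81073056772625fc) (.leaf 0x18d53d9900004057507b40c30c3684b5e054e31b44221868a262)) (.node (.leaf 0x3252a4200001d4331ae406c04a304b42e063361254073149621) (.leaf 0))) (.node (.node (.leaf 0x1a0e1fba000111d32eb0254d0c8105d3203a643f7564636de70a) (.leaf 0)) (.node (.leaf 0x1e2a345c00002b464c8f3afe0e2505550d49d2f27424c521441d) (.leaf 0)))))) (.node (.node (.node (.node (.node (.leaf 0x27024bbb000002170717071610a204573d57a6aa6946ed7d9586) (.leaf 0x6ef1b2e000031bd4efb4fb8065705f2a96c0172209664537333)) (.node (.leaf 0x20dd1f33000015e535fb35fa0e9585b3151f42413ad6f853770a)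 (.leaf 0))) (.node (.node (.leaf 0x2bc941c500000b7920eb20ea12550536434df45a37160e025586) (.leaf 0x23b2408374e000051ed48270dff102205154c7311417e330d049000)) (.node (.leaf 0x4fa8030b0001221245942f301e530510456d338452e2b555a7d9) (.leaf 0)))) (.node (.node (.node (.leaf 0x97d2c23000006a61421149206a785b4541b55b12555b421470b) (.leaf 0xe88508600003cb94d774db008910517b93962281ae60e7bd32d)) (.node (.leaf 0x3d723a4800001bb90c003b2a18478455914f53ed78e4a1518621) (.leaf 0))) (.node (.node (.leaf 0x4a87409000011080179c287e1c7104f6290880ec3731957347bd) (.leaf 0)) (.node (.leaf 0x14a20820000129420f2038010a930450be06138a7e035f7bd2ab) (.leaf 0))))) (.node (.node (.node (.node (.leaf 0x1ed1209000004550df70df6047705b1c327511d5005b42145be) (.leaf 0x3bf21940000136d5499a50f116f684527506f5df0ed13711355a)) (.node (.leaf 0x522f094b000018c73a6511ec1ea305f0e163209d7bf09f2957d9) (.leaf 0))) (.node (.node (.leaf 0x4be42b4900010df026a826a71c960494443c024158d37924d70a) (.leaf 0)) (.node (.leaf 0x1d3021e100002599293748910ce284135e1312a0762543335025)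 (.leaf 0)))) (.node (.node (.node (.leaf 0x4e295335000109041aea1ae91e230537f544421318d6287867d9) (.leaf 0x5a94d450001443120a34e1204f305376739d5e27ea17d7865fc)) (.node (.leaf 0x4e5e114800001ed51db4424d1e2485d1b049a2a440c2f070b15f) (.leaf 0))) (.node (.node (.leaf 0x428c52dd0000132d12ca312c1a320597ec5eb457044291546214) (.leaf 0)) (.node (.leaf 0x292b2df700012d412d614aff10e20574784667586bf3227d9518) (.leaf 0)))))))))

/-- part of a table -/
def entries98 : Trie := (.node (.node (.node (.node (.node (.node (.node (.node (.leaf 0x2b0c04ba0000003200be00bd124105906b52f3513e81797bd000) (.leaf 0x1b5520eb00002dce488648a10ca484b3425301b76f456e70b7b2)) (.node (.leaf 0x21b62153000013850b5831de0eb284d3502051917b36cd621262) (.leaf 0))) (.node (.node (.leaf 0x38d34dd000000955177f1bb416748477741264b826322162124d) (.leaf 0x16f62e03000145783e7d39200ad784d47b1c360226d4d670a70b)) (.node (.leaf 0x2eb4097800001f3f42bf179012d38490e52781944f91112c712d) (.leaf 0)))) (.node (.node (.node (.leaf 0x51263d880000049e0c200ed01e8204d5de5222a25bd3465fc70a)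 (.leaf 0x3c42295d000137a75191324c182404541373c01e4d158b54668a)) (.node (.leaf 0x305607ca0001192408523ae9142684d0b75426923640951132cb) (.leaf 0))) (.node (.node (.leaf 0x36521cbc00010e3e06ca275e16268452ca5d10061c03921132cb) (.leaf 0)) (.node (.leaf 0x4f5a44af00002612368b27a11e448556877ec16c2ff0135be7b2) (.leaf 0))))) (.node (.node (.node (.node (.leaf 0xe80a260000025f07fa07f904570510f32105a3489781537335) (.leaf 0x448c360d0001325a26214ff61a710595325b02377e113e5866de)) (.node (.leaf 0x279f517500001640367f367e10b285f7cb4556ee3e7707049000) (.leaf 0))) (.node (.node (.leaf 0x47f93fdd00000bc621b50a811af585361565879b05513e5866de) (.leaf 0)) (.node (.leaf 0x115428d10000228145fb01ff08e484940716538208d7407d924d) (.leaf 0)))) (.node (.node (.node (.leaf 0x17ec10c9000106ef020a155f0af60591a62b14b34083c17b2537) (.leaf 0x3cfb281d00013da651651fe218358573f65da6511b5118586295)) (.node (.leaf 0x3f0f3f2900011c1c15063ef7188105f6044f54e8787581518428) (.leaf 0))) (.node (.node (.leaf 0x9d327e8000010d726ba281606b68473f04277f2665613113786)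 (.leaf 0)) (.node (.leaf 0x494213fc000129c34ba44ba31c440451f467d1dc5d012a5fc15f) (.leaf 0)))))) (.node (.node (.node (.node (.node (.leaf 0x3be41b9e000001450469046816f60492b36fd59c2101a01136de) (.leaf 0x20c30b1e00012ff24db74ef70e9504710a6c02b460366e53770a)) (.node (.leaf 0xaf435f000014da0dee3437045505f66b7fd3532f508255a214) (.leaf 0))) (.node (.node (.leaf 0x4ab70da700010a8b1eab1eaa1c7284f1525293fb3731a23357bd) (.leaf 0x1bdb3d3c00014af852f04bf70cb48575d85571205dd64d70b7b2)) (.node (.leaf 0x3e0245d8000020db3fcb446a18610456a73954950501475866de) (.leaf 0)))) (.node (.node (.node (.leaf 0x1ebb1bb6000105c7122104ff0e358572b82a32da61660073441d) (.leaf 0xc802b3d00013a6c4173522f08340414433b55af4f632e049113)) (.node (.leaf 0x47e91b5a00011a9d3d0d0e1a1af50532ae5b02375fe7ae58655a) (.leaf 0))) (.node (.node (.leaf 0x165d3e6700010f892a152a140ac585b5f03c665610f5c870a2cb) (.leaf 0)) (.node (.leaf 0x1e0c4cbc000127de34ff3ce90e240597566424ca2ee4da33515f) (.leaf 0))))) (.node (.node (.node (.node (.leaf 0x23f5430e0000037e03ee0b6e0ef684b6615e53805b549768a7bd)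 (.leaf 0x42f0060a000134df423604381a358410904ce651564164586149)) (.node (.leaf 0x1145380e000017b024d338b508e404b55b79966672f69b04928f) (.leaf 0))) (.node (.node (.leaf 0x369f442e00010d00248e248d163285f67d7e524862e2343332cb) (.leaf 0)) (.node (.leaf 0x193347990000244c12cb1aad0c458476d738826e21f664537124) (.leaf 0)))) (.node (.node (.node (.leaf 0x407521d500000821189e189d18a784b35c43342576313e000333) (.leaf 0x23391ead000141404a6553500ee28533037800ec2d44da3337bd)) (.node (.leaf 0x1e7b1cc600001da8175240e80e278572cc2926974cd04b1497d9) (.leaf 0))) (.node (.node (.leaf 0x18ec1e820001122e15132bff0c370592fe0aa00f6f40c22957d9) (.leaf 0)) (.node (.leaf 0x2ab72f9200012bc910593fdd123384f49e16f2356ce78d124546) (.leaf 0))))))) (.node (.node (.node (.node (.node (.node (.leaf 0x3d4d44a3000100ba02990298184505b6871c705f6fb268156786) (.leaf 0x2dfb05c600002ee341de4add12b78570883e763606c4de12412d)) (.node (.leaf 0x46d5244a0000142e2d1732fa1ab484b3975045ac3c341f546113) (.leaf 0))) (.node (.node (.leaf 0x25af1d1d000009ee1d341d33105305f2d372922d18d3b002512d)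 (.leaf 0x20a74e19000047e452fb1c460e9204f77944550c1f212a5be2c7)) (.node (.leaf 0x3a8b2df4000120083153333016d10574781c6680187020428214) (.leaf 0)))) (.node (.node (.node (.leaf 0x25b900a100010532107702e7105385300d0d66f96c124b7bd12d) (.leaf 0x1cdd462d0000390532822e020cd485b6b031c1b74a06ba18b7b2)) (.node (.leaf 0x3a960f49000119e03c050aeb16d184d17e6967ff12c390428214) (.leaf 0))) (.node (.node (.leaf 0x2ec547f500010ee028a628b912d504b6e02785f87f76d82c7000) (.leaf 0)) (.node (.leaf 0x38755264000126f449a33595166784b7e116707c31c43d7865be) (.leaf 0))))) (.node (.node (.node (.node (.leaf 0x2ab82779000102ed09b609b512338513e34c9759673435262546) (.leaf 0x1d2251143f40000339b1512505b104184367a1ed33411f0db025000)) (.node (.leaf 0x539b2490000116f637a837a71ed28573a009118346808e2ab41d) (.leaf 0))) (.node (.node (.leaf 0x27d24f9900000c651e5d20a610b68457a159f33440773a7b2586) (.leaf 0)) (.node (.leaf 0x763273000023633b5246c8044784d4df19714602871c537335) (.leaf 0)))) (.node (.node (.node (.leaf 0x9342bb10000078a1700074806a384944c10d37612126729570b)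 (.leaf 0x30c8103200003f5c4d403a9c14360511991c452a25c03f113786)) (.node (.leaf 0x3dd52fe600011ce540024001185584b4a74b26565173da1562cb) (.leaf 0))) (.node (.node (.leaf 0x334b3e04000111802e092e0814860575e820c15a1c169528f32d) (.leaf 0)) (.node (.leaf 0x1099530b00002ab64b3d40be08d18537f154f4cf23c3022c7786) (.leaf 0)))))) (.node (.node (.node (.node (.node (.leaf 0x271b07fb000001d10635063410a28570bb5963004416ed049586) (.leaf 0x3a8c026a0000311a4f7e2d6c16d105903559a3b627e46c32d214)) (.node (.leaf 0x85841ae0000158635613560068685164172115a68e1ab28f428) (.leaf 0))) (.node (.node (.leaf 0xbf6485000000b29202e202d06f584d6e722a71159525a786537) (.leaf 0x27b729b600014eac52b7252310b384f41e2a865512f5ed41d12d)) (.node (.leaf 0x1b4a000b000021b344e929fb0ca405500154714b3a775562115f) (.leaf 0)))) (.node (.node (.node (.leaf 0x11062ad80000065b06f413c108e104d43a53959c38377a41d55a) (.leaf 0x47981c9800003bfc4be404c01af28512c832f6cf385027546537)) (.node (.leaf 0x4bed0c3800001b573e033e021c9605b1285992414e93de24d70a) (.leaf 0)))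 (.node (.node (.leaf 0x2d6b2cdf0001102f0517032312a705746279e39f7354de12412d) (.leaf 0)) (.node (.leaf 0x36285334000028cf2b83243316230517f52b31e26c632b734621) (.leaf 0))))) (.node (.node (.node (.node (.leaf 0x3c43014ada0000040c0d1d0d1c1a410437284d22c233f268518786) (.leaf 0x42c502a90000361d4f6003ef1a3404b03a3ae0f723202754668a)) (.node (.leaf 0x57853960000186639d2080204e58518012443982e843d2cb486) (.leaf 0))) (.node (.node (.leaf 0x18a7431200010da225fb25fa0c3504f66308830f65d60073441d) (.leaf 0)) (.node (.leaf 0x31a9298a0001252c22a43048145305341a2ca14604d33e537335) (.leaf 0)))) (.node (.node (.node (.leaf 0x4a570a81000108b81a2608721c6584f0fe33d1cb60f545149025) (.leaf 0x51d31aee0000433041ab53821e958472a177127d6bf58055a70a)) (.node (.leaf 0x51bb0b2100001e750ff041d61e9285710b06b27d6bf6c55fc70a) (.leaf 0))) (.node (.node (.leaf 0x10de5037000112dc2f251d2008d585d7af48a6561df75b70a786) (.leaf 0)) (.node (.leaf 0x11b53c3d00012ccb142328e508f384b5c17f025f7c84a21245fc) (.leaf 0)))))))) (.node (.node (.node (.node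 (.node (.node (.node (.leaf 0x114e08790000007601ad01ac08e405d0ce57a3560334b17d924d) (.leaf 0x2a2147c000012e5a25eb447d12230436db02419459f55f262546)) (.node (.leaf 0x51e52840000113da2ac8326e1e9604b3f904250c69337924d70a) (.leaf 0))) (.node (.node (.leaf 0x52e74328000009a21c751c741eb604f6655cf6ae40061368a124) (.leaf 0x4a770223000046a636072fde1c6684f03035525748a095113025)) (.node (.leaf 0x2a33267300011fa4432e12c712238473c90ef19433c4de26212d) (.leaf 0)))) (.node (.node (.node (.leaf 0x21f21a23000004ea0fa80fa70eb784528b09969767b2477867d9) (.leaf 0x12c6176c000038592a5d411e0a3604d2467305766455a715f734)) (.node (.leaf 0x4e59286e000019801eb518601e248533fe76317613b44b62115f) (.leaf 0))) (.node (.node (.leaf 0x1c6c462700000e8f28060b870cc70596b01900895ef43b4287d9) (.leaf 0)) (.node (.leaf 0x8af4731000126860de03f0f069305f6ce01a42665f4cc6de18b) (.leaf 0))))) (.node (.node (.node (.node (.leaf 0xa12259e000102a508d408d306c28453b57c03d66fb03918b149) (.leaf 0x23ad232f000033023b7f43c80ef205b37a53e69a3c404a3337bd)) (.node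 (.leaf 0x6284ae9000016a03712371106450517295113b62ba4fa6de734) (.leaf 0))) (.node (.node (.leaf 0x3708020f00000c13079c226d164105102e7b15766015626de734) (.leaf 0)) (.node (.leaf 0x2ea94246000122ee4665166b12d305364c2781940326d82c7546) (.leaf 0)))) (.node (.node (.node (.leaf 0x7be3f990000074016311630067585d60f48e222622545295537) (.leaf 0x229d01b100013e7f38fb40f20ed185b0290500da6173cb32d124)) (.node (.leaf 0x317d2bdf00011c882f320a1b144685b44e7211485e41ab28f149) (.leaf 0))) (.node (.node (.leaf 0x6f51762000111272d5e2d5d065784b2462105a31556f8537333) (.leaf 0)) (.node (.leaf 0x4ade2ce300012a3c23834bfb1c7585d46524a0ec69009f2957bd) (.leaf 0)))))) (.node (.node (.node (.node (.node (.leaf 0x17134b360000018b054f054e0ae18477313e95bf0a53081806de) (.leaf 0x4f22c1a000130914f414f4004d584545351a01d4e06f1428214)) (.node (.leaf 0x107b09350001152d34d234d108c78570e045b50878e75b2c7621) (.leaf 0))) (.node (.node (.leaf 0xf1f530800010ad910911f6908a185f7f141b3d623c38c124295) (.leaf 0x51751e5400014cbd2b934ec91e8684b2fb21219c48156028f2c7))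 (.node (.leaf 0x3516495b0000214a26ae071014e184d70062039864309f149486) (.leaf 0)))) (.node (.node (.node (.leaf 0x2aeb112f0000061112f112f012370571ae79739f1f85bc18012d) (.leaf 0x1da0429600013b363908525b0cf20416571af09e3684da3357bd)) (.node (.leaf 0x2a6611e400001afe3d86318a122704d1c13eb2eb57a78b41d546) (.leaf 0))) (.node (.node (.leaf 0x3ffa1b6e00010fdc2abf2abe18978552af6ac38a7c37e95182ab) (.leaf 0)) (.node (.leaf 0x181388d06120001285c38a94ab3167105b0912a17390302e72cb537) (.leaf 0))))) (.node (.node (.node (.node (.leaf 0x4f131308000103c50c490c481e418471da44d41045371c486262) (.leaf 0x1855307b000035834b554c3e0c2684b4b261a19175d49768a124)) (.node (.leaf 0x40e50800000180d394d285d04c205d7b900703e72629818b149) (.leaf 0))) (.node (.node (.leaf 0x2ca51c1900000d4e25442543127204b2be5b610c1d369b7d9156) (.leaf 0)) (.node (.leaf 0xfea53e7000024b442d947e808b605580844f3537d02d815f734) (.leaf 0)))) (.node (.node (.node (.leaf 0x16600bd40000086c196519640ac704111c21e5ea7a072c70a621) (.leaf 0x534305a00000422f51ce1b401ec40470850070fd49308e18b15f))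 (.node (.leaf 0x50b53e1800001e0a1487097e1e7284b5e94d11cb7c950a3357bd) (.leaf 0))) (.node (.node (.leaf 0x1fa84d1c000012862ff22ff10e550517626df3195d8781486124) (.leaf 0)) (.node (.leaf 0x52c21c0f00012c4f28584d1f1eb40452bd5ec0fd0107fe33515f) (.leaf 0))))))) (.node (.node (.node (.node (.node (.node (.leaf 0x89a0158000000fe03810380069285501f58775c1713465fc428) (.leaf 0x6560cb700012f6f2a9e27c8064684d13528d35820b0cf24d295)) (.node (.leaf 0x34f219a400001483339f1b1e14d784527e2257dd2526f1428335) (.leaf 0))) (.node (.node (.leaf 0x4ca60bf600000a3c1df51df41cb304d12160108959f545149049) (.leaf 0x205e39450001494f4dd951e70e8585d5792992f814064f48670a)) (.node (.leaf 0x1e3207e100002065249340590e258450b915130f61754a734180) (.leaf 0)))) (.node (.node (.node (.leaf 0x5072ad10000057c114d114c04e204f43a10b59c3882f062155a) (.leaf 0x37ff1037000039b42bf6520d165685f1994fe78f4624ea24d149)) (.node (.leaf 0x482403600011a3e3c893c8804d204561e1ff3582333b82ab149) (.leaf 0))) (.node (.node (.leaf 0x1042dbc00000f3229650ebb046404947353e35659304a33328f)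 (.leaf 0)) (.node (.leaf 0x1ffd1bbb0000276d49a54a030e5785b2b84dd1f72ee4206de7d9) (.leaf 0))))) (.node (.node (.node (.node (.leaf 0xb840e7c000003330a920a9106f20491656d24951bf63b70b6de) (.leaf 0x4782132c000034451d942aa31af20451dd6f01cf21980412d537)) (.node (.leaf 0x1269408a000017503832138f0a2705362555b3f5547270180335) (.leaf 0))) (.node (.node (.leaf 0x38b40c4e00000cb20b9123dc167284912977d3d019009770b55a) (.leaf 0)) (.node (.leaf 0x3ef2349f000023d0473007d018778455127b32844b93bd5865fc) (.leaf 0)))) (.node (.node (.node (.leaf 0x4071284b000007d617cc17cb18a78433f97423f1297026000335) (.leaf 0x14a9070d0000405926190ac30a930530a64c77854820db02518b)) (.node (.leaf 0xc212e4200011d43406d0db308250434810ac6680405c7124149) (.leaf 0))) (.node (.node (.leaf 0x3d960965000011d4130c0d6a185184d0e43ab2c233f47a518786) (.leaf 0)) (.node (.leaf 0x44871c1600012b4648bf2a571a7104f2be31559c64e4e200055a) (.leaf 0)))))) (.node (.node (.node (.node (.node (.leaf 0x3f4e3fde0001021707180605188505d61576c00544e581518428) (.leaf 0x39814b67000031be21ef0d9116920437362c322846a4765fc32d))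 (.node (.leaf 0x3ed13817000115e52aa8114f187484355e4cd70530541f12d28f) (.leaf 0))) (.node (.node (.leaf 0x28fd184b00000b7a1a1e201410d785b25c4676bd61e7892c7546) (.leaf 0x357f1ac8000051f153ae527814e685f29b4e365a19e5c31136de)) (.node (.leaf 0x4a052e3b000122133f5804e01c6104b4806503cc4f07832147bd) (.leaf 0)))) (.node (.node (.node (.leaf 0x3ce1247a000106a601f41493183504339c5c47b42ae7ae000295) (.leaf 0x43bb42e500003cbc21c504e21a5385765f2cc05b5a020e156621)) (.node (.leaf 0x524f23e500001bbb3e7c3e7b1ea405f38f25e6b77e62503337b2) (.leaf 0))) (.node (.node (.leaf 0x3a90475b000010812c192c1816d18416d257c5151a846c32d214) (.leaf 0)) (.node (.leaf 0xc3d422f000029444a1b1325082585b64a6e735866755f262149) (.leaf 0))))) (.node (.node (.node (.node (.leaf 0x3c31267f00010455013e0df818238433c98053f55357ae000335) (.leaf 0x14b80a39000136d64de951610a938510f65d97982d10db02518b)) (.node (.leaf 0x2fc60a5c000118c73a661d0912f504d0fa7b810c4f1314262518) (.leaf 0))) (.node (.node (.leaf 0x36dd2af000000df126aa26a9163685b43e0082482b31a068a786)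 (.leaf 0)) (.node (.leaf 0x1750e6043aa0000259b48923f7708870416724e927911060e0252ab) (.leaf 0)))) (.node (.node (.node (.leaf 0x393b46db000009051aec1aeb16838576c643e68b6db66448618b) (.leaf 0x451402bc0000443350873b111a8184903c6eb0c121904751832d)) (.node (.leaf 0x3b9538aa00011ed61a38424e16f184b56a66f07d6d32d7149486) (.leaf 0))) (.node (.node (.leaf 0x2e9541b70001132d0627312d12d184b6424396fa0d21452c7000) (.leaf 0)) (.node (.leaf 0x49c291c00002d44430e29b904d285940c59378f4a458f18b295) (.leaf 0)))))))))

/-- part of a table -/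
def entries99 : Trie := (.node (.node (.node (.node (.node (.node (.node (.node (.leaf 0x39874ec70001003200c000bf169204f78e4450cd7a312a5be32d) (.leaf 0x14873ccd00012dcf1163252d0a9104f5d07a543744d3b07bd32d)) (.node (.leaf 0x1b40baa0001138531e031df0475849117605739472073149537) (.leaf 0))) (.node (.node (.leaf 0x3b14e7d0001095502cd1bb504b38437827225b10e12d7149621) (.leaf 0x83153220000457b2f3406eb06838437f403a31761446455a2ab)) (.node (.leaf 0x355147f400001f40419642c014e48436e013170567d54333528f) (.leaf 0)))) (.node (.node (.node (.leaf 0x2d3600df0000049f0ed20ed112a384d0147e3636337132180546) (.leaf 0x1990090d000037a851934fee0c548410dc7282a44b003b5be15f)) (.node (.leaf 0x15021f4b000019253aeb3aea0aa10453165886513e038c124295) (.leaf 0))) (.node (.node (.leaf 0xdc02ac900000e3f275f204108760414394f916664e3447b2537) (.leaf 0)) (.node (.leaf 0x289b3a37000126130daf18e010d185759042235d3391cc70a586) (.leaf 0))))) (.node (.node (.node (.node (.leaf 0x3c1438870001025f07fc07fb182284956825b4eb10f17a12d214) (.leaf 0xda9133f0000325c39654e4508750531de7bb5df34f1d241d6de))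 (.node (.leaf 0x35032098000016413681368014e104733a41c07e79309f295486) (.leaf 0))) (.node (.node (.leaf 0x1cff518e00010bc621b6098f0cd785f7cc51a29e7170594287d9) (.leaf 0)) (.node (.leaf 0x436953710001228145fd45fc1a470537fd0d96750793da518621) (.leaf 0)))) (.node (.node (.node (.leaf 0x19fb2d89000006f0151d078a0c578574704e74fb5f93456de049) (.leaf 0x13d92eb700013da74bf244de0a7685348a5537e46226e915f537)) (.node (.leaf 0x3f52b1b00001c1d393930b004b784b44131d5ea49f63573470b) (.leaf 0))) (.node (.node (.leaf 0x48fd0540000110d72cb42a061c3585b0770672f216328378641d) (.leaf 0)) (.node (.leaf 0x417e1ac1000129c430a4103f18e585d29b01b65a4fc1475866de) (.leaf 0)))))) (.node (.node (.node (.node (.node (.leaf 0x21f34cd400010145046b046a0eb784775d20b2b025b17b7867d9) (.leaf 0x1b0631c200012ff34aa7197b0ca104d4cd0662f23721c8786180)) (.node (.leaf 0x24174a74000114da34393438102284f72034e6ee0ce4b1049000) (.leaf 0))) (.node (.node (.leaf 0x4020100b00000a8c1eac0d5218a20411965ee7ff1a829112d214) (.leaf 0x22e38811c1500004b023f76237516710432be2c668d5a12832cb486))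 (.node (.leaf 0x4d2c06a0000120db370017f41cc305909c0301f744c62f4287d9) (.leaf 0)))) (.node (.node (.node (.leaf 0x39d31944000005c81223122216968472751054371714a324d428) (.leaf 0xf93ed600003a715230166204578535fb5a50b44ac0ba486333)) (.node (.leaf 0x47bc362700001a9e11203d0e1af38595344ce25f5991645865fc) (.leaf 0))) (.node (.node (.leaf 0x1a4c3d3d00000f8a1fae00be0c850595d867919c4217815372c7) (.leaf 0)) (.node (.leaf 0x10ea2799000127df4a5b34ad08d70553e74227666a54d670a70b) (.leaf 0))))) (.node (.node (.node (.node (.leaf 0x32ff2ce70001037e0b700b6f147785f4653f225f06540d2cb5be) (.leaf 0x40b62f78000034e01b8c41c218b284d49c33168020b65c546734)) (.node (.leaf 0x1c2e1fb7000017b1211f38b60cc205d3201d52f231503918b180) (.leaf 0))) (.node (.node (.leaf 0x28263b1500000d012490248f10c304d5a01e922d76f2d92c712d) (.leaf 0)) (.node (.leaf 0x442e21760001244c0ce0385e1a6205d3544b077269665c12d486) (.leaf 0)))) (.node (.node (.node (.leaf 0xa66074b0001082118a0189f06c504d0ab62257670905932d734) (.leaf 0x53fc50e800014143535123701ed58597c151208740e43b32d124))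 (.node (.leaf 0x52b32cc700011da940ea40e91eb38474612891853ca04b2957d9) (.leaf 0))) (.node (.node (.leaf 0x193c460e0000123023c70ea50c458596ac72a27f2b933e486124) (.leaf 0)) (.node (.leaf 0x3248049a00002bca4cd94791146405106937558309144b70b24d) (.leaf 0))))))) (.node (.node (.node (.node (.node (.node (.leaf 0x35b300d7000000bb029b029a14f38470142ae7ef0420b02145fc) (.leaf 0x1add000d00012ee3146a4e730c9585b0015a52804d233e48670a)) (.node (.leaf 0x10d1380d0001142e32fc32fb08d584355b7012c24ab6192c7786) (.leaf 0))) (.node (.node (.leaf 0x9093e8e000009ef1d361d3506a20535f252857123c3fc335786) (.leaf 0x50b652c6000047e853cc43ac1e7284d7eb38b69a7ab4a8333025)) (.node (.leaf 0xe1645610000200914f719fe088184d69f00e15a1b03d57bd428) (.leaf 0)))) (.node (.node (.node (.leaf 0x40601ae4000105330182107818a70412a12607a22567c4000333) (.leaf 0x11a71b71000039062c1e51e608f304f2b10ee11d1b366a1245fc)) (.node (.leaf 0xbd846b7000019e13c0608f106f48516c22527333bb23f70b28f) (.leaf 0))) (.node (.node (.leaf 0x48781fc200000ee128bb28ba1c258513212c60f94542832cb41d)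 (.leaf 0)) (.node (.leaf 0x7321295000026f63f0834a606658451d329007d4b6154149486) (.leaf 0))))) (.node (.node (.node (.node (.leaf 0x47ab06a5000002ee09b809b71af305709c1530f42534e20005be) (.leaf 0x390a41230001339b505c417c16820556340c62ef4136b65fc32d)) (.node (.leaf 0x1080a0c000016f731e537a904640510f16e666653229c33324d) (.leaf 0))) (.node (.node (.leaf 0x145726b000010c651652132d0a8584f3d11572ef7fd35f025428) (.leaf 0)) (.node (.leaf 0x16b3d313c820001236426d22d0e18438435ca0c05086f514d15670b) (.leaf 0)))) (.node (.node (.node (.leaf 0xca0085d0001078a1702170108350410c76e73585b974d262295) (.leaf 0x2184f0432fd00003f5d399353101e410494ec72a27f30733e486124)) (.node (.leaf 0x3f05209500001ce61c624003188104b33a1c776e40817815632d) (.leaf 0))) (.node (.node (.leaf 0x4af339cb000011812e0a1a291c768475855d129f648392113025) (.leaf 0)) (.node (.leaf 0x1931f5e1f0800012ab60fd74c440e4685d31057e0ea6dc6d024d41d) (.leaf 0)))))) (.node (.node (.node (.node (.node (.leaf 0x45460391000101d1063706361a8504d05300415a3fe581156428) (.leaf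 0x2dd52f430001311a4f7f16f712b684b49626175779634415f000)) (.node (.leaf 0x17ed2c2600011587230335620af605b45442e1cf4dd0cb7b2537) (.leaf 0))) (.node (.node (.leaf 0x24fe239f00010b29202f1dc8103785d3887ee39e4595ff41d12d) (.leaf 0x17d61b4f00004ec740ed50860af484d2ac7c74b811034d7d928f)) (.node (.leaf 0x4a44240e000121b3453545341c650493937a169a76b2031497bd) (.leaf 0)))) (.node (.node (.node (.leaf 0x190a252b0000065c134413c20c440553ab5225161443465fc15f) (.leaf 0x28f0110f00013bfc2017507a10d78411ac80322d5d41112c712d)) (.node (.leaf 0x8ab43b600011b583e053e0406930576733857987210ff6de2ab) (.leaf 0))) (.node (.node (.leaf 0x539a31e9000010302b6f2b6e1ed28554d05321823785202ab41d) (.leaf 0)) (.node (.leaf 0x468535ef000128cf144b4b041ab104b53075d0192bb026586149) (.leaf 0))))) (.node (.node (.node (.node (.leaf 0x538e00140001040c01290d1e1ed205d0021ff7883e774c2ab41d) (.leaf 0x169014220001361d2e3410600ad18411f80f20c31031112c72cb)) (.node (.leaf 0x2a6147e70001186639d439d312270436df4532356336fe180546) (.leaf 0))) (.node (.node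 (.leaf 0x1977307200000da325fd25fc0c4784f4b20a83841704cc55a7d9) (.leaf 0)) (.node (.leaf 0x40a50dc50000252d48351ff718b204b15535e11e2a102712d734) (.leaf 0)))) (.node (.node (.node (.leaf 0x621524e000008b91a27197406450437df77b3b65b95626de734) (.leaf 0x448266a000043314dab2e2b04c40513c85001346915742ab113)) (.node (.leaf 0x3c4e23cd00001e7612fb41d7182405d38d6761346911be546113) (.leaf 0))) (.node (.node (.leaf 0x17dd1b1e000012dd1c9f308c0af485b2a86bb7056884d904924d) (.leaf 0)) (.node (.leaf 0x3c2a4c5b00002ccc2e414d66182305574b5da1725e547c586335) (.leaf 0)))))))) (.node (.node (.node (.node (.node (.node (.node (.leaf 0x3d62497f0001007601af01ae184704570276c7441af4a1518621) (.leaf 0x3a2b2f0700002e5c12da4e3116c205749123966840274c18b295)) (.node (.leaf 0xf73d0032f6000013db3270326f18410414ec35a2482903da1562cb) (.leaf 0))) (.node (.node (.leaf 0xbf40e60000109a21c771c7606f58491631751662382832cb486) (.leaf 0xc642e41000046a9300151e808270494810ab66c096414180335)) (.node (.leaf 0x86d160700011fa5432f281f068705b2204a74ef6a669c48618b)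 (.leaf 0)))) (.node (.node (.node (.leaf 0x26da21f8000104ea0faa0fa910758553605391ef51c77a41d518) (.leaf 0x2b9f442b0001385945dc13b2125185f67d5335f802a6b47bd586)) (.node (.leaf 0x379038d6000019813b7635a2165184156d4082d273f4646de214) (.leaf 0))) (.node (.node (.leaf 0x40be200e00000e901bb3280718b285d32671201d53b1e4546734) (.leaf 0)) (.node (.leaf 0x3cd202ad0000268745054948183484503a7125ac5286b8546113) (.leaf 0))))) (.node (.node (.node (.node (.leaf 0x224d1f39000002a608d608d50ec405b31542c4ca34358f2ab15f) (.leaf 0x32b46ad000133035022257d04a30576c16ca3ed0a057d295621)) (.node (.leaf 0x2a8153ad000116a007673713123204380269f7576c265e7d9586) (.leaf 0))) (.node (.node (.leaf 0x2d814e6700010c13226f226e12b20437802db5f80987407d9586) (.leaf 0)) (.node (.leaf 0x1b622a8b000022ef116546660ca70454335b90893502477867d9) (.leaf 0)))) (.node (.node (.node (.leaf 0x24b6141b0001074003371632103384d1f64400c412f67726212d) (.leaf 0x311e2a9600013e81520b4130144185d43425801d53158055a734)) (.node (.leaf 0x45241e7500001c893f7b3f7a1a830492fd3816b35ca14d51818b)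 (.leaf 0))) (.node (.node (.leaf 0x1a4219c5000011282d602d5f0c850452822992f84bd2274862c7) (.leaf 0)) (.node (.leaf 0x4b0e45a600002a3d45ae47881c8105d6a444d3fa3772a748670a) (.leaf 0)))))) (.node (.node (.node (.node (.node (.leaf 0x19e5431e0001018b055105500c5704b6635910894a02b56de7d9) (.leaf 0x2fb50e550001309212df47ee12f284b1623bf5ab54169b049156)) (.node (.leaf 0x2cce00910001152e06df2c09127505d00c15c62752677a180518) (.leaf 0))) (.node (.node (.leaf 0x440545db00000ada1f6b1f6a1a6104b6a74ce65a0d416458655a) (.leaf 0x50e11fb00004ccf41e753f204e205d1c243859c19722162155a)) (.node (.leaf 0x2d6f38440001214a44d144d012a705f56450e23501f314124546) (.leaf 0)))) (.node (.node (.node (.leaf 0x209c01b30001061112f312f20e918590292306986034fa6de70a) (.leaf 0xf1b0d0b00003b3734514b9008a185713b6317bc37e2df124149)) (.node (.leaf 0x2081340b00011afe090b3d870e9104350456b1b476c24055a2c7) (.leaf 0))) (.node (.node (.leaf 0x306316c500000fdd2ac12ac014270472382894f21af04b295621) (.leaf 0)) (.node (.leaf 0x4b1a0b260000285d4ab41e651c8185510b3f643f39b2275372c7)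 (.leaf 0))))) (.node (.node (.node (.node (.leaf 0x28874709000003c60c4b0c4a10d104f6c942235d7954d670a000) (.leaf 0x46bd370200013588159c4bc21ab285b5471442d236e027546734)) (.node (.leaf 0x124260144730000180e31fb394e10610436840d21ef77f55f124156) (.leaf 0))) (.node (.node (.leaf 0x45b8161800010d4e254507b21a938512234211bc43214d51818b) (.leaf 0)) (.node (.leaf 0x255228e3000124b447e916aa104584540822e6ee6b97777bd586) (.leaf 0)))) (.node (.node (.node (.leaf 0x37eb10170001086c19671966165605719726b1485e44ea28f149) (.leaf 0x2e3430c600004232230b536612c38494ba3b739f75e30270a12d)) (.node (.leaf 0x35bf3de200011e0a4163416214f385f5e620a3ee74b1952145be) (.leaf 0))) (.node (.node (.leaf 0x44b552cd000112862ff42ff31a7284b7eb77971155217a546486) (.leaf 0)) (.node (.leaf 0x3854526a00002c51390c4d2016648497e154b7057a663b62124d) (.leaf 0))))))) (.node (.node (.node (.node (.node (.node (.leaf 0x40ce10d3000000ff0383038218b405d1a81365af0356b8546113) (.leaf 0x3c19143500002f72162c317418228531f92ee7ed5313f412d734)) (.node (.leaf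 0x15774f210001148333a133a00aa684f79618d51559e2f17b2214) (.leaf 0))) (.node (.node (.leaf 0x295e3be200010a3c03181df610e585d5b90986d6157677124156) (.leaf 0x1a3310820001495053b945e10c8284719f1581b90b96b65be2c7)) (.node (.leaf 0x7b42220000206634084400044785764a2005f416a2a7537333) (.leaf 0)))) (.node (.node (.node (.leaf 0x186130710001057c114f114e0c270434b20632b04b008a149049) (.leaf 0x1bb943d3000139b451d830bc0cb28536761a37244036b5621124)) (.node (.leaf 0x1def354200001a3f3c8b3c8a0cf605f52403714f2cc3c768a7bd) (.leaf 0))) (.node (.node (.leaf 0x2f751beb00010f332967296612e684b2bb5c15dc4113c115f156) (.leaf 0)) (.node (.leaf 0x26b54fc70001276d4a04301b107284b7a63167583b730d7d9518) (.leaf 0))))) (.node (.node (.node (.node (.leaf 0x39e01797000003340a940a93169704124c22938a50b2b555a18b) (.leaf 0x3ae93086000134471d3546f816d70534b43184872bf23632d333)) (.node (.leaf 0x3be24910000017523834383316f60456fb19a4957c64e168a6de) (.leaf 0))) (.node (.node (.leaf 0x4cba218200010cb223de23dd1cb385535529a09d56757d295049) (.leaf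 0)) (.node (.leaf 0xa310414000123d047311f7006c38430604727dd6f546c428333) (.leaf 0)))) (.node (.node (.node (.leaf 0x13bf3f92000007d717ce17cd0a7585f60f11f65a28513241d6de) (.leaf 0x4f8d314b0001405b49d106b21e5105b4c26df31955b69c486262)) (.node (.leaf 0x33f92ee800001d4429cf406e149785348e4137857ec4a655a18b) (.leaf 0))) (.node (.node (.leaf 0x1a241830000011d52eb22eb10c8204925b08d19c4215b25be2c7) (.leaf 0)) (.node (.leaf 0x2910446e00002b4733cf4c2810e18416837bb6d65fb1d241d156) (.leaf 0)))))) (.node (.node (.node (.node (.node (.leaf 0x30bc1a4e00000218071a0719143385928d74e1e22fd63573470b) (.leaf 0x52de0d95000131be13743f3f1eb485d1513b42a43702f933315f)) (.node (.leaf 0xdfa28f4000015e635fc237708778554094547ac04f6772625fc) (.leaf 0))) (.node (.node (.leaf 0x207a4c7b00010b7a20ed20ec0e8685574f65f43f6d70cf24d2c7) (.leaf 0x6dd12650000520e535e4ffe065685b1ce25165100a7f828f295)) (.node (.leaf 0x175f175f00002215459645950ae485f2457b96375226ed7d928f) (.leaf 0)))) (.node (.node (.node (.leaf 0x16154b5b000006a7149514940ac184b7356595711ac11170a2cb)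 (.leaf 0x34b10c1a00013cbc4de8516b14d284312563e03e21b5b718b149)) (.node (.leaf 0x364c0600001bbc3e7e3e7d044584d74345f7256454cc55a734) (.leaf 0))) (.node (.node (.leaf 0x2eb70e33000110822c1a0a6e12d384f1601897590a63d970a546) (.leaf 0)) (.node (.leaf 0xb2d43b4000029453688276306e305b67336e2847212e77865fc) (.leaf 0))))) (.node (.node (.node (.node (.leaf 0x2e09359a000004560dfa0df912c105352b5103301a611170a586) (.leaf 0xc423d43000036d74b620f7508260455d91c535336e18e15f734)) (.node (.leaf 0x396402f4000018c81da43a6716870490444566076a62b56de18b) (.leaf 0))) (.node (.node (.leaf 0x1b9b2d9900010df1045226ab0cb185747157759b75d17b2cb41d) (.leaf 0)) (.node (.leaf 0x314a43670001259b0d771986144405566d5225504c03465fc68a) (.leaf 0)))) (.node (.node (.node (.leaf 0x40c71be7000109051aee1aed18b404f2bb4715af20865c546113) (.leaf 0x3832423a000144344025322a166284564b49a1b857c22c70b6de)) (.node (.leaf 0x208a232c00001ed74250424f0e9105537a4e76986030ff6de70a) (.leaf 0))) (.node (.node (.leaf 0x382603540000132e1045312e166204d04f2bf0d03a533870b6de)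 (.leaf 0)) (.node (.leaf 0x1e5b4cb200012d4443fe11270e268577560eb7246164e1113262) (.leaf 0)))))))))

/-- part of a table -/
def entries100 : Trie := (.node (.node (.node (.node (.node (.node (.node (.node (.leaf 0x106a05770000003300c200c108c705507b52605b7002d92c7621) (.leaf 0x75c138100002dd04c514de506668591e916049505049768a6de)) (.node (.leaf 0x3ac830820000138631e1219916d40514b41290f755758f18b113) (.leaf 0))) (.node (.node (.leaf 0x4b3c41df000109561bb71bb61c828596447c32a23961b15fc2c7) (.leaf 0x275e1a5d0000457c532a4f2810a685d29059f3344245a77b2000)) (.node (.leaf 0x227842d300001f41210c3eb70ec785165d37c0893673cb428049) (.leaf 0)))) (.node (.node (.node (.leaf 0x48148f3e81000004a00ed40ed30a9105f5f20613994a97777bd32d) (.leaf 0x1110456c000037a94b39369e08e184169f3d765a29927a41d6de)) (.node (.leaf 0x12928501fd9000019263aec0e0b10c584132364830011f6d870a000) (.leaf 0))) (.node (.node (.leaf 0xa925380ad000010e3f046c276010438511051ed6bd73050602512d) (.leaf 0)) (.node (.leaf 0x33924130000126141db548ea149284563802e75c5110c95fc428)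 (.leaf 0))))) (.node (.node (.node (.node (.leaf 0x2b534f590000026007fe07fd124584779a56675713d60a025000) (.leaf 0x1ca250d37570000325e4e734bbe104105b54d4e970857f60e025586)) (.node (.leaf 0x3ef103650000164236833682187784305023e7ef7c04010005be) (.leaf 0))) (.node (.node (.leaf 0x2f2d37db00000bc721b821b712e205b5575b610c24669b7d9156) (.leaf 0)) (.node (.leaf 0x16d6074d0000228445ff45fe0ad584d0ab76869229030470a2cb) (.leaf 0)))) (.node (.node (.node (.leaf 0x2c3233e3000106f01561156012628455001c20f546736a7d9156) (.leaf 0x19014aa500013da93682317e0c440437233b96b772d1b15be7b2)) (.node (.leaf 0x49341e4400011c1e09813ef81c438492f73c209d5674a66de049) (.leaf 0))) (.node (.node (.leaf 0x4d2d52a2000010d82cb523ce1cc305b7e70fe4d471046c4287d9) (.leaf 0)) (.node (.leaf 0x8a34cea000129c5228d4ba5069304775e5f38077e017f6de2ab) (.leaf 0)))))) (.node (.node (.node (.node (.node (.leaf 0x8e8175000000146046d046c06970512450b77982e210e48618b) (.leaf 0x471136a100012ff41286457e1ae284353e0b81667a33f4546537)) (.node (.leaf 0x1340420c000014db343b343a0a660416486bc7722013867b2486)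 (.leaf 0))) (.node (.node (.leaf 0x822848410200010a8c03311ead10c50516321d335d7c514570a000) (.leaf 0x4b2516f900004b07498248c91c8204b23b56d67814e1b15be2c7)) (.node (.leaf 0x2e5e20df000020dc446b322812c585d33f7be30c5391cc2c7586) (.leaf 0)))) (.node (.node (.node (.leaf 0x1bd553ca000105c8122512240cb484b80554b16c36923f6217b2) (.leaf 0x348f1a9200003a7234b1515014d105f2972012d2192174428214)) (.node (.leaf 0x34f6043600011a9e3d103d0f14d784d0620e766c6a4020428333) (.leaf 0))) (.node (.node (.leaf 0x3e40379500010f8a1f5c2a1618640415523aa58358417a12d24d) (.leaf 0)) (.node (.leaf 0x2c122f5f000027e04a5c3c4c12618454997956474f04de262156) (.leaf 0))))) (.node (.node (.node (.node (.leaf 0x68361e0000037f0b490b7104470515336791722096f8537333) (.leaf 0x2e5f0fcf000134e050cc50cb12c585f18f7ab3514693d92c7586)) (.node (.leaf 0x14c128d000117b10ec638b704660591d16fd59c55e1a01136de) (.leaf 0))) (.node (.node (.leaf 0x4b6815cb00010d01040424911c8605121b5193fa37737924d70a) (.leaf 0)) (.node (.leaf 0x19f933570001244d40993a750c578534f52383847a746455a7d9)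 (.leaf 0)))) (.node (.node (.node (.leaf 0x145a10cb0000082218a218a10a858551a642900540877702532d) (.leaf 0x41b6159c0000414727b7524018f384d2176dc28458a7b75865be)) (.node (.leaf 0xdbc0f9f00011daa269e1197087585918980923755227a1806de) (.leaf 0))) (.node (.node (.leaf 0x442130b6000112302f5005d71a620434b93503a8201790546486) (.leaf 0)) (.node (.leaf 0x32a4cf600012bca3e7144c704a305575f5312a6674207295621) (.leaf 0))))))) (.node (.node (.node (.node (.node (.node (.leaf 0x467e0c5a000100bb029d029c1aa785d12c6d116e2057b6000333) (.leaf 0x2b3617bb00002ee53b7b4e74124384d2514742eb1c56b4025546)) (.node (.leaf 0xfa0e0140320000142f07b51d61088104361e0dd0c10460db025428) (.leaf 0))) (.node (.node (.leaf 0x38592821000009f015c31d3716648533f71a33826e37f962128f) (.leaf 0x4bb8166a000147eb390d50341c9285122b72850c5fd05e5be2c7)) (.node (.leaf 0x1f014181000120092df6439f0e4404363f02d08132005e5be7b2) (.leaf 0)))) (.node (.node (.node (.leaf 0x552849032c00000534107a107910c505304c7516aa79772c70a000) (.leaf 0x4ca511570001390a4b9228901cb304b1b224c4d40600c22957d9))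 (.node (.leaf 0x30f211aa000119e13c083c0714378451bb59e1a725526a29570b) (.leaf 0))) (.node (.node (.leaf 0x6484ae800000ee228bd28bc06460517294ff03e0b137924d149) (.leaf 0)) (.node (.leaf 0x197f4f6f000026f749a424870c4785f79d7a329e37a0ff55a7d9) (.leaf 0))))) (.node (.node (.node (.node (.leaf 0x3af01c89000102ee09ba09b916d78412c65857640280de32d335) (.leaf 0x4086196e0001339d15232c7318b104d2776b0019099118586295)) (.node (.leaf 0x185036b8000116f937ab37aa0c2684153f4ba70322440a68a262) (.leaf 0))) (.node (.node (.leaf 0x1dcf506000000c6609c223370cf505f7b315109e50d4c57347bd) (.leaf 0)) (.node (.leaf 0x3ff10b450000236535b646c9189784310f3367851583da15618b) (.leaf 0)))) (.node (.node (.node (.leaf 0x154c22c80001078b024c17030aa405937146b42d7364d97d968a) (.leaf 0x1f1a345e00003f604ced15080e4485550d4c23875ee0c95be7b2)) (.node (.leaf 0x4d4b08c200011ce6400409d61cc40570d51126b75d034a18b15f) (.leaf 0))) (.node (.node (.leaf 0x332f4244000011822e0c2e0b148305f64c1994ef0e92a74862ab) (.leaf 0)) (.node (.leaf 0xa2520b300002ab74c464c4506c304b33c3935f4160236428333)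 (.leaf 0)))))) (.node (.node (.node (.node (.node (.leaf 0x505e049f000001d2063906381e6585d06970929f1892071497bd) (.leaf 0x2a39364d0000311c4f801d0e12238535365ad23534b4a2124546)) (.node (.leaf 0x1a72172800001588356329d10c8684523e3e33fa3ac69524d2c7) (.leaf 0))) (.node (.node (.leaf 0x47f4274700000b2b203120301af58493e032c65a5a57b558655a) (.leaf 0x51a5366d00004edc382b36101e9204b53a6881b452f1775fc70a)) (.node (.leaf 0x2a1b34af000121b40bc5453612228575147e65f87f734d7d9000) (.leaf 0)))) (.node (.node (.node (.leaf 0x4a24035c0001065c13c306ed1c6204904f6a53804f024e3337bd) (.leaf 0xf29092400013bfd467c520a08a30530df2ac0b454237b180333)) (.node (.leaf 0x3d3217d700001b5921f03e0618438452531f260231320e518621) (.leaf 0))) (.node (.node (.leaf 0x35f00b70000110302b712b7014f68411140a007a27c40a68a55a) (.leaf 0)) (.node (.leaf 0x4cc33223000028d034c41e391cb40474d525e6b77fb2f933315f) (.leaf 0))))) (.node (.node (.node (.node (.leaf 0x1df927120000040d0d200d1f0cf68533dc16009e75649768a7bd) (.leaf 0x2db443c60001361e51301b3b12b384967439a6890be37b18012d))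 (.node (.leaf 0x4dad07b00000186739d639d51cd305b0b60926977f40cc32d7d9) (.leaf 0))) (.node (.node (.leaf 0x2c2e28b500010da325ff25fe126205d4052e3341017322049518) (.leaf 0)) (.node (.leaf 0x285d40de0001252d35453aa910c585b62e6e86aa39a11170a586) (.leaf 0)))) (.node (.node (.node (.leaf 0x19232065000008ba1a291a280c45047336299319551227486262) (.leaf 0x3ea914d7000043334ae80df1187205320635e7e42dc02712d537)) (.node (.leaf 0x100a4e4c00011e760a7141d808c105577e52624868f2d92c7786) (.leaf 0))) (.node (.node (.leaf 0x186436bd000012de308e308d0c2704953f66f0895ef2671497d9) (.leaf 0)) (.node (.leaf 0x119d22b400002ccd4d3e4d6708f185b3702ac1b81f437b1806de) (.leaf 0)))))))) (.node (.node (.node (.node (.node (.node (.node (.leaf 0x18f63d9f0000007701b101b00c3784d5e07532132fc1542957d9) (.leaf 0x52e4073a00012e5c11a9232e1eb60490aa40b4107d4218113262)) (.node (.leaf 0x1bb221e0000013dc327232710cb284535e02801132c22c70b262) (.leaf 0))) (.node (.node (.leaf 0x20cb4c77000009a31c791c780e9505774f4ee2413ad2a753770a) (.leaf 0x39262903000146ac376e3c36168304d40b1ae60710564f5372ab))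 (.node (.leaf 0x31ef2bcc00011fa643314330145605f44d58a45c4e40cf28f295) (.leaf 0)))) (.node (.node (.node (.leaf 0xc2d5195000004eb0fac0fab082505b7cd15e62d04e0bf124295) (.leaf 0x40bf18050001385b4ea51fc018b285f25632068022a58b546734)) (.node (.leaf 0x17e626ba00001982245a0b590af604d3d173025d7fd5a715f486) (.leaf 0))) (.node (.node (.leaf 0x2e573a1500010e902809280812c584f58c31e30c7f65132c7586) (.leaf 0)) (.node (.leaf 0x1617142400012687494a49490ac184f1f831e2c243675b2c7786) (.leaf 0))))) (.node (.node (.node (.node (.leaf 0x50e23818000102a608a608d71e7604555e5070124734e168a7bd) (.leaf 0x29e21be4000033044aec2a6b10f60452bb3370b308c49815f518)) (.node (.leaf 0x47533a12000116a1300337141ae484758c17052502d65c12d24d) (.leaf 0))) (.node (.node (.leaf 0x116e095300000c142271227008e605d0e30a607d0a82f115f537) (.leaf 0)) (.node (.leaf 0x264a4062000122ef3d892ce910650556222206d611777a41d518) (.leaf 0)))) (.node (.node (.node (.leaf 0x24f24af80000074116341633103784572a5aa6f96bb13241d546) (.leaf 0x41064eca00013e84427d515c18e204d78e5ba1667a30a9546537))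 (.node (.leaf 0x3acf067b00011c893f7c1f4e16d405f0996a05015276182ab113) (.leaf 0))) (.node (.node (.leaf 0x3e4e282600011128056f1b34186405d3f73a26665326b854624d) (.leaf 0)) (.node (.leaf 0x4142220e00012a3d27584bfc18e404536273c55d1d858b54628f) (.leaf 0)))))) (.node (.node (.node (.node (.node (.leaf 0x45f051cd0000018c00bb05521a978417d063f2ea35226851818b) (.leaf 0x20702b27000030934f434f420e8684144221219c79d3de28f70a)) (.node (.leaf 0x6182a170001152f14ed34d3064485142a4c15fa5471775fc68a) (.leaf 0))) (.node (.node (.leaf 0xf361cdd00000adb1f6d1f6c08a384d2ce7653f519a417180335) (.leaf 0x18684f6200014ccf538f33480c2705179d1d92b06492d7149049)) (.node (.leaf 0x72f22eb0001214c3c0d256d066505f37363225d3ff09f295486) (.leaf 0)))) (.node (.node (.node (.leaf 0x9964b350000061202a512f406b284d73138b72b20a4a83332cb) (.leaf 0x2e584bd800003b3843cf0a0e12c585173f3b73302a830270a586)) (.node (.leaf 0x2ac93cee00011aff3d8830c112360535d26bc3120ee3867b2586) (.leaf 0))) (.node (.node (.leaf 0xf074fe400010fdd04fb2ac208a104f7a81a678f38f242262149)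 (.leaf 0)) (.node (.leaf 0x2bac1b090000285f32b83d2012530592a54812eb6d424b02512d) (.leaf 0))))) (.node (.node (.node (.node (.leaf 0x335d2f85000103c60c4c0242148685b49d3250c12ca3de28f32d) (.leaf 0xaff53410000358950fb047c06d585f7f600c3b36206f1428214)) (.node (.leaf 0x650524f0001180f24441e5006468417df7e03ce5b97f828f295) (.leaf 0))) (.node (.node (.leaf 0x3e920e9c00000d4f25460cc018718451685245bf0091475866de) (.leaf 0)) (.node (.leaf 0x3d460519000024b62b7b3ebf184504d0712fe7fa10311a5182cb) (.leaf 0)))) (.node (.node (.node (.leaf 0x3d8e2c5f0000086d196801a8185105d4587910066ca20e518786) (.leaf 0x39fc10980001423343b3494216978591a14dd79863a4206de2ab)) (.node (.leaf 0x23804e1000001e0b2dd612770ef104177902101279d2d7295025) (.leaf 0))) (.node (.node (.leaf 0x51a216f0000012870ee22ff51e9204523b1102804436c55be70a) (.leaf 0)) (.node (.leaf 0x3a6205500012c5143fa427004b304d3321d776642709f149621) (.leaf 0))))))) (.node (.node (.node (.node (.node (.node (.leaf 0x105a511c000100ff0385038408c58557c569005f49675b2c7786) (.leaf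 0x2e00470700012f7212442d0612c10416c93b73307aa30270a586)) (.node (.leaf 0x2d2836390000148433a333a212a305153565239f6f76fe180546) (.leaf 0))) (.node (.node (.leaf 0x456212fa00000a3d1df81df71a870451d96f250f6887db15618b) (.leaf 0x18315750000495343960f72047404721525e66629d2f933328f)) (.node (.leaf 0x42064ad1000120663fc8426a1a2204d72810872529058b12d734) (.leaf 0)))) (.node (.node (.node (.leaf 0x4ddd2cd60000057d115111501cd485b46240669973522618b7b2) (.leaf 0x2bb9277d000039b746991e7612538533e35d975934b0db025546)) (.node (.leaf 0x3275233900011a3f3c8d3c8c146784b37c48b32863e21c2cb5be) (.leaf 0))) (.node (.node (.leaf 0x421644be00000f34170429681a2284d6887177ff59e6b812d214) (.leaf 0)) (.node (.leaf 0x342214770000276e2ab8082a14c20451fe30578f00a52018b295) (.leaf 0))))) (.node (.node (.node (.node (.leaf 0x50900c42000103350a960a951e718411291022a07be5ae214025) (.leaf 0x1d82574449f0000344850974d1710478496867696bd5d772e025546)) (.node (.leaf 0x21f515f600011752383507930eb784b21f35c1f72ee6282cb7d9) (.leaf 0))) (.node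 (.node (.leaf 0xc054c0d00010cb323e023df082404b7437311345de30d04968a) (.leaf 0)) (.node (.leaf 0x25ad2a73000023d1473234c6105305b4321356f95c17147bd546) (.leaf 0)))) (.node (.node (.node (.leaf 0x49b1141a000107d717cf06c11c538431f64133a46ce42055a7d9) (.leaf 0x445100640001405f33a653351a648430091443820701a454628f)) (.node (.leaf 0x3d5009d300001d453f573df418458410ed1c705f6151781562cb) (.leaf 0))) (.node (.node (.leaf 0x40d0043e000011d62eb30d2e18b484106267b5fa43829112d68a) (.leaf 0)) (.node (.leaf 0x29f2007000012b482da52f1c10f684500a0f637f4dc6237b2518) (.leaf 0)))))) (.node (.node (.node (.node (.node (.leaf 0x46114e8d0001021806ea071b1aa18437846610190997b5586295) (.leaf 0xe695035000031c04fb93c9208870537af4112794451790252ab)) (.node (.leaf 0x373150f9000115e635fd27fa16438437c239c48764c69c537333) (.leaf 0))) (.node (.node (.leaf 0x435f199d00000b7b20ef20ee1a4585f27c5a46560e847a156786) (.leaf 0x3d5c331d0001521d53e253e718458594ee6037f23e0268156786)) (.node (.leaf 0x3de32c48000122151e10444a18570474563e11e26a558151870b)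 (.leaf 0)))) (.node (.node (.node (.leaf 0x52f63216000006a8149714961eb684d4d33555a20314e1113262) (.leaf 0xfef27b000003cbe43b5229708b605f3e90a67ff7532f115f214)) (.node (.leaf 0x2a0f402300011bbc0aac1954122205f61c19d31202a322049586) (.leaf 0))) (.node (.node (.leaf 0xbaa2be9000010832c1c2c1b06f305544f5890f45ca40d7865be) (.leaf 0)) (.node (.leaf 0x12e83160000129454b5229200a370514c40b57dd20937b41d333) (.leaf 0))))) (.node (.node (.node (.node (.leaf 0x39c23d0a000104560dfc0dfb16960455d558a2286791e828f428) (.leaf 0x1ea250a04b3000136d72f745162104105506b1ce6ee0b52e47bd586)) (.node (.leaf 0x15c10898000118c808323a680ab40430d246b42d25936b7d9113) (.leaf 0))) (.node (.node (.leaf 0x55a53e400000df2259126ac04e48558082053820e46cd62124d) (.leaf 0)) (.node (.leaf 0x1b2d22410000259c3ec23fda0ca205b3670a701163d23f70b262) (.leaf 0)))) (.node (.node (.node (.leaf 0x1bf92710000109061af01aef0cb78533dc06709d6f679c7867d9) (.leaf 0x48703a4500004437402f539c1c2584159139712764121c2cb41d)) (.node (.leaf 0x2ff1289700001ed8425128e912f68434022cf5dc7296e915f518)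 (.leaf 0))) (.node (.node (.leaf 0x52a942450001132e0628312f1eb305364c1c92136302672957d9) (.leaf 0)) (.node (.leaf 0x352a06a800002d464c50280f14e305509c2c97ac20f0b07345fc) (.leaf 0)))))))))

/-- part of a table -/
def entries101 : Trie := (.node (.node (.node (.node (.node (.node (.node (.node (.leaf 0x3160051c00010033008300c314460410714ff03e56437924d149) (.leaf 0x4e1345c000002dd321fa05c01e228476a602801167222c70b262)) (.node (.leaf 0x9db1b1200011386160331e206b68572a83550c36e04e1113786) (.leaf 0))) (.node (.node (.leaf 0x9040776000009571bb91bb806a20490ae1af43130e4da3352cb) (.leaf 0x9c40bc90000457e507053b306b604911b4946927ca18a113786)) (.node (.leaf 0x26e01f5c00011f413c9812f6107604131875e6d67be3867b2156) (.leaf 0)))) (.node (.node (.node (.leaf 0x1f983106000104a00a7b0ed50e548514be4bc14a5ba0e25be15f) (.leaf 0x1f67418a000137a93b901bd60e4704f63f45f3a43a24cc55a7d9)) (.node (.leaf 0x32980508000119291b3507ac147185107036d4b328543d786486) (.leaf 0))) (.node (.node (.leaf 0x3902470e00000e4027610b0c16820456c967d4e856b12a5fc32d)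 (.leaf 0)) (.node (.leaf 0x16ee41a4000026153bd148eb0ad705d64126c3ed4d076170a70b) (.leaf 0))))) (.node (.node (.node (.node (.leaf 0x281466b00010260080007ff04920436bb67a5ce0f803b5fc32d) (.leaf 0x330713190001325e40934b51148204f1db5224e87713465fc428)) (.node (.leaf 0x4647043300001643368436081aa404f06202942d6a41be12d113) (.leaf 0))) (.node (.node (.leaf 0x45e047f700010bc721ba21b91a970416e04211bc67d14d51818b) (.leaf 0)) (.node (.leaf 0x45804b6600002285460146001a910417361e12287a317851832d) (.leaf 0)))) (.node (.node (.node (.leaf 0x34a43d82000006f11563156214d20495de12945c39122618b149) (.leaf 0x35d5437300003daa52c9413814f484b66f1dd71b2c34da33324d)) (.node (.leaf 0x4708528400001c1f3ee51c8b1ae20517e536968d077790546486) (.leaf 0))) (.node (.node (.leaf 0x29651749000110d80d492cb610e604b2444f95c64c63447b2518) (.leaf 0)) (.node (.leaf 0x146347c000029c64ba61c35046604d5104ad07a46513768a55a) (.leaf 0)))))) (.node (.node (.node (.node (.node (.leaf 0x42d52c42000101460058046e1a3484b4561445d36e61a4546113) (.leaf 0x267e3b2800012ff52fcf4dba106685d5a159f5c61c35a77b2156))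 (.node (.leaf 0x2ba91d16000114db343d343c12530532d31aa39f6f7714025546) (.leaf 0))) (.node (.node (.leaf 0x4b6731b400000a8d1eaf1eae1c8604f4cb2a51b97294a328f70a) (.leaf 0x166b2e2700004b08537041bb0ac705747e31e3763d45132c770b)) (.node (.leaf 0x3fb500dd000020dd3a5d1455189384b0147232cd3df79f1562ab) (.leaf 0)))) (.node (.node (.node (.leaf 0x2d8e0013000005c91227122612b205d00219d312631322049586) (.leaf 0xf251b7700003a732ebf236d08a304b2b13cf17241e653180335)) (.node (.leaf 0x1a2d204200011a9f3d123d110c8205b3310e419c3ac05e5be2c7) (.leaf 0))) (.node (.node (.leaf 0x3550179800000f8c2a182a1714e484124c25576a0033fc33528f) (.leaf 0)) (.node (.leaf 0x22ec4c1c000127e13a574a5d0ed705974568c09d6ea3cb32d049) (.leaf 0))))) (.node (.node (.node (.node (.leaf 0x3c0401180001037f00fd0b7218220490183aa11e55541f12d734) (.leaf 0x214b51b1000134e2153550cd0ea40577cf2bf1dc5cc33870b15f)) (.node (.leaf 0x29fa18b1000017b2316d38b810f68552691596d65d918e7b2518) (.leaf 0))) (.node (.node (.leaf 0x3543516700000d022492203814e40477ca5ec3741d87fe33528f)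 (.leaf 0)) (.node (.leaf 0x4fec054d0000244e47960c421e560590777c80ea4c97fc24d180) (.leaf 0)))) (.node (.node (.node (.leaf 0x49c443e30001082218a418a31c540496791da1dc5d00e25fc15f) (.leaf 0x1a3d4a4300014148451553520c8285b71d1d83fa35b5b25fc2c7)) (.node (.leaf 0x269288a00011dab0ec0301204870534004af6b33bb7815372ab) (.leaf 0))) (.node (.node (.leaf 0x35cd2a59000112312d200fe414f405b42f6421fd2ed54333528f) (.leaf 0)) (.node (.leaf 0x76e22e300002bcb4cb74cda066705d37320a3ee6e31952145be) (.leaf 0))))))) (.node (.node (.node (.node (.node (.node (.leaf 0x24e4247f000000bc029f029e103704939c79639e3bc65341d546) (.leaf 0x1c9b2d9b00012ee74e764e750cd18574716c74104ce626428262)) (.node (.leaf 0x190747960001142f32fe32fd0c4404f6d72e24ca2fc6b65fc7b2) (.leaf 0))) (.node (.node (.leaf 0x4fb02f98000009f11d3806d81e5384149e4c34d412f5626de049) (.leaf 0x33df0211000047ed53cd0886149685f02f1054374fc69524d32d)) (.node (.leaf 0x1a7b45ee0001200a3c6943a00c868576a85923fa4217d624d2c7) (.leaf 0)))) (.node (.node (.node (.leaf 0x24b01d700010534107b04ed048605702b2d10052304ea28f32d)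 (.leaf 0x14e702de0000390c294543330a9704f0417a51bc45d3b07bd18b)) (.node (.leaf 0x2f982abf000119e23c0a3c0912f185143870f6124e5414180518) (.leaf 0))) (.node (.node (.leaf 0x4e8753a500010ee228bf28be1e3204f8024892e17af2f0621124) (.leaf 0)) (.node (.leaf 0x3a304e80000026f848050fdb16c284178404f0194b458f2ab295) (.leaf 0))))) (.node (.node (.node (.node (.leaf 0x4e9238da000002ef09bc09bb1e3284556d6a419178a64d621124) (.leaf 0x23e240a40000339e324b0de90ef604562a0e169a3633c768a7bd)) (.node (.leaf 0x476f23ea000016fa225d36561ae505f38f7167a419e7b70006de) (.leaf 0))) (.node (.node (.leaf 0x3e732da400010c6603cd233818678474723dc1072be4e25865be) (.leaf 0)) (.node (.leaf 0xa520e2d000123654548171d06c484515e7705fa43029818b113) (.leaf 0)))) (.node (.node (.node (.leaf 0x22560b120000078c170517040ec484d10a0fb12073c34a18b15f) (.leaf 0x34e2229800013f613c780da714d704536e4653f116258e428333)) (.node (.leaf 0x2239306d00001ce738501b790ec28534b06a70ea5da61d2ab41d) (.leaf 0))) (.node (.node (.leaf 0x1515259a0000118311692e0d0aa184b3b56b93d62335c7124149)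 (.leaf 0)) (.node (.leaf 0x12c0294500012ab7362e1bc60a360414112b17252b23c17b2734) (.leaf 0)))))) (.node (.node (.node (.node (.node (.leaf 0x11aa4cfb000101d2063b063a08f305575f63107c2f72df1245be) (.leaf 0x112546750000311f18d5418108e304b6bc1a52847e055f1245fc)) (.node (.leaf 0x2987373c000015893565356410f104f54b5f05c60615bc180156) (.leaf 0))) (.node (.node (.leaf 0x3145295600010b2c0e072032144404b41332401e1314765be68a) (.leaf 0x235280a358900004edd537b50ef10c105552945b1412715132c7586)) (.node (.leaf 0x279e3e33000021b545373cec10b285d5ec3b230016f34d049000) (.leaf 0)))) (.node (.node (.node (.leaf 0x381c0b690000065d13c513c4166185911239d7e419817d786486) (.leaf 0x2c27447000003c0422205289126204f68405634160f6ed049518)) (.node (.leaf 0x1892124e00011b5a3e083e070c348451c760414a5dd4b53357b2) (.leaf 0))) (.node (.node (.leaf 0x266f282e000010312b732b72106605f3f76ce50376830a15f156) (.leaf 0)) (.node (.leaf 0xa6b2d26000028d137202afe06c50574692dc3b60aa6f132d214) (.leaf 0))))) (.node (.node (.node (.node (.leaf 0xe445130000040e0d220d2104570496931f43f17d36f8537333)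 (.leaf 0x22f822d70000361f285b47c60ed78513725121856ab1ee32d049)) (.node (.leaf 0x297523fd0001186739d839d710e684b39178c1ef69355c15f518) (.leaf 0))) (.node (.node (.leaf 0x3a38200500000da406db260016c285132629d35853b6ba2ab295) (.leaf 0)) (.node (.leaf 0x380a0a6b0000252e47f5483616610550fb57768d5123472cb537) (.leaf 0)))) (.node (.node (.node (.leaf 0x3e2f4da7000108ba12a11a2a186205f7703a27111c66b8546537) (.leaf 0x4322136400014334488b53831a430451e54be1a74ba7db15670b)) (.node (.leaf 0x33a5493900011e770c1720a8149304b6fd4fd38a2120ba5372ab) (.leaf 0))) (.node (.node (.leaf 0x260c1718000112de1f93308f106105923d3f36d67a974d124518) (.leaf 0)) (.node (.leaf 0x1f7a345700012ccd4d6848250e4785550d2e84d44cd5806de7d9) (.leaf 0)))))))) (.node (.node (.node (.node (.node (.node (.node (.leaf 0x2c1f12b70001007701b301b2126185f1d53c85dc79466a262518) (.leaf 0x1a75186f00012e5f4e3249020c8684b2607e01b94bd7f828f2c7)) (.node (.leaf 0x15083e88000013dd2e3e31e10aa10515f233908b5584a2262149) (.leaf 0))) (.node (.node (.leaf 0x44d61cff000109a31c7a16e51a7484d2d07a770530558b12d28f)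 (.leaf 0xeb71ce6000146af4d3253aa089384f2cf37780741a6b402518b)) (.node (.leaf 0x1af18da00001fa716d94332047505f26c52c7e42dc207149537) (.leaf 0)))) (.node (.node (.node (.leaf 0x4d490332f2000104eb0fae0fad1c410474ec1996ae11b71c486262) (.leaf 0x4b7228420001385d51bf51be1c868453f924f43f39b4ea24d2c7)) (.node (.leaf 0x2bff0ec80001198222e53b77125785f16b53319434e6b47bd546) (.leaf 0))) (.node (.node (.leaf 0x3a6b36c800000e91280b280a16c70575402dc7647d358e32d333) (.leaf 0)) (.node (.leaf 0x328b061700002688494c494b14710570914db07e67f2472cb486) (.leaf 0))))) (.node (.node (.node (.node (.leaf 0xc553d4b000002a708d908d8082684b5d96d468018730b15f214) (.leaf 0xe764ea00001330414311f12088784d78a00e60754c3d57bd2ab)) (.node (.leaf 0x6d81b2f000016a337151b3606568512a97c208b5f156028f149) (.leaf 0))) (.node (.node (.leaf 0x6040cb400000c162273227206440491350e401e23a05e5be68a) (.leaf 0)) (.node (.leaf 0x322c4eee000022f03ed83da114620597926d249559863b70b6de) (.leaf 0)))) (.node (.node (.node (.leaf 0x2015215e00010741163616350e8184b35071e67872342055a2c7)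 (.leaf 0x22c4416200003e87515807fc0ed404963d12907f25b58f18b15f)) (.node (.leaf 0x28e234b900001c8a28e23f7d10d704551760f1e346b76170a546) (.leaf 0))) (.node (.node (.leaf 0x33db1844000011292d622d61149685725c0e97545611e824d428) (.leaf 0)) (.node (.leaf 0x31dc472e00002a3e1c41257414548596cb7285ac77603b5be113) (.leaf 0)))))) (.node (.node (.node (.node (.node (.leaf 0x4d246530001018c0554055304d48456b92065a956a74c2ab113) (.leaf 0x3d9138dc000130943f873686185184356d6d752a73f79f156786)) (.node (.leaf 0x4ccc146d0000153012d634d41cb40591fc56a1dc5d070d33515f) (.leaf 0))) (.node (.node (.leaf 0x62508d800010adb1f6e14f5064504b0d63c245735c4646de214) (.leaf 0xc82317a00004cd33a3212ec08340454c657a5011fe6ed7d968a)) (.node (.leaf 0x4b8848000001214e0be144d21c910516e107127d5fd6be5372c7) (.leaf 0)))) (.node (.node (.node (.leaf 0x18b043160001061212f612f50c358416632bd2da372186734180) (.leaf 0x229f1eaa00003b394c7c05330ed185f30374926e5e16f1428262)) (.node (.leaf 0x3f9a3a3b00011b001bce3d8918918555906ac4377067e9518428) (.leaf 0)))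 (.node (.node (.leaf 0x1c2c204a00010fde205e2ac30cc205933150018375d2262ab41d) (.leaf 0)) (.node (.leaf 0x51b30e500001285f0eb84ab51e9284716202e1b452f0c95fc70a) (.leaf 0))))) (.node (.node (.node (.node (.leaf 0x43283fcc000003c70c4e0c4d1a430516144d237633b12b518621) (.leaf 0x24d702a0000135894c6846d5103684f03a03270850e2f17b2000)) (.node (.leaf 0x45794bd0000018103950394f1a8785373f0d968b11579f5182ab) (.leaf 0))) (.node (.node (.leaf 0x533d36e400010d4f254825471ec385b54237c08942e62f4287d9) (.leaf 0)) (.node (.leaf 0x1c204402000124b63cb519480cc204167b2636c32d65742ab180) (.leaf 0)))) (.node (.node (.node (.leaf 0x4d104dfd0001086d094f19691cc284177677807222f5b72ab41d) (.leaf 0x220490130e700004235534653671c410434bc36f31b4aa33e537124)) (.node (.leaf 0x13f5377200011e0b2bba41640a7784b54f2717ac29d4a22625fc) (.leaf 0))) (.node (.node (.leaf 0x16b253250001128821e816a40ad38457f41de6025a02d970a621) (.leaf 0)) (.node (.leaf 0x15ef461c00002c524d0624cb0ab605f6af71f01d53149815f734) (.leaf 0))))))) (.node (.node (.node (.node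 (.node (.node (.leaf 0xb660761000001000387038606e504d0ad1063983db2472cb486) (.leaf 0x3009374100012f731aef4eb9142205354c03c05f6014da3332cb)) (.node (.leaf 0x51c753890001148424dd33a41e9504f8004e76985fb3456de2c7) (.leaf 0))) (.node (.node (.leaf 0xac152f200010a3d1df91ddd06d40437f01685f77e558f18b113) (.leaf 0x39a33b1f000049603d9c51a116930475a06c038a21266e5372ab)) (.node (.leaf 0x2f94071f0000206844013ecc12f18490a77d40f554127a180156) (.leaf 0)))) (.node (.node (.node (.leaf 0x237a28ad0001057d115311520ee68554035341ca5e0095113025) (.leaf 0x4bb736f1000139b7520e2d991c9284f54406b27d5236b65fc2c7)) (.node (.leaf 0xd090a0300001a403c8f3c8e08640530f128866641974004924d) (.leaf 0))) (.node (.node (.leaf 0x288e528800010f34296a296910d105d7e548a35d3d875b70a000) (.leaf 0)) (.node (.leaf 0x86f3b750000276f36361092068705f5aa0f82790bd66e5372ab) (.leaf 0))))) (.node (.node (.node (.node (.leaf 0x3a873662000003360a980a9716d104f53a0e74eb70e48c428734) (.leaf 0x20232030000134481cb150980e8204732f00343f3360435fc2c7)) (.node (.leaf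 0x8ee198d000017533510296b069705d27b6c038a52266453718b) (.leaf 0))) (.node (.node (.leaf 0x9727df1a0300000cb423e223e110b685f2890f66aa8082d87b2000) (.leaf 0)) (.node (.leaf 0x4b330f45000123d1473447331c8284717e35267814e2fa5be2c7) (.leaf 0)))) (.node (.node (.node (.leaf 0x3f2447b0000007d817d012ad18830496da0dc3173c93da15618b) (.leaf 0x30284837000040643a29399114230516e54f705b3115b421470b)) (.node (.leaf 0xe8f3cfa00001d463fe5406f089105f5d44f17541973b002532d) (.leaf 0))) (.node (.node (.leaf 0x165502d9000111d62c4b2eb40ac584b04151c52a1d914570a2cb) (.leaf 0)) (.node (.leaf 0x316d44a800002b4941573cae144605b6873df3ba2937f824d295) (.leaf 0)))))) (.node (.node (.node (.node (.node (.leaf 0x466802cb00000219071d071c1aa705104063d5f4547026586335) (.leaf 0x3143278a000131c030934e9c14440473e550b5504d112a5fc68a)) (.node (.leaf 0x1f0530f1000015e735fe0d3e0e4404b4bd06a6b746f0e25be15f) (.leaf 0))) (.node (.node (.leaf 0x1ca949e200010b7b20f120f00cd205371215230174545018b41d) (.leaf 0x2a5c396c0001521e437813d3122685957b5533300d36e915f000))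 (.node (.leaf 0x1ef637bd00002216276445970e3784d55453100f6fc207295049) (.leaf 0)))) (.node (.node (.node (.leaf 0x5f40cf9000106a8149813c304f584913a2fb4b328a628786537) (.leaf 0x7f7332200003cc04df44f2b067784f4f023c28e3544167345be)) (.node (.leaf 0x383f12b400001bbd37013e7f166285f1d529707a69675570b55a) (.leaf 0))) (.node (.node (.leaf 0x12ff16790001108305372c1d0a3785f22e40076452741741d335) (.leaf 0)) (.node (.leaf 0x1b184ba600012947391c12d20ca185173c4cb6dd4036282cb41d) (.leaf 0))))) (.node (.node (.node (.node (.leaf 0x4a7b2145000004570dfe0dfd1c6685734f5423cc4f04e11137bd) (.leaf 0xbab43b0000036dd2e1f1aa706f30576730b107c7c21c87865be)) (.node (.leaf 0x19b61240000018c91f0c10190c5584d1c70557247162a7537124) (.leaf 0))) (.node (.node (.leaf 0x1f7349f600000df31f8326ad0e478477153a64d46574186de7d9) (.leaf 0)) (.node (.leaf 0x12f50b50001259c3edd1cf7046505f7be28947f05826a295537) (.leaf 0)))) (.node (.node (.node (.leaf 0x42854b14000009071af21af11a3204b72f350457063790546214) (.leaf 0xa470bd200004442480040d706c404f11c1120f700274c18b113))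 (.node (.leaf 0x18a5090600001eda425342520c3504b0dc3e0127551186214180) (.leaf 0))) (.node (.node (.leaf 0x5fa05700000132f3131313004f585507b1063984dd7042cb537) (.leaf 0)) (.node (.leaf 0x9102e9f00002d4734750b6006a28414887806564363fc333786) (.leaf 0)))))))))

/-- part of a table -/
def entries102 : Trie := (.node (.node (.node (.node (.node (.node (.node (.node (.leaf 0x1d4341b0000003400c500c404768495056743ea38e1a068a6de) (.leaf 0x3589182400012dd34de74de614f105325928647f66d202295537)) (.node (.leaf 0x17e050270000138731e431e30af60417ad59d73932130b7b2486) (.leaf 0))) (.node (.node (.leaf 0x1ea346f7000109571bbb1bba0e350476c838f6dd0bc416214180) (.leaf 0x3e46006e0000457f34243d14186404d0095ba55d2067dc54624d)) (.node (.leaf 0x403b370500001f4242c126f418a285754736701d27e0a9546214) (.leaf 0)))) (.node (.node (.node (.leaf 0x2bdd0f1a000004a10ed70ed6125585b17348145a7f072e025000) (.leaf 0x11bd35cb000037aa5194290608f385b52e3d128e0741ec1245fc)) (.node (.leaf 0x39d72fc20000192a3aed3a22169684f4a40e97540f87d624d32d)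 (.leaf 0))) (.node (.node (.leaf 0x52cd2f8400010e40276327621eb405b49d1f114b61e50a33315f) (.leaf 0)) (.node (.leaf 0x37f504db000126153f453a39165684b06d61b7d211471328f295) (.leaf 0))))) (.node (.node (.node (.node (.leaf 0x50b8457200000261080208011e728516a01312a031e543335025) (.leaf 0x295223ff000032604e234b8910e58453917ce1ef4c6242124518)) (.node (.leaf 0x16c202dc000116432f4136850ad50450416460a33622d970a786) (.leaf 0))) (.node (.node (.leaf 0x43c02b6a00000bc821bc21bb1a550414464bd69206e3da5182cb) (.leaf 0)) (.node (.leaf 0x38c23ab30000228646022a6a167404559816155d04f33862128f) (.leaf 0)))) (.node (.node (.node (.leaf 0x4c7a1a67000106f1156515641ca68552923555a213f095113124) (.leaf 0x976280900013daa525d52ca06a784d3f35e83763b4416734621)) (.node (.leaf 0x327c19d700001c2039363a7414678592852dd32859343d2cb5be) (.leaf 0))) (.node (.node (.leaf 0x31fb1120000010d906252cb714568571ae02203e1220cf24d295) (.leaf 0)) (.node (.leaf 0x48283a07000129c64ba72b751c2305158a3f918515943d2cb049) (.leaf 0)))))) (.node (.node (.node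 (.node (.node (.leaf 0x22933e20000001470470046f0ed18475eb00c5a2260059428124) (.leaf 0x3de9181c00002ff61c8d4be3185705325853f5ea73812b156621)) (.node (.leaf 0x353c1f13000014dc343f343e14e38593111142e94485b47345be) (.leaf 0))) (.node (.node (.leaf 0x54549c500010a8d1eb11eb004e404b70f16237480223f70b28f) (.leaf 0x37e0444a00014b0839814f7416560416815a63585b87f824d295)) (.node (.leaf 0x48c22473000020de446c13e71c3404539c22b4ca0ae75570b15f) (.leaf 0)))) (.node (.node (.node (.leaf 0x50ca287b000005ca122912281e750553ff6202573b709f1497bd) (.leaf 0x936509c00003a75296817c406a384d7ba62e5b10e109f149621)) (.node (.leaf 0x1e66418e00001aa03d143d130e2704d63f7c13a46761542957d9) (.leaf 0))) (.node (.node (.leaf 0x2279393900000f8d2a1a2a190ec78535784720c83310de428049) (.leaf 0)) (.node (.leaf 0x374a4e98000127e24a5f4a5e16440557874521347803465fc68a) (.leaf 0))))) (.node (.node (.node (.node (.leaf 0x340f45a1000003800b740b7314c105f6a40e66cc0a202032d214) (.leaf 0x13af2eb3000034e33d7043ab0a7505f48a15c1b862277a18055a)) (.node (.leaf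 0x147f1759000117b238b910250a8785f2455664ef06b2e40252ab) (.leaf 0))) (.node (.node (.leaf 0x2c72379e00010d0324942493126684555275a5ab7012d87b2156) (.leaf 0)) (.node (.leaf 0xb9f2fd10001244e24ca479706f285f4a512679b0553386216de) (.leaf 0)))) (.node (.node (.node (.leaf 0x28393cd30000082318a618a510c38535d11d36f973030270a12d) (.leaf 0x51571a8c00004149535319081e8584f2965482a25bd0ff6de70a)) (.node (.leaf 0xa6c160f00001dac40eb1cae06c50592207e168024c62f428214) (.leaf 0))) (.node (.node (.leaf 0x1a3924be0000123327e80f330c828533a27c32a26a103b5fc70a) (.leaf 0)) (.node (.leaf 0x27301f6400002bcc21b9417410a384131a3e865512f2f341d12d) (.leaf 0))))))) (.node (.node (.node (.node (.node (.node (.leaf 0x1a123e42000100bc003102a00c818455ee1382f80b908255a2c7) (.leaf 0x29b44e8400002ee848d54c9a10f284978416537f4c732e7d9518)) (.node (.leaf 0x35d312f100001430330032ff14f48471d926d7056884a833524d) (.leaf 0))) (.node (.node (.leaf 0x29b8166f000109f11d3913bf10f285122b7fb5c67cd7407d9156) (.leaf 0x173b0df1000147f14ab630460ae385715907b2e961f3142625be))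 (.node (.leaf 0x94326ab0000200b43a243a106a60473cf64c57177528768a2cb) (.leaf 0)))) (.node (.node (.node (.leaf 0x1df319c200000535107c0fae0cf68472821931e64bd5c3113025) (.leaf 0x6d253d60000390d28a4458306568458064fe78f1676d024d295)) (.node (.leaf 0x26349c6000019e33c0c3c0b048704770f16b68b67a22748618b) (.leaf 0))) (.node (.node (.leaf 0x2714357300000ee3171028c010a284952831670813a65e7d9586) (.leaf 0)) (.node (.leaf 0x325d0aa4000026f949a649a5146485b10119671b7eb63b70b24d) (.leaf 0))))) (.node (.node (.node (.node (.leaf 0x35981195000102ef09be09bd14f18511ba36273968e265149486) (.leaf 0x3bb106b5000133a036fe484b16f38430a037e3ee6141cd2145be)) (.node (.leaf 0x22e84a0b000116fa261c23d60ed705171677414c2de0cc32d7d9) (.leaf 0))) (.node (.node (.leaf 0x159b2cf400010c6723391fe90ab18574660e066805378d124295) (.leaf 0)) (.node (.leaf 0x1bce354900002366142f46ca0cb405d52444a1dc71722c70b7b2) (.leaf 0)))) (.node (.node (.node (.leaf 0x4ae824d60001078c023b17061c760513a54750ec1e94971137bd) (.leaf 0x168504c700003f634b2f189e0ad104b06c4397f21b56192c7786))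 (.node (.leaf 0x1cb4d5100011ce726f314fe047605776809c79b19061368a55a) (.leaf 0))) (.node (.node (.leaf 0x19a3254d0001118321d32e0e0c550473ad67127f28b2a7486124) (.leaf 0)) (.node (.leaf 0x61d230c00002ab8420c2c04064485b37763a6e217e4045fc113) (.leaf 0)))))) (.node (.node (.node (.node (.node (.leaf 0x1a132516000001d3063d063c0c818473aa46a3fa42134555a2c7) (.leaf 0x1d9a2d94000031214ded42ab0cf185547129a0ec35b2b6295025)) (.node (.leaf 0x337d12d60001158935673566148785b1d75116b34bc4fa6de18b) (.leaf 0))) (.node (.node (.leaf 0x36623a4000000b2d20331ea8162704559104c1e26e626a29570b) (.leaf 0x33402fca00014edd53f5530414860414a43df4904927f824d428)) (.node (.leaf 0x45530ab9000121b5127c45381a858471026f215a0b77db15632d) (.leaf 0)))) (.node (.node (.node (.leaf 0x27a4115e0001065d13c6038e10b30491b27bb6552ce1d241d546) (.leaf 0x45aa18fa00013c043b4736c61a9305526f2cc7981f65811562ab)) (.node (.leaf 0x41412d5d00001b5b1ea425dd18e404346d6f376d4583e612d24d) (.leaf 0))) (.node (.node (.leaf 0x9084079000010322b752b7406a20516246424122a3543335786)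 (.leaf 0)) (.node (.leaf 0x1a953e48000028d24b064b050c9184b5ee4131b46c84a655a70a) (.leaf 0))))) (.node (.node (.node (.node (.leaf 0x3c1803d50001040e0d240d2318228510574cd3b66ca41f12d734) (.leaf 0x26f047a00001361f4dae3a9a10768416d90603270f10cb15f156)) (.node (.leaf 0x376b2bd40000186839d93633164605744e2a562d2754a328f295) (.leaf 0))) (.node (.node (.leaf 0x3e11188c00000da51973238618618432636163d060d4010006de) (.leaf 0)) (.node (.leaf 0x2da32dd50001252e2dbb3c2b12b30474753e963606030818012d) (.leaf 0)))) (.node (.node (.node (.leaf 0x4bb92ba1000008bb1a2c1a2b1c9285344a08f28000e1b15be2c7) (.leaf 0x2f0a37d5000043354a92290412e10555573dd10c58d5ed41d156)) (.node (.leaf 0x45e60b3f00001e7841da41d91a9704d10d75680745d4a115618b) (.leaf 0))) (.node (.node (.leaf 0xb83ed5000012df3091309004558515fb56b01d53b24055a734) (.leaf 0)) (.node (.leaf 0x45c093c00012cce3ea44d6904c48590e06a70f053e61d2ab113) (.leaf 0)))))))) (.node (.node (.node (.node (.node (.node (.node (.leaf 0x63a32b90000007801b501b406458554e55487ff2dd0ff6de734)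 (.leaf 0x2c2950d400002e614e3331b412620537c03bc5dc43c30d7d9518)) (.node (.leaf 0x1faf3100000113dd327432730e5505f4be04601171a340537124) (.leaf 0))) (.node (.node (.leaf 0x3333f72000109a41c7c1c7b04a384760c18f6026da207149621) (.leaf 0x4ed443e5000046b1406748d21e348496792521b75b623f70b7b2)) (.node (.leaf 0x2437401900011fa7433337bf102384f61b47e6557672df12412d) (.leaf 0)))) (.node (.node (.node (.leaf 0x4e4f4697000004ec0fb00faf1e2405f6c044a1dc45922c70b7b2) (.leaf 0x364a44550000385e4f3e51c016260556823c52c25e45c368a2cb)) (.node (.leaf 0x4f9a0849000019832e4a3b781e518550c66870870b5340486124) (.leaf 0))) (.node (.node (.leaf 0x15ee198e00010e910f4d12900ab605d27b7676806ca18e15f734) (.leaf 0)) (.node (.leaf 0x273343cb000126884499494d10a38476744aa5563ca77a180546) (.leaf 0))))) (.node (.node (.node (.node (.leaf 0x5099457c000002a808db08da1e718536a04d52a07411cd214025) (.leaf 0x15010e700000330649c850230aa104316502308b1515c7262149)) (.node (.leaf 0x11448961fe7000116a3371737161c3284d3244910116af22170b124) (.leaf 0)))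 (.node (.node (.leaf 0xd6827d200000c172275227408670513ec0ac3ee7370bf1245be) (.leaf 0)) (.node (.leaf 0x2b84cc3000022f146684667049385175a22938a2d12b555a18b) (.leaf 0)))) (.node (.node (.node (.leaf 0x4d1341b600010742163816371cc28476424053013f329818b180) (.leaf 0x1c29492800013e88261206290cc20536fc2e56c315351d2ab180)) (.node (.leaf 0x1a74419300011c8a335b3f7e0c868496401f619c35b71328f2c7) (.leaf 0))) (.node (.node (.leaf 0x2a7f19920000112a2d642d63122785f27c15c68934e77a180546) (.leaf 0)) (.node (.leaf 0x91f395000012a3e4bfe4bfd06a285f57a0022c2726123335786) (.leaf 0)))))) (.node (.node (.node (.node (.node (.leaf 0x2bc64a5f0000018d05560555125504d71e7cd6fa2743d57bd586) (.leaf 0x10fe09ff0001309526bc215f08d785d0ef6b277c38b2d970a621)) (.node (.leaf 0x1d5a3d5a0001153034d634d50ce58555da4623d33816ad2147bd) (.leaf 0))) (.node (.node (.leaf 0x4551235f00000adc1f701f6f1a8584337e6eb0c16c015d518428) (.leaf 0x259225ba00004cd447fd52c610518453b94f170878a3d5025586)) (.node (.leaf 0x1f3e1f030000215044d444d30e4585d31044d4106b02a7486124)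 (.leaf 0)))) (.node (.node (.node (.leaf 0x4d6351c100000613049f12f71cc50477d00e62e13e862632d262) (.leaf 0xddb28fb00013b39298a1f1808768574095c977248d2f17b2537)) (.node (.leaf 0x1d0331c900001b010cd23d8a0ce10474cd2893d34d204b2957bd) (.leaf 0))) (.node (.node (.leaf 0xbf489005ec00000fdf223f214b1c3284108d5de4102456b5621124) (.leaf 0)) (.node (.leaf 0x1968275a00002860422b423d0c470513e11bb6970294fa55a049) (.leaf 0))))) (.node (.node (.node (.node (.leaf 0x3aa34e32000103c70c500c4f16d204777d1ff3586673b82ab149) (.leaf 0x3bbf137a0001358e383b4ea216f385f1e75f67ac26b54a7345be)) (.node (.leaf 0x4cb4f77000118103952395104d405779e3be5af7365202ab68a) (.leaf 0))) (.node (.node (.leaf 0xea11b7600000d502549225908930432b13962ea3e30db7bd18b) (.leaf 0)) (.node (.leaf 0xe98530e000024b74648282908918517f17df3994a95067bd32d) (.leaf 0)))) (.node (.node (.node (.leaf 0x212c48f00000086e196b196a0ea20596f61250da34256e621124) (.leaf 0x144b09e50000423845cf36cb0a850570ee1572ef6d36b402532d)) (.node (.leaf 0x46e221db00001e0c3f1712061ab704535c6d116e78447c000335)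 (.leaf 0))) (.node (.node (.leaf 0x4eaf2987000012892ff72ff61e3305f41a21b09d52e17b7867d9) (.leaf 0)) (.node (.leaf 0x2bd6505d00012c524d224d21125584d7b164a30c7aa3d57bd586) (.leaf 0))))))) (.node (.node (.node (.node (.node (.node (.leaf 0x2aef23700001010003890388123705f38303123546677a180546) (.leaf 0x1b129892f6700012f7436d74c5e10f105349a3d21ef7a56fe41d156)) (.node (.leaf 0x3d5e03170000148533a51f78184585d04648f6920d567e5182cb) (.leaf 0))) (.node (.node (.leaf 0x1b5c3d5500000a3e1dfb1dfa0ca48595da2521b75ef23f70b7b2) (.leaf 0x25fd28130000496353780fac105785b3f614e6557a872e7bd546)) (.node (.leaf 0x33fe1a010001206844020b48149785d28901a4260334cc6de18b) (.leaf 0)))) (.node (.node (.node (.leaf 0x5c255c28330001057e0199115410458593f824670813a63c025586) (.leaf 0x3c631cbe000039b828664c1e18250472ca7b33ba1c03bd586295)) (.node (.leaf 0x1323d25136000011a403c902ac9184304b1e50dc5084613da156621) (.leaf 0))) (.node (.node (.leaf 0x253e364900000f36296b265a104385d5365236f96c135f7bd12d) (.leaf 0)) (.node (.leaf 0x47a247b60000277042c2396a1af30456da3720f45ca47c0005be)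 (.leaf 0))))) (.node (.node (.node (.node (.leaf 0x2dde032d000103360a9a0a9912b685d04c75a45a5f06237b2586) (.leaf 0x382f28b70000344a339b353b166205f4053260d005822c70b6de)) (.node (.leaf 0x42d3498e0001175338361f2a1a3484770672d5736a565c12d113) (.leaf 0))) (.node (.node (.leaf 0x1dc2454b00000cb523e423e30cf504569d6151e671532a734025) (.leaf 0)) (.node (.leaf 0x45031a8000123d30eb6473504c48414c96845a91ba51d2ab68a) (.leaf 0)))) (.node (.node (.node (.leaf 0x344e4bc5000107d817d217d114c405d73e40f01e05a29818b113) (.leaf 0x40fd324400004066525e443218b785b4db2607a277d164000335)) (.node (.leaf 0x19194edb00011d46407140700c4485379163a1766494045fc15f) (.leaf 0))) (.node (.node (.leaf 0x2abd42e4000011d72eb52d85123385b65f2713650be0b226212d) (.leaf 0)) (.node (.leaf 0x29b00d8300002b4a4c90434810f28411503167585bd65e7d9156) (.leaf 0)))))) (.node (.node (.node (.node (.node (.leaf 0xaeb4d3200010219071f071e06d50577650587257a1390428214) (.leaf 0x49570c6f000031c2468639ce1c4484f12e6d514a63312a5be15f)) (.node (.leaf 0x50aa360b000115e72c252ad01e720555325901cb6592503357bd)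 (.leaf 0))) (.node (.node (.leaf 0x4e9425b200000b7c20f320f21e328493b919608740e63b70b124) (.leaf 0x10a52a4c0000522b48a0498308d304b42e4f067561a6d82c770b)) (.node (.leaf 0x3a4802c4000122172650459816c40510403a35af4785b72ab113) (.leaf 0)))) (.node (.node (.node (.leaf 0x37c05205000006a9149a149916540417d71da5af7e50e25fc113) (.leaf 0x4f2b040d00003cc251de50191e4305705c4bf08310917f55a049)) (.node (.leaf 0xc9e386a00011bbe38800e47083485d5665f25fa10b34d04968a) (.leaf 0))) (.node (.node (.leaf 0xca2b9704af000010842c1f2c1e125184f06a7cd6fa4aa3d57bd586) (.leaf 0)) (.node (.leaf 0x3cee2bc2000129484b533f0d183505d44d13345c49d3bd586295) (.leaf 0))))) (.node (.node (.node (.node (.leaf 0xb281228000104570dff0ab806e30511c54447ef4826287865be) (.leaf 0x47344006000036de4a9950921ae384961a2b92e95197b55865be)) (.node (.leaf 0x4bad356d000018ca10153a691c9205b52767a49b58d03b5fc70a) (.leaf 0))) (.node (.node (.leaf 0x46c60f2800000df426af26ae1ab404d17545e5500286b812d113) (.leaf 0)) (.node (.leaf 0x4bd949b40000259d133a3b0d1c9585370e56b1b41ce24055a2c7)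 (.leaf 0)))) (.node (.node (.node (.leaf 0x2e9c24920001090702b50bb112d18593a01176fa0ac7892c7000) (.leaf 0x4a9314b2000044454a63518f1c7184720420a1ca1d30b0214025)) (.node (.leaf 0x3e19293b00011eda38e727f5186185340f4330d01c613e0006de) (.leaf 0))) (.node (.node (.leaf 0x2a7305100001132f3133313212278470710312353165ed18012d) (.leaf 0)) (.node (.leaf 0x1976479100002d48449b45ff0c4784d6d717329e2fc41855a7d9) (.leaf 0)))))))))

/-- part of a table -/
def entries103 : Trie := (.node (.node (.node (.node (.node (.node (.node (.node (.leaf 0x31283a050000003500c700c6144305158a36f423355538537333) (.leaf 0x27e11ef800002dd54dbc4de810b704330e47b6bd7f15c726212d)) (.node (.leaf 0x2bf91aad0001138706472bf112578532997436895b3179025546) (.leaf 0))) (.node (.node (.leaf 0x334a08c500000958185d1bbc14860550d52a57d112e4ea28f32d) (.leaf 0x10222a430001457f21fd0ee308c304542e0a136131a1cc2c7621)) (.node (.leaf 0x2e424f9f00011f4215b942c212c50457a17be30c7963042c7000) (.leaf 0)))) (.node (.node (.node (.leaf 0x4a26447c000004a20ed90ed81c6204d6845901cb60f234335025)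 (.leaf 0x67e4082000137aa18a71e2f064785d62516b0b44ac64f486333)) (.node (.leaf 0x114a29e50000192b0eab3aee08e405542424958357534d7d928f) (.leaf 0))) (.node (.node (.leaf 0x3e56105700000e4127652764186484d19b3673820700a954628f) (.leaf 0)) (.node (.leaf 0x4243aea000126171a7b223604c304959d48d7a241e43b428335) (.leaf 0))))) (.node (.node (.node (.node (.leaf 0x35b23dd50001026100aa080314f38455e529b5215a66002145fc) (.leaf 0x8610d21000132604ff7103d068704313f0a57484347814862ab)) (.node (.leaf 0x326523d60000164420fe1bfd146704b38e35c25f5e91ea2cb5fc) (.leaf 0))) (.node (.node (.leaf 0x22b7255b00010bc821be21bd0ed284f3ae53218201b2982ab180) (.leaf 0)) (.node (.leaf 0x3f6751c40000228846030522188704f7d02d42791f947a5182ab) (.leaf 0)))) (.node (.node (.node (.leaf 0x5032f22000006f21566004b04e20474932662374a72316216de) (.leaf 0x1803263c00013dad3f851f190c240473c45ec0fd3a77fe33515f)) (.node (.leaf 0x1529473a00011c203ef90e360aa30536ce6523f10eb6fe180335) (.leaf 0))) (.node (.node (.leaf 0x213c01b2000110d92cb808380ea285902916a2e1188097621262)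 (.leaf 0)) (.node (.leaf 0x3f882588000129c8221c4ba818910513b453f75c2e812b15632d) (.leaf 0)))))) (.node (.node (.node (.node (.node (.leaf 0xdd72ac10001014704720471087684f4390324b30e64987b2486) (.leaf 0x4a0145dc00002ff91f973a3e1c610436a74f701260f5ae214025)) (.node (.leaf 0x23e32027000014dd3440140b0ef604732c19a3805b54e168a7bd) (.leaf 0))) (.node (.node (.leaf 0xfdb01da00000a8e05cb1eb208b485702b34e6625284b1049113) (.leaf 0x3e5f3b2d00014b094d0a2435186485f5a16fc3827371e454628f)) (.node (.leaf 0x1d143e49000120de446d03250ce18495ee46e0126c82032957bd) (.leaf 0)))) (.node (.node (.node (.leaf 0x17bf3b0b000105ca122b122a0af385f59f50e28405c3141245be) (.leaf 0x1ca52d7f00013a763abe4dc10cd204b46f7eb0f932c57418b180)) (.node (.leaf 0x2c8f14d200011aa03d15309c127105f2060e35ab52666a262518) (.leaf 0))) (.node (.node (.leaf 0x26e1102400010f8d1a952a1b107604319813937f7ab2947b2156) (.leaf 0)) (.node (.leaf 0x21463b9f000027e32c2148310ea404d5b062b0fd71222170b7b2) (.leaf 0))))) (.node (.node (.node (.node (.leaf 0x3327472206000103800b760b7510a604f36234b60b15c2d815f000)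 (.leaf 0x4ed23057000034e635e94fa61e348454af4f616c69f2216217b2)) (.node (.leaf 0x11ac4b2d000117b338bb38ba08f30597306e73287c274d2625be) (.leaf 0))) (.node (.node (.leaf 0x4639180900000d04249624951aa28532565042d2589291546214) (.leaf 0)) (.node (.leaf 0xc683c1f0000244f1198269d08270515bd8094872bf27a180333) (.leaf 0)))) (.node (.node (.node (.leaf 0x365e19940000082418a818a7162685d27c223656726137113786) (.leaf 0x380b17130000414a25265354166105723d1063985987042cb537)) (.node (.leaf 0x2ac5319400011dac40ec0ecb123604b4c83323510ad6e97b2000) (.leaf 0))) (.node (.node (.leaf 0x70a2c72000112332f510a53066405545b0bb76d31c12333328f) (.leaf 0)) (.node (.leaf 0x308d314d00002bcd4b934cdb143205b4c27002c26b150a3352cb) (.leaf 0))))))) (.node (.node (.node (.node (.node (.node (.leaf 0x444e1186000000bd02a202a11a6405d1b63035832647dc12d24d) (.leaf 0x1289167600012ee94e774ce30a3405322e2db50152732e7d9113)) (.node (.leaf 0x97052f6000114303302330106a78417f03e07667e5186214621) (.leaf 0))) (.node (.node (.leaf 0x15e250a0000009f21d3b1d3a0ab60457bb0df5766b12f115f214)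 (.leaf 0x53934953000147f2335d2da01ed284770018c18242b74c2ab41d)) (.node (.leaf 0x40e80c540000200c43a31f6218b705112c4334256447b5000335) (.leaf 0)))) (.node (.node (.node (.leaf 0x51310d8d00000536107d066c1e828431507c32a25bd03b5fc70a) (.leaf 0x489c2c030001390d47eb23341c328594521a372465b7f9621262)) (.node (.leaf 0x3c4f3e92000119e3089d3c0d182405f5f31365af6346b8546113) (.leaf 0))) (.node (.node (.leaf 0x45492aa900010ee328c228c11a850534365544e8687268518428) (.leaf 0)) (.node (.leaf 0x1ca23c9c000026fa49a740100cd20455cc6a00ea10a34a2ab180) (.leaf 0))))) (.node (.node (.node (.node (.leaf 0x1a0720fd000002f0099509bf0c8104f3436cb43f2d55806de70a) (.leaf 0xa4e0664000033a2505d0e1806c405d0981d50f752903918b113)) (.node (.leaf 0xe7507a8000016fb36542799088784b0b558d6b34bc24b02518b) (.leaf 0))) (.node (.node (.leaf 0x4480192900000c6819640f251a710412733a14950697ae58655a) (.leaf 0)) (.node (.leaf 0x4a50233f000123663a531cbc1c6584137c7753d348a202295025) (.leaf 0)))) (.node (.node (.node (.leaf 0x2efb3e030000078d14e0170712d78575e81c32eb0ae4d670a12d)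 (.leaf 0x43f7348e00003f643bcd53111a5784f5117564f226d67e15670b)) (.node (.leaf 0x51d6244f00011ce812e124981e9584d3977872410f341855a2c7) (.leaf 0))) (.node (.node (.leaf 0x2ed64a94000011842e102e0f12d584d7221c345a4aa1cc70a586) (.leaf 0)) (.node (.leaf 0x47944df000002ab94c4325151af28497761442226d31a4546486) (.leaf 0)))))) (.node (.node (.node (.node (.node (.leaf 0x13064c82000101d304d2063e0a6404d75137055d58436a04924d) (.leaf 0x41c0d0c0001312222a04cff04c285913b7787bc6505b72ab149)) (.node (.leaf 0x43653a4c0000158a356935681a4704b5916c41e26a579f51870b) (.leaf 0))) (.node (.node (.leaf 0x1587241000010b2d203520340ab104f39402b0195f638c262295) (.leaf 0x23aa4a1100004ee5483650be0ef20557170793cc5b51a23357bd)) (.node (.leaf 0x17972592000021b6452b45390af184f3b53eb79b0465ed41d6de) (.leaf 0)))) (.node (.node (.node (.leaf 0xfd0dd40001065e01df13c7045785b15728c7dd1966be486335) (.leaf 0xeb33c3900003c061f4b4a5a08938475c16252cd3af2e40252ab)) (.node (.leaf 0x10652b1700011b5b38a61f6b08c704b4411d06027765c870a621) (.leaf 0)))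 (.node (.node (.leaf 0x1fef3b3a000010332b772b760e5705f5a45f314c71d4cc6de7d9) (.leaf 0)) (.node (.leaf 0x13101298000128d23eac3a880a648411d33bf52507069b04928f) (.leaf 0))))) (.node (.node (.node (.node (.leaf 0x130f22e60000040f0d260d250a6405f3732e355d26432204924d) (.leaf 0x1e729001478000036202adc30d910e10411fe3f03275666fe180156)) (.node (.leaf 0x21ac232300011868080d39da0eb205937a1626ae80523f70b262) (.leaf 0))) (.node (.node (.leaf 0x532e094200010da52601219d1ec305d0e106909d52e48c32d7d9) (.leaf 0)) (.node (.leaf 0x11384d970000252f4837117d08e385176f47b3284325c72625fc) (.leaf 0)))) (.node (.node (.node (.leaf 0x3b524de5000108bb1a2e1a2d16e48457754e64b802d4b533524d) (.leaf 0x4f8653ab000043373e6541a81e5104d8026822e10ce64f537124)) (.node (.leaf 0xad5485200011e7841db189906d484b6e72736e263861d18b113) (.leaf 0))) (.node (.node (.leaf 0x2a11531b000112df30920e2b12228437f361e30c7f64d9049586) (.leaf 0)) (.node (.leaf 0x5d249c800012cd04d6a4a7704f484570f49a63767a22c70b24d) (.leaf 0)))))))) (.node (.node (.node (.node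 (.node (.node (.node (.leaf 0x248231360001007801b701b610320454c145135d6527477d9586) (.leaf 0x45a43b1200012e612bcb0e991a930495a00b938a56c12b5182ab)) (.node (.leaf 0x2fc2724000013df3275039b04978593dd28c7981d86be4862ab) (.leaf 0))) (.node (.node (.leaf 0x222e4b05000009a51c7e1c7d0ec205d72d30510400103918b180) (.leaf 0x1d92251b000146b1234620ce0cf18453aa59e1e642126a295025)) (.node (.leaf 0x47251e7b00001fa84334163a1ae304b2fd62a28472113e5865fc) (.leaf 0)))) (.node (.node (.node (.leaf 0x23884b0d000104ec0fb20fb10ef105172d7753d36ac202295025) (.leaf 0x1f3218d48f80001385e47d04fa70eb105b6f62dd78861779c2cb180)) (.node (.leaf 0x419636ac000119833b79079e18f284d53e6ab25d3217dc546486) (.leaf 0))) (.node (.node (.leaf 0x25531ad00000e92280d280c048684b4c972115a4137fc28f32d) (.leaf 0)) (.node (.leaf 0x504c07000026891280494e044684174349e45c3f271328f295) (.leaf 0))))) (.node (.node (.node (.node (.leaf 0x41b53dda000102a808dd08dc18f384b5e569d5213c01640005fc) (.leaf 0x3f3a03380000330723ad41bf188385504d4d768b1e57db51818b)) (.node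 (.leaf 0x27054b6e000016a437181bf410a204b73673560b6604d9049586) (.leaf 0))) (.node (.node (.leaf 0x31223ac800010c171e772276144304559944d7a200871c486335) (.leaf 0)) (.node (.leaf 0x121d455a000122f130693cd70a2485b69e5d75730a736b049113) (.leaf 0)))) (.node (.node (.node (.leaf 0x144a2e2d0000074307aa16390a8505547e6394e856b77702532d) (.leaf 0xe91456600003e893660506e089184369f0d63992991797bd32d)) (.node (.leaf 0x4ee3319e00011c8b3f803f7f1e350474c873e0721f0347786180) (.leaf 0))) (.node (.node (.leaf 0x439025b80000112b2d662d651a518413b94210a31fa1785182cb) (.leaf 0)) (.node (.leaf 0x2a68031a00012a412c174bff12270510464ed2354661d2180546) (.leaf 0)))))) (.node (.node (.node (.node (.node (.leaf 0x8954b380001018d05200557069284b7314ec43721a05e5be428) (.leaf 0x264b2e18000130964f4440e7106505747d2a837f27878b41d518)) (.node (.leaf 0x48b15257000015310c6334d71c338437e036d0833372e77867d9) (.leaf 0))) (.node (.node (.leaf 0x1cc7186d00010adc1f711cd30cd404f2607374ca72d0392ab7b2) (.leaf 0x35144dfa00014cd7527e491114e184977658c25d4c8202295537))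 (.node (.leaf 0x533c20a60000215144d644d51ec385933b4720c82b146c4287d9) (.leaf 0)))) (.node (.node (.node (.leaf 0x116746550001061301c612f808e604f6b934b07d7a373a15f537) (.leaf 0x4b6c0fe900003b3a4a55525c1c860591923af2a214e1ab24d2c7)) (.node (.leaf 0xd67515100011b012f623d8b086704f7c91a64791ff2422625be) (.leaf 0))) (.node (.node (.leaf 0x30a30a9500000fe02ac52ac414330471003641a721754a73470b) (.leaf 0)) (.node (.leaf 0x2620447a00012860255338e210620416844881ef64665e049156) (.leaf 0))))) (.node (.node (.node (.node (.leaf 0x51e1068000003c80c520c5104e285d19d6a47a419e2316216de) (.leaf 0x21f024a8000135904418352a0eb78413a13f918571243d2cb049)) (.node (.leaf 0x21d61bcd0000181137b139530eb484d2b94ac16c73c75562115f) (.leaf 0))) (.node (.node (.leaf 0x13325000010d50254b254a04448474dc0515a95446b65be113) (.leaf 0)) (.node (.leaf 0x231c4210000024b947ea16540ee18596490aa09e6632d7295025) (.leaf 0)))) (.node (.node (.node (.leaf 0x7af08690001086e196d196c067505f0ca33f68d34f154149486) (.leaf 0x1e70135300014239536953680e278411e110d1854f3265295049))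 (.node (.leaf 0x3b51cef00011e0d4165349c04b384b2cf7d07662fd08a14970b) (.leaf 0))) (.node (.node (.leaf 0x2f960296000112892ff81c4512f184d0383dd10c62578b41d518) (.leaf 0)) (.node (.leaf 0x449e050e00012c5310a12b491a7185d0707167a42857b70006de) (.leaf 0))))))) (.node (.node (.node (.node (.node (.node (.leaf 0x4d222dd100000101038b038a1cc30454750e669706062632d7d9) (.leaf 0x1596142500002f75453d4b070ab184d1f83e762d4364de124149)) (.node (.leaf 0x531145940001148733a733a61ec28436a229d6dd7da5b72ab41d) (.leaf 0))) (.node (.node (.leaf 0x50430fdc00010a3e19ea06561e6504719059e1e67a926a295025) (.leaf 0x100515e000149692b912c9804640417c96a255d20650a33324d)) (.node (.leaf 0x3d6738b7000020693ecb4403184704f56b4703ed56f11a51870b) (.leaf 0)))) (.node (.node (.node (.leaf 0x202a4fd10000057f115611550e820557a70c643f53f6b65fc2c7) (.leaf 0x33ee4bd4000039b951434f59149705d73f32138a2e234555a18b)) (.node (.leaf 0xf331ce100011a413c91122308a38472cf24514607678b180333) (.leaf 0))) (.node (.node (.leaf 0x51210dc100010f36296d296c1e8204315506a6780611775be70a)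 (.leaf 0)) (.node (.leaf 0x1ff33b69000127711cd64a050e578475a832169734358055a7d9) (.leaf 0))))) (.node (.node (.node (.node (.leaf 0x44b83fb9000003370a9c0a9b1a7285161150422262241f546537) (.leaf 0xd3f27d30001344b4d865099086585f3ec27b3d00e73081806de)) (.node (.leaf 0x3fd5110d0001175438383837189584b1ac6d775467915d156428) (.leaf 0))) (.node (.node (.leaf 0x1469534f00000cb623e623e50a870537f66937483bb5067bd2ab) (.leaf 0)) (.node (.leaf 0x214c0db8000023d4473747360ea40591533c307f34344b62115f) (.leaf 0)))) (.node (.node (.node (.leaf 0x39114846000107d917d417d316828436e62762ef7fd0e25fc428) (.leaf 0xa7e3003000140664d5a47b506c585d4aa0e66cc29a02032d214)) (.node (.leaf 0x3b4d3f4c00001d470d47407216e405b60670058363a3fc33528f) (.leaf 0))) (.node (.node (.leaf 0x436b2834000111d82eb72eb61a470573f82b877c03c67e15670b) (.leaf 0)) (.node (.leaf 0x828122600002b4b2b374c9106830511c53c26077ea4646de2ab) (.leaf 0)))))) (.node (.node (.node (.node (.node (.leaf 0x4f4903160001021a072107201e440530463b96b77e61b15be7b2) (.leaf 0x8cb10c6000131c31376434c06960571a626b75c3c24a328f428))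 (.node (.leaf 0x403d41d7000015e835ff0cca18a285b6444cd3b616717a12d214) (.leaf 0))) (.node (.node (.leaf 0x359e3e3b00010b7c03821e2014f185d5ec63225d78709f295486) (.leaf 0x4d850c970001523853ff2f601cd204b1313493013f36ba18b180)) (.node (.leaf 0x41f106a0000221845993eb904c285f19d7703ce2c908e18b295) (.leaf 0)))) (.node (.node (.node (.leaf 0x9932597000106a9146b149b06b28473b552b05f6fb250333786) (.leaf 0x1e4a345100013cc31bc22f810e2605550d09c0da69d61368a124)) (.node (.leaf 0x508b189600011bbf3e801c3a1e710572644623d36596ad2147bd) (.leaf 0))) (.node (.node (.leaf 0x339d3a3a0001108427cf2c20149285b5904ec43777b05e5be428) (.leaf 0)) (.node (.leaf 0x1e81320f0000294a3abb39130e340434d26a514b32024e3337b2) (.leaf 0))))) (.node (.node (.node (.node (.leaf 0x1aa02d74000004580e010e000c9204146f2c36984be0e25fc2c7) (.leaf 0x17f10d1b000036e0251d15d40af684313d60c47f59534415f537)) (.node (.leaf 0x35570b3a000118ca3a6a03ff14e484f10d63463745d12333328f) (.leaf 0))) (.node (.node (.leaf 0x2af704d800010df504541c12123784f06d3cd19462477a41d546)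 (.leaf 0)) (.node (.leaf 0x19164aa9000125a0120d0e5f0c4484d7234c238730312a5be15f) (.leaf 0)))) (.node (.node (.node (.leaf 0xc073d4a000009081af41af3082404f5d968550149a4f47d9113) (.leaf 0xfa02687000044462d65250908b30413ca3e876422365341d335)) (.node (.leaf 0x524d09ad00011edb0a9e42541ea405b0e87760fd5d770d33515f) (.leaf 0))) (.node (.node (.leaf 0xde134150000133031353134087704350511c1073051ec2625fc) (.leaf 0)) (.node (.leaf 0x3a39180d00002d492a3b4da416c285325668401922a51d2ab295) (.leaf 0)))))))))

/-- part of a table -/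
def entries104 : Trie := (.node (.node (.node (.node (.node (.node (.node (.node (.leaf 0x402414710001003500c900c818a20491fe1433532fb02712d734) (.leaf 0x36440c6a00002dd62f4a2605162604912e5a06564d540a1132cb)) (.node (.leaf 0x48f824eb0000138831e631e51c358513a66671833711ea786180) (.leaf 0))) (.node (.node (.leaf 0x11d64278000009591bbe1bbd08f484d65234e52505774704928f) (.leaf 0x22d922da00014581503247100ed48533725931b75ba58f18b15f)) (.node (.leaf 0x6de316100001f4442c30430065685d4c41b36682694ea24d149) (.leaf 0)))) (.node (.node (.node (.leaf 0x352c18fb000104a20edb0eda14e305926f37e3ee1f67502145fc) (.leaf 0x53664377000037ac519504ef1ec504d66f2dc0da0316f132d262)) (.node (.leaf 0x3d6647680001192b0ade3aef184704d6d34d72a625e7db51870b) (.leaf 0))) (.node (.node (.leaf 0x1623296f00010e41276727660ac30474157be67561a3042c770b) (.leaf 0)) (.node (.leaf 0x73d2c790001261848ec3bcc066585b45b4e022268c08a295486) (.leaf 0))))) (.node (.node (.node (.node (.leaf 0x3714521000002620805080404a784369409b74400275073470b) (.leaf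 0x16791c6e00003261185f2b8a0ac78532c465977c38b11170a621)) (.node (.leaf 0xf211d93000116443686145308a30432e00ab66c5e627a180333) (.leaf 0))) (.node (.node (.leaf 0x4e8a314a00000bc921c021bf1e320554c264431970f22c621262) (.leaf 0)) (.node (.leaf 0x320828b800012289460419c6146105140532947f1c66282cb537) (.leaf 0)))) (.node (.node (.node (.leaf 0x1865263d000106f2156815670c2704b3c46b10c85dd0c21497d9) (.leaf 0x41d1389700003dae320f342818f48435695cc5254341a412d28f)) (.node (.leaf 0xf02b3600001c213efa0188045784144312e0b420869c486333) (.leaf 0))) (.node (.node (.leaf 0x7d4332a000010da2cb900d106768494f04ba79b0fe40a68a55a) (.leaf 0)) (.node (.leaf 0x23912fb1000029c91ddc4ba90ef18434a00631cb2e6073149025) (.leaf 0)))))) (.node (.node (.node (.node (.node (.leaf 0x4b60244600000148047404731c860413973572f84f13de24d70a) (.leaf 0x412d06a700012ff94ef94ef818e305b09c2c57ac1f60480005fc)) (.node (.leaf 0x38f83f8a000114dd07b63441167785160d35c25f0656282cb5be) (.leaf 0))) (.node (.node (.leaf 0x435613f400010a8e1eb41eb31a4584d1f41696564364a1156786)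 (.leaf 0x33064b6000004b0c50f74154148204d7360c62ef7fd6c55fc428)) (.node (.leaf 0x4505470c000020df1c07446e1a8104b6c95a84e822904751832d) (.leaf 0)))) (.node (.node (.node (.leaf 0x20972fbb000005cb122d122c0e9184f4a038927d1f241855a2c7) (.leaf 0x3e87192000013a7751ed3ab7187104f2730015df0e647c5866de)) (.node (.leaf 0x5367463800011aa13d163c261ec504f6b15637033e917432d262) (.leaf 0))) (.node (.node (.leaf 0x403a2ea300000f8e2a1d2a1c18a2855489331680015804546214) (.leaf 0)) (.node (.leaf 0x3e3c13000027e421922085044585d5bd1384eb4db0ff55a734) (.leaf 0))))) (.node (.node (.node (.node (.leaf 0x49fd4724000003810b780b771c5685b6cb20d2da0d35cb28f41d) (.leaf 0x1d94338a000134e650ce4f7d0cf18494f84d33fb63f2d7149025)) (.node (.leaf 0x3c124a79000117b4094638bc18228457204f35765691be546214) (.leaf 0))) (.node (.node (.leaf 0x9a28c12e8e00010d040772192f10d50434857013344001452c7000) (.leaf 0)) (.node (.leaf 0x171e2bf20001245047983cef0ae185d45115c1b819777a18055a) (.leaf 0)))) (.node (.node (.node (.leaf 0x37d1348d0000082618aa18a916548435117285ac5ec05e5be68a)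 (.leaf 0x293f2ab60000414b51b33dc510e285f4383b232747434d049156)) (.node (.leaf 0x1956263900001dad11a040ed0c4684d3c45927885787d624d41d) (.leaf 0))) (.node (.node (.leaf 0x152a2be60001123429322f520aa305544f3dd5a30a078b41d333) (.leaf 0)) (.node (.leaf 0x22090ef600002bce418e3b140ec105317038e1916dc46c428262) (.leaf 0))))))) (.node (.node (.node (.node (.node (.node (.leaf 0x16ab1ee6000100bd02a402a30ad30573094092a60e51cc70a621) (.leaf 0x4d5a1c4e00002eea4e781fdb1cc48552c179217628861818b7b2)) (.node (.leaf 0x5ac46a400001431330325d204f30596c11870f45ca2837865be) (.leaf 0))) (.node (.node (.leaf 0x2bdb311d000109f21d3c110d12558574bf7a55f81a53b07bd000) (.leaf 0x21ae0ef3000047f341f252120eb205d1701a93195d864d621124)) (.node (.leaf 0x47a527b0001200c0bfc3cda04c58557e362257656917432d214) (.leaf 0)))) (.node (.node (.node (.leaf 0x35cb20c000010536107f107e14f405733d0bb76d1bd12333328f) (.leaf 0x220207d00001391047e54e2b0ec10450b80690da69d39032d124)) (.node (.leaf 0x1c084920000019e43c0e0acc0cc10516fc0304d87453cb428124)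 (.leaf 0))) (.node (.node (.leaf 0x7554c8400010ee4135028c3066684b7514614956d91a068a6de) (.leaf 0)) (.node (.leaf 0x150265a000126fa49a8322f04668413c65e579b3a549768a6de) (.leaf 0))))) (.node (.node (.node (.node (.leaf 0xd032dbe000102f000d309c0086404747357a3566296ed7d928f) (.leaf 0x26152f5e000133a44885505e106184b4996e732711774d262518)) (.node (.leaf 0x374e1fc6000116fb078837ac164405d32145d50121d0c95fc113) (.leaf 0))) (.node (.node (.leaf 0x53bf137000010c68233b233a1ed385f1e700c1f775f6f1428049) (.leaf 0)) (.node (.leaf 0x3a2d03fb000023672fb946cb16c205b05a5007d248b5742ab295) (.leaf 0)))) (.node (.node (.node (.leaf 0x1afd3d3b0001078d170917080c9685b5d83c91b46c83de28f70a) (.leaf 0x4c26385c00013f654dfb52141ca304d5656ca1851eb57d295049)) (.node (.leaf 0x14514903f6700001ce91b5c40050a918416094df0cd38360e02532d) (.leaf 0))) (.node (.node (.leaf 0x2d43b8900011184058f2e1104968495ad3c975c77b56028f428) (.leaf 0)) (.node (.leaf 0x2fd269c00002abc4c470c24049785b3cd6df8075757814862ab) (.leaf 0)))))) (.node (.node (.node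 (.node (.node (.leaf 0x3a501e53000001d40606063f16c48412fb1fb5ac4382262ab68a) (.leaf 0x42bb3a56000131242e504f811a338575924033f16fd7e2000333)) (.node (.leaf 0xa86241d0001158a0700356a06d204d3946e30190165202ab295) (.leaf 0))) (.node (.node (.leaf 0x3e1c16d500000b2e062a2036186185923928213c77416400055a) (.leaf 0x3e04447200004ee75124522818610496840bc59c55e13e0006de)) (.node (.leaf 0x19f12549000121b60bc6453a0c578433ad56b29e2fc05d55a7d9) (.leaf 0)))) (.node (.node (.node (.leaf 0x291751d10000065f13c913c810e184f7d302a3275665bc180156) (.leaf 0x1c4b462500003c0949e434fb0cc40576b00860fd3a73b818b15f)) (.node (.leaf 0x33362cc400011b5d092f2b14148384d4611976b37f564f5372ab) (.leaf 0))) (.node (.node (.leaf 0x2cb60dae000110332b7829d2127284d1527c76273733227d9518) (.leaf 0)) (.node (.leaf 0x34c61be5000028d34b073b7914d404d2bb3be5af4f62982ab113) (.leaf 0))))) (.node (.node (.node (.node (.leaf 0x43a225630001040f02520d271a530453af2d53610e547a156621) (.leaf 0xa114f4f0001362129a5513106c28437997787bc29b6ba2ab295)) (.node (.leaf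 0x26d539c50000186939dc39db107584b5853cf5c651037b180518) (.leaf 0))) (.node (.node (.leaf 0x157127a900000da61902018e0aa68433e85c17ff63255c15f214) (.leaf 0)) (.node (.leaf 0x2a8312e40000253048383d7712320471d819d3123f0707049000) (.leaf 0)))) (.node (.node (.node (.leaf 0x16b64ebd000008bc1a301a2f0ad384d78c7683ed64c30470a70b) (.leaf 0x20a420380000433840d015410e9204932f5686985e04045fc70a)) (.node (.leaf 0x30d62b6c00001e791df441dc143684d4465344cf5b84e1113786) (.leaf 0))) (.node (.node (.leaf 0x4093065a000012e13094309318b18470965246682a1147586295) (.leaf 0)) (.node (.leaf 0x3d4113fa00012cd14d6b491a18450431f46037f229b1781562cb) (.leaf 0)))))))) (.node (.node (.node (.node (.node (.node (.node (.leaf 0x539138a80000007901b901b81ed284356a4062f20ef58f18b180) (.leaf 0x3e0f50df00002e62408e3576186105f7c07b32376964e258655a)) (.node (.leaf 0x13544c89000013e0327732760a668497515537e419829415f486) (.leaf 0))) (.node (.node (.leaf 0x7cd2ae0000109a515bf1c7f067605b43c0762373931a01136de) (.leaf 0xb86077b000046b63ff34bc806f204d0ae54723727c75562155a))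 (.node (.leaf 0x3aee067500011fa84335133316d705d0992257dd209059428333) (.leaf 0)))) (.node (.node (.node (.leaf 0x31171c50000004ed09df0fb3144184f2c30a801d2894cc55a734) (.leaf 0x1f4490711b40000385f4a58419f1c4104f1bd43e31927b664486124)) (.node (.leaf 0x10b4bea000119843b7a0b0a04640577415906ef27323433528f) (.leaf 0))) (.node (.node (.leaf 0x4e4a03b300010e92280f280e1e240550552090813bf33870b15f) (.leaf 0)) (.node (.leaf 0x33f546350000268c304219b6149784b6b13e51bc1d842055a2ab) (.leaf 0))))) (.node (.node (.node (.node (.leaf 0xf2a3509000002a908df08de08a305551e4697a20085ed41d335) (.leaf 0xfa51faf000133084a33502408b304b31f7bb5a32541d241d333)) (.node (.leaf 0x3f490d9d000116a43719332c18850531515e076e68215d156428) (.leaf 0))) (.node (.node (.leaf 0x35c22e8700000c182278227714f40454852c876d08f2f933328f) (.leaf 0)) (.node (.leaf 0x2d563a1f000022f24669050d12a684d58c7bf30c5aa4987b2586) (.leaf 0)))) (.node (.node (.node (.leaf 0x4fc5444400010743163a08d91e5404b6812c314b61e0e25fc15f) (.leaf 0x2cf93f8600003e8a430031eb127685360d2610f51e934415f518))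 (.node (.leaf 0x2c284dab00001c8c3ed3369812620517705b610c4223b17d9518) (.leaf 0))) (.node (.node (.leaf 0x32644b430000112c2d671a6f14670497320fa28e7a617d2cb5fc) (.leaf 0)) (.node (.leaf 0x1853206900002a42473809510c2684733642708753c613113124) (.leaf 0)))))) (.node (.node (.node (.node (.node (.leaf 0x50ac18930000018e055905581e720592641f13d33c650a3337bd) (.leaf 0x2d09528b000030974f452e8412a20537e569f75713065e7d9586)) (.node (.leaf 0x2f18200b0001153134d934d812e185132657f64700e37b41d518) (.leaf 0))) (.node (.node (.leaf 0x257207c300000add1f731f7210478450b72a965561e6b47bd546) (.leaf 0x296031b800004cd8361a097b10e60414cb41537f66b0cb7b2156)) (.node (.leaf 0x29e443310001215138a1111610f604966713937f4dc3447b2518) (.leaf 0)))) (.node (.node (.node (.leaf 0x1960307300000614028d12f90c470414b22722b06f056255a049) (.leaf 0x1256246f00003b3c33d8525d0a2684d39b7bf3b35c22f17b2214)) (.node (.leaf 0x150a3a9500001b0230283d8c0aa10555963e762d2bc66a124295) (.leaf 0))) (.node (.node (.leaf 0x401f2ab300010fe02ac72ac618a185f43813345c1283bd586295)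 (.leaf 0)) (.node (.leaf 0x1822b1b25c60001286130c94ab612418573bb4743120ab35f025000) (.leaf 0))))) (.node (.node (.node (.node (.leaf 0x3afa0796000003c90c540c5316d78550b12f65a35de020428333) (.leaf 0x32be3fb8000035933d552eb0147285d61149a1b86222f070b55a)) (.node (.leaf 0x24563a420001181230133954102684d59115935d79530a7b2000) (.leaf 0))) (.node (.node (.leaf 0x2e4e4a2200000d51254d254c12c505d7190f16fa5f01cc2c7586) (.leaf 0)) (.node (.leaf 0xcbb0dd7000024be142e147a083585715744008b2dd677262295) (.leaf 0)))) (.node (.node (.node (.leaf 0x11fa01d10000086f196f196e08f685502b0324b34082f17b2537) (.leaf 0x9224b9700004245536a383406a304573b24a5ea61a54529570b)) (.node (.leaf 0x49ee2d3b00001e0e26e541661c5605d46a6140f91300cf28f41d) (.leaf 0))) (.node (.node (.leaf 0xafa16030000128a2ffa2ff906d58552202f611e55548c428734) (.leaf 0)) (.node (.leaf 0x1e6349f100002c544d244d230e2704771504c21314326a295049) (.leaf 0))))))) (.node (.node (.node (.node (.node (.node (.leaf 0x296a1e2300010101038c009c10e60552f534b1ef44373a15f518)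 (.leaf 0x19b03f1b00012f75124648920c558416035a56ae57833e486124)) (.node (.leaf 0x1bad45ff00001488192d33a80cb205b6ab78426e21f56e621124) (.leaf 0))) (.node (.node (.leaf 0x34af01a400000a3f15511dfc14d205f0281ff35853b74c2ab295) (.leaf 0x4383415700014970417a3c911a5104763a4b705f7d047a156786)) (.node (.leaf 0xebd35c70000206a44042fba089385b52e1354265195067bd2ab) (.leaf 0)))) (.node (.node (.node (.leaf 0x7893f9b0001057f11581157067405360f53e35623d29c33324d) (.leaf 0x283e0ff4000139bb3b27520f10c385d1933730c475f4d62c712d)) (.node (.leaf 0x2a29533000001a423c922f3612230537f50233656f7435262546) (.leaf 0))) (.node (.node (.leaf 0x919411100000f37296f296e06a28536331db6560e870d333786) (.leaf 0)) (.node (.leaf 0x4a2a0a6a0000277231304a061c620550fb5722a00842503357bd) (.leaf 0))))) (.node (.node (.node (.node (.leaf 0x28b000dc0001033707400a9d10d38410147010c412f6192c712d) (.leaf 0x4a6d1d610000344c508b098a1c6605b2dc0763cc4f040a1137bd)) (.node (.leaf 0xa0b3ba200001756383a383906c20575b30a403e2bc61818b295) (.leaf 0))) (.node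 (.node (.leaf 0x37c202a100010cb623e823e7165404503a0570f72556c55be68a) (.leaf 0)) (.node (.leaf 0x50c339c8000123d40cad47381e750475854ab2574732071497bd) (.leaf 0)))) (.node (.node (.node (.leaf 0x1da91fbb000007da0fde17d50cf205332048409e50d24e3357bd) (.leaf 0xed33b8d0000406752a04a5708958475ad62575c7062e4025428)) (.node (.leaf 0x3bfd05cb00001d480dbd407316f685b0885c57a412e40a68a55a) (.leaf 0))) (.node (.node (.leaf 0x1e7f30a6000011d92eb92eb80e2785f4b72900c833157d149049) (.leaf 0)) (.node (.leaf 0x128d126e00012b4b43ba12ac0a3405b1ce5b642d2773b17d968a) (.leaf 0)))))) (.node (.node (.node (.node (.node (.leaf 0x28a529080000021b0291072210d304b40b4676bd2ce7892c7546) (.leaf 0x11331cdf000131c41377243708e38472ce7ce03d1002421245be)) (.node (.leaf 0x2e44389f000115e8360001c112c50495697c975765b72c70a000) (.leaf 0))) (.node (.node (.leaf 0x15f0a0900000b7d20f520f4046685f0f15e60d01c63921136de) (.leaf 0x4db129bc0000523b52fa4d6b1cd384341e4b64fb1c543b32d7d9)) (.node (.leaf 0x1bed3d5900002219459a1ecd0cb705b5da39d0894a06287867d9)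 (.leaf 0)))) (.node (.node (.node (.leaf 0x9ad2129000006ab149d149c06b305b34b58c3ed0a0202295621) (.leaf 0x2aed101c00013cc64c78305e123705b19762c19473127041d12d)) (.node (.leaf 0x341c370d00001bc03e810bd514c18595476ff01d16743b428214) (.leaf 0))) (.node (.node (.leaf 0x1d2431c500001085139e2bcc0ce20494cd1f13d338150a3337bd) (.leaf 0)) (.node (.leaf 0x509e14800001294a474d4b541e7185d1ff01669a1d132a734025) (.leaf 0))))) (.node (.node (.node (.node (.leaf 0x11242b8000104580e030e0204648456593b471b12925033324d) (.leaf 0x19b42543000036e2472951630c558493ad28c4104426f8486262)) (.node (.leaf 0x10321873000018cc35f73a6b08c384526115b05b6da1cc2c7621) (.leaf 0))) (.node (.node (.leaf 0x14932e9100000df626b00a8c0a9184748806139965435f7bd428) (.leaf 0)) (.node (.leaf 0x4c642f4000025a144f0489304d404d66016d5506040392ab113) (.leaf 0)))) (.node (.node (.node (.leaf 0x3d0b04b50001090810171af5184105706b2fe7fa4e07e9518786) (.leaf 0x4a0e50d80001444840d134031c6105d7c05b81cb79432a734025)) (.node (.leaf 0x33b200d000001edc2d98425514938450140462cd4ff3ef5372ab)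 (.leaf 0))) (.node (.node (.leaf 0xffd29ed00001332131d313608b685b4246d468010d30b15f214) (.leaf 0)) (.node (.leaf 0x2acd371a00002d4a47b74b8c123605b54859d30c11c30b7b2000) (.leaf 0)))))))))

/-- part of a table -/
def entries105 : Trie := (.node (.node (.node (.node (.node (.node (.node (.node (.leaf 0x29e1dbb0000003600cb00ca049285d2e36691e04fc12a5fc32d) (.leaf 0x491803d900002dd7359a4de91c41851057681087469538486262)) (.node (.leaf 0x171d448b0001138829a731e70ae185b68562c3ea17127a41d6de) (.leaf 0))) (.node (.node (.leaf 0x437b32d50001095902ce0b961a478574e71695ea49f67e15670b) (.leaf 0x3f42274a00014587220e524818850453e04f54e86864a151832d)) (.node (.leaf 0x27034ec800001f45153742c410a204778e45135d0237477d9586) (.leaf 0)))) (.node (.node (.node (.leaf 0x3a2f2f61000004a30edd0edc16c205f49a00703e2f529818b149) (.leaf 0x17e3280b000137ac4c1d489b0af60473f376768d28a2f115f537)) (.node (.leaf 0x18ff13d10000192c19ca3af00c3785f1f204c21337a04b2957d9) (.leaf 0))) (.node (.node (.leaf 0x1b891fb900000e42276927680cb105332027e30f74f28378641d)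 (.leaf 0)) (.node (.leaf 0x15ae12200001261948ee48ed0ab305d1c502c0b454278b180333) (.leaf 0))))) (.node (.node (.node (.node (.leaf 0x426c2bdc00010262080708061a2505944e63d62d1227c4586295) (.leaf 0x31e338280001326113d437fe14560475616143ce2bd1e828f149)) (.node (.leaf 0x24bb42e20000164536870994103385765f1a61e32e0242262546) (.leaf 0))) (.node (.node (.leaf 0x3b91495a00010bc921c106ce16f18437005697115f3202149537) (.leaf 0)) (.node (.leaf 0x1a9148c10000228b3d173d2a0c918436f32292b45a456255a2c7) (.leaf 0)))) (.node (.node (.node (.leaf 0x33f73896000006f303ec1569149784f56957b4264580826de18b) (.leaf 0x8e526c000003daf3da32688069704b3d20ed2ea3240ba4862ab)) (.node (.leaf 0x421d25c100011c213efb34791a2285b3bb0b83b37ca3f4546734) (.leaf 0))) (.node (.node (.leaf 0x48ba2e51000110da1c3c2cba1c3385548210629e4f97042cb049) (.leaf 0)) (.node (.leaf 0x3d381161000029ca2b4e4baa18438511b30dc50809c04715670b) (.leaf 0)))))) (.node (.node (.node (.node (.node (.leaf 0x5423807000101480476047504e404555b26666663a23162128f) (.leaf 0x6300cb200012ffa4efa4641064584113503a06473e46455a214))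 (.node (.leaf 0x35da1b6d000114de3443344214f48552af50970556825033524d) (.leaf 0))) (.node (.node (.leaf 0x3b393de100000a8f1eb61eb516e38535e61b53284325ae2145fc) (.leaf 0x1c7d45e100004b0d3ffe1bdb0cc785b6a80093a45041ee428049)) (.node (.leaf 0x53ca2f83000120df446f2a1d1ed405549d16d14b5d708e2ab15f) (.leaf 0)))) (.node (.node (.node (.leaf 0xd93157b000105cb122f122e08748472155f27333a34f404924d) (.leaf 0x4a414b4c00003a79273852311c650437326b12576b2265149025)) (.node (.leaf 0x32a11c1f00001aa23d183d1714720432be7847a41b656e6216de) (.leaf 0))) (.node (.node (.leaf 0x2e430b4f00010f8e0d882a1e12c504710f7ab3513d24d62c7000) (.leaf 0)) (.node (.leaf 0x41db35fe000027e6410b4a6018f48575316ab71b5687dc54624d) (.leaf 0))))) (.node (.node (.node (.node (.leaf 0xb1e395e000103810b7902f406e285d57a6e14951ae75570b55a) (.leaf 0x3e48055b000134e82817042c18640510786ea3744193e612d24d)) (.node (.leaf 0x4c3d1f1b000017b538bd26aa1ca385b31158c21341508a295049) (.leaf 0))) (.node (.node (.leaf 0x4efc311f00000d05249722881e358594bf80059b74a21c2cb41d)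 (.leaf 0)) (.node (.leaf 0x254347650001245118e13c9c10450476d32a96aa2716b47bd586) (.leaf 0)))) (.node (.node (.node (.leaf 0x39345600001082618ac18ab04b284769f0022c21024a83352cb) (.leaf 0xf961e970000414e44be40fb08b184d2ff44008b151314262149)) (.node (.leaf 0x382d0a6800011dad40ee3546166205b0fb3c313c19844b62155a) (.leaf 0))) (.node (.node (.leaf 0x2a304018000012352f542f53122384161b4412356ce435124546) (.leaf 0)) (.node (.leaf 0x13cc010500012bce105b0b400a760590172e07394bb3447b2537) (.leaf 0))))))) (.node (.node (.node (.node (.node (.node (.leaf 0x483617b2000000be004c02a51c2384d2511920833371c87867d9) (.leaf 0x13e9464600002eeb3db6070b0a770536b237807c2391ec1245fc)) (.node (.leaf 0xc78042900011431330411cb08278510613e876452765341d335) (.leaf 0))) (.node (.node (.leaf 0x2092b7b000009f31d3e1d3d048205344756d0c14ee1b15be428) (.leaf 0x4731159e000147f64417488d1ae384321775d3280680265865fc)) (.node (.leaf 0x9ae47350001200d1cfb43a406b305d6ce33f74431115414970b) (.leaf 0)))) (.node (.node (.node (.leaf 0x29f4034f000005371081108010f684904e7ba0b308c55c15f518)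 (.leaf 0x1fc2b1e03d60000391151e7072a124185d0575667574692e4025586)) (.node (.leaf 0x4bfa3e76000019e50ac82ba31c968555f14492b41ed1e824d70a) (.leaf 0))) (.node (.node (.leaf 0x29e31e5000000ee528c528c410f60472fb0a632774318e15f518) (.leaf 0)) (.node (.leaf 0x361b2b5d000126fb49aa49a916228574455092c26b12343352cb) (.leaf 0))))) (.node (.node (.node (.node (.leaf 0x30cc2ff3000102f104b709c114360594a93134cf2930c51132cb) (.leaf 0x3e839e6000033a54fd440cb04b70515882bc6750791cd214621)) (.node (.leaf 0x2313215d000116fc37ad0e8d0ee184735070929f0dc2b6149025) (.leaf 0))) (.node (.node (.leaf 0x21d5368600000c690eca233c0eb484b53c1fe2a43aa07570b7b2) (.leaf 0)) (.node (.leaf 0x52e2179e0001236746cd46cc1eb604524c53531b4ed3c768a262) (.leaf 0)))) (.node (.node (.node (.leaf 0x43c93df10000078e170a0ee51a550535e70b96920d512b5182cb) (.leaf 0xcc335d700003f66420e3d7e083604752f33711e4cb49815f734)) (.node (.leaf 0x199621b800011ce917af0b300c5484d35a5876996f03465fc15f) (.leaf 0))) (.node (.node (.leaf 0x3e3524c9000011852e132e12186284b3a346f1cf58502712d537)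 (.leaf 0)) (.node (.leaf 0x1355129400002abe2aae1f760a6684b1d326107d31838615f486) (.leaf 0)))))) (.node (.node (.node (.node (.node (.leaf 0x3c21ed1000101d40080064004b60453070372c21d909568a2cb) (.leaf 0x369504ae00003125362c4f82163284b06a6c97f210d29c335786)) (.node (.leaf 0x30dd14910000158b222e356b143685b2000a04314f740a68a2cb) (.leaf 0))) (.node (.node (.leaf 0x5323290700010b2e203820371ec304740b3f74fb78202032d049) (.leaf 0x4d2a18f800014ee734423d061cc305526f2852b05cd05932d7d9)) (.node (.leaf 0x21491620000021b715040af90ea405322409651636723f6217b2) (.leaf 0)))) (.node (.node (.node (.leaf 0x396c471f0001065f13cb13ca16870596ca79350f67a4fa6de18b) (.leaf 0xcd32e6000003c0a35d0432208368474830f64eb0fa6237b2214)) (.node (.leaf 0x2d854bb700011b5f1bf63c8d12b204b73d35933047b3b17d9000) (.leaf 0))) (.node (.node (.leaf 0x3aa11008000010341e7d2b7916d20431963491481a86ba18b295) (.leaf 0)) (.node (.leaf 0x27207a5000028d443e9485704878450b53836b301834053718b) (.leaf 0))))) (.node (.node (.node (.node (.leaf 0x4c371f62000004100d290d281ca384f31a1df4fb33709f1497d9)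 (.leaf 0x2f3920070000362716ce4f0c12e28533264936471ce3b1049518)) (.node (.leaf 0x83649de000118690e9a39dd068384d7106cb6b358a5806de2ab) (.leaf 0))) (.node (.node (.leaf 0x1ebc003800000da7260326020e358590045172f274232b21441d) (.leaf 0)) (.node (.leaf 0x459e38ea000125303d3c38c61a9185d56f4b71e007711a15632d) (.leaf 0)))) (.node (.node (.node (.leaf 0xd4285d000108bc029e1a3104568493fd5ca7d24027fc28f295) (.leaf 0x79753be000143384c353077067484f80369171b1d57fe33328f)) (.node (.leaf 0x498b314900001e7a41dd07851c510574c25fe7030ab664486124) (.leaf 0))) (.node (.node (.leaf 0xed25c04985000012e230963095105504170639635d3c80db7bd000) (.leaf 0)) (.node (.leaf 0x4672229500012cd2437e4b0f1aa784536e3727a253a47c000335) (.leaf 0)))))))) (.node (.node (.node (.node (.node (.node (.node (.leaf 0x24c526100000007a01bb01ba103604b3c20be3346b93867b2586) (.leaf 0x4776235500002e634e341cb81ae584d37e31559c3884e200055a)) (.node (.leaf 0x25ac1d05000113e03278240410530592d13966552ce0db7bd546) (.leaf 0))) (.node (.node (.leaf 0x297a1bde000009a61c5b1c8010e68552ba6f75c63fd18e7b2518)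 (.leaf 0x349c40b3000046b834d453bd14d185962b2d045780062f32d214)) (.node (.leaf 0x354b1ab100001fa926ab1f3b14e405729a07958363a2f933528f) (.leaf 0)))) (.node (.node (.node (.leaf 0x2d0e2583000104ed0fb50fb412a205d3b42e330c1a6322049586) (.leaf 0x3cf02b680001386051c1351218358414463427d2364048000149)) (.node (.leaf 0x87626e90001198508893b7b068784d3d743e68b54c3ef4862ab) (.leaf 0))) (.node (.node (.leaf 0x27a0053300000e930552281010b30410763d222d75a37b41d12d) (.leaf 0)) (.node (.leaf 0x1cca47df0000268d3dad3e720cd40556dc6e35165045202ab15f) (.leaf 0))))) (.node (.node (.node (.node (.leaf 0x283c15000102a908e108e004450515bd17c6cc57705d55a214) (.leaf 0x2abe00aa000033092d895025123385d00d50e23534b314124546)) (.node (.leaf 0x30bb2e56000016a523eb164c143385748249d77c12132a21470b) (.leaf 0))) (.node (.node (.leaf 0x2ce3381100010c19227a2279127604755e0df10c6482f115f156) (.leaf 0)) (.node (.leaf 0x3ef7397e000122f30c4a32fe187784f57c6a825f4057b75865be) (.leaf 0)))) (.node (.node (.node (.leaf 0x11034f1000007441611163b046484151c05238207024e33528f)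 (.leaf 0x23830d6800003e8b4f9a41a70ef104714433f69a33657d1497bd)) (.node (.leaf 0x45a5121600011c8c3f8136351a9304b1c44211bc3251785182ab) (.leaf 0))) (.node (.node (.leaf 0x24ba2e550000112d2d692d6810338554824545566bc314262546) (.leaf 0)) (.node (.leaf 0x38084da000012a424c001a97166105177006725d2f6283786486) (.leaf 0)))))) (.node (.node (.node (.node (.node (.leaf 0x8a9207b0000018f055b055a06930533376d32cd5922b555a18b) (.leaf 0x45c4491a0001309748e64a191a950496fb63f5ce4af268518428)) (.node (.leaf 0xa750bca0000153234da23f406c584b11b4bb3b37ca1ee428734) (.leaf 0))) (.node (.node (.leaf 0x20250d6700010add1f740e700e8204b1443242116d75b25be2c7) (.leaf 0x5327493800014cde491f4e0e1ec304f6fd47d09d76f58e32d7d9)) (.node (.leaf 0x17830e710000215325e844d70af104716502c4955823081806de) (.leaf 0)))) (.node (.node (.node (.leaf 0x262828b40001061402bf12fa10620514052885031c3740049156) (.leaf 0x258e0de900013b3c19591bab105105d1584f17083eb3b0025000)) (.node (.leaf 0x1fad003c00011b023d8d372f0e5505b0045a56ae51b0ba486262) (.leaf 0)))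 (.node (.node (.leaf 0x1705241900000fe12ac92ac80ae104b39455b0d006d27018055a) (.leaf 0)) (.node (.leaf 0x4c8f359800002862267c4ab71cb105f52b3640721a64c573441d) (.leaf 0))))) (.node (.node (.node (.node (.leaf 0xffe5032000103c90c560c5508b685d7af0f64eb2922d87b2734) (.leaf 0x1a7345480000359442dc3e240c8684769d57e2f87154ea24d2c7)) (.node (.leaf 0x38af14db0001181337c03955167205f20643859c2dc22162155a) (.leaf 0))) (.node (.node (.leaf 0x8cd0c8400010d511a0e254e069605b1301e543751156024d428) (.leaf 0)) (.node (.leaf 0x16f2880312d000024bf3c84349010d10414c067c60b0ef7892c7000) (.leaf 0)))) (.node (.node (.node (.leaf 0x2b7313fb0001086f0284197012478471f466b7595d03b002512d) (.leaf 0x4f92096c000042484cfa4e621e518450e467127f3072a7486124)) (.node (.leaf 0x2c22145200001e0f4167094c12620451fb19d5ab803707049156) (.leaf 0))) (.node (.node (.leaf 0x24d231910001128a2ffb1d1e10368454c80f66aa1f06237b2586) (.leaf 0)) (.node (.leaf 0x401d2ea100002c5519ad4d2518a185b4892823d636d164000149) (.leaf 0))))))) (.node (.node (.node (.node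 (.node (.node (.leaf 0x31f4428200000102038e038d145684965420d62d2bc71328f295) (.leaf 0x4560044900002f764eba25a21a870410635542791f912b5182ab)) (.node (.leaf 0x13f0a0e00011488260733a9046585f0f173f772696154149486) (.leaf 0))) (.node (.node (.leaf 0x4c7119e900010a3f05d61dfd1ca684328641e26e7f621868a262) (.leaf 0x4b69008600014975291c4f451c8605300b3df2f852d5cb24d70a)) (.node (.leaf 0x159061e40860001206a39a33b25064485d6253525ac10b6c55be68a) (.leaf 0)))) (.node (.node (.node (.leaf 0x405e3bea00000580115a115918a485d5b94f35d37b058b54668a) (.leaf 0x26db2878000139bd2321521010758573ff46950321e78b41d518)) (.node (.leaf 0x261233e500011a443b160fa3106184550027437f505314124518) (.leaf 0))) (.node (.node (.leaf 0x18af335000010f37078205a70c3505f4f506e3017456ad73441d) (.leaf 0)) (.node (.leaf 0x2bf4d9b000027734a084a07049385f76f5f38072a54cc6de18b) (.leaf 0))))) (.node (.node (.node (.node (.leaf 0x52d4b2f000003380a680a9e04e305b73080047932517d2cb5fc) (.leaf 0x52f4d460001344c509a3e7c04e305f7674b47ef4827047865be)) (.node (.leaf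 0x1ecc4c9200011756127135a70e360597520802e151b18a113262) (.leaf 0))) (.node (.node (.leaf 0x237540aa00010cb723ea23e90ee684b62a31a14f1c721868a025) (.leaf 0)) (.node (.leaf 0x27e73dc1000023d53862473910b704f5e40ee6f92e34de12412d) (.leaf 0)))) (.node (.node (.node (.leaf 0x17b1281000107da025417d604678571d10e81072be32a2145be) (.leaf 0x1da331ca0000406924a8314b0cf20474cd2c81e663f2f9333025)) (.node (.leaf 0x1bfb000100011d48407405260cb78570010a214c0b87042cb049) (.leaf 0))) (.node (.node (.leaf 0x323d4c000011da20af2eba04458455d97a368001508255a214) (.leaf 0)) (.node (.leaf 0x4d5e1b5d00002b4c4c934c921cc485d2ae77012001f08e18b15f) (.leaf 0)))))) (.node (.node (.node (.node (.node (.leaf 0x4b7b36790001021b072407231c8685753b65f43f0d60cf24d2c7) (.leaf 0x4a1724c8000031c547924c3b1c6184f3a34623d36b254a214025)) (.node (.leaf 0x16d1289000015e936010d17046705b1d15e47ef7a61862145fc) (.leaf 0))) (.node (.node (.leaf 0x4e20136300010b7d0c7620f61e230411e536e2132432e77867d9) (.leaf 0x4b3207110000524e53f73c571c828450a70512110d66b65be2c7))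 (.node (.leaf 0x26550fdf000122193984459b106584b1907bb6d621541441d518) (.leaf 0)))) (.node (.node (.node (.leaf 0x12b8353b000106ab0fb8149e0a358515236947d24db1ec262149) (.leaf 0x295c046200003cc84ebb426f10e585906613d75848374d262518)) (.node (.leaf 0x2d454f9800011bc01eca3e8212a604b7a159d30c65b30b7b2000) (.leaf 0))) (.node (.node (.leaf 0x1665155000110852c222c21046704d7c91fc4796a01957345be) (.leaf 0)) (.node (.leaf 0x2ff731be0000294c1e461a5a12f684f4cb7bf61242a4987b2518) (.leaf 0))))) (.node (.node (.node (.node (.leaf 0x2c740067000004590e050e0412668490092610f554f38615f156) (.leaf 0x35554320000136e3167f4df914e484b66505238256d29c33524d)) (.node (.leaf 0x1149503e000018cd3a6c1aea08e40537af7316ef7ec30d04924d) (.leaf 0))) (.node (.node (.leaf 0x1995124b00010df626b10dc00c5484b1c74bc14a5eb1775be7b2) (.leaf 0)) (.node (.leaf 0x2ba7256e000125a245bc1546125304f3af7a51940f62e47bd546) (.leaf 0)))) (.node (.node (.node (.leaf 0x1fd28fd000009091af71af6047785b4096fb7ac1fb7507345fc) (.leaf 0x2ddd109f0000444a535251e212b685b1a178233004155c15f000))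 (.node (.leaf 0x49c5247d00001edd425742561c5404b39c6884ca3165b25fc15f) (.leaf 0))) (.node (.node (.leaf 0x2b54476a0001133219a5313712458496d352f3516e71797bd000) (.leaf 0)) (.node (.leaf 0x14982bff00012d4a24481ad50a9185145174375419717902532d) (.leaf 0)))))))))

/-- part of a table -/
def entries106 : Trie := (.node (.node (.node (.node (.node (.node (.node (.node (.leaf 0x1e191d390001003600cd00cc0e248532d559712071d50a33315f) (.leaf 0x3f68032b00012dda482e33a3188705104c66331744512b1562ab)) (.node (.leaf 0xf52683417f0000138931e931e8107104763e7ce1ef7c9242124518) (.leaf 0))) (.node (.node (.leaf 0x2f6802ce0000095a1bc01bbf12e60510406bc5ab5fd6e97b2518) (.leaf 0x1e6521cf000045883c9a4faf0e2704b35b7ca3846f3265149049)) (.node (.leaf 0x30bd3a5b00001f462bb842c5143385b59268f3766fd5b473470b) (.leaf 0)))) (.node (.node (.node (.leaf 0x52e03282000104a30edf0ede1eb60414e01212e10ce03f113124) (.leaf 0x21912158000137ad16fc51960eb18433503911043dc79c2cb180)) (.node (.leaf 0x2c1624c00001192c3af23af1126184d3a302b5dc6b2242262518)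 (.leaf 0))) (.node (.node (.leaf 0x2f4b18b300000e43276b276a12e505726916f3410dd2df124156) (.leaf 0)) (.node (.leaf 0x24351e410000261a48ef48d9102384b2f71635562b1435262546) (.leaf 0))))) (.node (.node (.node (.node (.leaf 0x133e521600000263080908080a6585d7d83e95bf3ff78b18055a) (.leaf 0x16a9207200003262484c4ff80ad305333711705b3117892c770b)) (.node (.leaf 0x253d470000164614d3118b044504b5d94c835329656255a734) (.leaf 0))) (.node (.node (.leaf 0x30b900af00000bca1e0a21c2143385300d6fb5ea4ad32b734621) (.leaf 0)) (.node (.leaf 0x34c2047b0000228c4606460514d40450676115501963b82ab68a) (.leaf 0)))) (.node (.node (.node (.leaf 0x1552502f000106f3156b156a0aa48457ad7b95ac7764b17d9113) (.leaf 0x42d82d3d00013daf52cb51a51a3485146a6ec5a97383e654668a)) (.node (.leaf 0xaa9070800001c2321ac286206d30530a62d016e54262f32d333) (.leaf 0))) (.node (.node (.leaf 0x332912ca000010db2cbc2cbb14830531d636f50f0225385372ab) (.leaf 0)) (.node (.leaf 0x18e913d9000129cb13de4b910c370531f24e04d410808a295049) (.leaf 0)))))) (.node (.node (.node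 (.node (.node (.leaf 0x26d403600000014904780477107584905013f7583c62f3180518) (.leaf 0x22081e6c00012ffc4b7038be0ec10512fc73226e5e162f428262)) (.node (.leaf 0x3c4516cb000014df34441314182404b2384f850125517a12d68a) (.leaf 0))) (.node (.node (.leaf 0x40e5229a00010a8f1e8f1eb718b704b36e5c43f117e048000333) (.leaf 0x5307470100004b1130b81b191ec204f6c908634c3c83b818b180)) (.node (.leaf 0x32571053000020e044664470146484f19b2053826112f062128f) (.leaf 0)))) (.node (.node (.node (.leaf 0x34442898000005cc1231123014c40494022e513416a51d2ab68a) (.leaf 0x3d8253af00003a7b260b4325185104580279d43110f67e5182cb)) (.node (.leaf 0x4c3f161f00011aa23d1933881ca385f22373f14c3091541497d9) (.leaf 0))) (.node (.node (.leaf 0x90b3ba600000f8f2a202a1f06a20575b33a06565174b53332cb) (.leaf 0)) (.node (.leaf 0x265a19d0000127e70e7f4a61106585528502a3270f2132180518) (.leaf 0))))) (.node (.node (.node (.node (.leaf 0x1ed646c4000003820b7a00230e3684d6c433b0875243c7113262) (.leaf 0xdbf133d000034ea3d8f0aad087585f1de6c27e85635bc41d55a)) (.node (.leaf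 0x45e81a58000017b638be38251a970512903ac38a5223da51818b) (.leaf 0))) (.node (.node (.leaf 0x28862fa700000d062498077a10d104d49f43c6aa0e330470a000) (.leaf 0)) (.node (.leaf 0x18b73f1100002452479a47990c3584f60309434c6d154a214180) (.leaf 0)))) (.node (.node (.node (.leaf 0x17ad2be80000082712cf159d0af305b44f4680f43c90bf1245be) (.leaf 0x524a4ab00000415353261fbe1ea40557260bb51643a12333315f)) (.node (.leaf 0xcef435a00001dae40ef34fe083705f66b6af4254895ed180335) (.leaf 0))) (.node (.node (.leaf 0x4b8e1a960001123505cd0e611c9105d2973fe50c7d52274862c7) (.leaf 0)) (.node (.leaf 0x104f087e00012bcf48fd4b8d08c505f0ce7d805f6014d62c72cb) (.leaf 0))))))) (.node (.node (.node (.node (.node (.node (.leaf 0x2f0f2f63000100be02a702a612e105f49a11f64700e13241d518) (.leaf 0x37b2525600012eeb4e79414d16538457e027c3e440b64f486333)) (.node (.leaf 0x2d6a09a10000143233050c1612a70550e80e06892882df12412d) (.leaf 0))) (.node (.node (.leaf 0x180f1dd8000109f30b6f1d3f0c2405f2e61ba4ca7a74b53357b2) (.leaf 0xfaf0923000047f752f453cd08b305f0df24514604d308180335))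 (.node (.leaf 0x4935267e0000200e18501e901c4384b3c97932134154fa6de049) (.leaf 0)))) (.node (.node (.node (.leaf 0x14710bc800010537108310820a8784311b48360754c72e7bd2ab) (.leaf 0x4a9a4b75000039122c6829601c718557372c11ca11632a214025)) (.node (.leaf 0xb594611000119e5370b0c6806e48536af14276a0c607562128f) (.leaf 0))) (.node (.node (.leaf 0x50400a8c00000ee628c728c61e650410fe72229f1de2671497bd) (.leaf 0)) (.node (.leaf 0x287116b7000126fc49ac49ab10c78432332ec5567b961970a12d) (.leaf 0))))) (.node (.node (.node (.node (.leaf 0x13df3f9d000002f209c309c20a7685f60f75a2222dc6237b2537) (.leaf 0x8e44f2c000033a64ba2505f069704979668642606a5384862ab)) (.node (.leaf 0x318d52d9000016fd37af37ae145105b7ec4082d23624a66de734) (.leaf 0))) (.node (.node (.leaf 0x2c422e00000c6a233e233d044505964a5f53532fb4a655a734) (.leaf 0)) (.node (.leaf 0x2459210e0000236846cf46ce102685334878c1417b855c15f000) (.leaf 0)))) (.node (.node (.node (.leaf 0x22be1ea20001078e16e6170b0ed285d30318c1826b03b82ab180) (.leaf 0x269652c300013f67364b47e2107184d7eb1a63270f138c262156))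 (.node (.leaf 0x2c332a3f00011cea22d14006126284742c7b96274f04b17d9156) (.leaf 0))) (.node (.node (.leaf 0x2e2c07bc000111852e152e1412c30590b66592eb71011170a12d) (.leaf 0)) (.node (.leaf 0x3bb8161300002abf4c483af516f38512231023ee74b5b42145be) (.leaf 0)))))) (.node (.node (.node (.node (.node (.leaf 0x14640746000101d5064206410a870490ab4c650f67a0db7bd18b) (.leaf 0x4c9b3a39000131253d6824541cb185759049d2f26e74c521441d)) (.node (.leaf 0x211a0afb0001158b356d356c0ea18551084db6dd2c57042cb180) (.leaf 0))) (.node (.node (.leaf 0x4a3a16d900000b2f1ca220391c6285523938b69a76b7fe3337bd) (.leaf 0x228d48ff00014ee84a8e46850ed105b6f659a2e180546c32d262)) (.node (.leaf 0x2a08020a000121b8453c453b122205102e6086fa5f04d97d9586) (.leaf 0)))) (.node (.node (.node (.leaf 0x437429520000066013cd13cc1a478494130d967513179f51870b) (.leaf 0xec2a0500013c0c33da1f9404570594292ca1460a7538537333)) (.node (.leaf 0x1c3e0ccc00001b6035b83e090cc285d13640530174508e18b41d) (.leaf 0))) (.node (.node (.leaf 0x4498457b0000103510dc2b7a1a718516a04ce65a5944015866de)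 (.leaf 0)) (.node (.leaf 0x424f1fcb000128d4405d196d1a2405f3216f05012817dc12d113) (.leaf 0))))) (.node (.node (.node (.node (.leaf 0x43d12476000004110d2a025b1a5584339c3ac7fa1033da5182cb) (.leaf 0x3fe53a170001362751335132189704b58c3c47853b91781562ab)) (.node (.leaf 0x146d2d280000186a39de31640a8705b46944350f2c324b7bd18b) (.leaf 0))) (.node (.node (.leaf 0x3e9014bb00010da71921223b187184120464059c64e02600055a) (.leaf 0)) (.node (.leaf 0x51da39f700002531483914861e9585558938927d3fd17f55a70a) (.leaf 0)))) (.node (.node (.node (.leaf 0x301f2a97000008bd1a331a32142285f4342597fa7532343332cb) (.leaf 0x27ca13440000433937b515ca10b60551df30914139a62315f586)) (.node (.leaf 0x26ef3f8900001e7b17862503107605f60d3370b361030a15f156) (.leaf 0))) (.node (.node (.leaf 0x162f2071000012e3309830970ac305f3370f13763551cc2c7621) (.leaf 0)) (.node (.leaf 0x2a49537800012cd34b0d3d3b12260537fd3ca30c4402947b2586) (.leaf 0)))))))) (.node (.node (.node (.node (.node (.node (.node (.leaf 0x100e113bce0001007a01bd01bc08818435b64e92ef671714025428)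 (.leaf 0x1ce0186600012e634e364e350cd704126055e2b04b00de32d049)) (.node (.leaf 0x4b340e59000013e1327a32791c828491624c143f5415b25fc2c7) (.leaf 0))) (.node (.node (.leaf 0x146f46bd000109a602e81c810a8705f6c25fb6b35142e40252ab) (.leaf 0x36474491000146bc53300e43162604f68609c5711d461368a786)) (.node (.leaf 0x36909fe00011fa92d10085104a70530ef6502a646078321470b) (.leaf 0)))) (.node (.node (.node (.leaf 0x11e0019f000004ee0fb70fb608f604102473b7115f30cb7b2537) (.leaf 0x46d01ae3000038643b9c267b1ab48412a11445d344a02754668a)) (.node (.leaf 0x4d721791000019863ada25c61cc584524c0787030d102032d124) (.leaf 0))) (.node (.node (.leaf 0x4b5e308c00010e93281228111c8585d4b446a3fa69e58055a70a) (.leaf 0)) (.node (.leaf 0x4a7430d90001268d0de2494f1c668494bb5c538070140a68a7bd) (.leaf 0))))) (.node (.node (.node (.node (.leaf 0x35d64f93000002aa08e308e214f484d7a121d38243423433528f) (.leaf 0x110146660000330a5027502608e10436bb3f04955e76fe18055a)) (.node (.leaf 0x46162f77000116a5371a14eb1aa184d49c3153ce5b9147000295) (.leaf 0))) (.node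 (.node (.leaf 0x402814e600000c1a227c227b18a205120835e11e0a279012d214) (.leaf 0)) (.node (.leaf 0x1be320e0000122f42579466a0cb704734204000f36940d2cb7d9) (.leaf 0)))) (.node (.node (.node (.leaf 0x362b1116000107440225163c16230571ad2c167561a32a21470b) (.leaf 0x4c0b15d500003e8c52d63b321ca105721d23c6c30ad0b073441d)) (.node (.leaf 0x1d4a462900001c8d3f820b0f0ce50556b02a31cb4d21957347bd) (.leaf 0))) (.node (.node (.leaf 0x11c0292e0000112e2d6a22ac08f404140e73555d02e4d904924d) (.leaf 0)) (.node (.leaf 0x41c24dec00012a430fa24c0118f40457756766ef72858b54628f) (.leaf 0)))))) (.node (.node (.node (.node (.node (.leaf 0x129c00b80001018f055d055c0a3485900e43a6623c336b049113) (.leaf 0x17284732000130984f474f460ae30516ce0235215924352625be)) (.node (.leaf 0x24cd072f0001153234db1af7103605b0a873b70842b0cb7b2586) (.leaf 0))) (.node (.node (.leaf 0x23550b1300000ade1f761f750ee584b10a12229f663186214025) (.leaf 0x3855443b00004cdf45912c4c166484b67f5de76a5e96b562124d)) (.node (.leaf 0x1ff408f20001215338fe350e0e578490d90541f75cc2b56de7d9)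 (.leaf 0)))) (.node (.node (.node (.leaf 0x34be20030000061512fc12fb14d285d3262066510b13b82ab149) (.leaf 0x48560c6800003b3f4ea650a21c2484d12e47814a4512f062115f)) (.node (.leaf 0x13b2858499300001b03326a3d8e10c58517092ec6ee3eb72c70a000) (.leaf 0))) (.node (.node (.leaf 0x1fe2488c00010fe12aca24f40e570456eb5952136f34636de049) (.leaf 0)) (.node (.leaf 0x2b4c44db000028634ab830ce124505968e6bf6fa3f30db7bd000) (.leaf 0))))) (.node (.node (.node (.node (.leaf 0x2450cfb000003ca0c580c57048604b13a3df49028a5cb24d32d) (.leaf 0x38483b210001359415a250fc16640515a11506664196b562124d)) (.node (.leaf 0x35e63221000018141180395614f604d4d509c79b04639268a6de) (.leaf 0))) (.node (.node (.leaf 0x386f098400010d52041e0480166705f0e61a84796e340d2cb5be) (.leaf 0)) (.node (.leaf 0x1dcc3d50000024c047ec47eb0cf50595da0932f40b932b214025) (.leaf 0)))) (.node (.node (.node (.leaf 0x4744463400000870197219711ae40496b13ae55d1d81a454628f) (.leaf 0x14d8066b0000424a51a2536b0a958510984c775c54850602532d)) (.node (.leaf 0x45af028900011e0f399c41681a9305f0374b72cd59211a15618b)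 (.leaf 0))) (.node (.node (.leaf 0x322b0a6d0001128b05ec2ffc14620570fb6447e809222c6216de) (.leaf 0)) (.node (.leaf 0x53620b4600012c5535a52df41ec504510f3f727f57f02032d124) (.leaf 0))))))) (.node (.node (.node (.node (.node (.node (.leaf 0x21333e2f000101020045038f0ea28475eb6e16ae51b6cd70b262) (.leaf 0x1b2148c213e00012f7812484ebb0a9105934e5d97540900db025428)) (.node (.leaf 0x9c127a30001148912e333aa06b60433e82fd7f259e2ad1132cb) (.leaf 0))) (.node (.node (.leaf 0x2a4b44dd00000a401dfe19c7122605768e75f6fa0d25a715f000) (.leaf 0x30d14af30000497639322e01143684372a0e541201603f68a786)) (.node (.leaf 0x269d481f0000206b440501d8107185b6e37f05033c674d124518) (.leaf 0)))) (.node (.node (.node (.leaf 0x164b160d00010580115c115b0ac50572207410060217612c72cb) (.leaf 0x384a3a7e000139bf39cf04a516640555947b01fd5db23170b28f)) (.node (.leaf 0x6270cb600001a453557238d064504f13517368020b41855a734) (.leaf 0))) (.node (.node (.leaf 0x3ae00f2100000f3805b11f8016d70411750d448725662f32d333) (.leaf 0)) (.node (.leaf 0x121a230f000127734a09463f0a248553777c76e21623227d9113)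 (.leaf 0))))) (.node (.node (.node (.node (.leaf 0xc6936100001033800e80a9f08270535330d11727b01d2180333) (.leaf 0xba54ce40001344e509b358a06f304b75e2a110720d2832cb5be)) (.node (.leaf 0x275f35a900001757383c383b10a685f52c51f7083eb2d87b2000) (.leaf 0))) (.node (.node (.leaf 0xfeb527d00000cb823ec23eb08b60577e367306446d5a715f734) (.leaf 0)) (.node (.leaf 0x1a513ffd000123d51c58473a0c8584361772a6782d533e48670a) (.leaf 0)))) (.node (.node (.node (.leaf 0x36213b5f000007db17d817d716230435a674e1e25e65ae734621) (.leaf 0x465e27f50000406d266d47141aa485d3f21705fa5470a912d68a)) (.node (.leaf 0x2602c1b00001d491ff0104d04870414535616b30575385372ab) (.leaf 0))) (.node (.node (.leaf 0x9ca01cb000011db2ebc2ebb06b605502a5cf24846d61368a786) (.leaf 0)) (.node (.leaf 0x2369474100012b4c101d4c940ee60536d11c40ec4702ad1137bd) (.leaf 0)))))) (.node (.node (.node (.node (.node (.leaf 0x36431a310000021c06f60725162604728c0372c237e09568a2cb) (.leaf 0x472a07ba000131c52c9943a91ae30550b64034797e03bd0005fc)) (.node (.leaf 0x3c2102ec000115e932fb3602182304304261716e42713e000333)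 (.leaf 0))) (.node (.node (.leaf 0x3932400100000b7e20f820f7168384561a16b68b5a622748618b) (.leaf 0x32720a8d000052564bdb40c714678450fe73e0f42be3477865be)) (.node (.leaf 0x122336da0000221a1ec8459c0a2504754150e66840238c124295) (.leaf 0)))) (.node (.node (.node (.leaf 0x47eb2f8e000006ac149f099f1af505749d7cf7e82ca3bd0006de) (.leaf 0x142b2be300013cc9214d42090a8305744f1576b33c96b402518b)) (.node (.leaf 0x3ea33d6900001bc13e843e8318720475db3a27115521e4546486) (.leaf 0))) (.node (.node (.leaf 0xfc313bb000010862c242c2308b40471f063342d1dd6ed7d968a) (.leaf 0)) (.node (.leaf 0x50c538100000294d4b564b551e7504b55e0210125100c22957bd) (.leaf 0))))) (.node (.node (.node (.node (.leaf 0xea02a45000104590e06023e089304142e13542657e7147bd18b) (.leaf 0x4262684000136e7510f063704c304d3ca34f4235e658e32d333)) (.node (.leaf 0x3d65278d000118cd3a6e3a6d184704b3e566305b64212b156621) (.leaf 0))) (.node (.node (.leaf 0x35402d5b00000df726b2263e14e404146d6a576d05170d33324d) (.leaf 0)) (.node (.leaf 0xb131420000025a44894131506e28471f80283ea65422c70b6de)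 (.leaf 0)))) (.node (.node (.node (.leaf 0x423050f6000109091af91af81a238417c221f4870377c4586333) (.leaf 0x271038a20000444e34962a2a10a284156a1656aa0ef32e7d9000)) (.node (.leaf 0x1d333e4f00011edd27a921470ce28475ee7e50125541a23337bd) (.leaf 0))) (.node (.node (.leaf 0x18a03f1900001333313931380c350416034ae7887161cd21441d) (.leaf 0)) (.node (.leaf 0x16f8193e00002d4c4da544b10ad78512747a905b2816192c770b) (.leaf 0)))))))))

/-- part of a table -/
def entries107 : Trie := (.node (.node (.node (.node (.node (.node (.node (.node (.leaf 0x2d7234bd0000003700cf00ce12a78455177957592b74de26212d) (.leaf 0x3b893f2b00012ddd3b1c2ae116f105360458c25d78708a295486)) (.node (.leaf 0x18a94d830000138a31eb31ea0c3505376c1227883e263521441d) (.leaf 0))) (.node (.node (.leaf 0x7d14ed4d370001095a09891bc10a9705b7651aa2cd56d60e0252ab) (.leaf 0x2a84a680001458e52c82b36049305171f23042665f4fa6de18b)) (.node (.leaf 0x4610262d00011f4615ec42c61aa18413c35b035820b7ae586295) (.leaf 0)))) (.node (.node (.node (.leaf 0x140e2c38000104a40ee10ee00a8105d45566b4e85fe3d5025428)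 (.leaf 0x50df24d7000037ae1f4d1d101e7585f3a548e3cc1d1545295025)) (.node (.leaf 0x256e28660000192d1f8a3af3104705d3fe2a96550567187bd12d) (.leaf 0))) (.node (.node (.leaf 0x372b4c5200010e44276c22fb164305774b1ae5a325464f537333) (.leaf 0)) (.node (.leaf 0x510a37d10001261a4613310b1e810555572001b94dc2275372c7) (.leaf 0))))) (.node (.node (.node (.node (.leaf 0x49a0219900010263080a01831c5304135759108959f2406de049) (.leaf 0x32404941000132644a8017dd14640416ff1623741846b570b24d)) (.node (.leaf 0x240d04be0001164617083688102205b06b6096ee407740049586) (.leaf 0))) (.node (.node (.leaf 0x118e2b7400000bcb1d86200608f105d44727b3d06823081806de) (.leaf 0)) (.node (.leaf 0x44670fda0000228d244239a81a6704f1904034796a07e20005be) (.leaf 0)))) (.node (.node (.node (.leaf 0x509c4b7b000006f509af156c1e718597374f70124735b42147bd) (.leaf 0x47b80ffe00003db03d8e4d911af385119362a28426b7ae5865be)) (.node (.leaf 0x32154dc600011c263efd3efc146184b7734cb68d0506282cb537) (.leaf 0))) (.node (.node (.leaf 0x404531b1000110db2cbd148e18a404b4cb1435f716a02712d68a)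 (.leaf 0)) (.node (.leaf 0x4d5444e4000029cc48134bab1cc484968f1fb3874882262ab7b2) (.leaf 0)))))) (.node (.node (.node (.node (.node (.leaf 0x8372bb900010149047a0479068384f44c5482796e50ff6de2ab) (.leaf 0x454190a00002ffd4e39136c04c48492714b957303c5742ab113)) (.node (.leaf 0x2d753227000114e03445133912a784b4d54412353941ec12412d) (.leaf 0))) (.node (.node (.leaf 0x2afe0ec400000a901eb91eb8123785d16b4001945b341741d546) (.leaf 0x1f894d1d00004b1353a11a780e5405376272014b33105e5fc7b2)) (.node (.leaf 0x924296d000120e00b72046906a304941560567501408a14970b) (.leaf 0)))) (.node (.node (.node (.leaf 0x34651ec000105cc01b0123204a604d7d45cf24829039268a2cb) (.leaf 0x4d750b3000003a7c2c6652321cc584b10d0096a97f70cc428124)) (.node (.leaf 0x2f449ca00011aa333782575049784970f5a58078020ba4862ab) (.leaf 0))) (.node (.node (.leaf 0x1eac4c9400010f8f2a222a210e350597521c03016405ae734180) (.leaf 0)) (.node (.leaf 0x31eb2ffe000027e8297613ee14560574a974b3d62334ea28f149) (.leaf 0))))) (.node (.node (.node (.node (.leaf 0x329c481c000103820b7c0b7b14718596e366725d37c21c786537)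 (.leaf 0x4a8a061a000134eb345a476f1c710550915e814f1d00b0734025)) (.node (.leaf 0xadb09e8000117b638c038bf06d48570ee2645736a52982ab113) (.leaf 0))) (.node (.node (.leaf 0x335c064a00010d062499225b148685909456c0055827fc28f32d) (.leaf 0)) (.node (.leaf 0x67f4ae4000024533a9e41e5064785f72919966c4782a7486333) (.leaf 0)))) (.node (.node (.node (.leaf 0x6fe1674000108270f840bf1065785d22e1b076405a71c486335) (.leaf 0x61636d00000415525c2517f064484d5410335a91610435be68a)) (.node (.leaf 0x31154a7f00011dae40e13caa144184b7207b157610f05d6de214) (.leaf 0))) (.node (.node (.leaf 0x6af3539000012360faf2bde065505f5235954575404186de734) (.leaf 0)) (.node (.leaf 0x118911fa00002bd14cdc4a7008f10531c23e879b44e2f341d6de) (.leaf 0))))))) (.node (.node (.node (.node (.node (.node (.leaf 0x4e340c1000000bf02a902a804d504762c00c3b37ca059428734) (.leaf 0x2ea7385e00002eec1e9b4e7a12d304f56576839f1eb3d970a546)) (.node (.leaf 0x20cd4c1b00011432330607e80e9505b74568649b0dc10e48670a) (.leaf 0))) (.node (.node (.leaf 0x27f511d4000009f41b961d4010b784b1c03d16557a8435124546)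 (.leaf 0x2dd74a9d000147f82a56534a12b684f72252e45a27b18e7b2586)) (.node (.leaf 0x18b5254b0001200f43a51eb10c3584b3ad5d510421f1cd73441d) (.leaf 0)))) (.node (.node (.node (.leaf 0x3e95227000005381085108404b70537da4a45b157232b214621) (.leaf 0x2c650fd60001391517e61e87126604b1902b16470843c17b2156)) (.node (.leaf 0x181536be000119e625d63c0f0c2484b53f6c916c5ef24e3357b2) (.leaf 0))) (.node (.node (.leaf 0x17a5339a00010ee628c823240af304b4f95ad07c25174d1245be) (.leaf 0)) (.node (.leaf 0x2f8b302d000126fd2ab349ad12f10574ac7970f57df5bc180156) (.leaf 0))))) (.node (.node (.node (.node (.leaf 0x1ee5488b000002f309c509c40e3704b6eb58c21314308a295049) (.leaf 0x1f8a4c9a000033a7506013410e540557524456b74cd12a5be15f)) (.node (.leaf 0x271541bd000116fd326e37b010a284b6425d033474a69b7d9586) (.leaf 0))) (.node (.node (.leaf 0x24044adf00010c6a03ce233f10220497287996ee30769b049586) (.leaf 0)) (.node (.leaf 0x5295113e0000236939d705111eb184b1af65018374a32b21441d) (.leaf 0)))) (.node (.node (.node (.leaf 0x4e8331320000078f1293170c1e320474c11a9319652231621262)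 (.leaf 0x3bf3274900013f681c7b4c6616f68473e04e365a68661311355a)) (.node (.leaf 0x34a5373300001ceb4007074e14d204b54b15214817545018b149) (.leaf 0))) (.node (.node (.leaf 0x1f953b60000011862e1600db0e5484b5a80183871434765be7b2) (.leaf 0)) (.node (.leaf 0x84e193900012ac02d6d4c49068605d27441a00557b1e828f428) (.leaf 0)))))) (.node (.node (.node (.node (.node (.leaf 0x97c10c2000001d60644064306a78591a612267513163521470b) (.leaf 0x1c0031c4000031264e9f4eba0cc10414cd19b6ae7160cc428124)) (.node (.leaf 0x49804b130000158c356e35221c5104172f2ca26e7f6538537262) (.leaf 0))) (.node (.node (.leaf 0x3b21290500010b2f203b203a16e304340b2bd28e3e35b47345be) (.leaf 0x2360615524a00004eea53fb3da7064484b7df5755d36830e25fc113)) (.node (.leaf 0x25364010000121b9453e453d104384d61b00e65512f60a7bd12d) (.leaf 0)))) (.node (.node (.node (.leaf 0x48625f90001066013cf13ce04d204d3bf3be7bc29b5202ab295) (.leaf 0xb640bdd00013c0d214c409006e504911c66725d71e21c786537)) (.node (.leaf 0x74d44fd00011b601b863306066605b6906da65a0d42ad11355a) (.leaf 0)))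 (.node (.node (.leaf 0x4db63dd2000110352b7c2b7b1cd384d5e50e73a40a648c4287d9) (.leaf 0)) (.node (.leaf 0x2e1b3900000028d646383b8c12c18575721d13510ad2d92c7000) (.leaf 0))))) (.node (.node (.node (.node (.leaf 0x1cb73e45000104110d2b0b7e0cd284f5ee2646c32d62982ab180) (.leaf 0xf98106c0001362816013ee608b185119d7ad3ba5e81ec124149)) (.node (.leaf 0x37c60f380001186a39e039df165404d17c3bb5f73b40c95be113) (.leaf 0))) (.node (.node (.leaf 0x6e4294c00000da82605260406570494115a50b454433e486335) (.leaf 0)) (.node (.leaf 0x11de288e000125310ef532ea08f485d4005f273351434d04928f) (.leaf 0)))) (.node (.node (.node (.leaf 0x221a0af0000008be1a351a340ec185510810172443317432d262) (.leaf 0x44eb1e3d0001433a2adf2fca1a770572f67cf03d7737e20005be)) (.node (.leaf 0xe3b35c000011e7b37e141de088385752e00e60707460a7bd18b) (.leaf 0))) (.node (.node (.leaf 0x6cc00b4000112e314893099065605900e1e53582fb56024d149) (.leaf 0)) (.node (.leaf 0x38632da500002cd442c43f8c16670474723f225f5e925a2cb5fc) (.leaf 0)))))))) (.node (.node (.node (.node (.node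 (.node (.node (.leaf 0x50094dae0000007b01bf01be1e6105377068f09e1c35b47347bd) (.leaf 0x388939bb00012e6629ea4adc167105358448b39859417d2cb486)) (.node (.leaf 0x3b4f4a25000113e1327b221216e405f7191f53560331a233324d) (.leaf 0))) (.node (.node (.leaf 0xa784613000109a70dc71c8206c58516af19011e7c143b428214) (.leaf 0x5c428d8000146bd3e95443904f404940749c76d2ed07562128f)) (.node (.leaf 0x2c7a2e1200011faa43363a95126685547d18d6474f02f17b2156) (.leaf 0)))) (.node (.node (.node (.leaf 0x4e25784698000104ee0fb90fb810478516c058d39e7c724b02512d) (.leaf 0x572e480000386551c351c2044684f4814827bc1a87d624d295)) (.node (.leaf 0x1767076c000119863b7d3b7c0ae604f0ad6c13986432d815f486) (.leaf 0))) (.node (.node (.leaf 0x4346449600000e94095d213e1a4504d6862b85715b84a1156786) (.leaf 0)) (.node (.leaf 0x149e2fda0001268e2a9f48bd0a9185d4a55335ce2006b47bd32d) (.leaf 0))))) (.node (.node (.node (.node (.leaf 0x97526b2000102aa08e508e406a784b3d12bc67505275021470b) (.leaf 0x200a48fa0000330b2c8e31710e810556f645f6783c44cc55a2c7)) (.node (.leaf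 0x118c513e000016a61647371b08f10597c77bb5df0ed41441d55a) (.leaf 0))) (.node (.node (.leaf 0x932840516d00010c1a227e227d10c50417ca6e86aa15c78970a000) (.leaf 0)) (.node (.leaf 0x8ff52e3000022f6466b1d34069785f7ee1b02ea7ec71c48618b) (.leaf 0)))) (.node (.node (.node (.leaf 0x52854ec000000745163e163d1eb104b78e0530726605ae734180) (.leaf 0x4dac3cbc00003e8e52eb34051cd30595cf6d92b05cd43b32d7d9)) (.node (.leaf 0x3e66494b00011c8d3f733f83186704d6ff5e13ee1ff47c5865be) (.leaf 0))) (.node (.node (.leaf 0x3d7c4e9a0001112e2d6c2d6b18478597875e036178015d156621) (.leaf 0)) (.node (.leaf 0x8d7076000002a452d0715c2069684f0ad0224373db0cf24d32d) (.leaf 0)))))) (.node (.node (.node (.node (.node (.leaf 0x53cf0ac600000190055f055e1ed405f1031ff4ca7e674c2ab7b2) (.leaf 0x1a8020f300003099229a3f040c9104134321949b6f24646de2c7)) (.node (.leaf 0x273d09c30000153334dd34dc10a385b0eb3d222d42e6fe41d546) (.leaf 0))) (.node (.node (.leaf 0x12fe316f00000adf1f781f770a3785d4c47af3e449113241d335) (.leaf 0x217942d100014ceb4c2c14ac0ea785365d187089559283786049))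 (.node (.leaf 0x279426d00001215526a72d6710b28493d40ae6aa69469b7d9586) (.leaf 0)))) (.node (.node (.node (.leaf 0x52713a140001061502b112fd1ea684358c31a4d87af0c568a124) (.leaf 0x230107df00013b3f46fc50040ee10430b87d02f41f208a1497bd)) (.node (.leaf 0x3def2d3800001b043d903d8f185705f46a2e65b15724a1518621) (.leaf 0))) (.node (.node (.leaf 0x4c4904ec00000fe219b70f7e1ca405306e6a514b59624e3337b2) (.leaf 0)) (.node (.leaf 0x88f4073000128634aba4ab9069205f6241f943719e6b65be32d) (.leaf 0))))) (.node (.node (.node (.node (.leaf 0x484b44ac000103ca0c5a0c591c2405768764407f16575562115f) (.leaf 0x45ca1c400000359540684cc41a950552c12cc7546e4581156428)) (.node (.leaf 0x1b70454300011814129939570ca784169d2c629e2fc2e72cb7d9) (.leaf 0))) (.node (.node (.leaf 0xbe726b800000d53254f074206f504f3d158925d32140d786486) (.leaf 0)) (.node (.leaf 0x3e700fdd000124c029b447ed186784119074203d18c0260005fc) (.leaf 0)))) (.node (.node (.node (.leaf 0x16e110b300010870197419730ad70431a50f236156f6d82c770b) (.leaf 0x49d62fe10001424a306047511c5484d4a71151b74516c55fc15f))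 (.node (.leaf 0x1d403c5a00001e10416a41690ce50415c46503cc6f232b214025) (.leaf 0))) (.node (.node (.leaf 0x2722372d0000128c2ffe2ffd10a30455496c26552ce41741d546) (.leaf 0)) (.node (.leaf 0x3c014ad200012c564d2646b318220437281433534ab79012d214) (.leaf 0))))))) (.node (.node (.node (.node (.node (.node (.leaf 0x26ca1239000001030391039010750551c65f05c67c9132180518) (.leaf 0x3c8a52dc00002f7a1e7f4c7f18320557ec5ba2d27227dc546734)) (.node (.leaf 0x117a09380000148a314633ab08e68550e05c977217c2f17b2537) (.leaf 0))) (.node (.node (.leaf 0x4c162e7d00000a411dff05df1ca184d4847260f97aa6ad21441d) (.leaf 0x477a1af600004977470251891ae58552a315307a0a51470006de)) (.node (.leaf 0x39363c660001206b31d51d80168384d5c54a93176e566e4862ab) (.leaf 0)))) (.node (.node (.node (.leaf 0x49d8237200000581115d003a1c548513830af16c01f4045be15f) (.leaf 0x29840d46000039c03c33521110f10491423e86d65d92f341d518)) (.node (.leaf 0x2a8e216000011a452bb51375123205d3520d73514694f4049586) (.leaf 0))) (.node (.node (.leaf 0x15f526a900010f38297129700ab684b3cf5537ff4856e915f734)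 (.leaf 0)) (.node (.leaf 0x6a20918000027754a0a0c2e06550450dd5f37ed18717f6de214) (.leaf 0))))) (.node (.node (.node (.node (.leaf 0x26c43ad1000103390aa10aa0107504959a04150365941441d518) (.leaf 0x11c90e110000344f44e142dd08f405315c1f855d1153b104924d)) (.node (.leaf 0x1f8c0033000017581da0383d0e540590041da1dc67b0e25fc15f) (.leaf 0))) (.node (.node (.leaf 0x2553326b00010cb823ee23ed10458474dd4c43004416b47bd586) (.leaf 0)) (.node (.leaf 0x30a62731000023d60e5e473b143304d3df0d51e25e6195734621) (.leaf 0)))) (.node (.node (.node (.leaf 0x468c026c000107db17da17d91ab105903566101936e048586149) (.leaf 0x73642040000406e531a4c4a066584d6482926cf3a5545149537)) (.node (.leaf 0x455b146300011d4a40753f341a858571fc1697d128c4a115632d) (.leaf 0))) (.node (.node (.leaf 0x4ef54ef3000111db1fce22e81e3584b79317559b4412832cb41d) (.leaf 0)) (.node (.leaf 0x4398344600002b4d4c964c951a5185150b4bd69262e3da5182cb) (.leaf 0)))))) (.node (.node (.node (.node (.node (.leaf 0x218424f90001021c009507260eb10493a748b78826017d2cb180) (.leaf 0x3559499c000031c631b3399914e48537096c976a45224e33528f))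 (.node (.leaf 0x19b521bc000015ea360436030c5584b35a6df31955169c486262) (.leaf 0))) (.node (.node (.leaf 0x4e54155400000b7f20fa20f91e2484921016a16c69f56e6217b2) (.leaf 0x278918250000526c53ec53b510b20532592881413d836b049000)) (.node (.leaf 0x4f8c02580001221a459d17c61e5105903328c4107d46f8486262) (.leaf 0)))) (.node (.node (.node (.leaf 0x22fc1f3c000106ac14a114a00ed785931557c69765746c32d7d9) (.leaf 0x41701f8400013cca4e5e109418e584131d18813c44d13e0006de)) (.node (.leaf 0x283b033600011bc13e790a1f10c385704d45b39e31f5132c7546) (.leaf 0))) (.node (.node (.leaf 0xb6a22c1000010872c262c2506e50553710a27397d77042cb537) (.leaf 0)) (.node (.leaf 0x17b03ca40001294d4b573bc70af38415cd2717ac58a0b22625be) (.leaf 0))))) (.node (.node (.node (.node (.leaf 0x409536f50001045a0e080e0718b184b5443427d22447ae000295) (.leaf 0xdf42ace000036ea51644c2308778494397ad2847781ec1245fc)) (.node (.leaf 0x4c9f3e32000018ce22ba187b1cb185f5ec29b18347e416214180) (.leaf 0))) (.node (.node (.leaf 0x49f611a000000df826b314d51c5684d1bb0221040980d824d180)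 (.leaf 0)) (.node (.leaf 0x18e53f16000125a42ef048950c3704b60328600f5eb2022957d9) (.leaf 0)))) (.node (.node (.node (.leaf 0x27a229040000090a1afb1afa10b304540b27b6bd78278b180546) (.leaf 0x47911136000044504fb44fa31af28431af3a76cf01a41f546537)) (.node (.leaf 0x285a1a6100001ede424f425810c58552921e960b6727612c7586) (.leaf 0))) (.node (.node (.leaf 0x305211e5000013342779313a14268451c14277f22bc613113786) (.leaf 0)) (.node (.leaf 0x5032188b00012d4e1cec4da61e628452636043fb5054b5335025) (.leaf 0)))))))))

/-- part of a table -/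
def entries108 : Trie := (.node (.node (.node (.node (.node (.node (.node (.node (.leaf 0x1ac441970001003700d100d00c950496402ca27d5a833e53770a) (.leaf 0x42ec101500002de12e141b281a3505919721f148102026586149)) (.node (.leaf 0x3e151dc20001138a14f43032186184b2e518813c68c7b500055a) (.leaf 0))) (.node (.node (.leaf 0x4a4a1d6b0000095b14af1bc21c650552dc5313cc67c2072957bd) (.leaf 0x3a0a03fa0001459030d253a816c105505a47d4578006f132d214)) (.node (.leaf 0x90a3c2900001f4736a20f8806a20555c04d052a37e4a83332cb) (.leaf 0)))) (.node (.node (.node (.leaf 0x4762069c000004a50ee30ee21ae504509b5783d04af7b600055a) (.leaf 0x11bb40e8000137ae2833400408f38576304407ef0426772625fc)) (.node (.leaf 0x85626b60000192e20e33af4068684d3d14822ef3211e824d428) (.leaf 0))) (.node (.node (.leaf 0x2e3f329f00000e4526531d6212c385f4e37ab23534b3d92c7546) (.leaf 0)) (.node (.leaf 0x31e9103e0000261b2939267814560531996db7b449d3de24d295) (.leaf 0))))) (.node (.node (.node (.node (.leaf 0x1813221b00000264080c080b0c2484736352b1b74a02503337b2) (.leaf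 0x2d770abd0001326628d74ff912a784f1027b81943b2314262546)) (.node (.leaf 0x244b32d90000164736891e0710260574e730914169462315f586) (.leaf 0))) (.node (.node (.leaf 0x19781dde00010bcb111221c30c478512e670609d6f62b56de7d9) (.leaf 0)) (.node (.leaf 0x1622539116c0000228e107032d810438531b34e90c451e60e02512d) (.leaf 0)))) (.node (.node (.node (.leaf 0x10751903000006f6156e156d08c784b2711162a678011170a621) (.leaf 0x3bb35c800013db12b1c2bb004b385752e1a137640b2b629570b)) (.node (.leaf 0x60033f200001c273efe31e406440415023a95f74f60e25be113) (.leaf 0))) (.node (.node (.leaf 0xcd2497250b000010dc2cbe2560103284f3a95c060b3e94b1049000) (.leaf 0)) (.node (.leaf 0x23633b93000129cc4bac11f00ee60475b003714f1c709568a025) (.leaf 0)))))) (.node (.node (.node (.node (.node (.leaf 0x3daf030e0000014a047c047b185305f04579d37633b20e518621) (.leaf 0x364f2f1d00012ffd30b74efb162605f4926f54122c93c768a786)) (.node (.leaf 0x43d35c9000114e10d9a344604c385b52e38e14640b46c428333) (.leaf 0))) (.node (.node (.leaf 0x40800eb200000a911ebb1eba18b104116a2823d64b47c4000295)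 (.leaf 0x317609da00014b1b2b8c53eb144684d0ed5920195f67d624d295)) (.node (.leaf 0x394e3842000020e12b540d64168605d5642d315a6870d828f428) (.leaf 0)))) (.node (.node (.node (.leaf 0xc2310f6000005cd0db8123308250471aa2c478f27e78d262295) (.leaf 0x3960389500013a7d4e60280216870415695116b34344206de2ab)) (.node (.leaf 0x37ae048d00001aa42f452aac165305d0685d616e6c6664537333) (.leaf 0))) (.node (.node (.leaf 0x176a2e2e00010f902a242a230ae605547e73025d4c862315f537) (.leaf 0)) (.node (.leaf 0x2cbb4b77000127e94a621bfa12728577374595dc1d07077d9156) (.leaf 0))))) (.node (.node (.node (.node (.leaf 0x41472f45000103830b7e0b7d18e404f4962de6ef0517dc54624d) (.leaf 0x1c14ff9000034ed48b204cf04760437a95655df0e61a01136de)) (.node (.leaf 0x4cfb1b61000117b738b037c31cb68572af04d2e17bb3c7113262) (.leaf 0))) (.node (.node (.leaf 0x50640fd100000d07249a03fc1e660491900fc1e621518a113025) (.leaf 0)) (.node (.leaf 0x3c8353aa00012453479b05a118320478026762d27d058b546734) (.leaf 0)))) (.node (.node (.node (.leaf 0x2eeb1c4100000828159a18ad12d70572c14096893b54d670a12d)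 (.leaf 0x3ded2ca60001415635cc2cf2185705b45f33677c03c04715670b)) (.node (.leaf 0x2f31227a00001daf263940f012e284336c6bb5ab22e32e049518) (.leaf 0))) (.node (.node (.leaf 0xe32a9604a900011236174a2f55123284d06a4596fa27b4f47d9586) (.leaf 0)) (.node (.leaf 0x456b471000002bd222d64ccb1a870576ca00450f72020e15618b) (.leaf 0))))))) (.node (.node (.node (.node (.node (.node (.leaf 0x245b2830000100bf026f02aa10268573f803270842b4987b2586) (.leaf 0x439c2c0500002eed4c2010311a518594521e172b32314d518786)) (.node (.leaf 0x1b0849210001143317ac33070ca10516fc0fa6c37cf17d2cb180) (.leaf 0))) (.node (.node (.leaf 0x20522025000109f41d41166f0e8584532c16b2115b52274862c7) (.leaf 0x14d919330000480134f353ce0a958532741aa1e06cb60e02532d)) (.node (.leaf 0x11623b860001201014a943a608e60455ad1c507e70618e15f486) (.leaf 0)))) (.node (.node (.node (.leaf 0x3c750c6d0001053810860bda182584b12e6167b44d5026000149) (.leaf 0x3d6b2386000039163c59172b18470573852fe74456a7e9518621)) (.node (.leaf 0x47470443000019e73c113c101ae404f06345e3561586b812d24d)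 (.leaf 0))) (.node (.node (.leaf 0x3c3a017c00000ee728c9038118238550226b03e4076118586333) (.leaf 0)) (.node (.leaf 0x3a54229d000126ff49af49ae16c484936e6a70f017e61d2ab113) (.leaf 0))))) (.node (.node (.node (.node (.leaf 0x2c9c4b7e000102f309c606ff12718597376945dc1160bf262156) (.leaf 0x47b91616000033a8218648761af385322332c3ee1ad7b55865be)) (.node (.leaf 0x17634ff000016ff37b237b1046784d51c72603d18c6ad2145fc) (.leaf 0))) (.node (.node (.leaf 0x1735041c00000c6b234123400ae384b06074a03d1000b21245be) (.leaf 0)) (.node (.leaf 0x26464b490000236a46d015cd106504d7325391ef64630841d156) (.leaf 0)))) (.node (.node (.node (.leaf 0x2286203400000790170e170d0ed104d32f1c631901b020428124) (.leaf 0x5bc40e400003f6e5227520004f385963036d7ef0742e77865fc)) (.node (.leaf 0x4c7b12da00011ceb40080b6d1ca68571d76c66a93cf287113124) (.leaf 0))) (.node (.node (.leaf 0x4abb0ed4000111861d5322d71c7285716d28114f1162f9335025) (.leaf 0)) (.node (.leaf 0x2376378400002ac14c4a302f0ee684d5510eb1e64f54e11137bd) (.leaf 0)))))) (.node (.node (.node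 (.node (.node (.leaf 0x3ce043e2000101d60646064518350416791887bc29b7b5000295) (.leaf 0x17b72bbe00013127191e2cc60af384f44c79e3ee6144de1245be)) (.node (.leaf 0x411c249b0001158c356f2b8018e28593a065777203a02712d537) (.leaf 0))) (.node (.node (.leaf 0xccb2dc200010b30203c05ed083605747434b7ff2c62d815f734) (.leaf 0x3956322400004ef348d04bb1168684d4d528d76e6c00d824d428)) (.node (.leaf 0x46ef0676000121ba0bc7453f1ab705f0992d67dd7b0118000333) (.leaf 0)))) (.node (.node (.node (.leaf 0x52583bd30000066113d113d01ea48515b81db38713b70d33315f) (.leaf 0x1a8b45f600013c0e4a664d570c910576ab38927d0d917f55a70a)) (.node (.leaf 0x40e72b4000001b612dda216318b704f4440015a326647c586335) (.leaf 0))) (.node (.node (.leaf 0x2fef0672000010362b7e2b7d12f605f09912f5dc52d49815f518) (.leaf 0)) (.node (.leaf 0x33c13220000128d60eee394c14960434d50420cd38337924d32d) (.leaf 0))))) (.node (.node (.node (.node (.leaf 0x3d480a3758000004120d2c011f1c2205554d54772465b22c621262) (.leaf 0x2222340700013629360c51340ec20455041d52f274252018b41d)) (.node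 (.leaf 0x1ea2320d0001186b096d39e10e350454d2564788342195214180) (.leaf 0))) (.node (.node (.leaf 0x4299344b00010da8070a26061a3285350b5f93b3620790546214) (.leaf 0)) (.node (.leaf 0x4414c48000025321be62f5004c404374a2e513425961d2ab113) (.leaf 0)))) (.node (.node (.node (.leaf 0xdce18d7000108be1a371a36087605d26c3377e462230a15f537) (.leaf 0x398f00110001433c4b3b3079169205f0021107544bf2fa5be32d)) (.node (.leaf 0x60f333000001e7d1a202b12064405f4f10035af0350c95fc113) (.leaf 0))) (.node (.node (.leaf 0x3dc9103d000012e4309b309a18550531996d752a46279f156786) (.leaf 0)) (.node (.leaf 0x15a60cef00012cd410e720460ab304d13980866c5e65ff180333) (.leaf 0)))))))) (.node (.node (.node (.node (.node (.node (.node (.leaf 0x47a4121c0001007b01c101c01af30491c45b01073c97ae5865be) (.leaf 0x474312f200012e674d0d4e371ae40471d93035834c180412d28f)) (.node (.leaf 0xd04347b000013e3327c10df08640495103b51fd5db32e04928f) (.leaf 0))) (.node (.node (.leaf 0xec442fe000009a81c841c83089504966054122803a63c7bd428) (.leaf 0x3dd72b65000146be50294b95185584f4461404cf1d447a518786))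 (.node (.leaf 0x15428c90fc600011fab329a0d6810d505318f4677083cd7892c7000) (.leaf 0)))) (.node (.node (.node (.leaf 0x76c44f4000004ef0f8c0fba06670596902b325f3497507345fc) (.leaf 0x3403147a0001386850cf40e414c10471fe5a135366762632d734)) (.node (.leaf 0x3cc5505c00001987243029bb183404b7b15ee42d73d29112d68a) (.leaf 0))) (.node (.node (.leaf 0x22a1203f00010e94048928130ed204332f7a60f952461d18b41d) (.leaf 0)) (.node (.leaf 0x50873a6c0000268f3b7c49501e7104f5937262a07be54a214025) (.leaf 0))))) (.node (.node (.node (.node (.leaf 0x8250ce7000002ab08e708e6068304b1395116b32514fa6de18b) (.leaf 0x138f08630001330b32a950280a7405f0ca19d6ef0fb32204924d)) (.node (.leaf 0x197a0d38000116a60769371c0c478551404bf0836ec17f55a049) (.leaf 0))) (.node (.node (.leaf 0x48fc1de400000c1b2280227f1c358592e836e34c0d343d78641d) (.leaf 0)) (.node (.leaf 0x4a2e4daf000122f71384166d1c6205d7707cb2574224a8335025) (.leaf 0)))) (.node (.node (.node (.leaf 0x47f82226000107451640163f1af585136410a6a36820485866de) (.leaf 0x13ff464f00003e8f3c954e4b0a7785f6b27da28e7922421245be))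 (.node (.leaf 0x2e521b3500001c8e32293f8412c58452aa0f16fa0ab3042c7000) (.leaf 0))) (.node (.node (.leaf 0xc6e042e000011312d6e2d6d082705d0616c27a262b5bc41d333) (.leaf 0)) (.node (.leaf 0x51dc1e2a00012a462cc246901e958592f55912804432b56de70a) (.leaf 0)))))) (.node (.node (.node (.node (.node (.leaf 0x23f81d4700010190056000750ef68512d641e0123ab21868a025) (.leaf 0xd142db3000130994e68173b08648494730ae6371683b17d924d)) (.node (.leaf 0x435a02720000153434df34de1a458550362b85711f367e1562cb) (.leaf 0))) (.node (.node (.leaf 0x319405e700010adf1f7a1f79145184908d3e501d0aa42055a214) (.leaf 0x1d02ac500014cef45324787047684143931a1b807821868a55a)) (.node (.leaf 0x14d1f92000121561c8e1b54046605b31e2fd7e857c03f1136de) (.leaf 0)))) (.node (.node (.node (.leaf 0x4dc334b30000061612ff12fe1cd40475171ff4ca2b73b82ab15f) (.leaf 0x42593e9b00003b404da447ce1a248535f35f96e24d03e654668a)) (.node (.leaf 0x41d22ba00011b0431633d9104c285b3706a77b44d561d2ab149) (.leaf 0))) (.node (.node (.leaf 0x1d4f013000010fe22acb0de10ce505f01b01669a00432a734025)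 (.leaf 0)) (.node (.leaf 0x325f5231000128644abc4abb146485f7de1264b816d33862128f) (.leaf 0))))) (.node (.node (.node (.node (.leaf 0x506e1180000003cb0c5c0c5b1e6605d1b603714f1893c768a7bd) (.leaf 0x22dd0dbd00013595337745f70ed485b15363e1766ea51d18b7b2)) (.node (.leaf 0x86a2d24000018151ba1121d068705546920050f68822753718b) (.leaf 0))) (.node (.node (.leaf 0x4b090c2a00000d55255125501c8105312667919c4e56f853770a) (.leaf 0)) (.node (.leaf 0x48e51ec5000024c147ee32b91c3504b30639d30f0ac17d786180) (.leaf 0)))) (.node (.node (.node (.leaf 0x112a4b200000087116b011fd08e30557301a647972138c2625fc) (.leaf 0xaf41b480001424d4f563fe306d58492ac55e6cc4850de32d734)) (.node (.leaf 0x3e6c1d6600011e102215416b18670592dc23e7ef1680260005fc) (.leaf 0))) (.node (.node (.leaf 0x4b4c39f20001128c30002fff1c850595891bb2110d646455a2c7) (.leaf 0)) (.node (.leaf 0x525c1afb00012c5710a3304f1ea48592a35971203595433337b2) (.leaf 0))))))) (.node (.node (.node (.node (.node (.node (.leaf 0x238173b000101030393039204838512435116b374b4206de2ab) (.leaf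 0x281241b000012f7a4a954ebc10c18456420a13345ad1cc2c7586)) (.node (.leaf 0x2b6344920001148a06a333ac12470476860f339f7353b002512d) (.leaf 0))) (.node (.node (.leaf 0x476b09a800010a411e0002701ae50570e83e23d06e47e200055a) (.leaf 0x1cec3dad0001497748773b860cd70595e15851854a062f32d7d9)) (.node (.leaf 0x4565463d0000206d440744061a8704b6b16eb4ef6a615d51818b) (.leaf 0)))) (.node (.node (.node (.leaf 0x233f48a700010581115f115e0ee285f6f06043fb4707fe3357bd) (.leaf 0x337e35af000139c0521251ae148785d52c7a34ef06b0ff55a2ab)) (.node (.leaf 0x460d356500001a473c943c931aa105b52732c3ba4cb7b5586295) (.leaf 0))) (.node (.node (.leaf 0x8ce41ad00000f3929732972069605d6416e55ce4bf7d628f32d) (.leaf 0)) (.node (.leaf 0x2a9b1daf0001277543a04a0b12328572e27c73303e834d7d9000) (.leaf 0))))) (.node (.node (.node (.node (.leaf 0x12b332e80000033a0aa30aa20a358474e958865116738c124295) (.leaf 0x101908e300013451509d509c08c18530d711669255811170a2cb)) (.node (.leaf 0x50b314b6000117581c97383e1e7284720452b3d351c2503337bd) (.leaf 0))) (.node (.node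 (.leaf 0x2444c4a00000cb923ef0096048604974a51976e59137924d32d) (.leaf 0)) (.node (.leaf 0x401a41dc000123d60caf2e7e18a18556446b001936e47c586149) (.leaf 0)))) (.node (.node (.node (.leaf 0x11173bc0000007dc17dc17db08e184f5b601c13c16b4171806de) (.leaf 0x28d54f950001406f472b0db710d584b7a14f03340b51112c7586)) (.node (.leaf 0xa882c3c00011d4b1aa8407606d20514557a63ce2c96ba18b295) (.leaf 0))) (.node (.node (.leaf 0x1299353e000011dc2ebe2ebd0a348535237a85732bf3b104968a) (.leaf 0)) (.node (.leaf 0x4a821f7200002b4e2fab32721c7104531c15109e76054a734025) (.leaf 0)))))) (.node (.node (.node (.node (.node (.leaf 0x4adb1e330000021d072807271c758572f61a109e7512b6295025) (.leaf 0x83a4908000031c72b8f4fba06838556f72e86070420826de18b)) (.node (.leaf 0x4438004e000115ea360528da1a628510077797111c63f4546537) (.leaf 0))) (.node (.node (.leaf 0x1d82183500010b7f20fb0b180cf104525b2903fb63f154149025) (.leaf 0x175e30060000526e4c4432d50ae485d4aa1c271b0c67477d928f)) (.node (.leaf 0x14b3fa80000221b283b28af04660576105cf1b858539268a6de)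 (.leaf 0)))) (.node (.node (.node (.leaf 0x4ede0ec0000006ad14a314a21e3485d16b12617613b33862115f) (.leaf 0xc1f361800003ccc4fea4509082485f5334550f07b070704968a)) (.node (.leaf 0x28701b9f00001bc23dc13e8510c78412b37601e31c230270a12d) (.leaf 0))) (.node (.node (.leaf 0x2ae30f02000110872c27188b123704717115c6893b55ed18012d) (.leaf 0)) (.node (.leaf 0x6232510000294e4b581c4804470454dc16b0b4544227486335) (.leaf 0))))) (.node (.node (.node (.node (.leaf 0x1f8346c30000045b0e0908610e540476c41f96b746f3465be15f) (.leaf 0x373f0ad2000136ea33ed4e4e164385f1052997dd7e764f486333)) (.node (.leaf 0x47720ab2000118ce1c0a25be1ae58451022243ea6817b70006de) (.leaf 0))) (.node (.node (.leaf 0xb152e9500010df826b526b406e284b48816a2374a756e6216de) (.leaf 0)) (.node (.leaf 0x4d581508000025a548963f031cc485120a4b916c4665742ab15f) (.leaf 0)))) (.node (.node (.node (.leaf 0x42651a3b0000090b19b51afc1a2504b28c65862d0937ae586295) (.leaf 0x45f53218000144514f4b31ca1a9784b4d33ac38a4c179f5182ab)) (.node (.leaf 0x84951ae00011ede0a9f425906860537ce51976e66d71324d428)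 (.leaf 0))) (.node (.node (.leaf 0x2105340100011334313b2fc40ea104b5040672f251b28378641d) (.leaf 0)) (.node (.leaf 0x40a410ae00002d4f2c56428818b20491a36f37ff2dd3e612d734) (.leaf 0)))))))))

/-- part of a table -/
def entries109 : Trie := (.node (.node (.node (.node (.node (.node (.node (.node (.leaf 0x16dd160500000038009300d20ad585b2204397f210d6192c7786) (.leaf 0x399d2cb100012de2116d4dea169285b46008f0cd1bb1b15be428)) (.node (.leaf 0x2f030d4f0000138b31ed31ec12e10471427af10c8065ff41d156) (.leaf 0))) (.node (.node (.leaf 0x112e4d4b0001095b06d11bc308e305d7677aa7ef28d2df2625be) (.leaf 0x14e60bce000045913dfc1ec30a9704d11b7cd38a50b60a7bd18b)) (.node (.leaf 0x1ead1bb100011f4742c842c70e3505b2b811430f260186734180) (.leaf 0)))) (.node (.node (.node (.leaf 0xc794c2c000004a60ee50ee4082785374665b3e44916fe41d335) (.leaf 0x367b436b000137b04a8f373c162785766d62e5b16c926a14970b)) (.node (.leaf 0x48c80ec50001192e3af530911c3405116b49c5165b30756217b2) (.leaf 0))) (.node (.node (.leaf 0x4be11a8e00010e45276e276d1c960432966db50c5231ab24d2c7)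 (.leaf 0)) (.node (.leaf 0x1fe746f80001261c16fa48f00e5704f6c84e74fb1360ff6de7d9) (.leaf 0))))) (.node (.node (.node (.node (.leaf 0x500c4ee900010264080e080d1e610597925d51e62151cd734025) (.leaf 0x43f4cce0001326713d74e6e04c385f75a64e4252c048c32d335)) (.node (.leaf 0x10e0e0f11f500011647368a15e8088105f1c22a949044e7187bd428) (.leaf 0))) (.node (.node (.leaf 0x524311d300000bcc210920871ea40471c02c85163bf2f933315f) (.leaf 0)) (.node (.leaf 0x36ff4fa80001228f21fe24ea163785f7a32894f250926a29570b) (.leaf 0)))) (.node (.node (.node (.leaf 0x75a3558000006f71570156f066685552653459c55e4e11136de) (.leaf 0x16800e7600013db452cc51700ad104116511705f1515c82c72cb)) (.node (.leaf 0x2e611a7400011c2809853eff12c704329321e75945172c70a546) (.leaf 0))) (.node (.node (.leaf 0x451a3904000110dc2cbf0de61a818555722b876e5914a115632d) (.leaf 0)) (.node (.leaf 0x17d727ee000129cd2cf517fe0af484f3f077e3824347077d928f) (.leaf 0)))))) (.node (.node (.node (.node (.node (.leaf 0x8083e890000014b047e047d06820515f23b97d137d1b15be428) (.leaf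 0x2c0f28bb00012fff1e144efc126105f40550e341422314124518)) (.node (.leaf 0x21260d65000014e2344834470ea204d1442bf08757033870b262) (.leaf 0))) (.node (.node (.leaf 0x4d7e1a5a00010a911ebd1ebc1cc585d2903f727f2a862632d262) (.leaf 0x4aef163c00004b2149bb171b1c7605f22564c2f45264e168a7bd)) (.node (.leaf 0x21c93948000120e1447123130eb40535793750816ab56e70b7b2) (.leaf 0)))) (.node (.node (.node (.leaf 0x490d3759000105cd123512341c4105b54d561724796538537262) (.leaf 0xec7190b00003a7e48145156089504f2714e51e03db6b402532d)) (.node (.leaf 0x46b3446200011aa408ea15451ab28476831700642bb65c12d734) (.leaf 0))) (.node (.node (.leaf 0x101c03c400010f911d90110f08c18590562ec7fa09361970a786) (.leaf 0)) (.node (.leaf 0x3aac2dfa000027ea3cb10f4c16d20594785e93d60675b718b149) (.leaf 0))))) (.node (.node (.node (.node (.leaf 0x26b10da2000003840b800b7f107284315216537f0f17407d9156) (.leaf 0x483f364f000134ed36b80dae1c2385f5365c208334b17b7867d9)) (.node (.leaf 0x244016cf000017b838c238c1102604123873b70850e55c7b2000) (.leaf 0))) (.node (.node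 (.leaf 0xba7387100010d070e7d249b06f304f5671925e21b325a7865fc) (.leaf 0)) (.node (.leaf 0x147846100000245439e8381b0a878516af0c76071155067bd2ab) (.leaf 0)))) (.node (.node (.node (.leaf 0x20fc0dbf00010828026c18ae0e968591537c249b3ad3de28f70a) (.leaf 0xa5a0c8600004157535505b406c485513023d6621af61818b113)) (.node (.leaf 0x3fed2a5c00011daf40f240f1189705b42f7232cd3a979f1562ab) (.leaf 0))) (.node (.node (.leaf 0x5385131a000012372f572f561ed204b1db5e91274c951d18b180) (.leaf 0)) (.node (.leaf 0x20f508800012bd33ef22401048205f7b950b76e6820135fc428) (.leaf 0))))))) (.node (.node (.node (.node (.node (.node (.leaf 0x1f4930a8000000c002ac02ab0e460534b73571045d83de24d180) (.leaf 0x1fa3320b00012eef4ad44e7b0e550474d24927245c43ef537262)) (.node (.leaf 0x499238d700001434330933081c5184556d4927243d73ef537262) (.leaf 0))) (.node (.node (.leaf 0x10ca53e0000009f51d431d4208d505580801752a7a130470a2cb) (.leaf 0x49d715b900014801480853791c5484f21a54d12057a3465fc15f)) (.node (.leaf 0x3cd00f390000201143a709fa183484117c46f0f02c802712d68a)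 (.leaf 0)))) (.node (.node (.node (.leaf 0x392c3034000005390e44108716830594ad17131725133e48618b) (.leaf 0x4093cf80001391617e83b1d04c20535d426362d4622262ab149)) (.node (.leaf 0x16e2075d000119e725713c120ad70450ac77f74443075b70a621) (.leaf 0))) (.node (.node (.leaf 0x3a010ebf00010ee704a628ca16c104316a6ff01d4b4236428734) (.leaf 0)) (.node (.leaf 0x243a2b980000270135c449b0102385544937139e3ca66a124546) (.leaf 0))))) (.node (.node (.node (.node (.leaf 0x468b2dff000002f409c809c71ab10574787cf3d636d7e2000149) (.leaf 0x1094456f000033a950110d1108d184969f7012c25e41452c72cb)) (.node (.leaf 0x422b1118000116ff078937b31a230571ad3e242554e7e2000333) (.leaf 0))) (.node (.node (.leaf 0xcc2dcc00000c6c23421db104560594746db7b41751ab24d149) (.leaf 0)) (.node (.leaf 0x22446760001236a46d1102f04830496bc2727482532b555a18b) (.leaf 0)))) (.node (.node (.node (.leaf 0x13d353b40001079005af170f0a768478032437117322d87b2486) (.leaf 0x2beb281f00003f6f2f7b531212570573f67cd36579960a7bd12d)) (.node (.leaf 0x43890de500001cec400901961a510531583ac7fa1a13da5182cb)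 (.leaf 0))) (.node (.node (.leaf 0x402c14c4000011872e182e1718a205920519f06436d3f412d734) (.leaf 0)) (.node (.leaf 0x2bd5261a00002ac414e802b4125584b3c25d93120ac0db025000) (.leaf 0)))))) (.node (.node (.node (.node (.node (.leaf 0x33393cd1000001d70648064714838535d10a574874b7814862ab) (.leaf 0x1c328914599000031284f032df710d18436a246770850e7892c7000)) (.node (.leaf 0x43ca281e0001158d35700ce61a550553f66a17f23e04a1156786) (.leaf 0))) (.node (.node (.leaf 0x14313caa00000b310c28203d0a838435cd69374858a5067bd2ab) (.leaf 0x29ec392600004ef547942c8010f60595775676d65d930b7b2518)) (.node (.leaf 0x9660e63000021bc45403b9406a704d1632c16751ba4c5214621) (.leaf 0)))) (.node (.node (.node (.leaf 0x1dce35430001066101e013d20cf505d52406e14f6a16ad7347bd) (.leaf 0x74f22e000003c101fbf0cea066605f3730376a30e73c768a6de)) (.node (.leaf 0x475292600011b613e0a357204c584b40e3934eb6b143b428214) (.leaf 0))) (.node (.node (.leaf 0xc314fa365e0001103616c527420a978555397cd38a5753d57bd2ab) (.leaf 0)) (.node (.leaf 0x51f41ae5000128d92aeb39421e968492a12f727d0c77fc28f70a)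 (.leaf 0))))) (.node (.node (.node (.node (.leaf 0x3500131d000104120d2e0d2d14e10411db7a17e4258202149537) (.leaf 0x358447050001362a5039228414f10496c9323166229203295486)) (.node (.leaf 0x11d7245b0000186d39e339e208f484f39a5967331f96ed04928f) (.leaf 0))) (.node (.node (.leaf 0x42cf24e500000da90edc26071a3405f3a630342d2167dc12d113) (.leaf 0)) (.node (.leaf 0x14cf41ab00002534145c37d70a9505f6415335ce0a86b47bd32d) (.leaf 0)))) (.node (.node (.node (.leaf 0x40550a5a000008bf18541a3818a484b0fa5cc6621251a412d113) (.leaf 0x1d2742990000433d4b603d160ce204f6575722a0762234335025)) (.node (.leaf 0x3684415100011e7d10de34cd163204963a03c05f4963fc333786) (.leaf 0))) (.node (.node (.leaf 0x1c3f43db000112e4309c29c70cc285f67635430f40352018b41d) (.leaf 0)) (.node (.leaf 0x25df41c600002cd529a63ae5105585f6434f17080e03b0025000) (.leaf 0)))))))) (.node (.node (.node (.node (.node (.node (.node (.leaf 0x1a4d462f0000007c01c301c20c8505b6b039c1b90b96be5372c7) (.leaf 0x26a5192400002e684b4c4e38107204b27328850321e36b049518)) (.node (.leaf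 0x3d283a06000113e3066a327d184305158a3ad4f204d79f15670b) (.leaf 0))) (.node (.node (.leaf 0x2e270bf7000009a91c861c8512c304f12161019459f5132c7546) (.leaf 0x44c4349d000146cb26bf53be1a740495125eb66648041f54628f)) (.node (.leaf 0x241c2b5100001fac1bd712d710228594450ae6aa55b69b7d9586) (.leaf 0)))) (.node (.node (.node (.leaf 0x42a1404e000104ef016d0fbb1a3304361f75d66c4e37c4586333) (.leaf 0x3d51449e00003869262d17b2184584368666324836412b1562cb)) (.node (.leaf 0x10111d53000119873b703b7e08c18432db1d30a361514570a2cb) (.leaf 0))) (.node (.node (.leaf 0xb3d3c7400010e950567281406e385b5c927e5e23df2837865be) (.leaf 0)) (.node (.leaf 0x47ba09c50001268f425808b31af38550eb3e25217c83bd0005fc) (.leaf 0))))) (.node (.node (.node (.node (.leaf 0x1280091b000102ab08e908e80a340410dd69f50149a65e7d9113) (.leaf 0x1cd2d512d640000330e492c48b712a684346e1097577ee0cb15f586)) (.node (.leaf 0x28054bbe000016a7297822b210c104b73d6e86aa4c911170a586) (.leaf 0))) (.node (.node (.leaf 0x28063aad00000c1c2282228110c104d59769070850e75b2c7000) (.leaf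 0)) (.node (.leaf 0x1c7a3da7000022f9466d466c0cc78555e12dc14c3a76f132d049) (.leaf 0)))) (.node (.node (.node (.leaf 0x8b44eb30001074616421641069384978c2192ea3af4646de2ab) (.leaf 0x2820385100003e903f2e455110c304156511655675a11170a12d)) (.node (.leaf 0x32f347a300011c8f09ad3f8514778476d91a84794b925a2cb5fc) (.leaf 0))) (.node (.node (.leaf 0xd2310430e400011131217c2d6f14410494bc1bb6cc2aa4fa55a734) (.leaf 0)) (.node (.leaf 0x39d5117600002a472edc18b5169684b1b525375c6817f828f428) (.leaf 0)))))) (.node (.node (.node (.node (.node (.leaf 0x1b4c462600000191056205610ca40596b01620fd0b86b570b15f) (.leaf 0x49cd2afa0000309c3aa816181c5405b43e5681dc3944045fc15f)) (.node (.leaf 0xe153f5d0000153534e134e0088184b6087690c12ca72e02532d) (.leaf 0))) (.node (.node (.leaf 0x2778150100000ae01f7b007d10a785120a1191e34590b226212d) (.leaf 0x4d3e161d00014cf2378e53f31cc385d22364e14c44f48c32d7d9)) (.node (.leaf 0xa7402d6000121572dcc105606c584904148d2d2722236428734) (.leaf 0)))) (.node (.node (.node (.leaf 0x1d754199000106160d8013000ce684b64041e0125a80c568a7bd)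 (.leaf 0x108d513a00013b402ec2525e08d105b7c74674cf1145c82c72cb)) (.node (.leaf 0x16514f2700001b053d933d920ac584379647341248e6d870a786) (.leaf 0))) (.node (.node (.leaf 0x4f149c700000fe30f792acc04d584370f1985767091ee32d734) (.leaf 0)) (.node (.leaf 0x3dc80ec6000128664abd12d9185505116b4b26560e8047156786) (.leaf 0))))) (.node (.node (.node (.node (.leaf 0xbad1ee9000103cb0c5e0c5d06f305b30948b3282f721c2cb5be) (.leaf 0x1abf24bb0001359641e150fd0c9285f3a261c49b75212a5fc2c7)) (.node (.leaf 0x270c15dc0000181639582e5110a205921d48860b33965e049586) (.leaf 0))) (.node (.node (.leaf 0x41454a9b00010d55041f255218e404b7223aa5834c141f12d28f) (.leaf 0)) (.node (.leaf 0x111121af000124c1215a47ef08e18433597bb5df44d1d241d6de) (.leaf 0)))) (.node (.node (.node (.leaf 0x28fc4ab5000008720fd90a2d10d78597264f00c443a6d82c7546) (.leaf 0x49683a8b0001424e216052dd1c4605159561f1043717f824d180)) (.node (.leaf 0xcfa0dd900001e11415a416c08378551575397dd25230841d335) (.leaf 0))) (.node (.node (.leaf 0x3dd415bc0000128d30023001185584921a6d752a37e15d1562cb)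 (.leaf 0)) (.node (.leaf 0x1c77186b00012c58221010070cc784f2606222132fc05932d7d9) (.leaf 0))))))) (.node (.node (.node (.node (.node (.node (.leaf 0x1a43203b5e00000104039503941a430415a66c41e24e33da518621) (.leaf 0x13a253b600012f7d2cdf35630a750458033e95bf7323081806de)) (.node (.leaf 0x25a440440000148c33ae33ad105304961f0d66f960c1797bd546) (.leaf 0))) (.node (.node (.leaf 0x2c55379f00000a421e01030f126584b55278a5ab54f27a41d156) (.leaf 0x65e4ae000004982465253e1064685d72900d0192ba4a324d295)) (.node (.leaf 0xac610bf0001206d44083d1d06d404d1a57371342590392ab113) (.leaf 0)))) (.node (.node (.node (.leaf 0x5d281938e6000105821161116010c185356f1d035d3d86d870a000) (.leaf 0x10a84a6e000139c118704f9608d305171f67c3763555c82c7621)) (.node (.leaf 0x255f4db200001a4822193c95104585f7712a96aa02b7187bd000) (.leaf 0))) (.node (.node (.leaf 0x4ed104d300010f39297529741e3484306d23a3877f144b70b15f) (.leaf 0)) (.node (.leaf 0x300d39dc000027763b0f03eb142205b5876a572b28670d333786) (.leaf 0))))) (.node (.node (.node (.node (.leaf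 0x499d35220001033a0aa50aa41c5185b5221c14d865b6f8486262) (.leaf 0x2dac18fe000134523b9744df12b305926f57f7595cd37b41d12d)) (.node (.leaf 0x389b0ed2000017593840383f167185716d22a7117321c8786486) (.leaf 0))) (.node (.node (.leaf 0x484a027100010cb915c923f01c2405503610b6b73942f062115f) (.leaf 0)) (.node (.leaf 0x49293a08000023d733b8473c1c4305358a4c818503256255a049) (.leaf 0)))) (.node (.node (.node (.leaf 0x1f6029c7000107dc17dd12ab0e470414213064fb1364646de7d9) (.leaf 0x4b01cd5000040703529395a04d38412ce1981721d61ee32d333)) (.node (.leaf 0x3235423300001d4c0ea64077146284b64b1fe5df2d009770b55a) (.leaf 0))) (.node (.node (.leaf 0x3d9504ac000111dc2ec02ebf185184b06a5b54121c91781562cb) (.leaf 0)) (.node (.leaf 0x15204ce900002b4f326f292c0aa304175e4ed3f15d1270180335) (.leaf 0)))))) (.node (.node (.node (.node (.node (.leaf 0x173e0a3e0001021d072a07290ae385d0f67951072d178d2625fc) (.leaf 0xad30d1a000031c948c43e8406d484713d5840f01f16182ab113)) (.node (.leaf 0x4bae01a2000015eb35f336061c9205d02811028000e2fa5be2c7) (.leaf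 0))) (.node (.node (.leaf 0x379d1da300000b8020fd20fc165185b2e22307ff4854fa6de734) (.leaf 0x1f5c4cbe0000526f53d645750e4685975672130f23e7fc28f180)) (.node (.leaf 0x182722160000221c25f2459e0c2504f3632a32da372195734180) (.leaf 0)))) (.node (.node (.node (.leaf 0x1d980cce000106ad14a514a40cf185113672229f6a12671497bd) (.leaf 0x20e4302011d00013ccc52753aab1a4104501876257102111a1562cb)) (.node (.leaf 0x3318185f00001bc31f9c39c7148285125e80249057b05e5fc428) (.leaf 0))) (.node (.node (.leaf 0x18c94d8f0000108810732c280c3605376c6da5a23152ad113262) (.leaf 0)) (.node (.leaf 0x34a848020000294f4b59403e14d20516e11683d62ba58f18b295) (.leaf 0))))) (.node (.node (.node (.node (.leaf 0x50bc481e0001045b01400e0a1e728596e36c91cb65924e3357bd) (.leaf 0x28ab3cb4000036eb2596516510d30575cf43c6f95533d970a546)) (.node (.leaf 0x23e4cc7000118cf08343a6f048385d75a46a7481ad58055a2ab) (.leaf 0))) (.node (.node (.leaf 0x174b1b1300000df926b726b60ae40572a837055d2766ed04928f) (.leaf 0)) (.node (.leaf 0x78a0101000025a72f76466d06740550170795834b92f933528f)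 (.leaf 0)))) (.node (.node (.node (.leaf 0x228224fc0001090b1afe1afd0ed10453a751a6ae7426f1428262) (.leaf 0x20ca2769000044543f2a539d0e950553e244e2b435a64f53770a)) (.node (.leaf 0x5256337900011edf425b425a1ea484d4f752969919d2f933515f) (.leaf 0))) (.node (.node (.leaf 0x28d529f00001335313d313c049205b7e67f31e04461b15fc428) (.leaf 0)) (.node (.leaf 0x5041022f00002d504a121cf41e650430307ca1ca77f0c21497bd) (.leaf 0)))))))))

/-- part of a table -/
def entries110 : Trie := (.node (.node (.node (.node (.node (.node (.node (.node (.leaf 0x49f3319200010038000d00d31c568474c81052f26e74a324d41d) (.leaf 0x21db438100002de317d64deb0eb48576702056996f36cd6217b2)) (.node (.leaf 0x4a2f50da0000138c2a9c31ee1c6205f7c05ec1cb43c4b5335025) (.leaf 0))) (.node (.node (.leaf 0x3cb04a810000095c19c31bc418338417210bc7dd6f513e000333) (.leaf 0x37dd072a000145914d254fc2165485b0a84ec5736a203b5be113)) (.node (.leaf 0x176b09ed00011f481fe13e800ae60570ee51e3a87d773a15f537) (.leaf 0)))) (.node (.node (.node (.leaf 0x4937021e03000104a60ee70ee616410452ed25801d0aa34555a214)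 (.leaf 0x3783461000137b22519462104a785150e0857442815b473470b)) (.node (.leaf 0x139b010f0000192f3af615900a748570177c74b82633227d924d) (.leaf 0))) (.node (.node (.leaf 0xaa3d1443fc00000e4613e80d9f184184967a66324846d14d156786) (.leaf 0)) (.node (.leaf 0x1f9c4c930000261d224145140e5485975208f3875ee1b15be7b2) (.leaf 0))))) (.node (.node (.node (.node (.leaf 0x3a1a40b4000002650810080f16c185562b34f6cc40258e32d734) (.leaf 0x3a41007a000032684ffa217916c404300a42c5af4f658f2ab113)) (.node (.leaf 0x473a218e00011648368c368b1ae38553557cf03d3577e20005be) (.leaf 0))) (.node (.node (.leaf 0x23c4202800010bcc103221c40ef504932c1ac38053f7837347bd) (.leaf 0)) (.node (.leaf 0x397737c30001229127704273168784f5552e860754c5806de2ab) (.leaf 0)))) (.node (.node (.node (.leaf 0x19113078000006f8108d15710c448434b25756996f00e25fc15f) (.leaf 0x1fd5236700003db5459b52cd0e5684b38120d2da8055cb28f41d)) (.node (.leaf 0x3bc319e500001c293f0039b516f40472861ba6ef0af7fe33528f) (.leaf 0))) (.node (.node (.leaf 0xd7615e1000110dd05552cc0086784d21e0ee11d20666a1245fc)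 (.leaf 0)) (.node (.leaf 0xac81684000029ce4bad158c06d405122f2045f738b5b718b113) (.leaf 0)))))) (.node (.node (.node (.node (.node (.leaf 0x1e8f310b0001014b0480047f0e3405f4be5ec0fd3674b53357b2) (.leaf 0x2f7f27fd00003001226a2e6512e685f3f275a5ab5fd6237b2518)) (.node (.leaf 0x4b520f24000014e3344921051c858451752586787df34555a2c7) (.leaf 0))) (.node (.node (.leaf 0x2b42169e00000a921ebf1ebe124504523066b45a7ad3b0025000) (.leaf 0x51f94bcf00014b27290753ec1e9685373e7c249b42956028f2c7)) (.node (.leaf 0x1152068d000020e20d60447208e484509a5f273306a4f404924d) (.leaf 0)))) (.node (.node (.node (.leaf 0x39523370000105ce1237123616868454f700d2ef0b769524d32d) (.leaf 0x49592f1900013a7e18da52331c448534924c11204665b25fc15f)) (.node (.leaf 0xaf1074900001aa515a9202406d58430ab51206473f43b32d214) (.leaf 0))) (.node (.node (.leaf 0xba380030ba00000f921e6b2a2516610414b94443a874917d786486) (.leaf 0)) (.node (.leaf 0x52f351cc000127ea0e8138521eb68477d05e627f09a137113124) (.leaf 0))))) (.node (.node (.node (.node (.leaf 0x453c46d3000103840b820b811a838596c60d968b1e53da51818b)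 (.leaf 0x39ea1a68000134ef47c71bf516970552924e72ea3a90ff6de2ab)) (.node (.leaf 0x4c9d3903000017b938c438c31cb185b5722b36c30ad32b73441d) (.leaf 0))) (.node (.node (.leaf 0x1a2e49ed00000d08249d249c0c8205d71267d2a26a10135fc70a) (.leaf 0)) (.node (.leaf 0x31c25051000124543213479c14540457b111042d7366c55be68a) (.leaf 0)))) (.node (.node (.node (.leaf 0xbe916850001082918af14b606f505322f2dd7723f843d2cb486) (.leaf 0x30c030510001415753563efa14360414af0fc65638f18a113786)) (.node (.leaf 0x36f4505e00001db040f440f316378497b166f36173d2d7149621) (.leaf 0))) (.node (.node (.leaf 0x2ac002aa000012382f592f58123604103a42e3120980cb7b2586) (.leaf 0)) (.node (.leaf 0x223268600002bd439b61a5c04830473ca3a66b32514186de18b) (.leaf 0))))))) (.node (.node (.node (.node (.node (.node (.leaf 0x241444b7000000c102ae02ad102284968839435d6524d97d9586) (.leaf 0x2f0245300002ef115b74e7c049784139a1c14260516f848618b)) (.node (.leaf 0x1ce8242500001435330a259f0cd705139509269745e23632d049) (.leaf 0))) (.node (.node (.leaf 0x497428ee000109f503021d441c4684940872130f3d17fc28f180)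 (.leaf 0x22d315f3000048072840479b0ed484721f2063874f874c2ab7b2)) (.node (.leaf 0x14450bd9000020121dee43a80a8504b11c4837d13e572e7bd32d) (.leaf 0)))) (.node (.node (.node (.leaf 0x46c1284600010539108910881ab40433f936901e49a790546113) (.leaf 0x7b1059a000039172cab381306758430846b17e43f70c2149537)) (.node (.leaf 0x4861295f000019e8394b30ad1c2504341380059b7ce17d2cb180) (.leaf 0))) (.node (.node (.leaf 0x6f0091700000ee828cc28cb06578410dd5823f129710e537335) (.leaf 0)) (.node (.leaf 0x48711a170001270249b249b11c2584328a4020f92c46282cb41d) (.leaf 0))))) (.node (.node (.node (.node (.leaf 0x53f451cb000102f400d409c91ed58497d057c27f57f3cb32d124) (.leaf 0x1f534180000133a9501449900e4684763f00d78861769524d180)) (.node (.leaf 0x50e106230000170037b41ef41e760430921212a07be03f113025) (.leaf 0))) (.node (.node (.leaf 0x481244b100010c6c234423431c228456882080da3cf64d621124) (.leaf 0)) (.node (.leaf 0x77906cb0001236b313f3d0a06678530a14a411d5327832145fc) (.leaf 0)))) (.node (.node (.node (.leaf 0x51e42deb00000791171117101e960494775a62806bf5cb24d70a)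 (.leaf 0x20bc2c9b00013f6f20364bb30e9285945e4ec2410c003b5be70a)) (.node (.leaf 0x53962a6400011cec2d4e19e31ed284d4302646c37952982ab180) (.leaf 0))) (.node (.node (.leaf 0x28443f3e000111872e191ec510c504960576030057f30270a586) (.leaf 0)) (.node (.leaf 0x2973bc200012ac43d624c4b049284f5b606b1e044d6b65fc32d) (.leaf 0)))))) (.node (.node (.node (.node (.node (.leaf 0x4f5e1997000001d8064a06491e4485d27c35238713b6c55be15f) (.leaf 0x395a1afe000131283e9d411416868552a365f4e828c0cf24d32d)) (.node (.leaf 0x43b514140000158f357235711a5384b1f61e1744549178518621) (.leaf 0))) (.node (.node (.leaf 0x83468100010b31203f203e04540476bf0570f71fe6c55be68a) (.leaf 0x8460bb700004eff44a044ae068604d1194320c101a6d028f428)) (.node (.leaf 0x42eb1492000121bc454130dd1a350572001537bc4f74e2000149) (.leaf 0)))) (.node (.node (.node (.leaf 0x77c2c730000066213d3058b066785945b1b532831c5b42145be) (.leaf 0x33331f6b00003c1147de35dc148384731a5e760707434053718b)) (.node (.leaf 0x2f7910dd00001b63311a15c412e68531a87826277d555c15f518) (.leaf 0)))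 (.node (.node (.leaf 0x50dc03ea000010372b802b7f1e758590586b12573b70c21497bd) (.leaf 0)) (.node (.leaf 0x36cd2812000028da4b0813b4163605b3f60807f21b518a113786) (.leaf 0))))) (.node (.node (.node (.node (.leaf 0x4dc01dd000004130d300d2f04d485902b5db6621af57418b113) (.leaf 0x50d6309c0000362b241e51351e7584d4b65313cc0f1154295025)) (.node (.leaf 0x437a39600001186d080f39e41a4785557b0041a76c958115670b) (.leaf 0))) (.node (.node (.leaf 0x169a448500010da90a4826080ad18556854090a331d1cc70a786) (.leaf 0)) (.node (.leaf 0x23c342ae00002535483a02360ef50476585642a03631952147bd) (.leaf 0)))) (.node (.node (.node (.leaf 0xb7c2c24000008c01a3a1a3906e585945427e711793283786486) (.leaf 0x42fe103c0000433f520f51db1a3585d19965d78f25c7b7000149)) (.node (.leaf 0x402f336800011e7f41e041df18a205f4f63a25151066b8546214) (.leaf 0))) (.node (.node (.leaf 0x3b8818e8000112e5309d09f516f105126d4853a83f8203295486) (.leaf 0)) (.node (.leaf 0x4aa41c1d00002cd61c764d6c1c720492be70014f1d33fc335025) (.leaf 0)))))))) (.node (.node (.node (.node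 (.node (.node (.node (.leaf 0x3e41494d0001007c01c501c418640436ff5ee37418c29112d24d) (.leaf 0x12a432ec00012e6911b04e390a350494e974a3d606755f124149)) (.node (.leaf 0x4d072091000013e4301c327e1cc204f33a0a459b7ce3b818b180) (.leaf 0))) (.node (.node (.leaf 0x51e83be1000109a91c8707b71e960515b90742b41577f824d2c7) (.leaf 0x313417db000146cc53b3499614438492534a73e440b69c486333)) (.node (.leaf 0xa5f500900001fad4338433706c485f7aa3546e24d052018b68a) (.leaf 0)))) (.node (.node (.node (.leaf 0x29d50072000104f0084e0fbc10f584b00a1a537f08c0b2124518) (.leaf 0x22262032000138694de251c40ec204d32f0a459b1333b818b180)) (.node (.leaf 0x380d4ee40000198839eb3b7f166105b7922bb1cf6d921c786537) (.leaf 0))) (.node (.node (.leaf 0x31a3256a00000e962816281514530473af6714250e52a7486333) (.leaf 0)) (.node (.leaf 0x242b4c5100002692267d383a102305774b1306bd2ce242262546) (.leaf 0))))) (.node (.node (.node (.node (.leaf 0x4d531f8b000002ac08eb08ea1cc484731d3541761f803918b7b2) (.leaf 0x4da70bfc00013310143750291cd304f1216960890f6390428049)) (.node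 (.leaf 0x334f3fd8000116a7076a371d148605f61541a0050551e828f428) (.leaf 0))) (.node (.node (.leaf 0x334c05cc00010c1c22830b1b148605908861f4e828c5cb24d32d) (.leaf 0)) (.node (.leaf 0x40a92f64000022fa272d3c1d18b205349a1433532f579012d214) (.leaf 0)))) (.node (.node (.node (.leaf 0x12a93169000007471643004f0a350534c45ad7b412874d124295) (.leaf 0x4b6e3c4100013e9039880fb51c8605d5c20451b969e1e828f70a)) (.node (.leaf 0x477734be00001c903f862b671ae584f5177cf7e85e77e200055a) (.leaf 0))) (.node (.node (.leaf 0x3f9045ba000011322d712d7018918416a56d775413879f15632d) (.leaf 0)) (.node (.leaf 0x1bd33c5000012a4740d44c020cb48475c40281b76f422c70b7b2) (.leaf 0)))))) (.node (.node (.node (.node (.node (.leaf 0x4a42494f00010191056405631c650456ff7192a008404b2957bd) (.leaf 0x1d3b2d9a0001309c12e42b9f0ce28574716913d36eb7fe3337bd)) (.node (.leaf 0x1f0249f00001153534e21d3b0e440457150034ca6570435fc15f) (.leaf 0))) (.node (.node (.leaf 0x204f22dc00010ae012b81f7c0e8505f3725e719c6ac3ef53770a) (.leaf 0x23b5226200014cf33efc3a5e0ef284b3690523cc72324e3357bd))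 (.node (.leaf 0xec839e20000215819ac1880089505158814e43707772e7bd32d) (.leaf 0)))) (.node (.node (.node (.leaf 0x350d19b1000006171302130114e105b2810636cf45608a149486) (.leaf 0x27b8329200013b4126ce1fad10b38514e313f0c451e2f318012d)) (.node (.leaf 0x49ef0cdf00011b052fdc1df11c5605f1387f51274407d628f41d) (.leaf 0))) (.node (.node (.leaf 0x2a583e9300010fe304fd2acd12268515f32ce5f86310cb15f586) (.leaf 0)) (.node (.leaf 0x1fe12368000028674abf4abe0e5704338122908373c2b555a7d9) (.leaf 0))))) (.node (.node (.node (.node (.leaf 0x313217bd000003cc0c600c5f14438452515e7146080340537333) (.leaf 0x300605f1000035973454299b142204d08f0790a352c2f93352cb)) (.node (.leaf 0x3f401bf100011816395a395918850412bc1c776e046268156428) (.leaf 0))) (.node (.node (.leaf 0x2d0231600000d571de22553049684137820d5ce2585cb28f32d) (.leaf 0)) (.node (.leaf 0x4bb24e8c000024c216a3387a1c9284578461c49b4e90135fc70a) (.leaf 0)))) (.node (.node (.node (.leaf 0x435e114900000873197619751a4585d1b04be52a4627e9156786) (.leaf 0x4ca810430000424f52b90b4a1cb305119a10d185032265295049))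 (.node (.leaf 0x371145c400011e110a46312716418436a627251559e2b555a214) (.leaf 0))) (.node (.node (.leaf 0x22333e590001128d300430030ec28475ef35430f26003918b180) (.leaf 0)) (.node (.leaf 0x146b1b1400002c594d27324d0a870572a842968b68877702518b) (.leaf 0))))))) (.node (.node (.node (.node (.node (.node (.leaf 0xe6251e6000001050397039608870457d422e50f67a7777bd18b) (.leaf 0x8661b4500012f7e2cd83a62068704d2ac3f62791f92a75372ab)) (.node (.leaf 0x4b3a370c0001148c33b033af1c828555476d56787df12a5be2c7) (.leaf 0))) (.node (.node (.leaf 0x2a71fab00010a421e031e02049304f31f68e2cd57e4cc55a18b) (.leaf 0x44b014b900004984473539741a728412045f91660783e6546537)) (.node (.leaf 0xba629640000206e2afa440906f304d4152f52e91050347865fc) (.leaf 0)))) (.node (.node (.node (.leaf 0xd7c12820000058303bd116208678591d111c1072730bf2625be) (.leaf 0x13264209000139c23aef4c420a6504d6483eb79b2255ed41d6de)) (.node (.leaf 0x1ca031cb00011a493c9617710cd20414cd34930157861d18b41d) (.leaf 0))) (.node (.node (.leaf 0x2dbb09c400000f3a2977297612b38570eb3dd3655675ed41d12d)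 (.leaf 0)) (.node (.leaf 0x4c034bb0000127763d5427e21ca104773d0162da0d36ad73441d) (.leaf 0))))) (.node (.node (.node (.node (.leaf 0x7cb01040000033b0aa70aa606760570172c03ea55239268a6de) (.leaf 0x34a30dcb0001345437df23b714d20471556117b43f93b82ab149)) (.node (.leaf 0x2fe020130000175a3841135a12f604132931f61242a55c7b2518) (.leaf 0))) (.node (.node (.leaf 0xd9841f000000cba23f223f1087485164606c71b23965e7d928f) (.leaf 0)) (.node (.leaf 0x2623304000023d82dfd418d04870454ed1994ef56871c48618b) (.leaf 0)))) (.node (.node (.node (.leaf 0x3b1202bd000007dd17df17de16e184503c7096cf5112b6149486) (.leaf 0x125508d600014070533608e50a2684b0d62ce11e4cb0cb15f734)) (.node (.leaf 0x522a303500011d4c40780db51ea30554ad1a10832cf57d295049) (.leaf 0))) (.node (.node (.leaf 0x368253a3000011df28db2ec116320458021ba6927d07fe335786) (.leaf 0)) (.node (.leaf 0x354c50e600002b50401b4c9714e40597c13d455d80224e33328f) (.leaf 0)))))) (.node (.node (.node (.node (.node (.leaf 0x3ca0273d0000021e072c072b18330413df5c43f11937ae000335) (.leaf 0xd4a1f93000031ca4fbc4fbb086605531e34b07d68c2d815f486))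 (.node (.leaf 0x355419eb000115eb072626ca14e48492864c04b802d70d33524d) (.leaf 0))) (.node (.node (.leaf 0x2795484000010b8020ff20fe10b284b6e606c35d02365e7d9586) (.leaf 0x35ec1ca50001527053db51d014f60592c947565a6df21811355a)) (.node (.leaf 0x39761b320001221d106c1fcc168784d2aa07750f61c0ff6de2ab) (.leaf 0)))) (.node (.node (.node (.leaf 0x1a485182000006ae118314a60c850517cc06d2a26a110e53770a) (.leaf 0x4006366c00003ccd504c373118a104d53a5e166870e47c586149)) (.node (.leaf 0x52471a7b00011bc3255f0a981ea404f2934d007f7b94a83337b2) (.leaf 0))) (.node (.node (.leaf 0x32131dcd000110882c2a2c2914618472e573e4b355e347786537) (.leaf 0)) (.node (.leaf 0x4c761fd70001294f237d48821ca684d32354227f6c24e1113262) (.leaf 0))))) (.node (.node (.node (.node (.leaf 0x47b006b60000045c0e0b0bf41af38410a05513ee6e54015865be) (.leaf 0x39722d67000136ec328b479e168784546e3a66b308f4186de18b)) (.node (.leaf 0x46b00e5e000118d03a713a701ab28411626ec6cc3f2790546214) (.leaf 0))) (.node (.node (.leaf 0x43e6520a00010df926b926b81a5704d7d750d3612c858115670b)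 (.leaf 0)) (.node (.leaf 0x39f151c2000025a84898489716978437d02192ea1584a66de18b) (.leaf 0)))) (.node (.node (.node (.leaf 0x251f2a950000090c0ce9122b104185f43422e6ee3cd35f7bd000) (.leaf 0x44b20c470001445720c620fb1a728451292fc47f0097dc12d486)) (.node (.leaf 0x2a3550f400001ee0425c246d122384b7c213a39f41574d12412d) (.leaf 0))) (.node (.node (.leaf 0x181b252200011335313e1f9e0c248573ab2161203ae4b53337b2) (.leaf 0)) (.node (.leaf 0x3c3b2b9c00002d511874090218238574495d87641217b6586333) (.leaf 0)))))))))

/-- part of a table -/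
def entries111 : Trie := (.node (.node (.node (.node (.node (.node (.node (.node (.leaf 0x1d34338e0000003900d500d40ce28494f86c91cb4d224e3357bd) (.leaf 0x31d311a100002de54dec46e314548471bb02e6625280c95fc113)) (.node (.leaf 0x35253b130001138c31f031ef14e304b5a01023ee56c5ae2145fc) (.leaf 0))) (.node (.node (.leaf 0x37001840000095d1bc61bc504a78410231ac6024e678373470b) (.leaf 0x4986510d00004592269253191c5104d7c36870875aa66e486262)) (.node (.leaf 0x4f52051a00011f4942c91fd41e4484507145814a3bc2fa5be7b2) (.leaf 0)))) (.node (.node (.node (.leaf 0x4dc812a5000104a70ee90ee81cd40511d43490fd34e6ba18b7b2) (.leaf 0xb8e3e85000137b34d45281206f205d5f21615bf37d22162155a)) (.node (.leaf 0x48a3273f000019303af718ac1c330473df70e4d47101c82cb7d9) (.leaf 0))) (.node (.node (.leaf 0x530b412200010e4606f8276f1ec20576340a459b44161818b41d) (.leaf 0)) (.node (.leaf 0x4ab23e190001261d2b4d48f11c728455e94e614f1d34b5335025) (.leaf 0))))) (.node (.node (.node (.node (.leaf 0x5078282d00000266081208111e668513f767409e1c32ad68a7bd) (.leaf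 0x2b6047e8000132694ffb0eb712470416df52f2354511797bd546)) (.node (.leaf 0x205340a600001649368d1a580e8584762a19967836371c4862c7) (.leaf 0))) (.node (.node (.leaf 0x47b53e800000bcd1b9121c504c585780847d4570636f132d214) (.leaf 0)) (.node (.leaf 0x4c524c67000022923a1641f11ca484574e3b42a41f82503337b2) (.leaf 0)))) (.node (.node (.node (.leaf 0x502e28b3000106f80e4615721e6205d40525e1ca1c32503337bd) (.leaf 0x16e652f900013db62f8914060ad704d7f04092a61f54d670a70b)) (.node (.leaf 0x9f008a400011c293f01305606b78410d34f705b6045b421470b) (.leaf 0))) (.node (.node (.leaf 0x432a0401000010de2cc129501a4305505c1695ea61a67e15670b) (.leaf 0)) (.node (.leaf 0x36d322a0000129ce4baf4bae163684736f06f6922bd137113786) (.leaf 0)))))) (.node (.node (.node (.node (.node (.leaf 0x415c1a690000014c0482048118e48592925cc5253a93e612d24d) (.leaf 0xeeb53ef00013001497f3687089705780869e2cd56d7180252ab)) (.node (.leaf 0x174726a0000114e306c2344a0ae404f3cf0566ef45836a04924d) (.leaf 0))) (.node (.node (.leaf 0x1ae41f500000a931ec11ec0047505d64629007d56357d149537)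 (.leaf 0x16d51b4200014b292b2853ed0ad584b2ac0f20c33236d82c7786)) (.node (.leaf 0x22a92232000020e32f2344730ed20533661681275e122618b41d) (.leaf 0)))) (.node (.node (.node (.leaf 0x433750f0000005cf123912381a4384f7c20041a753520e156621) (.leaf 0xe37187e00003a81523404ce088384f2617d53176e53d57bd2ab)) (.node (.leaf 0x24d9270100011aa50a80150510368533db06030079e30b15f000) (.leaf 0))) (.node (.node (.leaf 0x2da948ea00010f9204e32a2612b30536f540e3655c91d241d546) (.leaf 0)) (.node (.leaf 0x48c5305e000027ed370838a71c3404b4af7846b75d009762115f) (.leaf 0))))) (.node (.node (.node (.node (.leaf 0x3a41fa5000003850b840b8304b304931f24c5ea61a0c229570b) (.leaf 0x3d731a19000034f020862c16184784728a48f2a673d20e518621)) (.node (.leaf 0x26ce3f85000017ba38c638c5107505d60d2450b31d1308180156) (.leaf 0))) (.node (.node (.leaf 0x10c1f9100010d08227f0ff2046405931e1f176d31c54333328f) (.leaf 0)) (.node (.leaf 0x281f140f0000245540da479d10c185f1f57d81417b84d62c7000) (.leaf 0)))) (.node (.node (.node (.leaf 0x1a5620e50000082a18b118b00c8584d3421972a24b764f53770a)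 (.leaf 0x2ece499f0001415d41a4316512d505d70977f75722076170a586)) (.node (.leaf 0xf901d5700011db03ac740f508b18412db3f36686154a2124149) (.leaf 0))) (.node (.node (.leaf 0x14951428000112382f5a20200a9184b1f84811e04a724b025428) (.leaf 0)) (.node (.leaf 0x1b57454100002bd71d9b4cdd0ca484f69d2056996f02f062115f) (.leaf 0))))))) (.node (.node (.node (.node (.node (.node (.leaf 0x4509528d000100c102b002af1a810537e56eb0c14e715d518428) (.leaf 0x425d396b00012ef111f748ec1a2485b57b5045ac48441f546113)) (.node (.leaf 0x646246400001436330c330b064604d39b2a562d00b4ea28f149) (.leaf 0))) (.node (.node (.leaf 0x23223ec7000009f61d45179b0ee20455f956f29f3ad234333025) (.leaf 0x22925343c8300004809505f0ca210438495ca0dd39e2b10db025546)) (.node (.leaf 0x4fca10100001201243a9409e1e540551970bd0fd0100435be15f) (.leaf 0)))) (.node (.node (.node (.leaf 0x495a44500000053a108b108a1c448556820332a41f80135be7b2) (.leaf 0x285719ed0000391a3b08477810c584f2866907087af75b2c7000)) (.node (.leaf 0x110525f0000119e83c131bf708e104b3bf0d15bf0a51d21806de)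 (.leaf 0))) (.node (.node (.leaf 0x3c9c1da700010ee8088e28cd18328592e25cc3b66651a412d214) (.leaf 0)) (.node (.leaf 0x363340120000270349b34894162384761b1511e21b254a73470b) (.leaf 0))))) (.node (.node (.node (.node (.leaf 0x2ffc1e22000002f509cb09ca12f68592f52610f554138615f156) (.leaf 0x3337097a000133aa1c743b9a148384f0e53f62796142a75372ab)) (.node (.leaf 0x20ba0af2000017010e5537b50e9285510811549b1c76c55fc70a) (.leaf 0))) (.node (.node (.leaf 0x302e533200000c6d0c551367142305d7f51d47440eb54a73470b) (.leaf 0)) (.node (.leaf 0xf7b4f300001236c0c7d46d208a68577970324eb5692f17b2214) (.leaf 0)))) (.node (.node (.node (.leaf 0x6d0bd71b400001079108f8171206f484f2ac0354b81f975562128f) (.leaf 0x249266e00003f714d034e3304860533c861f4e87877f824d428)) (.node (.leaf 0x21ab4a1900001ced400b400a0eb20577175477245c422c621262) (.leaf 0))) (.node (.node (.leaf 0x32920c43000011882e1b2e1a14718451291a87394bb25a2cb537) (.leaf 0)) (.node (.leaf 0x3524121200012ac54c4d4c4c14e30491c430e2843251862145fc) (.leaf 0)))))) (.node (.node (.node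 (.node (.node (.leaf 0x1da849eb000101d80081064b0cf205171256a14f6a104a3357bd) (.leaf 0x2726121a0000312b3aa54f8310a304d1c453939e5e330841d12d)) (.node (.leaf 0x4dd823e6000015911577227c1cd485138f31c1b724961d18b15f) (.leaf 0))) (.node (.node (.leaf 0x1dd02a8e00010b32204120400cf584143374e14f2d56357347bd) (.leaf 0x516119a800014f085026226f1e8604327e3af2a27463de24d70a)) (.node (.leaf 0x404e3c49000121bd0bd6454218a405d5c23a20f74916b8546113) (.leaf 0)))) (.node (.node (.node (.leaf 0x2db3097b00000663058613d412b38470e540019475e5bc41d12d) (.leaf 0xe86403800013c1319e84f57089104d61e3777540f86b402532d)) (.node (.leaf 0xeed511800011b633e0b0940089705b7c55412ea0e472e7bd2ab) (.leaf 0))) (.node (.node (.leaf 0x11b83db400011037120313f008f38515e31a528405c0b21245be) (.leaf 0)) (.node (.leaf 0x3aa716f6000128db316e4b0916d204f23b3be7bc12c5202ab295) (.leaf 0))))) (.node (.node (.node (.node (.leaf 0x365713f1000104130d320d31162684f1f404d65638f3c7113786) (.leaf 0x11b20b0e0001362b4eb3399208f38451097aa7ef1e566a2625fc)) (.node (.leaf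 0x2f6941e20000186f1d3d39e512e60536452e064700e3447b2518) (.leaf 0))) (.node (.node (.leaf 0x2dbe3cd200010daa260a260912b385d5d111f2eb30913241d546) (.leaf 0)) (.node (.leaf 0x44fe34d9000125353751483b1a7785d51a57952179247c0005be) (.leaf 0)))) (.node (.node (.node (.leaf 0x167610b7000008c11a3b11c40ac784d1a51d11e252b2d92c7621) (.leaf 0xb554f2e0000434126e3485d06e484b79676338206a44b62124d)) (.node (.leaf 0x3e8f39b000001e8041e241e1187105f58401b65a5941475866de) (.leaf 0))) (.node (.node (.leaf 0x445465a000012e60c1e309e04c404b6b94995506c94502ab68a) (.leaf 0)) (.node (.leaf 0x11201b7800002cd74d6e4d6d08e30412b13d128e3e34351245be) (.leaf 0)))))))) (.node (.node (.node (.node (.node (.node (.node (.leaf 0x972e690000007d01c701c6045484f48354d6621a93465fc68a) (.leaf 0x531602b200012e6a37e23a781ec284d03c0fb30180174c18b41d)) (.node (.leaf 0x356d08c0000113e4327f059a14e605b0d50805bf0a50c51136de) (.leaf 0))) (.node (.node (.leaf 0x305109d7000009aa1c88188614268430ed4ba05f15140a68a2cb) (.leaf 0x51ef1516000146cd236753861e9605f20b58a6984740cf28f2c7))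 (.node (.leaf 0x43e402ae00001fb0433a43391a5704903a7157441af15d518621) (.leaf 0)))) (.node (.node (.node (.leaf 0x3c6a44ad000004f10fbe0fbd18250556876dc3ba09b7b6586295) (.leaf 0x19181ddf0001386a46c12a540c448512e67c369945e03b5fc15f)) (.node (.leaf 0x103e4cc1000019893b8035f408c385d75a0a136126f3042c770b) (.leaf 0))) (.node (.node (.leaf 0x439638d200000e970bca0a101a5184d56d2cc05f52c5811562cb) (.leaf 0)) (.node (.leaf 0x4b05366a00012692495249511c8104b53a4af43f0d67815372c7) (.leaf 0))))) (.node (.node (.node (.node (.leaf 0x23641bcf000102ac08ed08ec0ee60492b956529f6031a0113025) (.leaf 0x3c7a2bde00003311407f502a182585544e71a1481027b7586149)) (.node (.leaf 0x471e4f8d000016a81b7206391ae285d7a072d07d4bf0a912d537) (.leaf 0))) (.node (.node (.leaf 0x4af4397100000c1d22841e401c7684957c0a014f1d003f68a025) (.leaf 0)) (.node (.leaf 0x4e6d2839000022fb466e3fff1e2505b3f836d18242b43d78641d) (.leaf 0)))) (.node (.node (.node (.leaf 0x6b4f9605e500010747164516441e5184d08d37d0da02c66e486262) (.leaf 0x3d9a2c0200003e9152ec08df18518554521404cf58c7db5182cb))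 (.node (.leaf 0x1ce1419c00011c903f883f870cd704364057c6973033cb32d049) (.leaf 0))) (.node (.node (.leaf 0x2b3a0170000011332d732d7212438550221576890be35f02512d) (.leaf 0)) (.node (.leaf 0x3d6416c100012a484c034b8718470492381c74f2528178156621) (.leaf 0)))))) (.node (.node (.node (.node (.node (.leaf 0xb42e6f0000019205660565045584948379a4eb32905d55a214) (.leaf 0x470017fb0001309e4ad24da01ae20412555dd3983db17a546486)) (.node (.leaf 0x3b5612590000153634e434e316e484d1c950970567d23433528f) (.leaf 0))) (.node (.node (.leaf 0x165727ae00000ae11f7e1f7d0ac584f3e87410062892d92c7786) (.leaf 0x6fc126b00004cf9461d396906578591ce4fd5a31420ba537333)) (.node (.leaf 0xb041ba70000215944d944d806e20492b749c6a306d44b62155a) (.leaf 0)))) (.node (.node (.node (.leaf 0x27650630000106171304130310a704b0930ac22d46b0bf124546) (.leaf 0xeb40b0800003b432196524208938491095024263571797bd2ab)) (.node (.leaf 0x1eda4c9f00001b063d9424ce0e368557526c66a9640287113124) (.leaf 0))) (.node (.node (.leaf 0x13b553bd00000fe42ace180d0a7584b8036723d00fe65318055a)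 (.leaf 0)) (.node (.leaf 0x3aaf0c290000286844d0495816d205f1266117b412874c2ab295) (.leaf 0))))) (.node (.node (.node (.node (.leaf 0x462f2f66000103cc0c620c611aa205f49a3037ed0667dc12d734) (.leaf 0x13164d0f0001359850fe4d420a6484d76077e3826117077d928f)) (.node (.leaf 0x3368410e00001817395b1ddf14870516325f57483bb42055a2ab) (.leaf 0))) (.node (.node (.leaf 0x2d34159700000d582555255412a384921740e36513941441d12d) (.leaf 0)) (.node (.leaf 0x3b594bd7000124c247f01b9516e485373f33a63752254333328f) (.leaf 0)))) (.node (.node (.node (.leaf 0x1ca81fb400010873197819770cd205132012930f40322618b41d) (.leaf 0x4c480d9a000042533d233e451ca405115153e51634e04a3337b2)) (.node (.leaf 0x362c4c5600011e12416d0f08162305974b2bd1a75e55b473470b) (.leaf 0))) (.node (.node (.leaf 0x141a17730000128e3005178e0a818552491572ef0b76b402532d) (.leaf 0)) (.node (.leaf 0x3347304700012c5a4d283725148604f4ae4320c10466d028f428) (.leaf 0))))))) (.node (.node (.node (.node (.node (.node (.leaf 0x314801250001010503990398144405101a3a95f76340e25be113)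 (.leaf 0x10162d4800002f7f21b12aee08c184d46b52624806e7612c72cb)) (.node (.leaf 0x164753f30000148d31d033b10ac504f8091d143173f2d92c7786) (.leaf 0))) (.node (.node (.leaf 0x1d384ba100000a431e051e040ce285173c0523cc2b829c335025) (.leaf 0x30b2c61000049863367280b04a20574590790a368f1a2335786)) (.node (.leaf 0x2de049140000206f440a38d012b70416fb42b63657a55f124546) (.leaf 0)))) (.node (.node (.node (.leaf 0x372702e200010583019b1163164304f0421971461e771c537335) (.leaf 0x3d8a3145000139c35126185e18510554c23ab2c21d97db5182cb)) (.node (.leaf 0x359736a400011a4a1aed3c9714f184f53e29a25d7fd2b6295486) (.leaf 0))) (.node (.node (.leaf 0x4bd5248e00010f3a297929781c9584b39d79a24124605d55a70a) (.leaf 0)) (.node (.leaf 0x1c990cc600002777251614780cd18531361982e13e243b32d124) (.leaf 0))))) (.node (.node (.node (.node (.leaf 0x39a71f200000033c0aa90aa8169304f3130552cd00d22753718b) (.leaf 0x23f31bc100013455509e1f4c0ef68472b906f3cc53f1371137bd)) (.node (.leaf 0x14f553f00001175a2e2a38420a9784b80908c8077c372e0252ab) (.leaf 0))) (.node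 (.node (.leaf 0x98433517dc00010cba23f423f31a4384b2534d237640b26851870b) (.leaf 0)) (.node (.leaf 0x1230246d000023da422a473d0a2584139b6b93d60990bf124295) (.leaf 0)))) (.node (.node (.node (.leaf 0x27ea1caa000107dd17e0114b10b70552c963122d69f78d124546) (.leaf 0x33c7235000004071229e37ef149604f37e05c22838869528f32d)) (.node (.leaf 0x45744dea00011d4d120125551a878497755a82790af15d51818b) (.leaf 0))) (.node (.node (.leaf 0x529d31e7000111df169104d81eb185b4d04f71826b95b421441d) (.leaf 0)) (.node (.leaf 0x36e095900012b504c994c9804a705d0e35b83614d032a73470b) (.leaf 0)))))) (.node (.node (.node (.node (.node (.leaf 0x341a41d50001021e072e072d14c18556442dc3b627e6f132d214) (.leaf 0x25223b5c000131ca1cc53aeb10430455a65236f960c7777bd546)) (.node (.leaf 0x439204a7000115ec1f4622351a5184506a3687f224c7e9156786) (.leaf 0))) (.node (.node (.leaf 0x17eb2b0e00000b81210121000af60574406c139821973a15f537) (.leaf 0x35661bf9000152874f6e528514e604d2bc5cf1b838861368a55a)) (.node (.leaf 0xab449d00000221f17bc2fa506d38497100503e407646c32d333)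 (.leaf 0)))) (.node (.node (.node (.leaf 0x3e44526d000106ae14a814a718640497e16f376d31c1a412d28f) (.leaf 0x29612eca00003cce4654491510e604348b5676d65fb3c17b2156)) (.node (.leaf 0x4f77295800001bc43e873e861e4684f4135927888017d624d41d) (.leaf 0))) (.node (.node (.leaf 0x51050d41000010892c2b152e1e8104b1421712f85d90ba4862c7) (.leaf 0)) (.node (.leaf 0x2a4c4e9300002950403b4b5a12260597872b145a1a530b7b2000) (.leaf 0))))) (.node (.node (.node (.node (.leaf 0x34fa32410001045c0e0d0e0c14d78554db1c67a223a48c428335) (.leaf 0x3dea0f17000036ed5153485c18570551733ab1e26387db51870b)) (.node (.leaf 0x88b213a000018d137b33a72069205734e5147546790135be428) (.leaf 0))) (.node (.node (.leaf 0x187336b700000dfa26bb26ba0c2784753f4ab4fb779207149049) (.leaf 0)) (.node (.leaf 0xfd54651000125a82a94363908b484b6b90ae5a943069b7d9113) (.leaf 0)))) (.node (.node (.node (.leaf 0x390403880001090c0d101aff16820490523a97d12291775be32d) (.leaf 0x424c283f0001445b20cb44e01a240593f85ef5af1dd29154668a)) (.node (.leaf 0x4b8b2f0e00011ee0425e425d1c9105749168769876966e48670a)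 (.leaf 0))) (.node (.node (.leaf 0x2a5923cc000013363140313f122685338d5c16fa3713c115f586) (.leaf 0)) (.node (.leaf 0x3a000d4800012d5132854da716c10411425526805b91ee428734) (.leaf 0)))))))))

/-- part of a table -/
def entries112 : Trie := (.node (.node (.node (.node (.node (.node (.node (.node (.leaf 0x7671df70001003900d700d6066704f2ec49d3ee1ff32a2145be) (.leaf 0x3eaa297d00002de64dee4ded187205541947171167f65c546486)) (.node (.leaf 0x4bb35c40000138d31f231f104d385752e0e766c0fc48c428335) (.leaf 0))) (.node (.node (.leaf 0x18123bbe0000095e1bc81bc70c248455b57e51205eb1a23337b2) (.leaf 0x4400145000004594380b52a11a610411fb10a6a351a0485866de)) (.node (.leaf 0x303c52b200011f4a366242ca14238597ea0536025a05ae734621) (.leaf 0)))) (.node (.node (.node (.leaf 0x51220d47000104a80eeb0eea1e8204514245d2f81aa0435fc2c7) (.leaf 0x164327ef000037b4512f2e610ac50473f07be4cf46e3042c72cb)) (.node (.leaf 0x291b41db000119302aa21c9b10e18576445f05c64c6132180518) (.leaf 0))) (.node (.node (.leaf 0x2137226800000e47275127700ea284f3694910113dc22170b124)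 (.leaf 0)) (.node (.leaf 0x284d50eb0001261e106248f210c505b7c164830078a5c870a586) (.leaf 0))))) (.node (.node (.node (.node (.leaf 0x5aa3502000102660814081304f305551e2691073c93472cb5be) (.leaf 0x4caa07b50000326a1a664b1f1cb30550b629269771004b1497d9)) (.node (.leaf 0x2b5c23820000164c368f368e12458593850c730c1637147bd000) (.leaf 0))) (.node (.node (.leaf 0x2a4228e200010bcd039c21c612260454080df6fa0ac2f115f000) (.leaf 0)) (.node (.leaf 0x23454305000122920c222ab20ee504b66123309e6031cd734025) (.leaf 0)))) (.node (.node (.node (.leaf 0x46382001000006f9157415731aa28513260b83b30b117a546214) (.leaf 0x1bb5487c00013db7486609600cb284b6ea5de41010a7f9621262)) (.node (.leaf 0x22eb276600001c2a201d39680ed70573e21c63846f3020428049) (.leaf 0))) (.node (.node (.leaf 0x51c22be000010df2cc32cc204e285937077d3d04af09770b55a) (.leaf 0)) (.node (.leaf 0x34f70341000129cf365f4bb014d784f04e0580b44f6390428333) (.leaf 0)))))) (.node (.node (.node (.node (.node (.leaf 0x166951ab0001014c048404830ac70537ce3c65ea5725c870a621) (.leaf 0x3cfe3df80001300240a34efd183585d5e75246685587e2586149))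 (.node (.leaf 0x6e53a21000014e4124c344b065704b58d0b766c15010e486335) (.leaf 0))) (.node (.node (.leaf 0x243617d300010a931ec31ec2102384d2530ee6f971f4de12412d) (.leaf 0x43df103500004b2d53ee40ef1a5585f1993687f249d7db1562cb)) (.node (.leaf 0x7da29d9000120e34474398306768554225420d048d09511355a) (.leaf 0)))) (.node (.node (.node (.leaf 0x34ad2f06000105cf120c123a14d205b49120445c8005b718b149) (.leaf 0x3df302a600013a831a063bb7185784703a2e65b125558151870b)) (.node (.leaf 0x137194a460600001aa60fa93d1a0c460556ac4321832b96d028f41d) (.leaf 0))) (.node (.node (.leaf 0x4f53155200010f932a282a271e4484721015816c5b66b65be7b2) (.leaf 0)) (.node (.leaf 0x53772d63000027ee3ca92b991ec584f46e10172440005932d124) (.leaf 0))))) (.node (.node (.node (.node (.leaf 0xc3005d30001038500ff0b85082584108c0ad1481a80b2262295) (.leaf 0x4cd305aa000134f131a650cf1cb48470854e66994884b53357b2)) (.node (.leaf 0x23c35cc000117ba38c702e1048385952e4566070422b56de18b) (.leaf 0))) (.node (.node (.leaf 0x40da324700000d09249f249e18b48554db3676e20387dc546113)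 (.leaf 0)) (.node (.leaf 0x39440693000124553f4316a0168604909b3574907c63de24d32d) (.leaf 0)))) (.node (.node (.node (.leaf 0x444b21490001082a18b318b21a6405734f64976d5db1e412d28f) (.leaf 0x487328e00000415e535853571c2584740800b30f0ac347786180)) (.node (.leaf 0x20903e5b00001db140f6020d0e918415ef4dd28048f4206de2c7) (.leaf 0))) (.node (.node (.leaf 0x508c0611000012392f5c2f5b1e710590911f32575107507347bd) (.leaf 0)) (.node (.leaf 0x63e4ae700002bd8424d1b39064585d7293a63b30b14636de214) (.leaf 0))))))) (.node (.node (.node (.node (.node (.node (.leaf 0x23113e5f000000c202b202b10ee18435ef6e00ec48f2672957bd) (.leaf 0x1c8a45f500002ef246422abf0cd10556ab36026e28b020428124)) (.node (.leaf 0x4e890de000011436330d32671e320531581626ae3cd6b570b124) (.leaf 0))) (.node (.node (.leaf 0x7e12d06000109f61d471d4606770434671f307c3057507345fc) (.leaf 0x49791fc30001480a3d034f721c468533213250f913056028f41d)) (.node (.leaf 0x1a7f38f90000201343ab43aa0c8685f57024f43f7566d024d70a) (.leaf 0)))) (.node (.node (.node (.leaf 0x232d48f40001053a0184108c0ee205b6f61af09e603543335025)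 (.leaf 0x84408a90001391a51e80c1306860490d361f4e83e55cb24d32d)) (.node (.leaf 0x1f3a4589000019eb13b03c140e458556a14fc4d86163ef486262) (.leaf 0))) (.node (.node (.leaf 0x330f18e000000ee928ce0bcd148205f26d0032ef3890c95fc428) (.leaf 0)) (.node (.leaf 0x408f1a950001270343d43cab18b105f2973dc0192ba3bd586295) (.leaf 0))))) (.node (.node (.node (.node (.leaf 0xef80871000102f509cd09cc08978510ce1354260337147bd18b) (.leaf 0x42d25057000033ad48b8493f1a348457b13660f053e7dc12d113)) (.node (.leaf 0x19818df0001170137b63176047485126c73663711204a33328f) (.leaf 0))) (.node (.node (.leaf 0x400235ec00010c6d2345196218a104553057062d39d3bd586295) (.leaf 0)) (.node (.leaf 0x3b68021d0001236d46d3469716e605102f6da65a19e03f1136de) (.leaf 0)))) (.node (.node (.node (.leaf 0x2cd1309f000007921714171312758434b67d40f50a1414180518) (.leaf 0x433833c600013f721c822f241a438514fe3816752c0178518621)) (.node (.leaf 0x3ad42ecc00001cee400d400c16d484948b5db6623c357418b113) (.leaf 0))) (.node (.node (.leaf 0x2d3b218d000111882e1c24e812a38573557c568973b5ff18012d)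 (.leaf 0)) (.node (.leaf 0x3a270d4000002ac84c4e12d416c204f14211278f00b34a18b149) (.leaf 0)))))) (.node (.node (.node (.node (.node (.leaf 0x44744b4f000001d90268064c1a6784973275d32831c7c45865be) (.leaf 0x4b4800820001312b2e6e4f1b1c8505100b2722f84e52b555a70a)) (.node (.leaf 0x237f4a0100011591357435730ee685f7161931e64d76131137bd) (.leaf 0))) (.node (.node (.leaf 0xa200ce500000b332043204206c304113938e1462230de428335) (.leaf 0x4e8c478f00004f1047c138c71e320596d57d301155b09770b262)) (.node (.leaf 0x49d42b63000021be45430a441c5484944608f3877351b15be7b2) (.leaf 0)))) (.node (.node (.node (.leaf 0x4bdd3e710001066313d613d51c9585b5f12382b48064fa55a70a) (.leaf 0xba120b400003c142f0b30a306f304333c39711d53617d2cb5fc)) (.node (.leaf 0x9f4076900001b6412cd384d06b78490ad6502a633a32b214621) (.leaf 0))) (.node (.node (.leaf 0x3c27260e000010382b8116f4182304f3c06dc0b406f7b6586333) (.leaf 0)) (.node (.leaf 0x51a03c8000028dc1f2f483904e28550564ac79b39c75562155a) (.leaf 0))))) (.node (.node (.node (.node (.leaf 0xdc5197f000004140d340d33087604b27873b71173255c7b2486)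 (.leaf 0x3dba3a5c0000362c2e2e4f1918538555926ac37612111a51870b)) (.node (.leaf 0x4a4b383c0000187038d939e61c650575636ca2a080357d2957bd) (.leaf 0))) (.node (.node (.leaf 0x22f215f100000dab0e02260b0ed784521f00c1f725b0594287d9) (.leaf 0)) (.node (.leaf 0x12e9167100002536483d483c0a3705322e09a7a262b2f341d333) (.leaf 0)))) (.node (.node (.node (.leaf 0x31ec2af1000108c113921a3c145605943e0420195d537924d149) (.leaf 0x30ef0cdb000143411fb64142143705f138709675590207149621)) (.node (.leaf 0x4d3117ef00011e80325c0d2a1cc38432547323a40a662f4287d9) (.leaf 0))) (.node (.node (.leaf 0x304f4391000112e6309f145d142605f67119a72b49d28768a2cb) (.leaf 0)) (.node (.leaf 0x113a0fb500002cd81a93398508e385518d47e03d3df2df1245be) (.leaf 0)))))))) (.node (.node (.node (.node (.node (.node (.node (.leaf 0x361c08130001007d002001c816228590bd1db65604424e3332cb) (.leaf 0x33672d5c00002e6c287d1c86148704f46d6cb6b34345806de2ab)) (.node (.leaf 0x26f30369000013e516223280107684705051f7586596237b2518) (.leaf 0))) (.node (.node (.leaf 0x21064891000109aa02e91c890ea104d6ec1061043dc7042cb180)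 (.leaf 0x35d44633000046ce3fa946e714f48496b133a6376a650a33324d)) (.node (.leaf 0x38aa061500001fb1433c433b16720550914895bf7326cd6216de) (.leaf 0)))) (.node (.node (.node (.leaf 0x5921d5e000004f20fc00fbf04f28452db6e14951bf6cd70b6de) (.leaf 0x32344dc20000386d3be251bd146284977323a65a68c44b70b55a)) (.node (.leaf 0x3b793bd10000198a35f23b8116e68535b81604953f618a68a55a) (.leaf 0))) (.node (.node (.leaf 0x4d98119c00010e971ad428171cd28511ba63e10447e51d18b180) (.leaf 0)) (.node (.leaf 0x4aa51f7300002693262b3dbf1c7204b31c1af09e751543335025) (.leaf 0))))) (.node (.node (.node (.node (.leaf 0x32d13974000002ad08ee001a147484357c14276a1d507562128f) (.leaf 0x1ce2b114a7b0000331226c22a65124184372052f3516c224b7bd586)) (.node (.leaf 0x28e63dc8000116a8265b371e10d704d5e443c6f97f130470a12d) (.leaf 0))) (.node (.node (.leaf 0xb37532800010c1d2286228506e384f7f44db3280682472cb5fc) (.leaf 0)) (.node (.leaf 0x17882c37000122fb0c4d466f0af105145557f07a5fe6fe41d55a) (.leaf 0)))) (.node (.node (.node (.leaf 0x39d822280001074813ba1646169685136420d5ce2005cb28f32d)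 (.leaf 0x463427500013e931bd325e904c50476521b651558c48c32d734)) (.node (.leaf 0x2a63ae700011c910d853f89049304d59d3897853e341855a18b) (.leaf 0))) (.node (.node (.leaf 0x4ba40ebe0001113320302d741c9204916a6a649b4e91775fc70a) (.leaf 0)) (.node (.leaf 0x4c9e517300002a49438542b01cb185d7cb2ae1820ee195214180) (.leaf 0)))))) (.node (.node (.node (.node (.node (.leaf 0x2a1d081e0001019205680567122285b0bd6bb45a80932e049000) (.leaf 0x167841a80000309f3e8b4f480ac78516414737662165c870a621)) (.node (.leaf 0x1f7e30ad000015370d3634e50e4785d4b75d20c86ab17f6de049) (.leaf 0))) (.node (.node (.leaf 0x3f10495200000ae21f801f7f18818417000dc4905f33da156428) (.leaf 0x24bf398c00004cfa4bbb1e6f103385f57e6410c475f2df26212d)) (.node (.leaf 0x1ee33b650001215944da0b8f0e370475a818f3846f3207149049) (.leaf 0)))) (.node (.node (.node (.leaf 0x3eff4c350000061812dd1305187785f74939528e0fb7e25865be) (.leaf 0x61733fb00013b4328823eeb064484f5024c25ac26612a5be68a)) (.node (.leaf 0x32903e1400011b063d953a7614718415e92bb1cf1b61ea786486) (.leaf 0)))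 (.node (.node (.leaf 0x49bb3a5a00010fe404fe2acf1c5385759266d09d4f90826de049) (.leaf 0)) (.node (.leaf 0x449b0ede0000286934d14ac01a7185716d74f0d04724e200055a) (.leaf 0))))) (.node (.node (.node (.node (.leaf 0x11c140c8000003cd0c640c6308f404362c28866666974004924d) (.leaf 0x3f4c3e0a0000359b49c64caa18850595e860315a6df17815632d)) (.node (.leaf 0xf4c507f00011817395d395c08a40597b87990f725530d04968a) (.leaf 0))) (.node (.node (.leaf 0x4bca0c3e00010d58254125561c950551287872410dd17f55a70a) (.leaf 0)) (.node (.leaf 0x16bd3c7e000024c347f12e050ad385b5c97a905b3131452c7621) (.leaf 0)))) (.node (.node (.node (.leaf 0x4e95096a00000874195d19791e3284b0e453a27f62c6b570b124) (.leaf 0xb7552f0000042553f9e05ea06e584b7f006271170617d786486)) (.node (.leaf 0x533e329100001e13172419761ec385d4e30e669751e02032d049) (.leaf 0))) (.node (.node (.leaf 0x198c323e0001128e3006221f0c540594d76a65161445b25fc15f) (.leaf 0)) (.node (.leaf 0x495d331f00002c5b4d2918d41c4485b4ee7c36994881b15fc7b2) (.leaf 0))))))) (.node (.node (.node (.node (.node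 (.node (.leaf 0x1b252c4c5f00000106039b039a104305974b7696bd78272e025546) (.leaf 0x1f4121cb00012f7f4ebd3d4c0e4604335b4ff59b01b71324d180)) (.node (.leaf 0x185d49a30000148e33b333b20c2685b70c21726e2b91a068a124) (.leaf 0))) (.node (.node (.leaf 0x76b138400010a431e071e0606670571e92c17ef7a64c52145fc) (.leaf 0x488e2c550001498826d050e71c3205d45832608722022c70b262)) (.node (.leaf 0x20d715fc0001206f440b13f60e9584f21f5fe28076c6644862c7) (.leaf 0)))) (.node (.node (.node (.leaf 0x20963e2e0000058405bb11640e9184d5eb68e1b476c4cc55a2c7) (.leaf 0x28a00bf2000039c8521351c110d304112154f39e2433022c712d)) (.node (.leaf 0x13c32d0400001a4b39be102b0a7604746712f3a847230a15f537) (.leaf 0))) (.node (.node (.leaf 0x1c2a37f100010f3b04c4297a0cc20555590a459b53c61818b41d) (.leaf 0)) (.node (.leaf 0x135c44f5000127771c4d3d9f0a668596902ce07d68c30b15f486) (.leaf 0))))) (.node (.node (.node (.node (.leaf 0x46da079e0001033c00e90aaa1ab48550b17176620966b812d113) (.leaf 0x5fb26fb000034573187279e04f58573d857768d4083472cb537)) (.node (.leaf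 0x9ec0c800000175b1355384306b705913009b7441af32b734621) (.leaf 0))) (.node (.node (.leaf 0x1e3630f800000cbb23f623f50e2584d4bd5e80ea5700b073441d) (.leaf 0)) (.node (.leaf 0x498e0dee000123da36cd473e1c5105d15867127f53971c486262) (.leaf 0)))) (.node (.node (.node (.leaf 0x44f11cf8000007de17e107371a778432d065828e3547ae5865be) (.leaf 0x13254c8d000040723a6d345c0a6504b75165213c1986fe18055a)) (.node (.leaf 0x30ec072300001d4e40791faf14370590a810d37603c26729570b) (.leaf 0))) (.node (.node (.leaf 0x4fbd3a59000011e02ec32ec21e5385b5925910896bc2b56de7d9) (.leaf 0)) (.node (.leaf 0x4864164b00012b514c9a2a581c250492294776c36e72832cb41d) (.leaf 0)))))) (.node (.node (.node (.node (.node (.leaf 0x272f48ef0000021f072f001410a305f6f57ee39e52e5ff41d12d) (.leaf 0x4d714323000131cc137b42fc1cc584366538e1916c246c428262)) (.node (.leaf 0x3b871317000015ed3608360716f104f1db42f77234804b149486) (.leaf 0))) (.node (.node (.leaf 0x2bf2060200010b812103210212578450900612350ae35f7bd12d) (.leaf 0x1e7141820001528e533553ab0e2784363f0aa00f6fc2d7295049))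 (.node (.leaf 0xcd031770001221f0bf30cef08368414c644c01d4b434415f734) (.leaf 0)))) (.node (.node (.node (.leaf 0x923179000006af14aa14a904548454c654c6e20380c95fc113) (.leaf 0x3fd507800003ccf3249075704b785b7b85d51a723278373470b)) (.node (.leaf 0x58525fa00011bc4334d297904f204b3bf3c313c6df44b62155a) (.leaf 0))) (.node (.node (.leaf 0x34f300e70000108a2c2c147414d784701560d7a223b174428335) (.leaf 0)) (.node (.leaf 0x4c114df2000029514b5b2e791ca18437762930726411cd73441d) (.leaf 0))))) (.node (.node (.node (.node (.leaf 0x25671cb10000045d02480e0e104704f2ca00e6550d760a7bd12d) (.leaf 0x26452406000136ef16884b66106504b3933f03277a92f3180518)) (.node (.leaf 0x1e9c0ea5000118d13a743a730e348591692321763aa5433357b2) (.leaf 0))) (.node (.node (.leaf 0x2c0a171200010dfa0c3c23cf126105523d0e00f554f2df124156) (.leaf 0)) (.node (.leaf 0x1844ff2000125a9135e150b04740497a91af37477854333528f) (.leaf 0)))) (.node (.node (.node (.leaf 0x10e852290000090d1b011b0008d70517da54f5b173872c2c7621) (.leaf 0x4fb34a8f0001445c4f5d510a1e538477217fd00f2b10ff55a7d9))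 (.node (.leaf 0x19d43d9c00011ee10aa01b680c568495e061b18221f5cb28f41d) (.leaf 0))) (.node (.node (.leaf 0x509414b5000013373141045d1e718492045173d37c97832147bd) (.leaf 0)) (.node (.leaf 0x5ce023200002d524da84d4404f405d0312565831156cd70b24d) (.leaf 0)))))))))

/-- part of a table -/
def entries113 : Trie := (.node (.node (.node (.node (.node (.node (.node (.node (.leaf 0x3a712b440000003a00d900d816c784344419b66c6a41ee428333) (.leaf 0x28322ccf00012de6332d4def10c38454617d839e3ca3d92c7546)) (.node (.leaf 0x125e408d0001138d064931f30a2685d62575a2d21926237b2214) (.leaf 0))) (.node (.node (.leaf 0x500d045f0001095e18911bc91e6105b0656fb0ec43932b734025) (.leaf 0x52b916110001459552a453b41eb38532230632b06c108a149049)) (.node (.leaf 0x38f144c800001f4b1d750f7a167784368c3f925f7c043d2cb5be) (.leaf 0)))) (.node (.node (.node (.leaf 0x50122a37000004a906640eec1e6184542c3640ec0f254a734025) (.leaf 0x2967244e000137b54c4b519710e604f3976730b30f35a715f156)) (.node (.leaf 0x15050771000019313af80a4d0aa104b0ae02403e12274d262295)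 (.leaf 0))) (.node (.node (.leaf 0x1a5341200010e47046e2438047504b5050aa47f38e2d7295486) (.leaf 0)) (.node (.leaf 0x329b4b700000261f2655150314718577370a27390307042cb537) (.leaf 0))))) (.node (.node (.node (.node (.leaf 0x37b52f9b0000026708160815165384b49e5823f11b20ba537333) (.leaf 0x2a2d4c530001326d3624498f122305b74b1f02eb7ba74d26212d)) (.node (.leaf 0x28e3cf30001164c36913690049205d5d41107542002fa5be32d) (.leaf 0))) (.node (.node (.leaf 0x20843ec500000bce21c70a3c0e910495f93e52410dc4a655a70a) (.leaf 0)) (.node (.leaf 0x36941fe80000229344634607163284932449f0c30aa70d335786) (.leaf 0)))) (.node (.node (.node (.leaf 0x505c1d67000006fa157615751e658592dc2861e6278202295025) (.leaf 0xbae122300013db83b4c4daf06f305d1c521b5e27ea17b7865fc)) (.node (.leaf 0x2cf244c400011c2a12053f02127684568c2433411d02d87b2156) (.leaf 0))) (.node (.node (.leaf 0x1e6b3456000110df2cc4135d0e2705750d29a09d4f857d295049) (.leaf 0)) (.node (.leaf 0x2f3636fe000129d14bb1177412e284d54477e0f55234f47d9518) (.leaf 0)))))) (.node (.node (.node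 (.node (.node (.leaf 0x48eb2caa0000014d048604851c3505745f4db6dd0d27042cb180) (.leaf 0x4fc015bb000030044eff4efe1e5404121a5681dc5d405e5fc7b2)) (.node (.leaf 0x42982c85000114e4344d344c1a3285145d1442d233d1a4546214) (.leaf 0))) (.node (.node (.leaf 0x4724493700000a941ec51ec41ae30496fd32c3ee2120485865fc) (.leaf 0xce62b3000004b3246f24d74083704d44302a425266132180335)) (.node (.leaf 0x50de34de000020e40f9744751e7585d51a7192a031e26a295025) (.leaf 0)))) (.node (.node (.node (.leaf 0xb904b57000005d0123c123b06f28417355300d004656e70b6de) (.leaf 0x18664aa300003a842bc550a10c2704d7232af1f75bb207295049)) (.node (.leaf 0x3f8d158d00001aa70ba43d1b189105b2166d775403a15d156428) (.leaf 0))) (.node (.node (.leaf 0x303d09b000010f942a291323142385b0e90857441c4186734621) (.leaf 0)) (.node (.leaf 0x11e331a3000127ee3ef14a6308f60474c93377e423849815f486) (.leaf 0))))) (.node (.node (.node (.node (.leaf 0x430c39d4000003860b870b861a410595873814cf58c1785182cb) (.leaf 0x1b963e41000034f334e6403d0cb184d5ee0a26c36d17042cb180)) (.node (.leaf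 0x538a15d8000017bb38c938c81ed205521d3be0ea3392982ab180) (.leaf 0))) (.node (.node (.leaf 0x165f300f00010d09040603b40ac585f4aa7be4cf6061cc2c7786) (.leaf 0)) (.node (.leaf 0x507c406b000024563c173d6f1e6685962254e2f411721868a025) (.leaf 0)))) (.node (.node (.node (.leaf 0x29a54d2e0000082b18b518b410f204b7637993275d930d049518) (.leaf 0x17063cc60001415e4f7b4f540ae104d5d03cd5df44d30841d6de)) (.node (.leaf 0x2fea367700001db240f70a0512f605553b51e0f55412d815f156) (.leaf 0))) (.node (.node (.leaf 0x47b143c7000112392f5d26821af384367444228458a7c45865be) (.leaf 0)) (.node (.leaf 0x22943d7200002bdb1ba737740ed18495dd0920da69d0cc32d124) (.leaf 0))))))) (.node (.node (.node (.node (.node (.node (.leaf 0xde54ff1000100c202b402b3087704b7a913d2e964b74d2625be) (.leaf 0xd5e0a0600012ef2403226d1086685d0f151f7723602d87b2486)) (.node (.leaf 0xd2e50be00001437330e2bb6086505d7be7ee07a6965ff41d55a) (.leaf 0))) (.node (.node (.leaf 0x3ec51f5b000009f71d491d48187404b3186ea37404f1a412d28f) (.leaf 0x2d594bda0000480b53cf1eb612a685373f55333053929415f586))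 (.node (.leaf 0x38440a82000120133896332116640490fe36c3562737f962128f) (.leaf 0)))) (.node (.node (.node (.leaf 0x44e138190000053b108e108d1a7704355e5b010740f13e5865fc) (.leaf 0x136c138b0000391e508e21d20a670591e96947ef2041ec2625fc)) (.node (.leaf 0x3ea61f7d000119eb3c15398e187204d31c71d222069804546537) (.leaf 0))) (.node (.node (.leaf 0x226624a500000eea224328cf0ec704d3a12dc14c3a258e32d7d9) (.leaf 0)) (.node (.leaf 0x209f306f0000270435172f120e9185f4b07fd1b44d708255a2c7) (.leaf 0))))) (.node (.node (.node (.node (.leaf 0x3612a21000002f609ce090c04a704342b1023ed56f5b421470b) (.leaf 0x10961d58000133ad48c726a208d184d2db4225711d41cc70a786)) (.node (.leaf 0x4e0405f6000017030f3624061e2204908f3c319178a075621124) (.leaf 0))) (.node (.node (.leaf 0x3ea23a6d00000c6e0ba02346187204559373c6cf6ff58b546486) (.leaf 0)) (.node (.leaf 0xa1c177b0000236e29bc262806c28592496840192bd61d2ab149) (.leaf 0)))) (.node (.node (.node (.leaf 0x2b30b0000010792119b1715049384710901a42610017f6de2ab) (.leaf 0x3b823aa500013f7652f2089116f104559733f68d23057d149537))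 (.node (.leaf 0x3d6330000011cee16e4400e04b684d4ed04d6564ab3c7113786) (.leaf 0))) (.node (.node (.leaf 0x11a13ae0000011892e1e2e1d08f304359d0ad5e25364a22625fc) (.leaf 0)) (.node (.leaf 0x245315ab00002ac912d032e5102684721959f3346b973a7b2586) (.leaf 0)))))) (.node (.node (.node (.node (.node (.leaf 0x4a6467a000101d902dd064d04d304d6bc3ff3f1193626428335) (.leaf 0x53a40e30001312c34334f8404e38556302f52e951940d7865be)) (.node (.leaf 0x10725591fcf0001159207021cf0104585332180660b07b714025000) (.leaf 0))) (.node (.node (.leaf 0x12c5091400010b33204407da0a3604b0dd2e07ed0152947b2214) (.leaf 0x34380e4e00004f184b8052cb14c28511616a77b412851d2ab295)) (.node (.leaf 0x23332559000121be0bc83dcd0ee28473ae4e614f5e04b5335025) (.leaf 0)))) (.node (.node (.node (.leaf 0x368f216f00000664119e13d7163205f3527cb7f27c14a83352cb) (.leaf 0x14af122c00013c16332726fc0a9305f1c55332ea28d6b47bd18b)) (.node (.leaf 0x3cf8237700011b6435320f55183585138323e08b0d5026000149) (.leaf 0))) (.node (.node (.leaf 0x340d2df800011038051b2b8214c105b4784bb3b336d1ee428734)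 (.leaf 0)) (.node (.leaf 0x1e6d1ccb000128dc4b0a33970e2705b2cc46d29e5ee203149049) (.leaf 0))))) (.node (.node (.node (.node (.leaf 0x3e253d2b9b00010414012b0d35104385b44958d39e6bc72e025546) (.leaf 0x58d52920000362d39a513d604f205b7e636c7a40ed7f962155a)) (.node (.leaf 0x482948360000187239e71d361c230536e547700f5c92832cb049) (.leaf 0))) (.node (.node (.leaf 0x26fa453000010dab1a61260c107685569603275821e4987b2518) (.leaf 0)) (.node (.leaf 0x379225050001253630e53a7916518453a93486cc2aa0ff55a734) (.leaf 0)))) (.node (.node (.node (.leaf 0x7d90865000008c2126c1a3d06768530ca21713c34f1a068a6de) (.leaf 0x37a2219d000043443de1538416530453576c01725c566e537335)) (.node (.leaf 0x142d212b00001e811234167a0a8305b34b6bf3175ca0db7bd18b) (.leaf 0))) (.node (.node (.leaf 0xee2b342679000112e7060d30a012438493c944319441524b7bd12d) (.leaf 0)) (.node (.leaf 0x2e7d170a00002cd923594d6f12c785b23c51c2eb0ae30270a12d) (.leaf 0)))))))) (.node (.node (.node (.node (.node (.node (.node (.leaf 0x40810d4c0000007e01ca01c918b10431427423ce5b9401000295)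 (.leaf 0x1cd9271f00002e6d4c830d6d0cd48533dc62917610857418b15f)) (.node (.leaf 0x14362bbc000113e5302e0baf0a8384d44c6392796147180252ab) (.leaf 0))) (.node (.node (.leaf 0x50c82cea000009ab1c8b1c8a1e750514655553cc1d1265295025) (.leaf 0x97710b2000146ce4ee5468406a784f1a50d51e2259195734621)) (.node (.leaf 0x12da126f00011fb2108a433d0a368551ce7bf3b32bb4987b2734) (.leaf 0)))) (.node (.node (.node (.leaf 0x1e752533000104f20fc20fc10e2784b3ac3231f746f0732957d9) (.leaf 0xbba0dfb0000386f4d960b3f06f385515953b7ef0740347865fc)) (.node (.leaf 0x207d28ae0000198c3b8205680e8685b40356c6787231ab28f2c7) (.leaf 0))) (.node (.node (.leaf 0x34db3e7400000e982819281814d48575f14190f00380392ab113) (.leaf 0)) (.node (.leaf 0x353f0ff50001269349530def14e385f19338f1072d16002145fc) (.leaf 0))))) (.node (.node (.node (.node (.leaf 0x9325329000102ad04b108ef06a38457f452c77c6fd2b614970b) (.leaf 0x13ca2ae9000033134a5e34d60a7605543c51e3a819073a15f537)) (.node (.leaf 0x20d5132000016a91695371f048205b7c708d15a0b74765be32d) (.leaf 0))) (.node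 (.node (.leaf 0x18c0f9d00010c1e2288228704740591897765834b904a33528f) (.leaf 0)) (.node (.leaf 0x25f115b8000022fc4670406d105784321a5415565d463c7bd12d) (.leaf 0)))) (.node (.node (.node (.leaf 0x43bc3a5d00000749164816471a5385959271574456515d518621) (.leaf 0x58300c700003e943b1838f704f204701022b65a1c175570b55a)) (.node (.leaf 0x43bf17a600001c920c9a3f8a1a5385f24f36850809c7db15670b) (.leaf 0))) (.node (.node (.leaf 0x99d4488000011342d751a7706b285b6854c00a368f70d335786) (.leaf 0)) (.node (.leaf 0x47731efc00012a493e124c041ae584730e6d107a72a47c0006de) (.leaf 0)))))) (.node (.node (.node (.node (.node (.leaf 0x45d30c06000001930569000e1a958471224b71e044647a156428) (.leaf 0x16962e96000130a04771338f0ad184d4881c37fa2ae4d670a2cb)) (.node (.leaf 0x26a63d640001153734e734e6107204d5db24937f0f134d7d9156) (.leaf 0))) (.node (.node (.leaf 0x534f384300010ae21f821f811ec405f56440f07f7c729818b7b2) (.leaf 0x163d024900014cfc485653060ac385b0324737664946d870a70b)) (.node (.leaf 0x24c72c460000215a44dc44db103604f4563091413c85a715f000)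 (.leaf 0)))) (.node (.node (.node (.leaf 0xa3c3c700001061801c8130606c38595c90300b44753cb428335) (.leaf 0x3ca9048f00003b443b604d5918330530687423f1311026000335)) (.node (.leaf 0x478c19ba00001b073bbd3d961af20592815ef68d05441f546537) (.leaf 0))) (.node (.node (.leaf 0x1c1a3bfd00000fe52ad003ba0cc18555ba62227f21f05932d124) (.leaf 0)) (.node (.leaf 0xe2809210000286a4ac10ce808830510df0dd68b7ea5060252ab) (.leaf 0))))) (.node (.node (.node (.node (.leaf 0x3d7d2831000103cd0c660c65184785b3f80dc5085973da156621) (.leaf 0x5d6245a0000359c4a1c1b1004f484d39a55773311033870b28f)) (.node (.leaf 0x1cd64bf900001818395f395e0cd484d7425323875bb5202ab15f) (.leaf 0))) (.node (.node (.leaf 0x43d304d500000d59255825571a5584706d31024831d7e9156786) (.leaf 0)) (.node (.leaf 0xdf0a2a000124c30d1813af045685f0f353603e0b169524d149) (.leaf 0)))) (.node (.node (.node (.leaf 0x191236b3000108750e66138d0c4484553f15816c4a06b65be7b2) (.leaf 0xd910a180000425825bf4ff008748430f22b771b00736b7d928f)) (.node (.leaf 0x29e61a8700011e13416f416e10f604d29634b1ef5bd2d815f156)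 (.leaf 0))) (.node (.node (.leaf 0xea25d924e90000128f20570a6010558533a65026ee3e71797bd000) (.leaf 0)) (.node (.leaf 0x4214531a00002c5c18d017001a228497f35f93b346d3e6546734) (.leaf 0))))))) (.node (.node (.node (.node (.node (.node (.leaf 0x4b22366000010106039d039c1c8204553a00343f5410435fc2c7) (.leaf 0x5e713b200012f804ebe1eab04f504f1f026947f5f33472cb537)) (.node (.leaf 0x380614510001148e06a41e68166104d1fb12877220117b2cb486) (.leaf 0))) (.node (.node (.leaf 0x3a7d0c3700000a441e091e0816c785b1284bb7dd1fe0cc428335) (.leaf 0x53ac18fc0001498e435353e21ed305926f4b64fb60c1ee32d049)) (.node (.leaf 0x36d53829000020701cbe440c163684b56161a05f74e18a68a786) (.leaf 0)))) (.node (.node (.node (.leaf 0xd922acb000105841166116508748454396245252e532204924d) (.leaf 0x364609df000039c952142797162604d0ed7e741201613768a786)) (.node (.leaf 0x2bba42ed00011a4b08c73a43125385565f7cd36513960a7bd12d) (.leaf 0))) (.node (.node (.leaf 0x4a65494700000f3c29560fc61c6604b6ff4942a076b0c51137bd) (.leaf 0)) (.node (.leaf 0x46572b4d000027782e374a0c1aa484f4446f65fa4381e412d68a)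 (.leaf 0))))) (.node (.node (.node (.node (.leaf 0x11f0465f0001033d04370aab08f68416b97f43a877138615f486) (.leaf 0xde00a1a000034582694484008770410f247b3280075c72625fc)) (.node (.leaf 0x42f130580001175b3844111f1a358434af63d62d38f026586149) (.leaf 0))) (.node (.node (.leaf 0x2f9d41d600000cbc23f823f712f185b64439a0f57df653180156) (.leaf 0)) (.node (.leaf 0x2e9b2cb4000023db31cb2a4812d18574601c345a15e4d670a000) (.leaf 0)))) (.node (.node (.node (.leaf 0x4b31ce7000107de17e317e204d38472cf51a0b45656f1428335) (.leaf 0x490e43450001407349a21c201c4105d66929931902a64f486124)) (.node (.leaf 0xf181dbd00011d4e407a28f808a18512e36e73582c974d262295) (.leaf 0))) (.node (.node (.leaf 0x29b52623000111e02ec52ec410f284b3c33946d61aa36b7d9518) (.leaf 0)) (.node (.leaf 0x3f5416bc00002b5329c4440118858492335e076e07179f15632d) (.leaf 0)))))) (.node (.node (.node (.node (.node (.leaf 0x4b41244c0001021f073107301c850433975f52f86254a655a70a) (.leaf 0x34d72480000131cf1ef1215014d484f39d0915ac43808e2ab68a)) (.node (.leaf 0x4fba42e9000015ee26ac09431e5385565f3f800f3324cc55a7d9)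 (.leaf 0))) (.node (.node (.leaf 0x2e92495c00000b832105210412d184570064645a1a52d970a000) (.leaf 0x2d6d4abd000152dc4271529312a705b7266941946091ec26212d)) (.node (.leaf 0x2d0216a600012220459f229d12a204523219d3120d2707049000) (.leaf 0)))) (.node (.node (.node (.leaf 0x36192a94000106af14ac14ab16228534341dd4cf6063fc333786) (.leaf 0x40c5047c00013cd048d8295718b404b0676f35502523e612d68a)) (.node (.leaf 0x3914459f00011bc50c260e0516828496a272f76e23003b5fc32d) (.leaf 0))) (.node (.node (.leaf 0x157626ca0001108a1fb22c2d0aa684d3d252e6cc24a30a7b2214) (.leaf 0)) (.node (.leaf 0x476c4ab8000129511dc514361ae50597265516a306d16458655a) (.leaf 0))))) (.node (.node (.node (.node (.leaf 0x1a2142900001045d0e100e0f0c8204365702d21136803b5be70a) (.leaf 0x1ba220f4000136f051663ce20cb204534325627f2b975570b124)) (.node (.leaf 0x10492884000018d23a7513ff08c50534001d30a31d714570a2cb) (.leaf 0))) (.node (.node (.leaf 0xae3edb00000dfb14a226bc045505d5fb77106419234555a214) (.leaf 0)) (.node (.leaf 0x46d32ec7000025aa489932ed1ab484748b2fc6621257dc12d113)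 (.leaf 0)))) (.node (.node (.node (.leaf 0x7460b9f0000090e1b031b02066604d1167e76a351a5c368a6de) (.leaf 0x327010540001445d484d4291146784119b24411d20679c2cb5fc)) (.node (.leaf 0x4a3b05b400001ee24260425f1c6285708621638054f1233337bd) (.leaf 0))) (.node (.node (.leaf 0x41b804fc000113373143314218f385106f64047974b4010005be) (.leaf 0)) (.node (.leaf 0x30741a1800012d52160e2cb9142784928a4852a6736073295621) (.leaf 0)))))))))

/-- part of a table -/
def entries114 : Trie := (.node (.node (.node (.node (.node (.node (.node (.node (.leaf 0xfe529270001003a00db00da08b604b40e4152d23620cb7b2734) (.leaf 0x2169474400002de73c8e4df00ea70536d136d0834712e77867d9)) (.node (.leaf 0x31854b100000138e233c31f4145104b72f0543b36052406de734) (.leaf 0))) (.node (.node (.leaf 0x13b1f9a0000095f1bcb1bca046585731e62039857c26a149537) (.leaf 0x1029092b000045973d47526608c30530df76060204d30270a70b)) (.node (.leaf 0x4b004e3600011f4c2b7042cb1c8104177d36f19c62533e53770a) (.leaf 0)))) (.node (.node (.node (.leaf 0x41ae3422000104a906950eed18f305d5071332e90e93bd5865fc)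 (.leaf 0x10cd4f31000037b74a03169608d505b79708443156972c2c72cb)) (.node (.leaf 0x1fa246fe000119313afa3af90e550456c86c02e118866e537262) (.leaf 0))) (.node (.node (.leaf 0x71d138300000e481e782771066485b1e91dd71b7a64da33324d) (.leaf 0)) (.node (.leaf 0x2d3200510001261f2d2726ee12a384500815c6890be5ed18012d) (.leaf 0))))) (.node (.node (.node (.node (.leaf 0x40b91668000102670818081718b285322b5cc3b62ba3e612d734) (.leaf 0x19e94d810000326e15cb408d0c5705376c0541f745e2406de049)) (.node (.leaf 0x3d540c620000164e36933692184584912e0dc0c34ae047156786) (.leaf 0))) (.node (.node (.leaf 0x13912d0100010bce21c921c80a7484346701070540f69b04928f) (.leaf 0)) (.node (.leaf 0x4c9a4b800001229320e746081cb185573809434c1196ad21441d) (.leaf 0)))) (.node (.node (.node (.leaf 0x11a84d42000106fa1578157708f30517670d35e24491ec2625fc) (.leaf 0x1fc446fc00003db94f5e45fb0e560496c85996dd2c53de24d180)) (.node (.leaf 0x46b82ab500001c2b3f033d1f1ab28514383a7515106291546214) (.leaf 0))) (.node (.node (.leaf 0x4dc71efd000010e02cc62cc51cd404f30e6e35164552982ab7b2)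 (.leaf 0)) (.node (.leaf 0x1d05183f000129d2211b485f0ce104b25b66f1cb3812671497bd) (.leaf 0)))))) (.node (.node (.node (.node (.node (.leaf 0x111f10640001014d0488048708e185f19d4aa7a44fc5ed1806de) (.leaf 0x17982bfd000130054baa4f000af185145155b0d00551d21806de)) (.node (.leaf 0x420211b1000014e5194a344e1a220451bd3037ed10d80412d214) (.leaf 0))) (.node (.node (.leaf 0x3aef151a00010a941ec71ec616d705f20b60d7a262b58e428333) (.leaf 0x519b370600004b372aa94db91e9185754737d50c69366e48670a)) (.node (.leaf 0x11ba50c1000120e41fd537d008f38557bf1305215a638c2625fc) (.leaf 0)))) (.node (.node (.node (.leaf 0x34e4228c000005d1123e123d14d704936d6d976417e1ee32d333) (.leaf 0x38a1192e00003a85523545d116720432736d24953f77f970b55a)) (.node (.leaf 0x3e36188900001aa93d1d3d1c186284d2635593a820165c546486) (.leaf 0))) (.node (.node (.leaf 0x38f01cf300000f952a2a0b4e16778412d047728e7702832cb5be) (.leaf 0)) (.node (.leaf 0x3c5028ec000027ef10c54a6418248414085cc6627cb3e612d68a) (.leaf 0))))) (.node (.node (.node (.node (.leaf 0x53834bbd000103860b880a5c1ed204773d6a00ea69434a2ab180)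 (.leaf 0x293e10e7000134f53ab550d010e285d1a94550b3429707049156)) (.node (.leaf 0x3bf11bf5000117bb38cb38ca16f68432bc4ba79b04603f68a6de) (.leaf 0))) (.node (.node (.leaf 0x3082b7d00000d0a24a01e5a04a20514476a572b4e424e3332cb) (.leaf 0)) (.node (.leaf 0x4a92211200012457281b40811c7184534910329f751600214025) (.leaf 0)))) (.node (.node (.node (.leaf 0x366128ed0000082c18b718b616270434086056757cb073149621) (.leaf 0x2b8b478e0001416128ae2c3e12510576d57cd6fa0d160a7bd000)) (.node (.leaf 0x14ff534b00011db240f832bd0a9785f7f65bd4260337777bd18b) (.leaf 0))) (.node (.node (.leaf 0x20d922d10000123a2f5f2f5e0e958533722ca27d2d45385372c7) (.leaf 0)) (.node (.leaf 0xdd00f5e00012bdb18e3416a087684118178c68d5a155c15f486) (.leaf 0))))))) (.node (.node (.node (.node (.node (.node (.leaf 0x4b5c367c000000c302b602b51c8585953b70643f5412406de2c7) (.leaf 0x516841ed00002ef34e7d37561e8605164561f2a27cd5cb24d70a)) (.node (.leaf 0x4920514c000114373310330f1c430417c85f51851eb4a655a049) (.leaf 0))) (.node (.node (.leaf 0x10313c3a000109f706731d4a08c38435c16483ed64c6d870a70b)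 (.leaf 0x143547750001481624f934450a8384b6d444350f1e524b7bd18b)) (.node (.leaf 0x1212524b0000201426ed1ced0a248457df5d45d37d336a7d9113) (.leaf 0)))) (.node (.node (.node (.leaf 0xab23cab0001053b1090108f06d38455cd7491462fd059428333) (.leaf 0x1fd24094028000039204e4426f9102205361c48860b8083b1049000)) (.node (.leaf 0xc152e45000019ec2e8b262c082484b4812b75ac09636b7d9113) (.leaf 0))) (.node (.node (.leaf 0x2cef009e00010eea28d128d0127605f00c76762745b18e15f518) (.leaf 0)) (.node (.leaf 0x344c1e260000270524033d0714c40592f542c5af54b4502ab68a) (.leaf 0))))) (.node (.node (.node (.node (.leaf 0x3c6d3ef3000102f609d009cf182505b5fe3427d21f37ae000295) (.leaf 0x320b4ee1000033ae1eb23f6c146105779206607d3181c8786486)) (.node (.leaf 0x3b8f32c80001170337b837b716f105f4e64ab73968e2b6149486) (.leaf 0))) (.node (.node (.leaf 0xb2620b100000c6f234710fb06e304d33c12828e24f3472cb5be) (.leaf 0)) (.node (.leaf 0x18ca32360001236e46d43f110c360554d726f1913a161368a124) (.leaf 0)))) (.node (.node (.node (.leaf 0x342016f800010793023d171614c204123b5007d22b22262ab149)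 (.leaf 0x3e3e004c00003f7745925313186285d0076fc25d3ff1e4546486)) (.node (.leaf 0x206466800001cef400f3928048204d6bb45276e0463465fc428) (.leaf 0))) (.node (.node (.leaf 0x2a0b04b60000118a2e202e1f122205706b40c3513d24b1049000) (.leaf 0)) (.node (.leaf 0x501a05bb00002acc399d4c4f1e618550865581e62150b0734025) (.leaf 0)))))) (.node (.node (.node (.node (.node (.leaf 0x2bbb2e5f000001da064f064e12538574827a519475e3b07bd12d) (.leaf 0x114643a90000312d4f8548b408e404d67246676d0513227d924d)) (.node (.leaf 0x202f4b0a00001593357635750e8205f72d45d2f81400c95fc70a) (.leaf 0))) (.node (.node (.leaf 0x33561f8c00000b3420462045148684d31d65f4e83fe0d824d428) (.leaf 0x4bfd18b400014f204f0d2e9a1c9685b26925149b0dd37928f70a)) (.node (.leaf 0x3eee1630000021bf4544439d187705d22501b3280861475865fc) (.leaf 0)))) (.node (.node (.node (.leaf 0x228b23210000066513d913d80ed105737a0586ae188626428262) (.leaf 0x40ba14fa00013c1820964e6318b28552095595760fa804546214)) (.node (.leaf 0x39a02dd200001b65391e291e16930414750ed2ea3e333e48618b) (.leaf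 0))) (.node (.node (.leaf 0xf685036000010392b842b8308a60517af4152d21df55c7b2214) (.leaf 0)) (.node (.leaf 0x4dc13dcf000028dd4b0c4b0b1cd40435e47eb0fd5f245018b7b2) (.leaf 0))))) (.node (.node (.node (.node (.leaf 0x385e0495000004150d370d36166485d0692977333be75570b28f) (.leaf 0x41650c0d000036304eb84c6f18e504b12269d07a72a7c40006de)) (.node (.leaf 0x1f38225d00011873081139e80e458513686e401171a10e537124) (.leaf 0))) (.node (.node (.leaf 0x480305f500010dac043a260d1c2204708f266724041231621262) (.leaf 0)) (.node (.leaf 0x336e178200002537438b483e148705d24a3a66b35144636de2ab) (.leaf 0)))) (.node (.node (.node (.leaf 0x48b71542000108c213161a3e1c3384f20f1284fb1c517b2cb7d9) (.leaf 0x29a20eb900014346217a181110f204516a45137f4c77477d9518)) (.node (.leaf 0x68e353300011e8141e441e3065405d5231f901e5276b65be113) (.leaf 0))) (.node (.node (.leaf 0x338f3590000012e810c230a1149205f52b0573992e82fa5be32d) (.leaf 0)) (.node (.leaf 0x1aeb47d400012cd94d7004160c960576dc1ad1b46c86d028f70a) (.leaf 0)))))))) (.node (.node (.node (.node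 (.node (.node (.node (.leaf 0x4d7f35ab0001007e01cc01cb1cc585f52c64e08722048c32d262) (.leaf 0x507623d500012e6d3e3a4e3a1e6684d38e31129f26c3c71137bd)) (.node (.leaf 0x23193062000013e632811d520ee18534b02861e64d708a2957bd) (.leaf 0))) (.node (.node (.leaf 0x42a20a94000009ac1c8c1bfc1a330451002d67dd2177b7000335) (.leaf 0x1ced47d1000046cf51cb53bf0cd705b6dc05000f5eb46c32d7d9)) (.node (.leaf 0x21de474c00011fb33e8910380eb485d6d16a414a5ba23162115f) (.leaf 0)))) (.node (.node (.node (.leaf 0x33e7016f000004f30fc30a64149704f02178738a50b41855a18b) (.leaf 0x20e84a0c000038701c6f32c30e960517167c82802fe56024d2c7)) (.node (.leaf 0x32c73ad60001198c3b83141e147404f59a2bf6ef7c064d70b24d) (.leaf 0))) (.node (.node (.leaf 0x958461900010e981415281a06a68516af4615716061a068a786) (.leaf 0)) (.node (.leaf 0x414b50ea000026944027256618e40577c15ba55d7c30a954628f) (.leaf 0))))) (.node (.node (.node (.node (.leaf 0x49a82986000002ae08f108f01c5305141a2190c81594a66de049) (.leaf 0x2bb338ca000133133235377f125384756c5bd36556735f7bd12d)) (.node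 (.leaf 0x180b0d31000116a9372137200c240571400790811442f933515f) (.leaf 0))) (.node (.node (.leaf 0x46db39fe00000c1f16a122891ab48575896f65fa36c1be12d113) (.leaf 0)) (.node (.leaf 0x20363e50000122fc11c346690e8284d5ef0331b97910135be70a) (.leaf 0)))) (.node (.node (.node (.leaf 0x34b6262400010749164a164914d284d3c341962d5c20392ab149) (.leaf 0x1875221900013e9452ed21cc0c2784b36346e3a4504203295049)) (.node (.leaf 0x34b5227400011c922e33344414d284b36c4063ba2c658f18b295) (.leaf 0))) (.node (.node (.leaf 0x18bb1e890001113405732d760c358572fe4e41835b06ad21441d) (.leaf 0)) (.node (.leaf 0x26cd03ef00002a4a4c064c05107505b05879650321e2f341d518) (.leaf 0)))))) (.node (.node (.node (.node (.node (.leaf 0x1cd50f8e0001019302b3056a0cd484b1885db1203ae45018b7b2) (.leaf 0x3f8716a8000030a34f492c35189104f2323ab3993a67db51832d)) (.node (.leaf 0x3ab10f43000015381c3334e816d284317e31c3ba64561d18b149) (.leaf 0))) (.node (.node (.leaf 0x385323d800000ae31f841f83166484738e49a63734922c70b24d) (.leaf 0xa640d2900004cfd52634be706c504913f6ff01d4e043b428214))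 (.node (.leaf 0x500b0a600000215b36bf400b1e610570fb0942f418154a214025) (.leaf 0)))) (.node (.node (.node (.leaf 0x292635e0000106190a45130710e204d53001f6d60f37077d9156) (.leaf 0x3413446c00013b44525f3bb314c184768364e3b604e39032d214)) (.node (.leaf 0x2ef5063d00011b07090f3d9712d784b0937a96362b76192c712d) (.leaf 0))) (.node (.node (.leaf 0x134f06c500010fe51ca42ad10a6605f0a112f3a869649815f486) (.leaf 0)) (.node (.leaf 0x183000a4fb10001286a3ba22a2404440557a52e25af2776c55fc68a) (.leaf 0))))) (.node (.node (.node (.node (.leaf 0x4f3933c4000003ce0c680c671e438534fe17c69775f24055a049) (.leaf 0x531f4f880000359d43e450ff1ec285f7a04053010e008e18b41d)) (.node (.leaf 0x5079425200011818396018971e6685364e0a014f18940a68a7bd) (.leaf 0))) (.node (.node (.leaf 0x35531fd600010d5a255a255914e484732352b7330e425033324d) (.leaf 0)) (.node (.leaf 0xb77075a000024c547f347f206e584f0ac5401667a33472cb537) (.leaf 0)))) (.node (.node (.node (.leaf 0x3b46044400000876197b197a16e404d0634603563524a833324d) (.leaf 0x12ef35360000425a526a15de0a3705f5233e94872bf78b180333))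 (.node (.leaf 0x3c1543fd00001e1441714170182284b67a67b7257a129112d214) (.leaf 0))) (.node (.node (.leaf 0x81a44890001128f3008300706828556854c27d15a512a5be32d) (.leaf 0)) (.node (.leaf 0x16914f4b00002c5d4d2b4d2a0ad18437995057f220a5c82c72cb) (.leaf 0))))))) (.node (.node (.node (.node (.node (.node (.leaf 0x39a0d0700000107039f039e04b285513b5092c26502343352cb) (.leaf 0x17264b9400002f814ebf4c2f0ae304d73b16f25f57e2df1245be)) (.node (.leaf 0xb973f66000014902fa633b406f284f6094786a34926cd6216de) (.leaf 0))) (.node (.node (.leaf 0xfe901ed00010a44031a1e0a08b605302c73b5151a155c7b2214) (.leaf 0x48723265000049923cf54f131c258454dd21b3017ad704786180)) (.node (.leaf 0x1b9321e30001207013a524920cb184735e1a810466125a2cb41d) (.leaf 0)))) (.node (.node (.node (.leaf 0x34452447000005851168116714c404b3973a35af1426ba2ab68a) (.leaf 0x1d2a45fe000039cd1cbd3b480ce20556ab7382575a81a23357bd)) (.node (.leaf 0x3990357a00001a4c3c993c9816928415284ec43764303b5be32d) (.leaf 0))) (.node (.node (.leaf 0x31b917ac00000f3d297b1f43145385324f6df7a209c69c486333)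 (.leaf 0)) (.node (.leaf 0x10c32920000127784a054a0d08d504740e0ca52a1d951370a2cb) (.leaf 0))))) (.node (.node (.node (.node (.leaf 0x1a6f013f0000033e0aad0aac0c8605f01b41a2116a11e828f70a) (.leaf 0x2d2b07b900003459509f196712a30570b63eb2eb7f45ed41d12d)) (.node (.leaf 0x39b916140000175c36ea384516938532231bf1bc2a533e53718b) (.leaf 0))) (.node (.node (.leaf 0x405a046d00000cbd23fa23f918a48550666ab5ac1507dc546113) (.leaf 0)) (.node (.leaf 0x3c610518000023dc3ced473f18250430712c503e02f048000149) (.leaf 0)))) (.node (.node (.node (.leaf 0x51cd0469000007df0e7217e41e9505b0664131b452f4a655a70a) (.leaf 0xb934b3a0000407427c33ccd06f28477314f613c6df22162155a)) (.node (.leaf 0x8214b9b00001d4f407b3d2e068304373b4566074fe2406de2ab) (.leaf 0))) (.node (.node (.leaf 0x40a5291000011e12d682e6704c20557e623966811474c18b295) (.leaf 0)) (.node (.leaf 0x8b73ca800002b5523d011dd069384f5cd3f81bc41a4cc55a18b) (.leaf 0)))))) (.node (.node (.node (.node (.node (.leaf 0x223e48ac00010220073307320ec285d6f07701275e108e18b41d) (.leaf 0x477e00f6000031d14cc22e2c1ae585d0162d67e83f611800055a))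 (.node (.leaf 0x29b20c15000115ee3609187e10f28451254550b34df322049518) (.leaf 0))) (.node (.node (.leaf 0x33d8384000010b8321061b1a149685156425375c43e37928f32d) (.leaf 0x36e302a8000052e3532035ec163704703a33f74452857d149621)) (.node (.leaf 0x22381eac00002221452645a00ec28513037780726a85b72ab41d) (.leaf 0)))) (.node (.node (.node (.leaf 0x2444476e000106b014ae14ad10260496d375e6aa1f03867b2586) (.leaf 0x40a60d4b00003cd12b0152a918b204d14271d3b300b804546214)) (.node (.leaf 0x1dac45fc00001bc63e8824a40cf20596ab6423fb4bd543335025) (.leaf 0))) (.node (.node (.leaf 0x2cc279d0000108b2c2e198104960593e77c875427256024d428) (.leaf 0)) (.node (.leaf 0x2c522402000029522e764b5c126584539315c6270845ed180156) (.leaf 0))))) (.node (.node (.node (.node (.leaf 0x109d0d0f0000045e0e120e1108d185b13b8032c237e1112c72cb) (.leaf 0xc6b4ac9000036f25167363a08270577272a816e49c5ed41d335)) (.node (.leaf 0x1d2020f7000018d33a761dbf0ce204134353e69a5a429c333025) (.leaf 0))) (.node (.node (.leaf 0x2416531800010dfb26be26bd102284d7f359630011f36a049000)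 (.leaf 0)) (.node (.leaf 0x10d7330f000125aa13512b8108d584f4ed79465633f1cc70a786) (.leaf 0)))) (.node (.node (.node (.leaf 0x4ea903040001090e02b71b041e330530452443847bf79c2cb7d9) (.leaf 0x428b31400001445e48474b211a320574c20294eb6b11be12d214)) (.node (.leaf 0x3b202f3500011ee24262426116e304149431d25f57e6357345be) (.leaf 0))) (.node (.node (.leaf 0x20c0416e00001338302531440e9504163d5a528076c0ba4862c7) (.leaf 0)) (.node (.leaf 0x1f66135800002d534da94b810e4704d1e14bf08373c41855a7d9) (.leaf 0)))))))))

/-- part of a table -/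
def entries115 : Trie := (.node (.node (.node (.node (.node (.node (.node (.node (.leaf 0x330a19b60001003b00dd00dc14820552812e24900546b65fc32d) (.leaf 0x9781c6200002de84df1319406a78512c409377c63432b214621)) (.node (.leaf 0x271d24950001138e28b731f510a285b3a02b77084684d97d9586) (.leaf 0))) (.node (.node (.leaf 0x47303c62000009601bcd1bcc1ae38415c528b10741a1645865fc) (.leaf 0x44ad189d000145983b5150d31a7205b2646f425d0fe027546537)) (.node (.leaf 0x3da29e800001f4d16c142cc04b68554243110065552871132cb) (.leaf 0)))) (.node (.node (.node (.leaf 0x15b1477a000004aa0eef0eee0ab38436d455b3f519a270180335) (.leaf 0x1ed388c3605000137b81703519816710595322dd7720fe79c2cb537)) (.node (.leaf 0x1b6b46240001193226e03afb0ca70576b00660894a01c87867d9) (.leaf 0))) (.node (.node (.leaf 0x30a734ca00010e482772181a143304f5195e8376427416734621) (.leaf 0)) (.node (.leaf 0x2a0205f20000262140353a17122204508f0d735104134d049000) (.leaf 0))))) (.node (.node (.node (.node (.leaf 0x17c750a500000268070606030af404f7bb37055d02e36a04924d) (.leaf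 0x26720fd40000326f46a74f3310668451901eb6d67a973a7b2518)) (.node (.leaf 0x222307db0001164e369536940ec20470b840f34c28208e18b41d) (.leaf 0))) (.node (.node (.leaf 0x3ac623fa00000bcf21cb21ca16d404d3916e350149a2982ab113) (.leaf 0)) (.node (.leaf 0x1c011e120000229440972b2a0cc10432ee1904d857943b428124) (.leaf 0)))) (.node (.node (.node (.leaf 0x349d14fd000106fb157a157914d185b20968c57632946c32d214) (.leaf 0x12fd3ee800003dba4a881cab0a3785b5fd4533f51422f3180333)) (.node (.leaf 0x14028d012fc00011c2b3f0421da10d58411d976b1410311452c7000) (.leaf 0))) (.node (.node (.leaf 0x156f3b76000010e12cc72b0a0aa605f5aa12f45762e49815f734) (.leaf 0)) (.node (.leaf 0x27cc405e000029d34bb34bb210b605962075e6aa4533867b2586) (.leaf 0)))))) (.node (.node (.node (.node (.node (.leaf 0x202c014e0f0000014e048a048912610437786945dc6b21ec262518) (.leaf 0x1b450f8f00013006128e4ea40ca404b1887d30fd32f09770b15f)) (.node (.leaf 0x2e8b3437000114e53450344f12d10575094093306e74d670a000) (.leaf 0))) (.node (.node (.leaf 0x2563051500000a951ec91ec8104704707122e5563bc7777bd546)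 (.leaf 0x24c64e2400004b3942a6490a103604d77b34b60b0ef2d815f000)) (.node (.leaf 0x4a3c0b6a000020e61a4f44761c628591124c02a008404a3357bd) (.leaf 0)))) (.node (.node (.node (.leaf 0xf70399e000105d1123f017508a684157f6d468041c0cb15f734) (.leaf 0x52be137700013a8550f245a41eb385d1e748e1f751e545295049)) (.node (.leaf 0x4570125b00011aaa342a3d1e1a878411c96c868b54c1785182ab) (.leaf 0))) (.node (.node (.leaf 0xfb41ce200010f952a2c2a2b08b38492cf2ac0b41c4653180335) (.leaf 0)) (.node (.leaf 0x38190044000027f045524a65166185300727e71105879c786537) (.leaf 0))))) (.node (.node (.node (.node (.leaf 0x1b3e0cc3000003870b8a0b890ca285d1361267037cf338621262) (.leaf 0x8964b58000134f627f6416f069284d73554d5ce0f82fa5fc32d)) (.node (.leaf 0x26d147af000017bc38cc0b0410758436d98093277ab27a180156) (.leaf 0))) (.node (.node (.leaf 0x182e1dd200010d0a24a224a10c2505d2e60162da67032a734180) (.leaf 0)) (.node (.leaf 0x34054e30000024582dae356914c104b77d0302d22fb3cb428734) (.leaf 0)))) (.node (.node (.node (.leaf 0x15843cc80001082c026d18b80ab10495d04687bc30e5c7124149)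 (.leaf 0x793496f000041635357534006748477017e552564b1a233324d)) (.node (.leaf 0x9e6089300001db31ac105bc06b704d0d225c3ed56f32a21470b) (.leaf 0))) (.node (.node (.leaf 0x3ed547ab0001123a2f601568187484b6d965773349902712d24d) (.leaf 0)) (.node (.leaf 0x4b621d7700002bdc2c4a459f1c860452dd41a2111350cf28f2c7) (.leaf 0))))))) (.node (.node (.node (.node (.node (.node (.leaf 0x1749534d000100c302b802b70ae40537f66083560334d97d924d) (.leaf 0x2d1f4f8900002ef527e9435e12a285f7a04475f80ee6ed7d9586)) (.node (.leaf 0x322e50d20001143833123311146205d7c026623736064d62155a) (.leaf 0))) (.node (.node (.leaf 0x4e2d4c54000009f81d4c1d4b1e2305b74b2963a42ce283786049) (.leaf 0x236c4388000048182f7f459d0ee60596705491ca5e0218113025)) (.node (.leaf 0x4270512b0000201542983bd41a258417c653c45c103401586295) (.leaf 0)))) (.node (.node (.node (.leaf 0x2baf048c0000053c10921091125305f0685bd3655c97777bd546) (.leaf 0xda04fff000039223fe74dd108750417a97965df7de2f341d6de)) (.node (.leaf 0x43080209000119ec31753c161a4105102e5a82c21df047518786) (.leaf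 0))) (.node (.node (.leaf 0x58042f00000eeb28d328d204468510617211480a27fc28f295) (.leaf 0)) (.node (.leaf 0x3ef814a10000270649b428fc18778512010bc7ef0657b50005be) (.leaf 0))))) (.node (.node (.node (.node (.leaf 0x33b54002000002f709d209d1149384b61a1c14265196be4862ab) (.leaf 0x45a00a7a000133b11dbe15571a930410fc35b42600d15d51818b)) (.node (.leaf 0x37af298300001704165a37b9165305f41a046423355340537333) (.leaf 0))) (.node (.node (.leaf 0x4d6e3aff00000c7023480a4b1cc505d59e7de01176539032d124) (.leaf 0)) (.node (.leaf 0x16725a60000237046d5299e046704f3b72c97ac6114167345be) (.leaf 0)))) (.node (.node (.node (.leaf 0x3432c10000007941718171704a60474530e17fa4e03c768a786) (.leaf 0x4223136c00013f7b273c53141a230471e565d3f50a0118000333)) (.node (.leaf 0x18004aa600011cef0b4523190c240417233d46b72fc24e3337b2) (.leaf 0))) (.node (.node (.leaf 0x1d1f43d90000118b22df0dd10ce185f67633f69a2b8154149025) (.leaf 0)) (.node (.leaf 0x27da35f000002ace285a4c5010b685553103270878a4987b2586) (.leaf 0)))))) (.node (.node (.node (.node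 (.node (.leaf 0x4bb52f73000101da021606501c9284b49c0af2b48064045be70a) (.leaf 0x42620c6e0000312e4f862ef31a2504512e65d78f4a4118000295)) (.node (.leaf 0x78c2aeb000115932bdf3577067405943c6386664803fc33328f) (.leaf 0))) (.node (.node (.leaf 0x21411bc500010b34204706740ea40432b912514b6fc56e6217b2) (.leaf 0x3a240dcf00014f255241361816c20491557737d22a151d2ab295)) (.node (.leaf 0x43c0fbb000121bf4546454504c385918d7323f149462f428333) (.leaf 0)))) (.node (.node (.node (.leaf 0x52e835a10000066613da0fcd1eb605152c1b27243cd497113124) (.leaf 0x2012ad400003c1936523cd8048204343a3240054925b25be428)) (.node (.leaf 0x46dd1e2d00011b653d913e0c1ab485b2f56ec5a9544790546113) (.leaf 0))) (.node (.node (.leaf 0xc42540278e000110392b862b8510450413e576933458872e025000) (.leaf 0)) (.node (.leaf 0x1d773ff4000128dd3ca1112d0ce684f61733b2a04be287113025) (.leaf 0))))) (.node (.node (.node (.node (.leaf 0x3ac4cfc000104150d390d3804b305975f6651a74ba20329570b) (.leaf 0x1c630f8c00013630238751360cc70471885a118535062632d7d9)) (.node (.leaf 0x26a128c50000187439ea39e910720434061f80b37be65e049156)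 (.leaf 0))) (.node (.node (.leaf 0xa3290a14ca00000dad260f260e10e10552054695036bf78b41d518) (.leaf 0)) (.node (.leaf 0x1cd03fed000025384840483f0cd484161663e1763035b718b15f) (.leaf 0)))) (.node (.node (.node (.leaf 0x46ab0265000008c306771a3f1ab205703545e3b61676b812d214) (.leaf 0x215531d900004348538509280ea484b4ce1a317619f7f96217b2)) (.node (.leaf 0x145f500f00001e8241e501b30a8585f7aa66b4e868e3d5025428) (.leaf 0))) (.node (.node (.leaf 0x4c513d09000112e830a330a21ca48435d549f14a63370d33515f) (.leaf 0)) (.node (.leaf 0x51f21c8800002cda426611ae1e968452c65362806bf4a324d70a) (.leaf 0)))))))) (.node (.node (.node (.node (.node (.node (.node (.leaf 0x2b4315ac0000007f01ce01cd12450472195fb3120ac60a025000) (.leaf 0x461d1c2800002e6e4d6f4db51aa185b2bf2b91480fa048586149)) (.node (.leaf 0xded4d52000113e60ed63282087705b7680d35e242c0bf2625be) (.leaf 0))) (.node (.node (.leaf 0x3a992ab2000109ac08401c8d16d18534380925151280cc32d214) (.leaf 0x267530d8000146cf53c05038106684b4bb44c0b343934415f518)) (.node (.leaf 0x2afc2af700001fb4433e2342123785943e4532357fb2f318012d)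 (.leaf 0)))) (.node (.node (.node (.leaf 0xf531908000104f3016e0fc408a48472713b25736a24f4049113) (.leaf 0x307a283800003876319b447414278553f833d5081dd04b149621)) (.node (.leaf 0x129032e90000198d3b8427260a348414e95d757322b74004968a) (.leaf 0))) (.node (.node (.leaf 0x11e242f300000e992800281b08f60456600a607d3e518e15f486) (.leaf 0)) (.node (.leaf 0x106f09520001269434a3202608c705f0e30a13610bb3042c770b) (.leaf 0))))) (.node (.node (.node (.node (.leaf 0x29300291000102ae08f308f210e28410380ae37f56669b7d9156) (.leaf 0x31a633de000033143b0b4f51145304d4ff5fe7642233ef486335)) (.node (.leaf 0x41d92eec000016aa20f0372218f485348e67b7333bb3f412d28f) (.leaf 0))) (.node (.node (.leaf 0x10df288200010c1f03b7228a08d585f4000ca52a42f2d970a786) (.leaf 0)) (.node (.leaf 0x308e0dea000022fd45de4671143205d15856f4cf6061a2333786) (.leaf 0)))) (.node (.node (.node (.leaf 0x50b52980000074a164c164b04e20577e64895bf4466cd6216de) (.leaf 0xe2f4a6600003e9552ee44d1088305f71f22e50f02235f7bd2ab)) (.node (.leaf 0x1e83488200001c933f8c3f8b0e340476eb1ba4ca3437fe33515f)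 (.leaf 0))) (.node (.node (.leaf 0x4a1433e0000011352d782d771c6184950008569a8035b47347bd) (.leaf 0)) (.node (.leaf 0x23f3db200012a4a0fa443d5048385f5e313831726b0ff55a2ab) (.leaf 0)))))) (.node (.node (.node (.node (.node (.leaf 0x548503300000194056c056b04e40517af17e6ef4c263b70b24d) (.leaf 0x2788258e000030a433e34f4a10b20513b473560b07b32e049000)) (.node (.leaf 0x4cff29a20001153834e92e0c1cb685f41c19331902a613113124) (.leaf 0))) (.node (.node (.leaf 0x3a11d9d00010ae3034f1f8504b30432e04e01e24e3202295621) (.leaf 0x637246600004d004c8d3199064584f39b2e83b300b0826de214)) (.node (.leaf 0x60b230a0001215c2b15210106440573775225502523465fc68a) (.leaf 0)))) (.node (.node (.node (.leaf 0x49853070000061a1309130804d28517f12be6685585b718b149) (.leaf 0x514100ea00013b48526038d81e8504301570643f5332b56de70a)) (.node (.leaf 0x114249cb00001b082ddf3d9808e404570f6333747c36ed7d928f) (.leaf 0))) (.node (.node (.leaf 0xc03780195900000fe70fd22ad2165104127656b01d28924055a734) (.leaf 0)) (.node (.leaf 0x39833aa10000286b19974ac216920475970573997936c55be428)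 (.leaf 0))))) (.node (.node (.node (.node (.leaf 0x29a110af000103ce0c6a0c6910f20431a37351ef7464d9049156) (.leaf 0xebe4d990001359e473e36a8089385d76f4f18074323b002518b)) (.node (.leaf 0x461236f40000181938da1d6e1aa18455442d67b41757b7000149) (.leaf 0))) (.node (.node (.leaf 0x424d4e9900000d5b255c255b1a2405b7875dd13433a17a54668a) (.leaf 0)) (.node (.leaf 0x1f8848be000024c6195f30760e540516f27f35163671b15fc7b2) (.leaf 0)))) (.node (.node (.node (.leaf 0x4960295700000877197d197c1c4604141344859b2747fc24d180) (.leaf 0x2eb343c30001425c24e0536c12d38476741de6891392d970a12d)) (.node (.leaf 0x2e0c412d00011e142fff417212c105963451c3123d114570a000) (.leaf 0))) (.node (.node (.leaf 0x4aa2417500001290300a30091c7204563e25e1ca2ec2f9333025) (.leaf 0)) (.node (.leaf 0x45cf0ac900002c5e4c8418001a9505f1034b71e04fc11a15632d) (.leaf 0))))))) (.node (.node (.node (.node (.node (.node (.leaf 0x1e3d45870001010703a103a00e2585b6a14ae78823e750214180) (.leaf 0x1ddc462e00002f834ec0032e0cf58596b031d0ec1e15ae734025)) (.node (.leaf 0x18f121bf00011490127b33b50c3784335a7d03843660731497d9)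 (.leaf 0))) (.node (.node (.leaf 0x63b455b00000a451e0c1e0b064585769e6cb11e2a15806de734) (.leaf 0x17071f460001499251c93c000ae104f3163dd65a2995ed41d6de)) (.node (.leaf 0x49084029000020711ee01c401c4105161c4af31b01c781537124) (.leaf 0)))) (.node (.node (.node (.leaf 0x5e2b351e4800010586116a1169124384b2f748336556763c7bd12d) (.leaf 0x34fe41e7000039ce1c4f398d14d785d64551a0b4205059428333)) (.node (.leaf 0x4cde2aa200011a4c0ce41adf1cb485d43626d16c01f12333515f) (.leaf 0))) (.node (.node (.leaf 0x4634227c00010f3d297c05a91aa284936c7796cc2c63f4546734) (.leaf 0)) (.node (.leaf 0x10e420810000277940654a0e08d704933908437603c3022c770b) (.leaf 0))))) (.node (.node (.node (.node (.leaf 0x32454b400001033e037a0aae146404b7320381fd31c07570b28f) (.leaf 0x51c423f40001345944d843281e9504939156b1b469305d55a70a)) (.node (.leaf 0x40d500e30001175c3846275b18b484b01546f0f016279012d113) (.leaf 0))) (.node (.node (.leaf 0x164f3b7400010cbd23fb03d80ac505f5aa0f12c233d1cc2c7786) (.leaf 0)) (.node (.leaf 0x167d0c85000023dd412147400ac785b13021e5ea13161970a70b)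 (.leaf 0)))) (.node (.node (.node (.leaf 0x17d83b7b000107df025617e50af48515aa3bf52544569b04928f) (.leaf 0x47f12fcc000140751d4a1d221af58434a45516a34924015866de)) (.node (.leaf 0x12843a2b00011d4f407c1b170a3404958d46b42d1a34d97d968a) (.leaf 0))) (.node (.node (.leaf 0x184c2526000111e12ec72ec60c260593ab40b41062a218113262) (.leaf 0)) (.node (.leaf 0x4d40274f00002b564c9b48691cc40413e064b5164556ba2ab7b2) (.leaf 0)))))) (.node (.node (.node (.node (.node (.leaf 0x14173f6400000221073507340a8184f6094290055d6718025428) (.leaf 0x278a23b7000131d2137e4fbd10b205538b4663343783227d9586)) (.node (.leaf 0x40d4e4f000015ef093f360a04c205b77e64b08b0856ba2ab295) (.leaf 0))) (.node (.node (.leaf 0x4a6123df00000b84210821071c6604338e6fd1cb0ca1a0113025) (.leaf 0x35ed1462000052ed4edd502014f605b1fc0fc5df28c18a11355a)) (.node (.leaf 0x1ca28ff0001222145a12f7504760554097e76a319b13768a55a) (.leaf 0)))) (.node (.node (.node (.leaf 0x419a0568000006b114b014af18f285507936768d0540a9546537) (.leaf 0x5065105c00013cd4275a36551e6604b19b4750ec439218113025))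 (.node (.leaf 0x17e0a0000011bc60c183e89046785d0f102f11d5326002145fc) (.leaf 0))) (.node (.node (.leaf 0x2d2934260000108c14771ad812a305350739a689032653180546) (.leaf 0)) (.node (.leaf 0x1b3521ec00002953453102920ca284b35e77d0873a107570b124) (.leaf 0))))) (.node (.node (.node (.node (.leaf 0x441f5a458a0001045e0de50ae90e468556a15927882601e824d180) (.leaf 0x1eb310105ff000136f2318c5168144104308f7d706418f05d55a214)) (.node (.leaf 0x34f40f75000018d414ec3a7714d78491873184871960cc32d335) (.leaf 0))) (.node (.node (.leaf 0x530416aa00000dfc26c026bf1ec20492325001835ad2262ab41d) (.leaf 0)) (.node (.leaf 0x148a3c2c000125ab1065489a0a910555c064a2286793d57bd428) (.leaf 0)))) (.node (.node (.node (.leaf 0x359245920000090f1b061b0514f18456a224a4b3408545295537) (.leaf 0x2253d20260c0001445f44261e4d18430413c066305b22314d15670b)) (.node (.leaf 0xa3e0a3400001ee342633ff906c385d0f61b61727e739032d333) (.leaf 0))) (.node (.node (.leaf 0x44dd03e80001133831452dd21a7485b0585f94b82e53e654624d) (.leaf 0)) (.node (.leaf 0x150e257a00002d544daa42d50aa105d3b250e6680d5314124149)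 (.leaf 0)))))))))

/-- part of a table -/
def entries116 : Trie := (.node (.node (.node (.node (.node (.node (.node (.node (.leaf 0x1db210850000003c00df00de0cf284519f26d2f40b94a8335025) (.leaf 0x49b900a300012de93a8f4df21c5385300d2290836732b555a7d9)) (.node (.leaf 0x222748930000138f31f731f60ec204f6ec1121047cc34a18b180) (.leaf 0))) (.node (.node (.leaf 0x34ea06d5000109600dd61bce14d70550a2360146038020428333) (.leaf 0x31c9181f000045993264530f14540532587f350121d03b5fc113)) (.node (.leaf 0x4e75476100011f4d42cd24ad1e2584b6d304e0721f01ea786180) (.leaf 0)))) (.node (.node (.node (.leaf 0xb335dc000104aa06870ef0045584752f59545735c4636de214) (.leaf 0x111d03c0000137b93e50061508e185b05604179b4af41441d55a)) (.node (.leaf 0x425c32d20001193308593afc1a248594e70b85a956a3f4546113) (.leaf 0))) (.node (.node (.leaf 0x1952206b00000e49277427730c4684533657e0ea5514ea24d180) (.leaf 0)) (.node (.leaf 0x319e34490000262246ca024b145185d50b59545762e4186de734) (.leaf 0))))) (.node (.node (.node (.node (.leaf 0x43fa311700010268072d08191a578554bf50d36178020e156621)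 (.leaf 0x40833d8300013270286c4dec18b10475de13345c4774e2586149)) (.node (.leaf 0x35852fa90001164f32fa369614f104b49f4e022279a08a295486) (.leaf 0))) (.node (.node (.leaf 0x9d50d2600010bcf21cc200406b684b13f5c57fa4e003f68a786) (.leaf 0)) (.node (.leaf 0xadc40fa000022951905460906d48596314066e23d458f18b113) (.leaf 0)))) (.node (.node (.node (.leaf 0xbc326c6000006fc157c157b06f40473d24383564bc33862128f) (.leaf 0x11c61edb00003dbb2db4253b08f404d30724958361c3227d924d)) (.node (.leaf 0x11093cff00011c2c09863afd08e10535d47f71b819727018055a) (.leaf 0))) (.node (.node (.leaf 0x1d524190000010e22cc809bc0ce584564002f0120d94162147bd) (.leaf 0)) (.node (.leaf 0xe58346f000129d30f6a4bb4088585150e806005385714025428) (.leaf 0)))))) (.node (.node (.node (.node (.node (.leaf 0x39aa52a70001014e005a048b16930557e744e38a7e064f5372ab) (.leaf 0x3a8f14e4000030073e7b3d0c16d105f2082257255f1059428734)) (.node (.leaf 0x2bab2a7f000014e63452345112530574327276360603b07bd12d) (.leaf 0))) (.node (.node (.leaf 0x1a25440400010a951ecb1eca0c8204b67b3a91b90b90e25be2c7)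 (.leaf 0x1637509e00004b4239973f860ac384f7ba7415b15072d92c7621)) (.node (.leaf 0x3b27115b000120e60b75352d16e304f1b24e452124f54a2145be) (.leaf 0)))) (.node (.node (.node (.leaf 0x84a22c2000005d212400505068605537120c15a6d369528f32d) (.leaf 0x8a5082300003a8651131426069304b0be22938a49e56255a2ab)) (.node (.leaf 0x30e8181700001aab3d1f118414370512582865ea572202295621) (.leaf 0))) (.node (.node (.leaf 0x242f533f00000f961b262a2d102305f7f57aa55618d2df26212d) (.leaf 0)) (.node (.leaf 0x27a10bfe000127f00e8322a910b304312179639e5e32f341d12d) (.leaf 0))))) (.node (.node (.node (.node (.leaf 0x72d44fe0001038706b80b8b066505b69072239857c267149537) (.leaf 0x50af0f62000034f7439135d81e7205f1841ba2a031e4b5335025)) (.node (.leaf 0x832477c000117bc38ce38cd06838456d45d250f6db4cc6de18b) (.leaf 0))) (.node (.node (.leaf 0x4dfc1b6400000d0b24a424a31cd58592af1982e111b1ee32d262) (.leaf 0)) (.node (.leaf 0x3ebb481d000024593951082418728576e36ab25d0fe0a9546537) (.leaf 0)))) (.node (.node (.node (.leaf 0x488212e70000082d18ba18b91c320451d844a6a93f02f070b124)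 (.leaf 0x20a2c6b000041642fc53ad104820554595224e86862fa5fc32d)) (.node (.leaf 0x14c9500d00001db42f7d3cc50a950537aa5d97544bf50602532d) (.leaf 0))) (.node (.node (.leaf 0x4005147c0000123b2f61057618a104b1fe61778f0627b5000295) (.leaf 0)) (.node (.leaf 0x1980540427000012bdc12f54cde04e40416520381fd35209770b24d) (.leaf 0))))))) (.node (.node (.node (.node (.node (.node (.leaf 0x15192fd8000000c402ba02b90aa18534a54687bc0940bf124295) (.leaf 0x3fc33dc600012ef54e7f4e7e18950475e42e639972a581518428)) (.node (.leaf 0x45752d6f000114392f4e33131a8784b46e6c46b34ec3da51818b) (.leaf 0))) (.node (.node (.leaf 0x101a22b2000009f91d4e1d4d08c18553701e97f22bc2d92c7786) (.leaf 0x37ca47290000481c2fa83db316540556cb44501e6c912a5be68a)) (.node (.leaf 0x1c861e160001201543ac3aa60cd104d2ee2f65a22d648c428262) (.leaf 0)))) (.node (.node (.node (.leaf 0x51b044630001053c109410931e928416831bd2410f30e25be2c7) (.leaf 0x493e36430001392217ef2bf01c4385d5361380836730ff55a7d9)) (.node (.leaf 0x3b1c3a31000019ed26273c1716e185959010d07e706265295486)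 (.leaf 0))) (.node (.node (.leaf 0xb34e0730e500010eeb04a81f901e2204f4bc2096a915c33870b262) (.leaf 0)) (.node (.leaf 0xa3b49060001270649a9407506c38576f728516e54917432d335) (.leaf 0))))) (.node (.node (.node (.node (.leaf 0x465810d8000102f709d409d31aa48511a85045ac10b29154668a) (.leaf 0x1a711c74000133b32b6420610c868432c53252114b73de28f70a)) (.node (.leaf 0x46b202940001170437ba07971ab28450382fc3532fb7dc12d734) (.leaf 0))) (.node (.node (.leaf 0x116a26fe00010c70234a234908e60553d867347f3c25a715f486) (.leaf 0)) (.node (.leaf 0x3c2b040f000123703a4e31a0182305705c6a84870147b7586335) (.leaf 0)))) (.node (.node (.node (.leaf 0x486d238300010794171a17191c2505b3850fa6c311c21c2cb41d) (.leaf 0x3d9001f600013f7d4e3520c0185184102d4b26564ab047156786)) (.node (.leaf 0x41d2437d00001cf0401016ba18f484566f71271b6886b854624d) (.leaf 0))) (.node (.node (.leaf 0x136a35550001118b2e222e210a670555263e728e7a666a1245fc) (.leaf 0)) (.node (.leaf 0x367c32d700002acf4bf84c5116278594e724c5ea0520c229570b) (.leaf 0)))))) (.node (.node (.node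 (.node (.node (.leaf 0x16c9300a000001db065206510ad50534aa5057f27c15c82c72cb) (.leaf 0x228507d80001312e3be34f870ed104b0b831872461623632d262)) (.node (.leaf 0x405b1bdb000015942f17357818a48572ba5595a954465c546113) (.leaf 0))) (.node (.node (.leaf 0x24e3305300000b352049204810370474af2451e369f78b180546) (.leaf 0x1a1721e700014f27501544600c8184f35e4bf2114b717f55a70a)) (.node (.leaf 0x28c2c6e000121c242f926cc049205945972075c17105e5fc428) (.leaf 0)))) (.node (.node (.node (.leaf 0xbfb2e250001066613dc13db06f585747e2ba7e422940d786486) (.leaf 0x209061b32bd00013c1b24ed1d5c06448574e56d50f01620c95be113)) (.node (.leaf 0x4e60315000001b66239d3e0d1e250414c30672f20ef79c786180) (.leaf 0))) (.node (.node (.leaf 0x18b421bd0000103a2b882b870c3584935a6fb59b53c32b73441d) (.leaf 0)) (.node (.leaf 0x2bc03eaa000128de0ef20f4012550415f548145a7ce24b025586) (.leaf 0))))) (.node (.node (.node (.node (.leaf 0x4fb75258000004160d3b0d3a1e5384f7e038969771f17f55a049) (.leaf 0x17c242c300013633401833de0af404565b19d6ef4bc70704928f)) (.node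 (.leaf 0x3f3d362900011874305c086f188385b5346036077c826815618b) (.leaf 0))) (.node (.node (.leaf 0x33603f3200010dad1b6e2610148704160517c3171f924055a2ab) (.leaf 0)) (.node (.leaf 0x507f049d00012538484248411e6685f0695d129f4091371137bd) (.leaf 0)))) (.node (.node (.node (.leaf 0x2ed22f4f000108c302a01a4012d584549677f75765b75b70a000) (.leaf 0x271f1c9d0001434c53864bb910a285f2c862460b07b707049000)) (.node (.leaf 0x794377600001e8341e63892067484954f4d13823a350a33524d) (.leaf 0))) (.node (.node (.leaf 0x16ae1222000112e90ebe30a40ad305d1c51de60204d51370a70b) (.leaf 0)) (.node (.leaf 0x5d043a300012cda3138331004f48416721554b81f923f62128f) (.leaf 0)))))))) (.node (.node (.node (.node (.node (.node (.node (.leaf 0x880077f0001007f01d001cf06920410ae7f31e044d03b5fc32d) (.leaf 0x4de3125400012e6e312b4e3b1cd50471c92016a97f758e428124)) (.node (.leaf 0x30aa1d02000013e8328302d414330552d10881a75e560073470b) (.leaf 0))) (.node (.node (.leaf 0x30fd1de6000109ad1c8f1c8e143785b2e84965b16c920314970b) (.leaf 0x157550ab000046d04eda4b300aa684b7bb60c35372234415f734))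 (.node (.leaf 0x1a9a2d9600011fb4433f2c9a0c9185547138550c6c40ff6de70a) (.leaf 0)))) (.node (.node (.node (.leaf 0x1f2529ca000004f40fc60fc50e4504b4214a77030bc781486124) (.leaf 0x150f2c3f0001387651c53f7c0aa105f4558013ba5e8242124149)) (.node (.leaf 0x3d9c35260001198d3b863b85185185952233641246e3da1562cb) (.leaf 0))) (.node (.node (.leaf 0x257a445d00010e99048b281c10478556825fd6f90102e47bd546) (.leaf 0)) (.node (.leaf 0x263d06e700002695254e2d21106285b0a43946d621536b7d9518) (.leaf 0))))) (.node (.node (.node (.node (.leaf 0x156b160e000002af08f508f40aa605722075f68010d62315f214) (.leaf 0x3ad32896000133153053502b16d48474022065a949c74c2ab113)) (.node (.leaf 0x32312f5a000116ab37230773146284349953a0d03a56b570b6de) (.leaf 0))) (.node (.node (.leaf 0x5c519600000c20228c228b04468597cd1f63d66675cb28f149) (.leaf 0)) (.node (.leaf 0x4ec606f0000122fe15523e7e1e3404d0a510b6b74476cd6217b2) (.leaf 0)))) (.node (.node (.node (.leaf 0x186d25200001074a0227164d0c2705b3ab10f0893ae0731497d9) (.leaf 0xd422700013e9546bd30b5044405b64a3a95f716a1775be68a))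 (.node (.leaf 0x1e4307e300001c9438a43f8d0e260470b91d60da61728768a124) (.leaf 0))) (.node (.node (.leaf 0x4729363a0001113510792d791ae305353565828e5927ae5865be) (.leaf 0)) (.node (.leaf 0x1686536800012a4b4a4844350ad104d7fb4090a36154d670a2cb) (.leaf 0)))))) (.node (.node (.node (.node (.node (.leaf 0x3062278700010194056e056d14270453e541c05b70009f295621) (.leaf 0x10e2190e000130a5264c254608d70452716b277c6a251370a70b)) (.node (.leaf 0x53b617eb0001153934ea02f61ed384d2543601f771f020428049) (.leaf 0))) (.node (.node (.leaf 0x4e7f3a8400000ae41f871f861e2585f5952b27883e725a2cb41d) (.leaf 0x223648df00004d033af149600ec284d6f47920f952461818b41d)) (.node (.leaf 0x1dc938f50001215d44de44dd0cf50535701b51ca7565b42147bd) (.leaf 0)))) (.node (.node (.node (.leaf 0x4770322c0000061b130b130a1ae58414d575d1b838302658655a) (.leaf 0x22d71bcb00003b4a21ed39f00ed484f2b941916c13608e2ab15f)) (.node (.leaf 0x3d6e3e9900011b0825a63b6f184705d5f34f53ed0bb58151870b) (.leaf 0))) (.node (.node (.leaf 0x2d991c9c00010fe72ad42ad312b28532c861e30c1a64d9049586)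 (.leaf 0)) (.node (.leaf 0xc0c519d0000286c49074ac308240597cd60913416a74004968a) (.leaf 0))))) (.node (.node (.node (.node (.leaf 0xa9e2fd2000003cf0492038306d285d4a518462d46234a2ab149) (.leaf 0x18b209050001359f510004760c358450dc29b18375d60021441d)) (.node (.leaf 0x4dec405000011819396239611cd50596200920da3cf0cc32d124) (.leaf 0))) (.node (.node (.leaf 0x1688257300010d5b255e255d0ad10513b21812480d572c2c72cb) (.leaf 0)) (.node (.leaf 0x5d53806000124c7425247f404f484b55b16a7057f309762124d) (.leaf 0)))) (.node (.node (.node (.leaf 0x50225f300010877197f197e04e20453bf1615bf21a3386216de) (.leaf 0xc264c000000425e492a5203082504d7431307d22b2242262149)) (.node (.leaf 0x3bd03f3600011e153cf219a016f48416052324b811054333528f) (.leaf 0))) (.node (.node (.leaf 0x35383cd500011290300c300b14e38515d12930f42a57837345fc) (.leaf 0)) (.node (.leaf 0x22d81d4b00012c5e2e562dac0ed48512d65db12071d57418b15f) (.leaf 0))))))) (.node (.node (.node (.node (.node (.node (.leaf 0x39540abe0000010803a303a216868491027e015a0ed37928f32d) (.leaf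 0x4471494400012f834ec119031a678436ff2b92e91840485865fc)) (.node (.leaf 0x3362516a00001491327128b614870457ca6436076a64186de18b) (.leaf 0))) (.node (.node (.leaf 0x2483195a00010a4506191e0d103204727657a6aa39a6ed7d9586) (.leaf 0x46d83c4e0000499432f142211ab48515c27796e22bf17a54668a)) (.node (.leaf 0x1bbb3bf700002072359613ae0cb28575ba49101163d23170b262) (.leaf 0)))) (.node (.node (.node (.leaf 0x35a1058800000587116c116b14f30430804a411d1b37832145fc) (.leaf 0xe7827b1000039cf2ff109b608878513e92464ef06b1790252ab)) (.node (.leaf 0x3e45443600001a4d3be93c9a186404b67f35e3562be79012d28f) (.leaf 0))) (.node (.node (.leaf 0x2eb61f6000000f3e297d00ba12d384d31a1c32eb3371cc70a546) (.leaf 0)) (.node (.leaf 0x4bee10df0000277b2d3a45371c9605d1a87f527d5fd7d628f2c7) (.leaf 0))))) (.node (.node (.node (.node (.leaf 0x299b50450000033f0ab00aaf10f18577b02206d648177a41d518) (.leaf 0x30074adc0000345a49e14bc0142204f7285726922902343352cb)) (.node (.leaf 0x2dee150c0000175d1c1f384712b705d20a79575946678d262546) (.leaf 0))) (.node (.node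 (.leaf 0xb73280a00000cbe1dcf230d06e58473f364507e77b1c82cb486) (.leaf 0)) (.node (.leaf 0x31e73054000123dd47412d13145604f4af26b14829b4a328f295) (.leaf 0)))) (.node (.node (.node (.leaf 0x33054e60000007e012ba17e6148204b78006a0c14dd1775be32d) (.leaf 0x4b8c37d900004076341622691c910595574fd24158d10e53770a)) (.node (.leaf 0x23604cdc00011d5009f9407d0ee604175d4750ec48f4971137bd) (.leaf 0))) (.node (.node (.leaf 0x41f21a7c000011e22ec8039d18f58452935701b80713bd5866de) (.leaf 0)) (.node (.leaf 0x4d89182d00012b5749354c9c1cd20532597a60f945461d18b41d) (.leaf 0)))))) (.node (.node (.node (.node (.node (.leaf 0x198121b300010221073707360c5404335a1da1dc1704765fc7b2) (.leaf 0x205c2763000031d34de549980e858593e20902a27236be5372c7)) (.node (.leaf 0x184b49a9000115ef0727360b0c2605770c4ad0116585c368a262) (.leaf 0))) (.node (.node (.leaf 0x5231d9700010b84210a210904e30472e020b3ee20f17b7865fc) (.leaf 0x18a22545000153003f024d6a0c350453ad3640724ce54a734180)) (.node (.leaf 0xa5407570000222245a345a206c48490ac4805a956a58f2ab113)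 (.leaf 0)))) (.node (.node (.node (.leaf 0x2e73426d000106b105bf14b112c78476507be6362b73042c712d) (.leaf 0x41fb184c00013cd51ccd498818f585725c6dc1b84fd7b75866de)) (.node (.leaf 0xfbb50c500001bc73e8a2e0908b38577bf22042347530841d335) (.leaf 0))) (.node (.node (.leaf 0x51c620170001108c12be298d1e9504d32957b49b66b0826de2c7) (.leaf 0)) (.node (.leaf 0x7264864000129531dc1460d066504d6e829a25d00c2b6295486) (.leaf 0))))) (.node (.node (.node (.node (.leaf 0x4cee4bdc0000045f0e140e131cb605d73f64c1912a84e168a262) (.leaf 0x1ef9310f000036f44cac4c340e378534be66f0893672d7149049)) (.node (.leaf 0x4456494e000018d53a7832631a6484d6ff7177336a058b12d28f) (.leaf 0))) (.node (.node (.leaf 0x3bef0aca00010dfc04561c4a16f605f1035353ea37d09568a55a) (.leaf 0)) (.node (.leaf 0x4a132f56000025ac489b03651c6184749938f3cc4f04162147bd) (.leaf 0)))) (.node (.node (.node (.leaf 0x2d7b1af20001090f1b070d0012a78572a307b7595d067726212d) (.leaf 0x2f5d392c0001446020d10a0312e585b5776b93410dd0bf124156)) (.node (.leaf 0xcca2a0600011ee342641320083605542930911e2445a715f734)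 (.leaf 0))) (.node (.node (.leaf 0x68a1263000013393147314606540551ce0bd42d1420435be68a) (.leaf 0)) (.node (.leaf 0xcb8435300002d5536514dab083585166b0d26510b155f124149) (.leaf 0)))))))))

/-- part of a table -/
def entries117 : Trie := (.node (.node (.node (.node (.node (.node (.node (.node (.leaf 0x7714d0b0001003c00e100e006678437603e003d18c1862145fc) (.leaf 0x30451cb300012deb4df33e5d142604b2ca1216922bd03f113786)) (.node (.leaf 0x7c444130001138f094a31f8067604967c1b22377e14971136de) (.leaf 0))) (.node (.node (.leaf 0x37324013000009611bd01bcf164384561b19966c54971c486335) (.leaf 0x31b03c2000145994f1a463304a28570562167fa2bc123333786)) (.node (.leaf 0x19a73f1700001f4e11b542ce0c5504f60337d0da2d666e486262) (.leaf 0)))) (.node (.node (.node (.leaf 0x243f3646000004ab0ef10030102385f5362746f973038c12412d) (.leaf 0xfb2dc0000037ba46593ce00457857474055487252227537335)) (.node (.leaf 0x516902c8000019343afd22331e860530404ff43f7a537924d70a) (.leaf 0))) (.node (.node (.leaf 0x2f3f2ba400000e4a27751f8712e285f44a1c20f500e7477d9518)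 (.leaf 0)) (.node (.leaf 0x2d17459800012622329145c112a284f6a24596fa2744f47d9586) (.leaf 0))))) (.node (.node (.node (.node (.leaf 0x1eef310500000269081b081a0e3705f4be4ab4fb4712b61497d9) (.leaf 0x4737005000003271280826a61ae384f0081530f40451470005fc)) (.node (.leaf 0x391302b100001650302c2919168284703c0510c14dd6b65be32d) (.leaf 0))) (.node (.node (.leaf 0x44f31f5a00000bd021ce21cd1a7784731865d7ac1fb1180005fc) (.leaf 0)) (.node (.leaf 0x110c5293000022961d57460a08e10597e63cf5bf72a37b1806de) (.leaf 0)))) (.node (.node (.node (.leaf 0x36f82d35000106fc157d03e4163785146a1d974421d26714970b) (.leaf 0x3549410300013dbc3389501f14e40536321f176d4c250a33324d)) (.node (.leaf 0x1a2620f100011c2d1b922f860c8204d3430c643f3106c55fc70a) (.leaf 0))) (.node (.node (.leaf 0x446f118c000110e22cc906901a6705f1b665d7ac3be7b70005be) (.leaf 0)) (.node (.leaf 0x277c2f88000029d447b2439b10a785949d47b6bd5d7435262546) (.leaf 0)))))) (.node (.node (.node (.node (.node (.leaf 0xfdf26650000014f048d048c08b485f3c83b25734d034d04968a) (.leaf 0x4fed1dee000030083e6c21941e5605b2e86db0726603de24d180))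 (.node (.leaf 0x51b40f41000114e62ce124e41e9284917e08f2804434045be70a) (.leaf 0))) (.node (.node (.leaf 0x309d2c0e00000a961ecd1ecc143285b45273d4cf46e24e3332cb) (.leaf 0x7c9464900004b434fdf307006760536b24947e847d18a11355a)) (.node (.leaf 0x4a981485000120e722933beb1c718511ff2bd1e645b5b47347bd) (.leaf 0)))) (.node (.node (.node (.leaf 0x4ec50f09000105d212410e751e3404b1716d208143a63b70b15f) (.leaf 0x43af298b00003a874ad804881a5305f41a3104f204d7db15670b)) (.node (.leaf 0xf1c03c100011aab3d2022c208a18590560d31484d51ec262149) (.leaf 0))) (.node (.node (.leaf 0x4b0135ee00010f962a2f2a2e1c810435306e41b972910e53770a) (.leaf 0)) (.node (.leaf 0x38bb25e8000127f128874a6616728573be4ac79b37c75562155a) (.leaf 0))))) (.node (.node (.node (.node (.leaf 0x34c12b48000003880b8d0b8c14d404344434942d12661d18b113) (.leaf 0x3bb40e3d000134f715404fb216f38491604f75215a65ae2145fc)) (.node (.leaf 0x3daa152e000017bd2ff938cf185305520c70c67501411a51870b) (.leaf 0))) (.node (.node (.leaf 0x177941a500010d0b162624a50ae68536412ce07d0a80cb15f537)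 (.leaf 0)) (.node (.leaf 0x2e323c6100012459479e1c5112c38455c50f11944f93042c712d) (.leaf 0)))) (.node (.node (.node (.leaf 0x351838ee0001082d071318bb14e185156f7751cf07708a295486) (.leaf 0x50f110200000416547a02d921e7684319801469a0f121868a025)) (.node (.leaf 0x1fdc1bb800001db540f90cb30e568592b82f72da2821ab28f41d) (.leaf 0))) (.node (.node (.leaf 0x25d73eac0000123c2d8b2f62105584f5f569e334588718025000) (.leaf 0)) (.node (.leaf 0x19924901fe000002bdd3b264cdf103284132406c35d02c30d7d9000) (.leaf 0))))))) (.node (.node (.node (.node (.node (.node (.leaf 0x19af2ef6000100c402bc02bb0c5505f48f1b07037cf71c486262) (.leaf 0x9d7074a00012ef711fa4e8006b684f0ab5426927090951132cb)) (.node (.leaf 0x3c1e0b530000143a331423a5182285d1103206802af58b546734) (.leaf 0))) (.node (.node (.leaf 0x1f4d345f000109f91d501d4f0e4605b50d5192f251b37924d41d) (.leaf 0x498f2c58000148214a9c2fa31c5105f4583fe087469227486262)) (.node (.leaf 0x7c3332b0000201643ad1a5106760474f050707a7324e168a6de) (.leaf 0)))) (.node (.node (.node (.leaf 0x184736b10000053d109610950c2604f53f0b64d857913768a124)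 (.leaf 0x447d406c0000392351e928841a6785b6226613286297b55865be)) (.node (.leaf 0x27e4235e000119ed08a1390210b704937e6e755660855f262546) (.leaf 0))) (.node (.node (.leaf 0x4d06132000000eee28d528d41cc204d1dd11210441b34a18b180) (.leaf 0)) (.node (.leaf 0x25a72b8d0000270749b52139105304f44852d39e5e371802512d) (.leaf 0))))) (.node (.node (.node (.node (.leaf 0x462b2f05000002f809d609d51aa20574911087258006b812d214) (.leaf 0x262e4dad000133b6171f3bc2106205d7706335c67684b17d9156)) (.node (.leaf 0x1e9e4d1f0001170529a4342d0e3485d7627e512071d23433315f) (.leaf 0))) (.node (.node (.leaf 0x4124385400000c71234c234b18e30495652607ac56c1640005fc) (.leaf 0)) (.node (.leaf 0x44411058000023723f5f12c11a6404319b3ae55d20602754624d) (.leaf 0)))) (.node (.node (.node (.leaf 0x19bf13d700000795171b0a320c5585f1f2492724403340537124) (.leaf 0x45b279100013f7f3041143404c48573e70655d36e674c18b113)) (.node (.leaf 0x1180403000011cf11148401108f104161e04179b0461d241d6de) (.leaf 0))) (.node (.node (.leaf 0x4bc243380000118c20882e231c950456673482b47690ff55a70a)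 (.leaf 0)) (.node (.leaf 0xf8811f100012acf357d25c808b10511c20ad1482c10b2262295) (.leaf 0)))))) (.node (.node (.node (.node (.node (.leaf 0x4ff64e2f000101db065406531e5684d77b7ea2f20e30d824d180) (.leaf 0x1c4431144b50000313033ec4ce61a418436883814cf71914d518786)) (.node (.leaf 0xf3c40ed00011595357a357908a385963065b3e440b37b41d333) (.leaf 0))) (.node (.node (.leaf 0x1a15338800010b35204b204a0c8184b4f845619c63f2406de2c7) (.leaf 0x3638364400014f28305a53c216238515361b55b15cf5ae214621)) (.node (.leaf 0x3b73c33000021c339ef454704b384f5c129a5ea50757d295621) (.leaf 0)))) (.node (.node (.node (.leaf 0x20c440a70000066713dd09790e9504962a1c149b1c76f848670a) (.leaf 0x2e562e8500003c1c3e632d9d12c584d4851d13517ee7612c7586)) (.node (.leaf 0x1785536100011b663e0e3c530af104b7fb09a59c1bf2f341d6de) (.leaf 0))) (.node (.node (.leaf 0x441900430001103a2b8a2b891a6185300721f5bf2f602658655a) (.leaf 0)) (.node (.leaf 0x4b2914ea000028e133ff4b0d1c820532083b91b93774045be70a) (.leaf 0))))) (.node (.node (.node (.node (.leaf 0x29bf200d00010416070e0d3c10f285f3265f21ef64a34d049156)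 (.leaf 0x34da36c7000036343a42513714d48555402645736832982ab113)) (.node (.leaf 0xf4d01d30001187539ec39eb08a405b02b1f801e1313b104968a) (.leaf 0))) (.node (.node (.leaf 0xa1b448d00010dae2164205006c28576857923d668f3b818b149) (.leaf 0)) (.node (.leaf 0x2bd7498d0000253931544843125584f70672735122f2e47bd586) (.leaf 0)))) (.node (.node (.node (.leaf 0x4f85195e000108c41a421a411e5104b276686410453538486262) (.leaf 0x7cf08620001434e4b5045dd067605f0ca19a49556328768a55a)) (.node (.leaf 0x30be398100011e8341e841e7143385d57e20a6750b6195214621) (.leaf 0))) (.node (.node (.leaf 0xd6d3fae000012ea30a508d6086705b6107f025f5e94a21245fc) (.leaf 0)) (.node (.leaf 0x3ab7475900012cdb10ec112816d284f6d25327d22b22982ab149) (.leaf 0)))))))) (.node (.node (.node (.node (.node (.node (.node (.leaf 0x102d4cf20000008001d201d108c305b75f1162a60e511170a621) (.leaf 0x2bde181d00002e6f193e4e3c125585d2587463514546b47bd586)) (.node (.leaf 0x40160710000113e81782166818a184d0a700145c3f2118586295) (.leaf 0))) (.node (.node (.leaf 0x196e1dda000009ae1c900ca60c4705d2e63db1f745e17f6de049)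 (.leaf 0x33b01593000046d74b4724c514938412170b779806810e48618b)) (.node (.leaf 0x4d0d358800011fb50af643401cc205b5293a32da1195b72ab41d) (.leaf 0)))) (.node (.node (.node (.leaf 0x44a839bc000104f40fc80fc71a720515845dd39828517a546486) (.leaf 0x1b50419b00003877386a3b760ca484164053a3873036b570b15f)) (.node (.leaf 0x4d5616b40000198e2d5c015a1cc484d23323d1b76333b818b15f) (.leaf 0))) (.node (.node (.leaf 0xab0477800010e9a1869281d06d38416d45123f553543b32d335) (.leaf 0)) (.node (.leaf 0x4520058d00012695226712811a830410806eb4ef1b30475182ab) (.leaf 0))))) (.node (.node (.node (.node (.leaf 0x2bc2319f000102af08f708f612550454c87463516e77187bd000) (.leaf 0x23993c0e000133162000502c0ef18535bb6b1257140265149025)) (.node (.leaf 0x2f270dc2000016ac3725372412e204f15513b6474c4747049518) (.leaf 0))) (.node (.node (.leaf 0x4e0332f300010c20228e228d1e220474ec25627f62c75570b124) (.leaf 0)) (.node (.leaf 0xd1542b3000022ff46723835086484b65906c71b7eb30d7d924d) (.leaf 0)))) (.node (.node (.node (.leaf 0x320603570000074b164f164e146104d04f53b6cf225034786537)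 (.leaf 0x50ce14a500013e983390393c1e7505d20133f69a610154149025)) (.node (.leaf 0x26a4417e00001c953f8f3f8e107204963e7351ef51c32e049518) (.leaf 0))) (.node (.node (.leaf 0x15374ebe000011362d7b2d7a0aa384f78c79748764c5bc180333) (.leaf 0)) (.node (.leaf 0x337519ee00002a4d3c801fa4148784b2867062797282b56de18b) (.leaf 0)))))) (.node (.node (.node (.node (.node (.leaf 0x4d9e3e38000001950570056f1cd285d5ec58418337134a2ab180) (.leaf 0x17040e7f000130a6394117110ae10491657d43d056141418055a)) (.node (.leaf 0x69835380001153a06e3229406548515234ec57362b05e5be68a) (.leaf 0))) (.node (.node (.leaf 0x2c943e1300000ae51f891f8812718495e927110c2ec4a2262156) (.leaf 0x3fe266400014d054c7e331204b785d3c829b766691416214621)) (.node (.leaf 0x317c33190000215e44df055d14468594ee21245c4f756028f149) (.leaf 0)))) (.node (.node (.node (.leaf 0x1ce645450001061b130d130c0cd704d69d3ff4d46f0390428049) (.leaf 0x4af914a900013b4a4de645661c768532014613fb6902ad68a7bd)) (.node (.leaf 0x202d48fd00011b093d9a3d990e8205b6f656d6783631b15be2c7) (.leaf 0)))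 (.node (.node (.leaf 0x22a24e1100000fe816052ad50ed20457790706dd69d34a2ab180) (.leaf 0)) (.node (.leaf 0x2d7d146b0001286d4ac411f812a785b1fc42b63606c0b212412d) (.leaf 0))))) (.node (.node (.node (.node (.leaf 0x18d82ef5000103cf04bf0c6b0c3685148f1606ae40349768a124) (.leaf 0x21dd51b8000135a04b8b37af0eb485b7cf53a38714323f70b7b2)) (.node (.leaf 0x2bd12c400000181a303d3135125584345608c75764124b025586) (.leaf 0))) (.node (.node (.leaf 0x5273ae400000d5c2560255f04e304f59d22a5213e31c87865be) (.leaf 0)) (.node (.leaf 0xf4a0579000024c8378447f508a405507b6855012327077d968a) (.leaf 0)))) (.node (.node (.node (.leaf 0x26bc25e3000008781981198010728593be2b77583c636b7d9518) (.leaf 0x4d1f1c9f0001426049f4536d1cc285f2c87701271a608e18b41d)) (.node (.leaf 0x37f0305500001e164174417316568414af2f762d4361ab28f149) (.leaf 0))) (.node (.node (.leaf 0xc1d4ac400001291300e300d082485b7270ae5a949c69b7d9113) (.leaf 0)) (.node (.leaf 0x11b03f7100012c604d2c4c9b08f384160c0ac3ee6140bf1245be) (.leaf 0))))))) (.node (.node (.node (.node (.node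 (.node (.leaf 0x1bc220e80001010803a503a40cb40453423260816ec2f070b15f) (.leaf 0xce72e6e00002f841ea242e5083704f4837653f5161417180335)) (.node (.leaf 0x51fb1e2f0000149333b733b61e968572f57ea2803fd0d824d70a) (.leaf 0))) (.node (.node (.leaf 0x42a8030500000a461e0f1e0e1a330510452b966c355048586333) (.leaf 0x289545bd0000499a3c4f43b010d184b6a576b1416946192c7586)) (.node (.leaf 0x4bce369f00002073440d0b3c1c9505d53d7fd1b41ce08255a2c7) (.leaf 0)))) (.node (.node (.node (.leaf 0x407d046b00010587116e116d18a785b0666163f55de401000333) (.leaf 0x49624f51000039d0521652151c4604579a0682da13d7d628f41d)) (.node (.leaf 0x1021268e00011a4d0a573c9b08c30433ca6e874422378970a70b) (.leaf 0))) (.node (.node (.leaf 0x4bf849b200010f3e297f297e1c9685170e3c91b400e56028f2c7) (.leaf 0)) (.node (.leaf 0x55c51170001277b2a214a0f04e48597c553073356d44b70b24d) (.leaf 0))))) (.node (.node (.node (.node (.leaf 0x397001690001033f0ab20ab116878410214c84ef02e56255a2ab) (.leaf 0x4c09001a0001345a34eb23261ca10530024d51820ee750214180)) (.node (.leaf 0x4fff4fa30001175e17ff14911e5685f7a31052f27b869524d180)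 (.leaf 0))) (.node (.node (.leaf 0x24eb107000010cbe23fd23fc103705719e02a5562ff132180546) (.leaf 0)) (.node (.leaf 0x7d253b7000023de4743474206768458034273d037c61311355a) (.leaf 0)))) (.node (.node (.node (.leaf 0x4c4b37ec000107e017e7172e1ca40575585904ca31623433515f) (.leaf 0x3cce2d3f0000407a517106a8183405d46a73c01e21d1be546113)) (.node (.leaf 0x13e4059b00001d51407e134d0a770490846b903d3a30bf1245be) (.leaf 0))) (.node (.node (.leaf 0x22753785000111e224ac0abf0ec784b5510fe4d467b46c4287d9) (.leaf 0)) (.node (.leaf 0x21b43e2600002b582d7722610eb28495eb1fe5a223e07570b124) (.leaf 0)))))) (.node (.node (.node (.node (.node (.leaf 0x3bd4516b000002220739073816f48497ca6c976a1da29c33524d) (.leaf 0x69753d7000031d44f9c4fbe065484f8065876e222b3465fc68a)) (.node (.leaf 0x10b2602145f000015f01f16360c10610451fb7aa0b327866a262518) (.leaf 0))) (.node (.node (.leaf 0x1abb4a4c00000b85210b1e130c9285771d5871b46c43465fc70a) (.leaf 0x43de0ec10000530e53f32cf71a5585d16b2d50c309411a1562cb)) (.node (.leaf 0x30ce2bc40001222245a435b4143605d44d1d64314624e168a786)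 (.leaf 0)))) (.node (.node (.node (.leaf 0x32ef163f000006b214b314b2147705f22570e3281120342cb5fc) (.leaf 0x53991c9600013cd6393430391ed28532c82be34c07b51d18b180)) (.node (.leaf 0x638333b00011bc725333e8b06458514f14c83532f52b555a214) (.leaf 0))) (.node (.node (.leaf 0x1b5950690001108d2c2f095c0ca48537b323a38710844b70b15f) (.leaf 0)) (.node (.leaf 0x5150229e000029542d0242a91e8584136e71e6780614a655a70a) (.leaf 0))))) (.node (.node (.node (.node (.leaf 0x1f231351000004600e160e150e450471e10f85a22c5664537124) (.leaf 0x6a532e7000036f54ddd156e065504b4e956b01d27e05d55a214)) (.node (.leaf 0x10a23ae9000118d53a792ec808d304559d48a1a75e576170a70b) (.leaf 0))) (.node (.node (.leaf 0x27f613e300000dfd26c10e3a10b784d1f31a61e344738c26212d) (.leaf 0)) (.node (.leaf 0x472e104d000125ac43b7489c1ae305d19a7167ef4827b70005be) (.leaf 0)))) (.node (.node (.node (.leaf 0x3ee13adc000009101b081043187704359a6160f40070260005fc) (.leaf 0x2c05145600004461539e4bea126104b1fb3395ab4674a2262156)) (.node (.leaf 0x4155328500001ee442650af518e484b4e025b52502d17a12d24d)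 (.leaf 0))) (.node (.node (.leaf 0x369125b100011339062c314816328433b91310a352c4da3352cb) (.leaf 0)) (.node (.leaf 0x4f174a7a00012d55112428d81e4184f7204fc4d87af664486124) (.leaf 0)))))))))

/-- part of a table -/
def entries118 : Trie := (.node (.node (.node (.node (.node (.node (.node (.node (.leaf 0x517810d90000003d00e300e21e868511a856c67864a7fc28f70a) (.leaf 0x24571a1c00002dec40b04df4102684f28a5c96aa0e32f17b2000)) (.node (.leaf 0x406f3c4f0000139031fa31f918a705f5c27b348762b4e2586333) (.leaf 0))) (.node (.node (.leaf 0x40ae1a9c000109611bd21bd118b205d2976762d25891be546214) (.leaf 0x186222150001459a481e3de20c270453632891854a004b2957d9)) (.node (.leaf 0x3e3b16d800011f4e0acd42cf186285723936768d0920a9546537) (.leaf 0)))) (.node (.node (.node (.leaf 0x51000dc3000104ab08480ef21e8104115521a6785336f848670a) (.leaf 0x2e7a1468000137bb4fba32c912c78551fc31e6365d075b2c712d)) (.node (.leaf 0xbca4d3b000119343afe0a4906f40557654893560af2f062128f) (.leaf 0))) (.node (.node (.leaf 0x3fe34def00010e4a046f2223189704777579d42602d67e5182ab)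 (.leaf 0)) (.node (.leaf 0xb8704c80000262448f448f306f204f06c4895bf1b02f062155a) (.leaf 0))))) (.node (.node (.node (.node (.leaf 0x2c960c410001026900ac081c127184d1290e00f57d878d124518) (.leaf 0x5a546710000327349012daf04f304b6bc0620f42536287865be)) (.node (.leaf 0x10b21ce9000116513697364308d38452cf60f76607676170a70b) (.leaf 0))) (.node (.node (.leaf 0x4b13c3400010bd021d021cf04d38435c131848703723632d333) (.leaf 0)) (.node (.leaf 0x196a252f00012296460c460b0c470553ab6cb0893505806de7d9) (.leaf 0)))) (.node (.node (.node (.leaf 0x1feb1bba000006fd157f157e0e570572b83852133aa3456de049) (.leaf 0x4f892c5100003dbd4c944c251e510534580b74d842410e486124)) (.node (.leaf 0x1395059700001c2e3f053cbd0a7484b08443a7333a374004924d) (.leaf 0))) (.node (.node (.leaf 0x12792a19000010e32cca054c0a2785342a57f16e4ac37b41d333) (.leaf 0)) (.node (.leaf 0x165350a1000029d526ad4bb50ac58477bb0f12c26b13042c72cb) (.leaf 0)))))) (.node (.node (.node (.node (.node (.leaf 0x435233be0001014f048f048e1a458454fd6f24121147db1562cb) (.leaf 0xb9e411300013008128f440d06f285d6332086a36822316216de))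 (.node (.leaf 0x98d3ba9000014e71d4b345306b205b5b36387fa2bc3fc333786) (.leaf 0))) (.node (.node (.leaf 0x1dc5419500000a970d0a1ece0cf504b6402752f435b5ae214025) (.leaf 0x3b3229b100004b44364a4b7c16e384541e1515e24ff54a7345be)) (.node (.leaf 0x31262609000020e8400e4437144304d3c04fc0b4427664486333) (.leaf 0)))) (.node (.node (.node (.leaf 0x272e424f000005d31243124210a305d64c7f622d18d5bc41d12d) (.leaf 0x3ab4029a00013a874a6d358116d284903859378f00a58f18b295)) (.node (.leaf 0x3e2c4eeb00001aac0d2f3d2118620597925ee07d4b629112d486) (.leaf 0))) (.node (.node (.leaf 0x3db27c900000f9723a92a3004b68573eb5344cf2aa0951132cb) (.leaf 0)) (.node (.leaf 0x15bc0dfd000127f24a6727b00ab385915970f14608027a180333) (.leaf 0))))) (.node (.node (.node (.node (.leaf 0x353292b000103880b8f0b8e04a684740e4e30a3722613113786) (.leaf 0x348c03fd000034f930be4c9d14d105905a55e6cc4020de32d734)) (.node (.leaf 0x34304752000117bd38d0067d14c28416d21fb7bc12c5742ab295) (.leaf 0))) (.node (.node (.leaf 0x425a238d00000d0c24a724a61a248553856f65fa4301be12d113)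 (.leaf 0)) (.node (.leaf 0x13cb29de0001245a479f162a0a7605742273025d19b62315f537) (.leaf 0)))) (.node (.node (.node (.leaf 0xa4507660000082e18bd18bc06c404b0ad50013433a2262ab68a) (.leaf 0x5b31cd4000141651e0d443304f38472ce12c28e1e50342cb5fc)) (.node (.leaf 0x34461ae200001db640fb40fa14c404d2a11120f702874c18b113) (.leaf 0))) (.node (.node (.leaf 0x8144f460001123c2f642f6306828497992762ef1c14765fc32d) (.leaf 0)) (.node (.leaf 0x451d4b8900012bdd1e0845b61a8185b7384d20c105412b51832d) (.leaf 0))))))) (.node (.node (.node (.node (.node (.node (.leaf 0x2eda1096000000c502be02bd12d58551a14093303d74d670a000) (.leaf 0x13a93f9e00012ef845fc4e810a7505360f78a59c2dc27041d55a)) (.node (.leaf 0x211b01b40000143b331633150ea18570292697886173472cb180) (.leaf 0))) (.node (.node (.leaf 0x52793018000009fa1d521d511ea68534ab4616ae3eb1a068a124) (.leaf 0x287b2f8b000148223e042a0210c785749d5266bd61e7612c7546)) (.node (.leaf 0x4ebc2e52000120160b1f39161e338594823291856bc6282cb7d9) (.leaf 0)))) (.node (.node (.node (.leaf 0x499a1daa0000053e109810971c518552e26822e13d271c537262)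 (.leaf 0x4af0c7600013923248d51ea04d305f12f4653f1311174428335)) (.node (.leaf 0x45583ebb000019ee2b9434d91a858515f64d20c14ee268518428) (.leaf 0))) (.node (.node (.leaf 0x356c3e0200010eee28d6144214e60595e81b22376544971136de) (.leaf 0)) (.node (.leaf 0x11f72312000027083b3949b608f684f37815973932118e7b2486) (.leaf 0))))) (.node (.node (.node (.node (.leaf 0x2ec20734000102f809d809d712d50450aa26c3120d175b70a000) (.leaf 0x34b82bab000033b7506105e614d285144a5db03e2f545018b149)) (.node (.leaf 0x2df42fc90000170637bb156312b78494a43397592b70b226212d) (.leaf 0))) (.node (.node (.leaf 0x346e3c4400010c71234d06e014c705d5c20e64872bf02032d333) (.leaf 0)) (.node (.leaf 0x16a429620001237236b12ce20ad30494150f236131a1112c7621) (.leaf 0)))) (.node (.node (.node (.leaf 0x443224c600010795171d171c1a628453a33667e459a7dc12d486) (.leaf 0x76f06c400003f81531540a2066705f0a110328416d4162145be)) (.node (.leaf 0x2c9f050a00001cf240123fca127185f0705880f51e9314124518) (.leaf 0))) (.node (.node (.leaf 0x115640cd0001118c2e252e2408e484d62c5c076a00374704928f)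 (.leaf 0)) (.node (.leaf 0x24ee1aab00002ad01f222bae103705d2996af0c40565ed18012d) (.leaf 0)))))) (.node (.node (.node (.node (.node (.leaf 0x1ec32363000001dc065606550e360473810e16ae1883c768a262) (.leaf 0x1b04ffe0001313117262f9204758417a97223980e62d7149486)) (.node (.leaf 0x6bf167800001596357c357b065585f22e3486cc57708255a214) (.leaf 0))) (.node (.node (.leaf 0x430d04bd00000b36204d204c1a4105b06b55400648512b5182cb) (.leaf 0x42bf00ad00004f2a30d851541a3385f00d65d3f54ad7b7000335)) (.node (.leaf 0x12320d71000121c3454945480a2584514e0ef1483294de262149) (.leaf 0)))) (.node (.node (.node (.leaf 0x44d916370001066713df13de1a7485322550463711241f54628f) (.leaf 0x23fd1f3500003c1d528a4e0c0ef685b31521769a3362ad68a7bd)) (.node (.leaf 0x323c06e500001b67384312f314628590a423b5df4b67f970b55a) (.leaf 0))) (.node (.node (.leaf 0x39932a6c0000103b23162b8b169284743061c2282720135fc428) (.leaf 0)) (.node (.leaf 0x1ad0f9a000128e34b0e3553047505b18966507e393203295486) (.leaf 0))))) (.node (.node (.node (.node (.leaf 0x15e50bc4000004170d3e0d3d0ab604b11b2b172504430b7b2214)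 (.leaf 0x257b03b00001363516094c53104785705500e6557a83d57bd546)) (.node (.leaf 0x67b32b70000187839ee39ed06478574e543e7dd1963ef486335) (.leaf 0))) (.node (.node (.leaf 0x1ef146ff00000daf261100a30e378436c87a10c8712203149049) (.leaf 0)) (.node (.leaf 0x4371476c0000253a2fc63a201a478436d36c81e2259178518621) (.leaf 0)))) (.node (.node (.node (.leaf 0x7828102e72000008c51a441a4310c18414841d335d79514570a000) (.leaf 0x19e4e550001435052a54e41047485d77f26d70508612333528f)) (.node (.leaf 0x2f060dc700001e84379541e912e104d1553eb64752378b41d518) (.leaf 0))) (.node (.node (.leaf 0x31270528000112ea30a730a6144304f0744a966c5e6340486333) (.leaf 0)) (.node (.leaf 0x62f2a1400002cdc4d711c55064505f42a25801d53b58055a734) (.leaf 0)))))))) (.node (.node (.node (.node (.node (.node (.node (.leaf 0x4f4c200001008001d401d3044605f74604508b5f11e828f149) (.leaf 0x3ad46a500012e7047d323db04b305b6c12865ea00808a29570b)) (.node (.leaf 0x170c3c27000013e90e3732840ae10595c04530d06796fe18055a) (.leaf 0))) (.node (.node (.leaf 0x309101f4000009af1c921c91143284302d1db65633f70d333786)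 (.leaf 0x44ed21f7000046d928754f4f1a7705b3603a15e23a37ae5865be)) (.node (.leaf 0x1d6a4a3000001fb6432c201a0ce605571a0b60126c813768a7bd) (.leaf 0)))) (.node (.node (.node (.leaf 0x4b3f2ab9000004f50fc90f0f1c8285f43845819c52d6c55be70a) (.leaf 0x504f11810001387751c6068e1e6505f1b604c14f40904b2957bd)) (.node (.leaf 0x23611a240001198e3b883b870ee604328b0fc1e64f50c51137bd) (.leaf 0))) (.node (.node (.leaf 0x2bad152a00000e9b281f281e125305b20c4dc75978c63c02512d) (.leaf 0)) (.node (.leaf 0xbd508800000269649540b9806f484b0d119671b56863b70b24d) (.leaf 0))))) (.node (.node (.node (.node (.leaf 0x18372636000002b008f908f80c2584f3c44627887166ad21441d) (.leaf 0x1cf27404a9300003317502d426210a604172213935d0313447b2000)) (.node (.leaf 0x45ea40dc000116ac37262ea31a9705562e6a178508d67e1562ab) (.leaf 0))) (.node (.node (.leaf 0x2d1113c900000c212290228f12a28431f13bf45a7ce69b049586) (.leaf 0)) (.node (.leaf 0xf0a4e490000230146730c4408a105577e44008b1c0677262295) (.leaf 0)))) (.node (.node (.node (.leaf 0x11b41cd10000074c1651165008f38492ce0d228e6db55f1245fc)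 (.leaf 0x2427514500003e9a444341ea102304f7c81a61e35e338c26212d)) (.node (.leaf 0x12a513a100011c9609b03f900a3504b1ed13a3ce36e4a2124149) (.leaf 0))) (.node (.node (.leaf 0x227331d6000011372d7d2d7c0ec78474ce0e66974cd62632d7d9) (.leaf 0)) (.node (.leaf 0x154008a800012a4d4c0729380aa40410d360855000236b7d9113) (.leaf 0)))))) (.node (.node (.node (.node (.node (.leaf 0x3b750ab3000101950572057116e684b1022543ea17149768a6de) (.leaf 0x2c1a05ba000030a718a1231512618550863d85ab70138c262156)) (.node (.leaf 0x29f949bb0000153b15c734eb10f685370e6d45037cd0cb15f156) (.leaf 0))) (.node (.node (.leaf 0x33be3de600010ae50e131f8a149385d5e64921bc2a534053718b) (.leaf 0x41b73c6900004d0b49d02af218f384f5c55e13ee6e547c5865be)) (.node (.leaf 0x212b4fdc0001215e125b3e7a0ea20577a762b5a22c522170b124) (.leaf 0)))) (.node (.node (.node (.leaf 0x6314fb2d2e0000061c130f130e0a978574697a51bc1d82e47bd2ab) (.leaf 0x9a9070000013b4c3db8060b06b30530a60214f204d0c229570b)) (.node (.leaf 0x108125fe00001b0a1e613d9b08d10433bf67c43102f7892c7786) (.leaf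 0))) (.node (.node (.leaf 0x2ab9398d00000fe92ad72ad6123385357e6602eb44f0bf262546) (.leaf 0)) (.node (.leaf 0x29a00dc40001286e4ac52b9210f2041155288503061740049156) (.leaf 0))))) (.node (.node (.node (.node (.leaf 0x47e61c01000003d00ab90c6c1af504d2bd15307a6714e200055a) (.leaf 0x3fda09a2000135a12eaa260f18958550e814022856147a518428)) (.node (.leaf 0x21df16260001181b184d39630eb485f2244f616c71d33862115f) (.leaf 0))) (.node (.node (.leaf 0xc634c0f00010d5c2562256108270477437ee42354413241d335) (.leaf 0)) (.node (.leaf 0x47707a4000024c947f747f604c584f0b52dc3b641c58e32d734) (.leaf 0)))) (.node (.node (.node (.leaf 0x453130cb00010878028719821a838434ba5a82796e50475182ab) (.leaf 0x1446485700004261535b3d270a8504d6e74290055f3718025428)) (.node (.leaf 0x1bb6338b00011e16105c3f930cb284d4f85576ae57864d70b124) (.leaf 0))) (.node (.node (.leaf 0xeb430005fd0001129105ee02d61a4104108f6c843118f14d518786) (.leaf 0)) (.node (.leaf 0x139d2ae600012c614aaf459a0a7485b43c3bf52542c30d04924d) (.leaf 0))))))) (.node (.node (.node (.node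 (.node (.node (.leaf 0x17d946bb0000010903a703a60af48536c249373351465e04928f) (.leaf 0x36a1273000012f85317d2df116330433df05360219363573470b)) (.node (.leaf 0x5d908730001149331ea33b804f48530ce2774b851456e62128f) (.leaf 0))) (.node (.node (.leaf 0x3a9351d400010a461e111e1016d18477d32012d22fb58e428734) (.leaf 0x41e7322a000049a44c1b520e18f504f4d55d879b6c07b75866de)) (.node (.leaf 0x2c6d0aaf00002074440e42c8126605b1016bc5ab4673867b2156) (.leaf 0)))) (.node (.node (.node (.leaf 0x4f084342000005881170116f1e410516691710da8080ba486262) (.leaf 0x500466c000139d04128347d04e20416bb6834950f844b70b55a)) (.node (.leaf 0x1363420f00001a4e3c9c22380a670476487da28e1686771245fc) (.leaf 0))) (.node (.node (.leaf 0x3041512500000f3f08c1298014260437c61b20c31034971132cb) (.leaf 0)) (.node (.leaf 0x1ccd3d570000277c4a1002670cd405b5da3490fd3a761d18b15f) (.leaf 0))))) (.node (.node (.node (.node (.leaf 0x3de84fab000003400ab40ab318570517a33c41a7590178156621) (.leaf 0x1c930d5b0000345b47f9283a0cd184714360d31932c174428262)) (.node (.leaf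 0x4dd938410001175f07bb38481cd48535642be12001f5b718b15f) (.leaf 0))) (.node (.node (.leaf 0x4d361f6800000cbf23ff23fe1cc384d31a5634fb1c505932d7d9) (.leaf 0)) (.node (.leaf 0x48bc3a51000123de0cb22c011c3385959206709d75e283786049) (.leaf 0)))) (.node (.node (.node (.leaf 0x24b917a2000007e117e917e8103385324f1a565551e0b212412d) (.leaf 0x518310000001407d3a4423ee1e9104719604627d4433ef53770a)) (.node (.leaf 0x2eaa264100001d521348407f12d30553c51c32eb7104d670a12d) (.leaf 0))) (.node (.node (.leaf 0xee90e1f000011e3211917e9089705315c7df1bc4527147bd18b) (.leaf 0)) (.node (.leaf 0x117431ae00012b59248b314108e68494c97ba3a85f53c115f537) (.leaf 0)))))) (.node (.node (.node (.node (.node (.leaf 0x3f62a2a000102220097073a04b784d42b49d77c52b4c5214621) (.leaf 0x37b038c2000131d5206b3ce6165384156c2105a3507781537335)) (.node (.leaf 0x3328028d000115f0360d2e2914830510376e46074490ba5372ab) (.leaf 0))) (.node (.node (.leaf 0x71822ee00010b85210d210c066485137373d5256e324e33328f) (.leaf 0xbfc22c60001531a47fa4e3d06f585937135c2226d31ea2cb486))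 (.node (.leaf 0x13dd29d200002223367c235d0a7685b42210947f6ff30b15f486) (.leaf 0)))) (.node (.node (.node (.leaf 0xf3b0fb8000106b201f814b408a385718d5f03f11b25bc180333) (.leaf 0x21a44e1c00003cd7478552aa0eb20497796834d861644b70b262)) (.node (.leaf 0x3fcc1ca400001bc83e8c020118950592c93c41e0654268156428) (.leaf 0))) (.node (.node (.leaf 0x174353520000108e2c312c300ae40477f70d766672f34d04928f) (.leaf 0)) (.node (.leaf 0x11c407ae000129544b5e4b5d08f40490b57316ef4bc69b04928f) (.leaf 0))))) (.node (.node (.node (.node (.leaf 0x44ae0f67000104600e180e171a7205d1845bb4b359465c12d486) (.leaf 0x18c813da000036f651694f8d0c360511f25656a97cf40a113262)) (.node (.leaf 0x1089508e000018d63949370a08d10537b97012c20e86192c7786) (.leaf 0))) (.node (.node (.leaf 0x20512b2c00010dfd26c326c20e8584344267919c2e66f853770a) (.leaf 0)) (.node (.leaf 0x3e5a0aae000125ad38c82b0018648551016ab71b1297dc54624d) (.leaf 0)))) (.node (.node (.node (.leaf 0x21280ef1000009111b090f0b0ea20511700961915da23f621262) (.leaf 0x10374e7300004462539f263208c384f7821e93610377612c770b))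 (.node (.leaf 0x11121d5500001ee60d27426608e18452db27b3d056178b18055a) (.leaf 0))) (.node (.node (.leaf 0x469d0b2e0000133a31492d361ab185b10b65862d0157ae586295) (.leaf 0)) (.node (.leaf 0x2262a4900002d5737162fcc048304d42e2e86074fe5806de2ab) (.leaf 0)))))))))

/-- part of a table -/
def entries119 : Trie := (.node (.node (.node (.node (.node (.node (.node (.node (.leaf 0x205ca51130001003d00e500e404f40557c52bf6ef72833870b28f) (.leaf 0x3a84d4100002ded344c48e904b30517670aa1e25422d7295621)) (.node (.leaf 0xed123110000139131fc31fb08958433781355ce1385067bd32d) (.leaf 0))) (.node (.node (.leaf 0x18934315000109621bd41bd30c3484766326d16c5ef4a83357b2) (.leaf 0x197e275b0000459f53ad28210c4785d3e12583847a758055a7d9)) (.node (.leaf 0x4e323c8100011f4f3ae642341e238455ca04000f31f40d2cb7d9) (.leaf 0)))) (.node (.node (.node (.leaf 0x16184116000004ac0ef40ef30ac18516333c66567266d870a786) (.leaf 0x4e393641000037bc4761296f1e238535360622b073017d786049)) (.node (.leaf 0x264d1d63000019353aff1d50106505b2dc0d10b3505270180518)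 (.leaf 0))) (.node (.node (.leaf 0x3cb511400010e4b0f09240b04b60577c53c52c27a15c368a2cb) (.leaf 0)) (.node (.leaf 0x39e343270000262548f648f516970476655952ea0e44636de2ab) (.leaf 0))))) (.node (.node (.node (.node (.leaf 0x45ba1f180000026a081e081d1a9385531150d2cd4485811562ab) (.leaf 0x272b26420001327813e039d910a30573c52a86552cf78b41d546)) (.node (.leaf 0x2188223600001652369833e90eb10513663971276a821c2cb41d) (.leaf 0))) (.node (.node (.leaf 0x22cc276f00000bd121d221d10ed40593e27a66b75cc61d18b15f) (.leaf 0)) (.node (.leaf 0xc1305dc000122983a5a443f082484708c624662150322049113) (.leaf 0)))) (.node (.node (.node (.leaf 0x2cb24fc9000106fd020e158012728457a65d45dc75136a7d9156) (.leaf 0x2af1482800003dbf3ea11c6d12378436e439a6893b2653180546)) (.node (.leaf 0x150b213300001c2f3f073f060aa105734e16f6514a478d124295) (.leaf 0))) (.node (.node (.leaf 0xce3183510f000110e32ccc2ccb14510477c377106446d58055a734) (.leaf 0)) (.node (.leaf 0x38574948000029d6223e4bb6166484f6ff5577331ff33870b28f) (.leaf 0)))))) (.node (.node (.node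 (.node (.node (.leaf 0x1a60f590000015004910490047504d1816017e43f7545149537) (.leaf 0x3d09402e0000300a32e13ef9184105361c66324829212b1562cb)) (.node (.leaf 0x1bf63feb000014e8322b34540cb784d61657738417017b2cb7d9) (.leaf 0))) (.node (.node (.leaf 0x3e79118f00010a971ecf031b18678531b680503d0910480005fc) (.leaf 0x235240a100014b455108421f0ee584562a06e14f0c032a734025)) (.node (.leaf 0x402a2dfc000120e831981f3718a205547871d3b306765c546734) (.leaf 0)))) (.node (.node (.node (.leaf 0x4b402891000105d3124512441c8504140203a3fa7294fa55a70a) (.leaf 0x1efe4d1200013a8847fe514e0e3785d7622891856ab26a295049)) (.node (.leaf 0x28241f2300011aac26e73d2210c30493131d36f910914570a546) (.leaf 0))) (.node (.node (.leaf 0x4e7438b000010f9721f42a311e2584956b0620ea33917d786180) (.leaf 0)) (.node (.leaf 0x9d21b4b000027f34a6810a606b68452ac5e60c3286137113786) (.leaf 0))))) (.node (.node (.node (.node (.leaf 0x176929970000038905190b900ae605341b3321cf0773867b2486) (.leaf 0x506f0985000034fa50d132741e6605f0e61d609e1c34e168a7bd)) (.node (.leaf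 0x379f002e000017be38d11755165185f00377106433d34555a214) (.leaf 0))) (.node (.node (.leaf 0x38930e9200000d0d0fc424a8167184716820b6cf00917b786486) (.leaf 0)) (.node (.leaf 0x120940880000245c3f1218af0a2405362546b42d20536b7d9113) (.leaf 0)))) (.node (.node (.node (.leaf 0x36ce237c0001082e18bf18be163605d3835352480d509568a2cb) (.leaf 0x2d070380000141671eae501812a204f05205630c7aa6ed049586)) (.node (.leaf 0x344245200011db640fc306d04a604939a1b20c3286218113786) (.leaf 0))) (.node (.node (.leaf 0x1eba4c950000123d2f6500e50e3585575223c6c351b0b073441d) (.leaf 0)) (.node (.leaf 0x1d851e1c00002bde2ff329970cf104b2ee6650ec0b9073295025) (.leaf 0))))))) (.node (.node (.node (.node (.node (.node (.leaf 0x2d84f1f000100c502c002bf04968517957c222845f3de28f32d) (.leaf 0x3e2e50dd00002ef94dbf4e82186205d7c073c6cf6c71be546537)) (.node (.leaf 0xdaf41f40001143b331732a7087505f64624513c1013081806de) (.leaf 0))) (.node (.node (.leaf 0x5eb0936000109fa1d541d5304f50570e054016656b17b2cb486) (.leaf 0x45bc03370001482429e3423f1a9385904d4bd2ea3af79f5182ab))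 (.node (.leaf 0x3b9641ba0000201743ae1f0d16f184d64253107e01a207295537) (.leaf 0)))) (.node (.node (.node (.leaf 0x4717484f0001053e109a10991ae284f6e66f607d46a1be12d537) (.leaf 0x52bf3cdf0000392551ec51eb1eb385f5d17194d473026a295049)) (.node (.leaf 0x1cce5064000119ee3c193c180cd405d7b31ff4ca7a774c2ab7b2) (.leaf 0))) (.node (.node (.leaf 0x26f239ca00000eef1de4215d107684558559f5c647373a7b2518) (.leaf 0)) (.node (.leaf 0x2b7e199b0001270849b849b7124785d27c5666895b32e4025546) (.leaf 0))))) (.node (.node (.node (.node (.leaf 0x170a2137000102f909da09d90ae105534e4246a309077a41d55a) (.leaf 0x4dae3636000133b83ed6373d1cd305d5354650896f7174428049)) (.node (.leaf 0x1ad23fe00001170637bd37bc0c9584561604627d5a83ef53770a) (.leaf 0))) (.node (.node (.leaf 0x25f22b6b00000c72234e0f5110578454464f16bd5d73d5025546) (.leaf 0)) (.node (.leaf 0x48390ad3000023731aa225021c238531052a14fb6732e72cb7d9) (.leaf 0)))) (.node (.node (.node (.leaf 0x2edc1abe00000796171e005312d585929a7a93510411452c7000) (.leaf 0x9174f4700003f825316374806a284f7992814315641a2335786))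 (.node (.leaf 0x11ad350100001cf321d6115108f305b51e1191075ca0b22625be) (.leaf 0))) (.node (.node (.leaf 0xa4851ad0000118d2e260fc806c40517ce49955050958f2ab113) (.leaf 0)) (.node (.leaf 0x1a1824bd00012ad01d2a28f20c818513a27b12a22cc05d6de70a) (.leaf 0)))))) (.node (.node (.node (.node (.node (.leaf 0x4f8e0378000001dd065806571e5105d0514927243cd340537124) (.leaf 0x18992ef7000131344f88318e0c3485348f1dd3876494da33315f)) (.node (.leaf 0x2bb8398900011597357e357d125385157e4df2eb309714025546) (.leaf 0))) (.node (.node (.leaf 0x1a3e43da00000b37204e0a9a0c8285d6763526787566c55be70a) (.leaf 0x190e1dd000014f2b306250730c4405d2e60034ca6f60c95fc7b2)) (.node (.leaf 0x25ae0308000021c4238a454a105305d04562539e52e60a02512d) (.leaf 0)))) (.node (.node (.node (.leaf 0x2fb7029f000006680fd005f512f284f0387e610c4f13227d9518) (.leaf 0x2acc472600013c1e4d4c1fff12360596cb31f35147b55c7b2000)) (.node (.leaf 0x5223058300011b673e0f05921ea304708024a083109545295049) (.leaf 0))) (.node (.node (.leaf 0x2da6385f0001103d2b8d2b8c12b304d56579739f51f132180546)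 (.leaf 0)) (.node (.leaf 0x391213c8000028e54b0f249416828451f13520054082fa5be32d) (.leaf 0))))) (.node (.node (.node (.node (.leaf 0x1ea94d13000004180d400d3f0e350537622930726a81cd73441d) (.leaf 0x2e74235c000036372c36160812c784937e6592eb39411170a12d)) (.node (.leaf 0x3c8731370001187839f039ef183204f4c1471515632804546214) (.leaf 0))) (.node (.node (.leaf 0x2699050900010daf2613261210718530703d137f31e435124156) (.leaf 0)) (.node (.leaf 0x4832ad00001253a462f484404d204743a0700192b334a2ab149) (.leaf 0)))) (.node (.node (.node (.leaf 0x394b09aa000108c51a461a4516860570e84320c12ca69528f32d) (.leaf 0x22b53d7c00014352505e4b9a0ed284b5dd62934c28245018b41d)) (.node (.leaf 0x39ed40d800011e843fed1e31169705b62e56b78506a24055a2ab) (.leaf 0))) (.node (.node (.leaf 0x43190b5c000012eb2a1930a81a418531106eb0066ca047518786) (.leaf 0)) (.node (.leaf 0x1f8d0ead00012cde10ed4d720e5405b1696884ca25b5b25fc15f) (.leaf 0)))))))) (.node (.node (.node (.node (.node (.node (.node (.leaf 0x3d4b234a0000008101d601d5184505737d4d769223347a518786)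 (.leaf 0x4240169d00012e711716491b1a240412305eb01e4e641f546113)) (.node (.leaf 0x4c401945000013ea30f332851ca40412751f114b6245433337b2) (.leaf 0))) (.node (.node (.leaf 0x521e4f80000109af1c930d371ea185d7a006e3013e76ad73441d) (.leaf 0x16d053f2000046db53c1072c0ad584180918124870972c2c72cb)) (.node (.leaf 0x3260006b00011fb643411e4914670410093917ac07043d2cb5be) (.leaf 0)))) (.node (.node (.node (.leaf 0x3b4412fd000104f503520fca16e40491d977658357504a33528f) (.leaf 0x511f1663000038792f3c4c751e8185f22b16b21172764f48670a)) (.node (.leaf 0x157f30080000198f0f163b890aa685f4aa2436cc7c16237b2214) (.leaf 0))) (.node (.node (.leaf 0x16de534e00000e9c282128200ad585d7f66460a31d751370a2cb) (.leaf 0)) (.node (.leaf 0x30ff41cc00012696495512b9143785f64363237669109f295621) (.leaf 0))))) (.node (.node (.node (.node (.leaf 0x440a0a69000102b000c108fa1a610550fb40313c7747e200055a) (.leaf 0x18bd2d8e00003318502f502e0c3585b47074e59b2b963573441d)) (.node (.leaf 0x4a0d0a61000016ad372837271c6105b0fb1022a076b5b42147bd) (.leaf 0))) (.node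 (.node (.leaf 0x3191db000000c221b04229104a28532e31310a35e84da3352cb) (.leaf 0)) (.node (.leaf 0x192c49a100012301467546740c4505970c09001132c69c537262) (.leaf 0)))) (.node (.node (.node (.leaf 0x67708da0001074c0d311652064784f0d64fc0b4208664486333) (.leaf 0x4a7f3b2500003e9c37b747841c6685f5a14271cb7945c3113025)) (.node (.leaf 0x531713c500011c9717581c651ec284f1f123d30f50e61818b41d) (.leaf 0))) (.node (.node (.leaf 0x42aa1b05000111382d7e23091a330552a53157a241e147000335) (.leaf 0)) (.node (.leaf 0x225a276100002a4e1d8c4c080ec48553e206569914374c18b7b2) (.leaf 0)))))) (.node (.node (.node (.node (.node (.leaf 0x26eb0993000001960574057310760570e734b1ef7c973a15f518) (.leaf 0x14bf3b0e000130a8374c306f0a9385f59f7461bc2a56b47bd18b)) (.node (.leaf 0x147c3e6b0001153b34ec29bd0a878595f052f3174ec24b7bd18b) (.leaf 0))) (.node (.node (.leaf 0x23e02b2400000ae61f8c1f8b0ef60414421b21cb2e6218113025) (.leaf 0x4195459300004d1530b153a018f284b6a225b4b323041f12d537)) (.node (.leaf 0x225b4c7f0000216027ce43440ec485774f7921766ea61818b7b2)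 (.leaf 0)))) (.node (.node (.node (.leaf 0x31d10f300001061c01c91310145484317c0af0f056f1b15be68a) (.leaf 0x2f2b356a00013b4d2e082d3912e205752740c61258d4b1049156)) (.node (.leaf 0x5263044c00001b0b3d8a3d9c1ea60470636f526e57f09568a124) (.leaf 0))) (.node (.node (.leaf 0x4b970d8b00010fe92ad805071c9184f1506821b422e71c5372c7) (.leaf 0)) (.node (.leaf 0x1f781d3b0001286f1e5e1c430e478512d55f51853314a655a049) (.leaf 0))))) (.node (.node (.node (.node (.leaf 0x22f124ae000103d001270c6d0ed78433a15851854f30de32d049) (.leaf 0x131a1388000135a315b243f80a648551e945971b2044f47d924d)) (.node (.leaf 0x17c426cc0000181c2b4b39640af40493d260835601836b7d928f) (.leaf 0))) (.node (.node (.leaf 0x205631dd00010d5d042125630e8584d4ce4a93fa3e166e48670a) (.leaf 0)) (.node (.leaf 0x17025d8270c000024ca44d2227510558513db54130016f72e7bd000) (.leaf 0)))) (.node (.node (.node (.leaf 0x4c20191000008791984198304d40450240705af1dd34a2ab68a) (.leaf 0x11c3faa00004262310f14a104648596106c976a34929c33524d)) (.node (.leaf 0x3f014ec500011e174175027e188104378e35a7d17fd3da156428)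 (.leaf 0))) (.node (.node (.leaf 0x3f8247080000129218dc300f18910456c93e12287d7581518428) (.leaf 0)) (.node (.leaf 0x3aca1bd300002c623d8c4d2d16d40552ba3be5af54b5202ab68a) (.leaf 0))))))) (.node (.node (.node (.node (.node (.node (.leaf 0x3df511a500010109004703a8185784b1bb3c41a723226815670b) (.leaf 0x2f6b3e7f00012f86124e30e312e60575f175f10c8065a715f156)) (.node (.leaf 0x2fa614700000149433ba33b912f204d1fe0563416256ed049518) (.leaf 0))) (.node (.node (.leaf 0x274b109700000a471e131e1210a60571a144f6ee62c73a15f586) (.leaf 0x31551a1e000149a64b040d0b144484b28a63a6e253e4045fc113)) (.node (.leaf 0x14a8207400012074116f1f7b0a930513371aa2cd65f71402518b) (.leaf 0)))) (.node (.node (.node (.leaf 0x1a3a1d8100000589117211710c828552de0331b97150435be2c7) (.leaf 0x9fb09e9000039d55208337606b78570ee2a3361736195734621)) (.node (.leaf 0x37a81d1200011a4e33473c9d16530512d312e0b454269c486333) (.leaf 0))) (.node (.node (.leaf 0x1b071e1500010f3f298229810ca104f2ee2ba34c2d640d786180) (.leaf 0)) (.node (.leaf 0x124536d60000277d188e0ea70a2604b5413324eb0fa3867b2214)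 (.leaf 0))))) (.node (.node (.node (.node (.leaf 0x39070c98000003410ab60ab5168204f13145276e01a3465fc428) (.leaf 0x13560b990001345b14ea48dd0a6684d11652e71160d30a7b2537)) (.node (.leaf 0x324423de0000176011151fe4146404938e6836ef2be56e70b28f) (.leaf 0))) (.node (.node (.leaf 0x2f6f49bc00010cbf2401240012e605f70e71f0f51ce49815f518) (.leaf 0)) (.node (.leaf 0x1b3d3bfa000023df305747440ca285b5ba53a27f28b6b570b124) (.leaf 0)))) (.node (.node (.node (.leaf 0x51162275000107e117c317ea1e8184d36c43e2115bd3ef48670a) (.leaf 0x16eb0c830001407e460f23950ad70571301897445283d970a621)) (.node (.leaf 0x51f51d7400011d52408028601e9684b2dd3c91b44c63de28f70a) (.leaf 0))) (.node (.node (.leaf 0x22464306000011e42eca2ec90ec404d6612390816fc74c18b7b2) (.leaf 0)) (.node (.leaf 0x290e45ab00002b5a4c0f288a10e105d6a45aa6d64295ff41d156) (.leaf 0)))))) (.node (.node (.node (.node (.node (.leaf 0x18313bb300000223073c073b0c258435b51c030157863573441d) (.leaf 0xd262653000031d8480b4f2e086504d3c62a83ea20178b41d55a)) (.node (.leaf 0x457a1342000015f11a34360e1a878551df2b83174bc4a115618b)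 (.leaf 0))) (.node (.node (.leaf 0x2c6e098300000b86210e0300126605d0e612f5dc79449815f518) (.leaf 0x1071018e0000533052d735b208c784302376060226d30270a70b)) (.node (.leaf 0x25b51ff80001222317591fc6105384b3255021e359d1797bd546) (.leaf 0)))) (.node (.node (.node (.leaf 0x4a392938000006b314b614b51c6285340f232257422543335025) (.leaf 0x7b7377300013cd752ab2a52067584f54f2af222069207295537)) (.node (.leaf 0x1c5a45e500011bc8346c3e8d0cc48556a80fb1205eb74c18b7b2) (.leaf 0))) (.node (.node (.leaf 0x43ee24e80001108e2c332c321a5705d3a63685083a07db15670b) (.leaf 0)) (.node (.leaf 0x26731052000029554ac23cd3106684719b0f637f1816237b2518) (.leaf 0))))) (.node (.node (.node (.node (.leaf 0x4b390e4a000004610e1a0e191c828531615752f84e54765fc70a) (.leaf 0x321224ca000136f61e9c516a14618453a35c21cf57c704786537)) (.node (.leaf 0x195f2750000118d618283a7a0c4685f3e100d7887454a324d41d) (.leaf 0))) (.node (.node (.leaf 0x10c901e600000dfe26c526c408d505302c4f00062af6d82c7786) (.leaf 0)) (.node (.leaf 0x30683a8d000025af19bc3b1a14270515956b15084600c214970b)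 (.leaf 0)))) (.node (.node (.node (.leaf 0x7ab0103000109111b0b1b0a06750570171df73919026a149537) (.leaf 0x50841c14000144674fd6294b1e710492be1c01cb51c6357347bd)) (.node (.leaf 0x1f65253f00011ee60aae39d10e4704b3ac70609d35e2406de049) (.leaf 0))) (.node (.node (.leaf 0x4df304470001133a314b314a1cd584706351a6ae3d26f1428262) (.leaf 0)) (.node (.leaf 0x4dd013eb00002d584dac1eac1cd48411f35db1204a557418b15f) (.leaf 0)))))))))

/-- part of a table -/
def entries120 : Trie := (.node (.node (.node (.node (.node (.node (.node (.node (.leaf 0x15d507670000003e00e700e60ab484b0ad5d75736a236b049113) (.leaf 0x22e9394a00012dee11733a3a0ed70535794b64fb47143b32d7d9)) (.node (.leaf 0xdd30ba70000139331fe31fd087684711759f73903073a7b2537) (.leaf 0))) (.node (.node (.leaf 0x16c726c1000009631bd61bd50ad504f3d21c37fa24a4d670a2cb) (.leaf 0x28452f46000045a14b05433410c504b4962ec6ee40761970a586)) (.node (.leaf 0x33a02f3400001f5012ea0b2914930414942102cd00d6f853718b) (.leaf 0)))) (.node (.node (.node (.leaf 0x19ce335d000104ac0ef60ef50c5605d4f56e53013e27d628f41d)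 (.leaf 0x1ee29810dc0000137bc33f4480710f10431550415035331d241d156)) (.node (.leaf 0x22f4d4a000119353b002420048305f7676436077ea4636de2ab) (.leaf 0))) (.node (.node (.leaf 0x17f0076400000e4c277727760af68410ad2cf07e01a6e915f537) (.leaf 0)) (.node (.leaf 0x15d60e66000126252ca20e3d0ab484d1634595a97cb7077d968a) (.leaf 0))))) (.node (.node (.node (.node (.leaf 0x34d003460001026a0820081f14d484104e2be66216151d18b68a) (.leaf 0x4810531e0001327a44ff34201c228417f377d0877f609770b262)) (.node (.leaf 0x13bd29da000116520c6536990a7585b42255b0d019b27018055a) (.leaf 0))) (.node (.node (.leaf 0x50f344c900010bd121d421d31e7684768c4271cb3c66131137bd) (.leaf 0)) (.node (.leaf 0x23e6416000012299460d0e320ef604d63d0b601279d5c368a025) (.leaf 0)))) (.node (.node (.node (.leaf 0x39b80ffb000006fe1582158116938511934fd38a20c10e53718b) (.leaf 0x53492aa700003dc0304d306e1ec40534365001dc4592262ab7b2)) (.node (.leaf 0x425216c600011c3009883f081a248452382fc6621af7dc12d113) (.leaf 0))) (.node (.node (.leaf 0x1143473000010e42cce2ccd04648495101317057eb4da33524d)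 (.leaf 0)) (.node (.leaf 0x4e7b238b000029d74bb84bb71e258573855f11274c97042cb180) (.leaf 0)))))) (.node (.node (.node (.node (.node (.leaf 0x243e33c20001015004930492102385d4fe09865551e67712412d) (.leaf 0xedf09f50000300b43812c5c089585f0ef42a0cd45f60a02532d)) (.node (.leaf 0x2c5f049b000114e834563455126585f0693e934101778b180518) (.leaf 0))) (.node (.node (.leaf 0x126f2a1100000a981ed01d810a2705f42a0ce5f410b41741d335) (.leaf 0x3ea093900014b46433d488304b70550e05e837653e0b073470b)) (.node (.leaf 0x1e174188000120e9447738d30e2484f63f28114a6762f933515f) (.leaf 0)))) (.node (.node (.node (.leaf 0x4ae0309e000005d4124712461c760414b65a01e60a140a1137bd) (.leaf 0x493f33cb00003a8b5236478e1c4385f4fe46a3a444f58055a7d9)) (.node (.leaf 0x5b84cc400001aad32b43d2304f385175a2bb3ee1ad21c7865be) (.leaf 0))) (.node (.node (.leaf 0x3e3a05b800010f9804e52a3218628550863313986d9804546537) (.leaf 0)) (.node (.leaf 0x29641c80000127f4241130c610e60492c60be7580c76e97b2518) (.leaf 0))))) (.node (.node (.node (.node (.leaf 0x37420830000038a0b920b9104a7849339114361780186734621)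 (.leaf 0x31331536000034fb50d226b0144384720d3883f11b2664537333)) (.node (.leaf 0x279702b9000117be38d21d2e10b284f03c59630080136a049000) (.leaf 0))) (.node (.node (.leaf 0x27bb36e700010d0d040724a910b385754246922d42e78b41d546) (.leaf 0)) (.node (.leaf 0x351141bb0000245d108847a014e18436425551cf3a6265295486) (.leaf 0)))) (.node (.node (.node (.leaf 0xd5d128e0000082f18c118c0086685b1d178c68d0503c115f537) (.leaf 0x21d25710c6300014168346f3fc7104784312e0dd39e1c250602512d)) (.node (.leaf 0x523c218800001db740fe40fd1ea385935566518542e0732957d9) (.leaf 0))) (.node (.node (.leaf 0xe4290116e20000123e2f672f6610e104323a2ac0b30f3653180156) (.leaf 0)) (.node (.leaf 0x45660b4100002bdf44cd2b8d1a8704d10f2b831711067e1562ab) (.leaf 0))))))) (.node (.node (.node (.node (.node (.node (.leaf 0x487e4dbc000000c602c100061c2585d7715c20ea13017b78641d) (.leaf 0x4d9b056a00012efb45f9354d1cd28570794192da11908e2ab41d)) (.node (.leaf 0x347221d80000143c3319331814c784535c64e42516a39032d333) (.leaf 0))) (.node (.node (.leaf 0x1390332e000009fc1d561d550a748414f07a876a1d565e04928f)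 (.leaf 0x12b03a2700014825291d4cb80a3584158d33908b70e4a2262149)) (.node (.leaf 0x27fe021f000120173bfc43af10b785d02f7aa5567e62df26212d) (.leaf 0)))) (.node (.node (.node (.leaf 0x1aa91fbe0000053f109c109b0c920533205686982b805e5fc2c7) (.leaf 0x3c6819960000392646b945a7182505127c26003e726164000149)) (.node (.leaf 0xbd3535c000019ef3c1b3c1a06f48477f76a47057f364d62124d) (.leaf 0))) (.node (.node (.leaf 0x143749d500010eef28d828d70a8384f7101576b37f535f0252ab) (.leaf 0)) (.node (.leaf 0x1ea4d500000270949ba49b904770557680885e22631957345be) (.leaf 0))))) (.node (.node (.node (.node (.leaf 0xc5210fc000102fa09dc09db08268451aa59f3b627e73a7b2214) (.leaf 0x4b2417c1000033bc506236ad1c8204925202d2110d605e5be2c7)) (.node (.leaf 0x3d0837450001170735f518ec184105154c1c705f1d71781562cb) (.leaf 0))) (.node (.node (.leaf 0x2035255e00010c7214d7234f0e8284b3ae63a43f33605e5fc2c7) (.leaf 0)) (.node (.leaf 0x4ec5279000023743a731d5804d50597e35120646051ee32d734) (.leaf 0)))) (.node (.node (.node (.leaf 0x2de09fb000107961720171f049685d0ef5360cd17369524d32d)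 (.leaf 0x33580ac500003f83477917a714868511031f67d103671328f428)) (.node (.leaf 0x7f3c1d00011cf311eb4013044785f5bd5e71465273ef537335) (.leaf 0))) (.node (.node (.leaf 0x117113b60000118e2e282e2708e68431f044c68d5d238615f486) (.leaf 0)) (.node (.leaf 0x9031f4300002ad12f043b5806a20473161f552a5e42343332cb) (.leaf 0)))))) (.node (.node (.node (.node (.node (.leaf 0x47932e74000101dd065a06591af28474843667e42297dc12d486) (.leaf 0x414a109e000031354f5b407818e40551a171d66663a80454628f)) (.node (.leaf 0x4bb1065900001598357f31901c928430964bc50c4c40e25be2c7) (.leaf 0))) (.node (.node (.leaf 0x70d355a00010b3717190fe1066405b52656a6ef27304a33528f) (.leaf 0x4cdf021900004f3351460b741cb485f02f60414a2497fe33515f)) (.node (.leaf 0x4a9052cb000021c50fb6454b1c718417eb6fb0ec3737507347bd) (.leaf 0)))) (.node (.node (.node (.leaf 0x3ffb3f44000106680e1f13e018978576063ab1bc63a47a5182ab) (.leaf 0x52050c9e00013c1f2cb6117f1ea104b13174e59b5ad63573441d)) (.node (.leaf 0xc8d414500011b683e100dd3083405b6392880f723b74004968a) (.leaf 0)))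 (.node (.node (.leaf 0x1c6b4a330000103e17a329a10cc705771a10100f5eb05932d7d9) (.leaf 0)) (.node (.leaf 0x23313d7f000028e6435202880ee28435dd7361e61f204a3337bd) (.leaf 0))))) (.node (.node (.node (.node (.leaf 0x449452c900010418012c0d411a718497eb5516a319b16458655a) (.leaf 0x1ae21869000136373b2951380c960452606141b46eb1e828f70a)) (.node (.leaf 0x399438a40000187939f239f1169284956a2ed0cd4c85b25be428) (.leaf 0))) (.node (.node (.leaf 0x32b64fc800000db026141c16147284d7a65574953f764d70b55a) (.leaf 0)) (.node (.leaf 0x38be148a0000253b48451006167285d1ff4f613c1013386216de) (.leaf 0)))) (.node (.node (.node (.leaf 0xb09407d000008c61a481a4706e20536247847a419e56e6216de) (.leaf 0x3f3e16190000435453871eb9188385d2234f56b374b5815182ab)) (.node (.leaf 0xa071ba000011e8541ea3f6a06c204f2b70863ba06e3b818b149) (.leaf 0))) (.node (.node (.leaf 0x4d87312f000112eb30a91c091cd204f4c073707222f08e2ab41d) (.leaf 0)) (.node (.leaf 0x2d4c35fa00002cdf1a7a1abf12a60595313ca30c7bb3447b2000) (.leaf 0)))))))) (.node (.node (.node (.node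 (.node (.node (.node (.leaf 0x1c2d224a0001008101d801d70cc205b36742c18228b4502ab41d) (.leaf 0x4aac360900012e724e3d03de1c7205953248409e64829c335025)) (.node (.leaf 0x1d4653c1000113ea0f1a32860ce504d8051fc69a5a4600734025) (.leaf 0))) (.node (.node (.leaf 0x464b36cc000009b009931c941aa40575406495015301e412d68a) (.leaf 0x4fe2191b000046dc524739b91e560452726140f91f01e828f180)) (.node (.leaf 0xf635d900001fb73cf04342045784d52f44e16e4f664f537333) (.leaf 0)))) (.node (.node (.node (.leaf 0x4f2682192b000004f604270fcb107104527341b5033b7314124518) (.leaf 0x227720200000387a1e2332ec0ec784f32c10100f6fc17432d049)) (.node (.leaf 0x25c74e270001198f3b8a3531105504f77b52d60b0e3718025000) (.leaf 0))) (.node (.node (.leaf 0x49f002a400010e9c282328221c5684103a25318341b7f828f180) (.leaf 0)) (.node (.leaf 0x512b356300002697495602551e820575272e22f84dc6b65fc2c7) (.leaf 0))))) (.node (.node (.node (.node (.leaf 0x2ea23723000002b108fc08fb12d304554926c75906075b70a12d) (.leaf 0x441033ec00013318464033911a618415006615bf2017b558655a))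 (.node (.leaf 0x41212dd3000116ad372924ab18e30434753425213e37ae0005be) (.leaf 0))) (.node (.node (.leaf 0x1e2e1d3100010c22229217f00e2505d2d529b1835d8416214180) (.leaf 0)) (.node (.leaf 0x2ef27ba000023023d724484049705f3e96717982e271c48618b) (.leaf 0)))) (.node (.node (.node (.leaf 0x527c20c40000074d165416531ea685933d25401165218a68a262) (.leaf 0x538d19bf00003e9d3eee52bc1ed205b2817eb0f927157418b180)) (.node (.leaf 0x1bab224f00001c9835c73f490cb20573677b027f28b22170b124) (.leaf 0))) (.node (.node (.leaf 0x2739137f000011392d802d7f10a38531e77bb65575f41441d12d) (.leaf 0)) (.node (.leaf 0x3082510500012a4f0fa7220f14320457c31f552a7a12343332cb) (.leaf 0)))))) (.node (.node (.node (.node (.node (.leaf 0x374503a50000019705760575164404b0543a95f71db1775be68a) (.leaf 0x412f424a000030aa19163e5818e305f64c57025f28d4e25865be)) (.node (.leaf 0x51040eb80000153c2fb807f81e8104916a4463fa4df5384862c7) (.leaf 0))) (.node (.node (.leaf 0x6ec3ee300000ae71f8e1f8d06570595fd1c166c49c6be486335) (.leaf 0x40db18b600004d174ca552d218b48572693315d368365c546113))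 (.node (.leaf 0x4ae51cf200012160424e36041c7604b2d031329f64818a113025) (.leaf 0)))) (.node (.node (.node (.leaf 0x1b363e4a0000061d131213110ca284d5ee4780da2d66cd621262) (.leaf 0x28b9329a00003b4e5262526110d38534e34f00c475f1112c712d)) (.node (.leaf 0xbe0075600011b0b09113d9d06f50410ac39777277117d2cb486) (.leaf 0))) (.node (.node (.leaf 0x100e11f900000fea2ada2ad908c105d1c23730c32c14d62c72cb) (.leaf 0)) (.node (.leaf 0x8882575000128710ecc34f906920513b21da75c4a94765fc32d) (.leaf 0))))) (.node (.node (.node (.node (.leaf 0x3914ec01c8000003d10c6f0c6e0a9705902a4c778502d5060252ab) (.leaf 0x35e01ea000135a415ab176204a685d02c5e60c37533921132cb)) (.node (.leaf 0x43f92d3e0001181c07f439651a5785346a71574428104751870b) (.leaf 0))) (.node (.node (.leaf 0xd834ffb00000d5e25370de408740477a96333746846ed7d928f) (.leaf 0)) (.node (.leaf 0x81b2cf1000124ca244e47f8068285746603315a0b70435be32d) (.leaf 0)))) (.node (.node (.node (.leaf 0x3058469a00010879129d198514268516c061a05f5e849768a2cb) (.leaf 0x2eee0acd00004268532c530d12d705d1036462eb24951370a546))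 (.node (.leaf 0x360411b300001e19417629c516220491bd4304122aa24e3352cb) (.leaf 0))) (.node (.node (.leaf 0x4d5c2f8c0001129208d030101cc485949d6842a43b551d2ab7b2) (.leaf 0)) (.node (.leaf 0x58f2b7200002c6442260f8104f205f4472563d04ee6cd70b6de) (.leaf 0))))))) (.node (.node (.node (.node (.node (.node (.leaf 0x1c3248cd0000010a03aa03a90cc28456f377012762a29818b180) (.leaf 0x22cf42db00002f873b4f4ec20ed405f65d6a05165596182ab7b2)) (.node (.leaf 0x36e23ea1000014951ba833bb16370455f518f602642207149621) (.leaf 0))) (.node (.node (.leaf 0xe4f4f1200010a4704af1e14088505f79522e7d13f835f7bd428) (.leaf 0x3abf18a9000149aa26fb508316d285f26658408b26934a2ab149)) (.node (.leaf 0x303150f300002075440f3d7514238437c21143610375b473470b) (.leaf 0)))) (.node (.node (.node (.leaf 0x7090e0200010589019d1173066405315b1af3744194da33524d) (.leaf 0xd2415eb000039d6315e50b3086504921e3f04955982f31806de)) (.node (.leaf 0x3d8612e300001a4f3c9f3c9e185104d1d81404cf71947a518786) (.leaf 0))) (.node (.node (.leaf 0x41ca2a5400000f40118223de18f405542f4711fd1bd80454628f)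 (.leaf 0)) (.node (.leaf 0x2423052e0001277e31834a1110230470746410c460c66a262546) (.leaf 0))))) (.node (.node (.node (.node (.leaf 0x52c81ac5000103410ab80ab71eb405129b3d46b77e624e3337b2) (.leaf 0xa0f25740000345c2a2d50a006c205f3b21d566855803918b149)) (.node (.leaf 0x3261d990001176007ad08c504a304d2e02af05b22315429570b) (.leaf 0))) (.node (.node (.leaf 0x3771512700000cc02402023816468437c621245c2ae3de28f295) (.leaf 0)) (.node (.leaf 0x72e06c0000123df41d74745066505d0a104c3a836004b295486) (.leaf 0)))) (.node (.node (.node (.leaf 0x108e3cf2000007e217ec17eb08d105d5d40ca52a25c2d970a786) (.leaf 0x1aa73c9500014081259253370c9204f5cc3bb2b46f212a5be2c7)) (.node (.leaf 0x1b22429500001d5440813fa80ca20456571a9319658231621262) (.leaf 0))) (.node (.node (.leaf 0x50e92ce8000111e42ecc2ecb1e7605346540b3cc610218113025) (.leaf 0)) (.node (.leaf 0x3dfc472a00002b5b4c9d4a7618578596cb4b21a76c904715670b) (.leaf 0)))))) (.node (.node (.node (.node (.node (.leaf 0x440c045700010223073d05f91a6105906532c65a1987b558655a) (.leaf 0x4928483c000131d813804fbf1c430516e57d700f6f724055a049))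 (.node (.leaf 0x4c839ef000115f1149e2bc704d40515887a601e21d61d18b113) (.leaf 0))) (.node (.node (.leaf 0x14ab212f00010b862110210f0a9305734b7cd38a2123d57bd2ab) (.leaf 0x52b01f610000533b4e1753561eb384131a1d92b07672d7149049)) (.node (.leaf 0x1ee7320a0000222445a530b40e3704f4d242f14c3a204b1497d9) (.leaf 0)))) (.node (.node (.node (.leaf 0x3b221e70000106b30c3314b716e30452fd1032843256002145fc) (.leaf 0x4d6a50e900003cdb469352ac1cc50557c15942e111b6f132d262)) (.node (.leaf 0x20a8223e00011bc92d303e8e0e9205136672027d2d405e5fc2c7) (.leaf 0))) (.node (.node (.leaf 0x416904e30001108f19382c3418e505306e2607e83f616400055a) (.leaf 0)) (.node (.leaf 0x142629680001295544e24b5f0a8304d41542968b4fe7180252ab) (.leaf 0))))) (.node (.node (.node (.node (.leaf 0x3b424376000104610e1b020816e404566f25e6664c12f933328f) (.leaf 0x3c41476d000036f8516b168618240436d36ea42d52b1a412d113)) (.node (.leaf 0xbe85005000118d708563a7b06f50517aa2a17397872832cb486) (.leaf 0))) (.node (.node (.leaf 0x497703a700010dfe26c726c61c4684f0544820726417d624d41d)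 (.leaf 0)) (.node (.leaf 0x37aa2a70000125b0418a489d165305543205548761a227537335) (.leaf 0)))) (.node (.node (.node (.leaf 0x26762332000109120f6d1b0c106684d37c0327586462f17b2156) (.leaf 0x31703b430000446a25a13b8414468415a53253d60163de28f295)) (.node (.leaf 0x4c3190500011ee70aa20cd304d40472711ff13433a3b82ab68a) (.leaf 0))) (.node (.node (.leaf 0x10b04e790000133b314d314c08d384178254f5b150772c2c7621) (.leaf 0)) (.node (.leaf 0x44a01d200002d5a4dad137104c405502b0a401e4d13b818b68a) (.leaf 0)))))))))

/-- part of a table -/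
def entries121 : Trie := (.node (.node (.node (.node (.node (.node (.node (.node (.leaf 0x3dd9237a0001003e000f00e818558533833364122a3047156786) (.leaf 0x537b20c500012df0180444a41ec585733d28501167217432d262)) (.node (.leaf 0x1e791d3c000013942ea930370e278532d56651856ab203295049) (.leaf 0))) (.node (.node (.leaf 0x20ec4c74000009641bd81bd70e9605974f3c02410dc37924d70a) (.leaf 0x1069266f000045a45288456008c70533c86483ed4d06d870a70b)) (.node (.leaf 0x405c165600011f503d71405718a485922a25b66209641f12d113) (.leaf 0)))) (.node (.node (.node (.leaf 0x3f571f8a000004ad0ef80ef7188584f31d2fe4e81b07e9518428) (.leaf 0x19b83352000137bd170634b30c558514f51c14d83e26be486124)) (.node (.leaf 0x1a670f8600001936236e0e7e0c8604f1884326783106d028f70a) (.leaf 0))) (.node (.node (.leaf 0x25f8237b00010e4c0e7b2778105785138339b5567e660e7bd12d) (.leaf 0)) (.node (.leaf 0x2ad41ecc00002626327948f712368493065c16fa0ac55c15f000) (.leaf 0))))) (.node (.node (.node (.node (.leaf 0x484d234c0000026b082208211c2405b37d6834ca2b744b70b15f) (.leaf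 0x3a4604380001327b13e143d316c404d06223942d12674c18b113)) (.node (.leaf 0x13e1332900001653369b369a0a770434f042b0f41d555f1245fc) (.leaf 0))) (.node (.node (.leaf 0x12c453db00000bd221d50b920a360498066bc3b627e3867b2214) (.leaf 0)) (.node (.leaf 0x1c032d7e0001229a40292dbc0cc104746f7de01165848c32d262) (.leaf 0)))) (.node (.node (.node (.leaf 0x40d419a5000106fe1584158318b484927e3435736d21a412d113) (.leaf 0x23ee393a00013dc0474516810ef605d5785353d36ac09568a025)) (.node (.leaf 0x450131fd00001c313f0a3f091a810434d16c800559514d518428) (.leaf 0))) (.node (.node (.leaf 0x362f3a04000110e42b052ccf162305f58a29b76633b416214621) (.leaf 0)) (.node (.leaf 0x23e442a5000029d831613c3c0ef60496581212a03c42ad1137bd) (.leaf 0)))))) (.node (.node (.node (.node (.node (.leaf 0x1f6b4cb100000151049504940e470577560a838419f46355a049) (.leaf 0x4f5011ce0001300b1bcc4e891e448411bf7c369919d03b5fc15f)) (.node (.leaf 0x333c09ca000014e93458345714838590eb6814ef7c810e48618b) (.leaf 0))) (.node (.node (.leaf 0x103347f00000a991ed21ed104640475107a01fd40612333528f)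 (.leaf 0x1e4b458f00004b4939e648df0e260576a17e770323e13768a124)) (.node (.leaf 0x41c32d65000020ea21a1178c18f404746e1361fd08f1e454628f) (.leaf 0)))) (.node (.node (.node (.leaf 0x372c111e000005d51249124816430591ad681425160538486333) (.leaf 0x41711c0d00003a8d1d2442f418e58432bd5c47a42990480006de)) (.node (.leaf 0x127d455d00011aad3d240fe80a2785b69e78a7a223b27041d335) (.leaf 0))) (.node (.node (.leaf 0x52d8222c00010f991a0d2a331eb48513644d169940c50a33515f) (.leaf 0)) (.node (.leaf 0x213d0af3000127f543654a690ea285b1081427245c444b621262) (.leaf 0))))) (.node (.node (.node (.node (.leaf 0x4269031d0001038a0b940b931a2505304662a66855813e586149) (.leaf 0x3a574334000134fc41f9109a16c484f66723d6621613b818b68a)) (.node (.leaf 0x14e501a000117bf207b2a8f046605d7ab5353ea3ff09568a55a) (.leaf 0))) (.node (.node (.leaf 0xe5e39e500000d0e24aa136e088585d5882a949057b7187bd428) (.leaf 0)) (.node (.leaf 0x3bca40d90001245e47a247a116f405562e5906ef4bc23433528f) (.leaf 0)))) (.node (.node (.node (.leaf 0x36b14a8d0000083018c211f916338437216502a66f578321470b)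 (.leaf 0x18ab2d800001416a2fa052be0c350574700d5072658195734180)) (.node (.leaf 0x29c41e5200011db740ff2f3b10f50492fb1633274815c7262518) (.leaf 0))) (.node (.node (.leaf 0x4a84d490000123f19352f6804d305176758576404d0de32d335) (.leaf 0)) (.node (.leaf 0x1b58354600002be046fe18710ca48515241fe2a402909770b15f) (.leaf 0))))))) (.node (.node (.node (.node (.node (.node (.leaf 0x170b3a96000100c6013402c20ae10575963eb79b4af78b41d55a) (.leaf 0x36b2141300012efc11ff3ead16338451f61d47440fc4c5734621)) (.node (.leaf 0x1567074c0001143c32fd331a0aa604f0ab7305762905a715f734) (.leaf 0))) (.node (.node (.leaf 0x3dbc2e5a000109fc1d581d5718538594825b577c6fd26815670b) (.leaf 0x4cac303d00004826428a43941cb30594ad4e04d47f42022957d9)) (.node (.leaf 0x3e6552610000201843b035fe186704b7e10bc7ef7a613e0005fc) (.leaf 0)))) (.node (.node (.node (.leaf 0x11b128b0001053f109e109d04648571d169171b7a64a833324d) (.leaf 0x1c0e49e100013926194214dc0cc105d7120e62e13e202032d124)) (.node (.leaf 0x30f924e6000119ef3c1d3c1c14378533a6362766216265149621)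 (.leaf 0))) (.node (.node (.leaf 0x23181ea800000ef028da28d90ee18513036650ec4702032957bd) (.leaf 0)) (.node (.leaf 0x3b9f185a0000270c490d49bb16f185f25e41c07e385545295537) (.leaf 0))))) (.node (.node (.node (.node (.leaf 0x39400b7c000002fb09de09dd16860411144ff2ef67171324d428) (.leaf 0x354e3afe000133bc3334260114e405d59e7a01fd6d54a833524d)) (.node (.leaf 0x4f3017b300001708153937be1e438412511bb69771f4fa55a049) (.leaf 0))) (.node (.node (.leaf 0x52fb50e400000c73235123501eb68577c133b08778a287113124) (.leaf 0)) (.node (.leaf 0x3dc322ae0000237546d64178185504736f79100608567e5182cb) (.leaf 0)))) (.node (.node (.node (.leaf 0x1d6753c300000797044717210ce604f8052c069a6f239268a025) (.leaf 0x11082b7000003f8849174e7d08e10514470ab4953f641418055a)) (.node (.leaf 0x2e6b184d00001cf434bb09c812c705725c7413652882d92c712d) (.leaf 0))) (.node (.node (.leaf 0x2b683d110001118e2e290fef12470515d60c76362497147bd546) (.leaf 0)) (.node (.leaf 0x194054c27cf00002ad34c520ac504e40593eb7d337427607570b28f) (.leaf 0)))))) (.node (.node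 (.node (.node (.node (.leaf 0x79f3f93000101de00a4065b067485f60f25963711223433328f) (.leaf 0x106e4f15000131354c5a413b08c705d7953735084604d62c770b)) (.node (.leaf 0x3b5a134100011598356c358016e48551df21d38208d25033524d) (.leaf 0))) (.node (.node (.leaf 0x465b392100000b382050204f1aa485757737a5737d31be12d113) (.leaf 0x479d2cbc00014f3b36e24dd61af285b4605042223e5291546486)) (.node (.leaf 0x473d20a4000121c5454c44a51ae385b33b21f2e93af7c45865be) (.leaf 0)))) (.node (.node (.node (.leaf 0xf0600ca0001066901e213e108a104d01045403e564314262149) (.leaf 0xeea527800003c21528b2d6908970557e34e578502d35f0252ab)) (.node (.leaf 0x275619e100001b693e1107c710a684d2860327080ce2f17b2000) (.leaf 0))) (.node (.node (.leaf 0x2663006a0001103e1c53199b10660470093370b343949815f518) (.leaf 0)) (.node (.leaf 0xff049ce000128e74134411a08b684170f7ba5762903c115f734) (.leaf 0))))) (.node (.node (.node (.node (.leaf 0x2ebc09c6000004190d430d4212d38590eb43936573b6192c712d) (.leaf 0x3d5707c9000036382d323a19184584f0b74d769206e7db5182cb)) (.node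 (.leaf 0x417744ef0000187a32ce39f318e584f68f71a65a1997b75866de) (.leaf 0))) (.node (.node (.leaf 0x523929fd00010db01b7826151ea38534276e01f751e265295049) (.leaf 0)) (.node (.leaf 0x137806ca0000253c45781f0b0a678510a144111d4191ec1245fc) (.leaf 0)))) (.node (.node (.node (.leaf 0x329552c0000008c71a4a1a49147184b7eb06725d19b79c786537) (.leaf 0x2fb44757000043555206142c12f28496d249364750265e049156)) (.node (.leaf 0xeaf0c7b00001e863fab19c2089305f12f6252cd65f60a02518b) (.leaf 0))) (.node (.node (.leaf 0x21ba01b9000012ec0bb730aa0eb28550294780da3422f0621124) (.leaf 0)) (.node (.leaf 0x1d50080000002ce046783dd20ce58410bc0533804be5ae734025) (.leaf 0)))))))) (.node (.node (.node (.node (.node (.node (.node (.leaf 0x114891250a0000008201da01d91c328433a954b3194aa63b621124) (.leaf 0x3fa31e7400012e7521464e3e18930472fd2e61bc3255815182ab)) (.node (.leaf 0x3508001e000013eb2a12328714e105100266f07d0a8267149537) (.leaf 0))) (.node (.node (.leaf 0x16ce1987000109b01c961c950ad505d27b1de7fa75351370a2cb) (.leaf 0xb174b59000046de5122535306e284f7355574950f864d70b55a))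 (.node (.leaf 0x421b2b5600011fb7434443431a2285744537a0644d31e412d734) (.leaf 0)))) (.node (.node (.node (.leaf 0x3338137b000104f60fcd0fcc14838511e765431705c6be4862ab) (.leaf 0x340110050001387c1788051614c104319619b7ff12c0cc428214)) (.node (.leaf 0x447b383a000019903b8c3b8b1a6785756367007c5937e20005be) (.leaf 0))) (.node (.node (.leaf 0x18454aae00000e9d282528240c2604b7236fd4104ce40a113262) (.leaf 0)) (.node (.leaf 0x3bc00b3d0001269738e1241516f404110d6e666666929c33324d) (.leaf 0))))) (.node (.node (.node (.node (.leaf 0x36c415b4000002b208fe08fd163604921a2fd7f22bc03f113786) (.leaf 0x3b934df50001331b1fc34f9216f184777648e22279a09f295486)) (.node (.leaf 0x1d2f1fbf000016ae372b372a0ce205f3207a03cc2b84a8335025) (.leaf 0))) (.node (.node (.leaf 0x537c134700000c231ce80b821ec58591df37c41039a62f428262) (.leaf 0)) (.node (.leaf 0x3c533a47000123020c4f467618248475914f35d36e61be546113) (.leaf 0)))) (.node (.node (.node (.leaf 0x5ee53900001074d1656165504f505d80104047f4e725a2cb537) (.leaf 0x11f62d1c00003ea132dc52ef08f684d4685c97723484987b2486))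 (.node (.leaf 0x9c74f2800011c993f923f9106b604f7964ad72b6325c368a2cb) (.leaf 0))) (.node (.node (.leaf 0x51460f790001113917aa2d811e8504d1874bf21174617f55a70a) (.leaf 0)) (.node (.leaf 0x16a320b200002a502d500eb90ad304733c26c3ed54e75b70a621) (.leaf 0)))))) (.node (.node (.node (.node (.node (.leaf 0x9861ba9000101970577005506b204d2b757269206e2343352cb) (.leaf 0x1613259d000030ab2df9302d0ac18473b57ab0061f34d62c72cb)) (.node (.leaf 0x47c91a590001153c168e34ed1af40532903ae55d58702754624d) (.leaf 0))) (.node (.node (.leaf 0x38a33a6400000ae81f8f063d16720475931615bf6ff3386216de) (.leaf 0x165e175e00014d1734e50d4e0ac585d2457ab0062af3d92c7786)) (.node (.leaf 0x7ac29db0000216144e02099067505942258c25d48d202295537) (.leaf 0)))) (.node (.node (.node (.leaf 0x725129f0001061d13141313066504b1d37d068d092073149537) (.leaf 0x51761a8b00013b4e510406fd1e8684d2964822a27461e824d70a)) (.node (.leaf 0x235c4c1300011b0c3d9f3d9e0ee58597452bc29f3ad1cd214025) (.leaf 0))) (.node (.node (.leaf 0x19484f6a00010fea2adb1e570c4605179d3af34c1533de24d180)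 (.leaf 0)) (.node (.leaf 0x4a314dcb0000287240bc4ac61c628437736c91cb60f29c335025) (.leaf 0))))) (.node (.node (.node (.node (.leaf 0x37d74ef1000103d101160c70165484f7931155fa7a06c55fc68a) (.leaf 0x11a01fa3000035a74ec54dac08f304131f13d2e94fe55f2625fc)) (.node (.leaf 0x208248900001181d1f1c39660e910456ec01a49b3ad17f6de70a) (.leaf 0))) (.node (.node (.leaf 0x3d3f364800010d5e25640b6b184385f5364f53ed26f58151870b) (.leaf 0)) (.node (.leaf 0x4aa3192c000024cb443e47f91c7204727356f29f760234333025) (.leaf 0)))) (.node (.node (.node (.leaf 0x134a44fc0000087a1986190e0a660556906c139858573a15f537) (.leaf 0x20f91d4300014268267546ef0e968532d62531b44d77f828f2c7)) (.node (.leaf 0x1f1c1ccf00011e1a166341770e448592cc5756994f84765fc7b2) (.leaf 0))) (.node (.node (.leaf 0x2b293fc9000012933012301112430536144431941591797bd546) (.leaf 0)) (.node (.leaf 0x22a0489800012c6710aa4d2e0ed20416ec5e91277b35b718b41d) (.leaf 0))))))) (.node (.node (.node (.node (.node (.node (.leaf 0x74112740001010a03ac03ab06660431d01c40d022503f1136de)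 (.leaf 0x1b32549012300002f884ec44ec3104505301a1ed33479e0db025000)) (.node (.leaf 0x15974f4200011495201133bc0ab184f79916f65102f2df124149) (.leaf 0))) (.node (.node (.leaf 0x1518411400010a480da91e150aa18516333787b449d435124295) (.leaf 0x35870c94000049ac2e3c51d914f104f1312926cf38d545149537)) (.node (.leaf 0x16c8175100002076441144100ad50512450f20c31a11112c72cb) (.leaf 0)))) (.node (.node (.node (.leaf 0x42a5219a0000058a117511741a3304b3575b01720087ae586335) (.leaf 0x492a18c1000139d633e543101c4305526b0771f77ba0ff6de7d9)) (.node (.leaf 0x4d1838e900011a4f25de2abc1cc285156f4800ea1304502ab41d) (.leaf 0))) (.node (.node (.leaf 0x1f481f0200000f41298429830e4605131044859b6b07fc24d180) (.leaf 0)) (.node (.leaf 0x3a7a0ae60001277f0e4f2cbf16c785510610117277d17432d335) (.leaf 0))))) (.node (.node (.node (.node (.leaf 0x16264ce600010342010c0ab90ac304d75e31e37642775b2c7621) (.leaf 0xefd27c20000345d1e1b4c15089785b3eb0d61bc1d81797bd2ab)) (.node (.leaf 0x110d2c6500011761384917ee08e105b45913f2376812f31806de) (.leaf 0)))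 (.node (.node (.leaf 0xf9c22bf00010cc12404240308b18593707f062d2bc74d124295) (.leaf 0)) (.node (.leaf 0x5158369e000023e0474747461e8585153d7d72117cd05d55a70a) (.leaf 0)))) (.node (.node (.node (.leaf 0x516d36c9000007e317ee17ed1e8605b5403572f85d91ab24d2c7) (.leaf 0x1be04191000140821d552e640cb704164004e6975bb1ea786049)) (.node (.leaf 0x5092b7e00001d5521c22c5504e20534476d24951ae7f970b55a) (.leaf 0))) (.node (.node (.leaf 0xdc2b070119000111e5288e2ecd124104f0184743126af6b4025586) (.leaf 0)) (.node (.leaf 0xa1f395900012b5b1024202a06c285f57a40545c49d08e18b295) (.leaf 0)))))) (.node (.node (.node (.node (.node (.leaf 0x282f1a14ff00000224073f073e12e18552098086122465ff180156) (.leaf 0x286d3e0f000131d920923c9410c705b5e87601e369f14570a546)) (.node (.leaf 0x4ed53ec000015f21c5d360f04d505b80859835349623632d734) (.leaf 0))) (.node (.node (.leaf 0x3032153000000b871d3a2089142384520d02f4f2549416214621) (.leaf 0x4e2b18c200005342522451f31e2305726b1284fb7823472cb049)) (.node (.leaf 0x75806c10001222845a614c806668510a10a007a36040a68a55a)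 (.leaf 0)))) (.node (.node (.node (.leaf 0x1aea3da6000006b414b914b80c960555e126b27d4d24a328f70a) (.leaf 0x21143e5700003ce01fc234840ea18495ef27e30f23e79c786180)) (.node (.leaf 0x4ce31b3100001bcb3e903e8f1cb60472aa0377030ab09568a124) (.leaf 0))) (.node (.node (.leaf 0x26d73494000010902c3506c3107584f5122a837f0f15ed41d156) (.leaf 0)) (.node (.leaf 0x165642cd0000295642de21a90ac584d65b6104cf41c75b2c7786) (.leaf 0))))) (.node (.node (.node (.node (.leaf 0x309e2c8000000462057b0e1c143285d45d0022c233d123335786) (.leaf 0x5bb0fb1000036f9346917e704f385718d0a225f5a62472cb5fc)) (.node (.leaf 0x314d32db000018d818c33a7c144405b4e73b90f749f1b15be68a) (.leaf 0))) (.node (.node (.leaf 0x325c3a7500000dff26c926c8146485959453a6371686b570b24d) (.leaf 0)) (.node (.leaf 0x283f1612000025b111e6489e10c385f2230a16bd6c13042c712d) (.leaf 0)))) (.node (.node (.node (.leaf 0x6402435000009131b0e1b0d064604139635778f5c21ab24d149) (.leaf 0xe452a2f0000446c4f05539e088504b42b80600559160e02532d)) (.node (.leaf 0x1e5529c400001ee8426842670e2684b4211606ae18818a68a262)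 (.leaf 0))) (.node (.node (.leaf 0x65336dc0001133b3132314e064684754157e7b43294ea24d149) (.leaf 0)) (.node (.leaf 0x304013f200012d5a13643cc814260411f40807f220a0c51132cb) (.leaf 0)))))))))

/-- part of a table -/
def entries122 : Trie := (.node (.node (.node (.node (.node (.node (.node (.node (.leaf 0x41a29120000003f00ea00e904c285540c0fb45c37e34a18b149) (.leaf 0x2151e9b00012df111744df5048284b2ff57576e5824765fc32d)) (.node (.leaf 0xf6268140930001139421351ea510710436291633270f1435262156) (.leaf 0))) (.node (.node (.leaf 0x38d71cf4000109641bd91352167484f2d047870540f2f062128f) (.leaf 0x8d42e0d000145a622283f8f069684947b5ca5ce1bb1ab28f428)) (.node (.leaf 0x1d1b3bfc00001f523b8d23510ce18575ba6202570d909f1497bd) (.leaf 0)))) (.node (.node (.node (.leaf 0x22401bc9000104ad0efa0ef90ec40412b926314b3202262ab7b2) (.leaf 0x15922596000137be47b646060ab18453b550e6681f338c124295)) (.node (.leaf 0x324d38340001193638c33b01146405b56317e6ef5937f970b28f) (.leaf 0))) (.node (.node (.leaf 0x52a22dd700000e4d1c4b27791eb30454754ab4fb2ce207149049)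 (.leaf 0)) (.node (.leaf 0x47d4321f000126282f6a48f81af48494d36ec71b6883e654624d) (.leaf 0))))) (.node (.node (.node (.node (.leaf 0x1d0b22450001026b082408230ce10573672af0125a82072957bd) (.leaf 0x3979301d0000327c4ffd4ffc16878534ab71e4ef06b42055a2ab)) (.node (.leaf 0x37ba2e5b00011653369c1c2c16538554825fe7646fd664486333) (.leaf 0))) (.node (.node (.leaf 0x8e2b9d2c0400010bd221d721d6125185b4521aa757796714025000) (.leaf 0)) (.node (.leaf 0x4a5d19db0001229b2a93460e1c6585b2854852a08032032957bd) (.leaf 0)))) (.node (.node (.node (.leaf 0x494f4398000006ff158615851c4405f67145d14b5960c95fc7b2) (.leaf 0x4a831c1000003dc352ce486c1c710472be06e14f2ec32a734025)) (.node (.leaf 0x920339800011c323f0c3f0b06a30414f94d377c5e62d7149621) (.leaf 0))) (.node (.node (.leaf 0x29e52b4e000110e50557037b10f604b44475e6d64816e97b2518) (.leaf 0)) (.node (.leaf 0x38ff34da000129d84bb93872167785f51a5b95210fb3477865be) (.leaf 0)))))) (.node (.node (.node (.node (.node (.leaf 0x2ca21926000101510497049612720452732e3341760707049156) (.leaf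 0x1bb40d580000300d4f0148be0cb284914354b31965823f621262)) (.node (.leaf 0x4641248d000114e906c62d931aa404339d6f41341261a4546113) (.leaf 0))) (.node (.node (.leaf 0x30293a0b00010a991ed31a48142305358a5e44f253463521470b) (.leaf 0x3108374000004b4c4b3452b4144105154c03a06433d46455a214)) (.node (.leaf 0x107731aa000120ea4478259308c784f4c96904f24e65132c770b) (.leaf 0)))) (.node (.node (.node (.leaf 0x46a116fe000105d5124a05011ab204323b6f45762b2027546734) (.leaf 0xe221d9800003a903308231d08830452e02a93172516b47bd18b)) (.node (.leaf 0x1e6f1d3a00001aaf3d253bbf0e2705f2d559e3a471d04b2957d9) (.leaf 0))) (.node (.node (.leaf 0x44c3062900000f9a2a3426bb1a740470924b037404f0a912d28f) (.leaf 0)) (.node (.leaf 0x26ac360f000027f73dd4401c107205953273150365930d049518) (.leaf 0))))) (.node (.node (.node (.node (.leaf 0x133b138f0000038b0b960b950a658571e97e349555e1321806de) (.leaf 0x48cb107d000034fd29c329ef1c3405719e7b04ca2b723170b15f)) (.node (.leaf 0x40f400e2000017c00fdc30d118b78490153427a253a7ae000335) (.leaf 0))) (.node (.node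 (.leaf 0x4f4111e200010d0e24ab162e1e440431c132407f7b94765be7b2) (.leaf 0)) (.node (.leaf 0x3c5503a90000245f3d413e32182484b0544cd5736a541f12d113) (.leaf 0)))) (.node (.node (.node (.leaf 0x409d14f30001083018c418c318b185b20923e08b397401000295) (.leaf 0x33521b990000416b3aaa151614868452b33e34907c669524d32d)) (.node (.leaf 0x3d151e700001db8410033c004b68437d431a43118f21868a786) (.leaf 0))) (.node (.node (.leaf 0xc5c4ace0001123f05d12f69082685972771068000a29415f214) (.leaf 0)) (.node (.leaf 0x5047233400012be0214f153f1e6504f37c1a109e64657d2957bd) (.leaf 0))))))) (.node (.node (.node (.node (.node (.node (.leaf 0x2c1533e8000000c702c402c3126184b5003780f5803435124156) (.leaf 0x749521500002efd391a193106660537d83133d06c70c51136de)) (.node (.leaf 0x1551280e0000143d331c331b0aa48433f37a857325e3b104968a) (.leaf 0))) (.node (.node (.leaf 0x34520a5d000009fd1d59007214c48450fa7c06623c303918b113) (.leaf 0x29ad35690001482753d02cb410f205b5273b50b34dc32e049518)) (.node (.leaf 0x386852350000201943b243b116670517de36e2843be43d7865be)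 (.leaf 0)))) (.node (.node (.node (.leaf 0x2f44034b0000054007cd04cb12e504904e6945dc7690bf262156) (.leaf 0x34120297000039284d1f075314c18450383f77ed06202032d214)) (.node (.leaf 0x2ce13496000019f03c1e073c12760435122e06470a13447b2518) (.leaf 0))) (.node (.node (.leaf 0x216215fa00000ef228dc28db0ea704521f3f229e4f825a2cb049) (.leaf 0)) (.node (.leaf 0x27f71a790001270c44502a4f10b784f2934545565d467726212d) (.leaf 0))))) (.node (.node (.node (.node (.leaf 0x21c740ab000102fb00d609df0eb404f62a4895164f36cd6217b2) (.leaf 0x1e0230f4000133bd485221f10e240454bd25e6b75cc2f933315f)) (.node (.leaf 0x29a82f6900011708164631e610f205149a4881ef64a65e049156) (.leaf 0))) (.node (.node (.leaf 0x5f9095e00010c7303d2235204f58530e366725d68e1ea786486) (.leaf 0)) (.node (.leaf 0x1c350d5f0001237546d846d70cc284b1437780726586ba2ab180) (.leaf 0)))) (.node (.node (.node (.leaf 0x326d2e1a0001079717231722146705b47d47728e1682e72cb5fc) (.leaf 0x27f823e100013f8933704bc610b785138f0ac22d77e5c712412d)) (.node (.leaf 0x3d49199100001cf540143832184505327c0dc0c30943da1562cb)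 (.leaf 0))) (.node (.node (.leaf 0x19354aad0000118f22662e2a0c4584b72365427f28b6be486124) (.leaf 0)) (.node (.leaf 0x33a6058b00002ad51496492b149304d08068742657e34048618b) (.leaf 0)))))) (.node (.node (.node (.node (.node (.leaf 0x2fd12445000001df01bc065c12f584339727110c4f10b2262518) (.leaf 0x16fa22c7000131374d301ff90ad78553714092a67361cc70a621)) (.node (.leaf 0x3cc4498600001599358131e018340497063aa5f778e17a12d68a) (.leaf 0))) (.node (.node (.leaf 0x10cf27bc00010b382052205108d505f3e96b24126ca2d970a786) (.leaf 0x15ba490a00004f41419351a40ab38556f73eb3e440b78b41d333)) (.node (.leaf 0x3b4e2ee4000021c6224a454d16e405d48e2c876d4c225033324d) (.leaf 0)))) (.node (.node (.node (.leaf 0x41af363e0001066a13e313e218f305f5357cc5e27ea1475865fc) (.leaf 0x3150326a00013c21496f501214448414dd4c15fa7a01775fc68a)) (.node (.leaf 0x16332bb000001b6a37e43e120ac384744c0f13766fd3042c770b) (.leaf 0))) (.node (.node (.leaf 0xd535df0000103f299f2b8e045684b52f7c208b3973de28f295) (.leaf 0)) (.node (.leaf 0x2f974465000128e80ef72a7312f184f6833cd5dc72977a41d518)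 (.leaf 0))))) (.node (.node (.node (.node (.leaf 0x4bf22481000104190d4407171c9684539d10524158d4a324d70a) (.leaf 0x4e1c25c9000036393d9e51391e228593bb54b31970f23f621262)) (.node (.leaf 0x31c634840001187b31ff0f1b145404d51144501e26d0c95be113) (.leaf 0))) (.node (.node (.leaf 0x2a3467800000db12617261604930476bc32138a49e58055a2ab) (.leaf 0)) (.node (.leaf 0x185126300000253d20c948460c268433c40080da6d12ad68a262) (.leaf 0)))) (.node (.node (.node (.leaf 0x2d3c20a2000108c71a4b03e212a385933b09a1944152f341d12d) (.leaf 0x3ff82ee60001435539a44061189785148e3c47854c226815618b)) (.node (.leaf 0x1d519e00011e8641ec41eb044485b7cd72f66212503b5fc113) (.leaf 0))) (.node (.node (.leaf 0x1b841ff000112ec060f30ab04758516467d068d34f08a149486) (.leaf 0)) (.node (.leaf 0x5340110700002ce34d6d2d0b1ec40411ac2e51dc7b951d2ab7b2) (.leaf 0)))))))) (.node (.node (.node (.node (.node (.node (.node (.leaf 0x3b1a39010001008201dc01db16e18555721d771177b09f149486) (.leaf 0x15e126ce00002e76439f440f0ab60433d26bc3b67196e97b2734)) (.node (.leaf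 0x27600c04000113eb3289328810a70411223f36f92e374d12412d) (.leaf 0))) (.node (.node (.leaf 0x57331a2000009b11c981c9704e58474c921b3a81bb704786537) (.leaf 0x78e0864000046df4aa2492e067405d0ca1ba6ef7924b533524d)) (.node (.leaf 0x2ef1194600001fb8434501ca12d78432752781946246d82c7546) (.leaf 0)))) (.node (.node (.node (.leaf 0x1620082a000004f70fcf0fce0ac30410be47376606f5c870a621) (.leaf 0x28840c9c0000387d1f2b4ec710d10491317013345ad6192c7586)) (.node (.leaf 0x4a94a6100011990087d0b0604d305371f0503e40eb3cb32d335) (.leaf 0))) (.node (.node (.leaf 0xaf320f50d100010e9d048c2826146105f7c020b6cf0e7704786537) (.leaf 0)) (.node (.leaf 0x3c5f4db40000269849584957182485f7713205a973858b54668a) (.leaf 0))))) (.node (.node (.node (.node (.leaf 0x21933e52000102b2090008ff0eb18475ef0992f251b24778641d) (.leaf 0x4cf146300000331e4f2050301cb68436b125401124549768a124)) (.node (.leaf 0x34fb18be000016af372c308214d78572696c77dd1fe626428335) (.leaf 0))) (.node (.node (.leaf 0x11e839ec00010c232294229308f605158875e6cf57b6e97b2537) (.leaf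 0)) (.node (.leaf 0x220524fe000023033fd646770ec104b3a767f5a22600de428124) (.leaf 0)))) (.node (.node (.node (.leaf 0x20d14cd60000074e120916570e9584375d2101b448f7815372c7) (.leaf 0x1eb28f800003ea23f5052f004770574095582e94994167345be)) (.node (.leaf 0x336651ca00001c9a3f932e5a148704d7d05482791100ff6de2ab) (.leaf 0))) (.node (.node (.leaf 0x30844b1c0000113a173a2d82143204972f56a2c206304a3352cb) (.leaf 0)) (.node (.leaf 0x6d0294d00012a5015564c09065684141161b7d26455cb28f149) (.leaf 0)))))) (.node (.node (.node (.node (.node (.leaf 0x3e3d0b650000019805780371186285b11225b4b351241f12d537) (.leaf 0x17093e8d000030ac14102e5c0ae10535f24ed13c4a91d21806de)) (.node (.leaf 0x315616980000153d310534ee144484d2304c25ac5ec12a5be68a) (.leaf 0))) (.node (.node (.leaf 0x8a720b800000ae91f900345069304f33c4e72ea24f3456de18b) (.leaf 0x1bf52a8400004d224c8e53920cb784b4332963a432f283786049)) (.node (.leaf 0xa7250aa000021620cf51df306c58457bb5a135336262632d734) (.leaf 0)))) (.node (.node (.node (.leaf 0x51531bed0000061e131512661e858472bb6431b908c4186de2c7)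 (.leaf 0x8013cc300003b4f360250ca06820435d03a97d16710e25be428)) (.node (.leaf 0x200c232d00001b0d3da13da00e8105937a5112a23634206de2c7) (.leaf 0))) (.node (.node (.leaf 0x3fd005ab00000feb2add2adc189584108553f75c29912b15632d) (.leaf 0)) (.node (.leaf 0x3b2a1c34000128720ec210b016e30552c049d3ee1f64c52145fc) (.leaf 0))))) (.node (.node (.node (.node (.leaf 0x21b12552000003d20c720c710eb28433ae1960875707f970b262) (.leaf 0x1a551721000035a851014c8a0c8584b23e0a53fa35b7814862c7)) (.node (.leaf 0x3d1b34a80000181e3968396718418575144700a37227e9518786) (.leaf 0))) (.node (.node (.leaf 0x522b1c3f00000d5f256625651ea30572c07c13a460c207295049) (.leaf 0)) (.node (.leaf 0xc1c4220000024cc47fb47fa082485964a06c5ac12565e7d9113) (.leaf 0)))) (.node (.node (.node (.leaf 0x2ba340410001087a19881987125304761f06123571035f7bd12d) (.leaf 0x350c343b000142691ee84eb214e105950956971177b203149486)) (.node (.leaf 0xbb749d100001e1b3438352506f384f71006628458a1c87865be) (.leaf 0))) (.node (.node (.leaf 0x51a64e3a00011293301430131e9204d77d3bb2b456612a5be2c7)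 (.leaf 0)) (.node (.leaf 0x4c984f8e00012c683a064cd91cb18517a074e59b6315ae734180) (.leaf 0))))))) (.node (.node (.node (.node (.node (.node (.leaf 0x2f7704730000010b03ae03ad12e684f06718d6475234987b2518) (.leaf 0x1b42b9005eb00012f8b374a4ec5125184108d5d93126af506025586)) (.node (.leaf 0xd6b1f900000149633be33bd086705731e13052134938c2625fc) (.leaf 0))) (.node (.node (.leaf 0x3e823d6300000a491e171e1618710455db1336a319b4e258655a) (.leaf 0x3bdc4ca2000149af26ff52eb16f48597531317055684da33524d)) (.node (.leaf 0x4ff72c410001207613c835e01e5684f4560e934c7951e824d180) (.leaf 0)))) (.node (.node (.node (.leaf 0x3a9e18ad0001058a1177117616d185d26674911e5776f1428214) (.leaf 0x1898335c000039d734a7510b0c348514f533a2a445e50a33315f)) (.node (.leaf 0x2124340a00001a500e6a3ca00ea204950454470326063b621124) (.leaf 0))) (.node (.node (.leaf 0x2934071600000f422985135f10e28490a72b775848336b7d9518) (.leaf 0)) (.node (.leaf 0x410113140000278049ff4a1218e20431db35e7e413802712d537) (.leaf 0))))) (.node (.node (.node (.node (.leaf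 0x1b8c22400000034303200aba0cb10593670620ea55117d786180) (.leaf 0x7351dfb0000346041a223ea066584b2ec6e0166198265295486)) (.node (.leaf 0x26933e15000017623760384a10718475e92c45c651c78d262518) (.leaf 0))) (.node (.node (.leaf 0x8a4339e00000cc22406240506930494f979a1bc20f24055a2ab) (.leaf 0)) (.node (.leaf 0x7124862000023e13df7474806648456e826d7057eb4a833524d) (.leaf 0)))) (.node (.node (.node (.leaf 0xbce1988000107e317f017ef06f405d27b26666606b64d62124d) (.leaf 0x22ee42d900004083533851840ed705d65d60d3a471d58e4287d9)) (.node (.leaf 0x186f1ddc00011d554082165b0c2705f2e648e1f7029545295049) (.leaf 0))) (.node (.node (.leaf 0x1a12ac6000011e611cf2ece0475043439323166078073295537) (.leaf 0)) (.node (.leaf 0xf4e4f1700002b5c2bad4c9e08a405d7954a55f763436a7d9113) (.leaf 0)))))) (.node (.node (.node (.node (.node (.leaf 0x33e037c600010224043e0740149704155540880767d4a66de18b) (.leaf 0x22191ea3000031da4fc039500ec185330337c41071a3cb428124)) (.node (.leaf 0x245528ef000115f236101e6a102684b4087ba6ee3783c115f586) (.leaf 0)))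 (.node (.node (.leaf 0x460f480b00010b87211221111aa105f6e165d78f5897b7000149) (.leaf 0x22ae0efc000053474ac850f30ed205d1706a00ea5da6182ab41d)) (.node (.leaf 0x60840810000222a45a7113b064405162502d42d4ac03b5be113) (.leaf 0)))) (.node (.node (.node (.leaf 0x32502ed4000106b414bb14ba146484148d2527331ff23f70b28f) (.leaf 0x24a5273300013ce1384252ad103304b3df11c0c460c0bf262546)) (.node (.leaf 0x571208c00011bcb3e923e9104e584333948b3983db17d2cb486) (.leaf 0))) (.node (.node (.leaf 0x834041e00011090053b2c3606838490607d768b1e505d55a18b) (.leaf 0)) (.node (.leaf 0x1edd0ea800002957460e2cd70e3685b1694ba70323e03f68a124) (.leaf 0))))) (.node (.node (.node (.node (.leaf 0x52114132000104620e1e0e1d1ea184363812278880163521441d) (.leaf 0x318b025a000036fa4deb4c7014510570333f83537224cc55a734)) (.node (.leaf 0x30f11fe000118d81b3d3a7d04a205f1c25ec0c30944b53352cb) (.leaf 0))) (.node (.node (.leaf 0x53b42ccb00000e0026ca22261ed38494615851856bc62f32d7d9) (.leaf 0)) (.node (.leaf 0x516000e1000125b125ce484e1e8604101510043f0617fc24d70a)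 (.leaf 0)))) (.node (.node (.node (.leaf 0xd280a010000091416d11b0f08650510f113f2373606fe18055a) (.leaf 0x2bce270b0001446e47c235e5125505d3db5335f80ee6b47bd586)) (.node (.leaf 0x328f39b600011ee842691d05147105f5842b216656325a2cb537) (.leaf 0))) (.node (.node (.leaf 0x35e7426f0000133c27312ad814f604f6507e76a35d65c368a6de) (.leaf 0)) (.node (.leaf 0xdd2197c00002d5b479c43f6087684527851f7720fe6237b2537) (.leaf 0)))))))))

/-- part of a table -/
def entries123 : Trie := (.node (.node (.node (.node (.node (.node (.node (.node (.leaf 0x1e4d4cbb0001003f00ec00eb0e2605b7564755a2260497113124) (.leaf 0x238c48f600012df21a0a45070ef10596f62aa2a03c40c22957bd)) (.node (.leaf 0x4696475f000013950ddb31ff1ab184d6d274f7d26454e2000149) (.leaf 0))) (.node (.node (.leaf 0x439d1da9000109651bdb1bda1a5185b2e263f7fa4e0268518786) (.leaf 0x41bd46d1000045aa410531ad18f385b6c60bc7ef6db13e0005fc)) (.node (.leaf 0x136e06cc00011f520acf42d00a6705d0a150e2843be3141245be) (.leaf 0)))) (.node (.node (.node (.leaf 0xb5c4d36000004ae0efc0efb06e48597651a33820e46b562124d)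 (.leaf 0x91319f5000137bf1fb0519906a284728826d4122934a83352cb)) (.node (.leaf 0x2d1e119b000019383b021eec12a285d1ba5d46fa47e7477d9586) (.leaf 0))) (.node (.node (.leaf 0x2fdb1e2000010e4d277a22f712f58572f50e00f50d62df124156) (.leaf 0)) (.node (.leaf 0x3fbe29fe0001262946532715189385d42779138a2d120e51818b) (.leaf 0))))) (.node (.node (.node (.node (.leaf 0x4971e900000026c0826082504d284f2ff09108b6150392ab149) (.leaf 0xfcd093d0001327c4ffe087408b405b0e073113478e30d04968a)) (.node (.leaf 0x51f031b300011654369e369d1e968414cb25149b5667f828f2c7) (.leaf 0))) (.node (.node (.leaf 0x24b338cf00010bd303af21d8103384756c7aa5562b166a262546) (.leaf 0)) (.node (.leaf 0x62b35b90000229c0c59460f064505752d4bf4eb47717f55a214) (.leaf 0)))) (.node (.node (.node (.leaf 0x374015a8000007001588158716440412193b90f76044045be113) (.leaf 0x5055494300013dc51b2b42681e6584b6ff24c1e67a92d7295025)) (.node (.leaf 0x9e0a2000001c333f0d2271045485d0f302e6624890435fc68a) (.leaf 0))) (.node (.node (.leaf 0x3cea1079000010e62cd12cd0183505519e5d83582337b7586149)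 (.leaf 0)) (.node (.leaf 0x50983fbc000029d94bba1a9f1e718516116503cc61032b214025) (.leaf 0)))))) (.node (.node (.node (.node (.node (.leaf 0xda50a100000015204990498087504b0f204179b37c41441d55a) (.leaf 0x7370b910001300d4f021125066584f1161d771151a26a149537)) (.node (.leaf 0x53ef4998000014ea345913a81ed505f70951a6ae3cd059428124) (.leaf 0))) (.node (.node (.leaf 0x4dbb36ec00000a9a107e01d61cd38575426c729e567390428049) (.leaf 0x2700132500014b4c5363294110a20411dd1f83008013b1049000)) (.node (.leaf 0x2cc239c0000120eb4479277412750455850316126485ed180156) (.leaf 0)))) (.node (.node (.node (.leaf 0x28a3115a000005d6124b003e10d30471b248a65578276170a546) (.leaf 0x28dc471c00003a9145d4304a10d58596ca70133462c6192c7586)) (.node (.leaf 0x2c86409900011aaf3d273d26127104d6293d85ab373242262518) (.leaf 0))) (.node (.node (.leaf 0x219c0af700000f9b177a2a350eb18591084776c34332832cb41d) (.leaf 0)) (.node (.leaf 0xc7505d8000027f80fa14a6a082784b08c3d25f454b37b41d333) (.leaf 0))))) (.node (.node (.node (.node (.leaf 0x49a534c70001038b0b980b971c5304b5194dd1f75cd4206de7d9)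 (.leaf 0x1d1d1d80000134fd50d34b9d0ce185b2de0210125a80c22957bd)) (.node (.leaf 0xa7726c5000117c038d3123906c584f3d234f6cc04c6f132d214) (.leaf 0))) (.node (.node (.leaf 0x715420d00000d0f24ad24ac066484b64873663715229c33324d) (.leaf 0)) (.node (.leaf 0x16001baf0001245f330f39cb0ac10412b77c941201661970a786) (.leaf 0)))) (.node (.node (.node (.leaf 0x4cda2cd90000083108130c321cb48554625296996091a23357b2) (.leaf 0x4a30423b0000416d3d9d4fe11c6284164b49f2576b270d335025)) (.node (.leaf 0x4e7e012d00011db826ef24801e2585d01a70e6dd16f0342cb41d) (.leaf 0))) (.node (.node (.leaf 0x1c34487d000012402f6b2f6a0cc28496ea6a70ea10a51d2ab180) (.leaf 0)) (.node (.leaf 0xb6b40f400002be24ce0040c06e50576311287724c83472cb537) (.leaf 0))))))) (.node (.node (.node (.node (.node (.node (.leaf 0x33af3634000100c702c602c5149305f53527c42659222748618b) (.leaf 0x3335376500002efe3f794acc148384b54e4a74ef04269c48618b)) (.node (.leaf 0x3dcd10780001143d2c46294c185505b19e5b54122931781562cb) (.leaf 0))) (.node (.node (.leaf 0x941535a000109fd114e1d5a06a60437f75a06564ab1a0113786)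 (.leaf 0x29c022900001482940051f5d10f504136e0ad5c65334a2262156)) (.node (.leaf 0x15ad43b100012019204c0c4c0ab305b6730b57dd4ba6fe41d335) (.leaf 0)))) (.node (.node (.node (.leaf 0x8e70bc60001054010a0109f069704f11b44e38a00371c53718b) (.leaf 0x283506bd000139292a11448010c384b0a07601e32e014570a546)) (.node (.leaf 0x18b11247000119f22a1b28390c358431c731d6c32d65ae734180) (.leaf 0))) (.node (.node (.leaf 0x2ccb453f00010ef228de28dd12750576968086122ec5ff180156) (.leaf 0)) (.node (.leaf 0x42e4d4d0001270d0e1c49bc04c305d7677de16e54239032d333) (.leaf 0))))) (.node (.node (.node (.node (.leaf 0xdb20a1f000002fc09e109e008758450f27ee07a67f13241d6de) (.leaf 0x2cbe0501000133c127bb5063127285d0701c20f56907477d9518)) (.node (.leaf 0xa9714270000170937bf1aee06d284f1f841962d38f0392ab149) (.leaf 0))) (.node (.node (.leaf 0x187e4f6600000c74181423530c2785d79d33f29e7171541497d9) (.leaf 0)) (.node (.leaf 0x4e182a930000237646da46d91e228514341427243eb075621124) (.leaf 0)))) (.node (.node (.node (.leaf 0x3b5e0fcb000107981725172416e485d18f60476a4527fe33528f)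 (.leaf 0x454d2cd100003f8c20ba4c321a8505b4620d90051bf79f51832d)) (.node (.leaf 0x1c2f49e800011cf5401640150cc205f71240f34c7cf29818b180) (.leaf 0))) (.node (.node (.leaf 0x442850d90001118f2e2b0fb21a620517c05eb3a8360291546486) (.leaf 0)) (.node (.leaf 0x314e3e9000002ad6198c0a7a144405d5f30035af38b0c95fc113) (.leaf 0)))))) (.node (.node (.node (.node (.node (.leaf 0x2f3380a000101df065e065d049784755b4921bc63a3ef5372ab) (.leaf 0x14ba024f000031384f8917e00a938550327272ea3df2e47bd2ab)) (.node (.leaf 0x3b0d412c0000159a3583358216e105b63449677271e202149537) (.leaf 0))) (.node (.node (.leaf 0x3278118700000b392054205314678511b640203d2641ea2cb5fc) (.leaf 0x2370bdc2d2300004f4a539353f006f48594691fe71b68809770b24d)) (.node (.leaf 0x9ed2b03000121c6454f454e06b705b4401ac6027001cd734621) (.leaf 0)))) (.node (.node (.node (.leaf 0x15b04ebf0000066b13e513e40ab384178c7d44250e1414180335) (.leaf 0x2bc102ab00013c2229431064125504303a4dc31241b63c025586)) (.node (.leaf 0x3bf4117d00001b6b168d3e1316f68491b561a7a40b718a68a55a) (.leaf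 0))) (.node (.node (.leaf 0x4e1a2b590001103f051d2b8f1e2285544549101155b23170b262) (.leaf 0)) (.node (.leaf 0x180c460c000028e94b1040eb0c240596ac6a514b32f70d33315f) (.leaf 0))))) (.node (.node (.node (.node (.leaf 0x304b02780000041a0d460d4514260570365cf2482b361368a786) (.leaf 0x358617f200013639160b513a14f104d2551d77115f326a149537)) (.node (.leaf 0x281b31e80000187c39f539f410c18574d05263346b97612c7586) (.leaf 0))) (.node (.node (.leaf 0xc1710fd00010db1043c2618082484f1aa5b357322b6ed04968a) (.leaf 0)) (.node (.leaf 0x511c1c2d0000253e3536368f1e818592bf6e41b94dc0ba5372c7) (.leaf 0)))) (.node (.node (.node (.leaf 0x11a62a4b000008c81a4d1a4c08f304d42e47e03d10578d1245fc) (.leaf 0xa8f3e82000043562ede490e06d205f5f207001923c6182ab295)) (.node (.leaf 0x5249021a00001e873ab12e871ea405302f6424ca77e5433357b2) (.leaf 0))) (.node (.node (.leaf 0x49553b41000112ed07d2159f1c4484b5a51d81763b51775fc7b2) (.leaf 0)) (.node (.leaf 0x23e731df00012ce34d732bf30ef604f4ce5cf3d33e139268a025) (.leaf 0)))))))) (.node (.node (.node (.node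 (.node (.node (.node (.leaf 0xa5708920000008301de01dd06c484f0d20655d356f34a18b68a) (.leaf 0x2bd82d3300012e763e594695125585146a1aa75713060e025586)) (.node (.leaf 0xa393b09000113ec14ab328a06c385359f48d7a23c5236428333) (.leaf 0))) (.node (.node (.leaf 0x2a6a03b7000109b102eb1c9912270550553dd3654885ed41d12d) (.leaf 0x328a3603000146e42b0b4694147105553226947f7e117b2cb486)) (.node (.leaf 0x1af753c600011fb8434743460c9684f8054492b45a47d624d2c7) (.leaf 0)))) (.node (.node (.node (.leaf 0x33571c0a000004f80fd10fd0148684f2bd4822ef6711e824d428) (.leaf 0x238f1e6e0000387f3d6451c70ef105f2fc73f1cb70c154149025)) (.node (.leaf 0x44ab36080000199139f73b8d1a7205753245e77237c6b812d537) (.leaf 0))) (.node (.node (.leaf 0x4c203b1e00000e9e177028271ca30415a06b10c851f265149049) (.leaf 0)) (.node (.leaf 0x5a41d9100002699495a495904f30492e004e07c61b21c7865be) (.leaf 0))))) (.node (.node (.node (.node (.leaf 0x89b1771000002b309020901069285724906b1e04466c55fc428) (.leaf 0x3757476f0000331f2a7f4f5c164484f6d37ec57325e0435be68a)) (.node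 (.leaf 0x157e175d000116af2a76372d0aa685d24576f5151a173a7b2214) (.leaf 0))) (.node (.node (.leaf 0x38124dcd00000c24156a1b4c166184577370e2220d41c82cb486) (.leaf 0)) (.node (.leaf 0x13c04d7500012303158746780a7604176b3ca4b30e62947b2486) (.leaf 0)))) (.node (.node (.node (.leaf 0x28e10ab60000074f1659165810d70431024f00c40d71112c712d) (.leaf 0x2e0f258f00003ea350134cb912c105f3b47be30c4401cc2c7586)) (.node (.leaf 0xf42465800011c9a3f953f9408a40456b94515504c07477d968a) (.leaf 0))) (.node (.node (.leaf 0x2200489d0000113b2d8321ba0ec10416ec6ff191395236428262) (.leaf 0)) (.node (.leaf 0x2abb1a4100002a512a3f4c0a123385728d0e06891392df12412d) (.leaf 0)))))) (.node (.node (.node (.node (.node (.leaf 0x2e24115600010198057a057912c30491b221e75906061970a12d) (.leaf 0x535434b0000030af286b297c1ec484951704f14a2db4502ab7b2)) (.node (.leaf 0x90504cc0001153d34f034ef06a204b06c7002c210250a3352cb) (.leaf 0))) (.node (.node (.leaf 0x2dd83af900000aea1f921f9112b685159e2cf6fa76529415f586) (.leaf 0x162d1eea00004d23530c097d0ac305b3095101a721778970a70b))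 (.node (.leaf 0x1fd9310e000021630cb744e10e568534be61b18271a71328f180) (.leaf 0)))) (.node (.node (.node (.leaf 0x11c74ea10001061e1317131608f404f78a01f37454c4f47d924d) (.leaf 0x2084f05078d00003b513e33523d1e4104b0af68108778a10e486124)) (.node (.leaf 0x1389464c00011b0d3da205b80a740536b269f76d79230d7d924d) (.leaf 0))) (.node (.node (.leaf 0x225742aa00010feb2ade1aa40ec484f65823d1b73a23b818b15f) (.leaf 0)) (.node (.leaf 0x13a64d7f000028734486174b0a7504d76b8081b864e5ff18055a) (.leaf 0))))) (.node (.node (.node (.node (.leaf 0x1b30a1d000103d20c7304ac04758470f263225d0fe545295537) (.leaf 0x44485239000135a815ae2fb21a640517de4a055d09117a54624d)) (.node (.leaf 0xecc09300000181f3969205f08950590e01355ce17c7147bd428) (.leaf 0))) (.node (.node (.leaf 0x2fc22de200010d5f2568256712f50454770e35ab7df2df262156) (.leaf 0)) (.node (.leaf 0x38940daf000024cd22dc47fc167184915280007e55217d2cb486) (.leaf 0)))) (.node (.node (.node (.leaf 0x1860479e0000087b198a19890c270416d7569697303203149049) (.leaf 0x52072fa80000426c519739861ea104f49f49d2f20e332a214180))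 (.node (.leaf 0xcf3317c00011e1b41783a2b08378474c65aa7dd1fe13241d335) (.leaf 0))) (.node (.node (.leaf 0x31f1067000012942ff6301504a285f19d52b05f0882f93332cb) (.leaf 0)) (.node (.leaf 0xd4742bb00012c694d2f4c5f086604f65967347f51a62315f537) (.leaf 0))))))) (.node (.node (.node (.node (.node (.node (.leaf 0xee3068e0001010b03b003af089704709a72978506a3d50252ab) (.leaf 0x37bc3a5300002f8c2fe5487b16538595921f43f11216f8537333)) (.node (.leaf 0x31213b5a0001149633c033bf14430435a64af4234e36f8537333) (.leaf 0))) (.node (.node (.leaf 0x4d3c033b00010a49031c1e181cc385904d67f3844150de428049) (.leaf 0x31dd3711000049b03f4d2a6d145485b54808f5a94304045be113)) (.node (.leaf 0x69d51f00000207744134412065485b7d51bd5ac3c30e25be113) (.leaf 0)))) (.node (.node (.node (.leaf 0x2ef822290000058c0392090812d78513642151945b372c2c7546) (.leaf 0x27594996000139d81867271310a685370944c6ee3cd34415f000)) (.node (.leaf 0x7a7496b00011a5008c93ca1067504f7016203980e609f149486) (.leaf 0))) (.node (.node (.leaf 0x4a8f0fac00000f431d1929861c7105f18c6151e645b6ad7347bd)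 (.leaf 0)) (.node (.leaf 0x221d4213000027814a1345b90ec185b64919b6ae1881ee428262) (.leaf 0))))) (.node (.node (.node (.node (.leaf 0xd3850b1000103430abc0abb08658517be04179b1c61d241d6de) (.leaf 0x26374dc90001346236fa506b106284f7735b31ef64636a049156)) (.node (.leaf 0x39383dea00011762384b1f9916838515e65616b31ad5385372ab) (.leaf 0))) (.node (.node (.leaf 0x129113a900010cc2240719d00a348431ed6bb0f044a4d904968a) (.leaf 0)) (.node (.leaf 0x30a8298c000123e12a532e6f143305141a3e076633b186214621) (.leaf 0)))) (.node (.node (.node (.leaf 0xf5131af000007e417f217f108a48434c97fb5a97cb7407d968a) (.leaf 0x22f44cdf000040842ccd489f0ed784975d6d92b02ee43b32d7d9)) (.node (.leaf 0x33fd1b6700001d5633a826f6149785b2af22938a80256255a2ab) (.leaf 0))) (.node (.node (.leaf 0x24390ad7000111e62ed02ecf102385310547b6bd6c15c726212d) (.leaf 0)) (.node (.leaf 0x3d421cb900012b5c4c0d434f18450452ca48f69274e20e518786) (.leaf 0)))))) (.node (.node (.node (.node (.node (.leaf 0x4a371dcb00000225074207411c6284f2e56340120ca4b5333025) (.leaf 0xdcd28fe000131da4fc24fc1087605b40975e6cf0093867b2486))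 (.node (.leaf 0x38ac2973000115f33612361116720594190a707a67f6b570b6de) (.leaf 0))) (.node (.node (.leaf 0x1f091f0100000b8804f821130e440533103a90fd5591775be7b2) (.leaf 0x23c280b15d30001536b53fe268410c105721d1e960b0247612c7586)) (.node (.leaf 0x36834b1f0001222a3fd51ac0163204772f7a00a346d123335786) (.leaf 0)))) (.node (.node (.node (.leaf 0x12060d73000006b514bd14bc0a2404d14e40c1346a44b1049113) (.leaf 0x47b6097c00003ce252594eb61af384d0e54034796147e20005be)) (.node (.leaf 0x4ed81aa800011bcc300b3e931e3485129953a3870566b570b15f) (.leaf 0))) (.node (.node (.leaf 0x3cc94fa7000010910f8a2c3718340537a319f5505093f412d113) (.leaf 0)) (.node (.leaf 0x32972113000129574b614b60147184f3491063987de2472cb486) (.leaf 0))))) (.node (.node (.node (.node (.leaf 0x1c8b37f7000004630e200e1f0cd10575593ff19175d390428124) (.leaf 0x27131137000136fa3462359c10a28471af4556ee5ad322049586)) (.node (.leaf 0x2cf3469000018da2c1d1e96049605f50e6141e00770cf28f32d) (.leaf 0))) (.node (.node (.leaf 0x29fc36cf00010e0026cc26cb10f68595407103271aa6e915f518)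 (.leaf 0)) (.node (.leaf 0x3d844154000025b2489f2a2c185104963a3c46565691781562cb) (.leaf 0)))) (.node (.node (.node (.leaf 0x49261365000109141b1019411c4304d1e55480c851f3456de049) (.leaf 0x52c31f8f0001446f20df525f1eb404731d7cb0817a812333515f)) (.node (.leaf 0x41d412f400011ee93f482f4b18f48491d94cd7052c317a12d24d) (.leaf 0))) (.node (.node (.leaf 0x66a35b20000133d314f1029064705552d1971460a764f537333) (.leaf 0)) (.node (.leaf 0x33800c9300002d5c12ef4dae14920411311da75c3a64765fc32d) (.leaf 0)))))))))

/-- part of a table -/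
def entries124 : Trie := (.node (.node (.node (.node (.node (.node (.node (.node (.leaf 0x32d5f20dd0000004000ee00ed12a685f33f76f30c2a873a7b2586) (.leaf 0x2d0a450100012df32d48279512a205569113b45a7ad4b1049000)) (.node (.leaf 0x241f0b570001139632002faa102285f1103b230042434d049000) (.leaf 0))) (.node (.node (.leaf 0x3cb71fff000109661bdd1bdc183384f3256a84870377b6586333) (.leaf 0x32f914a6000145ac53b552d1147785320136d7ef23d43d7865be)) (.node (.leaf 0x53df0d9100001f531fba42d11ed485f1511842a440c34a2ab15f) (.leaf 0)))) (.node (.node (.node (.leaf 0x30e6261c000104ae01590efd143704d3c26016757cb04b149621) (.leaf 0x1ef2b011e08000037c050fa2af512410432ed4835f824563c7bd586)) (.node (.leaf 0x3fc2337e00011938108f3b0318950454f779143768167e518428) (.leaf 0))) (.node (.node (.leaf 0x42e4428500000e4e0579277b1a350496543a145c37e13e586149) (.leaf 0)) (.node (.leaf 0x73f521e0001262c48f93574066585f7d87096cf6c7207149537) (.leaf 0))))) (.node (.node (.node (.node (.leaf 0x1e5030fb0001026c082808270e268414bd6740117cc1a068a124) (.leaf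 0x245e4db10000327d4bd31430102685d7710f66aa07b2d87b2000)) (.node (.leaf 0x439425060000165516a5369f1a518493a93ac7fa10d79f518786) (.leaf 0))) (.node (.node (.leaf 0x41200a7200000bd421da21d918e30410fc0bc7ef57e7b50005be) (.leaf 0)) (.node (.leaf 0x2a82391f0001229c1427076112320455757f145a2ac34d049000) (.leaf 0)))) (.node (.node (.node (.leaf 0x983077c00010700158a158906b20470ae5ec0c32757fe335786) (.leaf 0x5a61b7b00003dc62f552f3804f304d2b154011d53617b2cb5fc)) (.node (.leaf 0x3615388f00011c33290f077c162284b56878065610f4da3332cb) (.leaf 0))) (.node (.node (.leaf 0x1c1c1d89000110e605582cd20cc18592de55226e28b0cc428124) (.leaf 0)) (.node (.leaf 0x41b400d6000129d940390c3e18f384901423e7ef0740260005fc) (.leaf 0)))))) (.node (.node (.node (.node (.node (.leaf 0x493b09b100010152049b049a1c438570e917329e75e17f55a049) (.leaf 0x4bc122890000300e3d744f031c9504336d59128022e2406de2c7)) (.node (.leaf 0x17fa40fe000114ea345b345a0af68556317bf1662294987b2486) (.leaf 0))) (.node (.node (.leaf 0x304d3ef500000a9b14621ed4142605b5fe40b0a35d5218113786)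 (.leaf 0x4e007ac00014b4d429047cc04d50410b56d96cc04c43b32d214)) (.node (.leaf 0x2fbe18a6000120ec447b447a12f285d26644710c69e6ed7d9518) (.leaf 0)))) (.node (.node (.node (.leaf 0x4b7d1bd8000105d60a3f10be1c8685b2ba49e21154171328f2c7) (.leaf 0x23d015f700013a9518ee52370ef584121f37e0122e61cd214025)) (.node (.leaf 0x23318600001ab039793d2804450474c73db2d236e4cc6de734) (.leaf 0))) (.node (.node (.leaf 0xdb818d500010f9b0ab32a36087585126c2ac1b862265318055a) (.leaf 0)) (.node (.leaf 0x46a216e8000027f9133d4a6b1ab204523a4b03b639d0a912d214) (.leaf 0))))) (.node (.node (.node (.node (.leaf 0x3a1f2ba90000038c0b9a0b9916c185f44a5a13530b102032d214) (.leaf 0x22b148d8000034fe295930eb0ed28436f427359b1336ba18b180)) (.node (.leaf 0x878198c000017c138d40daa068785127b67950f06b7815372ab) (.leaf 0))) (.node (.node (.leaf 0x30af1d1500010d0f24ae1414143305f2d31511e26c64c5734621) (.leaf 0)) (.node (.leaf 0x40a23d8e0000246047a33c0818b20455de73c6cc2c658b546734) (.leaf 0)))) (.node (.node (.node (.leaf 0x235d28ab0001083118c618c50ee585b4034a41ca35a32b214025)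 (.leaf 0x1e9a1bbd0000416e363d2e2f0e348552b86912a419f4a83337b2)) (.node (.leaf 0x191c252800001db9410241010c448593ab4c11203501775fc7b2) (.leaf 0))) (.node (.node (.leaf 0x74742000001124015171c2f066604f64809c79b3a539268a6de) (.leaf 0)) (.node (.leaf 0x2ae22b6000012be2412035a4123704544602c39f60930818012d) (.leaf 0))))))) (.node (.node (.node (.node (.node (.node (.leaf 0x1d7020e6000000c802c802c70ce684134221769a6f21a068a025) (.leaf 0x464841eb00012efe3521309d1aa40516455dd1342053f4546113)) (.node (.leaf 0x7b82ebe0000143e331e331d067585148a7a17e42dc202149537) (.leaf 0))) (.node (.node (.leaf 0x177b2c2c000009fe1d5c1d5b0ae685745452e71130618e7b2486) (.leaf 0x25d20f3b0000482a50f0093e105584517c62560b3392e4025586)) (.node (.leaf 0x510901ae0001201a25f020eb1e8105302872a67864a33e48670a) (.leaf 0)))) (.node (.node (.node (.leaf 0x107e522f0000054104c610a108c785d7da7d84f25094d62c770b) (.leaf 0x3a7322810000392a519915b416c784736d1b617253a48c32d335)) (.node (.leaf 0x11662b1a000119f308a33c1f08e604d4413097e425862315f537)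 (.leaf 0))) (.node (.node (.leaf 0x2fab14c200000ef31a4528df12f205720513b64739b4b1049156) (.leaf 0)) (.node (.leaf 0x3eac06180000270e460949bd18720590914f807e73217a12d486) (.leaf 0))))) (.node (.node (.node (.node (.leaf 0x4f3d09bb000102fc09e309e21e4385b0e95f51853ca42055a7d9) (.leaf 0x3aa93362000033c24ee6506416d20534f612945c10658f18b295)) (.node (.leaf 0x96f19340000170a37c137c006a705f27420a675079195214621) (.leaf 0))) (.node (.node (.leaf 0x2c071ad700010c741ff42354126104f29d3e761248a66a124518) (.leaf 0)) (.node (.leaf 0x3582038b0001237622e946db14f104505252c7e456b2b6149486) (.leaf 0)))) (.node (.node (.node (.leaf 0x3cc0261d000007991727172618340413c26f35506041a412d113) (.leaf 0x172f070f00003f8d4f23055f0ae305f0a658825f4823141245be)) (.node (.leaf 0x1490a0200001cf63c1c401704660530f11b223769621811355a) (.leaf 0))) (.node (.node (.leaf 0x513e1660000011902e2c1c2a1e8285d22b0512117cd3465be70a) (.leaf 0)) (.node (.leaf 0x3eb6211600002ad748933e26187284d3493313980e665c546486) (.leaf 0)))))) (.node (.node (.node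 (.node (.node (.leaf 0x3034035000001e00660065f04a204761e1ba6922337fe335786) (.leaf 0x4c4d3e0b000031394c7727f81ca405b5e863807f0ae4da33315f)) (.node (.leaf 0x2de44c660001159a3584324112b704974e37839f7311ec12412d) (.leaf 0))) (.node (.node (.leaf 0x152d1eef00010b39205620550aa305b3097d44250e527a180333) (.leaf 0x4b0f336400004f4c49f753a71c8105f4f62992f852d64f48670a)) (.node (.leaf 0x426009d6000021c7455145501a250410ed442668151026586149) (.leaf 0)))) (.node (.node (.node (.leaf 0xb228510001066b13e713e604558453fd01a5760fa17f6de214) (.leaf 0x2766274500013c23528c37ce10a704d3e01306bd7f138c26212d)) (.node (.leaf 0x1bf23c5100011b6b3e140f570cb78455c41a814c14425a2cb049) (.leaf 0))) (.node (.node (.leaf 0x284c1093000110402b90291010c50591a11166ee30711170a586) (.leaf 0)) (.node (.leaf 0x66d32b1000028eb1ed447c0064705b4e521a7641626f8486333) (.leaf 0))))) (.node (.node (.node (.node (.leaf 0x3f1b0d37f30001041a0d480d470ca105b55917559b75d2832cb41d) (.leaf 0x5371ce00001363e513b113204e384f2cf0b107c2d325a7865fc)) (.node (.leaf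 0x3f78144a0000187d209c39f618878511fa6036075871781562ab) (.leaf 0))) (.node (.node (.leaf 0x4f09020200000db2261a26191e4105302e4467037e3538486262) (.leaf 0)) (.node (.leaf 0x224b0db20000254033bd48470ec40571530a407f6573b818b15f) (.leaf 0)))) (.node (.node (.node (.leaf 0x742e4d000108c808fd185a044784948168142554b538486333) (.leaf 0x507d2e16000143592e32206f1e6685b47d2543fb27818a68a025)) (.node (.leaf 0x23ce42d000011e870a79148c0ef505d65d02f01270c600214025) (.leaf 0))) (.node (.node (.leaf 0x7011dfc000012ee30ad30ac06640432ec77658358470d33524d) (.leaf 0)) (.node (.leaf 0x2b411a1200012ce42a2e369b124504328a0c730c7aa5067bd586) (.leaf 0)))))))) (.node (.node (.node (.node (.node (.node (.node (.leaf 0x30cd33ab00010083003301df143605b4fc5490061f34971132cb) (.leaf 0x44904fcc00012e774e3f0e011a718417a662a5df0e613e5866de)) (.node (.leaf 0x21322fbc000013ed0eec328b0ea28454a049a4d861622c70b262) (.leaf 0))) (.node (.node (.leaf 0x4ffb3115000009b21c9b1c9a1e568574bf44959b5ad7d624d41d) (.leaf 0x52242909000046ea380a08fe1ea304940b4964fb2ce203149049))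 (.node (.leaf 0x34e087700001fb9132a32d104a605d0ce50705f1d728768a2cb) (.leaf 0)))) (.node (.node (.node (.leaf 0x214024ab000104f80fd30fd20ea40413a149c5164f30756217b2) (.leaf 0x28d40b47000038824216234c10d584910f46770809a5c82c7586)) (.node (.leaf 0x2eb206be0001199112c23b8e12d38450a077f39f75e75b70a12d) (.leaf 0))) (.node (.node (.leaf 0x294815c400010e9e2829282810e505121b1a537f63955f124156) (.leaf 0)) (.node (.leaf 0xc7031810001269921bb495b08278414c711b3e429727041d335) (.leaf 0))))) (.node (.node (.node (.node (.leaf 0x189d323f000102b3019309030c3485b4d778e1203ae04a3337b2) (.leaf 0x44be1486000033203d4d041a1a7285d1ff3667e42dc80412d537)) (.node (.leaf 0x4eb01548000016b1372e20691e3384120f35c1f771f1ea2cb049) (.leaf 0))) (.node (.node (.leaf 0x27aa1c3800010c2403b9229510b30552c05f00c4553132180546) (.leaf 0)) (.node (.leaf 0x26c244c50000230446792de0107504568c27b7583c678b180518) (.leaf 0)))) (.node (.node (.node (.leaf 0x94f46b400000750165b165a06a605f6c21d643142f4e168a786) (.leaf 0x1aa6429300003ea452f14f9e0c9204d6570bd2417620435be2c7))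 (.node (.leaf 0x1cd8013d00001c9b3f973f960cd485101b40669902958f18b15f) (.leaf 0))) (.node (.node (.leaf 0x13c544180001113b0575195e0a7604b67c59d7390303c17b2537) (.leaf 0)) (.node (.leaf 0x4b954e8e00012a5136154c0b1c9184b78468649b0dd10e48670a) (.leaf 0)))))) (.node (.node (.node (.node (.node (.leaf 0x1bee506f00000199057c057b0cb705d7b370e4d46490342cb049) (.leaf 0x1de2419e000130af442d33090cf604564064c2f43ac28768a025)) (.node (.leaf 0x11ab46a80000153e34f234f108f30576c13710f43c94de1245be) (.leaf 0))) (.node (.node (.leaf 0xedc26f600010aea1f941f9308958593d839b4373c20db7bd428) (.leaf 0x6ce1b2c00014d233adf505a065605d2a958a45c1280cf28f295)) (.node (.leaf 0x32b30c450001216336e80d89147284712929707a0096cd70b6de) (.leaf 0)))) (.node (.node (.node (.leaf 0x2670022e0000061f1318017b106684103078c1ef77f3c115f156) (.leaf 0x47883f2f00013b5145984bbd1af20516046f425d68e1a4546486)) (.node (.leaf 0x345e308700001b0e370d11f214c485d4b43546e262b52018b68a) (.leaf 0))) (.node (.node (.leaf 0x2e0b23be00000fec2ae02adf12c105738b7415f87ad2d92c7000)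 (.leaf 0)) (.node (.leaf 0x340216ed0000287413622ce014c104523a7de06444448c32d734) (.leaf 0))))) (.node (.node (.node (.node (.leaf 0x4b441ae8000003d30c750c741c850492a14c86787df56255a2c7) (.leaf 0xaaa43bb000035a928b13cca06d30556736c77dd217626428335)) (.node (.leaf 0x495244970001181f396a16af1c448456863523877352fa5be7b2) (.leaf 0))) (.node (.node (.leaf 0x2ae0c7e00000d602569009f049305d12f7fd2cd59208255a18b) (.leaf 0)) (.node (.leaf 0x27bc46d2000124cd2cfc332610b38596c60d155631f1d2180546) (.leaf 0)))) (.node (.node (.node (.leaf 0x742608217c0001087b198b053a10610513547ad1ef409435124156) (.leaf 0x142120b70000426d536752c50a8304333c4c650f1b360e7bd2ab)) (.node (.leaf 0x1a460f8200011e1c417909e80c8504d18819e6782d566e48670a) (.leaf 0))) (.node (.node (.leaf 0x1e2830ae0001129405ef30160e250514b75d5104001783734180) (.leaf 0)) (.node (.leaf 0xfa84a6300002c6b4c95210608b305171f11b3e431127041d335) (.leaf 0))))))) (.node (.node (.node (.node (.node (.node (.leaf 0x4a540fd50000010c03b203b11c658491902aa2a00840c22957bd)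 (.leaf 0x43fe4fa900002f8d4ec6475d1a5785d7a33104f25297db15670b)) (.node (.leaf 0x517a06d80001149733c233c11e868550a25923fa4df7d624d2c7) (.leaf 0))) (.node (.node (.leaf 0x176851ac00000a4a0f541e190ae60517ce3ca4b32e82947b2486) (.leaf 0xa5941aa000149b142b14f3b06c48536414b95730bb2262ab68a)) (.node (.leaf 0x309709690001207744142952143284f0e45092c24ab250335786) (.leaf 0)))) (.node (.node (.node (.leaf 0x1afe0ca60001058c117911780c9685d1331b32b47524ea24d2c7) (.leaf 0x45d4f7d000039d952170c0404c485b79e7785736a55b72ab113)) (.node (.leaf 0xf8f2b7300001a513ca2351b08b105f4472747b449d38c124295) (.leaf 0))) (.node (.node (.leaf 0x417a32ad00000f452988298718e58554e46b06a306d11858655a) (.leaf 0)) (.node (.leaf 0xdc9133600012781270f15fd08760531de4151665630cb7b2537) (.leaf 0))))) (.node (.node (.node (.node (.leaf 0xc983ed2000003440abe0abd08348515fb2b75ac5474d97d968a) (.leaf 0x3a214d2400003463288c4aa916c204376326362d5c22262ab149)) (.node (.leaf 0x32a43a6300001763384d384c147204959315079b4bb7f962155a) (.leaf 0))) (.node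 (.node (.leaf 0x13f1441c00000cc3240924080a7784367c6947ef4050bf2625be) (.leaf 0)) (.node (.leaf 0x4bb60d89000123e3474911371c9284d1505871b42a92fa5fc2c7) (.leaf 0)))) (.node (.node (.node (.leaf 0x434c03bd000107e417f417f31a450590556c443130e3da5182cb) (.leaf 0x4b4fb0000040853c30533904460577a520c65100a6d028f295)) (.node (.leaf 0x2a5b238e00001d5740831a7512268573857bf30c11c2f17b2000) (.leaf 0))) (.node (.node (.leaf 0xdd27d94a2a000011e8109b2ed110b68537195cd60b7976e915f000) (.leaf 0)) (.node (.leaf 0x5024145e00002b5e37704c9f1e620491fb6423fb505543335025) (.leaf 0)))))) (.node (.node (.node (.node (.node (.leaf 0x3b2c3cbe000102250744074316e30595cf74e7ac20f5ae7345fc) (.leaf 0x185c0d3b000031dc375849290c268591405c51913a103f68a124)) (.node (.leaf 0x3f9136a7000015f536143613189184353e4b20cd46a04715632d) (.leaf 0))) (.node (.node (.leaf 0x41bb20ab00000b892115211418f385733b5da28e1e51185865fc) (.leaf 0x23d28892589000053ae4ec8537210d10533b454f60b02b72c2c7000)) (.node (.leaf 0x411041b80000222b45a8458218e284164246f1cf5d279012d486)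 (.leaf 0)))) (.node (.node (.node (.leaf 0x321f0040000006b6134a14be146185f00700b25d2f6247786486) (.leaf 0x22e140a300003ce430ac32d20ed704362a0d414c3a262f32d7d9)) (.node (.leaf 0x138b2ae100001bcd0a843e940a7405743c13b6664b974704928f) (.leaf 0))) (.node (.node (.leaf 0x101d291e000110910ad92c3808c185b40c76072b4ae30270a786) (.leaf 0)) (.node (.leaf 0x49d24449000029594b634b621c5484568154c6996090c95fc7b2) (.leaf 0))))) (.node (.node (.node (.node (.leaf 0xd5f27db000104630e220e21086685f3ec59f7393ff5a77b2486) (.leaf 0x15393517000036fb30a816cf0aa385351f3077dd7e71d241d333)) (.node (.leaf 0x48511a3e000118da3a7e08431c2484328c77d1204a509770b15f) (.leaf 0))) (.node (.node (.leaf 0x316333b600000e01222226cd14460474fd2d37d21147d628f295) (.leaf 0)) (.node (.leaf 0x4d1a2cb2000125b224fd1c301cc28554600fb3017ad34a18b180) (.leaf 0)))) (.node (.node (.node (.leaf 0x3fb2400f000009151b121b11189384561a79d42661f67e5182ab) (.leaf 0x1b4b4a3a0000447a21a74bda0ca405771a4895167792f062115f)) (.node (.leaf 0x9a6082200001eea426a24bf06b304d0be1df6025d126a14970b)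 (.leaf 0))) (.node (.node (.leaf 0x4287391b0001133d315131501a3204f5756497ed2891e412d734) (.leaf 0)) (.node (.leaf 0x4c5e1ac900012d5c4daf11771ca485d29b52b1b76852f933315f) (.leaf 0)))))))))

/-- part of a table -/
def entries125 : Trie := (.node (.node (.node (.node (.node (.node (.node (.node (.leaf 0xecb27950001004000f000ef08950573e73777547d735f025428) (.leaf 0x768521c00002df44df620a106670517d868f4797375b47345be)) (.node (.leaf 0x530d158f0000139723b115f71ec205b21677318346861d2ab41d) (.leaf 0))) (.node (.node (.leaf 0x10632313000109670ef01bde08c704737815b05b4841cc2c7621) (.leaf 0x6e4c24000045ad3d834bde044705d7462997dd7b064f486333)) (.node (.leaf 0x1ddb4a3c00001f5419f242d20cf585771a49d3fb42132a214025) (.leaf 0)))) (.node (.node (.node (.leaf 0x4a21102261000004af0eff0efe0ea184136904e0727b321c78641d) (.leaf 0x760129c000137c138c1519a06670411d36fb7ac61132b7345be)) (.node (.leaf 0x50db123a000019393b053b041e758571c66063d351c57d2957bd) (.leaf 0))) (.node (.node (.leaf 0x2f8f0c2000000e4f277d277c12f105f1260316124e577a180518)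 (.leaf 0)) (.node (.leaf 0x3c7b33100001262d461848fa18258574ee00145c30e47c586149) (.leaf 0))))) (.node (.node (.node (.node (.leaf 0x424203a80000026d082a08291a240450544b05f778e0a912d68a) (.leaf 0x140b3a970001327d4fff47800a8105759642900507177702532d)) (.node (.leaf 0x4d9a39020001165536a0178a1cd28555722646c36e75202ab41d) (.leaf 0))) (.node (.node (.leaf 0x346a0fe400010bd4039e21db14c705519228516e15017432d335) (.leaf 0)) (.node (.leaf 0x36ed47230001229d46114610163705b6cb1c905b484265295621) (.leaf 0)))) (.node (.node (.node (.leaf 0x3e38293e00000701158c158b186285140f5cc7392f61a412d486) (.leaf 0x2131b023c9800013dc830520e1b0ca10455cc4b41832b917b78641d)) (.node (.leaf 0x287f1b5e00011c343f0f3f0e10c785f2ae7d839e4594d62c712d) (.leaf 0))) (.node (.node (.leaf 0x2c64105b000010e72cd319db126604919b42e5ab7010cb7b2156) (.leaf 0)) (.node (.leaf 0xf2b4b27000029da14561a4608a30577305397dd4ba30841d335) (.leaf 0)))))) (.node (.node (.node (.node (.node (.leaf 0x452f104c00000153049c03891a8305f19a6f250f0e97e91562ab) (.leaf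 0x15f0074e0000300f2bea4f040ab68410ab78206418f55c15f214)) (.node (.leaf 0x20e542af000014eb345c29230e9604b6585992411c73de24d70a) (.leaf 0))) (.node (.node (.leaf 0x1b0b204b00010a9b1ed50a140ca105733153b18353c03478641d) (.leaf 0x21b93c0800004b4f46f953bc0eb28535bb53027f6dc44b70b262)) (.node (.leaf 0xa81536f000020ed447d447c06d20437fb7eb3ce5b857418b295) (.leaf 0)))) (.node (.node (.node (.leaf 0x364511e1000005d7124d124c162604b1c11c452a6502ad1132cb) (.leaf 0x1807307e00003a9619ee402d0c2404f4b27381dc3661a23357b2)) (.node (.leaf 0x240b0b8900011ab02c763d2910220571154663340b53227d9586) (.leaf 0))) (.node (.node (.leaf 0x294f4bce00000f9c2a37274d10e505f73e7aa0b34292df262156) (.leaf 0)) (.node (.leaf 0x4ee602a7000027fa4a6c28701e3504d03a2f530f50e03478641d) (.leaf 0))))) (.node (.node (.node (.node (.leaf 0x27c74de40001038c01010b9b10b604f77544f6ee7af2d815f000) (.leaf 0xd462db9000035022c724d13086604d47344f07e3a573a15f537)) (.node (.leaf 0x1f973203000017c238d638d50e5484f4d21151b76766c55fc15f) (.leaf 0))) (.node (.node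 (.leaf 0x195a49a800000d1024b024af0c4685570c48207232c1e824d180) (.leaf 0)) (.node (.leaf 0x45991c9b0001246147a40cd71a918532c83ac39954879f51832d) (.leaf 0)))) (.node (.node (.node (.leaf 0x200d4fd700000832075618c70e8105b7a730643f5b54646de2c7) (.leaf 0x43e34a5500014172379e42bc1a5704771e4b705b64247a156621)) (.node (.leaf 0x5023035300011db9410441031e6204704f1f50ec117234333025) (.leaf 0))) (.node (.node (.leaf 0x144308ab000012412f6d2f6c0a850470d366b4e87023b002532d) (.leaf 0)) (.node (.leaf 0x48814b1700002be337791b891c3204372f36c26e5aa7f9621262) (.leaf 0))))))) (.node (.node (.node (.node (.node (.node (.leaf 0x386b2140000100c802ca02c9166705734f12828e16817b2cb5fc) (.leaf 0x230e4b0b00002eff4e824e830ee105d72d59e1e64d704b2957bd)) (.node (.leaf 0x24b02f970001143e3320331f103384149e3d16557671ec12412d) (.leaf 0))) (.node (.node (.leaf 0x25e3247c000109fe1d5e1d5d105704739c62539e3592e4025546) (.leaf 0x42892c570001483241ad151f1a320534583696802af3e6546734)) (.node (.leaf 0x1f2f1d340000201b41c13aad0e4505f2d538826e6a866e537262)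 (.leaf 0)))) (.node (.node (.node (.leaf 0x37650c6500010541018610a2164604b12e35778f4ae3de24d295) (.leaf 0xfe739960001392a38d551cc08b604f57f30911e04c62315f214)) (.node (.leaf 0x1bc53ff5000119f41e693ac50cb404b61736c14b5f96b562115f) (.leaf 0))) (.node (.node (.leaf 0x45f63f3b00010ef322cc28e01a9784d6056a17851584a115618b) (.leaf 0)) (.node (.leaf 0x283443c50001270e3e6f3b6c10c38496742ec5566bc72c70a546) (.leaf 0))))) (.node (.node (.node (.node (.leaf 0x3fa91047000002fd09e509e4189305319a33678528d3da15618b) (.leaf 0x412912c4000033c34bd9072118e30531d623e7ef4824010005be)) (.node (.leaf 0x42e215b60001170a28b537c21a3504521a3727bc65047c000149) (.leaf 0))) (.node (.node (.leaf 0x4def4bd900010c75235623551cd505f73f465191539174428262) (.leaf 0)) (.node (.leaf 0x815142a0000237746dc2967068284b1f84c14e812e1775fc32d) (.leaf 0)))) (.node (.node (.node (.leaf 0x10143bc800010799023f172808c18495b61d072b2756d870a786) (.leaf 0x3109402c00003f8f2b985317144105361c5f535362042055a214)) (.node (.leaf 0x4827136200011cf639e219d31c2304f1e52ba0c81eb034786049)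 (.leaf 0))) (.node (.node (.leaf 0x35c42d6a0001119005931fde14f404946e4841fd4ec24e33528f) (.leaf 0)) (.node (.leaf 0x12bb51f700002ad84c5339520a358577d53e762d04e66a124295) (.leaf 0)))))) (.node (.node (.node (.node (.node (.leaf 0x1825479c000101e0066100900c2504b6d74f718228b5b421441d) (.leaf 0x29df02cc0000313a406f442410f585f0406417587a52df262156)) (.node (.leaf 0x3e7f52320000159b35863585186785f7de1332e92643bd5865fc) (.leaf 0))) (.node (.node (.leaf 0x4b892f6500010b3a036b20571c9105349a2101b400e7815372c7) (.leaf 0x514e1b8300004f4e53f251201e8505d2b22586787a558055a70a)) (.node (.leaf 0x2287489c000121c71abd37db0ed104f6ec6c74103dc390428124) (.leaf 0)))) (.node (.node (.node (.leaf 0x22e431da0000066c13e913e80ed70494ce31821319f23632d049) (.leaf 0x2d0f182000013c244b18528d12a205f2590d73514544f4049586)) (.node (.leaf 0x278023c00001b6c3e15357e048785103172a68b1150ba4862ab) (.leaf 0))) (.node (.node (.leaf 0x48f03ea8000010412b922b911c358415f536d1822742e7786180) (.leaf 0)) (.node (.leaf 0x4280313a000128eb0ef923c11a320414c15ef68071941f546734)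 (.leaf 0))))) (.node (.node (.node (.node (.leaf 0x2953f520000041b0d4a0d49049284b60808f0cd36f1b15be428) (.leaf 0x372953370000363f513c0f2916430537f54a73e4311781486335)) (.node (.leaf 0xa4b22c30001187d173e39f706c405737123942d73d34a18b68a) (.leaf 0))) (.node (.node (.leaf 0x1a3b2d9800000db3261b0c020c828574714c219c3ac12a5be2c7) (.leaf 0)) (.node (.leaf 0x50e439c10001254031db48481e760495850802575100c51137bd) (.leaf 0)))) (.node (.node (.node (.leaf 0x526f2ee0000008c90a551a4e1ea605f48e0377037e33c768a262) (.leaf 0x44fc46e80001435b378a30061a778596c732c3ee29d0485865fc)) (.node (.leaf 0x360f374600001e8841ed1da3162205f54c2c86561df250333786) (.leaf 0))) (.node (.node (.leaf 0xef194f1dd4000012ef30af30ae0c4605f2e60682da3150d828f180) (.leaf 0)) (.node (.leaf 0x2d62b1400002ce54d7402ea049684d4410e97541387d624d32d) (.leaf 0)))))))) (.node (.node (.node (.node (.node (.node (.node (.leaf 0x13de464b0000008401e101e00a7685d6b25e316656373a7b2537) (.leaf 0x41680d9e00002e782ef54df718e505115164059c19702600055a)) (.node (.leaf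 0x1a01579000113ed067c2b0404750412154e0222069202295537) (.leaf 0))) (.node (.node (.leaf 0x5995303000109b21c9d1c9c04f28537f11425bf37d44b62155a) (.leaf 0x44d13ade000046ed44e4521c1a7484359a6ec71b1d579054628f)) (.node (.leaf 0x4860497500011fb943483d391c2504170232910441b1ea2cb180) (.leaf 0)))) (.node (.node (.node (.leaf 0x4c1d2cb3000004f904db0fd41ca185b4601ac30115e783734180) (.leaf 0x38bd4811000038834cd43926167285b6e31963d00fe7f970b55a)) (.node (.leaf 0x11f24c43000119923b8f0f1208f684574a1eb1cf4c373a7b2537) (.leaf 0))) (.node (.node (.leaf 0x3cf6444d00000e9f282a27aa183584d6816dc3ba06e7b7586149) (.leaf 0)) (.node (.leaf 0xd90341f0000269a495c461908748415057fb63730532e7d928f) (.leaf 0))))) (.node (.node (.node (.node (.leaf 0x414e178d000002b40905090418e405d24a6766ef4c21be54624d) (.leaf 0x4b50538700003325411f50311c8584180045619c4f12b56de70a)) (.node (.leaf 0x1150e7d53e9000016b2372f2eb5088785b8084e927972871402518b) (.leaf 0))) (.node (.node (.leaf 0x7954d7300000c251e4b2296067484b76b2324b82e54da33524d) (.leaf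 0)) (.node (.leaf 0x2303f7e00012304467b467a048384160c7062796e52406de2ab) (.leaf 0)))) (.node (.node (.node (.leaf 0x3309001700000751165d165c14820530023a97d13f80e25be428) (.leaf 0x464200e900003ea53fe852f21aa40450156f050123b80412d68a)) (.node (.leaf 0x50774b4800011c9b3f983cfe1e6684f7325341ca6464e11137bd) (.leaf 0))) (.node (.node (.leaf 0x48d2c660000113c2d852d8404d205b4591683d668f22618b149) (.leaf 0)) (.node (.leaf 0x100c2c6800002a523b2b4c0c08c10594591d30a331d30270a786) (.leaf 0)))))) (.node (.node (.node (.node (.node (.leaf 0x26562dad00010199057e057d106584d4725f05c61de5bc180156) (.leaf 0x1bd2b1a0817000030b019e22c7512418550bd42945a7f7718025000)) (.node (.leaf 0x7904230001153e0b2334f3044785306117176405a33e486335) (.leaf 0))) (.node (.node (.leaf 0x1d4534ed00000aeb1f961f950ce504b51b5e43d36eb6352147bd) (.leaf 0x1264243f00014d274cf84bed0a2704939670f14603827a180333)) (.node (.leaf 0x44a43d6c0000216537dc446d1a720495db4a025d48d3f4546537) (.leaf 0)))) (.node (.node (.node (.leaf 0x142508270001061f131903e70a8304b0be3fd74820d63c7bd18b)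 (.leaf 0x29ca0ae500003b5244fb36a010f50551060ee37f4c766a124518)) (.node (.leaf 0x412456b00001b0f3c3f22ea04c284569f35414810203918b149) (.leaf 0))) (.node (.node (.leaf 0x4a79098000000fed2ae1211a1c668530e600801243c1a068a025) (.leaf 0)) (.node (.leaf 0x43e211a4000128754ac729d31a570451bb3104f25287e9156621) (.leaf 0))))) (.node (.node (.node (.node (.leaf 0x1140245d000103d30c770c7608e404139a6096ef45874004924d) (.leaf 0x1e13d064adb000035ab51035102184104d7284d76927097db5182cb)) (.node (.leaf 0x706129700001820396b3793066404d1d33a06661844b533324d) (.leaf 0))) (.node (.node (.leaf 0xc1a519900010d60256b256a08248557cd34e6623c34b1049113) (.leaf 0)) (.node (.leaf 0x11271fa6000024ce3fbc3ec108e304f31f4407ef00d3142625be) (.leaf 0)))) (.node (.node (.node (.leaf 0x409e180a0000087c198d198c18b185d25657062d1924e2586149) (.leaf 0x2e904df800004270503152e212d18417765053516415c82c7586)) (.node (.leaf 0x22634cd100001e1d1ed1417a0ec704775d06909d4f839032d049) (.leaf 0))) (.node (.node (.leaf 0x50863d6500001295242313121e7104d5db25c3cc7ab32a214025)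 (.leaf 0)) (.node (.leaf 0x3a422100012c6b10af4d30044585564a0a801d04e46355a214) (.leaf 0))))))) (.node (.node (.node (.node (.node (.node (.leaf 0x423f11680000010d03b403b31a2385f1b33727a23c57b6000333) (.leaf 0x3ef447aa00002f8e4ec748b618778496d961747948013e0005fc)) (.node (.leaf 0x21bc42150000149833c433c30eb28596492526a96176b570b124) (.leaf 0))) (.node (.node (.leaf 0x812be106fc00010a4a146d11a312570430a55d97596330db025546) (.leaf 0x4a5b0aab000149b227024bcb1c6585710142f69a46704b1497bd)) (.node (.leaf 0x37b11ff1000020784416441516538433250715f45356be537335) (.leaf 0)))) (.node (.node (.node (.leaf 0x45874bb60000058d117b117a1a9104f73d2cc75413820e15632d) (.leaf 0x41a8104e000039da28f1115d18f305119a74203d0220260005fc)) (.node (.leaf 0x19391dd900011a512ecb3ca30c458532e621a0da3156f8486262) (.leaf 0))) (.node (.node (.leaf 0x226d438d00010f4529891e7c0ec705b6706ff3846f3236428049) (.leaf 0)) (.node (.leaf 0x1f0d4583000127824a142ab70e4405b6a10e407f2ee03b5be15f) (.leaf 0))))) (.node (.node (.node (.node (.leaf 0x3143155319000103440abf00f81a4184b7f35a82c27a115d5182cb)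 (.leaf 0x52ee4991000134634e830cdd1eb605d7090e16ae3eb09568a124)) (.node (.leaf 0x4c3a09c100011763384e28951ca38550eb33d29e73b545149049) (.leaf 0))) (.node (.node (.leaf 0x31bb1a4a00010cc3240b240a145385728d44e16e6da71c537335) (.leaf 0)) (.node (.leaf 0x18294f61000123e4474b474a0c2505379d10234c7cf5ae214180) (.leaf 0)))) (.node (.node (.node (.leaf 0x35a20532000007e517f617f514f304507636407c2f754a7345be) (.leaf 0x4805078e00014085481d08e71c2204b0af6d24d83d77f970b262)) (.node (.leaf 0x50960e9400001d583d6035091e7184d1682c93803ec0b0734025) (.leaf 0))) (.node (.node (.leaf 0x1dc41863000011e92ed32ed20cf50492603e03fb4bd186214025) (.leaf 0)) (.node (.leaf 0x3baf028100012b5e1026361b16f305f03702f11d7ea6002145fc) (.leaf 0)))))) (.node (.node (.node (.node (.node (.leaf 0xa322bbf000002260746074506c384544c7de16e5a048c32d335) (.leaf 0x38072e30000131dc13821a11166104f4800a273900c2472cb486)) (.node (.leaf 0x535e12a7000115f5072927b61ec485d1d440569937008e18b15f) (.leaf 0))) (.node (.node (.leaf 0x25ec107500000b8a21160c47105705919e54155660872e7bd546)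 (.leaf 0x23e26880f6b000053b3536b4d8710710511846e732774155f262156)) (.node (.leaf 0xb1d17740000222c131a45a906e285b2491a35bf4466b56216de) (.leaf 0)))) (.node (.node (.node (.leaf 0x2d260bf0000106b614c014bf12a304d1213cd1940f677a41d546) (.leaf 0x4867278300003ce637ee50c61c2504f3e522a1822741c8786180)) (.node (.leaf 0x43b638ce00011bcd1bed3df91a5384d56c6a15086f567e15670b) (.leaf 0))) (.node (.node (.leaf 0x2da8424c000110920acb2c3912b305164c62c19415927a41d546) (.leaf 0)) (.node (.leaf 0x233548d6000129594b640d7a0ee284b6f41dd1ca35a3fc333025) (.leaf 0))))) (.node (.node (.node (.node (.leaf 0x4b2f45a8000004640e240e231c8205f6a450b3fa69e0135fc70a) (.leaf 0x19c4d5e000036fe4782280604748597687805252634da33324d)) (.node (.leaf 0x13031273000018db3a803a7f0a640471d019d6ef59370704928f) (.leaf 0))) (.node (.node (.leaf 0x119b03c700000e0212b10da408f18570564697e80715ed41d6de) (.leaf 0)) (.node (.leaf 0x37951fe3000025b348a148a0165184b32428a11e0215626de734) (.leaf 0)))) (.node (.node (.node (.leaf 0x3a5910d60001091502b91b1316c48531a829d5ac5476ba2ab68a)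 (.leaf 0x4a4500630001447a53a03da41c6504b00910f38054f08a1497bd)) (.node (.leaf 0x45c11c0500001eeb426c426b1a950432bd3ac39919979f51832d) (.leaf 0))) (.node (.node (.leaf 0x33142a6d0000133e31520fe3148284943063a4e856b4045fc32d) (.leaf 0)) (.node (.leaf 0x29d849bf00002d5e4db015af10f585170e7f05037274a2124156) (.leaf 0)))))))))

/-- part of a table -/
def entries126 : Trie := (.node (.node (.node (.node (.node (.node (.node (.node (.leaf 0x307821060000004100f200f1142785134846e4f250920329570b) (.leaf 0x512801aa00012df54df747ab1e8205102856d6787a54045be70a)) (.node (.leaf 0x3be61f89000113973202320116f604d31d2c03ea1b061368a55a) (.leaf 0))) (.node (.node (.leaf 0x1bff0ca50000096814901bdf0cb785f13312c3847a71c82cb7d9) (.leaf 0x3c021e05000145ad3c34536a18220452ed3a25150211e4546734)) (.node (.leaf 0x4476006900011f543e731fb31a6784d00931511d5841470005fc) (.leaf 0)))) (.node (.node (.node (.leaf 0x2fd31d7e000004b00f010f0012f58472dd7da627135677124156) (.leaf 0x13761290000037c344c617050a6784d1d307b2e918c6772625fc)) (.node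 (.leaf 0x11bf1737000119393b073b0608f385f2432c44791ad4de2625be) (.leaf 0))) (.node (.node (.leaf 0x39f44a9600010e4f277f277e169784972228a8074c15626de2ab) (.leaf 0)) (.node (.leaf 0x2d5437c8000126300dba2efc12a684955560c5f880934415f000) (.leaf 0))))) (.node (.node (.node (.node (.leaf 0x16871bad0001026d082c082b0ad104f2b776869236430470a2cb) (.leaf 0x424e210b0001327e4c293fef1a2405d3485bb55050965c12d113)) (.node (.leaf 0x12515ef00011656074d36a1046504b21e7a17e4774203149486) (.leaf 0))) (.node (.node (.leaf 0x1ddf518400000bd5200f21dc0cf585f7cc10329f2cc4162147bd) (.leaf 0)) (.node (.leaf 0x4d004e6f0000229e461242071cc204178077318309851d2ab180) (.leaf 0)))) (.node (.node (.node (.leaf 0x2e211e7700010701158e158d12c30432fd3c66890f66d870a546) (.leaf 0x4998002b00003dc952184ac11c5185100368641076510e486124)) (.node (.leaf 0xf1a22b500001c35121c08bb08a18553703717b45174de124149) (.leaf 0))) (.node (.node (.leaf 0x14a1296b000110e72cd41c340a930434154812cd00d24b02518b) (.leaf 0)) (.node (.leaf 0x2f7b0aef000029db47f81a7e12e68571067bf6121ed2f17b2156)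 (.leaf 0)))))) (.node (.node (.node (.node (.node (.leaf 0x3ac421d200010153049e049d16d404935c1685f776322618b68a) (.leaf 0xf5085100003010266e4f05045784b0c70ed7a277d33e486335)) (.node (.leaf 0x38de34dc000114eb345d2f26167485d51a6a470511223162128f) (.leaf 0))) (.node (.node (.leaf 0x155752fe00000a9d1ed71ed60aa484f7f07c76e21f534d7d968a) (.leaf 0x4731ed300004b513f8b424304c58473070785761d902032d214)) (.node (.leaf 0x2fe42843000020ee447e20ad12f60493f92e06471352947b2156) (.leaf 0)))) (.node (.node (.node (.leaf 0x20b5290000005d8124f124e04820577e60c62ef0ed6b65fc32d) (.leaf 0x4a2045d100003a9752382d831c620416a703c0120ca3fc333025)) (.node (.leaf 0x3b723dc300011ab108ef094216e68455e41e75bf72a5c31136de) (.leaf 0))) (.node (.node (.leaf 0x26d29ee00010f9c04e62a38048705b4246e46071da10e53718b) (.leaf 0)) (.node (.leaf 0x27741c00000127fc4a6e4a6d10a78492bd0ad0c44934a2262546) (.leaf 0))))) (.node (.node (.node (.node (.leaf 0x515910d70000038d0b9d0b9c1e858531a84c86787a52b555a70a) (.leaf 0x252e5333000135024a1a4daa104305d7f522e55663035f7bd12d))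 (.node (.leaf 0x4ab9148d000117c238d71a221c728531ff7361e652604a3337bd) (.leaf 0))) (.node (.node (.leaf 0x2f370d8f00000d1124b224b112e284f1507c76272a93227d9518) (.leaf 0)) (.node (.leaf 0x51dd0fe50000246233603a841e9585b19228a50c48305d6de70a) (.leaf 0)))) (.node (.node (.node (.leaf 0x13883f960001083218c8027c0a7405160f3593560653b17d924d) (.leaf 0x4d70cf700004174518a535904d484f13a2645731f55202ab68a)) (.node (.leaf 0x28cd134f00011dba37a4410510d505b1df76b1414536192c7586) (.leaf 0))) (.node (.node (.leaf 0x4583463000012420fee0a9c04c485150e1fb5ac5902262ab68a) (.leaf 0)) (.node (.leaf 0x351b249700012be341bc4ce114e18573a042f77271e545149537) (.leaf 0))))))) (.node (.node (.node (.node (.node (.node (.leaf 0x67d2300000000c902cc02cb064785b37706d48725210e537335) (.leaf 0x13eb2ae700012eff120018640a7705743c3d85e242c2422625be)) (.node (.leaf 0x1fe43b660000143f33210a830e570495a82383841434fa55a049) (.leaf 0))) (.node (.node (.leaf 0x4c381379000009ff18331d5f1ca38511e75550836732672957d9) (.leaf 0x53b00e32000048332a173e311ed38411600926970df23632d049))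 (.node (.leaf 0x44a2409b0001201b0b211a8b1a720456294b077219b0a912d537) (.leaf 0)))) (.node (.node (.node (.leaf 0xb3c0df00001054210a410a306e38591590152e951943d7865be) (.leaf 0x8001f400001392c46293841068204131608d15a3fe5b25be428)) (.node (.leaf 0x17de52ed000019f52c081c0d0af485d7ee5d43820bd7477d928f) (.leaf 0))) (.node (.node (.leaf 0x36ef24ed00000ef40c6120f5163705f3a673f50846015414970b) (.leaf 0)) (.node (.leaf 0x1afa000f00002710389f49be0c968550017ea2803810d824d70a) (.leaf 0))))) (.node (.node (.node (.node (.leaf 0x345321de000102fd09e6065a14c484735c7705fa78429818b113) (.leaf 0x346331bf000133c318ab506514c70474cb7de16e49c48c32d335)) (.node (.leaf 0x332b18fd0000170b37c305f8148305726f4fc74820d66448618b) (.leaf 0))) (.node (.node (.leaf 0x3238293d00000c760a152357146285140f5300d005856e70b6de) (.leaf 0)) (.node (.leaf 0x18833f1400012377359b3bfb0c340476031f514b0b823433315f) (.leaf 0)))) (.node (.node (.node (.leaf 0x3e519020000079a159e172904b704b27109377c03c78321470b) (.leaf 0x1629473e00003f9253173d0d0ac30536ce7c976633b72c70a621))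 (.node (.leaf 0x1f4207e900011cf725a540180e460450b941a6c34330cf28f41d) (.leaf 0))) (.node (.node (.leaf 0x46783696000011910ef32e2d1aa785153d28b0b44ac401586333) (.leaf 0)) (.node (.leaf 0x4995096b00012ad80fe945b01c5184b0e45a56ae11b0ba486262) (.leaf 0)))))) (.node (.node (.node (.node (.node (.leaf 0x4df712f0000001e1066306621cd584f1d91c63194aa020428124) (.leaf 0x496a23850000313d4b8a45131c460553852a56c31634a328f41d)) (.node (.leaf 0xf4317e0000159c1c36143b04578494c66867dd53010e486335) (.leaf 0))) (.node (.node (.leaf 0x175d014700000b3b205920580ae485b01c43a7330e474004924d) (.leaf 0x33c30abf00004f4f4815159614960471027f575c6810d828f428)) (.node (.leaf 0x5083cf5000021c82b173a0e04e20515d41621b820023f70b55a) (.leaf 0)))) (.node (.node (.node (.leaf 0x2cfd099a0001066c01e313ea127685b0e75c15dc7603c115f156) (.leaf 0xd1f0a0a00013c2719fa528e086485f0f15f27333be34d04928f)) (.node (.leaf 0x42451a1600011b6c3e160d811a2404b28a3505af7363e654668a) (.leaf 0))) (.node (.node (.leaf 0x17154f4c0001104123f32b930ae184b79957f07a21a37b41d6de)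 (.leaf 0)) (.node (.leaf 0x49e81812000028ed3c0923f21c560512580740ea4545cb24d41d) (.leaf 0))))) (.node (.node (.node (.node (.leaf 0x41c0125c0000041c0d4c0d4b18f40411c96ea3746693e612d24d) (.leaf 0x3529028a000036402ed1455e14e30530374f75215925b42145be)) (.node (.leaf 0x21570b1b0000187e39f839980ea484f10a55712013633870b15f) (.leaf 0))) (.node (.node (.leaf 0x708521d00010db313be261c06640517d870058326450a33524d) (.leaf 0)) (.node (.leaf 0x25dd472700002542484930a5105585b6cb39635d02360e7bd586) (.leaf 0)))) (.node (.node (.node (.leaf 0xbec2b08000108c91a501a4f06f505944048b3984dd21c2cb537) (.leaf 0xb68299500014362233552fd06e505141b2bb1cf6cb1ea786486)) (.node (.leaf 0x5280132400011e8841ee14bb1eb10411dd1ac3015881cd73441d) (.leaf 0))) (.node (.node (.leaf 0x322545df000112ef30b028a7146204b6a768349555e56e70b6de) (.leaf 0)) (.node (.leaf 0xd8b0f9300002ce61c9a4074087405718924958348034d7d928f) (.leaf 0)))))))) (.node (.node (.node (.node (.node (.node (.node (.leaf 0x25b6525a00010084002201e2105384d7e04e56bd71f35f02512d)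 (.leaf 0x1c6e271800012e784e414e400cc705d3dc1b62b064939032d049)) (.node (.leaf 0x51d7289a000013ee2e450c4b1e9584f4023f82b45664cc55a2c7) (.leaf 0))) (.node (.node (.leaf 0x108b5296000009b31c9e006e08d10577e643c41205330470a2cb) (.leaf 0x292c026e000146ef469f2be010e20590357351ef4c632e049518)) (.node (.leaf 0x52573dc400011fba228543491ea484f5e421d1767f123433515f) (.leaf 0)))) (.node (.node (.node (.leaf 0x476005a9000104f90fd60fd51ae50410854ce65a1994015866de) (.leaf 0xd0b1f960000388651c833e1086405731e46676d63e34d7d928f)) (.node (.leaf 0x3247006200011993087e3b90146404f00910b55d5846cd62124d) (.leaf 0))) (.node (.node (.leaf 0x221148dd00010e9f282c282b0ec18436f44bb31901b0cc428124) (.leaf 0)) (.node (.leaf 0x4ca909430000269b495d21951cb30530e10aa00f6f72d7295049) (.leaf 0))))) (.node (.node (.node (.node (.leaf 0x18f70904000002b50906019c0c3784f0dc29a09d1702b62957d9) (.leaf 0xa5b2b01000033264464195006c48574400fb5fa70074c18b113)) (.node (.leaf 0x374628eb000116b237313730164404d4085225500022fa5fc113) (.leaf 0))) (.node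 (.node (.leaf 0x30bf277200010c25229721f9143385f3e31035b15cf416214621) (.leaf 0)) (.node (.leaf 0x3d990025000123050d8e467c18518530033c465633d268156786) (.leaf 0)))) (.node (.node (.node (.leaf 0x4c470c09000107510954165e1ca404f1225720fd4552503357b2) (.leaf 0x17f30e6b00013ea9254a52ce0af68471635e31664135a77b2486)) (.node (.leaf 0x461c504800001c9c2c3f1c4e1aa18597b03a145c35c13e586149) (.leaf 0))) (.node (.node (.leaf 0x185b46090001113c074f2d860c268576ac54227f5b0095113124) (.leaf 0)) (.node (.leaf 0x352f48e500012a5323e10fb014e305f6f51d428e65f54a7345be) (.leaf 0)))))) (.node (.node (.node (.node (.node (.leaf 0x12200cb00000019a0580057f0a2504113502403e21b55f262149) (.leaf 0x39310057000130b312fd322116838430084af6b37f57815372ab)) (.node (.leaf 0x2e6d09af0000153f34f42fec12c705b0e87c96893b561970a12d) (.leaf 0))) (.node (.node (.leaf 0x11f12b1f00000aec111e1f9708f68434415cd25d7fd29415f486) (.leaf 0x292217cd00004d2a3ab01a6010e20452524a57584837477d9518)) (.node (.leaf 0x2ebd033100012165356624c812d385b04d21519433c3022c712d)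 (.leaf 0)))) (.node (.node (.node (.leaf 0x363d2b90000006200f64131a162385b44909377c12178321470b) (.leaf 0x25573a4a00003b531a653398104584f5915fd35d3c83b07bd000)) (.node (.leaf 0x1e45418c00011b0f3da43da30e2604b63f5656a93421a0113124) (.leaf 0))) (.node (.node (.leaf 0xb2a212800010fed2ae32ae206e305534b5777ac56c17b2cb5fc) (.leaf 0)) (.node (.leaf 0x2c0e217f000128760ec44ac8126105d35480161243c242124518) (.leaf 0))))) (.node (.node (.node (.node (.leaf 0x26f6349c000003d40c790c78107684d5125c937f7ab2f17b2156) (.leaf 0x243d52b6000035ac1bc14b6f102385b7ea1191e32e04a2262546)) (.node (.leaf 0x36ad2a740001182007f53361163305b4321c05081605ae734621) (.leaf 0))) (.node (.node (.leaf 0x5348021700000d6107a81a6c1ec405102f42c4ca7e64502ab7b2) (.leaf 0)) (.node (.leaf 0x1ac2172c000024d0474247fd0c9504523e6712800d92a748670a) (.leaf 0)))) (.node (.node (.node (.leaf 0x264c383f0000087d198f198e10650595638093270f2414180518) (.leaf 0x411b2cbd0000427149c53b0518e28574605593a81bb804546537)) (.node (.leaf 0x2cea287e00011e1d417c417b12760553ff75f10c2ec5a715f156)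 (.leaf 0))) (.node (.node (.leaf 0x47bb033e00011295269a18481af385704d74f7ef6db1470005fc) (.leaf 0)) (.node (.leaf 0x2e8f001500012c6c4588358612d105f00226c3120ee76170a586) (.leaf 0))))))) (.node (.node (.node (.node (.node (.node (.leaf 0x171941100000010e03b603b50ae18536330b57e81ae6fe41d55a) (.leaf 0xa37477000012f8e3b5c2b3c06c384f6d41011721d605932d333)) (.node (.leaf 0x4de80fc80000149933c633c51cd505118f55e08722062f32d262) (.leaf 0))) (.node (.node (.leaf 0x17442b100000a4b10c71e1a04678496590530f45db6357345be) (.leaf 0x4c8416a2000149b645c33f221cb10492320936dd3f3783214180)) (.node (.leaf 0x40bd504e0001207815b51b8718b285b7b067b72580029112d214) (.leaf 0)))) (.node (.node (.node (.leaf 0x53d83fdb0001058d117d117c1ed485161563e17613b5b718b15f) (.leaf 0x1de838ff000139db331d52180cf60515706da1ca50d2ad1137bd)) (.node (.leaf 0x3e00035a00001a5224e50168186104104f69d07a46516400055a) (.leaf 0))) (.node (.node (.leaf 0x31cb072200010f46298b298a14540570a80bd42d1dd0435be68a) (.leaf 0)) (.node (.leaf 0x3eb4f720001278348a84a1504b705779e0d51e26a560073470b)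 (.leaf 0))))) (.node (.node (.node (.node (.leaf 0x358116a4000003450ac10ac014f104323210d07e01a267295537) (.leaf 0x1d91f5f30ab00003464345545960e4685f4b73e30725e14a324d41d)) (.node (.leaf 0x82020be0000176429de18e8068304133c77b50f5365626de2ab) (.leaf 0))) (.node (.node (.leaf 0x3d941fe500000cc4240d240c185184932436357102112b1562cb) (.leaf 0)) (.node (.leaf 0x2eae028f000123e535e7474c12d305d03777f39f5c976170a546) (.leaf 0)))) (.node (.node (.node (.leaf 0x407e3083000107e517f817f718a785d4b41333e45573bd586335) (.leaf 0x3c1745c60000408652292732182284f6a633168071965c546734)) (.node (.leaf 0x4ba0373e00001d59408540841c9204154b72027d52305e5fc2c7) (.leaf 0))) (.node (.node (.leaf 0x47cc3f0b000111ea2ed52ed41af40596015dd1fd1bd3f454628f) (.leaf 0)) (.node (.leaf 0x427113f500012b5f2bc83ca61a258431f421f14820a7c4586295) (.leaf 0)))))) (.node (.node (.node (.node (.node (.leaf 0x3b741ef9000002270748074716e684930e54e07a4460c568a6de) (.leaf 0x4123121f000031de4fc30e9218e30471c47b32847213bd5865fc)) (.node (.leaf 0x35e53dcc000015f63616361514f604b5e46da65a6862ad11355a)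 (.leaf 0))) (.node (.node (.leaf 0x16070e7a00000b8b088321170ac104f1656104cf5b875b2c7786) (.leaf 0x23f0bdd3655000053b553fd4ee706f485b53923a6371da44b70b24d)) (.node (.leaf 0x39f817860000222d45aa3533169785124a4c32ea4c205d6de18b) (.leaf 0)))) (.node (.node (.node (.leaf 0x173c024d000006b714c214c10ae38590326b903d3df0bf1245be) (.leaf 0x110300cf00013ce61a84212c08e10470107ee07a21a13241d6de)) (.node (.leaf 0x1eb446f100001bce3e963e950e358496c810234c8055b421441d) (.leaf 0))) (.node (.node (.leaf 0x1c652a86000010932c3b2c3a0cc704b43337c0893ae62f4287d9) (.leaf 0)) (.node (.leaf 0xb6c09eb0000295a4ac3055906e50590ee36e3a82722e7786537) (.leaf 0))))) (.node (.node (.node (.node (.leaf 0x35452209000104640e260e2514e404b3626a255d27654333328f) (.leaf 0x4da52f3a000036ff280440021cd304b49455e2b07ba62f32d7d9)) (.node (.leaf 0x182d460b000018dc3a823a810c2505b6ac6501835b032b21441d) (.leaf 0))) (.node (.node (.leaf 0x1f7c1cc300010e0218fb21730e478592cc17c69767b05d55a7d9) (.leaf 0)) (.node (.leaf 0x279d4b83000125b33e02172310b285b7381656aa2717407d9586)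 (.leaf 0)))) (.node (.node (.node (.leaf 0x4ce63a18000009161b151b141cb604d58c3c526e7f65c368a262) (.leaf 0x2a1a2b580001447b20ec48cf12228554454596fa0ab7077d9000)) (.node (.leaf 0x22d624a400011eeb2cc037500ed484d3a126414a6765202ab15f) (.leaf 0))) (.node (.node (.leaf 0x524b184a0001133e250c31531ea405725c46014b61e7fe33315f) (.leaf 0)) (.node (.leaf 0x4838116600002d5f4db14b9f1c238511b32dd14c44f79c2cb7d9) (.leaf 0)))))))))

/-- part of a table -/
def entries127 : Trie := (.node (.node (.node (.node (.node (.node (.node (.node (.leaf 0x150d3c280001004100f400f30aa105b5c04c978f4ae435262295) (.leaf 0x335f1b5400002df62de421b4148685f2ae24f4e85fe6d024d428)) (.node (.leaf 0x3c253ac60000139815b13203182304b5992607a25c5164000335) (.leaf 0))) (.node (.node (.leaf 0x2c56443e0001096804171be0126584d67f7e334160f132180518) (.leaf 0x23844897000045bd4d9a320b0ef10496ec58c3cc4b208a2957bd)) (.node (.leaf 0x36a633d900011f5542d312e2163304d4ff46205b1e754a21470b) (.leaf 0)))) (.node (.node (.node (.leaf 0x2f14274000104b005950f02049784365212e2ea35269c48618b)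 (.leaf 0x10927d7000037c54c3c519b04640533ec3d455d09170d33324d)) (.node (.leaf 0x208724fd0000193a3b093b080e9104f3a766d28048f0826de2c7) (.leaf 0))) (.node (.node (.leaf 0x14b63cad00000e500e3127800a9384d5cd7a51bc2d33b07bd18b) (.leaf 0)) (.node (.leaf 0x48024ad3000126312b0648fb1c220457281612e111b338621262) (.leaf 0))))) (.node (.node (.node (.node (.leaf 0x321a0b680000026e082d022014618551122f54b3092034786537) (.leaf 0x2e1a05660000327f3d794cee12c185507931e30c13d75b2c7000)) (.node (.leaf 0x482a0404000016572dc836a21c2305505c22a6970601c87867d9) (.leaf 0))) (.node (.node (.leaf 0x4472526600010bd521de21dd1a678457e12d607c63e7b70005be) (.leaf 0)) (.node (.leaf 0x356a37e40001229e4614461314e60555582c03ea4a739268a6de) (.leaf 0)))) (.node (.node (.node (.leaf 0x1beb3dac000007021590158f0cb70575e14db1855ef2472cb7d9) (.leaf 0x1c9448ce00013dca4d6c1b1c0cd18496f377431b10a23632d262)) (.node (.leaf 0x2fd83c4000001c363f10266612f58515c202310c69e5c7262518) (.leaf 0))) (.node (.node (.leaf 0x30380ad1000010e82cd62cd514238511051f336126f75073470b)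 (.leaf 0)) (.node (.leaf 0xeef0238000129db47834bbb089705f0314f18070c63b002518b) (.leaf 0)))))) (.node (.node (.node (.node (.node (.leaf 0x1db3338d000001540411049f0cf28474f86043fb4214b5335025) (.leaf 0x42180b5d000130101f0a32e01a228511106ec6cc29a790546214)) (.node (.leaf 0x1012f9051d9000014ec345f345e12f18417d34533414f12f3180518) (.leaf 0))) (.node (.node (.leaf 0x3dcb2ff100010a9d1d181ed818550574a91404cf09b7db5182cb) (.leaf 0xf49266c00004b533a1d4cd108a40533c860913421636b049113)) (.node (.leaf 0x42f522a6000120ef4480447f1a3584b36f32c3ba1c07b5586295) (.leaf 0)))) (.node (.node (.node (.leaf 0x180d252c000105d8125112500c2405b3ab53e5166ec29c33315f) (.leaf 0x525d170e00003a9a281451dc1ea485b23c7801b769f3fc3337b2)) (.node (.leaf 0x13828414a9500001ab23d2a0f8610c50437221d035d02c6d870a000) (.leaf 0))) (.node (.node (.leaf 0xbb3d0411ba00010f9d150a2a3918410491bd6037f224c268156786) (.leaf 0)) (.node (.leaf 0x4f21136f000027fd28382db31e430431e57b12135e305d6de7d9) (.leaf 0))))) (.node (.node (.node (.node (.leaf 0x11cd511a0001038d0b9f0b9e08f405b7c56096ef0af36b04928f)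 (.leaf 0x198f3354000135044ee350d40c5405f4f51f96b77a76b65be7b2)) (.node (.leaf 0x2e813aa3000017c438d81a9c12d10435971176fa7ce5c82c7586) (.leaf 0))) (.node (.node (.leaf 0x2658118300000d1224b424b310658511b611b1ef18927a41d156) (.leaf 0)) (.node (.leaf 0x11d90be20001246247a539e708f485311f1653820bd32e7d928f) (.leaf 0)))) (.node (.node (.node (.leaf 0x345f3be90000083318ca18c914c485f5b94055d320908e18b68a) (.leaf 0x365c44a20001417440fd264816268596870e541209b40a68a2cb)) (.node (.leaf 0x51ca367a00001dbc410741061e9505553b66d2804435806de70a) (.leaf 0))) (.node (.node (.leaf 0x1351127e000012432f6e05c70a668431d078207e3a53c115f537) (.leaf 0)) (.node (.leaf 0x3231fa700002be54ce23a4504a304731f48e2a631a09f295621) (.leaf 0))))))) (.node (.node (.node (.node (.node (.node (.leaf 0x3c8112ef000100c9003502cd18320431d86f37ff59e1a412d214) (.leaf 0x36a034c000012f004e854e8416330415190857442235b473470b)) (.node (.leaf 0x2cbd0edf0001143f2f132674127285b16d7a834111665e049156) (.leaf 0))) (.node (.node (.leaf 0x2f410f72000109ff1d611d6012e50431871f06474c474d262518)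 (.leaf 0x3c0005fe00014835483f3f0c182204108f6ea06473f1a412d214)) (.node (.leaf 0x31ea33a00000201c410f32eb14560554fc05c3ce2b369528f149) (.leaf 0)))) (.node (.node (.node (.leaf 0x31a20a980000054310a610a514530451003fe3f546164f486333) (.leaf 0x50381ebd0000392d50e351b01e6285130578e29f18904a3337bd)) (.node (.leaf 0x3df23eae000119f53c20389418578455f579167513167e51870b) (.leaf 0))) (.node (.node (.leaf 0x159a448e00010ef40c8e28e10ab185568579e3ba08566a124295) (.leaf 0)) (.node (.leaf 0x38512404000127100e1d49bf16648433932774b86a056e62128f) (.leaf 0))))) (.node (.node (.node (.node (.leaf 0x302b0611b2000002fe09e809e7124104d1bd42945a27b777025586) (.leaf 0x2038306e000133c4506750660e828514b072f2f814003b5fc70a)) (.node (.leaf 0x3ee744cf0000170c093737c4187704f68c5d83281d57b65865fc) (.leaf 0))) (.node (.node (.leaf 0x52271e7c00010c760b7d23581ea304f2fd7532135e31542957d9) (.leaf 0)) (.node (.leaf 0x10f346590001237846dd1cb208d78476b948a1a74c076170a70b) (.leaf 0)))) (.node (.node (.node (.leaf 0x132b35540000079b172b172a0a650575263cd5df2d077a41d55a)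 (.leaf 0x34e90c5700013f93250131bc14d705312c5984254890cc32d335)) (.node (.leaf 0x3fca170500001cf8401a4019189505523c3ab3994a747a518428) (.leaf 0))) (.node (.node (.leaf 0x4ea4f35000111912e2f2e2e04d50557973603b346d48c428734) (.leaf 0)) (.node (.leaf 0x293c41da00002ad9140e249710e28596445d05c66933b17d9518) (.leaf 0)))))) (.node (.node (.node (.node (.node (.leaf 0x177252f3000101e1066506640ae68457f024371177b2d87b2486) (.leaf 0x9f72e040001313f236b4f8a06b784f47b1fc6024e660073470b)) (.node (.leaf 0x42192a980001159c358835871a2285343432f5157531a4546214) (.leaf 0))) (.node (.node (.leaf 0x3de11ec600010b3b205b205a18570433064b21a77cb3da156621) (.leaf 0x408510a100004f523d974e3018b104b1a31887bc39113e000149)) (.node (.leaf 0x186e4edd000121c817fa2f460c2705d7917194d410826a295049) (.leaf 0)))) (.node (.node (.node (.leaf 0x8bf35180000066d13ec13eb069385f51f32138a2d134555a18b) (.leaf 0x1d021e1800003c2a4e5d4f6b0ce10452ee41c0126c809f2957bd)) (.node (.leaf 0x473529b800001b6e3e183e171ae384b41e3a15e23df7ae5865be) (.leaf 0)))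 (.node (.node (.leaf 0xa38351a000010422b952b9406c385151f4bb7dd26f1ee428333) (.leaf 0)) (.node (.leaf 0x15210ceb000028ee29554b110aa304313970f1461e7414180335) (.leaf 0))))) (.node (.node (.node (.node (.leaf 0x423e0ad40000041d0d4e0d4d1a2385d1052d67dd26f118000333) (.leaf 0x1e80e7c5273000036413dc603f408878597e31ed6b308f0db02518b)) (.node (.leaf 0x4ac924dc0001187e39f90ec11c750533a56e00ec6902672957bd) (.leaf 0))) (.node (.node (.leaf 0x29c6228400000db4261e261d10f504d36d3715030614de124156) (.leaf 0)) (.node (.leaf 0x81e3953000125420d4d484a068285d57a0510c14ee3465be428) (.leaf 0)))) (.node (.node (.node (.leaf 0x1a53419d000008ca1a5114f10c858476405e719c3ac3405372c7) (.leaf 0x3eca0999000143632b6e538818740550e75ba55d6840a954628f)) (.node (.leaf 0x42a91d1a00001e8941f041ef1a330532d33a10b46c613e586333) (.leaf 0))) (.node (.node (.leaf 0x34c52280000012f030b230b114d404b36d1290f723b22618b68a) (.leaf 0)) (.node (.leaf 0x291e2aba00002ce74d75390510e185d4384aa3276395ed180156) (.leaf 0)))))))) (.node (.node (.node (.node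 (.node (.node (.node (.leaf 0x331d31e60000008501e401e3148285b4d04c14e87021775fc32d) (.leaf 0x375923cf00012e7949c34e42164485338d7c35d34601b15fc68a)) (.node (.leaf 0x11d351e9000113ee066d2f0508f48477d445576a67a32204924d) (.leaf 0))) (.node (.node (.leaf 0x195d252d000109b310e01c9f0c4685b3ab56c12710a7fc28f180) (.leaf 0x296d0798000046f23f9a1e8b10e605b0b133c75852f30b7b2518)) (.node (.leaf 0x3ecd46e900001fbb434a2691187405b6c73aa5836a741f12d28f) (.leaf 0)))) (.node (.node (.node (.leaf 0x2c5e0551000004fa0fd80fd7126585d07803161279477a180518) (.leaf 0x3d273b55000138862f0751c9184304f5a62d46025d17db51870b)) (.node (.leaf 0xf221faa000019940a013b9108a304531f5aa7dd01413241d335) (.leaf 0))) (.node (.node (.leaf 0x18e84d8600010ea0282d08bc0c3705176c3231f7029203295049) (.leaf 0)) (.node (.leaf 0x2d8d19b70001269c17ed18ea12b205b2812ff75713d32e7d9000) (.leaf 0))))) (.node (.node (.node (.node (.leaf 0x2c1e2934000102b509070733126185d40f0ef10c01778d262518) (.leaf 0xd7950b20000332920ea503208678537be0ad5e25324a22625fc)) (.node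 (.leaf 0x1164e061e0a000116b332860f2f1e2204d2ed62b5a202c23170b262) (.leaf 0))) (.node (.node (.leaf 0x1fcb4c9600000c26229922980e5605775226b30169d4ea28f180) (.leaf 0)) (.node (.leaf 0x2da11210000023072b293fb912b30431c409a1940f665341d546) (.leaf 0)))) (.node (.node (.node (.leaf 0x274d1ab3000007521660165f10a605b29a0be3343073867b2586) (.leaf 0x24c31ec100013eaa4ab5484f10360473060a66ee37818e15f586)) (.node (.leaf 0x4de2016000011c9c3f991b121cd504502100c5a20ab059428124) (.leaf 0))) (.node (.node (.leaf 0x476413ec0000113d290c2d871ae50491f365879b39c7ae58655a) (.leaf 0)) (.node (.leaf 0x475b405d00002a5534060a8a1ae485762071773308d6b812d24d) (.leaf 0)))))) (.node (.node (.node (.node (.node (.leaf 0x261b0b610000019b0582058110618571120ee37f18166a124518) (.leaf 0x1c15487e000030b54f274f4b0cc184b6ea73226e2b93cb428124)) (.node (.leaf 0x20ea4c1f0001153f06e534f50e9605574574b49b3ad4a328f70a) (.leaf 0))) (.node (.node (.leaf 0x2b78286c00010aec1f991f9812478513fe6bf19434e0db7bd546) (.leaf 0x30f60f3400004d2b52a94ba6143784d17c1a13767e557d295621))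 (.node (.leaf 0x21f743000000216644b4448b0eb784f6610660896fc25a786049) (.leaf 0)))) (.node (.node (.node (.leaf 0x141b015a00000621131c131b0a8185701f6394e85a577702532d) (.leaf 0x39ec3f0e00013b58196a510c16970596016d32cd32456255a2ab)) (.node (.leaf 0x441f293700001b103da5308a1a6185f40f2243ea3ff11800055a) (.leaf 0))) (.node (.node (.leaf 0x4646034300000fef2ae415501aa404d04e1085f74f66b812d113) (.leaf 0)) (.node (.leaf 0x3ad93c4a000128774ac924fb16d48535c24066e262b22618b68a) (.leaf 0))))) (.node (.node (.node (.node (.leaf 0x14330411000103d40c480c7a0a838470600f368b6db3b002518b) (.leaf 0x24311532000135ae2e7c10b2102384320d0ad0c412f0b226212d)) (.node (.leaf 0x26c11f5500001822396c392f10750433183e86d63ec65341d156) (.leaf 0))) (.node (.node (.leaf 0x23ef42d500010d61256d256c0ef605f65d5070123ab28768a025) (.leaf 0)) (.node (.leaf 0x3e5e523b000124d00d1e47fe186485d7de4f34b83be58b54628f) (.leaf 0)))) (.node (.node (.node (.leaf 0x22e4a6d0001087d19900a75048305d71f5d250f0e917f6de2ab) (.leaf 0x2e6205a70001427152dc536e12c70450853ec3654884d62c712d))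 (.node (.leaf 0x4e02078500011e1e417e417d1e220450af32608740e2f070b124) (.leaf 0))) (.node (.node (.leaf 0x15a44b9900001296301830170ab304973b3077dd01441441d335) (.leaf 0)) (.node (.leaf 0x8450e6800002c6d4d312544068604b1634ff2ef23837924d32d) (.leaf 0))))))) (.node (.node (.node (.node (.node (.node (.leaf 0x19ef335b0001010e03b803b70c5705f4f532169702934555a049) (.leaf 0x51d93c4700002f901b324ec81e958535c22306986394206de2c7)) (.node (.leaf 0x336c1abf0001149b33c72e15148705929a7d768b72005d55a18b) (.leaf 0))) (.node (.node (.leaf 0x19ad323400000a4c1e1c1e1b0c5505b4d71f4191661781537124) (.leaf 0x16d427ea000149b747cf4f900ad58493f05057f24e07892c7786)) (.node (.leaf 0x2e514de60000207b0e4d441712c58437755103305aa11170a586) (.leaf 0)))) (.node (.node (.node (.leaf 0x38c547a60000058e117f117e167404b6d937558348056e70b28f) (.leaf 0x15f7088f000039dc471627720ab684f0d17bf3b34ab2f17b2214)) (.node (.leaf 0x4d2e424b00011a523ca43bc51cc305d64c5a118515902032d049) (.leaf 0))) (.node (.node (.leaf 0x28162a6600000f47298d298c10c184d43045b1413c875b2c7000)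 (.leaf 0)) (.node (.leaf 0x3faf3427000127840e5143ce189305f5073e12ea4824a151818b) (.leaf 0))))) (.node (.node (.node (.node (.leaf 0x27790ace000103450ac30ac210a78531036e75567e674d26212d) (.leaf 0x32a53d6e000134643cd24b06147204b5db5446a348d23f62155a)) (.node (.leaf 0x128529460001176410a214880a3404b4112ff5f71557407d968a) (.leaf 0))) (.node (.node (.leaf 0x531b4b8c00010cc4240e17531ec28577387920f92713b818b180) (.leaf 0)) (.node (.leaf 0x117e39e4000123e741e3474d08e685d5881eb1cf0775a77b2486) (.leaf 0)))) (.node (.node (.node (.leaf 0x2083203b000107e6025817f90e9104732f59569835a4636de70a) (.leaf 0x501b16d2000140891d5b49081e618572390880ec439600734025)) (.node (.leaf 0x2c0d045d00001d5a40863cdd126105b0656606470840bf262156) (.leaf 0))) (.node (.node (.leaf 0x27140c7000111eb1cf30a28048784362c21a68b54c6be4862ab) (.leaf 0)) (.node (.leaf 0xda3197400002b603bb24ca0087504727827b3d00fe78b18055a) (.leaf 0)))))) (.node (.node (.node (.node (.node (.leaf 0x1be2080b00010227074a07490cb70450bc6451853ae1c82cb7d9) (.leaf 0x19c913de000131df183847a50c560531f25996dd4031ab24d41d))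 (.node (.leaf 0x1b733fff000115f61d8436170ca784761773e3a432f347786049) (.leaf 0))) (.node (.node (.leaf 0x8b1fc008f300010b8b05b921180e560410d90740ea5245cb24d41d) (.leaf 0x147227ab000053bb4a7e53770a878453e866b2792ed3b002518b)) (.node (.leaf 0x16fb40fd0000222e45ab35520ad78576317683ed1db3d970a621) (.leaf 0)))) (.node (.node (.node (.leaf 0xee4359000106b714c414c3045705d66b67142564471c486335) (.leaf 0x4502312e00003ce743d144791a810454c06f215a6d37db15632d)) (.node (.leaf 0x3e98050600011bce1b001ee518718510703427e847d7ae00055a) (.leaf 0))) (.node (.node (.leaf 0x266d406e000110932c202c3c106605b62275e6d60f26e97b2518) (.leaf 0)) (.node (.leaf 0x11504ea30000295e2118372e08e484178a06c71b50b65e7d928f) (.leaf 0))))) (.node (.node (.node (.node (.leaf 0x3cdb472c000004650e280e2718348576cb6ab5ac4847dc546113) (.leaf 0x13354d0a000037003fdb48ff0a6584b7603077e80921d241d6de)) (.node (.leaf 0x302d111c000118dd31360e73142305b1ad4d53ed54e1cd214621) (.leaf 0))) (.node (.node (.leaf 0x3fe80fc400000e030da026ce189705118f36380745214d15618b)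 (.leaf 0)) (.node (.leaf 0x40fe02c3000025b517eb48a218b785d04039566c4787e2586333) (.leaf 0)))) (.node (.node (.node (.leaf 0x5744527000109161b171b1604e58496942dd77203a79c2cb537) (.leaf 0x9841f4a0001447d4c3129bf06b204931653e7fa1b529c333786)) (.node (.leaf 0xbcb01c900001eec426d049b06f405702a54776d4ec75562128f) (.leaf 0))) (.node (.node (.leaf 0x4b1702920001133f315531541c8184f0381ae19c62564f53770a) (.leaf 0)) (.node (.leaf 0x2f013d8b00012d5f4db20ca812e10435de65262722e2f3180518) (.leaf 0)))))))))

/-- a table -/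
def entries : Trie := (.node (.node (.node (.node (.node (.node (.node entries0 entries64) (.node entries32 entries96)) (.node (.node entries16 entries80) (.node entries48 entries112))) (.node (.node (.node entries8 entries72) (.node entries40 entries104)) (.node (.node entries24 entries88) (.node entries56 entries120)))) (.node (.node (.node (.node entries4 entries68) (.node entries36 entries100)) (.node (.node entries20 entries84) (.node entries52 entries116))) (.node (.node (.node entries12 entries76) (.node entries44 entries108)) (.node (.node entries28 entries92) (.node entries60 entries124))))) (.node (.node (.node (.node (.node entries2 entries66) (.node entries34 entries98)) (.node (.node entries18 entries82) (.node entries50 entries114))) (.node (.node (.node entries10 entries74) (.node entries42 entries106)) (.node (.node entries26 entries90) (.node entries58 entries122)))) (.node (.node (.node (.node entries6 entries70) (.node entries38 entries102)) (.node (.node entries22 entries86) (.node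 entries54 entries118))) (.node (.node (.node entries14 entries78) (.node entries46 entries110)) (.node (.node entries30 entries94) (.node entries62 entries126)))))) (.node (.node (.node (.node (.node (.node entries1 entries65) (.node entries33 entries97)) (.node (.node entries17 entries81) (.node entries49 entries113))) (.node (.node (.node entries9 entries73) (.node entries41 entries105)) (.node (.node entries25 entries89) (.node entries57 entries121)))) (.node (.node (.node (.node entries5 entries69) (.node entries37 entries101)) (.node (.node entries21 entries85) (.node entries53 entries117))) (.node (.node (.node entries13 entries77) (.node entries45 entries109)) (.node (.node entries29 entries93) (.node entries61 entries125))))) (.node (.node (.node (.node (.node entries3 entries67) (.node entries35 entries99)) (.node (.node entries19 entries83) (.node entries51 entries115))) (.node (.node (.node entries11 entries75) (.node entries43 entries107)) (.node (.node entries27 entries91) (.node entries59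 entries123)))) (.node (.node (.node (.node entries7 entries71) (.node entries39 entries103)) (.node (.node entries23 entries87) (.node entries55 entries119))) (.node (.node (.node entries15 entries79) (.node entries47 entries111)) (.node (.node entries31 entries95) (.node entries63 entries127)))))))

/-- part of a table -/
def ordK0 : Trie := (.node (.node (.node (.node (.node (.node (.node (.node (.leaf 3603) (.leaf 17692)) (.node (.leaf 13482) (.leaf 0))) (.node (.node (.leaf 19958) (.leaf 9426)) (.node (.leaf 547) (.leaf 0)))) (.node (.node (.node (.leaf 16249) (.leaf 13029)) (.node (.leaf 15968) (.leaf 0))) (.node (.node (.leaf 14895) (.leaf 0)) (.node (.leaf 2956) (.leaf 0))))) (.node (.node (.node (.node (.leaf 2056) (.leaf 5945)) (.node (.leaf 17824) (.leaf 0))) (.node (.node (.leaf 304) (.leaf 0)) (.node (.leaf 1317) (.leaf 0)))) (.node (.node (.node (.leaf 10371) (.leaf 20212)) (.node (.leaf 16551) (.leaf 0))) (.node (.node (.leaf 14974) (.leaf 0)) (.node (.leaf 5199) (.leaf 0)))))) (.node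 (.node (.node (.node (.node (.leaf 8340) (.leaf 7804)) (.node (.leaf 17094) (.leaf 0))) (.node (.node (.leaf 18690) (.leaf 15294)) (.node (.leaf 15426) (.leaf 0)))) (.node (.node (.node (.leaf 11251) (.leaf 14433)) (.node (.leaf 21452) (.leaf 0))) (.node (.node (.leaf 8279) (.leaf 0)) (.node (.leaf 1419) (.leaf 0))))) (.node (.node (.node (.node (.leaf 1486) (.leaf 1706)) (.node (.leaf 11604) (.leaf 0))) (.node (.node (.leaf 14647) (.leaf 0)) (.node (.leaf 9099) (.leaf 0)))) (.node (.node (.node (.leaf 4007) (.leaf 17118)) (.node (.leaf 18881) (.leaf 0))) (.node (.node (.leaf 12226) (.leaf 0)) (.node (.leaf 9610) (.leaf 0))))))) (.node (.node (.node (.node (.node (.node (.leaf 12684) (.leaf 7210)) (.node (.leaf 6464) (.leaf 0))) (.node (.node (.leaf 5303) (.leaf 18624)) (.node (.leaf 8422) (.leaf 0)))) (.node (.node (.node (.leaf 11192) (.leaf 12370)) (.node (.leaf 14096) (.leaf 0))) (.node (.node (.leaf 6203) (.leaf 0)) (.node (.leaf 15211) (.leaf 0))))) (.node (.node (.node (.node (.leaf 3535)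 (.leaf 2394)) (.node (.leaf 3995) (.leaf 0))) (.node (.node (.leaf 1438) (.leaf 0)) (.node (.leaf 5472) (.leaf 0)))) (.node (.node (.node (.leaf 15131) (.leaf 1624)) (.node (.leaf 2447) (.leaf 0))) (.node (.node (.leaf 13225) (.leaf 0)) (.node (.leaf 11570) (.leaf 0)))))) (.node (.node (.node (.node (.node (.leaf 16718) (.leaf 13055)) (.node (.leaf 382) (.leaf 0))) (.node (.node (.leaf 301) (.leaf 9529)) (.node (.leaf 11633) (.leaf 0)))) (.node (.node (.node (.leaf 3441) (.leaf 12073)) (.node (.leaf 1485) (.leaf 0))) (.node (.node (.leaf 175) (.leaf 0)) (.node (.leaf 13751) (.leaf 0))))) (.node (.node (.node (.node (.leaf 19190) (.leaf 4015)) (.node (.leaf 21345) (.leaf 0))) (.node (.node (.leaf 9614) (.leaf 0)) (.node (.leaf 10707) (.leaf 0)))) (.node (.node (.node (.leaf 21076) (.leaf 20739)) (.node (.leaf 14993) (.leaf 0))) (.node (.node (.leaf 1500) (.leaf 0)) (.node (.leaf 2232) (.leaf 0)))))))) (.node (.node (.node (.node (.node (.node (.node (.leaf 15383) (.leaf 12298)) (.node (.leaf 9406)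 (.leaf 0))) (.node (.node (.leaf 6457) (.leaf 9954)) (.node (.leaf 15766) (.leaf 0)))) (.node (.node (.node (.leaf 14582) (.leaf 18970)) (.node (.leaf 8577) (.leaf 0))) (.node (.node (.leaf 9685) (.leaf 0)) (.node (.leaf 1743) (.leaf 0))))) (.node (.node (.node (.node (.leaf 2826) (.leaf 13917)) (.node (.leaf 17393) (.leaf 0))) (.node (.node (.leaf 15336) (.leaf 0)) (.node (.leaf 2981) (.leaf 0)))) (.node (.node (.node (.leaf 9712) (.leaf 21460)) (.node (.leaf 2041) (.leaf 0))) (.node (.node (.leaf 14968) (.leaf 0)) (.node (.leaf 6358) (.leaf 0)))))) (.node (.node (.node (.node (.node (.leaf 18514) (.leaf 8378)) (.node (.leaf 8063) (.leaf 0))) (.node (.node (.leaf 6744) (.leaf 4528)) (.node (.leaf 7871) (.leaf 0)))) (.node (.node (.node (.leaf 4236) (.leaf 3895)) (.node (.leaf 18435) (.leaf 0))) (.node (.node (.leaf 9246) (.leaf 0)) (.node (.leaf 11738) (.leaf 0))))) (.node (.node (.node (.node (.leaf 5002) (.leaf 8495)) (.node (.leaf 2217) (.leaf 0))) (.node (.node (.leaf 17282) (.leaf 0)) (.node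 (.leaf 16080) (.leaf 0)))) (.node (.node (.node (.leaf 19872) (.leaf 14693)) (.node (.leaf 5448) (.leaf 0))) (.node (.node (.leaf 13134) (.leaf 0)) (.node (.leaf 9311) (.leaf 0))))))) (.node (.node (.node (.node (.node (.node (.leaf 6018) (.leaf 17774)) (.node (.leaf 2310) (.leaf 0))) (.node (.node (.leaf 1772) (.leaf 2698)) (.node (.leaf 9109) (.leaf 0)))) (.node (.node (.node (.leaf 6909) (.leaf 10886)) (.node (.leaf 5281) (.leaf 0))) (.node (.node (.leaf 13852) (.leaf 0)) (.node (.leaf 4120) (.leaf 0))))) (.node (.node (.node (.node (.leaf 11409) (.leaf 20647)) (.node (.leaf 3651) (.leaf 0))) (.node (.node (.leaf 14803) (.leaf 0)) (.node (.leaf 18574) (.leaf 0)))) (.node (.node (.node (.leaf 16208) (.leaf 14467)) (.node (.leaf 20089) (.leaf 0))) (.node (.node (.leaf 18043) (.leaf 0)) (.node (.leaf 8512) (.leaf 0)))))) (.node (.node (.node (.node (.node (.leaf 20087) (.leaf 5339)) (.node (.leaf 18863) (.leaf 0))) (.node (.node (.leaf 8599) (.leaf 17173)) (.node (.leaf 97) (.leaf 0)))) (.node (.node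 (.node (.leaf 2223) (.leaf 13426)) (.node (.leaf 9158) (.leaf 0))) (.node (.node (.leaf 15394) (.leaf 0)) (.node (.leaf 10158) (.leaf 0))))) (.node (.node (.node (.node (.leaf 2469) (.leaf 3853)) (.node (.leaf 9473) (.leaf 0))) (.node (.node (.leaf 17955) (.leaf 0)) (.node (.leaf 7302) (.leaf 0)))) (.node (.node (.node (.leaf 3794) (.leaf 4343)) (.node (.leaf 4016) (.leaf 0))) (.node (.node (.leaf 15650) (.leaf 0)) (.node (.leaf 6880) (.leaf 0)))))))))

/-- part of a table -/
def ordK1 : Trie := (.node (.node (.node (.node (.node (.node (.node (.node (.leaf 11753) (.leaf 5098)) (.node (.leaf 3184) (.leaf 0))) (.node (.node (.leaf 16580) (.leaf 4117)) (.node (.leaf 10061) (.leaf 0)))) (.node (.node (.node (.leaf 20743) (.leaf 840)) (.node (.leaf 12216) (.leaf 0))) (.node (.node (.leaf 442) (.leaf 0)) (.node (.leaf 216) (.leaf 0))))) (.node (.node (.node (.node (.leaf 7279) (.leaf 16688)) (.node (.leaf 14672) (.leaf 0))) (.node (.node (.leaf 17066) (.leaf 0)) (.node (.leaf 8172) (.leaf 0)))) (.node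 (.node (.node (.leaf 7831) (.leaf 2581)) (.node (.leaf 12873) (.leaf 0))) (.node (.node (.leaf 1782) (.leaf 0)) (.node (.leaf 7063) (.leaf 0)))))) (.node (.node (.node (.node (.node (.leaf 16011) (.leaf 17191)) (.node (.leaf 8135) (.leaf 0))) (.node (.node (.leaf 734) (.leaf 21071)) (.node (.leaf 11841) (.leaf 0)))) (.node (.node (.node (.leaf 4090) (.leaf 9072)) (.node (.leaf 13899) (.leaf 0))) (.node (.node (.leaf 12774) (.leaf 0)) (.node (.leaf 10190) (.leaf 0))))) (.node (.node (.node (.node (.leaf 9146) (.leaf 7808)) (.node (.leaf 18490) (.leaf 0))) (.node (.node (.leaf 13392) (.leaf 0)) (.node (.leaf 10273) (.leaf 0)))) (.node (.node (.node (.leaf 9874) (.leaf 9245)) (.node (.leaf 11531) (.leaf 0))) (.node (.node (.leaf 13518) (.leaf 0)) (.node (.leaf 7604) (.leaf 0))))))) (.node (.node (.node (.node (.node (.node (.leaf 14317) (.leaf 3025)) (.node (.leaf 8244) (.leaf 0))) (.node (.node (.leaf 19094) (.leaf 15903)) (.node (.leaf 408) (.leaf 0)))) (.node (.node (.node (.leaf 11971) (.leaf 7336))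 (.node (.leaf 19898) (.leaf 0))) (.node (.node (.leaf 10932) (.leaf 0)) (.node (.leaf 250) (.leaf 0))))) (.node (.node (.node (.node (.leaf 17787) (.leaf 16508)) (.node (.leaf 10302) (.leaf 0))) (.node (.node (.leaf 4845) (.leaf 0)) (.node (.leaf 11639) (.leaf 0)))) (.node (.node (.node (.leaf 8921) (.leaf 260)) (.node (.leaf 5234) (.leaf 0))) (.node (.node (.leaf 21134) (.leaf 0)) (.node (.leaf 14287) (.leaf 0)))))) (.node (.node (.node (.node (.node (.leaf 6996) (.leaf 7998)) (.node (.leaf 12894) (.leaf 0))) (.node (.node (.leaf 6575) (.leaf 16209)) (.node (.leaf 9261) (.leaf 0)))) (.node (.node (.node (.leaf 12123) (.leaf 6953)) (.node (.leaf 17662) (.leaf 0))) (.node (.node (.leaf 7634) (.leaf 0)) (.node (.leaf 17614) (.leaf 0))))) (.node (.node (.node (.node (.leaf 600) (.leaf 21098)) (.node (.leaf 10863) (.leaf 0))) (.node (.node (.leaf 7570) (.leaf 0)) (.node (.leaf 5649) (.leaf 0)))) (.node (.node (.node (.leaf 21461) (.leaf 18691)) (.node (.leaf 2089) (.leaf 0))) (.node (.node (.leaf 5115)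 (.leaf 0)) (.node (.leaf 3916) (.leaf 0)))))))) (.node (.node (.node (.node (.node (.node (.node (.leaf 6368) (.leaf 13306)) (.node (.leaf 14835) (.leaf 0))) (.node (.node (.leaf 11691) (.leaf 21275)) (.node (.leaf 21180) (.leaf 0)))) (.node (.node (.node (.leaf 17954) (.leaf 20796)) (.node (.leaf 1968) (.leaf 0))) (.node (.node (.leaf 17024) (.leaf 0)) (.node (.leaf 6935) (.leaf 0))))) (.node (.node (.node (.node (.leaf 19339) (.leaf 20193)) (.node (.leaf 1914) (.leaf 0))) (.node (.node (.leaf 11093) (.leaf 0)) (.node (.leaf 11458) (.leaf 0)))) (.node (.node (.node (.leaf 15053) (.leaf 19100)) (.node (.leaf 978) (.leaf 0))) (.node (.node (.leaf 10582) (.leaf 0)) (.node (.leaf 12407) (.leaf 0)))))) (.node (.node (.node (.node (.node (.leaf 15869) (.leaf 6469)) (.node (.leaf 18812) (.leaf 0))) (.node (.node (.leaf 3561) (.leaf 2723)) (.node (.leaf 12549) (.leaf 0)))) (.node (.node (.node (.leaf 3938) (.leaf 4206)) (.node (.leaf 20027) (.leaf 0))) (.node (.node (.leaf 20387) (.leaf 0)) (.node (.leaf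 8323) (.leaf 0))))) (.node (.node (.node (.node (.leaf 20621) (.leaf 4974)) (.node (.leaf 8981) (.leaf 0))) (.node (.node (.leaf 2883) (.leaf 0)) (.node (.leaf 16257) (.leaf 0)))) (.node (.node (.node (.leaf 7938) (.leaf 10178)) (.node (.leaf 16073) (.leaf 0))) (.node (.node (.leaf 1994) (.leaf 0)) (.node (.leaf 2148) (.leaf 0))))))) (.node (.node (.node (.node (.node (.node (.leaf 18859) (.leaf 12644)) (.node (.leaf 16979) (.leaf 0))) (.node (.node (.leaf 18678) (.leaf 13273)) (.node (.leaf 14588) (.leaf 0)))) (.node (.node (.node (.leaf 15488) (.leaf 16574)) (.node (.leaf 15699) (.leaf 0))) (.node (.node (.leaf 10280) (.leaf 0)) (.node (.leaf 12149) (.leaf 0))))) (.node (.node (.node (.node (.leaf 795) (.leaf 17456)) (.node (.leaf 18954) (.leaf 0))) (.node (.node (.leaf 3767) (.leaf 0)) (.node (.leaf 13068) (.leaf 0)))) (.node (.node (.node (.leaf 8111) (.leaf 17522)) (.node (.leaf 11834) (.leaf 0))) (.node (.node (.leaf 2551) (.leaf 0)) (.node (.leaf 17632) (.leaf 0)))))) (.node (.node (.node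 (.node (.node (.leaf 3289) (.leaf 16494)) (.node (.leaf 1844) (.leaf 0))) (.node (.node (.leaf 16484) (.leaf 19352)) (.node (.leaf 18191) (.leaf 0)))) (.node (.node (.node (.leaf 17935) (.leaf 7554)) (.node (.leaf 20270) (.leaf 0))) (.node (.node (.leaf 10975) (.leaf 0)) (.node (.leaf 12171) (.leaf 0))))) (.node (.node (.node (.node (.leaf 567) (.leaf 21168)) (.node (.leaf 14146) (.leaf 0))) (.node (.node (.leaf 6540) (.leaf 0)) (.node (.leaf 4277) (.leaf 0)))) (.node (.node (.node (.leaf 667) (.leaf 185)) (.node (.leaf 2887) (.leaf 0))) (.node (.node (.leaf 14883) (.leaf 0)) (.node (.leaf 14359) (.leaf 0)))))))))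

/-- part of a table -/
def ordK2 : Trie := (.node (.node (.node (.node (.node (.node (.node (.node (.leaf 6181) (.leaf 1395)) (.node (.leaf 1169) (.leaf 0))) (.node (.node (.leaf 2057) (.leaf 5186)) (.node (.leaf 6983) (.leaf 0)))) (.node (.node (.node (.leaf 8197) (.leaf 15341)) (.node (.leaf 1190) (.leaf 0))) (.node (.node (.leaf 13457) (.leaf 0)) (.node (.leaf 17495) (.leaf 0))))) (.node (.node (.node (.node (.leaf 18102) (.leaf 14053)) (.node (.leaf 15346) (.leaf 0))) (.node (.node (.leaf 8359) (.leaf 0)) (.node (.leaf 5277) (.leaf 0)))) (.node (.node (.node (.leaf 10792) (.leaf 16571)) (.node (.leaf 19695) (.leaf 0))) (.node (.node (.leaf 18189) (.leaf 0)) (.node (.leaf 13730) (.leaf 0)))))) (.node (.node (.node (.node (.node (.leaf 6012) (.leaf 9674)) (.node (.leaf 19771) (.leaf 0))) (.node (.node (.leaf 7379) (.leaf 19468)) (.node (.leaf 14232) (.leaf 0)))) (.node (.node (.node (.leaf 11644) (.leaf 1323)) (.node (.leaf 1761) (.leaf 0))) (.node (.node (.leaf 183) (.leaf 0)) (.node (.leaf 2643)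 (.leaf 0))))) (.node (.node (.node (.node (.leaf 5104) (.leaf 17155)) (.node (.leaf 18604) (.leaf 0))) (.node (.node (.leaf 10264) (.leaf 0)) (.node (.leaf 14357) (.leaf 0)))) (.node (.node (.node (.leaf 2552) (.leaf 16473)) (.node (.leaf 2759) (.leaf 0))) (.node (.node (.leaf 13084) (.leaf 0)) (.node (.leaf 6518) (.leaf 0))))))) (.node (.node (.node (.node (.node (.node (.leaf 1082) (.leaf 4708)) (.node (.leaf 13901) (.leaf 0))) (.node (.node (.leaf 5690) (.leaf 17728)) (.node (.leaf 14517) (.leaf 0)))) (.node (.node (.node (.leaf 5782) (.leaf 18855)) (.node (.leaf 16943) (.leaf 0))) (.node (.node (.leaf 3454) (.leaf 0)) (.node (.leaf 9341) (.leaf 0))))) (.node (.node (.node (.node (.leaf 9431) (.leaf 5764)) (.node (.leaf 20229) (.leaf 0))) (.node (.node (.leaf 1163) (.leaf 0)) (.node (.leaf 1136) (.leaf 0)))) (.node (.node (.node (.leaf 8505) (.leaf 4005)) (.node (.leaf 17808) (.leaf 0))) (.node (.node (.leaf 8436) (.leaf 0)) (.node (.leaf 3730) (.leaf 0)))))) (.node (.node (.node (.node (.node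 (.leaf 18264) (.leaf 7614)) (.node (.leaf 1042) (.leaf 0))) (.node (.node (.leaf 13639) (.leaf 554)) (.node (.leaf 13631) (.leaf 0)))) (.node (.node (.node (.leaf 1035) (.leaf 20231)) (.node (.leaf 19908) (.leaf 0))) (.node (.node (.leaf 2747) (.leaf 0)) (.node (.leaf 11802) (.leaf 0))))) (.node (.node (.node (.node (.leaf 15830) (.leaf 12722)) (.node (.leaf 4913) (.leaf 0))) (.node (.node (.leaf 7519) (.leaf 0)) (.node (.leaf 18147) (.leaf 0)))) (.node (.node (.node (.leaf 7148) (.leaf 5952)) (.node (.leaf 13777) (.leaf 0))) (.node (.node (.leaf 6649) (.leaf 0)) (.node (.leaf 8211) (.leaf 0)))))))) (.node (.node (.node (.node (.node (.node (.node (.leaf 17264) (.leaf 18535)) (.node (.leaf 7820) (.leaf 0))) (.node (.node (.leaf 20963) (.leaf 4668)) (.node (.leaf 8292) (.leaf 0)))) (.node (.node (.node (.leaf 15691) (.leaf 11507)) (.node (.leaf 5363) (.leaf 0))) (.node (.node (.leaf 13483) (.leaf 0)) (.node (.leaf 12313) (.leaf 0))))) (.node (.node (.node (.node (.leaf 15292) (.leaf 1993)) (.node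 (.leaf 10920) (.leaf 0))) (.node (.node (.leaf 11729) (.leaf 0)) (.node (.leaf 10819) (.leaf 0)))) (.node (.node (.node (.leaf 13100) (.leaf 871)) (.node (.leaf 17248) (.leaf 0))) (.node (.node (.leaf 10521) (.leaf 0)) (.node (.leaf 13667) (.leaf 0)))))) (.node (.node (.node (.node (.node (.leaf 17839) (.leaf 489)) (.node (.leaf 6451) (.leaf 0))) (.node (.node (.leaf 2542) (.leaf 2471)) (.node (.leaf 2154) (.leaf 0)))) (.node (.node (.node (.leaf 12657) (.leaf 12685)) (.node (.leaf 21175) (.leaf 0))) (.node (.node (.leaf 4534) (.leaf 0)) (.node (.leaf 1358) (.leaf 0))))) (.node (.node (.node (.node (.leaf 17326) (.leaf 6272)) (.node (.leaf 6149) (.leaf 0))) (.node (.node (.leaf 16990) (.leaf 0)) (.node (.leaf 20419) (.leaf 0)))) (.node (.node (.node (.leaf 4311) (.leaf 1704)) (.node (.leaf 345) (.leaf 0))) (.node (.node (.leaf 7778) (.leaf 0)) (.node (.leaf 20347) (.leaf 0))))))) (.node (.node (.node (.node (.node (.node (.leaf 12884) (.leaf 21488)) (.node (.leaf 5603) (.leaf 0))) (.node (.node (.leaf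 1690) (.leaf 3054)) (.node (.leaf 14403) (.leaf 0)))) (.node (.node (.node (.leaf 1830) (.leaf 1066)) (.node (.leaf 10415) (.leaf 0))) (.node (.node (.leaf 9361) (.leaf 0)) (.node (.leaf 8110) (.leaf 0))))) (.node (.node (.node (.node (.leaf 14922) (.leaf 17313)) (.node (.leaf 10444) (.leaf 0))) (.node (.node (.leaf 11614) (.leaf 0)) (.node (.leaf 3598) (.leaf 0)))) (.node (.node (.node (.leaf 5938) (.leaf 9866)) (.node (.leaf 11812) (.leaf 0))) (.node (.node (.leaf 4284) (.leaf 0)) (.node (.leaf 3173) (.leaf 0)))))) (.node (.node (.node (.node (.node (.leaf 1344) (.leaf 16481)) (.node (.leaf 9328) (.leaf 0))) (.node (.node (.leaf 18481) (.leaf 12118)) (.node (.leaf 4738) (.leaf 0)))) (.node (.node (.node (.leaf 15533) (.leaf 16081)) (.node (.leaf 16458) (.leaf 0))) (.node (.node (.leaf 20496) (.leaf 0)) (.node (.leaf 1452) (.leaf 0))))) (.node (.node (.node (.node (.leaf 5523) (.leaf 4934)) (.node (.leaf 18506) (.leaf 0))) (.node (.node (.leaf 14194) (.leaf 0)) (.node (.leaf 5312) (.leaf 0)))) (.node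 (.node (.node (.leaf 12028) (.leaf 2332)) (.node (.leaf 3859) (.leaf 0))) (.node (.node (.leaf 10530) (.leaf 0)) (.node (.leaf 3236) (.leaf 0)))))))))

/-- part of a table -/
def ordK3 : Trie := (.node (.node (.node (.node (.node (.node (.node (.node (.leaf 9045) (.leaf 6659)) (.node (.leaf 2794) (.leaf 0))) (.node (.node (.leaf 7209) (.leaf 18774)) (.node (.leaf 19943) (.leaf 0)))) (.node (.node (.node (.leaf 2619) (.leaf 19927)) (.node (.leaf 8240) (.leaf 0))) (.node (.node (.leaf 1218) (.leaf 0)) (.node (.leaf 10810) (.leaf 0))))) (.node (.node (.node (.node (.leaf 2391) (.leaf 13786)) (.node (.leaf 21328) (.leaf 0))) (.node (.node (.leaf 2829) (.leaf 0)) (.node (.leaf 15708) (.leaf 0)))) (.node (.node (.node (.leaf 3793) (.leaf 15955)) (.node (.leaf 18791) (.leaf 0))) (.node (.node (.leaf 6873) (.leaf 0)) (.node (.leaf 2461) (.leaf 0)))))) (.node (.node (.node (.node (.node (.leaf 17850) (.leaf 18446)) (.node (.leaf 5705) (.leaf 0))) (.node (.node (.leaf 7314) (.leaf 14914)) (.node (.leaf 9853)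 (.leaf 0)))) (.node (.node (.node (.leaf 10725) (.leaf 18606)) (.node (.leaf 7168) (.leaf 0))) (.node (.node (.leaf 5605) (.leaf 0)) (.node (.leaf 12974) (.leaf 0))))) (.node (.node (.node (.node (.leaf 5846) (.leaf 76)) (.node (.leaf 10974) (.leaf 0))) (.node (.node (.leaf 7912) (.leaf 0)) (.node (.leaf 20731) (.leaf 0)))) (.node (.node (.node (.leaf 11468) (.leaf 20144)) (.node (.leaf 20578) (.leaf 0))) (.node (.node (.leaf 2158) (.leaf 0)) (.node (.leaf 3431) (.leaf 0))))))) (.node (.node (.node (.node (.node (.node (.leaf 4087) (.leaf 19573)) (.node (.leaf 5003) (.leaf 0))) (.node (.node (.leaf 15782) (.leaf 9546)) (.node (.leaf 411) (.leaf 0)))) (.node (.node (.node (.leaf 11822) (.leaf 2771)) (.node (.leaf 20708) (.leaf 0))) (.node (.node (.leaf 3180) (.leaf 0)) (.node (.leaf 9838) (.leaf 0))))) (.node (.node (.node (.node (.leaf 13781) (.leaf 6452)) (.node (.leaf 3628) (.leaf 0))) (.node (.node (.leaf 12361) (.leaf 0)) (.node (.leaf 3791) (.leaf 0)))) (.node (.node (.node (.leaf 9766) (.leaf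 2011)) (.node (.leaf 8206) (.leaf 0))) (.node (.node (.leaf 16407) (.leaf 0)) (.node (.leaf 2130) (.leaf 0)))))) (.node (.node (.node (.node (.node (.leaf 20411) (.leaf 6668)) (.node (.leaf 13769) (.leaf 0))) (.node (.node (.leaf 16272) (.leaf 4349)) (.node (.leaf 10436) (.leaf 0)))) (.node (.node (.node (.leaf 16732) (.leaf 8753)) (.node (.leaf 13179) (.leaf 0))) (.node (.node (.leaf 10331) (.leaf 0)) (.node (.leaf 14082) (.leaf 0))))) (.node (.node (.node (.node (.leaf 1161) (.leaf 11966)) (.node (.leaf 16290) (.leaf 0))) (.node (.node (.leaf 3353) (.leaf 0)) (.node (.leaf 14258) (.leaf 0)))) (.node (.node (.node (.leaf 2822) (.leaf 8085)) (.node (.leaf 4762) (.leaf 0))) (.node (.node (.leaf 13030) (.leaf 0)) (.node (.leaf 2503) (.leaf 0)))))))) (.node (.node (.node (.node (.node (.node (.node (.leaf 13568) (.leaf 14624)) (.node (.leaf 1656) (.leaf 0))) (.node (.node (.leaf 11686) (.leaf 5269)) (.node (.leaf 3582) (.leaf 0)))) (.node (.node (.node (.leaf 13488) (.leaf 3157)) (.node (.leaf 5402)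 (.leaf 0))) (.node (.node (.leaf 15051) (.leaf 0)) (.node (.leaf 19640) (.leaf 0))))) (.node (.node (.node (.node (.leaf 15055) (.leaf 6718)) (.node (.leaf 10416) (.leaf 0))) (.node (.node (.leaf 3664) (.leaf 0)) (.node (.leaf 15761) (.leaf 0)))) (.node (.node (.node (.leaf 19959) (.leaf 9936)) (.node (.leaf 9791) (.leaf 0))) (.node (.node (.leaf 11359) (.leaf 0)) (.node (.leaf 20847) (.leaf 0)))))) (.node (.node (.node (.node (.node (.leaf 19744) (.leaf 6792)) (.node (.leaf 13365) (.leaf 0))) (.node (.node (.leaf 1758) (.leaf 18386)) (.node (.leaf 17334) (.leaf 0)))) (.node (.node (.node (.leaf 17951) (.leaf 1176)) (.node (.leaf 11209) (.leaf 0))) (.node (.node (.leaf 5908) (.leaf 0)) (.node (.leaf 15565) (.leaf 0))))) (.node (.node (.node (.node (.leaf 8365) (.leaf 18501)) (.node (.leaf 14384) (.leaf 0))) (.node (.node (.leaf 1434) (.leaf 0)) (.node (.leaf 3466) (.leaf 0)))) (.node (.node (.node (.leaf 3120) (.leaf 20901)) (.node (.leaf 1219) (.leaf 0))) (.node (.node (.leaf 7764) (.leaf 0)) (.node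 (.leaf 407) (.leaf 0))))))) (.node (.node (.node (.node (.node (.node (.leaf 17409) (.leaf 6981)) (.node (.leaf 18704) (.leaf 0))) (.node (.node (.leaf 5759) (.leaf 18058)) (.node (.leaf 20106) (.leaf 0)))) (.node (.node (.node (.leaf 5111) (.leaf 14471)) (.node (.leaf 9587) (.leaf 0))) (.node (.node (.leaf 10533) (.leaf 0)) (.node (.leaf 14290) (.leaf 0))))) (.node (.node (.node (.node (.leaf 11127) (.leaf 14845)) (.node (.leaf 2281) (.leaf 0))) (.node (.node (.leaf 5435) (.leaf 0)) (.node (.leaf 19486) (.leaf 0)))) (.node (.node (.node (.leaf 15846) (.leaf 8299)) (.node (.leaf 2816) (.leaf 0))) (.node (.node (.leaf 21023) (.leaf 0)) (.node (.leaf 17524) (.leaf 0)))))) (.node (.node (.node (.node (.node (.leaf 18493) (.leaf 6734)) (.node (.leaf 3444) (.leaf 0))) (.node (.node (.leaf 6258) (.leaf 15803)) (.node (.leaf 5079) (.leaf 0)))) (.node (.node (.node (.leaf 19791) (.leaf 14334)) (.node (.leaf 12847) (.leaf 0))) (.node (.node (.leaf 21373) (.leaf 0)) (.node (.leaf 2990) (.leaf 0))))) (.node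 (.node (.node (.node (.leaf 18736) (.leaf 10788)) (.node (.leaf 19453) (.leaf 0))) (.node (.node (.leaf 9638) (.leaf 0)) (.node (.leaf 2606) (.leaf 0)))) (.node (.node (.node (.leaf 1856) (.leaf 20390)) (.node (.leaf 12905) (.leaf 0))) (.node (.node (.leaf 14142) (.leaf 0)) (.node (.leaf 19009) (.leaf 0)))))))))

/-- part of a table -/
def ordK4 : Trie := (.node (.node (.node (.node (.node (.node (.node (.node (.leaf 20313) (.leaf 18455)) (.node (.leaf 14730) (.leaf 0))) (.node (.node (.leaf 920) (.leaf 5895)) (.node (.leaf 18741) (.leaf 0)))) (.node (.node (.node (.leaf 21042) (.leaf 1497)) (.node (.leaf 7867) (.leaf 0))) (.node (.node (.leaf 692) (.leaf 0)) (.node (.leaf 18956) (.leaf 0))))) (.node (.node (.node (.node (.leaf 9343) (.leaf 4724)) (.node (.leaf 14719) (.leaf 0))) (.node (.node (.leaf 10715) (.leaf 0)) (.node (.leaf 15561) (.leaf 0)))) (.node (.node (.node (.leaf 8442) (.leaf 4410)) (.node (.leaf 5242) (.leaf 0))) (.node (.node (.leaf 17969) (.leaf 0)) (.node (.leaf 2626) (.leaf 0))))))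 (.node (.node (.node (.node (.node (.leaf 15445) (.leaf 19947)) (.node (.leaf 15428) (.leaf 0))) (.node (.node (.leaf 20021) (.leaf 1992)) (.node (.leaf 14740) (.leaf 0)))) (.node (.node (.node (.leaf 21285) (.leaf 19607)) (.node (.leaf 19234) (.leaf 0))) (.node (.node (.leaf 16435) (.leaf 0)) (.node (.leaf 7289) (.leaf 0))))) (.node (.node (.node (.node (.leaf 13635) (.leaf 1313)) (.node (.leaf 1214) (.leaf 0))) (.node (.node (.leaf 21141) (.leaf 0)) (.node (.leaf 7987) (.leaf 0)))) (.node (.node (.node (.leaf 14217) (.leaf 16408)) (.node (.leaf 17279) (.leaf 0))) (.node (.node (.leaf 15964) (.leaf 0)) (.node (.leaf 7522) (.leaf 0))))))) (.node (.node (.node (.node (.node (.node (.leaf 1518) (.leaf 2071)) (.node (.leaf 20927) (.leaf 0))) (.node (.node (.leaf 19978) (.leaf 7240)) (.node (.leaf 1629) (.leaf 0)))) (.node (.node (.node (.leaf 1278) (.leaf 8763)) (.node (.leaf 4075) (.leaf 0))) (.node (.node (.leaf 15042) (.leaf 0)) (.node (.leaf 7277) (.leaf 0))))) (.node (.node (.node (.node (.leaf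 9782) (.leaf 19713)) (.node (.leaf 11172) (.leaf 0))) (.node (.node (.leaf 17950) (.leaf 0)) (.node (.leaf 4610) (.leaf 0)))) (.node (.node (.node (.leaf 14939) (.leaf 4612)) (.node (.leaf 10736) (.leaf 0))) (.node (.node (.leaf 9937) (.leaf 0)) (.node (.leaf 20355) (.leaf 0)))))) (.node (.node (.node (.node (.node (.leaf 4082) (.leaf 8666)) (.node (.leaf 19360) (.leaf 0))) (.node (.node (.leaf 6417) (.leaf 15009)) (.node (.leaf 13806) (.leaf 0)))) (.node (.node (.node (.leaf 17211) (.leaf 21053)) (.node (.leaf 11316) (.leaf 0))) (.node (.node (.leaf 17055) (.leaf 0)) (.node (.leaf 8475) (.leaf 0))))) (.node (.node (.node (.node (.leaf 2781) (.leaf 6533)) (.node (.leaf 18613) (.leaf 0))) (.node (.node (.leaf 21170) (.leaf 0)) (.node (.leaf 936) (.leaf 0)))) (.node (.node (.node (.leaf 11092) (.leaf 19750)) (.node (.leaf 780) (.leaf 0))) (.node (.node (.leaf 11312) (.leaf 0)) (.node (.leaf 17343) (.leaf 0)))))))) (.node (.node (.node (.node (.node (.node (.node (.leaf 5855) (.leaf 13460)) (.node (.leaf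 89) (.leaf 0))) (.node (.node (.leaf 14592) (.leaf 11534)) (.node (.leaf 4865) (.leaf 0)))) (.node (.node (.node (.leaf 17363) (.leaf 10208)) (.node (.leaf 10225) (.leaf 0))) (.node (.node (.leaf 5169) (.leaf 0)) (.node (.leaf 2053) (.leaf 0))))) (.node (.node (.node (.node (.leaf 10318) (.leaf 15379)) (.node (.leaf 2214) (.leaf 0))) (.node (.node (.leaf 4292) (.leaf 0)) (.node (.leaf 10106) (.leaf 0)))) (.node (.node (.node (.leaf 5865) (.leaf 6504)) (.node (.leaf 19609) (.leaf 0))) (.node (.node (.leaf 2436) (.leaf 0)) (.node (.leaf 6157) (.leaf 0)))))) (.node (.node (.node (.node (.node (.leaf 1283) (.leaf 4433)) (.node (.leaf 6015) (.leaf 0))) (.node (.node (.leaf 8386) (.leaf 11365)) (.node (.leaf 20435) (.leaf 0)))) (.node (.node (.node (.leaf 6665) (.leaf 2528)) (.node (.leaf 21242) (.leaf 0))) (.node (.node (.leaf 4679) (.leaf 0)) (.node (.leaf 4852) (.leaf 0))))) (.node (.node (.node (.node (.leaf 17867) (.leaf 16587)) (.node (.leaf 18410) (.leaf 0))) (.node (.node (.leaf 15470) (.leaf 0))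 (.node (.leaf 11571) (.leaf 0)))) (.node (.node (.node (.leaf 20609) (.leaf 16742)) (.node (.leaf 15447) (.leaf 0))) (.node (.node (.leaf 7954) (.leaf 0)) (.node (.leaf 9438) (.leaf 0))))))) (.node (.node (.node (.node (.node (.node (.leaf 4207) (.leaf 14651)) (.node (.leaf 9492) (.leaf 0))) (.node (.node (.leaf 21162) (.leaf 5246)) (.node (.leaf 1432) (.leaf 0)))) (.node (.node (.node (.leaf 5866) (.leaf 1028)) (.node (.leaf 5017) (.leaf 0))) (.node (.node (.leaf 7955) (.leaf 0)) (.node (.leaf 20906) (.leaf 0))))) (.node (.node (.node (.node (.leaf 3163) (.leaf 9054)) (.node (.leaf 8510) (.leaf 0))) (.node (.node (.leaf 10529) (.leaf 0)) (.node (.leaf 13519) (.leaf 0)))) (.node (.node (.node (.leaf 10634) (.leaf 15448)) (.node (.leaf 7718) (.leaf 0))) (.node (.node (.leaf 19756) (.leaf 0)) (.node (.leaf 18891) (.leaf 0)))))) (.node (.node (.node (.node (.node (.leaf 9498) (.leaf 14114)) (.node (.leaf 11522) (.leaf 0))) (.node (.node (.leaf 4592) (.leaf 3373)) (.node (.leaf 15232) (.leaf 0)))) (.node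 (.node (.node (.leaf 4949) (.leaf 1357)) (.node (.leaf 4008) (.leaf 0))) (.node (.node (.leaf 3740) (.leaf 0)) (.node (.leaf 2783) (.leaf 0))))) (.node (.node (.node (.node (.leaf 17736) (.leaf 20386)) (.node (.leaf 2846) (.leaf 0))) (.node (.node (.leaf 8970) (.leaf 0)) (.node (.leaf 15724) (.leaf 0)))) (.node (.node (.node (.leaf 14941) (.leaf 969)) (.node (.leaf 6246) (.leaf 0))) (.node (.node (.leaf 19435) (.leaf 0)) (.node (.leaf 1981) (.leaf 0)))))))))

/-- part of a table -/
def ordK5 : Trie := (.node (.node (.node (.node (.node (.node (.node (.node (.leaf 14671) (.leaf 18599)) (.node (.leaf 5989) (.leaf 0))) (.node (.node (.leaf 18681) (.leaf 10232)) (.node (.leaf 9775) (.leaf 0)))) (.node (.node (.node (.leaf 8499) (.leaf 17542)) (.node (.leaf 21064) (.leaf 0))) (.node (.node (.leaf 18660) (.leaf 0)) (.node (.leaf 20055) (.leaf 0))))) (.node (.node (.node (.node (.leaf 11678) (.leaf 4651)) (.node (.leaf 20803) (.leaf 0))) (.node (.node (.leaf 20829) (.leaf 0)) (.node (.leaf 19736) (.leaf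 0)))) (.node (.node (.node (.leaf 9512) (.leaf 15781)) (.node (.leaf 16748) (.leaf 0))) (.node (.node (.leaf 12285) (.leaf 0)) (.node (.leaf 5192) (.leaf 0)))))) (.node (.node (.node (.node (.node (.leaf 15313) (.leaf 17821)) (.node (.leaf 11972) (.leaf 0))) (.node (.node (.leaf 4138) (.leaf 3046)) (.node (.leaf 11398) (.leaf 0)))) (.node (.node (.node (.leaf 13022) (.leaf 10068)) (.node (.leaf 19306) (.leaf 0))) (.node (.node (.leaf 5842) (.leaf 0)) (.node (.leaf 103) (.leaf 0))))) (.node (.node (.node (.node (.leaf 7903) (.leaf 13136)) (.node (.leaf 10435) (.leaf 0))) (.node (.node (.leaf 109) (.leaf 0)) (.node (.leaf 18547) (.leaf 0)))) (.node (.node (.node (.leaf 20911) (.leaf 17579)) (.node (.leaf 9308) (.leaf 0))) (.node (.node (.leaf 20606) (.leaf 0)) (.node (.leaf 21089) (.leaf 0))))))) (.node (.node (.node (.node (.node (.node (.leaf 15977) (.leaf 921)) (.node (.leaf 14784) (.leaf 0))) (.node (.node (.leaf 20030) (.leaf 15608)) (.node (.leaf 1141) (.leaf 0)))) (.node (.node (.node (.leaf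 18164) (.leaf 16935)) (.node (.leaf 4971) (.leaf 0))) (.node (.node (.leaf 12280) (.leaf 0)) (.node (.leaf 9857) (.leaf 0))))) (.node (.node (.node (.node (.leaf 19527) (.leaf 12682)) (.node (.leaf 14193) (.leaf 0))) (.node (.node (.leaf 17339) (.leaf 0)) (.node (.leaf 5056) (.leaf 0)))) (.node (.node (.node (.leaf 17882) (.leaf 16469)) (.node (.leaf 8668) (.leaf 0))) (.node (.node (.leaf 8425) (.leaf 0)) (.node (.leaf 448) (.leaf 0)))))) (.node (.node (.node (.node (.node (.leaf 4597) (.leaf 13424)) (.node (.leaf 6870) (.leaf 0))) (.node (.node (.leaf 10667) (.leaf 6867)) (.node (.leaf 9414) (.leaf 0)))) (.node (.node (.node (.leaf 19123) (.leaf 4327)) (.node (.leaf 7122) (.leaf 0))) (.node (.node (.leaf 7415) (.leaf 0)) (.node (.leaf 294) (.leaf 0))))) (.node (.node (.node (.node (.leaf 14376) (.leaf 18285)) (.node (.leaf 15689) (.leaf 0))) (.node (.node (.leaf 11647) (.leaf 0)) (.node (.leaf 12390) (.leaf 0)))) (.node (.node (.node (.leaf 19240) (.leaf 15417)) (.node (.leaf 1397) (.leaf 0))) (.node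 (.node (.leaf 2188) (.leaf 0)) (.node (.leaf 18643) (.leaf 0)))))))) (.node (.node (.node (.node (.node (.node (.node (.leaf 11296) (.leaf 1102)) (.node (.leaf 5157) (.leaf 0))) (.node (.node (.leaf 116) (.leaf 3234)) (.node (.leaf 8485) (.leaf 0)))) (.node (.node (.node (.leaf 3374) (.leaf 9644)) (.node (.leaf 18209) (.leaf 0))) (.node (.node (.leaf 17296) (.leaf 0)) (.node (.leaf 527) (.leaf 0))))) (.node (.node (.node (.node (.leaf 7828) (.leaf 5998)) (.node (.leaf 654) (.leaf 0))) (.node (.node (.leaf 12917) (.leaf 0)) (.node (.leaf 12633) (.leaf 0)))) (.node (.node (.node (.leaf 13811) (.leaf 8200)) (.node (.leaf 8817) (.leaf 0))) (.node (.node (.leaf 15121) (.leaf 0)) (.node (.leaf 14377) (.leaf 0)))))) (.node (.node (.node (.node (.node (.leaf 17678) (.leaf 6268)) (.node (.leaf 10293) (.leaf 0))) (.node (.node (.leaf 2527) (.leaf 5535)) (.node (.leaf 12277) (.leaf 0)))) (.node (.node (.node (.leaf 4385) (.leaf 1196)) (.node (.leaf 645) (.leaf 0))) (.node (.node (.leaf 19336) (.leaf 0)) (.node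 (.leaf 1367) (.leaf 0))))) (.node (.node (.node (.node (.leaf 18342) (.leaf 15401)) (.node (.leaf 18963) (.leaf 0))) (.node (.node (.leaf 3694) (.leaf 0)) (.node (.leaf 15013) (.leaf 0)))) (.node (.node (.node (.leaf 10032) (.leaf 18069)) (.node (.leaf 19317) (.leaf 0))) (.node (.node (.leaf 16043) (.leaf 0)) (.node (.leaf 18543) (.leaf 0))))))) (.node (.node (.node (.node (.node (.node (.leaf 19401) (.leaf 4637)) (.node (.leaf 6415) (.leaf 0))) (.node (.node (.leaf 16556) (.leaf 8469)) (.node (.leaf 8986) (.leaf 0)))) (.node (.node (.node (.leaf 18039) (.leaf 8041)) (.node (.leaf 13707) (.leaf 0))) (.node (.node (.leaf 4830) (.leaf 0)) (.node (.leaf 20429) (.leaf 0))))) (.node (.node (.node (.node (.leaf 673) (.leaf 19221)) (.node (.leaf 13228) (.leaf 0))) (.node (.node (.leaf 13599) (.leaf 0)) (.node (.leaf 15965) (.leaf 0)))) (.node (.node (.node (.leaf 20418) (.leaf 5814)) (.node (.leaf 17677) (.leaf 0))) (.node (.node (.leaf 8719) (.leaf 0)) (.node (.leaf 11958) (.leaf 0)))))) (.node (.node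 (.node (.node (.node (.leaf 19766) (.leaf 6300)) (.node (.leaf 17278) (.leaf 0))) (.node (.node (.leaf 12695) (.leaf 15709)) (.node (.leaf 16649) (.leaf 0)))) (.node (.node (.node (.leaf 21333) (.leaf 17420)) (.node (.leaf 6021) (.leaf 0))) (.node (.node (.leaf 14979) (.leaf 0)) (.node (.leaf 13833) (.leaf 0))))) (.node (.node (.node (.node (.leaf 12031) (.leaf 5084)) (.node (.leaf 669) (.leaf 0))) (.node (.node (.leaf 825) (.leaf 0)) (.node (.leaf 7669) (.leaf 0)))) (.node (.node (.node (.leaf 13756) (.leaf 11539)) (.node (.leaf 1764) (.leaf 0))) (.node (.node (.leaf 14804) (.leaf 0)) (.node (.leaf 9839) (.leaf 0)))))))))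

/-- part of a table -/
def ordK6 : Trie := (.node (.node (.node (.node (.node (.node (.node (.node (.leaf 2574) (.leaf 18406)) (.node (.leaf 20865) (.leaf 0))) (.node (.node (.leaf 20163) (.leaf 21451)) (.node (.leaf 21484) (.leaf 0)))) (.node (.node (.node (.leaf 4809) (.leaf 13996)) (.node (.leaf 14286) (.leaf 0))) (.node (.node (.leaf 5926) (.leaf 0)) (.node (.leaf 14068) (.leaf 0))))) (.node (.node (.node (.node (.leaf 1740) (.leaf 5291)) (.node (.leaf 18416) (.leaf 0))) (.node (.node (.leaf 15186) (.leaf 0)) (.node (.leaf 16028) (.leaf 0)))) (.node (.node (.node (.leaf 753) (.leaf 11235)) (.node (.leaf 11942) (.leaf 0))) (.node (.node (.leaf 6581) (.leaf 0)) (.node (.leaf 13064) (.leaf 0)))))) (.node (.node (.node (.node (.node (.leaf 13665) (.leaf 1089)) (.node (.leaf 1639) (.leaf 0))) (.node (.node (.leaf 20792) (.leaf 11652)) (.node (.leaf 19618) (.leaf 0)))) (.node (.node (.node (.leaf 16753) (.leaf 7441)) (.node (.leaf 12276) (.leaf 0))) (.node (.node (.leaf 15389) (.leaf 0)) (.node (.leaf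 8429) (.leaf 0))))) (.node (.node (.node (.node (.leaf 17365) (.leaf 10864)) (.node (.leaf 5027) (.leaf 0))) (.node (.node (.leaf 7359) (.leaf 0)) (.node (.leaf 18608) (.leaf 0)))) (.node (.node (.node (.leaf 9157) (.leaf 319)) (.node (.leaf 8746) (.leaf 0))) (.node (.node (.leaf 19485) (.leaf 0)) (.node (.leaf 20808) (.leaf 0))))))) (.node (.node (.node (.node (.node (.node (.leaf 12572) (.leaf 20532)) (.node (.leaf 126) (.leaf 0))) (.node (.node (.leaf 7758) (.leaf 1692)) (.node (.leaf 2149) (.leaf 0)))) (.node (.node (.node (.leaf 12261) (.leaf 14708)) (.node (.leaf 4178) (.leaf 0))) (.node (.node (.leaf 19743) (.leaf 0)) (.node (.leaf 1952) (.leaf 0))))) (.node (.node (.node (.node (.leaf 11263) (.leaf 12602)) (.node (.leaf 9340) (.leaf 0))) (.node (.node (.leaf 14789) (.leaf 0)) (.node (.leaf 4003) (.leaf 0)))) (.node (.node (.node (.leaf 9409) (.leaf 13615)) (.node (.leaf 4464) (.leaf 0))) (.node (.node (.leaf 16160) (.leaf 0)) (.node (.leaf 2776) (.leaf 0)))))) (.node (.node (.node (.node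 (.node (.leaf 8490) (.leaf 7671)) (.node (.leaf 14368) (.leaf 0))) (.node (.node (.leaf 10652) (.leaf 11434)) (.node (.leaf 10309) (.leaf 0)))) (.node (.node (.node (.leaf 2593) (.leaf 10)) (.node (.leaf 11830) (.leaf 0))) (.node (.node (.leaf 11190) (.leaf 0)) (.node (.leaf 9180) (.leaf 0))))) (.node (.node (.node (.node (.leaf 19902) (.leaf 16836)) (.node (.leaf 75) (.leaf 0))) (.node (.node (.leaf 335) (.leaf 0)) (.node (.leaf 21106) (.leaf 0)))) (.node (.node (.node (.leaf 1979) (.leaf 3873)) (.node (.leaf 2672) (.leaf 0))) (.node (.node (.leaf 576) (.leaf 0)) (.node (.leaf 1074) (.leaf 0)))))))) (.node (.node (.node (.node (.node (.node (.node (.leaf 20969) (.leaf 12777)) (.node (.leaf 13407) (.leaf 0))) (.node (.node (.leaf 4702) (.leaf 19425)) (.node (.leaf 17891) (.leaf 0)))) (.node (.node (.node (.leaf 13832) (.leaf 1232)) (.node (.leaf 2494) (.leaf 0))) (.node (.node (.leaf 8472) (.leaf 0)) (.node (.leaf 5593) (.leaf 0))))) (.node (.node (.node (.node (.leaf 5429) (.leaf 5071)) (.node (.leaf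 7969) (.leaf 0))) (.node (.node (.leaf 17660) (.leaf 0)) (.node (.leaf 908) (.leaf 0)))) (.node (.node (.node (.leaf 20077) (.leaf 11585)) (.node (.leaf 13475) (.leaf 0))) (.node (.node (.leaf 19072) (.leaf 0)) (.node (.leaf 20737) (.leaf 0)))))) (.node (.node (.node (.node (.node (.leaf 5287) (.leaf 4144)) (.node (.leaf 14945) (.leaf 0))) (.node (.node (.leaf 13010) (.leaf 17056)) (.node (.leaf 12958) (.leaf 0)))) (.node (.node (.node (.leaf 19792) (.leaf 9293)) (.node (.leaf 7166) (.leaf 0))) (.node (.node (.leaf 13724) (.leaf 0)) (.node (.leaf 217) (.leaf 0))))) (.node (.node (.node (.node (.leaf 1575) (.leaf 3268)) (.node (.leaf 15982) (.leaf 0))) (.node (.node (.leaf 7100) (.leaf 0)) (.node (.leaf 5481) (.leaf 0)))) (.node (.node (.node (.leaf 4784) (.leaf 15759)) (.node (.leaf 14423) (.leaf 0))) (.node (.node (.leaf 19421) (.leaf 0)) (.node (.leaf 21393) (.leaf 0))))))) (.node (.node (.node (.node (.node (.node (.leaf 13467) (.leaf 19775)) (.node (.leaf 15954) (.leaf 0))) (.node (.node (.leaf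 359) (.leaf 10118)) (.node (.leaf 10876) (.leaf 0)))) (.node (.node (.node (.leaf 16054) (.leaf 9082)) (.node (.leaf 1266) (.leaf 0))) (.node (.node (.leaf 1341) (.leaf 0)) (.node (.leaf 10418) (.leaf 0))))) (.node (.node (.node (.node (.leaf 8275) (.leaf 13663)) (.node (.leaf 964) (.leaf 0))) (.node (.node (.leaf 10845) (.leaf 0)) (.node (.leaf 10078) (.leaf 0)))) (.node (.node (.node (.leaf 17825) (.leaf 6399)) (.node (.leaf 2123) (.leaf 0))) (.node (.node (.leaf 1505) (.leaf 0)) (.node (.leaf 10150) (.leaf 0)))))) (.node (.node (.node (.node (.node (.leaf 3038) (.leaf 3459)) (.node (.leaf 18796) (.leaf 0))) (.node (.node (.leaf 11415) (.leaf 13831)) (.node (.leaf 9161) (.leaf 0)))) (.node (.node (.node (.leaf 6670) (.leaf 15967)) (.node (.leaf 17947) (.leaf 0))) (.node (.node (.leaf 19995) (.leaf 0)) (.node (.leaf 12652) (.leaf 0))))) (.node (.node (.node (.node (.leaf 6615) (.leaf 9625)) (.node (.leaf 8234) (.leaf 0))) (.node (.node (.leaf 13310) (.leaf 0)) (.node (.leaf 13097) (.leaf 0)))) (.node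 (.node (.node (.leaf 10361) (.leaf 8264)) (.node (.leaf 12729) (.leaf 0))) (.node (.node (.leaf 2852) (.leaf 0)) (.node (.leaf 19688) (.leaf 0)))))))))

/-- part of a table -/
def ordK7 : Trie := (.node (.node (.node (.node (.node (.node (.node (.node (.leaf 7061) (.leaf 5395)) (.node (.leaf 18281) (.leaf 0))) (.node (.node (.leaf 14618) (.leaf 3475)) (.node (.leaf 15152) (.leaf 0)))) (.node (.node (.node (.leaf 9237) (.leaf 12096)) (.node (.leaf 5811) (.leaf 0))) (.node (.node (.leaf 9527) (.leaf 0)) (.node (.leaf 617) (.leaf 0))))) (.node (.node (.node (.node (.leaf 6449) (.leaf 553)) (.node (.leaf 1331) (.leaf 0))) (.node (.node (.leaf 20244) (.leaf 0)) (.node (.leaf 18284) (.leaf 0)))) (.node (.node (.node (.leaf 16981) (.leaf 14567)) (.node (.leaf 12972) (.leaf 0))) (.node (.node (.leaf 7070) (.leaf 0)) (.node (.leaf 2491) (.leaf 0)))))) (.node (.node (.node (.node (.node (.leaf 17073) (.leaf 16026)) (.node (.leaf 13214) (.leaf 0))) (.node (.node (.leaf 4103) (.leaf 5466)) (.node (.leaf 13860)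 (.leaf 0)))) (.node (.node (.node (.leaf 5394) (.leaf 9040)) (.node (.leaf 17448) (.leaf 0))) (.node (.node (.leaf 3804) (.leaf 0)) (.node (.leaf 15462) (.leaf 0))))) (.node (.node (.node (.node (.leaf 6456) (.leaf 11070)) (.node (.leaf 3285) (.leaf 0))) (.node (.node (.leaf 12515) (.leaf 0)) (.node (.leaf 696) (.leaf 0)))) (.node (.node (.node (.leaf 19637) (.leaf 12372)) (.node (.leaf 5968) (.leaf 0))) (.node (.node (.leaf 13067) (.leaf 0)) (.node (.leaf 2339) (.leaf 0))))))) (.node (.node (.node (.node (.node (.node (.leaf 13396) (.leaf 10830)) (.node (.leaf 10952) (.leaf 0))) (.node (.node (.leaf 16250) (.leaf 19761)) (.node (.leaf 21324) (.leaf 0)))) (.node (.node (.node (.leaf 15174) (.leaf 14776)) (.node (.leaf 4969) (.leaf 0))) (.node (.node (.leaf 14266) (.leaf 0)) (.node (.leaf 5890) (.leaf 0))))) (.node (.node (.node (.node (.leaf 12340) (.leaf 4684)) (.node (.leaf 1951) (.leaf 0))) (.node (.node (.leaf 15547) (.leaf 0)) (.node (.leaf 69) (.leaf 0)))) (.node (.node (.node (.leaf 498) (.leaf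 8885)) (.node (.leaf 13785) (.leaf 0))) (.node (.node (.leaf 14249) (.leaf 0)) (.node (.leaf 13351) (.leaf 0)))))) (.node (.node (.node (.node (.node (.leaf 13245) (.leaf 15585)) (.node (.leaf 17582) (.leaf 0))) (.node (.node (.leaf 12727) (.leaf 2803)) (.node (.leaf 12817) (.leaf 0)))) (.node (.node (.node (.leaf 17685) (.leaf 19552)) (.node (.leaf 11158) (.leaf 0))) (.node (.node (.leaf 8392) (.leaf 0)) (.node (.leaf 15919) (.leaf 0))))) (.node (.node (.node (.node (.leaf 7345) (.leaf 16868)) (.node (.leaf 1288) (.leaf 0))) (.node (.node (.leaf 20130) (.leaf 0)) (.node (.leaf 18353) (.leaf 0)))) (.node (.node (.node (.leaf 17617) (.leaf 14987)) (.node (.leaf 16611) (.leaf 0))) (.node (.node (.leaf 15386) (.leaf 0)) (.node (.leaf 11138) (.leaf 0)))))))) (.node (.node (.node (.node (.node (.node (.node (.leaf 5784) (.leaf 19088)) (.node (.leaf 14041) (.leaf 0))) (.node (.node (.leaf 259) (.leaf 2834)) (.node (.leaf 11004) (.leaf 0)))) (.node (.node (.node (.leaf 5594) (.leaf 7456)) (.node (.leaf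 787) (.leaf 0))) (.node (.node (.leaf 13582) (.leaf 0)) (.node (.leaf 1123) (.leaf 0))))) (.node (.node (.node (.node (.leaf 6936) (.leaf 7777)) (.node (.leaf 19286) (.leaf 0))) (.node (.node (.leaf 13861) (.leaf 0)) (.node (.leaf 9219) (.leaf 0)))) (.node (.node (.node (.leaf 16191) (.leaf 18008)) (.node (.leaf 19909) (.leaf 0))) (.node (.node (.leaf 7470) (.leaf 0)) (.node (.leaf 20827) (.leaf 0)))))) (.node (.node (.node (.node (.node (.leaf 10402) (.leaf 2067)) (.node (.leaf 1742) (.leaf 0))) (.node (.node (.leaf 16927) (.leaf 15236)) (.node (.leaf 3253) (.leaf 0)))) (.node (.node (.node (.leaf 6621) (.leaf 270)) (.node (.leaf 8966) (.leaf 0))) (.node (.node (.leaf 12017) (.leaf 0)) (.node (.leaf 11279) (.leaf 0))))) (.node (.node (.node (.node (.leaf 19093) (.leaf 9651)) (.node (.leaf 20455) (.leaf 0))) (.node (.node (.leaf 13340) (.leaf 0)) (.node (.leaf 13352) (.leaf 0)))) (.node (.node (.node (.leaf 4525) (.leaf 17366)) (.node (.leaf 5352) (.leaf 0))) (.node (.node (.leaf 14126) (.leaf 0))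 (.node (.leaf 13826) (.leaf 0))))))) (.node (.node (.node (.node (.node (.node (.leaf 3035) (.leaf 3847)) (.node (.leaf 16710) (.leaf 0))) (.node (.node (.leaf 4987) (.leaf 6731)) (.node (.leaf 15432) (.leaf 0)))) (.node (.node (.node (.leaf 3010) (.leaf 9888)) (.node (.leaf 7910) (.leaf 0))) (.node (.node (.leaf 4345) (.leaf 0)) (.node (.leaf 20417) (.leaf 0))))) (.node (.node (.node (.node (.leaf 16776) (.leaf 499)) (.node (.leaf 5807) (.leaf 0))) (.node (.node (.leaf 80) (.leaf 0)) (.node (.leaf 20056) (.leaf 0)))) (.node (.node (.node (.leaf 18270) (.leaf 12853)) (.node (.leaf 2600) (.leaf 0))) (.node (.node (.leaf 6178) (.leaf 0)) (.node (.leaf 18335) (.leaf 0)))))) (.node (.node (.node (.node (.node (.leaf 1813) (.leaf 11266)) (.node (.leaf 2891) (.leaf 0))) (.node (.node (.leaf 12625) (.leaf 17661)) (.node (.leaf 13726) (.leaf 0)))) (.node (.node (.node (.leaf 12999) (.leaf 17165)) (.node (.leaf 10114) (.leaf 0))) (.node (.node (.leaf 19742) (.leaf 0)) (.node (.leaf 2877) (.leaf 0))))) (.node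 (.node (.node (.node (.leaf 5308) (.leaf 16541)) (.node (.leaf 756) (.leaf 0))) (.node (.node (.leaf 7090) (.leaf 0)) (.node (.leaf 15707) (.leaf 0)))) (.node (.node (.node (.leaf 7832) (.leaf 4383)) (.node (.leaf 20) (.leaf 0))) (.node (.node (.leaf 519) (.leaf 0)) (.node (.leaf 19723) (.leaf 0)))))))))

/-- part of a table -/
def ordK8 : Trie := (.node (.node (.node (.node (.node (.node (.node (.node (.leaf 1330) (.leaf 1239)) (.node (.leaf 16597) (.leaf 0))) (.node (.node (.leaf 7017) (.leaf 19626)) (.node (.leaf 10487) (.leaf 0)))) (.node (.node (.node (.leaf 11709) (.leaf 5511)) (.node (.leaf 20671) (.leaf 0))) (.node (.node (.leaf 4958) (.leaf 0)) (.node (.leaf 821) (.leaf 0))))) (.node (.node (.node (.node (.leaf 8353) (.leaf 6706)) (.node (.leaf 5899) (.leaf 0))) (.node (.node (.leaf 11777) (.leaf 0)) (.node (.leaf 6571) (.leaf 0)))) (.node (.node (.node (.leaf 3220) (.leaf 15140)) (.node (.leaf 1412) (.leaf 0))) (.node (.node (.leaf 15397) (.leaf 0)) (.node (.leaf 21117) (.leaf 0)))))) (.node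 (.node (.node (.node (.node (.leaf 5212) (.leaf 16207)) (.node (.leaf 9486) (.leaf 0))) (.node (.node (.leaf 3530) (.leaf 9932)) (.node (.leaf 17682) (.leaf 0)))) (.node (.node (.node (.leaf 2344) (.leaf 3778)) (.node (.leaf 6607) (.leaf 0))) (.node (.node (.leaf 3169) (.leaf 0)) (.node (.leaf 13805) (.leaf 0))))) (.node (.node (.node (.node (.leaf 2994) (.leaf 18992)) (.node (.leaf 15173) (.leaf 0))) (.node (.node (.leaf 5077) (.leaf 0)) (.node (.leaf 10491) (.leaf 0)))) (.node (.node (.node (.leaf 262) (.leaf 16269)) (.node (.leaf 15024) (.leaf 0))) (.node (.node (.leaf 18556) (.leaf 0)) (.node (.leaf 8109) (.leaf 0))))))) (.node (.node (.node (.node (.node (.node (.leaf 20261) (.leaf 17492)) (.node (.leaf 14896) (.leaf 0))) (.node (.node (.leaf 5517) (.leaf 11426)) (.node (.leaf 11844) (.leaf 0)))) (.node (.node (.node (.leaf 4488) (.leaf 17388)) (.node (.leaf 1000) (.leaf 0))) (.node (.node (.leaf 2291) (.leaf 0)) (.node (.leaf 20057) (.leaf 0))))) (.node (.node (.node (.node (.leaf 10341) (.leaf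 537)) (.node (.leaf 20550) (.leaf 0))) (.node (.node (.leaf 14316) (.leaf 0)) (.node (.leaf 13201) (.leaf 0)))) (.node (.node (.node (.leaf 8625) (.leaf 2358)) (.node (.leaf 18850) (.leaf 0))) (.node (.node (.leaf 8201) (.leaf 0)) (.node (.leaf 14278) (.leaf 0)))))) (.node (.node (.node (.node (.node (.leaf 13175) (.leaf 10143)) (.node (.leaf 11074) (.leaf 0))) (.node (.node (.leaf 1762) (.leaf 4834)) (.node (.leaf 12091) (.leaf 0)))) (.node (.node (.node (.leaf 19183) (.leaf 8259)) (.node (.leaf 3966) (.leaf 0))) (.node (.node (.leaf 4511) (.leaf 0)) (.node (.leaf 2709) (.leaf 0))))) (.node (.node (.node (.node (.leaf 11370) (.leaf 7927)) (.node (.leaf 2126) (.leaf 0))) (.node (.node (.leaf 19283) (.leaf 0)) (.node (.leaf 8869) (.leaf 0)))) (.node (.node (.node (.leaf 11062) (.leaf 18913)) (.node (.leaf 6090) (.leaf 0))) (.node (.node (.leaf 15715) (.leaf 0)) (.node (.leaf 7991) (.leaf 0)))))))) (.node (.node (.node (.node (.node (.node (.node (.leaf 15683) (.leaf 13943)) (.node (.leaf 13116) (.leaf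 0))) (.node (.node (.leaf 13636) (.leaf 15981)) (.node (.leaf 7585) (.leaf 0)))) (.node (.node (.node (.leaf 8491) (.leaf 11139)) (.node (.leaf 15302) (.leaf 0))) (.node (.node (.leaf 3914) (.leaf 0)) (.node (.leaf 10316) (.leaf 0))))) (.node (.node (.node (.node (.leaf 5657) (.leaf 7409)) (.node (.leaf 19121) (.leaf 0))) (.node (.node (.leaf 7077) (.leaf 0)) (.node (.leaf 2235) (.leaf 0)))) (.node (.node (.node (.leaf 17704) (.leaf 4152)) (.node (.leaf 5039) (.leaf 0))) (.node (.node (.leaf 16243) (.leaf 0)) (.node (.leaf 15545) (.leaf 0)))))) (.node (.node (.node (.node (.node (.leaf 13717) (.leaf 133)) (.node (.leaf 11680) (.leaf 0))) (.node (.node (.leaf 15197) (.leaf 6629)) (.node (.leaf 13716) (.leaf 0)))) (.node (.node (.node (.leaf 15769) (.leaf 13616)) (.node (.leaf 13898) (.leaf 0))) (.node (.node (.leaf 1297) (.leaf 0)) (.node (.leaf 20188) (.leaf 0))))) (.node (.node (.node (.node (.leaf 5688) (.leaf 8851)) (.node (.leaf 5832) (.leaf 0))) (.node (.node (.leaf 18211) (.leaf 0)) (.node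 (.leaf 11049) (.leaf 0)))) (.node (.node (.node (.leaf 10804) (.leaf 9999)) (.node (.leaf 443) (.leaf 0))) (.node (.node (.leaf 6587) (.leaf 0)) (.node (.leaf 8421) (.leaf 0))))))) (.node (.node (.node (.node (.node (.node (.leaf 6982) (.leaf 12920)) (.node (.leaf 11896) (.leaf 0))) (.node (.node (.leaf 1415) (.leaf 19763)) (.node (.leaf 3000) (.leaf 0)))) (.node (.node (.node (.leaf 16128) (.leaf 10923)) (.node (.leaf 9008) (.leaf 0))) (.node (.node (.leaf 3578) (.leaf 0)) (.node (.leaf 9636) (.leaf 0))))) (.node (.node (.node (.node (.leaf 2548) (.leaf 13150)) (.node (.leaf 15463) (.leaf 0))) (.node (.node (.leaf 3977) (.leaf 0)) (.node (.leaf 12533) (.leaf 0)))) (.node (.node (.node (.leaf 18363) (.leaf 18848)) (.node (.leaf 4149) (.leaf 0))) (.node (.node (.leaf 11467) (.leaf 0)) (.node (.leaf 2146) (.leaf 0)))))) (.node (.node (.node (.node (.node (.leaf 4079) (.leaf 20851)) (.node (.leaf 13190) (.leaf 0))) (.node (.node (.leaf 18167) (.leaf 5843)) (.node (.leaf 4981) (.leaf 0)))) (.node (.node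 (.node (.leaf 19110) (.leaf 6031)) (.node (.leaf 5216) (.leaf 0))) (.node (.node (.leaf 1832) (.leaf 0)) (.node (.leaf 1863) (.leaf 0))))) (.node (.node (.node (.node (.leaf 7837) (.leaf 21305)) (.node (.leaf 19787) (.leaf 0))) (.node (.node (.leaf 15836) (.leaf 0)) (.node (.leaf 17888) (.leaf 0)))) (.node (.node (.node (.leaf 3117) (.leaf 18162)) (.node (.leaf 15477) (.leaf 0))) (.node (.node (.leaf 2728) (.leaf 0)) (.node (.leaf 9859) (.leaf 0)))))))))

/-- part of a table -/
def ordK9 : Trie := (.node (.node (.node (.node (.node (.node (.node (.node (.leaf 7862) (.leaf 1480)) (.node (.leaf 10535) (.leaf 0))) (.node (.node (.leaf 17756) (.leaf 12526)) (.node (.leaf 19224) (.leaf 0)))) (.node (.node (.node (.leaf 6042) (.leaf 9423)) (.node (.leaf 19558) (.leaf 0))) (.node (.node (.leaf 5735) (.leaf 0)) (.node (.leaf 9895) (.leaf 0))))) (.node (.node (.node (.node (.leaf 9756) (.leaf 5259)) (.node (.leaf 9046) (.leaf 0))) (.node (.node (.leaf 17473) (.leaf 0)) (.node (.leaf 19727) (.leaf 0)))) (.node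 (.node (.node (.leaf 3326) (.leaf 8030)) (.node (.leaf 5063) (.leaf 0))) (.node (.node (.leaf 4700) (.leaf 0)) (.node (.leaf 8458) (.leaf 0)))))) (.node (.node (.node (.node (.node (.leaf 10611) (.leaf 18926)) (.node (.leaf 2046) (.leaf 0))) (.node (.node (.leaf 2017) (.leaf 2451)) (.node (.leaf 923) (.leaf 0)))) (.node (.node (.node (.leaf 5096) (.leaf 21164)) (.node (.leaf 17434) (.leaf 0))) (.node (.node (.leaf 11315) (.leaf 0)) (.node (.leaf 15710) (.leaf 0))))) (.node (.node (.node (.node (.leaf 1753) (.leaf 7422)) (.node (.leaf 12918) (.leaf 0))) (.node (.node (.leaf 2119) (.leaf 0)) (.node (.leaf 16632) (.leaf 0)))) (.node (.node (.node (.leaf 6020) (.leaf 4361)) (.node (.leaf 12087) (.leaf 0))) (.node (.node (.leaf 18237) (.leaf 0)) (.node (.leaf 11951) (.leaf 0))))))) (.node (.node (.node (.node (.node (.node (.leaf 16437) (.leaf 7640)) (.node (.leaf 6092) (.leaf 0))) (.node (.node (.leaf 10282) (.leaf 20312)) (.node (.leaf 5120) (.leaf 0)))) (.node (.node (.node (.leaf 6361) (.leaf 20879))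 (.node (.leaf 20732) (.leaf 0))) (.node (.node (.leaf 7840) (.leaf 0)) (.node (.leaf 6970) (.leaf 0))))) (.node (.node (.node (.node (.leaf 6007) (.leaf 9653)) (.node (.leaf 5889) (.leaf 0))) (.node (.node (.leaf 9166) (.leaf 0)) (.node (.leaf 1256) (.leaf 0)))) (.node (.node (.node (.leaf 18882) (.leaf 4358)) (.node (.leaf 10400) (.leaf 0))) (.node (.node (.leaf 16009) (.leaf 0)) (.node (.leaf 8051) (.leaf 0)))))) (.node (.node (.node (.node (.node (.leaf 14219) (.leaf 27)) (.node (.leaf 11609) (.leaf 0))) (.node (.node (.leaf 14872) (.leaf 5529)) (.node (.leaf 1599) (.leaf 0)))) (.node (.node (.node (.leaf 18763) (.leaf 8416)) (.node (.leaf 13489) (.leaf 0))) (.node (.node (.leaf 15076) (.leaf 0)) (.node (.leaf 8443) (.leaf 0))))) (.node (.node (.node (.node (.leaf 16592) (.leaf 1763)) (.node (.leaf 11685) (.leaf 0))) (.node (.node (.leaf 4044) (.leaf 0)) (.node (.leaf 10837) (.leaf 0)))) (.node (.node (.node (.leaf 2677) (.leaf 13471)) (.node (.leaf 11218) (.leaf 0))) (.node (.node (.leaf 16428)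 (.leaf 0)) (.node (.leaf 16193) (.leaf 0)))))))) (.node (.node (.node (.node (.node (.node (.node (.leaf 15753) (.leaf 21449)) (.node (.leaf 14336) (.leaf 0))) (.node (.node (.leaf 9136) (.leaf 7941)) (.node (.leaf 6323) (.leaf 0)))) (.node (.node (.node (.leaf 12119) (.leaf 19854)) (.node (.leaf 15106) (.leaf 0))) (.node (.node (.leaf 10866) (.leaf 0)) (.node (.leaf 12568) (.leaf 0))))) (.node (.node (.node (.node (.leaf 1051) (.leaf 7922)) (.node (.leaf 4238) (.leaf 0))) (.node (.node (.leaf 15427) (.leaf 0)) (.node (.leaf 2507) (.leaf 0)))) (.node (.node (.node (.leaf 6832) (.leaf 8424)) (.node (.leaf 10205) (.leaf 0))) (.node (.node (.leaf 1380) (.leaf 0)) (.node (.leaf 19849) (.leaf 0)))))) (.node (.node (.node (.node (.node (.leaf 12010) (.leaf 1303)) (.node (.leaf 17020) (.leaf 0))) (.node (.node (.leaf 9193) (.leaf 12888)) (.node (.leaf 11223) (.leaf 0)))) (.node (.node (.node (.leaf 17671) (.leaf 14269)) (.node (.leaf 17991) (.leaf 0))) (.node (.node (.leaf 9675) (.leaf 0)) (.node (.leaf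 11831) (.leaf 0))))) (.node (.node (.node (.node (.leaf 6091) (.leaf 15693)) (.node (.leaf 16926) (.leaf 0))) (.node (.node (.leaf 9865) (.leaf 0)) (.node (.leaf 19533) (.leaf 0)))) (.node (.node (.node (.leaf 3635) (.leaf 1311)) (.node (.leaf 18611) (.leaf 0))) (.node (.node (.leaf 7410) (.leaf 0)) (.node (.leaf 621) (.leaf 0))))))) (.node (.node (.node (.node (.node (.node (.leaf 10629) (.leaf 5419)) (.node (.leaf 20736) (.leaf 0))) (.node (.node (.leaf 18348) (.leaf 17622)) (.node (.leaf 1460) (.leaf 0)))) (.node (.node (.node (.leaf 1494) (.leaf 10281)) (.node (.leaf 21130) (.leaf 0))) (.node (.node (.leaf 18484) (.leaf 0)) (.node (.leaf 9079) (.leaf 0))))) (.node (.node (.node (.node (.leaf 1680) (.leaf 10608)) (.node (.leaf 21500) (.leaf 0))) (.node (.node (.leaf 7951) (.leaf 0)) (.node (.leaf 21349) (.leaf 0)))) (.node (.node (.node (.leaf 13820) (.leaf 9677)) (.node (.leaf 3171) (.leaf 0))) (.node (.node (.leaf 7292) (.leaf 0)) (.node (.leaf 18985) (.leaf 0)))))) (.node (.node (.node (.node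 (.node (.leaf 20175) (.leaf 17741)) (.node (.leaf 16389) (.leaf 0))) (.node (.node (.leaf 4952) (.leaf 8677)) (.node (.leaf 8123) (.leaf 0)))) (.node (.node (.node (.leaf 10877) (.leaf 15990)) (.node (.leaf 15159) (.leaf 0))) (.node (.node (.leaf 5949) (.leaf 0)) (.node (.leaf 7528) (.leaf 0))))) (.node (.node (.node (.node (.leaf 4107) (.leaf 6197)) (.node (.leaf 17315) (.leaf 0))) (.node (.node (.leaf 8128) (.leaf 0)) (.node (.leaf 9693) (.leaf 0)))) (.node (.node (.node (.leaf 8480) (.leaf 16755)) (.node (.leaf 6839) (.leaf 0))) (.node (.node (.leaf 8318) (.leaf 0)) (.node (.leaf 12138) (.leaf 0)))))))))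

/-- part of a table -/
def ordK10 : Trie := (.node (.node (.node (.node (.node (.node (.node (.node (.leaf 14411) (.leaf 12341)) (.node (.leaf 13569) (.leaf 0))) (.node (.node (.leaf 5054) (.leaf 21456)) (.node (.leaf 884) (.leaf 0)))) (.node (.node (.node (.leaf 21024) (.leaf 2484)) (.node (.leaf 5620) (.leaf 0))) (.node (.node (.leaf 3837) (.leaf 0)) (.node (.leaf 891) (.leaf 0))))) (.node (.node (.node (.node (.leaf 13647) (.leaf 13703)) (.node (.leaf 20905) (.leaf 0))) (.node (.node (.leaf 10555) (.leaf 0)) (.node (.leaf 10746) (.leaf 0)))) (.node (.node (.node (.leaf 15918) (.leaf 5006)) (.node (.leaf 5129) (.leaf 0))) (.node (.node (.leaf 2299) (.leaf 0)) (.node (.leaf 1965) (.leaf 0)))))) (.node (.node (.node (.node (.node (.leaf 13162) (.leaf 10148)) (.node (.leaf 20376) (.leaf 0))) (.node (.node (.leaf 16302) (.leaf 6126)) (.node (.leaf 13304) (.leaf 0)))) (.node (.node (.node (.leaf 19326) (.leaf 953)) (.node (.leaf 6730) (.leaf 0))) (.node (.node (.leaf 20893) (.leaf 0)) (.node (.leaf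 9948) (.leaf 0))))) (.node (.node (.node (.node (.leaf 18018) (.leaf 18700)) (.node (.leaf 1598) (.leaf 0))) (.node (.node (.leaf 11171) (.leaf 0)) (.node (.leaf 16957) (.leaf 0)))) (.node (.node (.node (.leaf 11412) (.leaf 17497)) (.node (.leaf 4817) (.leaf 0))) (.node (.node (.leaf 9471) (.leaf 0)) (.node (.leaf 18160) (.leaf 0))))))) (.node (.node (.node (.node (.node (.node (.leaf 14268) (.leaf 12813)) (.node (.leaf 14241) (.leaf 0))) (.node (.node (.leaf 3479) (.leaf 17160)) (.node (.leaf 14602) (.leaf 0)))) (.node (.node (.node (.leaf 18130) (.leaf 21370)) (.node (.leaf 18308) (.leaf 0))) (.node (.node (.leaf 17003) (.leaf 0)) (.node (.leaf 3996) (.leaf 0))))) (.node (.node (.node (.node (.leaf 11638) (.leaf 5678)) (.node (.leaf 249) (.leaf 0))) (.node (.node (.leaf 4235) (.leaf 0)) (.node (.leaf 1467) (.leaf 0)))) (.node (.node (.node (.leaf 6047) (.leaf 18431)) (.node (.leaf 21149) (.leaf 0))) (.node (.node (.leaf 15502) (.leaf 0)) (.node (.leaf 2020) (.leaf 0)))))) (.node (.node (.node (.node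 (.node (.leaf 12838) (.leaf 4042)) (.node (.leaf 13043) (.leaf 0))) (.node (.node (.leaf 5408) (.leaf 575)) (.node (.leaf 20169) (.leaf 0)))) (.node (.node (.node (.leaf 10567) (.leaf 9074)) (.node (.leaf 5845) (.leaf 0))) (.node (.node (.leaf 12127) (.leaf 0)) (.node (.leaf 3465) (.leaf 0))))) (.node (.node (.node (.node (.leaf 5902) (.leaf 19)) (.node (.leaf 16657) (.leaf 0))) (.node (.node (.leaf 16241) (.leaf 0)) (.node (.leaf 3239) (.leaf 0)))) (.node (.node (.node (.leaf 8454) (.leaf 3357)) (.node (.leaf 9225) (.leaf 0))) (.node (.node (.leaf 16210) (.leaf 0)) (.node (.leaf 21344) (.leaf 0)))))))) (.node (.node (.node (.node (.node (.node (.node (.leaf 6440) (.leaf 9698)) (.node (.leaf 5065) (.leaf 0))) (.node (.node (.leaf 6584) (.leaf 20770)) (.node (.leaf 4634) (.leaf 0)))) (.node (.node (.node (.leaf 15631) (.leaf 6950)) (.node (.leaf 11877) (.leaf 0))) (.node (.node (.leaf 5438) (.leaf 0)) (.node (.leaf 21205) (.leaf 0))))) (.node (.node (.node (.node (.leaf 13497) (.leaf 95)) (.node (.leaf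 20420) (.leaf 0))) (.node (.node (.leaf 14200) (.leaf 0)) (.node (.leaf 723) (.leaf 0)))) (.node (.node (.node (.leaf 15941) (.leaf 10023)) (.node (.leaf 3297) (.leaf 0))) (.node (.node (.leaf 6955) (.leaf 0)) (.node (.leaf 18242) (.leaf 0)))))) (.node (.node (.node (.node (.node (.leaf 18302) (.leaf 7468)) (.node (.leaf 8452) (.leaf 0))) (.node (.node (.leaf 16062) (.leaf 14559)) (.node (.leaf 5791) (.leaf 0)))) (.node (.node (.node (.leaf 18053) (.leaf 12843)) (.node (.leaf 15896) (.leaf 0))) (.node (.node (.leaf 1090) (.leaf 0)) (.node (.leaf 822) (.leaf 0))))) (.node (.node (.node (.node (.leaf 20926) (.leaf 5762)) (.node (.leaf 13252) (.leaf 0))) (.node (.node (.leaf 4826) (.leaf 0)) (.node (.leaf 20009) (.leaf 0)))) (.node (.node (.node (.leaf 9687) (.leaf 721)) (.node (.leaf 9528) (.leaf 0))) (.node (.node (.leaf 3913) (.leaf 0)) (.node (.leaf 10016) (.leaf 0))))))) (.node (.node (.node (.node (.node (.node (.leaf 9515) (.leaf 18533)) (.node (.leaf 16601) (.leaf 0))) (.node (.node (.leaf 10186)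 (.leaf 17740)) (.node (.leaf 18240) (.leaf 0)))) (.node (.node (.node (.leaf 6233) (.leaf 831)) (.node (.leaf 14178) (.leaf 0))) (.node (.node (.leaf 18983) (.leaf 0)) (.node (.leaf 7960) (.leaf 0))))) (.node (.node (.node (.node (.leaf 3020) (.leaf 2035)) (.node (.leaf 8260) (.leaf 0))) (.node (.node (.leaf 8709) (.leaf 0)) (.node (.leaf 8024) (.leaf 0)))) (.node (.node (.node (.leaf 12078) (.leaf 943)) (.node (.leaf 609) (.leaf 0))) (.node (.node (.leaf 18188) (.leaf 0)) (.node (.leaf 682) (.leaf 0)))))) (.node (.node (.node (.node (.node (.leaf 1335) (.leaf 19417)) (.node (.leaf 4806) (.leaf 0))) (.node (.node (.leaf 5159) (.leaf 18962)) (.node (.leaf 18024) (.leaf 0)))) (.node (.node (.node (.leaf 16673) (.leaf 3549)) (.node (.leaf 1118) (.leaf 0))) (.node (.node (.leaf 13705) (.leaf 0)) (.node (.leaf 7347) (.leaf 0))))) (.node (.node (.node (.node (.leaf 13904) (.leaf 10579)) (.node (.leaf 17381) (.leaf 0))) (.node (.node (.leaf 9365) (.leaf 0)) (.node (.leaf 9790) (.leaf 0)))) (.node (.node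 (.node (.leaf 11672) (.leaf 3936)) (.node (.leaf 10790) (.leaf 0))) (.node (.node (.leaf 2169) (.leaf 0)) (.node (.leaf 8808) (.leaf 0)))))))))

/-- part of a table -/
def ordK11 : Trie := (.node (.node (.node (.node (.node (.node (.node (.node (.leaf 13154) (.leaf 8120)) (.node (.leaf 8936) (.leaf 0))) (.node (.node (.leaf 4707) (.leaf 15508)) (.node (.leaf 6097) (.leaf 0)))) (.node (.node (.node (.leaf 1023) (.leaf 5114)) (.node (.leaf 18537) (.leaf 0))) (.node (.node (.leaf 8749) (.leaf 0)) (.node (.leaf 8322) (.leaf 0))))) (.node (.node (.node (.node (.leaf 5677) (.leaf 3227)) (.node (.leaf 10457) (.leaf 0))) (.node (.node (.leaf 4814) (.leaf 0)) (.node (.leaf 10979) (.leaf 0)))) (.node (.node (.node (.leaf 2717) (.leaf 2311)) (.node (.leaf 11096) (.leaf 0))) (.node (.node (.leaf 16838) (.leaf 0)) (.node (.leaf 847) (.leaf 0)))))) (.node (.node (.node (.node (.node (.leaf 5670) (.leaf 3350)) (.node (.leaf 19619) (.leaf 0))) (.node (.node (.leaf 12513) (.leaf 10251)) (.node (.leaf 16749) (.leaf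 0)))) (.node (.node (.node (.leaf 14420) (.leaf 9574)) (.node (.leaf 4022) (.leaf 0))) (.node (.node (.leaf 678) (.leaf 0)) (.node (.leaf 4730) (.leaf 0))))) (.node (.node (.node (.node (.leaf 1454) (.leaf 10238)) (.node (.leaf 12641) (.leaf 0))) (.node (.node (.leaf 13708) (.leaf 0)) (.node (.leaf 9190) (.leaf 0)))) (.node (.node (.node (.leaf 4285) (.leaf 1550)) (.node (.leaf 8792) (.leaf 0))) (.node (.node (.leaf 21184) (.leaf 0)) (.node (.leaf 17276) (.leaf 0))))))) (.node (.node (.node (.node (.node (.node (.leaf 18495) (.leaf 6991)) (.node (.leaf 17534) (.leaf 0))) (.node (.node (.leaf 14721) (.leaf 20439)) (.node (.leaf 622) (.leaf 0)))) (.node (.node (.node (.leaf 5704) (.leaf 1117)) (.node (.leaf 9269) (.leaf 0))) (.node (.node (.leaf 19053) (.leaf 0)) (.node (.leaf 21390) (.leaf 0))))) (.node (.node (.node (.node (.leaf 6658) (.leaf 10525)) (.node (.leaf 7276) (.leaf 0))) (.node (.node (.leaf 20286) (.leaf 0)) (.node (.leaf 3662) (.leaf 0)))) (.node (.node (.node (.leaf 19171) (.leaf 117))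 (.node (.leaf 4704) (.leaf 0))) (.node (.node (.leaf 6927) (.leaf 0)) (.node (.leaf 19532) (.leaf 0)))))) (.node (.node (.node (.node (.node (.leaf 13281) (.leaf 20023)) (.node (.leaf 15745) (.leaf 0))) (.node (.node (.leaf 6532) (.leaf 15714)) (.node (.leaf 10890) (.leaf 0)))) (.node (.node (.node (.leaf 18877) (.leaf 16765)) (.node (.leaf 17364) (.leaf 0))) (.node (.node (.leaf 20530) (.leaf 0)) (.node (.leaf 2663) (.leaf 0))))) (.node (.node (.node (.node (.leaf 15067) (.leaf 4024)) (.node (.leaf 20474) (.leaf 0))) (.node (.node (.leaf 17828) (.leaf 0)) (.node (.leaf 5333) (.leaf 0)))) (.node (.node (.node (.leaf 4128) (.leaf 2335)) (.node (.leaf 6476) (.leaf 0))) (.node (.node (.leaf 15115) (.leaf 0)) (.node (.leaf 7678) (.leaf 0)))))))) (.node (.node (.node (.node (.node (.node (.node (.leaf 12364) (.leaf 8017)) (.node (.leaf 19371) (.leaf 0))) (.node (.node (.leaf 2357) (.leaf 13857)) (.node (.leaf 4414) (.leaf 0)))) (.node (.node (.node (.leaf 1320) (.leaf 1387)) (.node (.leaf 18196) (.leaf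 0))) (.node (.node (.leaf 16363) (.leaf 0)) (.node (.leaf 13387) (.leaf 0))))) (.node (.node (.node (.node (.leaf 20406) (.leaf 8297)) (.node (.leaf 13974) (.leaf 0))) (.node (.node (.leaf 11842) (.leaf 0)) (.node (.leaf 13239) (.leaf 0)))) (.node (.node (.node (.leaf 1228) (.leaf 19604)) (.node (.leaf 3781) (.leaf 0))) (.node (.node (.leaf 20161) (.leaf 0)) (.node (.leaf 15831) (.leaf 0)))))) (.node (.node (.node (.node (.node (.leaf 2088) (.leaf 31)) (.node (.leaf 16204) (.leaf 0))) (.node (.node (.leaf 2425) (.leaf 17128)) (.node (.leaf 1281) (.leaf 0)))) (.node (.node (.node (.leaf 1957) (.leaf 13572)) (.node (.leaf 13539) (.leaf 0))) (.node (.node (.leaf 19193) (.leaf 0)) (.node (.leaf 20205) (.leaf 0))))) (.node (.node (.node (.node (.leaf 4232) (.leaf 11207)) (.node (.leaf 17227) (.leaf 0))) (.node (.node (.leaf 14640) (.leaf 0)) (.node (.leaf 10242) (.leaf 0)))) (.node (.node (.node (.leaf 166) (.leaf 13859)) (.node (.leaf 12883) (.leaf 0))) (.node (.node (.leaf 9684) (.leaf 0)) (.node (.leaf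 7813) (.leaf 0))))))) (.node (.node (.node (.node (.node (.node (.leaf 12844) (.leaf 12931)) (.node (.leaf 8019) (.leaf 0))) (.node (.node (.leaf 7238) (.leaf 6481)) (.node (.leaf 3004) (.leaf 0)))) (.node (.node (.node (.leaf 2352) (.leaf 4872)) (.node (.leaf 19061) (.leaf 0))) (.node (.node (.leaf 7990) (.leaf 0)) (.node (.leaf 16168) (.leaf 0))))) (.node (.node (.node (.node (.leaf 15738) (.leaf 6799)) (.node (.leaf 6066) (.leaf 0))) (.node (.node (.leaf 9356) (.leaf 0)) (.node (.leaf 16938) (.leaf 0)))) (.node (.node (.node (.leaf 6903) (.leaf 20384)) (.node (.leaf 3387) (.leaf 0))) (.node (.node (.leaf 16096) (.leaf 0)) (.node (.leaf 16383) (.leaf 0)))))) (.node (.node (.node (.node (.node (.leaf 13692) (.leaf 11452)) (.node (.leaf 15480) (.leaf 0))) (.node (.node (.leaf 18801) (.leaf 18017)) (.node (.leaf 12022) (.leaf 0)))) (.node (.node (.node (.leaf 4137) (.leaf 7254)) (.node (.leaf 21167) (.leaf 0))) (.node (.node (.leaf 11196) (.leaf 0)) (.node (.leaf 8004) (.leaf 0))))) (.node (.node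 (.node (.node (.leaf 18323) (.leaf 5330)) (.node (.leaf 19861) (.leaf 0))) (.node (.node (.leaf 19502) (.leaf 0)) (.node (.leaf 21011) (.leaf 0)))) (.node (.node (.node (.leaf 2007) (.leaf 4828)) (.node (.leaf 20854) (.leaf 0))) (.node (.node (.leaf 1262) (.leaf 0)) (.node (.leaf 4164) (.leaf 0)))))))))

/-- part of a table -/
def ordK12 : Trie := (.node (.node (.node (.node (.node (.node (.node (.node (.leaf 2456) (.leaf 12678)) (.node (.leaf 1570) (.leaf 0))) (.node (.node (.leaf 8194) (.leaf 11784)) (.node (.leaf 2398) (.leaf 0)))) (.node (.node (.node (.leaf 3476) (.leaf 461)) (.node (.leaf 14167) (.leaf 0))) (.node (.node (.leaf 15666) (.leaf 0)) (.node (.leaf 8489) (.leaf 0))))) (.node (.node (.node (.node (.leaf 19414) (.leaf 18137)) (.node (.leaf 17359) (.leaf 0))) (.node (.node (.leaf 5683) (.leaf 0)) (.node (.leaf 287) (.leaf 0)))) (.node (.node (.node (.leaf 5205) (.leaf 5516)) (.node (.leaf 327) (.leaf 0))) (.node (.node (.leaf 9089) (.leaf 0)) (.node (.leaf 18778) (.leaf 0)))))) (.node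 (.node (.node (.node (.node (.leaf 21034) (.leaf 8804)) (.node (.leaf 21014) (.leaf 0))) (.node (.node (.leaf 11986) (.leaf 15057)) (.node (.leaf 2338) (.leaf 0)))) (.node (.node (.node (.leaf 9571) (.leaf 18674)) (.node (.leaf 8226) (.leaf 0))) (.node (.node (.leaf 3097) (.leaf 0)) (.node (.leaf 8508) (.leaf 0))))) (.node (.node (.node (.node (.leaf 6583) (.leaf 15227)) (.node (.leaf 20467) (.leaf 0))) (.node (.node (.leaf 3712) (.leaf 0)) (.node (.leaf 14281) (.leaf 0)))) (.node (.node (.node (.leaf 12846) (.leaf 11847)) (.node (.leaf 21320) (.leaf 0))) (.node (.node (.leaf 21085) (.leaf 0)) (.node (.leaf 7810) (.leaf 0))))))) (.node (.node (.node (.node (.node (.node (.leaf 21143) (.leaf 20164)) (.node (.leaf 20914) (.leaf 0))) (.node (.node (.leaf 9048) (.leaf 1417)) (.node (.leaf 12987) (.leaf 0)))) (.node (.node (.node (.leaf 3250) (.leaf 14398)) (.node (.leaf 19413) (.leaf 0))) (.node (.node (.leaf 12629) (.leaf 0)) (.node (.leaf 3629) (.leaf 0))))) (.node (.node (.node (.node (.leaf 14927)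 (.leaf 1744)) (.node (.leaf 2510) (.leaf 0))) (.node (.node (.leaf 9716) (.leaf 0)) (.node (.leaf 258) (.leaf 0)))) (.node (.node (.node (.leaf 17255) (.leaf 10894)) (.node (.leaf 5286) (.leaf 0))) (.node (.node (.leaf 4125) (.leaf 0)) (.node (.leaf 4520) (.leaf 0)))))) (.node (.node (.node (.node (.node (.leaf 18231) (.leaf 16338)) (.node (.leaf 15718) (.leaf 0))) (.node (.node (.leaf 6608) (.leaf 20305)) (.node (.leaf 18724) (.leaf 0)))) (.node (.node (.node (.leaf 8459) (.leaf 18315)) (.node (.leaf 10185) (.leaf 0))) (.node (.node (.leaf 13321) (.leaf 0)) (.node (.leaf 2076) (.leaf 0))))) (.node (.node (.node (.node (.leaf 13880) (.leaf 12904)) (.node (.leaf 14071) (.leaf 0))) (.node (.node (.leaf 9018) (.leaf 0)) (.node (.leaf 8686) (.leaf 0)))) (.node (.node (.node (.leaf 8066) (.leaf 12511)) (.node (.leaf 9926) (.leaf 0))) (.node (.node (.leaf 555) (.leaf 0)) (.node (.leaf 13583) (.leaf 0)))))))) (.node (.node (.node (.node (.node (.node (.node (.leaf 14233) (.leaf 7170)) (.node (.leaf 11258)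 (.leaf 0))) (.node (.node (.leaf 1623) (.leaf 16948)) (.node (.leaf 6378) (.leaf 0)))) (.node (.node (.node (.leaf 5844) (.leaf 6890)) (.node (.leaf 1669) (.leaf 0))) (.node (.node (.leaf 5990) (.leaf 0)) (.node (.leaf 13649) (.leaf 0))))) (.node (.node (.node (.node (.leaf 2419) (.leaf 13133)) (.node (.leaf 16901) (.leaf 0))) (.node (.node (.leaf 12000) (.leaf 0)) (.node (.leaf 7501) (.leaf 0)))) (.node (.node (.node (.leaf 17105) (.leaf 7386)) (.node (.leaf 1326) (.leaf 0))) (.node (.node (.leaf 8766) (.leaf 0)) (.node (.leaf 5903) (.leaf 0)))))) (.node (.node (.node (.node (.node (.leaf 17868) (.leaf 10198)) (.node (.leaf 2674) (.leaf 0))) (.node (.node (.leaf 7817) (.leaf 16604)) (.node (.leaf 5910) (.leaf 0)))) (.node (.node (.node (.leaf 6506) (.leaf 18496)) (.node (.leaf 5182) (.leaf 0))) (.node (.node (.leaf 20070) (.leaf 0)) (.node (.leaf 2957) (.leaf 0))))) (.node (.node (.node (.node (.leaf 17832) (.leaf 11229)) (.node (.leaf 19535) (.leaf 0))) (.node (.node (.leaf 4620) (.leaf 0)) (.node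 (.leaf 20233) (.leaf 0)))) (.node (.node (.node (.leaf 20794) (.leaf 14062)) (.node (.leaf 16076) (.leaf 0))) (.node (.node (.leaf 8225) (.leaf 0)) (.node (.leaf 11843) (.leaf 0))))))) (.node (.node (.node (.node (.node (.node (.leaf 346) (.leaf 11006)) (.node (.leaf 20883) (.leaf 0))) (.node (.node (.leaf 7285) (.leaf 19378)) (.node (.leaf 9550) (.leaf 0)))) (.node (.node (.node (.leaf 15889) (.leaf 7324)) (.node (.leaf 13819) (.leaf 0))) (.node (.node (.leaf 9852) (.leaf 0)) (.node (.leaf 21232) (.leaf 0))))) (.node (.node (.node (.node (.leaf 16773) (.leaf 18869)) (.node (.leaf 12214) (.leaf 0))) (.node (.node (.leaf 9629) (.leaf 0)) (.node (.leaf 19597) (.leaf 0)))) (.node (.node (.node (.leaf 12207) (.leaf 2824)) (.node (.leaf 680) (.leaf 0))) (.node (.node (.leaf 14153) (.leaf 0)) (.node (.leaf 19772) (.leaf 0)))))) (.node (.node (.node (.node (.node (.leaf 3972) (.leaf 3343)) (.node (.leaf 13236) (.leaf 0))) (.node (.node (.leaf 15825) (.leaf 19281)) (.node (.leaf 12980) (.leaf 0)))) (.node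 (.node (.node (.leaf 19494) (.leaf 5631)) (.node (.leaf 263) (.leaf 0))) (.node (.node (.leaf 20413) (.leaf 0)) (.node (.leaf 12231) (.leaf 0))))) (.node (.node (.node (.node (.leaf 11361) (.leaf 1962)) (.node (.leaf 12560) (.leaf 0))) (.node (.node (.leaf 2205) (.leaf 0)) (.node (.leaf 11402) (.leaf 0)))) (.node (.node (.node (.leaf 18291) (.leaf 14503)) (.node (.leaf 7928) (.leaf 0))) (.node (.node (.leaf 4978) (.leaf 0)) (.node (.leaf 5271) (.leaf 0)))))))))

/-- part of a table -/
def ordK13 : Trie := (.node (.node (.node (.node (.node (.node (.node (.node (.leaf 16739) (.leaf 3536)) (.node (.leaf 1909) (.leaf 0))) (.node (.node (.leaf 12812) (.leaf 11892)) (.node (.leaf 19102) (.leaf 0)))) (.node (.node (.node (.leaf 16857) (.leaf 16523)) (.node (.leaf 17837) (.leaf 0))) (.node (.node (.leaf 16359) (.leaf 0)) (.node (.leaf 8547) (.leaf 0))))) (.node (.node (.node (.node (.leaf 19430) (.leaf 16550)) (.node (.leaf 21455) (.leaf 0))) (.node (.node (.leaf 13353) (.leaf 0)) (.node (.leaf 8464) (.leaf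 0)))) (.node (.node (.node (.leaf 18290) (.leaf 5604)) (.node (.leaf 6290) (.leaf 0))) (.node (.node (.leaf 19065) (.leaf 0)) (.node (.leaf 13958) (.leaf 0)))))) (.node (.node (.node (.node (.node (.leaf 11026) (.leaf 5755)) (.node (.leaf 14378) (.leaf 0))) (.node (.node (.leaf 8033) (.leaf 16199)) (.node (.leaf 10092) (.leaf 0)))) (.node (.node (.node (.leaf 1202) (.leaf 5037)) (.node (.leaf 300) (.leaf 0))) (.node (.node (.leaf 8400) (.leaf 0)) (.node (.leaf 15308) (.leaf 0))))) (.node (.node (.node (.node (.leaf 4701) (.leaf 3168)) (.node (.leaf 12047) (.leaf 0))) (.node (.node (.leaf 2538) (.leaf 0)) (.node (.leaf 17506) (.leaf 0)))) (.node (.node (.node (.leaf 10385) (.leaf 7203)) (.node (.leaf 20602) (.leaf 0))) (.node (.node (.leaf 17230) (.leaf 0)) (.node (.leaf 15007) (.leaf 0))))))) (.node (.node (.node (.node (.node (.node (.leaf 1195) (.leaf 12755)) (.node (.leaf 4233) (.leaf 0))) (.node (.node (.leaf 9703) (.leaf 20591)) (.node (.leaf 15582) (.leaf 0)))) (.node (.node (.node (.leaf 18531)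 (.leaf 17805)) (.node (.leaf 17562) (.leaf 0))) (.node (.node (.leaf 4048) (.leaf 0)) (.node (.leaf 14148) (.leaf 0))))) (.node (.node (.node (.node (.leaf 8129) (.leaf 10071)) (.node (.leaf 1701) (.leaf 0))) (.node (.node (.leaf 14012) (.leaf 0)) (.node (.leaf 12245) (.leaf 0)))) (.node (.node (.node (.leaf 14338) (.leaf 12809)) (.node (.leaf 11428) (.leaf 0))) (.node (.node (.leaf 8886) (.leaf 0)) (.node (.leaf 13877) (.leaf 0)))))) (.node (.node (.node (.node (.node (.leaf 8595) (.leaf 12165)) (.node (.leaf 10690) (.leaf 0))) (.node (.node (.leaf 4023) (.leaf 6108)) (.node (.leaf 16728) (.leaf 0)))) (.node (.node (.node (.leaf 12098) (.leaf 2279)) (.node (.leaf 4184) (.leaf 0))) (.node (.node (.leaf 14631) (.leaf 0)) (.node (.leaf 11954) (.leaf 0))))) (.node (.node (.node (.node (.leaf 19938) (.leaf 20437)) (.node (.leaf 2818) (.leaf 0))) (.node (.node (.leaf 17201) (.leaf 0)) (.node (.leaf 11240) (.leaf 0)))) (.node (.node (.node (.leaf 586) (.leaf 16328)) (.node (.leaf 2378) (.leaf 0))) (.node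 (.node (.leaf 17107) (.leaf 0)) (.node (.leaf 13104) (.leaf 0)))))))) (.node (.node (.node (.node (.node (.node (.node (.leaf 12850) (.leaf 8305)) (.node (.leaf 13256) (.leaf 0))) (.node (.node (.leaf 4004) (.leaf 4161)) (.node (.leaf 220) (.leaf 0)))) (.node (.node (.node (.leaf 8916) (.leaf 19218)) (.node (.leaf 8906) (.leaf 0))) (.node (.node (.leaf 2601) (.leaf 0)) (.node (.leaf 3888) (.leaf 0))))) (.node (.node (.node (.node (.leaf 10860) (.leaf 6005)) (.node (.leaf 8826) (.leaf 0))) (.node (.node (.leaf 9854) (.leaf 0)) (.node (.leaf 3688) (.leaf 0)))) (.node (.node (.node (.leaf 5457) (.leaf 19952)) (.node (.leaf 12831) (.leaf 0))) (.node (.node (.leaf 6110) (.leaf 0)) (.node (.leaf 5779) (.leaf 0)))))) (.node (.node (.node (.node (.node (.leaf 9206) (.leaf 2270)) (.node (.leaf 20818) (.leaf 0))) (.node (.node (.leaf 9828) (.leaf 367)) (.node (.leaf 18633) (.leaf 0)))) (.node (.node (.node (.leaf 21482) (.leaf 3705)) (.node (.leaf 3403) (.leaf 0))) (.node (.node (.leaf 15912) (.leaf 0)) (.node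 (.leaf 14327) (.leaf 0))))) (.node (.node (.node (.node (.leaf 12910) (.leaf 5597)) (.node (.leaf 10802) (.leaf 0))) (.node (.node (.leaf 2518) (.leaf 0)) (.node (.leaf 9532) (.leaf 0)))) (.node (.node (.node (.leaf 14260) (.leaf 996)) (.node (.leaf 5927) (.leaf 0))) (.node (.node (.leaf 4886) (.leaf 0)) (.node (.leaf 17146) (.leaf 0))))))) (.node (.node (.node (.node (.node (.node (.leaf 7968) (.leaf 4878)) (.node (.leaf 7536) (.leaf 0))) (.node (.node (.leaf 15166) (.leaf 9154)) (.node (.leaf 2222) (.leaf 0)))) (.node (.node (.node (.leaf 15306) (.leaf 14197)) (.node (.leaf 3270) (.leaf 0))) (.node (.node (.leaf 9701) (.leaf 0)) (.node (.leaf 6902) (.leaf 0))))) (.node (.node (.node (.node (.leaf 14581) (.leaf 8626)) (.node (.leaf 19735) (.leaf 0))) (.node (.node (.leaf 10865) (.leaf 0)) (.node (.leaf 13272) (.leaf 0)))) (.node (.node (.node (.leaf 2407) (.leaf 9305)) (.node (.leaf 34) (.leaf 0))) (.node (.node (.leaf 21273) (.leaf 0)) (.node (.leaf 36) (.leaf 0)))))) (.node (.node (.node (.node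 (.node (.leaf 13990) (.leaf 6653)) (.node (.leaf 5750) (.leaf 0))) (.node (.node (.leaf 4508) (.leaf 1319)) (.node (.leaf 639) (.leaf 0)))) (.node (.node (.node (.leaf 12693) (.leaf 16932)) (.node (.leaf 14709) (.leaf 0))) (.node (.node (.leaf 17798) (.leaf 0)) (.node (.leaf 19944) (.leaf 0))))) (.node (.node (.node (.node (.leaf 19195) (.leaf 6951)) (.node (.leaf 10218) (.leaf 0))) (.node (.node (.leaf 1277) (.leaf 0)) (.node (.leaf 3715) (.leaf 0)))) (.node (.node (.node (.leaf 16441) (.leaf 9455)) (.node (.leaf 4025) (.leaf 0))) (.node (.node (.leaf 81) (.leaf 0)) (.node (.leaf 12825) (.leaf 0)))))))))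

/-- part of a table -/
def ordK14 : Trie := (.node (.node (.node (.node (.node (.node (.node (.node (.leaf 20314) (.leaf 21384)) (.node (.leaf 6371) (.leaf 0))) (.node (.node (.leaf 9344) (.leaf 2618)) (.node (.leaf 15832) (.leaf 0)))) (.node (.node (.node (.leaf 13742) (.leaf 15114)) (.node (.leaf 8570) (.leaf 0))) (.node (.node (.leaf 18610) (.leaf 0)) (.node (.leaf 9826) (.leaf 0))))) (.node (.node (.node (.node (.leaf 16899) (.leaf 14156)) (.node (.leaf 13155) (.leaf 0))) (.node (.node (.leaf 11528) (.leaf 0)) (.node (.leaf 19390) (.leaf 0)))) (.node (.node (.node (.leaf 3134) (.leaf 5302)) (.node (.leaf 4725) (.leaf 0))) (.node (.node (.leaf 1946) (.leaf 0)) (.node (.leaf 17653) (.leaf 0)))))) (.node (.node (.node (.node (.node (.leaf 16919) (.leaf 15794)) (.node (.leaf 15588) (.leaf 0))) (.node (.node (.leaf 5209) (.leaf 1249)) (.node (.leaf 7500) (.leaf 0)))) (.node (.node (.node (.leaf 8681) (.leaf 8751)) (.node (.leaf 12212) (.leaf 0))) (.node (.node (.leaf 19990) (.leaf 0)) (.node (.leaf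 7128) (.leaf 0))))) (.node (.node (.node (.node (.leaf 11159) (.leaf 7779)) (.node (.leaf 7024) (.leaf 0))) (.node (.node (.leaf 1268) (.leaf 0)) (.node (.leaf 4923) (.leaf 0)))) (.node (.node (.node (.leaf 16457) (.leaf 782)) (.node (.leaf 21055) (.leaf 0))) (.node (.node (.leaf 7631) (.leaf 0)) (.node (.leaf 20920) (.leaf 0))))))) (.node (.node (.node (.node (.node (.node (.leaf 3894) (.leaf 9967)) (.node (.leaf 13674) (.leaf 0))) (.node (.node (.leaf 5332) (.leaf 2444)) (.node (.leaf 13051) (.leaf 0)))) (.node (.node (.node (.leaf 21200) (.leaf 15158)) (.node (.leaf 12822) (.leaf 0))) (.node (.node (.leaf 17140) (.leaf 0)) (.node (.leaf 152) (.leaf 0))))) (.node (.node (.node (.node (.leaf 16103) (.leaf 8704)) (.node (.leaf 151) (.leaf 0))) (.node (.node (.leaf 11551) (.leaf 0)) (.node (.leaf 2356) (.leaf 0)))) (.node (.node (.node (.leaf 11055) (.leaf 11692)) (.node (.leaf 14848) (.leaf 0))) (.node (.node (.leaf 2655) (.leaf 0)) (.node (.leaf 2481) (.leaf 0)))))) (.node (.node (.node (.node (.node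 (.leaf 620) (.leaf 1634)) (.node (.leaf 17999) (.leaf 0))) (.node (.node (.leaf 727) (.leaf 14054)) (.node (.leaf 15439) (.leaf 0)))) (.node (.node (.node (.leaf 18287) (.leaf 10581)) (.node (.leaf 5103) (.leaf 0))) (.node (.node (.leaf 4792) (.leaf 0)) (.node (.leaf 17143) (.leaf 0))))) (.node (.node (.node (.node (.leaf 1436) (.leaf 6245)) (.node (.leaf 5432) (.leaf 0))) (.node (.node (.leaf 19071) (.leaf 0)) (.node (.leaf 18976) (.leaf 0)))) (.node (.node (.node (.leaf 20374) (.leaf 974)) (.node (.leaf 12271) (.leaf 0))) (.node (.node (.leaf 7514) (.leaf 0)) (.node (.leaf 19199) (.leaf 0)))))))) (.node (.node (.node (.node (.node (.node (.node (.leaf 11346) (.leaf 20362)) (.node (.leaf 7697) (.leaf 0))) (.node (.node (.leaf 4611) (.leaf 10230)) (.node (.leaf 14483) (.leaf 0)))) (.node (.node (.node (.leaf 16531) (.leaf 15506)) (.node (.leaf 14187) (.leaf 0))) (.node (.node (.leaf 4887) (.leaf 0)) (.node (.leaf 8894) (.leaf 0))))) (.node (.node (.node (.node (.leaf 529) (.leaf 6527)) (.node (.leaf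 6639) (.leaf 0))) (.node (.node (.leaf 16186) (.leaf 0)) (.node (.leaf 19815) (.leaf 0)))) (.node (.node (.node (.leaf 21316) (.leaf 7721)) (.node (.leaf 18607) (.leaf 0))) (.node (.node (.leaf 453) (.leaf 0)) (.node (.leaf 1581) (.leaf 0)))))) (.node (.node (.node (.node (.node (.leaf 8669) (.leaf 9011)) (.node (.leaf 2393) (.leaf 0))) (.node (.node (.leaf 3704) (.leaf 3736)) (.node (.leaf 19209) (.leaf 0)))) (.node (.node (.node (.leaf 11989) (.leaf 1083)) (.node (.leaf 4975) (.leaf 0))) (.node (.node (.leaf 6253) (.leaf 0)) (.node (.leaf 9896) (.leaf 0))))) (.node (.node (.node (.node (.leaf 507) (.leaf 18253)) (.node (.leaf 10741) (.leaf 0))) (.node (.node (.leaf 19647) (.leaf 0)) (.node (.leaf 449) (.leaf 0)))) (.node (.node (.node (.leaf 15073) (.leaf 15612)) (.node (.leaf 5736) (.leaf 0))) (.node (.node (.leaf 21387) (.leaf 0)) (.node (.leaf 4451) (.leaf 0))))))) (.node (.node (.node (.node (.node (.node (.leaf 21495) (.leaf 10854)) (.node (.leaf 9326) (.leaf 0))) (.node (.node (.leaf 10965)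 (.leaf 5219)) (.node (.leaf 4136) (.leaf 0)))) (.node (.node (.node (.leaf 13102) (.leaf 9702)) (.node (.leaf 2262) (.leaf 0))) (.node (.node (.leaf 6374) (.leaf 0)) (.node (.leaf 5897) (.leaf 0))))) (.node (.node (.node (.node (.leaf 9395) (.leaf 13386)) (.node (.leaf 17139) (.leaf 0))) (.node (.node (.leaf 18997) (.leaf 0)) (.node (.leaf 7632) (.leaf 0)))) (.node (.node (.node (.leaf 10168) (.leaf 16681)) (.node (.leaf 17655) (.leaf 0))) (.node (.node (.leaf 3024) (.leaf 0)) (.node (.leaf 13948) (.leaf 0)))))) (.node (.node (.node (.node (.node (.leaf 18605) (.leaf 11658)) (.node (.leaf 11772) (.leaf 0))) (.node (.node (.leaf 1091) (.leaf 4888)) (.node (.leaf 111) (.leaf 0)))) (.node (.node (.node (.leaf 17667) (.leaf 8255)) (.node (.leaf 10386) (.leaf 0))) (.node (.node (.leaf 18390) (.leaf 0)) (.node (.leaf 19460) (.leaf 0))))) (.node (.node (.node (.node (.leaf 19965) (.leaf 20082)) (.node (.leaf 7027) (.leaf 0))) (.node (.node (.leaf 19876) (.leaf 0)) (.node (.leaf 5175) (.leaf 0)))) (.node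 (.node (.node (.leaf 754) (.leaf 16122)) (.node (.leaf 3050) (.leaf 0))) (.node (.node (.leaf 8710) (.leaf 0)) (.node (.leaf 20299) (.leaf 0)))))))))

/-- part of a table -/
def ordK15 : Trie := (.node (.node (.node (.node (.node (.node (.node (.node (.leaf 14718) (.leaf 4092)) (.node (.leaf 20660) (.leaf 0))) (.node (.node (.leaf 10829) (.leaf 12147)) (.node (.leaf 5745) (.leaf 0)))) (.node (.node (.node (.leaf 7827) (.leaf 7755)) (.node (.leaf 19631) (.leaf 0))) (.node (.node (.leaf 5447) (.leaf 0)) (.node (.leaf 11278) (.leaf 0))))) (.node (.node (.node (.node (.leaf 13684) (.leaf 3673)) (.node (.leaf 3604) (.leaf 0))) (.node (.node (.leaf 13935) (.leaf 0)) (.node (.leaf 4660) (.leaf 0)))) (.node (.node (.node (.leaf 666) (.leaf 5878)) (.node (.leaf 14685) (.leaf 0))) (.node (.node (.leaf 16098) (.leaf 0)) (.node (.leaf 2576) (.leaf 0)))))) (.node (.node (.node (.node (.node (.leaf 5346) (.leaf 10742)) (.node (.leaf 6409) (.leaf 0))) (.node (.node (.leaf 3901) (.leaf 16352)) (.node (.leaf 15335)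 (.leaf 0)))) (.node (.node (.node (.leaf 1478) (.leaf 3295)) (.node (.leaf 6531) (.leaf 0))) (.node (.node (.leaf 19550) (.leaf 0)) (.node (.leaf 15421) (.leaf 0))))) (.node (.node (.node (.node (.leaf 9135) (.leaf 5433)) (.node (.leaf 13404) (.leaf 0))) (.node (.node (.leaf 11878) (.leaf 0)) (.node (.leaf 14970) (.leaf 0)))) (.node (.node (.node (.leaf 15239) (.leaf 627)) (.node (.leaf 14391) (.leaf 0))) (.node (.node (.leaf 12697) (.leaf 0)) (.node (.leaf 17401) (.leaf 0))))))) (.node (.node (.node (.node (.node (.node (.leaf 10350) (.leaf 5055)) (.node (.leaf 15569) (.leaf 0))) (.node (.node (.leaf 19299) (.leaf 7287)) (.node (.leaf 18420) (.leaf 0)))) (.node (.node (.node (.leaf 11856) (.leaf 9618)) (.node (.leaf 6495) (.leaf 0))) (.node (.node (.leaf 11198) (.leaf 0)) (.node (.leaf 10303) (.leaf 0))))) (.node (.node (.node (.node (.leaf 12095) (.leaf 3889)) (.node (.leaf 2238) (.leaf 0))) (.node (.node (.leaf 18630) (.leaf 0)) (.node (.leaf 707) (.leaf 0)))) (.node (.node (.node (.leaf 2034)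 (.leaf 18159)) (.node (.leaf 20187) (.leaf 0))) (.node (.node (.leaf 2178) (.leaf 0)) (.node (.leaf 16313) (.leaf 0)))))) (.node (.node (.node (.node (.node (.leaf 7114) (.leaf 12107)) (.node (.leaf 14826) (.leaf 0))) (.node (.node (.leaf 13900) (.leaf 445)) (.node (.leaf 14322) (.leaf 0)))) (.node (.node (.node (.leaf 13998) (.leaf 3649)) (.node (.leaf 7084) (.leaf 0))) (.node (.node (.leaf 2590) (.leaf 0)) (.node (.leaf 9398) (.leaf 0))))) (.node (.node (.node (.node (.leaf 19836) (.leaf 12728)) (.node (.leaf 1751) (.leaf 0))) (.node (.node (.leaf 12878) (.leaf 0)) (.node (.leaf 15367) (.leaf 0)))) (.node (.node (.node (.leaf 15324) (.leaf 11014)) (.node (.leaf 15922) (.leaf 0))) (.node (.node (.leaf 16972) (.leaf 0)) (.node (.leaf 19128) (.leaf 0)))))))) (.node (.node (.node (.node (.node (.node (.node (.leaf 9300) (.leaf 16271)) (.node (.leaf 16529) (.leaf 0))) (.node (.node (.leaf 1754) (.leaf 9604)) (.node (.leaf 714) (.leaf 0)))) (.node (.node (.node (.leaf 18943) (.leaf 66)) (.node (.leaf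 6868) (.leaf 0))) (.node (.node (.leaf 15704) (.leaf 0)) (.node (.leaf 11388) (.leaf 0))))) (.node (.node (.node (.node (.leaf 19185) (.leaf 1735)) (.node (.leaf 14726) (.leaf 0))) (.node (.node (.leaf 2865) (.leaf 0)) (.node (.leaf 3658) (.leaf 0)))) (.node (.node (.node (.leaf 2350) (.leaf 16813)) (.node (.leaf 956) (.leaf 0))) (.node (.node (.leaf 3276) (.leaf 0)) (.node (.leaf 14237) (.leaf 0)))))) (.node (.node (.node (.node (.node (.leaf 13822) (.leaf 7713)) (.node (.leaf 1808) (.leaf 0))) (.node (.node (.leaf 6198) (.leaf 19933)) (.node (.leaf 11195) (.leaf 0)))) (.node (.node (.node (.leaf 20391) (.leaf 20464)) (.node (.leaf 15646) (.leaf 0))) (.node (.node (.leaf 21022) (.leaf 0)) (.node (.leaf 16898) (.leaf 0))))) (.node (.node (.node (.node (.leaf 19931) (.leaf 14551)) (.node (.leaf 16991) (.leaf 0))) (.node (.node (.leaf 10394) (.leaf 0)) (.node (.leaf 2131) (.leaf 0)))) (.node (.node (.node (.leaf 20040) (.leaf 21420)) (.node (.leaf 4959) (.leaf 0))) (.node (.node (.leaf 13581) (.leaf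 0)) (.node (.leaf 17496) (.leaf 0))))))) (.node (.node (.node (.node (.node (.node (.leaf 4638) (.leaf 13466)) (.node (.leaf 11994) (.leaf 0))) (.node (.node (.leaf 4727) (.leaf 14689)) (.node (.leaf 16805) (.leaf 0)))) (.node (.node (.node (.leaf 15112) (.leaf 4291)) (.node (.leaf 652) (.leaf 0))) (.node (.node (.leaf 4290) (.leaf 0)) (.node (.leaf 17792) (.leaf 0))))) (.node (.node (.node (.node (.leaf 1678) (.leaf 21113)) (.node (.leaf 19707) (.leaf 0))) (.node (.node (.leaf 8317) (.leaf 0)) (.node (.leaf 17231) (.leaf 0)))) (.node (.node (.node (.leaf 5758) (.leaf 7149)) (.node (.leaf 2144) (.leaf 0))) (.node (.node (.leaf 18218) (.leaf 0)) (.node (.leaf 4436) (.leaf 0)))))) (.node (.node (.node (.node (.node (.leaf 12346) (.leaf 1887)) (.node (.leaf 7823) (.leaf 0))) (.node (.node (.leaf 1658) (.leaf 17362)) (.node (.leaf 2100) (.leaf 0)))) (.node (.node (.node (.leaf 8987) (.leaf 15257)) (.node (.leaf 15240) (.leaf 0))) (.node (.node (.leaf 3254) (.leaf 0)) (.node (.leaf 11461) (.leaf 0)))))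 (.node (.node (.node (.node (.leaf 19894) (.leaf 21360)) (.node (.leaf 13202) (.leaf 0))) (.node (.node (.leaf 12677) (.leaf 0)) (.node (.leaf 17989) (.leaf 0)))) (.node (.node (.node (.leaf 17011) (.leaf 19492)) (.node (.leaf 4765) (.leaf 0))) (.node (.node (.leaf 20475) (.leaf 0)) (.node (.leaf 2400) (.leaf 0)))))))))

/-- part of a table -/
def ordK16 : Trie := (.node (.node (.node (.node (.node (.node (.node (.node (.leaf 16917) (.leaf 13163)) (.node (.leaf 5455) (.leaf 0))) (.node (.node (.leaf 12655) (.leaf 11656)) (.node (.leaf 16479) (.leaf 0)))) (.node (.node (.node (.leaf 1372) (.leaf 429)) (.node (.leaf 8793) (.leaf 0))) (.node (.node (.leaf 12804) (.leaf 0)) (.node (.leaf 15338) (.leaf 0))))) (.node (.node (.node (.node (.leaf 6220) (.leaf 12425)) (.node (.leaf 4967) (.leaf 0))) (.node (.node (.leaf 12178) (.leaf 0)) (.node (.leaf 19606) (.leaf 0)))) (.node (.node (.node (.leaf 4362) (.leaf 4549)) (.node (.leaf 3443) (.leaf 0))) (.node (.node (.leaf 19578) (.leaf 0)) (.node (.leaf 1468)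 (.leaf 0)))))) (.node (.node (.node (.node (.node (.leaf 18903) (.leaf 14055)) (.node (.leaf 19202) (.leaf 0))) (.node (.node (.leaf 13567) (.leaf 5719)) (.node (.leaf 1329) (.leaf 0)))) (.node (.node (.node (.leaf 635) (.leaf 20424)) (.node (.leaf 21198) (.leaf 0))) (.node (.node (.leaf 3808) (.leaf 0)) (.node (.leaf 6420) (.leaf 0))))) (.node (.node (.node (.node (.leaf 7767) (.leaf 13933)) (.node (.leaf 233) (.leaf 0))) (.node (.node (.leaf 6977) (.leaf 0)) (.node (.leaf 1514) (.leaf 0)))) (.node (.node (.node (.leaf 17153) (.leaf 12004)) (.node (.leaf 18784) (.leaf 0))) (.node (.node (.leaf 19409) (.leaf 0)) (.node (.leaf 1360) (.leaf 0))))))) (.node (.node (.node (.node (.node (.node (.leaf 8883) (.leaf 510)) (.node (.leaf 11073) (.leaf 0))) (.node (.node (.leaf 21304) (.leaf 5777)) (.node (.leaf 1841) (.leaf 0)))) (.node (.node (.node (.leaf 518) (.leaf 9699)) (.node (.leaf 3402) (.leaf 0))) (.node (.node (.leaf 14111) (.leaf 0)) (.node (.leaf 5193) (.leaf 0))))) (.node (.node (.node (.node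 (.leaf 8166) (.leaf 4257)) (.node (.leaf 5051) (.leaf 0))) (.node (.node (.leaf 8962) (.leaf 0)) (.node (.leaf 10666) (.leaf 0)))) (.node (.node (.node (.leaf 5202) (.leaf 12675)) (.node (.leaf 4921) (.leaf 0))) (.node (.node (.leaf 4253) (.leaf 0)) (.node (.leaf 19549) (.leaf 0)))))) (.node (.node (.node (.node (.node (.leaf 9407) (.leaf 18712)) (.node (.leaf 16809) (.leaf 0))) (.node (.node (.leaf 3397) (.leaf 11613)) (.node (.leaf 14461) (.leaf 0)))) (.node (.node (.node (.leaf 9554) (.leaf 8306)) (.node (.leaf 6083) (.leaf 0))) (.node (.node (.leaf 221) (.leaf 0)) (.node (.leaf 14997) (.leaf 0))))) (.node (.node (.node (.node (.leaf 8437) (.leaf 15980)) (.node (.leaf 4068) (.leaf 0))) (.node (.node (.leaf 3266) (.leaf 0)) (.node (.leaf 21088) (.leaf 0)))) (.node (.node (.node (.leaf 15493) (.leaf 16180)) (.node (.leaf 11199) (.leaf 0))) (.node (.node (.leaf 16662) (.leaf 0)) (.node (.leaf 19387) (.leaf 0)))))))) (.node (.node (.node (.node (.node (.node (.node (.leaf 20366) (.leaf 7137)) (.node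 (.leaf 8776) (.leaf 0))) (.node (.node (.leaf 2063) (.leaf 17986)) (.node (.leaf 20121) (.leaf 0)))) (.node (.node (.node (.leaf 9295) (.leaf 9977)) (.node (.leaf 4373) (.leaf 0))) (.node (.node (.leaf 19797) (.leaf 0)) (.node (.leaf 10563) (.leaf 0))))) (.node (.node (.node (.node (.leaf 5821) (.leaf 7586)) (.node (.leaf 9570) (.leaf 0))) (.node (.node (.leaf 14380) (.leaf 0)) (.node (.leaf 5378) (.leaf 0)))) (.node (.node (.node (.leaf 10893) (.leaf 19678)) (.node (.leaf 20354) (.leaf 0))) (.node (.node (.leaf 2872) (.leaf 0)) (.node (.leaf 20904) (.leaf 0)))))) (.node (.node (.node (.node (.node (.leaf 12453) (.leaf 2033)) (.node (.leaf 20859) (.leaf 0))) (.node (.node (.leaf 18558) (.leaf 2686)) (.node (.leaf 13723) (.leaf 0)))) (.node (.node (.node (.leaf 7453) (.leaf 2782)) (.node (.leaf 1812) (.leaf 0))) (.node (.node (.leaf 19764) (.leaf 0)) (.node (.leaf 19016) (.leaf 0))))) (.node (.node (.node (.node (.leaf 305) (.leaf 8415)) (.node (.leaf 15684) (.leaf 0))) (.node (.node (.leaf 694) (.leaf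 0)) (.node (.leaf 11136) (.leaf 0)))) (.node (.node (.node (.leaf 11399) (.leaf 16971)) (.node (.leaf 9807) (.leaf 0))) (.node (.node (.leaf 1147) (.leaf 0)) (.node (.leaf 15739) (.leaf 0))))))) (.node (.node (.node (.node (.node (.node (.leaf 13263) (.leaf 7284)) (.node (.leaf 12355) (.leaf 0))) (.node (.node (.leaf 1080) (.leaf 1858)) (.node (.leaf 10265) (.leaf 0)))) (.node (.node (.node (.leaf 3124) (.leaf 655)) (.node (.leaf 7467) (.leaf 0))) (.node (.node (.leaf 6154) (.leaf 0)) (.node (.leaf 8453) (.leaf 0))))) (.node (.node (.node (.node (.leaf 7001) (.leaf 8097)) (.node (.leaf 14409) (.leaf 0))) (.node (.node (.leaf 17239) (.leaf 0)) (.node (.leaf 8050) (.leaf 0)))) (.node (.node (.node (.leaf 14511) (.leaf 13789)) (.node (.leaf 19794) (.leaf 0))) (.node (.node (.leaf 1431) (.leaf 0)) (.node (.leaf 2368) (.leaf 0)))))) (.node (.node (.node (.node (.node (.leaf 2857) (.leaf 2329)) (.node (.leaf 17086) (.leaf 0))) (.node (.node (.leaf 13577) (.leaf 3321)) (.node (.leaf 18384) (.leaf 0))))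 (.node (.node (.node (.leaf 6318) (.leaf 14430)) (.node (.leaf 2814) (.leaf 0))) (.node (.node (.leaf 4280) (.leaf 0)) (.node (.leaf 7243) (.leaf 0))))) (.node (.node (.node (.node (.leaf 13398) (.leaf 18468)) (.node (.leaf 402) (.leaf 0))) (.node (.node (.leaf 21432) (.leaf 0)) (.node (.leaf 12954) (.leaf 0)))) (.node (.node (.node (.leaf 16263) (.leaf 5650)) (.node (.leaf 5853) (.leaf 0))) (.node (.node (.leaf 8698) (.leaf 0)) (.node (.leaf 19032) (.leaf 0)))))))))

/-- part of a table -/
def ordK17 : Trie := (.node (.node (.node (.node (.node (.node (.node (.node (.leaf 20332) (.leaf 7256)) (.node (.leaf 7383) (.leaf 0))) (.node (.node (.leaf 6732) (.leaf 8075)) (.node (.leaf 8118) (.leaf 0)))) (.node (.node (.node (.leaf 11310) (.leaf 18685)) (.node (.leaf 14392) (.leaf 0))) (.node (.node (.leaf 2490) (.leaf 0)) (.node (.leaf 5353) (.leaf 0))))) (.node (.node (.node (.node (.leaf 1791) (.leaf 11160)) (.node (.leaf 10797) (.leaf 0))) (.node (.node (.leaf 12979) (.leaf 0)) (.node (.leaf 18122)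 (.leaf 0)))) (.node (.node (.node (.leaf 8208) (.leaf 9729)) (.node (.leaf 3495) (.leaf 0))) (.node (.node (.leaf 5423) (.leaf 0)) (.node (.leaf 708) (.leaf 0)))))) (.node (.node (.node (.node (.node (.leaf 20837) (.leaf 21459)) (.node (.leaf 17665) (.leaf 0))) (.node (.node (.leaf 6367) (.leaf 19795)) (.node (.leaf 14912) (.leaf 0)))) (.node (.node (.node (.leaf 2096) (.leaf 21351)) (.node (.leaf 4728) (.leaf 0))) (.node (.node (.leaf 16777) (.leaf 0)) (.node (.leaf 278) (.leaf 0))))) (.node (.node (.node (.node (.leaf 7792) (.leaf 10602)) (.node (.leaf 14353) (.leaf 0))) (.node (.node (.leaf 20593) (.leaf 0)) (.node (.leaf 29) (.leaf 0)))) (.node (.node (.node (.leaf 17899) (.leaf 6901)) (.node (.leaf 3742) (.leaf 0))) (.node (.node (.leaf 14038) (.leaf 0)) (.node (.leaf 7123) (.leaf 0))))))) (.node (.node (.node (.node (.node (.node (.leaf 0) (.leaf 6632)) (.node (.leaf 12600) (.leaf 0))) (.node (.node (.leaf 18381) (.leaf 9111)) (.node (.leaf 4833) (.leaf 0)))) (.node (.node (.node (.leaf 2062)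 (.leaf 9633)) (.node (.leaf 11696) (.leaf 0))) (.node (.node (.leaf 16839) (.leaf 0)) (.node (.leaf 15656) (.leaf 0))))) (.node (.node (.node (.node (.leaf 1801) (.leaf 18205)) (.node (.leaf 15305) (.leaf 0))) (.node (.node (.leaf 17216) (.leaf 0)) (.node (.leaf 1681) (.leaf 0)))) (.node (.node (.node (.leaf 18352) (.leaf 15371)) (.node (.leaf 21160) (.leaf 0))) (.node (.node (.leaf 14519) (.leaf 0)) (.node (.leaf 7545) (.leaf 0)))))) (.node (.node (.node (.node (.node (.leaf 17174) (.leaf 13120)) (.node (.leaf 8311) (.leaf 0))) (.node (.node (.leaf 13093) (.leaf 16670)) (.node (.leaf 9371) (.leaf 0)))) (.node (.node (.node (.leaf 2837) (.leaf 19662)) (.node (.leaf 19238) (.leaf 0))) (.node (.node (.leaf 8486) (.leaf 0)) (.node (.leaf 5922) (.leaf 0))))) (.node (.node (.node (.node (.leaf 21481) (.leaf 7311)) (.node (.leaf 13964) (.leaf 0))) (.node (.node (.leaf 6294) (.leaf 0)) (.node (.leaf 20987) (.leaf 0)))) (.node (.node (.node (.leaf 14768) (.leaf 13001)) (.node (.leaf 2745) (.leaf 0))) (.node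 (.node (.leaf 7639) (.leaf 0)) (.node (.leaf 13930) (.leaf 0)))))))) (.node (.node (.node (.node (.node (.node (.node (.leaf 8931) (.leaf 10276)) (.node (.leaf 8430) (.leaf 0))) (.node (.node (.leaf 18222) (.leaf 16008)) (.node (.leaf 6040) (.leaf 0)))) (.node (.node (.node (.leaf 10380) (.leaf 4336)) (.node (.leaf 2679) (.leaf 0))) (.node (.node (.leaf 18305) (.leaf 0)) (.node (.leaf 6662) (.leaf 0))))) (.node (.node (.node (.node (.leaf 8911) (.leaf 20714)) (.node (.leaf 18730) (.leaf 0))) (.node (.node (.leaf 9065) (.leaf 0)) (.node (.leaf 11405) (.leaf 0)))) (.node (.node (.node (.leaf 12496) (.leaf 13265)) (.node (.leaf 14478) (.leaf 0))) (.node (.node (.leaf 9010) (.leaf 0)) (.node (.leaf 9990) (.leaf 0)))))) (.node (.node (.node (.node (.node (.leaf 1267) (.leaf 7966)) (.node (.leaf 8654) (.leaf 0))) (.node (.node (.leaf 7633) (.leaf 7666)) (.node (.leaf 12016) (.leaf 0)))) (.node (.node (.node (.leaf 3786) (.leaf 5400)) (.node (.leaf 3288) (.leaf 0))) (.node (.node (.leaf 2382) (.leaf 0))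 (.node (.leaf 12482) (.leaf 0))))) (.node (.node (.node (.node (.leaf 6559) (.leaf 20062)) (.node (.leaf 5785) (.leaf 0))) (.node (.node (.leaf 9097) (.leaf 0)) (.node (.leaf 20539) (.leaf 0)))) (.node (.node (.node (.leaf 4945) (.leaf 15070)) (.node (.leaf 6120) (.leaf 0))) (.node (.node (.leaf 12080) (.leaf 0)) (.node (.leaf 18761) (.leaf 0))))))) (.node (.node (.node (.node (.node (.node (.leaf 3831) (.leaf 19961)) (.node (.leaf 7889) (.leaf 0))) (.node (.node (.leaf 7595) (.leaf 18989)) (.node (.leaf 7913) (.leaf 0)))) (.node (.node (.node (.leaf 20767) (.leaf 17917)) (.node (.leaf 12038) (.leaf 0))) (.node (.node (.leaf 11642) (.leaf 0)) (.node (.leaf 17454) (.leaf 0))))) (.node (.node (.node (.node (.leaf 13749) (.leaf 17061)) (.node (.leaf 5467) (.leaf 0))) (.node (.node (.leaf 15040) (.leaf 0)) (.node (.leaf 2775) (.leaf 0)))) (.node (.node (.node (.leaf 12412) (.leaf 17576)) (.node (.leaf 19762) (.leaf 0))) (.node (.node (.leaf 14587) (.leaf 0)) (.node (.leaf 9421) (.leaf 0)))))) (.node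 (.node (.node (.node (.node (.leaf 867) (.leaf 8048)) (.node (.leaf 1591) (.leaf 0))) (.node (.node (.leaf 3903) (.leaf 10881)) (.node (.leaf 15770) (.leaf 0)))) (.node (.node (.node (.leaf 17019) (.leaf 4279)) (.node (.leaf 16722) (.leaf 0))) (.node (.node (.leaf 11148) (.leaf 0)) (.node (.leaf 7371) (.leaf 0))))) (.node (.node (.node (.node (.leaf 4104) (.leaf 16358)) (.node (.leaf 19829) (.leaf 0))) (.node (.node (.leaf 10474) (.leaf 0)) (.node (.leaf 11188) (.leaf 0)))) (.node (.node (.node (.leaf 13065) (.leaf 15368)) (.node (.leaf 11323) (.leaf 0))) (.node (.node (.leaf 5743) (.leaf 0)) (.node (.leaf 10898) (.leaf 0)))))))))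

/-- part of a table -/
def ordK18 : Trie := (.node (.node (.node (.node (.node (.node (.node (.node (.leaf 10370) (.leaf 14703)) (.node (.leaf 20653) (.leaf 0))) (.node (.node (.leaf 15250) (.leaf 6077)) (.node (.leaf 15823) (.leaf 0)))) (.node (.node (.node (.leaf 6355) (.leaf 11304)) (.node (.leaf 15214) (.leaf 0))) (.node (.node (.leaf 15230) (.leaf 0)) (.node (.leaf 3898) (.leaf 0))))) (.node (.node (.node (.node (.leaf 5379) (.leaf 4517)) (.node (.leaf 3881) (.leaf 0))) (.node (.node (.leaf 16433) (.leaf 0)) (.node (.leaf 6257) (.leaf 0)))) (.node (.node (.node (.leaf 4484) (.leaf 13461)) (.node (.leaf 8714) (.leaf 0))) (.node (.node (.leaf 17822) (.leaf 0)) (.node (.leaf 2594) (.leaf 0)))))) (.node (.node (.node (.node (.node (.leaf 16816) (.leaf 18652)) (.node (.leaf 3141) (.leaf 0))) (.node (.node (.leaf 15727) (.leaf 15528)) (.node (.leaf 20403) (.leaf 0)))) (.node (.node (.node (.leaf 2396) (.leaf 20662)) (.node (.leaf 20438) (.leaf 0))) (.node (.node (.leaf 16252) (.leaf 0)) (.node (.leaf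 9444) (.leaf 0))))) (.node (.node (.node (.node (.leaf 15074) (.leaf 20251)) (.node (.leaf 11593) (.leaf 0))) (.node (.node (.leaf 14329) (.leaf 0)) (.node (.leaf 7645) (.leaf 0)))) (.node (.node (.node (.leaf 15676) (.leaf 189)) (.node (.leaf 12523) (.leaf 0))) (.node (.node (.leaf 13427) (.leaf 0)) (.node (.leaf 5376) (.leaf 0))))))) (.node (.node (.node (.node (.node (.node (.leaf 17190) (.leaf 24)) (.node (.leaf 13938) (.leaf 0))) (.node (.node (.leaf 15183) (.leaf 6789)) (.node (.leaf 5928) (.leaf 0)))) (.node (.node (.node (.leaf 21426) (.leaf 2472)) (.node (.leaf 122) (.leaf 0))) (.node (.node (.leaf 20959) (.leaf 0)) (.node (.leaf 5200) (.leaf 0))))) (.node (.node (.node (.node (.leaf 5073) (.leaf 17047)) (.node (.leaf 10144) (.leaf 0))) (.node (.node (.leaf 14799) (.leaf 0)) (.node (.leaf 15541) (.leaf 0)))) (.node (.node (.node (.leaf 2244) (.leaf 19063)) (.node (.leaf 14678) (.leaf 0))) (.node (.node (.leaf 10743) (.leaf 0)) (.node (.leaf 13700) (.leaf 0)))))) (.node (.node (.node (.node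 (.node (.leaf 4046) (.leaf 5986)) (.node (.leaf 14710) (.leaf 0))) (.node (.node (.leaf 18953) (.leaf 9628)) (.node (.leaf 6019) (.leaf 0)))) (.node (.node (.node (.leaf 3429) (.leaf 12423)) (.node (.leaf 19658) (.leaf 0))) (.node (.node (.leaf 8293) (.leaf 0)) (.node (.leaf 16615) (.leaf 0))))) (.node (.node (.node (.node (.leaf 11314) (.leaf 4177)) (.node (.leaf 1892) (.leaf 0))) (.node (.node (.leaf 6128) (.leaf 0)) (.node (.leaf 11308) (.leaf 0)))) (.node (.node (.node (.leaf 8724) (.leaf 4600)) (.node (.leaf 10328) (.leaf 0))) (.node (.node (.leaf 13342) (.leaf 0)) (.node (.leaf 21399) (.leaf 0)))))))) (.node (.node (.node (.node (.node (.node (.node (.leaf 16296) (.leaf 3679)) (.node (.leaf 14386) (.leaf 0))) (.node (.node (.leaf 5543) (.leaf 6445)) (.node (.leaf 9104) (.leaf 0)))) (.node (.node (.node (.leaf 251) (.leaf 21271)) (.node (.leaf 17687) (.leaf 0))) (.node (.node (.leaf 3238) (.leaf 0)) (.node (.leaf 6960) (.leaf 0))))) (.node (.node (.node (.node (.leaf 2858) (.leaf 8684)) (.node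 (.leaf 4070) (.leaf 0))) (.node (.node (.leaf 13166) (.leaf 0)) (.node (.leaf 20232) (.leaf 0)))) (.node (.node (.node (.leaf 732) (.leaf 9705)) (.node (.leaf 5783) (.leaf 0))) (.node (.node (.leaf 9502) (.leaf 0)) (.node (.leaf 19642) (.leaf 0)))))) (.node (.node (.node (.node (.node (.leaf 8191) (.leaf 17070)) (.node (.leaf 19242) (.leaf 0))) (.node (.node (.leaf 11918) (.leaf 18289)) (.node (.leaf 19182) (.leaf 0)))) (.node (.node (.node (.leaf 19731) (.leaf 4099)) (.node (.leaf 11293) (.leaf 0))) (.node (.node (.leaf 19044) (.leaf 0)) (.node (.leaf 15886) (.leaf 0))))) (.node (.node (.node (.node (.leaf 7876) (.leaf 17578)) (.node (.leaf 7118) (.leaf 0))) (.node (.node (.leaf 1187) (.leaf 0)) (.node (.leaf 12858) (.leaf 0)))) (.node (.node (.node (.leaf 5751) (.leaf 7096)) (.node (.leaf 9809) (.leaf 0))) (.node (.node (.leaf 20777) (.leaf 0)) (.node (.leaf 10599) (.leaf 0))))))) (.node (.node (.node (.node (.node (.node (.leaf 21087) (.leaf 7198)) (.node (.leaf 4617) (.leaf 0))) (.node (.node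 (.leaf 8450) (.leaf 2905)) (.node (.leaf 110) (.leaf 0)))) (.node (.node (.node (.leaf 19205) (.leaf 15628)) (.node (.leaf 30) (.leaf 0))) (.node (.node (.leaf 7398) (.leaf 0)) (.node (.leaf 6016) (.leaf 0))))) (.node (.node (.node (.node (.leaf 10657) (.leaf 4083)) (.node (.leaf 13159) (.leaf 0))) (.node (.node (.leaf 5915) (.leaf 0)) (.node (.leaf 6576) (.leaf 0)))) (.node (.node (.node (.leaf 13963) (.leaf 8267)) (.node (.leaf 12740) (.leaf 0))) (.node (.node (.leaf 2999) (.leaf 0)) (.node (.leaf 6750) (.leaf 0)))))) (.node (.node (.node (.node (.node (.leaf 16993) (.leaf 11318)) (.node (.leaf 6748) (.leaf 0))) (.node (.node (.leaf 16155) (.leaf 5014)) (.node (.leaf 19086) (.leaf 0)))) (.node (.node (.node (.leaf 10292) (.leaf 19144)) (.node (.leaf 16078) (.leaf 0))) (.node (.node (.leaf 10405) (.leaf 0)) (.node (.leaf 3979) (.leaf 0))))) (.node (.node (.node (.node (.leaf 1593) (.leaf 12)) (.node (.leaf 12164) (.leaf 0))) (.node (.node (.leaf 17099) (.leaf 0)) (.node (.leaf 3488) (.leaf 0))))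 (.node (.node (.node (.leaf 7886) (.leaf 71)) (.node (.leaf 15970) (.leaf 0))) (.node (.node (.leaf 13036) (.leaf 0)) (.node (.leaf 3555) (.leaf 0)))))))))

/-- part of a table -/
def ordK19 : Trie := (.node (.node (.node (.node (.node (.node (.node (.node (.leaf 2661) (.leaf 4213)) (.node (.leaf 9710) (.leaf 0))) (.node (.node (.leaf 17537) (.leaf 7581)) (.node (.leaf 13004) (.leaf 0)))) (.node (.node (.node (.leaf 240) (.leaf 2236)) (.node (.leaf 20966) (.leaf 0))) (.node (.node (.leaf 4270) (.leaf 0)) (.node (.leaf 348) (.leaf 0))))) (.node (.node (.node (.node (.leaf 20407) (.leaf 8309)) (.node (.leaf 21457) (.leaf 0))) (.node (.node (.leaf 16761) (.leaf 0)) (.node (.leaf 7250) (.leaf 0)))) (.node (.node (.node (.leaf 21263) (.leaf 11001)) (.node (.leaf 15184) (.leaf 0))) (.node (.node (.leaf 10498) (.leaf 0)) (.node (.leaf 14952) (.leaf 0)))))) (.node (.node (.node (.node (.node (.leaf 13317) (.leaf 14843)) (.node (.leaf 11478) (.leaf 0))) (.node (.node (.leaf 1173) (.leaf 4930)) (.node (.leaf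 11722) (.leaf 0)))) (.node (.node (.node (.leaf 9015) (.leaf 10917)) (.node (.leaf 15640) (.leaf 0))) (.node (.node (.leaf 17205) (.leaf 0)) (.node (.leaf 10051) (.leaf 0))))) (.node (.node (.node (.node (.leaf 18250) (.leaf 4331)) (.node (.leaf 3156) (.leaf 0))) (.node (.node (.leaf 15722) (.leaf 0)) (.node (.leaf 7894) (.leaf 0)))) (.node (.node (.node (.leaf 6345) (.leaf 10417)) (.node (.leaf 18144) (.leaf 0))) (.node (.node (.leaf 20135) (.leaf 0)) (.node (.leaf 4853) (.leaf 0))))))) (.node (.node (.node (.node (.node (.node (.leaf 12169) (.leaf 17014)) (.node (.leaf 15355) (.leaf 0))) (.node (.node (.leaf 5048) (.leaf 119)) (.node (.leaf 11433) (.leaf 0)))) (.node (.node (.node (.leaf 19737) (.leaf 10279)) (.node (.leaf 6439) (.leaf 0))) (.node (.node (.leaf 11264) (.leaf 0)) (.node (.leaf 8238) (.leaf 0))))) (.node (.node (.node (.node (.leaf 3672) (.leaf 1893)) (.node (.leaf 4151) (.leaf 0))) (.node (.node (.leaf 9929) (.leaf 0)) (.node (.leaf 6288) (.leaf 0)))) (.node (.node (.node (.leaf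 14035) (.leaf 1911)) (.node (.leaf 7737) (.leaf 0))) (.node (.node (.leaf 4422) (.leaf 0)) (.node (.leaf 14870) (.leaf 0)))))) (.node (.node (.node (.node (.node (.leaf 14337) (.leaf 778)) (.node (.leaf 4221) (.leaf 0))) (.node (.node (.leaf 15446) (.leaf 18981)) (.node (.leaf 19244) (.leaf 0)))) (.node (.node (.node (.leaf 4842) (.leaf 9067)) (.node (.leaf 11563) (.leaf 0))) (.node (.node (.leaf 6125) (.leaf 0)) (.node (.leaf 8303) (.leaf 0))))) (.node (.node (.node (.node (.leaf 15503) (.leaf 19646)) (.node (.leaf 2103) (.leaf 0))) (.node (.node (.leaf 20071) (.leaf 0)) (.node (.leaf 5342) (.leaf 0)))) (.node (.node (.node (.leaf 17445) (.leaf 20899)) (.node (.leaf 7841) (.leaf 0))) (.node (.node (.leaf 8806) (.leaf 0)) (.node (.leaf 17469) (.leaf 0)))))))) (.node (.node (.node (.node (.node (.node (.node (.leaf 17415) (.leaf 8314)) (.node (.leaf 16146) (.leaf 0))) (.node (.node (.leaf 7036) (.leaf 2603)) (.node (.leaf 20315) (.leaf 0)))) (.node (.node (.node (.leaf 11891) (.leaf 8308)) (.node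 (.leaf 4249) (.leaf 0))) (.node (.node (.leaf 744) (.leaf 0)) (.node (.leaf 17032) (.leaf 0))))) (.node (.node (.node (.node (.leaf 17995) (.leaf 19601)) (.node (.leaf 17674) (.leaf 0))) (.node (.node (.leaf 16265) (.leaf 0)) (.node (.leaf 16916) (.leaf 0)))) (.node (.node (.node (.leaf 16379) (.leaf 14446)) (.node (.leaf 8757) (.leaf 0))) (.node (.node (.leaf 10154) (.leaf 0)) (.node (.leaf 604) (.leaf 0)))))) (.node (.node (.node (.node (.node (.leaf 9055) (.leaf 19708)) (.node (.leaf 17861) (.leaf 0))) (.node (.node (.leaf 17886) (.leaf 13429)) (.node (.leaf 1933) (.leaf 0)))) (.node (.node (.node (.leaf 19726) (.leaf 17654)) (.node (.leaf 13691) (.leaf 0))) (.node (.node (.leaf 4415) (.leaf 0)) (.node (.leaf 1458) (.leaf 0))))) (.node (.node (.node (.node (.leaf 13936) (.leaf 18466)) (.node (.leaf 9767) (.leaf 0))) (.node (.node (.leaf 17435) (.leaf 0)) (.node (.leaf 14247) (.leaf 0)))) (.node (.node (.node (.leaf 13827) (.leaf 15343)) (.node (.leaf 13140) (.leaf 0))) (.node (.node (.leaf 3265)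 (.leaf 0)) (.node (.leaf 6894) (.leaf 0))))))) (.node (.node (.node (.node (.node (.node (.leaf 4955) (.leaf 11494)) (.node (.leaf 11469) (.leaf 0))) (.node (.node (.leaf 3103) (.leaf 21074)) (.node (.leaf 13709) (.leaf 0)))) (.node (.node (.node (.leaf 759) (.leaf 10986)) (.node (.leaf 3122) (.leaf 0))) (.node (.node (.leaf 1471) (.leaf 0)) (.node (.leaf 15827) (.leaf 0))))) (.node (.node (.node (.node (.leaf 19418) (.leaf 21239)) (.node (.leaf 11653) (.leaf 0))) (.node (.node (.leaf 20725) (.leaf 0)) (.node (.leaf 6418) (.leaf 0)))) (.node (.node (.node (.leaf 14150) (.leaf 188)) (.node (.leaf 10796) (.leaf 0))) (.node (.node (.leaf 9320) (.leaf 0)) (.node (.leaf 9227) (.leaf 0)))))) (.node (.node (.node (.node (.node (.leaf 12384) (.leaf 10047)) (.node (.leaf 20182) (.leaf 0))) (.node (.node (.leaf 20127) (.leaf 7943)) (.node (.leaf 6666) (.leaf 0)))) (.node (.node (.node (.leaf 2197) (.leaf 3243)) (.node (.leaf 19634) (.leaf 0))) (.node (.node (.leaf 323) (.leaf 0)) (.node (.leaf 15468) (.leaf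 0))))) (.node (.node (.node (.node (.leaf 19673) (.leaf 7105)) (.node (.leaf 2112) (.leaf 0))) (.node (.node (.leaf 1587) (.leaf 0)) (.node (.leaf 13254) (.leaf 0)))) (.node (.node (.node (.leaf 16254) (.leaf 1258)) (.node (.leaf 11982) (.leaf 0))) (.node (.node (.leaf 17390) (.leaf 0)) (.node (.leaf 889) (.leaf 0)))))))))

/-- part of a table -/
def ordK20 : Trie := (.node (.node (.node (.node (.node (.node (.node (.node (.leaf 1891) (.leaf 17548)) (.node (.leaf 3473) (.leaf 0))) (.node (.node (.leaf 574) (.leaf 2457)) (.node (.leaf 20611) (.leaf 0)))) (.node (.node (.node (.leaf 10376) (.leaf 9139)) (.node (.leaf 13654) (.leaf 0))) (.node (.node (.leaf 9890) (.leaf 0)) (.node (.leaf 5427) (.leaf 0))))) (.node (.node (.node (.node (.leaf 13795) (.leaf 7085)) (.node (.leaf 65) (.leaf 0))) (.node (.node (.leaf 9070) (.leaf 0)) (.node (.leaf 1463) (.leaf 0)))) (.node (.node (.node (.leaf 15812) (.leaf 14986)) (.node (.leaf 5976) (.leaf 0))) (.node (.node (.leaf 20471) (.leaf 0)) (.node (.leaf 15126)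 (.leaf 0)))))) (.node (.node (.node (.node (.node (.leaf 1859) (.leaf 5454)) (.node (.leaf 3406) (.leaf 0))) (.node (.node (.leaf 9609) (.leaf 18591)) (.node (.leaf 4059) (.leaf 0)))) (.node (.node (.node (.leaf 19983) (.leaf 18086)) (.node (.leaf 16246) (.leaf 0))) (.node (.node (.leaf 15454) (.leaf 0)) (.node (.leaf 2795) (.leaf 0))))) (.node (.node (.node (.node (.leaf 11272) (.leaf 688)) (.node (.leaf 16454) (.leaf 0))) (.node (.node (.leaf 9714) (.leaf 0)) (.node (.leaf 4695) (.leaf 0)))) (.node (.node (.node (.leaf 15966) (.leaf 13960)) (.node (.leaf 4035) (.leaf 0))) (.node (.node (.leaf 8331) (.leaf 0)) (.node (.leaf 10992) (.leaf 0))))))) (.node (.node (.node (.node (.node (.node (.leaf 13058) (.leaf 4601)) (.node (.leaf 11045) (.leaf 0))) (.node (.node (.leaf 8460) (.leaf 6263)) (.node (.leaf 15008) (.leaf 0)))) (.node (.node (.node (.leaf 4977) (.leaf 12783)) (.node (.leaf 21050) (.leaf 0))) (.node (.node (.leaf 20553) (.leaf 0)) (.node (.leaf 2577) (.leaf 0))))) (.node (.node (.node (.node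 (.leaf 9162) (.leaf 10171)) (.node (.leaf 10826) (.leaf 0))) (.node (.node (.leaf 6162) (.leaf 0)) (.node (.leaf 7850) (.leaf 0)))) (.node (.node (.node (.leaf 5195) (.leaf 10766)) (.node (.leaf 14554) (.leaf 0))) (.node (.node (.leaf 3351) (.leaf 0)) (.node (.leaf 16139) (.leaf 0)))))) (.node (.node (.node (.node (.node (.leaf 18451) (.leaf 12504)) (.node (.leaf 14903) (.leaf 0))) (.node (.node (.leaf 14842) (.leaf 7950)) (.node (.leaf 833) (.leaf 0)))) (.node (.node (.node (.leaf 8731) (.leaf 4069)) (.node (.leaf 16253) (.leaf 0))) (.node (.node (.leaf 16110) (.leaf 0)) (.node (.leaf 19210) (.leaf 0))))) (.node (.node (.node (.node (.leaf 16434) (.leaf 20017)) (.node (.leaf 9182) (.leaf 0))) (.node (.node (.leaf 7235) (.leaf 0)) (.node (.leaf 4060) (.leaf 0)))) (.node (.node (.node (.leaf 15667) (.leaf 3496)) (.node (.leaf 19365) (.leaf 0))) (.node (.node (.leaf 4621) (.leaf 0)) (.node (.leaf 13694) (.leaf 0)))))))) (.node (.node (.node (.node (.node (.node (.node (.leaf 18945) (.leaf 20641)) (.node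 (.leaf 17831) (.leaf 0))) (.node (.node (.leaf 7742) (.leaf 13484)) (.node (.leaf 15182) (.leaf 0)))) (.node (.node (.node (.leaf 15891) (.leaf 12057)) (.node (.leaf 8068) (.leaf 0))) (.node (.node (.leaf 10836) (.leaf 0)) (.node (.leaf 17669) (.leaf 0))))) (.node (.node (.node (.node (.leaf 19354) (.leaf 19887)) (.node (.leaf 4515) (.leaf 0))) (.node (.node (.leaf 8758) (.leaf 0)) (.node (.leaf 7161) (.leaf 0)))) (.node (.node (.node (.leaf 20985) (.leaf 6763)) (.node (.leaf 8216) (.leaf 0))) (.node (.node (.leaf 8367) (.leaf 0)) (.node (.leaf 12420) (.leaf 0)))))) (.node (.node (.node (.node (.node (.leaf 9588) (.leaf 11535)) (.node (.leaf 15512) (.leaf 0))) (.node (.node (.leaf 15721) (.leaf 9909)) (.node (.leaf 18330) (.leaf 0)))) (.node (.node (.node (.leaf 4338) (.leaf 7527)) (.node (.leaf 3057) (.leaf 0))) (.node (.node (.leaf 7557) (.leaf 0)) (.node (.leaf 4172) (.leaf 0))))) (.node (.node (.node (.node (.leaf 5327) (.leaf 966)) (.node (.leaf 13249) (.leaf 0))) (.node (.node (.leaf 16647)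 (.leaf 0)) (.node (.leaf 2860) (.leaf 0)))) (.node (.node (.node (.leaf 11773) (.leaf 5513)) (.node (.leaf 16266) (.leaf 0))) (.node (.node (.leaf 10504) (.leaf 0)) (.node (.leaf 15905) (.leaf 0))))))) (.node (.node (.node (.node (.node (.node (.leaf 15290) (.leaf 13593)) (.node (.leaf 4931) (.leaf 0))) (.node (.node (.leaf 7842) (.leaf 18902)) (.node (.leaf 11879) (.leaf 0)))) (.node (.node (.node (.leaf 672) (.leaf 12997)) (.node (.leaf 19506) (.leaf 0))) (.node (.node (.leaf 3687) (.leaf 0)) (.node (.leaf 20693) (.leaf 0))))) (.node (.node (.node (.node (.leaf 3923) (.leaf 8679)) (.node (.leaf 15147) (.leaf 0))) (.node (.node (.leaf 14284) (.leaf 0)) (.node (.leaf 13876) (.leaf 0)))) (.node (.node (.node (.leaf 16727) (.leaf 8414)) (.node (.leaf 17254) (.leaf 0))) (.node (.node (.leaf 4176) (.leaf 0)) (.node (.leaf 4928) (.leaf 0)))))) (.node (.node (.node (.node (.node (.leaf 16386) (.leaf 5848)) (.node (.leaf 13580) (.leaf 0))) (.node (.node (.leaf 17345) (.leaf 6809)) (.node (.leaf 388) (.leaf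 0)))) (.node (.node (.node (.leaf 18503) (.leaf 16882)) (.node (.leaf 3471) (.leaf 0))) (.node (.node (.leaf 9035) (.leaf 0)) (.node (.leaf 2979) (.leaf 0))))) (.node (.node (.node (.node (.leaf 351) (.leaf 18194)) (.node (.leaf 16131) (.leaf 0))) (.node (.node (.leaf 21340) (.leaf 0)) (.node (.leaf 20524) (.leaf 0)))) (.node (.node (.node (.leaf 15678) (.leaf 7457)) (.node (.leaf 20673) (.leaf 0))) (.node (.node (.leaf 330) (.leaf 0)) (.node (.leaf 20132) (.leaf 0)))))))))

/-- part of a table -/
def ordK21 : Trie := (.node (.node (.node (.node (.node (.node (.node (.node (.leaf 16126) (.leaf 13884)) (.node (.leaf 10439) (.leaf 0))) (.node (.node (.leaf 16492) (.leaf 16609)) (.node (.leaf 9802) (.leaf 0)))) (.node (.node (.node (.leaf 10892) (.leaf 1722)) (.node (.leaf 12088) (.leaf 0))) (.node (.node (.leaf 11043) (.leaf 0)) (.node (.leaf 6491) (.leaf 0))))) (.node (.node (.node (.node (.leaf 1290) (.leaf 2732)) (.node (.leaf 10064) (.leaf 0))) (.node (.node (.leaf 5387) (.leaf 0)) (.node (.leaf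 8167) (.leaf 0)))) (.node (.node (.node (.leaf 9202) (.leaf 11532)) (.node (.leaf 19215) (.leaf 0))) (.node (.node (.leaf 21091) (.leaf 0)) (.node (.leaf 1257) (.leaf 0)))))) (.node (.node (.node (.node (.node (.leaf 19208) (.leaf 8701)) (.node (.leaf 20598) (.leaf 0))) (.node (.node (.leaf 16598) (.leaf 16762)) (.node (.leaf 19610) (.leaf 0)))) (.node (.node (.node (.leaf 13389) (.leaf 10562)) (.node (.leaf 21400) (.leaf 0))) (.node (.node (.leaf 3015) (.leaf 0)) (.node (.leaf 6372) (.leaf 0))))) (.node (.node (.node (.node (.leaf 12528) (.leaf 9092)) (.node (.leaf 2855) (.leaf 0))) (.node (.node (.leaf 2060) (.leaf 0)) (.node (.leaf 7616) (.leaf 0)))) (.node (.node (.node (.leaf 1811) (.leaf 18355)) (.node (.leaf 2738) (.leaf 0))) (.node (.node (.leaf 6647) (.leaf 0)) (.node (.leaf 9722) (.leaf 0))))))) (.node (.node (.node (.node (.node (.node (.leaf 9115) (.leaf 1973)) (.node (.leaf 18581) (.leaf 0))) (.node (.node (.leaf 14302) (.leaf 16471)) (.node (.leaf 4348) (.leaf 0)))) (.node (.node (.node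 (.leaf 7858) (.leaf 2002)) (.node (.leaf 10948) (.leaf 0))) (.node (.node (.leaf 14107) (.leaf 0)) (.node (.leaf 6045) (.leaf 0))))) (.node (.node (.node (.node (.leaf 4723) (.leaf 16402)) (.node (.leaf 424) (.leaf 0))) (.node (.node (.leaf 4943) (.leaf 0)) (.node (.leaf 7883) (.leaf 0)))) (.node (.node (.node (.leaf 9621) (.leaf 16666)) (.node (.leaf 3592) (.leaf 0))) (.node (.node (.leaf 5756) (.leaf 0)) (.node (.leaf 21385) (.leaf 0)))))) (.node (.node (.node (.node (.node (.leaf 13006) (.leaf 4215)) (.node (.leaf 10968) (.leaf 0))) (.node (.node (.leaf 716) (.leaf 835)) (.node (.leaf 10842) (.leaf 0)))) (.node (.node (.node (.leaf 10517) (.leaf 4804)) (.node (.leaf 11032) (.leaf 0))) (.node (.node (.leaf 11420) (.leaf 0)) (.node (.leaf 5731) (.leaf 0))))) (.node (.node (.node (.node (.leaf 8887) (.leaf 8832)) (.node (.leaf 20945) (.leaf 0))) (.node (.node (.leaf 14548) (.leaf 0)) (.node (.leaf 15310) (.leaf 0)))) (.node (.node (.node (.leaf 13895) (.leaf 17273)) (.node (.leaf 4049) (.leaf 0)))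 (.node (.node (.leaf 17759) (.leaf 0)) (.node (.leaf 19780) (.leaf 0)))))))) (.node (.node (.node (.node (.node (.node (.node (.leaf 21083) (.leaf 21441)) (.node (.leaf 11619) (.leaf 0))) (.node (.node (.leaf 8023) (.leaf 16814)) (.node (.leaf 702) (.leaf 0)))) (.node (.node (.node (.leaf 15137) (.leaf 10175)) (.node (.leaf 3722) (.leaf 0))) (.node (.node (.leaf 15523) (.leaf 0)) (.node (.leaf 19052) (.leaf 0))))) (.node (.node (.node (.node (.leaf 1906) (.leaf 12452)) (.node (.leaf 8307) (.leaf 0))) (.node (.node (.leaf 7471) (.leaf 0)) (.node (.leaf 11030) (.leaf 0)))) (.node (.node (.node (.leaf 5257) (.leaf 7799)) (.node (.leaf 13486) (.leaf 0))) (.node (.node (.leaf 5331) (.leaf 0)) (.node (.leaf 19960) (.leaf 0)))))) (.node (.node (.node (.node (.node (.leaf 12559) (.leaf 11768)) (.node (.leaf 16233) (.leaf 0))) (.node (.node (.leaf 14691) (.leaf 9904)) (.node (.leaf 20789) (.leaf 0)))) (.node (.node (.node (.leaf 6887) (.leaf 10879)) (.node (.leaf 4078) (.leaf 0))) (.node (.node (.leaf 14704)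 (.leaf 0)) (.node (.leaf 10984) (.leaf 0))))) (.node (.node (.node (.node (.leaf 8210) (.leaf 9)) (.node (.leaf 11347) (.leaf 0))) (.node (.node (.leaf 13395) (.leaf 0)) (.node (.leaf 7897) (.leaf 0)))) (.node (.node (.node (.leaf 15054) (.leaf 463)) (.node (.leaf 6124) (.leaf 0))) (.node (.node (.leaf 12988) (.leaf 0)) (.node (.leaf 18350) (.leaf 0))))))) (.node (.node (.node (.node (.node (.node (.leaf 12820) (.leaf 4726)) (.node (.leaf 13008) (.leaf 0))) (.node (.node (.leaf 1382) (.leaf 2276)) (.node (.leaf 2760) (.leaf 0)))) (.node (.node (.node (.leaf 16445) (.leaf 15572)) (.node (.leaf 20350) (.leaf 0))) (.node (.node (.leaf 18200) (.leaf 0)) (.node (.leaf 8641) (.leaf 0))))) (.node (.node (.node (.node (.leaf 13336) (.leaf 14464)) (.node (.leaf 15835) (.leaf 0))) (.node (.node (.leaf 6602) (.leaf 0)) (.node (.leaf 13640) (.leaf 0)))) (.node (.node (.node (.leaf 17379) (.leaf 3714)) (.node (.leaf 13517) (.leaf 0))) (.node (.node (.leaf 1459) (.leaf 0)) (.node (.leaf 2974) (.leaf 0)))))) (.node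 (.node (.node (.node (.node (.leaf 3973) (.leaf 8975)) (.node (.leaf 15573) (.leaf 0))) (.node (.node (.leaf 9384) (.leaf 2463)) (.node (.leaf 21332) (.leaf 0)))) (.node (.node (.node (.leaf 18897) (.leaf 8229)) (.node (.leaf 17323) (.leaf 0))) (.node (.node (.leaf 21204) (.leaf 0)) (.node (.leaf 11707) (.leaf 0))))) (.node (.node (.node (.node (.leaf 12731) (.leaf 3215)) (.node (.leaf 125) (.leaf 0))) (.node (.node (.leaf 14783) (.leaf 0)) (.node (.leaf 6756) (.leaf 0)))) (.node (.node (.node (.leaf 4864) (.leaf 19948)) (.node (.leaf 12246) (.leaf 0))) (.node (.node (.leaf 5131) (.leaf 0)) (.node (.leaf 6474) (.leaf 0)))))))))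

/-- part of a table -/
def ordK22 : Trie := (.node (.node (.node (.node (.node (.node (.node (.node (.leaf 5204) (.leaf 20268)) (.node (.leaf 14486) (.leaf 0))) (.node (.node (.leaf 10640) (.leaf 3739)) (.node (.leaf 16038) (.leaf 0)))) (.node (.node (.node (.leaf 16466) (.leaf 4906)) (.node (.leaf 9309) (.leaf 0))) (.node (.node (.leaf 2183) (.leaf 0)) (.node (.leaf 10006) (.leaf 0))))) (.node (.node (.node (.node (.leaf 1220) (.leaf 1487)) (.node (.leaf 7455) (.leaf 0))) (.node (.node (.leaf 1231) (.leaf 0)) (.node (.leaf 13759) (.leaf 0)))) (.node (.node (.node (.leaf 20028) (.leaf 18781)) (.node (.leaf 18862) (.leaf 0))) (.node (.node (.leaf 15842) (.leaf 0)) (.node (.leaf 14881) (.leaf 0)))))) (.node (.node (.node (.node (.node (.leaf 18111) (.leaf 17538)) (.node (.leaf 13293) (.leaf 0))) (.node (.node (.leaf 11497) (.leaf 1130)) (.node (.leaf 3044) (.leaf 0)))) (.node (.node (.node (.leaf 18651) (.leaf 19526)) (.node (.leaf 18623) (.leaf 0))) (.node (.node (.leaf 11134) (.leaf 0)) (.node (.leaf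 6194) (.leaf 0))))) (.node (.node (.node (.node (.leaf 9351) (.leaf 20293)) (.node (.leaf 17375) (.leaf 0))) (.node (.node (.leaf 17772) (.leaf 0)) (.node (.leaf 2224) (.leaf 0)))) (.node (.node (.node (.leaf 10126) (.leaf 8268)) (.node (.leaf 20348) (.leaf 0))) (.node (.node (.leaf 12660) (.leaf 0)) (.node (.leaf 9120) (.leaf 0))))))) (.node (.node (.node (.node (.node (.node (.leaf 7895) (.leaf 2167)) (.node (.leaf 15740) (.leaf 0))) (.node (.node (.leaf 3306) (.leaf 13126)) (.node (.leaf 11543) (.leaf 0)))) (.node (.node (.node (.leaf 10696) (.leaf 18892)) (.node (.leaf 1877) (.leaf 0))) (.node (.node (.leaf 21086) (.leaf 0)) (.node (.leaf 2850) (.leaf 0))))) (.node (.node (.node (.node (.leaf 10042) (.leaf 6912)) (.node (.leaf 870) (.leaf 0))) (.node (.node (.leaf 20719) (.leaf 0)) (.node (.leaf 10706) (.leaf 0)))) (.node (.node (.node (.leaf 9029) (.leaf 15768)) (.node (.leaf 20798) (.leaf 0))) (.node (.node (.leaf 8805) (.leaf 0)) (.node (.leaf 16832) (.leaf 0)))))) (.node (.node (.node (.node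 (.node (.leaf 999) (.leaf 2789)) (.node (.leaf 5870) (.leaf 0))) (.node (.node (.leaf 13534) (.leaf 10253)) (.node (.leaf 11612) (.leaf 0)))) (.node (.node (.node (.leaf 3974) (.leaf 9569)) (.node (.leaf 2102) (.leaf 0))) (.node (.node (.leaf 4635) (.leaf 0)) (.node (.leaf 14741) (.leaf 0))))) (.node (.node (.node (.node (.leaf 6650) (.leaf 1433)) (.node (.leaf 12580) (.leaf 0))) (.node (.node (.leaf 204) (.leaf 0)) (.node (.leaf 11079) (.leaf 0)))) (.node (.node (.node (.leaf 18585) (.leaf 13524)) (.node (.leaf 13706) (.leaf 0))) (.node (.node (.leaf 12928) (.leaf 0)) (.node (.leaf 14315) (.leaf 0)))))))) (.node (.node (.node (.node (.node (.node (.node (.leaf 20256) (.leaf 10140)) (.node (.leaf 6311) (.leaf 0))) (.node (.node (.leaf 374) (.leaf 5171)) (.node (.leaf 11152) (.leaf 0)))) (.node (.node (.node (.leaf 13490) (.leaf 4516)) (.node (.leaf 17652) (.leaf 0))) (.node (.node (.leaf 11239) (.leaf 0)) (.node (.leaf 3177) (.leaf 0))))) (.node (.node (.node (.node (.leaf 2208) (.leaf 6379)) (.node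 (.leaf 4736) (.leaf 0))) (.node (.node (.leaf 8743) (.leaf 0)) (.node (.leaf 10618) (.leaf 0)))) (.node (.node (.node (.leaf 6356) (.leaf 5375)) (.node (.leaf 15902) (.leaf 0))) (.node (.node (.leaf 19445) (.leaf 0)) (.node (.leaf 10058) (.leaf 0)))))) (.node (.node (.node (.node (.node (.leaf 7911) (.leaf 19170)) (.node (.leaf 1940) (.leaf 0))) (.node (.node (.leaf 15415) (.leaf 4350)) (.node (.leaf 4533) (.leaf 0)))) (.node (.node (.node (.leaf 63) (.leaf 6270)) (.node (.leaf 19683) (.leaf 0))) (.node (.node (.leaf 7786) (.leaf 0)) (.node (.leaf 377) (.leaf 0))))) (.node (.node (.node (.node (.leaf 5684) (.leaf 8262)) (.node (.leaf 9150) (.leaf 0))) (.node (.node (.leaf 14393) (.leaf 0)) (.node (.leaf 7550) (.leaf 0)))) (.node (.node (.node (.leaf 2893) (.leaf 2637)) (.node (.leaf 17137) (.leaf 0))) (.node (.node (.leaf 6916) (.leaf 0)) (.node (.leaf 19207) (.leaf 0))))))) (.node (.node (.node (.node (.node (.node (.leaf 3879) (.leaf 17087)) (.node (.leaf 15555) (.leaf 0))) (.node (.node (.leaf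 2615) (.leaf 5364)) (.node (.leaf 5707) (.leaf 0)))) (.node (.node (.node (.leaf 2325) (.leaf 18939)) (.node (.leaf 5053) (.leaf 0))) (.node (.node (.leaf 18808) (.leaf 0)) (.node (.leaf 18813) (.leaf 0))))) (.node (.node (.node (.node (.leaf 8218) (.leaf 1200)) (.node (.leaf 18554) (.leaf 0))) (.node (.node (.leaf 14866) (.leaf 0)) (.node (.leaf 2480) (.leaf 0)))) (.node (.node (.node (.leaf 665) (.leaf 213)) (.node (.leaf 12532) (.leaf 0))) (.node (.node (.leaf 13078) (.leaf 0)) (.node (.leaf 13734) (.leaf 0)))))) (.node (.node (.node (.node (.node (.leaf 14660) (.leaf 14235)) (.node (.leaf 9481) (.leaf 0))) (.node (.node (.leaf 19111) (.leaf 10082)) (.node (.leaf 11406) (.leaf 0)))) (.node (.node (.node (.leaf 18230) (.leaf 8871)) (.node (.leaf 13085) (.leaf 0))) (.node (.node (.leaf 19479) (.leaf 0)) (.node (.leaf 3656) (.leaf 0))))) (.node (.node (.node (.node (.leaf 1768) (.leaf 8549)) (.node (.leaf 20915) (.leaf 0))) (.node (.node (.leaf 6610) (.leaf 0)) (.node (.leaf 1552) (.leaf 0)))) (.node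 (.node (.node (.leaf 848) (.leaf 14496)) (.node (.leaf 18014) (.leaf 0))) (.node (.node (.leaf 18686) (.leaf 0)) (.node (.leaf 3710) (.leaf 0)))))))))

/-- part of a table -/
def ordK23 : Trie := (.node (.node (.node (.node (.node (.node (.node (.node (.leaf 3325) (.leaf 5798)) (.node (.leaf 7156) (.leaf 0))) (.node (.node (.leaf 3811) (.leaf 19716)) (.node (.leaf 8929) (.leaf 0)))) (.node (.node (.node (.leaf 17149) (.leaf 5147)) (.node (.leaf 8747) (.leaf 0))) (.node (.node (.leaf 10868) (.leaf 0)) (.node (.leaf 9186) (.leaf 0))))) (.node (.node (.node (.node (.leaf 2230) (.leaf 10176)) (.node (.leaf 9566) (.leaf 0))) (.node (.node (.leaf 4750) (.leaf 0)) (.node (.leaf 15498) (.leaf 0)))) (.node (.node (.node (.leaf 7873) (.leaf 8081)) (.node (.leaf 16301) (.leaf 0))) (.node (.node (.leaf 1354) (.leaf 0)) (.node (.leaf 5473) (.leaf 0)))))) (.node (.node (.node (.node (.node (.leaf 5886) (.leaf 9228)) (.node (.leaf 14125) (.leaf 0))) (.node (.node (.leaf 10372) (.leaf 5215)) (.node (.leaf 20699)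 (.leaf 0)))) (.node (.node (.node (.leaf 141) (.leaf 11600)) (.node (.leaf 8932) (.leaf 0))) (.node (.node (.leaf 14702) (.leaf 0)) (.node (.leaf 18282) (.leaf 0))))) (.node (.node (.node (.node (.leaf 14565) (.leaf 17472)) (.node (.leaf 5851) (.leaf 0))) (.node (.node (.leaf 5424) (.leaf 0)) (.node (.leaf 13057) (.leaf 0)))) (.node (.node (.node (.leaf 1975) (.leaf 18899)) (.node (.leaf 16281) (.leaf 0))) (.node (.node (.leaf 5654) (.leaf 0)) (.node (.leaf 14638) (.leaf 0))))))) (.node (.node (.node (.node (.node (.node (.leaf 6925) (.leaf 1632)) (.node (.leaf 1719) (.leaf 0))) (.node (.node (.leaf 19500) (.leaf 14837)) (.node (.leaf 1140) (.leaf 0)))) (.node (.node (.node (.leaf 6510) (.leaf 10884)) (.node (.leaf 13537) (.leaf 0))) (.node (.node (.leaf 3597) (.leaf 0)) (.node (.leaf 21339) (.leaf 0))))) (.node (.node (.node (.node (.leaf 12938) (.leaf 6061)) (.node (.leaf 20192) (.leaf 0))) (.node (.node (.leaf 11929) (.leaf 0)) (.node (.leaf 18428) (.leaf 0)))) (.node (.node (.node (.leaf 2566)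 (.leaf 10956)) (.node (.leaf 17450) (.leaf 0))) (.node (.node (.leaf 5937) (.leaf 0)) (.node (.leaf 13204) (.leaf 0)))))) (.node (.node (.node (.node (.node (.leaf 8678) (.leaf 12501)) (.node (.leaf 9394) (.leaf 0))) (.node (.node (.leaf 9200) (.leaf 6434)) (.node (.leaf 18860) (.leaf 0)))) (.node (.node (.node (.leaf 6939) (.leaf 15997)) (.node (.leaf 11111) (.leaf 0))) (.node (.node (.leaf 10250) (.leaf 0)) (.node (.leaf 18999) (.leaf 0))))) (.node (.node (.node (.node (.leaf 5841) (.leaf 46)) (.node (.leaf 15281) (.leaf 0))) (.node (.node (.leaf 3917) (.leaf 0)) (.node (.leaf 18223) (.leaf 0)))) (.node (.node (.node (.leaf 18415) (.leaf 15866)) (.node (.leaf 7838) (.leaf 0))) (.node (.node (.leaf 15494) (.leaf 0)) (.node (.leaf 12405) (.leaf 0)))))))) (.node (.node (.node (.node (.node (.node (.node (.leaf 20382) (.leaf 12752)) (.node (.leaf 14755) (.leaf 0))) (.node (.node (.leaf 4599) (.leaf 7357)) (.node (.leaf 17331) (.leaf 0)))) (.node (.node (.node (.leaf 20273) (.leaf 20607)) (.node (.leaf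 12260) (.leaf 0))) (.node (.node (.leaf 935) (.leaf 0)) (.node (.leaf 19560) (.leaf 0))))) (.node (.node (.node (.node (.leaf 19115) (.leaf 9980)) (.node (.leaf 15998) (.leaf 0))) (.node (.node (.leaf 11976) (.leaf 0)) (.node (.leaf 15792) (.leaf 0)))) (.node (.node (.node (.leaf 21479) (.leaf 5553)) (.node (.leaf 20171) (.leaf 0))) (.node (.node (.leaf 2265) (.leaf 0)) (.node (.leaf 18518) (.leaf 0)))))) (.node (.node (.node (.node (.node (.leaf 18810) (.leaf 17286)) (.node (.leaf 3484) (.leaf 0))) (.node (.node (.leaf 9981) (.leaf 8329)) (.node (.leaf 12601) (.leaf 0)))) (.node (.node (.node (.leaf 2496) (.leaf 12230)) (.node (.leaf 3946) (.leaf 0))) (.node (.node (.leaf 5802) (.leaf 0)) (.node (.leaf 17533) (.leaf 0))))) (.node (.node (.node (.node (.leaf 15558) (.leaf 2278)) (.node (.leaf 10191) (.leaf 0))) (.node (.node (.leaf 1828) (.leaf 0)) (.node (.leaf 2993) (.leaf 0)))) (.node (.node (.node (.leaf 2864) (.leaf 1499)) (.node (.leaf 8003) (.leaf 0))) (.node (.node (.leaf 20073) (.leaf 0))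 (.node (.leaf 4743) (.leaf 0))))))) (.node (.node (.node (.node (.node (.node (.leaf 12801) (.leaf 108)) (.node (.leaf 12181) (.leaf 0))) (.node (.node (.leaf 13776) (.leaf 11703)) (.node (.leaf 12604) (.leaf 0)))) (.node (.node (.node (.leaf 19874) (.leaf 19213)) (.node (.leaf 1655) (.leaf 0))) (.node (.node (.leaf 878) (.leaf 0)) (.node (.leaf 8064) (.leaf 0))))) (.node (.node (.node (.node (.leaf 11382) (.leaf 11182)) (.node (.leaf 3047) (.leaf 0))) (.node (.node (.leaf 5871) (.leaf 0)) (.node (.leaf 10668) (.leaf 0)))) (.node (.node (.node (.leaf 10308) (.leaf 14183)) (.node (.leaf 20795) (.leaf 0))) (.node (.node (.leaf 5108) (.leaf 0)) (.node (.leaf 10815) (.leaf 0)))))) (.node (.node (.node (.node (.node (.leaf 5834) (.leaf 20020)) (.node (.leaf 9504) (.leaf 0))) (.node (.node (.leaf 5022) (.leaf 6573)) (.node (.leaf 6622) (.leaf 0)))) (.node (.node (.node (.leaf 13280) (.leaf 20200)) (.node (.leaf 7381) (.leaf 0))) (.node (.node (.leaf 21012) (.leaf 0)) (.node (.leaf 12032) (.leaf 0)))))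 (.node (.node (.node (.node (.leaf 9483) (.leaf 2633)) (.node (.leaf 11698) (.leaf 0))) (.node (.node (.leaf 1507) (.leaf 0)) (.node (.leaf 4506) (.leaf 0)))) (.node (.node (.node (.leaf 2492) (.leaf 19143)) (.node (.leaf 8573) (.leaf 0))) (.node (.node (.leaf 10119) (.leaf 0)) (.node (.leaf 20790) (.leaf 0)))))))))

/-- part of a table -/
def ordK24 : Trie := (.node (.node (.node (.node (.node (.node (.node (.node (.leaf 3219) (.leaf 7785)) (.node (.leaf 1226) (.leaf 0))) (.node (.node (.leaf 18819) (.leaf 20290)) (.node (.leaf 4470) (.leaf 0)))) (.node (.node (.node (.leaf 6852) (.leaf 16525)) (.node (.leaf 8756) (.leaf 0))) (.node (.node (.leaf 9233) (.leaf 0)) (.node (.leaf 1252) (.leaf 0))))) (.node (.node (.node (.node (.leaf 20487) (.leaf 7420)) (.node (.leaf 19882) (.leaf 0))) (.node (.node (.leaf 14894) (.leaf 0)) (.node (.leaf 2650) (.leaf 0)))) (.node (.node (.node (.leaf 3726) (.leaf 18208)) (.node (.leaf 17065) (.leaf 0))) (.node (.node (.leaf 2059) (.leaf 0)) (.node (.leaf 16829) (.leaf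 0)))))) (.node (.node (.node (.node (.node (.leaf 17666) (.leaf 17927)) (.node (.leaf 6818) (.leaf 0))) (.node (.node (.leaf 11324) (.leaf 15554)) (.node (.leaf 20460) (.leaf 0)))) (.node (.node (.node (.leaf 20209) (.leaf 12043)) (.node (.leaf 1691) (.leaf 0))) (.node (.node (.leaf 16369) (.leaf 0)) (.node (.leaf 4094) (.leaf 0))))) (.node (.node (.node (.node (.leaf 14716) (.leaf 4747)) (.node (.leaf 3332) (.leaf 0))) (.node (.node (.leaf 5859) (.leaf 0)) (.node (.leaf 19436) (.leaf 0)))) (.node (.node (.node (.leaf 6023) (.leaf 11807)) (.node (.leaf 17127) (.leaf 0))) (.node (.node (.leaf 19327) (.leaf 0)) (.node (.leaf 12002) (.leaf 0))))))) (.node (.node (.node (.node (.node (.node (.leaf 1637) (.leaf 4424)) (.node (.leaf 9892) (.leaf 0))) (.node (.node (.leaf 9581) (.leaf 11119)) (.node (.leaf 7610) (.leaf 0)))) (.node (.node (.node (.leaf 14827) (.leaf 4529)) (.node (.leaf 1797) (.leaf 0))) (.node (.node (.leaf 20248) (.leaf 0)) (.node (.leaf 14163) (.leaf 0))))) (.node (.node (.node (.node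 (.leaf 13810) (.leaf 4228)) (.node (.leaf 19493) (.leaf 0))) (.node (.node (.leaf 20191) (.leaf 0)) (.node (.leaf 2943) (.leaf 0)))) (.node (.node (.node (.leaf 10799) (.leaf 7856)) (.node (.leaf 11067) (.leaf 0))) (.node (.node (.leaf 6336) (.leaf 0)) (.node (.leaf 16163) (.leaf 0)))))) (.node (.node (.node (.node (.node (.leaf 15285) (.leaf 9924)) (.node (.leaf 5297) (.leaf 0))) (.node (.node (.leaf 12716) (.leaf 6130)) (.node (.leaf 16339) (.leaf 0)))) (.node (.node (.node (.leaf 11791) (.leaf 8744)) (.node (.leaf 8409) (.leaf 0))) (.node (.node (.leaf 20791) (.leaf 0)) (.node (.leaf 5970) (.leaf 0))))) (.node (.node (.node (.node (.leaf 4126) (.leaf 18210)) (.node (.leaf 16638) (.leaf 0))) (.node (.node (.leaf 8037) (.leaf 0)) (.node (.leaf 15450) (.leaf 0)))) (.node (.node (.node (.leaf 13440) (.leaf 2064)) (.node (.leaf 10536) (.leaf 0))) (.node (.node (.leaf 1143) (.leaf 0)) (.node (.leaf 1061) (.leaf 0)))))))) (.node (.node (.node (.node (.node (.node (.node (.leaf 15909) (.leaf 8985)) (.node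 (.leaf 9315) (.leaf 0))) (.node (.node (.leaf 20196) (.leaf 2177)) (.node (.leaf 21330) (.leaf 0)))) (.node (.node (.node (.leaf 10212) (.leaf 16121)) (.node (.leaf 2666) (.leaf 0))) (.node (.node (.leaf 15366) (.leaf 0)) (.node (.leaf 20016) (.leaf 0))))) (.node (.node (.node (.node (.leaf 648) (.leaf 21171)) (.node (.leaf 9184) (.leaf 0))) (.node (.node (.leaf 2437) (.leaf 0)) (.node (.leaf 6219) (.leaf 0)))) (.node (.node (.node (.leaf 1527) (.leaf 19918)) (.node (.leaf 9545) (.leaf 0))) (.node (.node (.leaf 19298) (.leaf 0)) (.node (.leaf 19581) (.leaf 0)))))) (.node (.node (.node (.node (.node (.leaf 17936) (.leaf 17219)) (.node (.leaf 19813) (.leaf 0))) (.node (.node (.leaf 15207) (.leaf 3315)) (.node (.leaf 1296) (.leaf 0)))) (.node (.node (.node (.leaf 2431) (.leaf 8145)) (.node (.leaf 9087) (.leaf 0))) (.node (.node (.leaf 16933) (.leaf 0)) (.node (.leaf 4307) (.leaf 0))))) (.node (.node (.node (.node (.leaf 10497) (.leaf 2283)) (.node (.leaf 7472) (.leaf 0))) (.node (.node (.leaf 8954)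 (.leaf 0)) (.node (.leaf 19681) (.leaf 0)))) (.node (.node (.node (.leaf 13237) (.leaf 14950)) (.node (.leaf 13969) (.leaf 0))) (.node (.node (.leaf 203) (.leaf 0)) (.node (.leaf 15744) (.leaf 0))))))) (.node (.node (.node (.node (.node (.node (.leaf 8261) (.leaf 1414)) (.node (.leaf 7221) (.leaf 0))) (.node (.node (.leaf 13762) (.leaf 139)) (.node (.leaf 16715) (.leaf 0)))) (.node (.node (.node (.leaf 14341) (.leaf 8827)) (.node (.leaf 6106) (.leaf 0))) (.node (.node (.leaf 10033) (.leaf 0)) (.node (.leaf 13915) (.leaf 0))))) (.node (.node (.node (.node (.leaf 17043) (.leaf 14453)) (.node (.leaf 2452) (.leaf 0))) (.node (.node (.leaf 14790) (.leaf 0)) (.node (.leaf 15081) (.leaf 0)))) (.node (.node (.node (.leaf 20012) (.leaf 7901)) (.node (.leaf 6013) (.leaf 0))) (.node (.node (.leaf 19066) (.leaf 0)) (.node (.leaf 18181) (.leaf 0)))))) (.node (.node (.node (.node (.node (.leaf 20502) (.leaf 3194)) (.node (.leaf 9943) (.leaf 0))) (.node (.node (.leaf 9509) (.leaf 578)) (.node (.leaf 11386) (.leaf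 0)))) (.node (.node (.node (.leaf 18263) (.leaf 18982)) (.node (.leaf 14701) (.leaf 0))) (.node (.node (.leaf 16783) (.leaf 0)) (.node (.leaf 14121) (.leaf 0))))) (.node (.node (.node (.node (.leaf 20735) (.leaf 4631)) (.node (.leaf 14407) (.leaf 0))) (.node (.node (.leaf 6757) (.leaf 0)) (.node (.leaf 9812) (.leaf 0)))) (.node (.node (.node (.leaf 208) (.leaf 11241)) (.node (.leaf 4453) (.leaf 0))) (.node (.node (.leaf 8644) (.leaf 0)) (.node (.leaf 12978) (.leaf 0)))))))))

/-- part of a table -/
def ordK25 : Trie := (.node (.node (.node (.node (.node (.node (.node (.node (.leaf 2195) (.leaf 12518)) (.node (.leaf 16724) (.leaf 0))) (.node (.node (.leaf 15319) (.leaf 10121)) (.node (.leaf 7723) (.leaf 0)))) (.node (.node (.node (.leaf 19656) (.leaf 2509)) (.node (.leaf 14477) (.leaf 0))) (.node (.node (.leaf 4031) (.leaf 0)) (.node (.leaf 2417) (.leaf 0))))) (.node (.node (.node (.node (.leaf 3616) (.leaf 7904)) (.node (.leaf 6889) (.leaf 0))) (.node (.node (.leaf 19921) (.leaf 0)) (.node (.leaf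 5074) (.leaf 0)))) (.node (.node (.node (.leaf 7204) (.leaf 5827)) (.node (.leaf 8029) (.leaf 0))) (.node (.node (.leaf 5858) (.leaf 0)) (.node (.leaf 70) (.leaf 0)))))) (.node (.node (.node (.node (.node (.leaf 21368) (.leaf 19679)) (.node (.leaf 19698) (.leaf 0))) (.node (.node (.leaf 21462) (.leaf 13643)) (.node (.leaf 19467) (.leaf 0)))) (.node (.node (.node (.leaf 5679) (.leaf 11631)) (.node (.leaf 7286) (.leaf 0))) (.node (.node (.leaf 18031) (.leaf 0)) (.node (.leaf 7355) (.leaf 0))))) (.node (.node (.node (.node (.leaf 9114) (.leaf 6386)) (.node (.leaf 11320) (.leaf 0))) (.node (.node (.leaf 20344) (.leaf 0)) (.node (.leaf 9131) (.leaf 0)))) (.node (.node (.node (.leaf 9694) (.leaf 20834)) (.node (.leaf 3480) (.leaf 0))) (.node (.node (.leaf 8707) (.leaf 0)) (.node (.leaf 14447) (.leaf 0))))))) (.node (.node (.node (.node (.node (.node (.leaf 7673) (.leaf 18076)) (.node (.leaf 21257) (.leaf 0))) (.node (.node (.leaf 19674) (.leaf 19028)) (.node (.leaf 12986) (.leaf 0)))) (.node (.node (.node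 (.leaf 3538) (.leaf 16605)) (.node (.leaf 11521) (.leaf 0))) (.node (.node (.leaf 1121) (.leaf 0)) (.node (.leaf 2627) (.leaf 0))))) (.node (.node (.node (.node (.leaf 14052) (.leaf 16821)) (.node (.leaf 5407) (.leaf 0))) (.node (.node (.leaf 9601) (.leaf 0)) (.node (.leaf 5548) (.leaf 0)))) (.node (.node (.node (.leaf 8327) (.leaf 7087)) (.node (.leaf 18693) (.leaf 0))) (.node (.node (.leaf 10633) (.leaf 0)) (.node (.leaf 17120) (.leaf 0)))))) (.node (.node (.node (.node (.node (.leaf 19542) (.leaf 12074)) (.node (.leaf 9658) (.leaf 0))) (.node (.node (.leaf 17509) (.leaf 1533)) (.node (.leaf 13045) (.leaf 0)))) (.node (.node (.node (.leaf 5835) (.leaf 18766)) (.node (.leaf 17695) (.leaf 0))) (.node (.node (.leaf 13464) (.leaf 0)) (.node (.leaf 17845) (.leaf 0))))) (.node (.node (.node (.node (.leaf 9735) (.leaf 13855)) (.node (.leaf 17696) (.leaf 0))) (.node (.node (.leaf 15021) (.leaf 0)) (.node (.leaf 5816) (.leaf 0)))) (.node (.node (.node (.leaf 1695) (.leaf 8715)) (.node (.leaf 19054) (.leaf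 0))) (.node (.node (.leaf 12753) (.leaf 0)) (.node (.leaf 8170) (.leaf 0)))))))) (.node (.node (.node (.node (.node (.node (.node (.leaf 16297) (.leaf 10875)) (.node (.leaf 2006) (.leaf 0))) (.node (.node (.leaf 12321) (.leaf 15320)) (.node (.leaf 7699) (.leaf 0)))) (.node (.node (.node (.leaf 3630) (.leaf 3552)) (.node (.leaf 15930) (.leaf 0))) (.node (.node (.leaf 7487) (.leaf 0)) (.node (.leaf 12121) (.leaf 0))))) (.node (.node (.node (.node (.leaf 828) (.leaf 17705)) (.node (.leaf 1425) (.leaf 0))) (.node (.node (.leaf 14856) (.leaf 0)) (.node (.leaf 4937) (.leaf 0)))) (.node (.node (.node (.leaf 1373) (.leaf 7101)) (.node (.leaf 17347) (.leaf 0))) (.node (.node (.leaf 3478) (.leaf 0)) (.node (.leaf 17718) (.leaf 0)))))) (.node (.node (.node (.node (.node (.leaf 13633) (.leaf 20333)) (.node (.leaf 7497) (.leaf 0))) (.node (.node (.leaf 13069) (.leaf 4274)) (.node (.leaf 9796) (.leaf 0)))) (.node (.node (.node (.leaf 11588) (.leaf 5294)) (.node (.leaf 9156) (.leaf 0))) (.node (.node (.leaf 14128)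 (.leaf 0)) (.node (.leaf 2998) (.leaf 0))))) (.node (.node (.node (.node (.leaf 17474) (.leaf 3648)) (.node (.leaf 11162) (.leaf 0))) (.node (.node (.leaf 7068) (.leaf 0)) (.node (.leaf 2564) (.leaf 0)))) (.node (.node (.node (.leaf 18360) (.leaf 5875)) (.node (.leaf 12168) (.leaf 0))) (.node (.node (.leaf 11101) (.leaf 0)) (.node (.leaf 10996) (.leaf 0))))))) (.node (.node (.node (.node (.node (.node (.leaf 15254) (.leaf 2797)) (.node (.leaf 1131) (.leaf 0))) (.node (.node (.leaf 3128) (.leaf 5885)) (.node (.leaf 5078) (.leaf 0)))) (.node (.node (.node (.leaf 20351) (.leaf 17501)) (.node (.leaf 803) (.leaf 0))) (.node (.node (.leaf 6703) (.leaf 0)) (.node (.leaf 13149) (.leaf 0))))) (.node (.node (.node (.node (.leaf 17592) (.leaf 17261)) (.node (.leaf 2371) (.leaf 0))) (.node (.node (.leaf 5086) (.leaf 0)) (.node (.leaf 3729) (.leaf 0)))) (.node (.node (.node (.leaf 4030) (.leaf 18163)) (.node (.leaf 6115) (.leaf 0))) (.node (.node (.leaf 9720) (.leaf 0)) (.node (.leaf 19937) (.leaf 0)))))) (.node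 (.node (.node (.node (.node (.leaf 10673) (.leaf 15064)) (.node (.leaf 4926) (.leaf 0))) (.node (.node (.leaf 17487) (.leaf 40)) (.node (.leaf 9167) (.leaf 0)))) (.node (.node (.node (.leaf 17911) (.leaf 7935)) (.node (.leaf 6693) (.leaf 0))) (.node (.node (.leaf 20090) (.leaf 0)) (.node (.leaf 10182) (.leaf 0))))) (.node (.node (.node (.node (.leaf 6691) (.leaf 13922)) (.node (.leaf 14947) (.leaf 0))) (.node (.node (.leaf 8243) (.leaf 0)) (.node (.leaf 5925) (.leaf 0)))) (.node (.node (.node (.leaf 3018) (.leaf 5474)) (.node (.leaf 4130) (.leaf 0))) (.node (.node (.leaf 15299) (.leaf 0)) (.node (.leaf 3298) (.leaf 0)))))))))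

/-- part of a table -/
def ordK26 : Trie := (.node (.node (.node (.node (.node (.node (.node (.node (.leaf 17909) (.leaf 5801)) (.node (.leaf 6694) (.leaf 0))) (.node (.node (.leaf 16195) (.leaf 9849)) (.node (.leaf 12252) (.leaf 0)))) (.node (.node (.node (.leaf 12441) (.leaf 4406)) (.node (.leaf 5969) (.leaf 0))) (.node (.node (.leaf 13267) (.leaf 0)) (.node (.leaf 1049) (.leaf 0))))) (.node (.node (.node (.node (.leaf 5451) (.leaf 13025)) (.node (.leaf 12086) (.leaf 0))) (.node (.node (.leaf 3556) (.leaf 0)) (.node (.leaf 9163) (.leaf 0)))) (.node (.node (.node (.leaf 19427) (.leaf 2635)) (.node (.leaf 17122) (.leaf 0))) (.node (.node (.leaf 16654) (.leaf 0)) (.node (.leaf 16563) (.leaf 0)))))) (.node (.node (.node (.node (.node (.leaf 12155) (.leaf 1224)) (.node (.leaf 4133) (.leaf 0))) (.node (.node (.leaf 17263) (.leaf 12180)) (.node (.leaf 9783) (.leaf 0)))) (.node (.node (.node (.leaf 17905) (.leaf 10718)) (.node (.leaf 7239) (.leaf 0))) (.node (.node (.leaf 15539) (.leaf 0)) (.node (.leaf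 18227) (.leaf 0))))) (.node (.node (.node (.node (.leaf 18027) (.leaf 18521)) (.node (.leaf 15725) (.leaf 0))) (.node (.node (.leaf 6995) (.leaf 0)) (.node (.leaf 19152) (.leaf 0)))) (.node (.node (.node (.leaf 4449) (.leaf 17675)) (.node (.leaf 3450) (.leaf 0))) (.node (.node (.leaf 9402) (.leaf 0)) (.node (.leaf 19919) (.leaf 0))))))) (.node (.node (.node (.node (.node (.node (.leaf 2653) (.leaf 6059)) (.node (.leaf 20357) (.leaf 0))) (.node (.node (.leaf 20810) (.leaf 1663)) (.node (.leaf 444) (.leaf 0)))) (.node (.node (.node (.leaf 16088) (.leaf 17129)) (.node (.leaf 20613) (.leaf 0))) (.node (.node (.leaf 14851) (.leaf 0)) (.node (.leaf 10762) (.leaf 0))))) (.node (.node (.node (.node (.leaf 12399) (.leaf 12551)) (.node (.leaf 12195) (.leaf 0))) (.node (.node (.leaf 4722) (.leaf 0)) (.node (.leaf 7039) (.leaf 0)))) (.node (.node (.node (.leaf 17389) (.leaf 12455)) (.node (.leaf 20993) (.leaf 0))) (.node (.node (.leaf 12159) (.leaf 0)) (.node (.leaf 8996) (.leaf 0)))))) (.node (.node (.node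 (.node (.node (.leaf 15591) (.leaf 13110)) (.node (.leaf 20780) (.leaf 0))) (.node (.node (.leaf 7789) (.leaf 16113)) (.node (.leaf 3036) (.leaf 0)))) (.node (.node (.node (.leaf 10244) (.leaf 20995)) (.node (.leaf 10620) (.leaf 0))) (.node (.node (.leaf 9931) (.leaf 0)) (.node (.leaf 6841) (.leaf 0))))) (.node (.node (.node (.node (.leaf 8399) (.leaf 7963)) (.node (.leaf 18204) (.leaf 0))) (.node (.node (.leaf 14009) (.leaf 0)) (.node (.leaf 16360) (.leaf 0)))) (.node (.node (.node (.leaf 2150) (.leaf 8671)) (.node (.leaf 5033) (.leaf 0))) (.node (.node (.leaf 2885) (.leaf 0)) (.node (.leaf 15169) (.leaf 0)))))))) (.node (.node (.node (.node (.node (.node (.node (.leaf 853) (.leaf 19540)) (.node (.leaf 9949) (.leaf 0))) (.node (.node (.leaf 21437) (.leaf 582)) (.node (.leaf 3653) (.leaf 0)))) (.node (.node (.node (.leaf 3997) (.leaf 20295)) (.node (.leaf 8446) (.leaf 0))) (.node (.node (.leaf 12462) (.leaf 0)) (.node (.leaf 17210) (.leaf 0))))) (.node (.node (.node (.node (.leaf 15971) (.leaf 16035))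 (.node (.leaf 16682) (.leaf 0))) (.node (.node (.leaf 11805) (.leaf 0)) (.node (.leaf 3615) (.leaf 0)))) (.node (.node (.node (.leaf 16467) (.leaf 17771)) (.node (.leaf 11967) (.leaf 0))) (.node (.node (.leaf 18898) (.leaf 0)) (.node (.leaf 17076) (.leaf 0)))))) (.node (.node (.node (.node (.node (.leaf 19062) (.leaf 18857)) (.node (.leaf 4714) (.leaf 0))) (.node (.node (.leaf 14029) (.leaf 17306)) (.node (.leaf 19192) (.leaf 0)))) (.node (.node (.node (.leaf 3771) (.leaf 1932)) (.node (.leaf 9497) (.leaf 0))) (.node (.node (.leaf 7492) (.leaf 0)) (.node (.leaf 16039) (.leaf 0))))) (.node (.node (.node (.node (.leaf 8360) (.leaf 3832)) (.node (.leaf 3503) (.leaf 0))) (.node (.node (.leaf 17796) (.leaf 0)) (.node (.leaf 12882) (.leaf 0)))) (.node (.node (.node (.leaf 12689) (.leaf 7403)) (.node (.leaf 16913) (.leaf 0))) (.node (.node (.leaf 20762) (.leaf 0)) (.node (.leaf 17053) (.leaf 0))))))) (.node (.node (.node (.node (.node (.node (.leaf 965) (.leaf 1689)) (.node (.leaf 2553) (.leaf 0))) (.node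 (.node (.leaf 9521) (.leaf 17604)) (.node (.leaf 7211) (.leaf 0)))) (.node (.node (.node (.leaf 2942) (.leaf 13188)) (.node (.leaf 2323) (.leaf 0))) (.node (.node (.leaf 11393) (.leaf 0)) (.node (.leaf 10294) (.leaf 0))))) (.node (.node (.node (.node (.leaf 18798) (.leaf 8783)) (.node (.leaf 7525) (.leaf 0))) (.node (.node (.leaf 11284) (.leaf 0)) (.node (.leaf 2019) (.leaf 0)))) (.node (.node (.node (.leaf 20207) (.leaf 17998)) (.node (.leaf 17134) (.leaf 0))) (.node (.node (.leaf 11553) (.leaf 0)) (.node (.leaf 1818) (.leaf 0)))))) (.node (.node (.node (.node (.node (.leaf 5820) (.leaf 9024)) (.node (.leaf 15515) (.leaf 0))) (.node (.node (.leaf 3264) (.leaf 13332)) (.node (.leaf 6507) (.leaf 0)))) (.node (.node (.node (.leaf 20774) (.leaf 16782)) (.node (.leaf 17630) (.leaf 0))) (.node (.node (.leaf 16215) (.leaf 0)) (.node (.leaf 14622) (.leaf 0))))) (.node (.node (.node (.node (.leaf 7380) (.leaf 1822)) (.node (.leaf 10951) (.leaf 0))) (.node (.node (.leaf 12307) (.leaf 0)) (.node (.leaf 20684)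 (.leaf 0)))) (.node (.node (.node (.leaf 15222) (.leaf 3792)) (.node (.leaf 19598) (.leaf 0))) (.node (.node (.leaf 4210) (.leaf 0)) (.node (.leaf 5386) (.leaf 0)))))))))

/-- part of a table -/
def ordK27 : Trie := (.node (.node (.node (.node (.node (.node (.node (.node (.leaf 15917) (.leaf 21312)) (.node (.leaf 17920) (.leaf 0))) (.node (.node (.leaf 15942) (.leaf 4388)) (.node (.leaf 4158) (.leaf 0)))) (.node (.node (.node (.leaf 19035) (.leaf 19355)) (.node (.leaf 8215) (.leaf 0))) (.node (.node (.leaf 846) (.leaf 0)) (.node (.leaf 20759) (.leaf 0))))) (.node (.node (.node (.node (.leaf 16800) (.leaf 9147)) (.node (.leaf 16559) (.leaf 0))) (.node (.node (.leaf 3299) (.leaf 0)) (.node (.leaf 102) (.leaf 0)))) (.node (.node (.node (.leaf 3854) (.leaf 8555)) (.node (.leaf 11754) (.leaf 0))) (.node (.node (.leaf 16964) (.leaf 0)) (.node (.leaf 17984) (.leaf 0)))))) (.node (.node (.node (.node (.node (.leaf 2906) (.leaf 3590)) (.node (.leaf 1132) (.leaf 0))) (.node (.node (.leaf 5854) (.leaf 4318))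 (.node (.leaf 1819) (.leaf 0)))) (.node (.node (.node (.leaf 14480) (.leaf 16325)) (.node (.leaf 1416) (.leaf 0))) (.node (.node (.leaf 14558) (.leaf 0)) (.node (.leaf 20170) (.leaf 0))))) (.node (.node (.node (.node (.leaf 15171) (.leaf 9533)) (.node (.leaf 10681) (.leaf 0))) (.node (.node (.leaf 18462) (.leaf 0)) (.node (.leaf 9352) (.leaf 0)))) (.node (.node (.node (.leaf 4418) (.leaf 3346)) (.node (.leaf 10283) (.leaf 0))) (.node (.node (.leaf 541) (.leaf 0)) (.node (.leaf 7102) (.leaf 0))))))) (.node (.node (.node (.node (.node (.node (.leaf 2225) (.leaf 15430)) (.node (.leaf 18329) (.leaf 0))) (.node (.node (.leaf 3083) (.leaf 3975)) (.node (.leaf 6107) (.leaf 0)))) (.node (.node (.node (.leaf 1261) (.leaf 20897)) (.node (.leaf 9669) (.leaf 0))) (.node (.node (.leaf 20728) (.leaf 0)) (.node (.leaf 8188) (.leaf 0))))) (.node (.node (.node (.node (.leaf 4650) (.leaf 14469)) (.node (.leaf 20711) (.leaf 0))) (.node (.node (.leaf 12417) (.leaf 0)) (.node (.leaf 806) (.leaf 0)))) (.node (.node (.node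 (.leaf 18407) (.leaf 8124)) (.node (.leaf 21006) (.leaf 0))) (.node (.node (.leaf 10015) (.leaf 0)) (.node (.leaf 2253) (.leaf 0)))))) (.node (.node (.node (.node (.node (.leaf 5158) (.leaf 11657)) (.node (.leaf 19800) (.leaf 0))) (.node (.node (.leaf 10929) (.leaf 8039)) (.node (.leaf 3764) (.leaf 0)))) (.node (.node (.node (.leaf 10110) (.leaf 8018)) (.node (.leaf 11363) (.leaf 0))) (.node (.node (.leaf 17484) (.leaf 0)) (.node (.leaf 13459) (.leaf 0))))) (.node (.node (.node (.node (.leaf 15388) (.leaf 4666)) (.node (.leaf 11804) (.leaf 0))) (.node (.node (.leaf 13584) (.leaf 0)) (.node (.leaf 14406) (.leaf 0)))) (.node (.node (.node (.leaf 20950) (.leaf 6241)) (.node (.leaf 10933) (.leaf 0))) (.node (.node (.leaf 9833) (.leaf 0)) (.node (.leaf 16872) (.leaf 0)))))))) (.node (.node (.node (.node (.node (.node (.node (.leaf 3599) (.leaf 12670)) (.node (.leaf 1609) (.leaf 0))) (.node (.node (.leaf 21250) (.leaf 4124)) (.node (.leaf 16731) (.leaf 0)))) (.node (.node (.node (.leaf 12104) (.leaf 21148))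 (.node (.leaf 1804) (.leaf 0))) (.node (.node (.leaf 4264) (.leaf 0)) (.node (.leaf 21280) (.leaf 0))))) (.node (.node (.node (.node (.leaf 8824) (.leaf 2744)) (.node (.leaf 9068) (.leaf 0))) (.node (.node (.leaf 17488) (.leaf 0)) (.node (.leaf 3399) (.leaf 0)))) (.node (.node (.node (.leaf 17466) (.leaf 2180)) (.node (.leaf 19822) (.leaf 0))) (.node (.node (.leaf 13949) (.leaf 0)) (.node (.leaf 5314) (.leaf 0)))))) (.node (.node (.node (.node (.node (.leaf 3623) (.leaf 16787)) (.node (.leaf 10432) (.leaf 0))) (.node (.node (.leaf 16393) (.leaf 17698)) (.node (.leaf 21258) (.leaf 0)))) (.node (.node (.node (.leaf 17864) (.leaf 5869)) (.node (.leaf 15702) (.leaf 0))) (.node (.node (.leaf 6326) (.leaf 0)) (.node (.leaf 7389) (.leaf 0))))) (.node (.node (.node (.node (.leaf 13329) (.leaf 8258)) (.node (.leaf 18756) (.leaf 0))) (.node (.node (.leaf 16956) (.leaf 0)) (.node (.leaf 344) (.leaf 0)))) (.node (.node (.node (.leaf 1846) (.leaf 19400)) (.node (.leaf 11031) (.leaf 0))) (.node (.node (.leaf 16506)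 (.leaf 0)) (.node (.leaf 19180) (.leaf 0))))))) (.node (.node (.node (.node (.node (.node (.leaf 4244) (.leaf 18677)) (.node (.leaf 19783) (.leaf 0))) (.node (.node (.leaf 10363) (.leaf 4909)) (.node (.leaf 4686) (.leaf 0)))) (.node (.node (.node (.leaf 8519) (.leaf 10397)) (.node (.leaf 11542) (.leaf 0))) (.node (.node (.leaf 14711) (.leaf 0)) (.node (.leaf 17460) (.leaf 0))))) (.node (.node (.node (.node (.leaf 11765) (.leaf 3223)) (.node (.leaf 21463) (.leaf 0))) (.node (.node (.leaf 17309) (.leaf 0)) (.node (.leaf 9223) (.leaf 0)))) (.node (.node (.node (.leaf 9181) (.leaf 14825)) (.node (.leaf 16741) (.leaf 0))) (.node (.node (.leaf 3003) (.leaf 0)) (.node (.leaf 900) (.leaf 0)))))) (.node (.node (.node (.node (.node (.leaf 2836) (.leaf 3934)) (.node (.leaf 4155) (.leaf 0))) (.node (.node (.leaf 3282) (.leaf 17374)) (.node (.leaf 10141) (.leaf 0)))) (.node (.node (.node (.leaf 19347) (.leaf 11762)) (.node (.leaf 1905) (.leaf 0))) (.node (.node (.leaf 7304) (.leaf 0)) (.node (.leaf 907) (.leaf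 0))))) (.node (.node (.node (.node (.leaf 3383) (.leaf 4541)) (.node (.leaf 6463) (.leaf 0))) (.node (.node (.leaf 14240) (.leaf 0)) (.node (.leaf 4363) (.leaf 0)))) (.node (.node (.node (.leaf 20266) (.leaf 18977)) (.node (.leaf 1137) (.leaf 0))) (.node (.node (.leaf 8351) (.leaf 0)) (.node (.leaf 2536) (.leaf 0)))))))))

/-- part of a table -/
def ordK28 : Trie := (.node (.node (.node (.node (.node (.node (.node (.node (.leaf 10791) (.leaf 2381)) (.node (.leaf 10590) (.leaf 0))) (.node (.node (.leaf 19432) (.leaf 2374)) (.node (.leaf 8020) (.leaf 0)))) (.node (.node (.node (.leaf 18647) (.leaf 1643)) (.node (.leaf 17346) (.leaf 0))) (.node (.node (.leaf 16998) (.leaf 0)) (.node (.leaf 17410) (.leaf 0))))) (.node (.node (.node (.node (.leaf 5484) (.leaf 5628)) (.node (.leaf 9267) (.leaf 0))) (.node (.node (.leaf 6475) (.leaf 0)) (.node (.leaf 1802) (.leaf 0)))) (.node (.node (.node (.leaf 1551) (.leaf 14949)) (.node (.leaf 4791) (.leaf 0))) (.node (.node (.leaf 20428) (.leaf 0)) (.node (.leaf 9100)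 (.leaf 0)))))) (.node (.node (.node (.node (.node (.leaf 1725) (.leaf 18592)) (.node (.leaf 17813) (.leaf 0))) (.node (.node (.leaf 236) (.leaf 16509)) (.node (.leaf 5341) (.leaf 0)))) (.node (.node (.node (.leaf 15384) (.leaf 1567)) (.node (.leaf 17159) (.leaf 0))) (.node (.node (.leaf 16502) (.leaf 0)) (.node (.leaf 5397) (.leaf 0))))) (.node (.node (.node (.node (.leaf 6601) (.leaf 16101)) (.node (.leaf 2172) (.leaf 0))) (.node (.node (.leaf 3843) (.leaf 0)) (.node (.leaf 12759) (.leaf 0)))) (.node (.node (.node (.leaf 4441) (.leaf 19446)) (.node (.leaf 19098) (.leaf 0))) (.node (.node (.leaf 15991) (.leaf 0)) (.node (.leaf 16419) (.leaf 0))))))) (.node (.node (.node (.node (.node (.node (.leaf 16286) (.leaf 7743)) (.node (.leaf 18752) (.leaf 0))) (.node (.node (.leaf 10239) (.leaf 484)) (.node (.leaf 19531) (.leaf 0)))) (.node (.node (.node (.leaf 3375) (.leaf 9359)) (.node (.leaf 16354) (.leaf 0))) (.node (.node (.leaf 7071) (.leaf 0)) (.node (.leaf 18779) (.leaf 0))))) (.node (.node (.node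 (.node (.leaf 101) (.leaf 10641)) (.node (.leaf 15111) (.leaf 0))) (.node (.node (.leaf 8770) (.leaf 0)) (.node (.leaf 19998) (.leaf 0)))) (.node (.node (.node (.leaf 8988) (.leaf 7906)) (.node (.leaf 19705) (.leaf 0))) (.node (.node (.leaf 19720) (.leaf 0)) (.node (.leaf 725) (.leaf 0)))))) (.node (.node (.node (.node (.node (.leaf 20864) (.leaf 14991)) (.node (.leaf 21397) (.leaf 0))) (.node (.node (.leaf 8903) (.leaf 9355)) (.node (.leaf 12845) (.leaf 0)))) (.node (.node (.node (.leaf 21322) (.leaf 7418)) (.node (.leaf 11827) (.leaf 0))) (.node (.node (.leaf 7316) (.leaf 0)) (.node (.leaf 14771) (.leaf 0))))) (.node (.node (.node (.node (.leaf 3096) (.leaf 19067)) (.node (.leaf 19719) (.leaf 0))) (.node (.node (.leaf 12343) (.leaf 0)) (.node (.leaf 8133) (.leaf 0)))) (.node (.node (.node (.leaf 6169) (.leaf 12891)) (.node (.leaf 10540) (.leaf 0))) (.node (.node (.leaf 11205) (.leaf 0)) (.node (.leaf 18568) (.leaf 0)))))))) (.node (.node (.node (.node (.node (.node (.node (.leaf 20114) (.leaf 11818))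 (.node (.leaf 18871) (.leaf 0))) (.node (.node (.leaf 3522) (.leaf 19046)) (.node (.leaf 18286) (.leaf 0)))) (.node (.node (.node (.leaf 5540) (.leaf 13181)) (.node (.leaf 16726) (.leaf 0))) (.node (.node (.leaf 5723) (.leaf 0)) (.node (.leaf 10275) (.leaf 0))))) (.node (.node (.node (.node (.leaf 8972) (.leaf 6488)) (.node (.leaf 8745) (.leaf 0))) (.node (.node (.leaf 13653) (.leaf 0)) (.node (.leaf 1790) (.leaf 0)))) (.node (.node (.node (.leaf 18682) (.leaf 3842)) (.node (.leaf 16157) (.leaf 0))) (.node (.node (.leaf 6900) (.leaf 0)) (.node (.leaf 14695) (.leaf 0)))))) (.node (.node (.node (.node (.node (.leaf 15795) (.leaf 20118)) (.node (.leaf 17083) (.leaf 0))) (.node (.node (.leaf 18557) (.leaf 1538)) (.node (.leaf 5907) (.leaf 0)))) (.node (.node (.node (.leaf 21300) (.leaf 6369)) (.node (.leaf 3037) (.leaf 0))) (.node (.node (.leaf 4214) (.leaf 0)) (.node (.leaf 14636) (.leaf 0))))) (.node (.node (.node (.node (.leaf 2156) (.leaf 15291)) (.node (.leaf 15720) (.leaf 0))) (.node (.node (.leaf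 10783) (.leaf 0)) (.node (.leaf 19462) (.leaf 0)))) (.node (.node (.node (.leaf 5860) (.leaf 6228)) (.node (.leaf 2438) (.leaf 0))) (.node (.node (.leaf 17462) (.leaf 0)) (.node (.leaf 8224) (.leaf 0))))))) (.node (.node (.node (.node (.node (.node (.leaf 157) (.leaf 11503)) (.node (.leaf 4319) (.leaf 0))) (.node (.node (.leaf 6384) (.leaf 13361)) (.node (.leaf 7360) (.leaf 0)))) (.node (.node (.node (.leaf 4881) (.leaf 17387)) (.node (.leaf 13573) (.leaf 0))) (.node (.node (.leaf 13018) (.leaf 0)) (.node (.leaf 1727) (.leaf 0))))) (.node (.node (.node (.node (.leaf 17348) (.leaf 11228)) (.node (.leaf 12229) (.leaf 0))) (.node (.node (.leaf 20068) (.leaf 0)) (.node (.leaf 14873) (.leaf 0)))) (.node (.node (.node (.leaf 3162) (.leaf 20686)) (.node (.leaf 5214) (.leaf 0))) (.node (.node (.leaf 11448) (.leaf 0)) (.node (.leaf 12272) (.leaf 0)))))) (.node (.node (.node (.node (.node (.leaf 11583) (.leaf 2209)) (.node (.leaf 3911) (.leaf 0))) (.node (.node (.leaf 8213) (.leaf 17307)) (.node (.leaf 19263)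 (.leaf 0)))) (.node (.node (.node (.leaf 8640) (.leaf 2203)) (.node (.leaf 16366) (.leaf 0))) (.node (.node (.leaf 17304) (.leaf 0)) (.node (.leaf 11056) (.leaf 0))))) (.node (.node (.node (.node (.leaf 18498) (.leaf 893)) (.node (.leaf 4041) (.leaf 0))) (.node (.node (.leaf 3072) (.leaf 0)) (.node (.leaf 21436) (.leaf 0)))) (.node (.node (.node (.leaf 9806) (.leaf 8870)) (.node (.leaf 8257) (.leaf 0))) (.node (.node (.leaf 2630) (.leaf 0)) (.node (.leaf 16432) (.leaf 0)))))))))

/-- part of a table -/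
def ordK29 : Trie := (.node (.node (.node (.node (.node (.node (.node (.node (.leaf 16960) (.leaf 15177)) (.node (.leaf 18720) (.leaf 0))) (.node (.node (.leaf 10510) (.leaf 13369)) (.node (.leaf 17530) (.leaf 0)))) (.node (.node (.node (.leaf 731) (.leaf 13940)) (.node (.leaf 19554) (.leaf 0))) (.node (.node (.leaf 16629) (.leaf 0)) (.node (.leaf 13495) (.leaf 0))))) (.node (.node (.node (.node (.leaf 3400) (.leaf 16278)) (.node (.leaf 9064) (.leaf 0))) (.node (.node (.leaf 9095) (.leaf 0)) (.node (.leaf 17162) (.leaf 0)))) (.node (.node (.node (.leaf 13079) (.leaf 3756)) (.node (.leaf 20832) (.leaf 0))) (.node (.node (.leaf 16238) (.leaf 0)) (.node (.leaf 11640) (.leaf 0)))))) (.node (.node (.node (.node (.node (.leaf 13680) (.leaf 12718)) (.node (.leaf 15811) (.leaf 0))) (.node (.node (.leaf 8786) (.leaf 6014)) (.node (.leaf 19163) (.leaf 0)))) (.node (.node (.node (.leaf 1787) (.leaf 3033)) (.node (.leaf 3645) (.leaf 0))) (.node (.node (.leaf 16603) (.leaf 0)) (.node (.leaf 8142) (.leaf 0)))))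 (.node (.node (.node (.node (.leaf 13128) (.leaf 9429)) (.node (.leaf 3452) (.leaf 0))) (.node (.node (.leaf 21229) (.leaf 0)) (.node (.leaf 5126) (.leaf 0)))) (.node (.node (.node (.leaf 3746) (.leaf 2873)) (.node (.leaf 13326) (.leaf 0))) (.node (.node (.leaf 16700) (.leaf 0)) (.node (.leaf 4174) (.leaf 0))))))) (.node (.node (.node (.node (.node (.node (.leaf 19437) (.leaf 15497)) (.node (.leaf 20805) (.leaf 0))) (.node (.node (.leaf 19472) (.leaf 2838)) (.node (.leaf 4456) (.leaf 0)))) (.node (.node (.node (.leaf 17693) (.leaf 15669)) (.node (.leaf 4261) (.leaf 0))) (.node (.node (.leaf 16188) (.leaf 0)) (.node (.leaf 16859) (.leaf 0))))) (.node (.node (.node (.node (.leaf 4540) (.leaf 6965)) (.node (.leaf 11584) (.leaf 0))) (.node (.node (.leaf 18010) (.leaf 0)) (.node (.leaf 8520) (.leaf 0)))) (.node (.node (.node (.leaf 2629) (.leaf 21099)) (.node (.leaf 14668) (.leaf 0))) (.node (.node (.leaf 4450) (.leaf 0)) (.node (.leaf 730) (.leaf 0)))))) (.node (.node (.node (.node (.node (.leaf 1657)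 (.leaf 2376)) (.node (.leaf 16924) (.leaf 0))) (.node (.node (.leaf 1901) (.leaf 7320)) (.node (.leaf 21476) (.leaf 0)))) (.node (.node (.node (.leaf 8895) (.leaf 9183)) (.node (.leaf 206) (.leaf 0))) (.node (.node (.leaf 4866) (.leaf 0)) (.node (.leaf 1100) (.leaf 0))))) (.node (.node (.node (.node (.leaf 182) (.leaf 2517)) (.node (.leaf 9106) (.leaf 0))) (.node (.node (.leaf 12379) (.leaf 0)) (.node (.leaf 6071) (.leaf 0)))) (.node (.node (.node (.leaf 10008) (.leaf 20512)) (.node (.leaf 17004) (.leaf 0))) (.node (.node (.leaf 14023) (.leaf 0)) (.node (.leaf 6974) (.leaf 0)))))))) (.node (.node (.node (.node (.node (.node (.node (.leaf 15638) (.leaf 2221)) (.node (.leaf 17608) (.leaf 0))) (.node (.node (.leaf 5574) (.leaf 1736)) (.node (.leaf 2592) (.leaf 0)))) (.node (.node (.node (.leaf 2982) (.leaf 7419)) (.node (.leaf 5208) (.leaf 0))) (.node (.node (.leaf 20595) (.leaf 0)) (.node (.leaf 1954) (.leaf 0))))) (.node (.node (.node (.node (.leaf 14196) (.leaf 21422)) (.node (.leaf 12424) (.leaf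 0))) (.node (.node (.leaf 18880) (.leaf 0)) (.node (.leaf 20717) (.leaf 0)))) (.node (.node (.node (.leaf 14021) (.leaf 643)) (.node (.leaf 11345) (.leaf 0))) (.node (.node (.leaf 20340) (.leaf 0)) (.node (.leaf 20361) (.leaf 0)))))) (.node (.node (.node (.node (.node (.leaf 10299) (.leaf 11151)) (.node (.leaf 14700) (.leaf 0))) (.node (.node (.leaf 19235) (.leaf 19391)) (.node (.leaf 4678) (.leaf 0)))) (.node (.node (.node (.leaf 5947) (.leaf 20843)) (.node (.leaf 20269) (.leaf 0))) (.node (.node (.leaf 8646) (.leaf 0)) (.node (.leaf 14907) (.leaf 0))))) (.node (.node (.node (.node (.leaf 19982) (.leaf 12802)) (.node (.leaf 15801) (.leaf 0))) (.node (.node (.leaf 16631) (.leaf 0)) (.node (.leaf 12613) (.leaf 0)))) (.node (.node (.node (.leaf 16818) (.leaf 7756)) (.node (.leaf 5021) (.leaf 0))) (.node (.node (.leaf 17738) (.leaf 0)) (.node (.leaf 11071) (.leaf 0))))))) (.node (.node (.node (.node (.node (.node (.leaf 9265) (.leaf 3967)) (.node (.leaf 20337) (.leaf 0))) (.node (.node (.leaf 5184)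 (.leaf 15092)) (.node (.leaf 17930) (.leaf 0)))) (.node (.node (.node (.leaf 14046) (.leaf 19397)) (.node (.leaf 4432) (.leaf 0))) (.node (.node (.leaf 5092) (.leaf 0)) (.node (.leaf 15442) (.leaf 0))))) (.node (.node (.node (.node (.leaf 19911) (.leaf 16019)) (.node (.leaf 17145) (.leaf 0))) (.node (.node (.leaf 6200) (.leaf 0)) (.node (.leaf 728) (.leaf 0)))) (.node (.node (.node (.leaf 9448) (.leaf 4188)) (.node (.leaf 20696) (.leaf 0))) (.node (.node (.leaf 4851) (.leaf 0)) (.node (.leaf 18959) (.leaf 0)))))) (.node (.node (.node (.node (.node (.leaf 21073) (.leaf 6191)) (.node (.leaf 9499) (.leaf 0))) (.node (.node (.leaf 15510) (.leaf 12304)) (.node (.leaf 12431) (.leaf 0)))) (.node (.node (.node (.leaf 16861) (.leaf 6235)) (.node (.leaf 12720) (.leaf 0))) (.node (.node (.leaf 17745) (.leaf 0)) (.node (.leaf 11728) (.leaf 0))))) (.node (.node (.node (.node (.leaf 1198) (.leaf 4757)) (.node (.leaf 7154) (.leaf 0))) (.node (.node (.leaf 16431) (.leaf 0)) (.node (.leaf 4312) (.leaf 0)))) (.node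 (.node (.node (.leaf 5361) (.leaf 9907)) (.node (.leaf 18311) (.leaf 0))) (.node (.node (.leaf 19627) (.leaf 0)) (.node (.leaf 1386) (.leaf 0)))))))))

/-- part of a table -/
def ordK30 : Trie := (.node (.node (.node (.node (.node (.node (.node (.node (.leaf 8441) (.leaf 7556)) (.node (.leaf 19419) (.leaf 0))) (.node (.node (.leaf 8785) (.leaf 9922)) (.node (.leaf 13509) (.leaf 0)))) (.node (.node (.node (.leaf 752) (.leaf 2029)) (.node (.leaf 9069) (.leaf 0))) (.node (.node (.leaf 2107) (.leaf 0)) (.node (.leaf 12751) (.leaf 0))))) (.node (.node (.node (.node (.leaf 7162) (.leaf 3553)) (.node (.leaf 3788) (.leaf 0))) (.node (.node (.leaf 8748) (.leaf 0)) (.node (.leaf 12859) (.leaf 0)))) (.node (.node (.node (.leaf 12765) (.leaf 18015)) (.node (.leaf 8848) (.leaf 0))) (.node (.node (.leaf 8652) (.leaf 0)) (.node (.leaf 477) (.leaf 0)))))) (.node (.node (.node (.node (.node (.leaf 15620) (.leaf 14102)) (.node (.leaf 17424) (.leaf 0))) (.node (.node (.leaf 7362) (.leaf 14460)) (.node (.leaf 2369)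 (.leaf 0)))) (.node (.node (.node (.leaf 8356) (.leaf 9031)) (.node (.leaf 15252) (.leaf 0))) (.node (.node (.leaf 20983) (.leaf 0)) (.node (.leaf 8866) (.leaf 0))))) (.node (.node (.node (.node (.leaf 9043) (.leaf 7597)) (.node (.leaf 660) (.leaf 0))) (.node (.node (.leaf 14031) (.leaf 0)) (.node (.leaf 1636) (.leaf 0)))) (.node (.node (.node (.leaf 8150) (.leaf 15877)) (.node (.leaf 3329) (.leaf 0))) (.node (.node (.leaf 14171) (.leaf 0)) (.node (.leaf 17183) (.leaf 0))))))) (.node (.node (.node (.node (.node (.node (.leaf 5127) (.leaf 20746)) (.node (.leaf 17102) (.leaf 0))) (.node (.node (.leaf 2681) (.leaf 11693)) (.node (.leaf 5528) (.leaf 0)))) (.node (.node (.node (.leaf 5143) (.leaf 3737)) (.node (.leaf 7164) (.leaf 0))) (.node (.node (.leaf 9375) (.leaf 0)) (.node (.leaf 13731) (.leaf 0))))) (.node (.node (.node (.node (.leaf 5944) (.leaf 9747)) (.node (.leaf 915) (.leaf 0))) (.node (.node (.leaf 15550) (.leaf 0)) (.node (.leaf 5562) (.leaf 0)))) (.node (.node (.node (.leaf 5647) (.leaf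 15163)) (.node (.leaf 19377) (.leaf 0))) (.node (.node (.leaf 6102) (.leaf 0)) (.node (.leaf 9221) (.leaf 0)))))) (.node (.node (.node (.node (.node (.leaf 9805) (.leaf 739)) (.node (.leaf 19600) (.leaf 0))) (.node (.node (.leaf 11029) (.leaf 17528)) (.node (.leaf 10692) (.leaf 0)))) (.node (.node (.node (.leaf 16994) (.leaf 4514)) (.node (.leaf 9785) (.leaf 0))) (.node (.node (.leaf 8035) (.leaf 0)) (.node (.leaf 6395) (.leaf 0))))) (.node (.node (.node (.node (.leaf 2656) (.leaf 16989)) (.node (.leaf 14151) (.leaf 0))) (.node (.node (.leaf 15295) (.leaf 0)) (.node (.leaf 6552) (.leaf 0)))) (.node (.node (.node (.leaf 16397) (.leaf 12222)) (.node (.leaf 3334) (.leaf 0))) (.node (.node (.leaf 10277) (.leaf 0)) (.node (.leaf 10967) (.leaf 0)))))))) (.node (.node (.node (.node (.node (.node (.node (.leaf 6514) (.leaf 7638)) (.node (.leaf 10701) (.leaf 0))) (.node (.node (.leaf 17272) (.leaf 21108)) (.node (.leaf 2680) (.leaf 0)))) (.node (.node (.node (.leaf 6325) (.leaf 7232)) (.node (.leaf 8456)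 (.leaf 0))) (.node (.node (.leaf 8643) (.leaf 0)) (.node (.leaf 20320) (.leaf 0))))) (.node (.node (.node (.node (.leaf 12564) (.leaf 18669)) (.node (.leaf 17689) (.leaf 0))) (.node (.node (.leaf 9567) (.leaf 0)) (.node (.leaf 6205) (.leaf 0)))) (.node (.node (.node (.leaf 19320) (.leaf 17038)) (.node (.leaf 12117) (.leaf 0))) (.node (.node (.leaf 19089) (.leaf 0)) (.node (.leaf 21424) (.leaf 0)))))) (.node (.node (.node (.node (.node (.leaf 19246) (.leaf 4823)) (.node (.leaf 15349) (.leaf 0))) (.node (.node (.leaf 6489) (.leaf 5652)) (.node (.leaf 15911) (.leaf 0)))) (.node (.node (.node (.leaf 10206) (.leaf 17101)) (.node (.leaf 13989) (.leaf 0))) (.node (.node (.leaf 21335) (.leaf 0)) (.node (.leaf 7726) (.leaf 0))))) (.node (.node (.node (.node (.leaf 14642) (.leaf 19217)) (.node (.leaf 6441) (.leaf 0))) (.node (.node (.leaf 4718) (.leaf 0)) (.node (.leaf 13817) (.leaf 0)))) (.node (.node (.node (.leaf 15189) (.leaf 7513)) (.node (.leaf 3281) (.leaf 0))) (.node (.node (.leaf 7694) (.leaf 0))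 (.node (.leaf 4885) (.leaf 0))))))) (.node (.node (.node (.node (.node (.node (.leaf 17994) (.leaf 17148)) (.node (.leaf 2365) (.leaf 0))) (.node (.node (.leaf 10542) (.leaf 12154)) (.node (.leaf 11495) (.leaf 0)))) (.node (.node (.node (.leaf 19001) (.leaf 165)) (.node (.leaf 5019) (.leaf 0))) (.node (.node (.leaf 5697) (.leaf 0)) (.node (.leaf 2675) (.leaf 0))))) (.node (.node (.node (.node (.leaf 19091) (.leaf 4301)) (.node (.leaf 1250) (.leaf 0))) (.node (.node (.leaf 20841) (.leaf 0)) (.node (.leaf 14172) (.leaf 0)))) (.node (.node (.node (.leaf 16637) (.leaf 1041)) (.node (.leaf 13975) (.leaf 0))) (.node (.node (.leaf 21313) (.leaf 0)) (.node (.leaf 4764) (.leaf 0)))))) (.node (.node (.node (.node (.node (.leaf 13598) (.leaf 2016)) (.node (.leaf 18626) (.leaf 0))) (.node (.node (.leaf 5787) (.leaf 10781)) (.node (.leaf 5626) (.leaf 0)))) (.node (.node (.node (.leaf 13364) (.leaf 1338)) (.node (.leaf 16092) (.leaf 0))) (.node (.node (.leaf 610) (.leaf 0)) (.node (.leaf 590) (.leaf 0))))) (.node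 (.node (.node (.node (.leaf 1520) (.leaf 3835)) (.node (.leaf 15370) (.leaf 0))) (.node (.node (.leaf 13673) (.leaf 0)) (.node (.leaf 5734) (.leaf 0)))) (.node (.node (.node (.leaf 1966) (.leaf 3240)) (.node (.leaf 19491) (.leaf 0))) (.node (.node (.leaf 21033) (.leaf 0)) (.node (.leaf 16758) (.leaf 0)))))))))

/-- part of a table -/
def ordK31 : Trie := (.node (.node (.node (.node (.node (.node (.node (.node (.leaf 6684) (.leaf 15521)) (.node (.leaf 6830) (.leaf 0))) (.node (.node (.leaf 12236) (.leaf 11483)) (.node (.leaf 6547) (.leaf 0)))) (.node (.node (.node (.leaf 12353) (.leaf 12778)) (.node (.leaf 19821) (.leaf 0))) (.node (.node (.leaf 20596) (.leaf 0)) (.node (.leaf 12885) (.leaf 0))))) (.node (.node (.node (.node (.leaf 10592) (.leaf 20036)) (.node (.leaf 9643) (.leaf 0))) (.node (.node (.leaf 691) (.leaf 0)) (.node (.leaf 14589) (.leaf 0)))) (.node (.node (.node (.leaf 6834) (.leaf 8959)) (.node (.leaf 7863) (.leaf 0))) (.node (.node (.leaf 10857) (.leaf 0)) (.node (.leaf 13927) (.leaf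 0)))))) (.node (.node (.node (.node (.node (.leaf 12664) (.leaf 6733)) (.node (.leaf 11984) (.leaf 0))) (.node (.node (.leaf 17406) (.leaf 16920)) (.node (.leaf 14458) (.leaf 0)))) (.node (.node (.node (.leaf 1403) (.leaf 8080)) (.node (.leaf 9540) (.leaf 0))) (.node (.node (.leaf 10507) (.leaf 0)) (.node (.leaf 13544) (.leaf 0))))) (.node (.node (.node (.node (.leaf 558) (.leaf 10243)) (.node (.leaf 16282) (.leaf 0))) (.node (.node (.leaf 10858) (.leaf 0)) (.node (.leaf 8913) (.leaf 0)))) (.node (.node (.node (.leaf 7670) (.leaf 971)) (.node (.leaf 10020) (.leaf 0))) (.node (.node (.leaf 12994) (.leaf 0)) (.node (.leaf 1429) (.leaf 0))))))) (.node (.node (.node (.node (.node (.node (.leaf 9353) (.leaf 7108)) (.node (.leaf 18578) (.leaf 0))) (.node (.node (.leaf 3365) (.leaf 9349)) (.node (.leaf 5737) (.leaf 0)))) (.node (.node (.node (.leaf 17027) (.leaf 14560)) (.node (.leaf 1945) (.leaf 0))) (.node (.node (.leaf 16575) (.leaf 0)) (.node (.leaf 13436) (.leaf 0))))) (.node (.node (.node (.node (.leaf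 4532) (.leaf 12581)) (.node (.leaf 19077) (.leaf 0))) (.node (.node (.leaf 19118) (.leaf 0)) (.node (.leaf 1027) (.leaf 0)))) (.node (.node (.node (.leaf 7488) (.leaf 9589)) (.node (.leaf 4874) (.leaf 0))) (.node (.node (.leaf 3137) (.leaf 0)) (.node (.leaf 20538) (.leaf 0)))))) (.node (.node (.node (.node (.node (.leaf 14042) (.leaf 7690)) (.node (.leaf 18249) (.leaf 0))) (.node (.node (.leaf 16908) (.leaf 3766)) (.node (.leaf 16112) (.leaf 0)))) (.node (.node (.node (.leaf 20276) (.leaf 13307)) (.node (.leaf 4862) (.leaf 0))) (.node (.node (.leaf 15293) (.leaf 0)) (.node (.leaf 20965) (.leaf 0))))) (.node (.node (.node (.node (.leaf 12773) (.leaf 2921)) (.node (.leaf 16625) (.leaf 0))) (.node (.node (.leaf 7318) (.leaf 0)) (.node (.leaf 9678) (.leaf 0)))) (.node (.node (.node (.leaf 18004) (.leaf 375)) (.node (.leaf 7460) (.leaf 0))) (.node (.node (.leaf 13954) (.leaf 0)) (.node (.leaf 18757) (.leaf 0)))))))) (.node (.node (.node (.node (.node (.node (.node (.leaf 12354) (.leaf 15194)) (.node (.leaf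 20749) (.leaf 0))) (.node (.node (.leaf 20457) (.leaf 6528)) (.node (.leaf 3440) (.leaf 0)))) (.node (.node (.node (.leaf 1442) (.leaf 6484)) (.node (.leaf 6099) (.leaf 0))) (.node (.node (.leaf 9377) (.leaf 0)) (.node (.leaf 9192) (.leaf 0))))) (.node (.node (.node (.node (.leaf 868) (.leaf 17892)) (.node (.leaf 4497) (.leaf 0))) (.node (.node (.leaf 3277) (.leaf 0)) (.node (.leaf 13794) (.leaf 0)))) (.node (.node (.node (.leaf 9763) (.leaf 10991)) (.node (.leaf 11294) (.leaf 0))) (.node (.node (.leaf 20213) (.leaf 0)) (.node (.leaf 10408) (.leaf 0)))))) (.node (.node (.node (.node (.node (.leaf 2935) (.leaf 18639)) (.node (.leaf 18400) (.leaf 0))) (.node (.node (.leaf 2809) (.leaf 8173)) (.node (.leaf 6252) (.leaf 0)))) (.node (.node (.node (.leaf 15680) (.leaf 6565)) (.node (.leaf 18492) (.leaf 0))) (.node (.node (.leaf 2249) (.leaf 0)) (.node (.leaf 18834) (.leaf 0))))) (.node (.node (.node (.node (.leaf 10556) (.leaf 4754)) (.node (.leaf 6029) (.leaf 0))) (.node (.node (.leaf 20996) (.leaf 0))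 (.node (.leaf 12789) (.leaf 0)))) (.node (.node (.node (.leaf 11143) (.leaf 3230)) (.node (.leaf 16357) (.leaf 0))) (.node (.node (.leaf 19342) (.leaf 0)) (.node (.leaf 4192) (.leaf 0))))))) (.node (.node (.node (.node (.node (.node (.leaf 2282) (.leaf 21081)) (.node (.leaf 13644) (.leaf 0))) (.node (.node (.leaf 455) (.leaf 11306)) (.node (.leaf 1269) (.leaf 0)))) (.node (.node (.node (.leaf 805) (.leaf 20079)) (.node (.leaf 18079) (.leaf 0))) (.node (.node (.leaf 5322) (.leaf 0)) (.node (.leaf 9902) (.leaf 0))))) (.node (.node (.node (.node (.leaf 17106) (.leaf 11249)) (.node (.leaf 14915) (.leaf 0))) (.node (.node (.leaf 5298) (.leaf 0)) (.node (.leaf 4797) (.leaf 0)))) (.node (.node (.node (.leaf 5979) (.leaf 12544)) (.node (.leaf 15505) (.leaf 0))) (.node (.node (.leaf 9108) (.leaf 0)) (.node (.leaf 228) (.leaf 0)))))) (.node (.node (.node (.node (.node (.leaf 2364) (.leaf 8862)) (.node (.leaf 4963) (.leaf 0))) (.node (.node (.leaf 15925) (.leaf 10754)) (.node (.leaf 16663) (.leaf 0)))) (.node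 (.node (.node (.leaf 4081) (.leaf 6921)) (.node (.leaf 15872) (.leaf 0))) (.node (.node (.leaf 11244) (.leaf 0)) (.node (.leaf 14951) (.leaf 0))))) (.node (.node (.node (.node (.leaf 17246) (.leaf 11033)) (.node (.leaf 2588) (.leaf 0))) (.node (.node (.leaf 3151) (.leaf 0)) (.node (.leaf 4589) (.leaf 0)))) (.node (.node (.node (.leaf 11876) (.leaf 12391)) (.node (.leaf 12871) (.leaf 0))) (.node (.node (.leaf 5197) (.leaf 0)) (.node (.leaf 14920) (.leaf 0)))))))))

/-- part of a table -/
def ordK32 : Trie := (.node (.node (.node (.node (.node (.node (.node (.node (.leaf 21128) (.leaf 2582)) (.node (.leaf 18680) (.leaf 0))) (.node (.node (.leaf 20085) (.leaf 10564)) (.node (.leaf 18396) (.leaf 0)))) (.node (.node (.node (.leaf 15329) (.leaf 21412)) (.node (.leaf 8801) (.leaf 0))) (.node (.node (.leaf 19325) (.leaf 0)) (.node (.leaf 16862) (.leaf 0))))) (.node (.node (.node (.node (.leaf 15645) (.leaf 14869)) (.node (.leaf 18337) (.leaf 0))) (.node (.node (.leaf 14314) (.leaf 0)) (.node (.leaf 18994)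 (.leaf 0)))) (.node (.node (.node (.leaf 6269) (.leaf 246)) (.node (.leaf 861) (.leaf 0))) (.node (.node (.leaf 19745) (.leaf 0)) (.node (.leaf 21379) (.leaf 0)))))) (.node (.node (.node (.node (.node (.leaf 4553) (.leaf 14074)) (.node (.leaf 15125) (.leaf 0))) (.node (.node (.leaf 14441) (.leaf 19124)) (.node (.leaf 15212) (.leaf 0)))) (.node (.node (.node (.leaf 11387) (.leaf 10027)) (.node (.leaf 930) (.leaf 0))) (.node (.node (.leaf 8358) (.leaf 0)) (.node (.leaf 19608) (.leaf 0))))) (.node (.node (.node (.node (.leaf 14629) (.leaf 7193)) (.node (.leaf 16056) (.leaf 0))) (.node (.node (.leaf 13161) (.leaf 0)) (.node (.leaf 8541) (.leaf 0)))) (.node (.node (.node (.leaf 21125) (.leaf 548)) (.node (.leaf 2182) (.leaf 0))) (.node (.node (.leaf 6267) (.leaf 0)) (.node (.leaf 614) (.leaf 0))))))) (.node (.node (.node (.node (.node (.node (.leaf 17672) (.leaf 3034)) (.node (.leaf 149) (.leaf 0))) (.node (.node (.leaf 7270) (.leaf 19408)) (.node (.leaf 5699) (.leaf 0)))) (.node (.node (.node (.leaf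 18319) (.leaf 10600)) (.node (.leaf 14834) (.leaf 0))) (.node (.node (.leaf 19048) (.leaf 0)) (.node (.leaf 10963) (.leaf 0))))) (.node (.node (.node (.node (.leaf 10412) (.leaf 11489)) (.node (.leaf 3316) (.leaf 0))) (.node (.node (.leaf 14852) (.leaf 0)) (.node (.leaf 5655) (.leaf 0)))) (.node (.node (.node (.leaf 19790) (.leaf 5681)) (.node (.leaf 12418) (.leaf 0))) (.node (.node (.leaf 7480) (.leaf 0)) (.node (.leaf 19738) (.leaf 0)))))) (.node (.node (.node (.node (.node (.leaf 6588) (.leaf 18409)) (.node (.leaf 4633) (.leaf 0))) (.node (.node (.leaf 6517) (.leaf 18894)) (.node (.leaf 8334) (.leaf 0)))) (.node (.node (.node (.leaf 15927) (.leaf 3820)) (.node (.leaf 17069) (.leaf 0))) (.node (.node (.leaf 18445) (.leaf 0)) (.node (.leaf 12961) (.leaf 0))))) (.node (.node (.node (.node (.leaf 3460) (.leaf 7618)) (.node (.leaf 9230) (.leaf 0))) (.node (.node (.leaf 10769) (.leaf 0)) (.node (.leaf 16329) (.leaf 0)))) (.node (.node (.node (.leaf 14724) (.leaf 15407)) (.node (.leaf 7445) (.leaf 0)))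 (.node (.node (.leaf 1519) (.leaf 0)) (.node (.leaf 15316) (.leaf 0)))))))) (.node (.node (.node (.node (.node (.node (.node (.leaf 12247) (.leaf 5062)) (.node (.leaf 13590) (.leaf 0))) (.node (.node (.leaf 15453) (.leaf 4455)) (.node (.leaf 1601) (.leaf 0)))) (.node (.node (.node (.leaf 13988) (.leaf 6282)) (.node (.leaf 17335) (.leaf 0))) (.node (.node (.leaf 4618) (.leaf 0)) (.node (.leaf 4421) (.leaf 0))))) (.node (.node (.node (.node (.leaf 7185) (.leaf 18093)) (.node (.leaf 1947) (.leaf 0))) (.node (.node (.leaf 3611) (.leaf 0)) (.node (.leaf 6226) (.leaf 0)))) (.node (.node (.node (.leaf 9544) (.leaf 19338)) (.node (.leaf 7599) (.leaf 0))) (.node (.node (.leaf 10553) (.leaf 0)) (.node (.leaf 3899) (.leaf 0)))))) (.node (.node (.node (.node (.node (.leaf 18149) (.leaf 1848)) (.node (.leaf 15471) (.leaf 0))) (.node (.node (.leaf 20763) (.leaf 10774)) (.node (.leaf 13221) (.leaf 0)))) (.node (.node (.node (.leaf 14299) (.leaf 8280)) (.node (.leaf 10846) (.leaf 0))) (.node (.node (.leaf 19225)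 (.leaf 0)) (.node (.leaf 6240) (.leaf 0))))) (.node (.node (.node (.node (.leaf 12899) (.leaf 9094)) (.node (.leaf 8815) (.leaf 0))) (.node (.node (.leaf 20649) (.leaf 0)) (.node (.leaf 3143) (.leaf 0)))) (.node (.node (.node (.leaf 13072) (.leaf 17637)) (.node (.leaf 296) (.leaf 0))) (.node (.node (.leaf 12711) (.leaf 0)) (.node (.leaf 19888) (.leaf 0))))))) (.node (.node (.node (.node (.node (.node (.leaf 11435) (.leaf 18089)) (.node (.leaf 13005) (.leaf 0))) (.node (.node (.leaf 6123) (.leaf 179)) (.node (.leaf 11934) (.leaf 0)))) (.node (.node (.node (.leaf 2634) (.leaf 21427)) (.node (.leaf 146) (.leaf 0))) (.node (.node (.leaf 2752) (.leaf 0)) (.node (.leaf 15315) (.leaf 0))))) (.node (.node (.node (.node (.leaf 20194) (.leaf 12001)) (.node (.leaf 9174) (.leaf 0))) (.node (.node (.leaf 12932) (.leaf 0)) (.node (.leaf 9231) (.leaf 0)))) (.node (.node (.node (.leaf 17755) (.leaf 15593)) (.node (.leaf 16975) (.leaf 0))) (.node (.node (.leaf 10697) (.leaf 0)) (.node (.leaf 20264) (.leaf 0))))))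 (.node (.node (.node (.node (.node (.leaf 7748) (.leaf 9303)) (.node (.leaf 20682) (.leaf 0))) (.node (.node (.leaf 17079) (.leaf 8524)) (.node (.leaf 12671) (.leaf 0)))) (.node (.node (.node (.leaf 16300) (.leaf 8598)) (.node (.leaf 17302) (.leaf 0))) (.node (.node (.leaf 12152) (.leaf 0)) (.node (.leaf 2179) (.leaf 0))))) (.node (.node (.node (.node (.leaf 15695) (.leaf 18278)) (.node (.leaf 12421) (.leaf 0))) (.node (.node (.leaf 6051) (.leaf 0)) (.node (.leaf 3355) (.leaf 0)))) (.node (.node (.node (.leaf 17931) (.leaf 15703)) (.node (.leaf 7045) (.leaf 0))) (.node (.node (.leaf 8192) (.leaf 0)) (.node (.leaf 15273) (.leaf 0)))))))))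

/-- part of a table -/
def ordK33 : Trie := (.node (.node (.node (.node (.node (.node (.node (.node (.leaf 9412) (.leaf 6319)) (.node (.leaf 5459) (.leaf 0))) (.node (.node (.leaf 11167) (.leaf 17670)) (.node (.leaf 20628) (.leaf 0)))) (.node (.node (.node (.leaf 8506) (.leaf 9788)) (.node (.leaf 4452) (.leaf 0))) (.node (.node (.leaf 10539) (.leaf 0)) (.node (.leaf 11325) (.leaf 0))))) (.node (.node (.node (.node (.leaf 16068) (.leaf 4770)) (.node (.leaf 4552) (.leaf 0))) (.node (.node (.leaf 6973) (.leaf 0)) (.node (.leaf 10438) (.leaf 0)))) (.node (.node (.node (.leaf 15516) (.leaf 15805)) (.node (.leaf 4353) (.leaf 0))) (.node (.node (.leaf 3745) (.leaf 0)) (.node (.leaf 10953) (.leaf 0)))))) (.node (.node (.node (.node (.node (.leaf 12547) (.leaf 16125)) (.node (.leaf 470) (.leaf 0))) (.node (.node (.leaf 20552) (.leaf 13773)) (.node (.leaf 9962) (.leaf 0)))) (.node (.node (.node (.leaf 20031) (.leaf 2349)) (.node (.leaf 1393) (.leaf 0))) (.node (.node (.leaf 6471) (.leaf 0)) (.node (.leaf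 8816) (.leaf 0))))) (.node (.node (.node (.node (.leaf 18377) (.leaf 3109)) (.node (.leaf 16181) (.leaf 0))) (.node (.node (.leaf 6176) (.leaf 0)) (.node (.leaf 18728) (.leaf 0)))) (.node (.node (.node (.leaf 2333) (.leaf 9776)) (.node (.leaf 11911) (.leaf 0))) (.node (.node (.leaf 17611) (.leaf 0)) (.node (.leaf 7884) (.leaf 0))))))) (.node (.node (.node (.node (.node (.node (.leaf 2700) (.leaf 20190)) (.node (.leaf 4916) (.leaf 0))) (.node (.node (.leaf 9921) (.leaf 8330)) (.node (.leaf 19805) (.leaf 0)))) (.node (.node (.node (.leaf 15089) (.leaf 8556)) (.node (.leaf 2636) (.leaf 0))) (.node (.node (.leaf 11480) (.leaf 0)) (.node (.leaf 4985) (.leaf 0))))) (.node (.node (.node (.node (.leaf 16536) (.leaf 1128)) (.node (.leaf 19248) (.leaf 0))) (.node (.node (.leaf 4171) (.leaf 0)) (.node (.leaf 6843) (.leaf 0)))) (.node (.node (.node (.leaf 17511) (.leaf 6344)) (.node (.leaf 20184) (.leaf 0))) (.node (.node (.leaf 21203) (.leaf 0)) (.node (.leaf 15139) (.leaf 0)))))) (.node (.node (.node (.node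 (.node (.leaf 8071) (.leaf 6327)) (.node (.leaf 2930) (.leaf 0))) (.node (.node (.leaf 19970) (.leaf 14087)) (.node (.leaf 1948) (.leaf 0)))) (.node (.node (.node (.leaf 12130) (.leaf 9797)) (.node (.leaf 2505) (.leaf 0))) (.node (.node (.leaf 662) (.leaf 0)) (.node (.leaf 18154) (.leaf 0))))) (.node (.node (.node (.node (.leaf 7855) (.leaf 13215)) (.node (.leaf 8740) (.leaf 0))) (.node (.node (.leaf 18170) (.leaf 0)) (.node (.leaf 13473) (.leaf 0)))) (.node (.node (.node (.leaf 6634) (.leaf 8675)) (.node (.leaf 14362) (.leaf 0))) (.node (.node (.leaf 13397) (.leaf 0)) (.node (.leaf 10624) (.leaf 0)))))))) (.node (.node (.node (.node (.node (.node (.node (.leaf 2402) (.leaf 21111)) (.node (.leaf 17317) (.leaf 0))) (.node (.node (.leaf 21375) (.leaf 15478)) (.node (.leaf 13082) (.leaf 0)))) (.node (.node (.node (.leaf 8151) (.leaf 8032)) (.node (.leaf 16) (.leaf 0))) (.node (.node (.leaf 19270) (.leaf 0)) (.node (.leaf 7834) (.leaf 0))))) (.node (.node (.node (.node (.leaf 17232) (.leaf 12734)) (.node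 (.leaf 20528) (.leaf 0))) (.node (.node (.leaf 14707) (.leaf 0)) (.node (.leaf 21135) (.leaf 0)))) (.node (.node (.node (.leaf 8214) (.leaf 5815)) (.node (.leaf 12473) (.leaf 0))) (.node (.node (.leaf 12443) (.leaf 0)) (.node (.leaf 10007) (.leaf 0)))))) (.node (.node (.node (.node (.node (.leaf 5608) (.leaf 17503)) (.node (.leaf 14208) (.leaf 0))) (.node (.node (.leaf 10691) (.leaf 2784)) (.node (.leaf 2964) (.leaf 0)))) (.node (.node (.node (.leaf 8634) (.leaf 15748)) (.node (.leaf 3870) (.leaf 0))) (.node (.node (.leaf 4868) (.leaf 0)) (.node (.leaf 15091) (.leaf 0))))) (.node (.node (.node (.node (.leaf 4038) (.leaf 6660)) (.node (.leaf 6942) (.leaf 0))) (.node (.node (.leaf 6486) (.leaf 0)) (.node (.leaf 16996) (.leaf 0)))) (.node (.node (.node (.leaf 17475) (.leaf 2811)) (.node (.leaf 16105) (.leaf 0))) (.node (.node (.leaf 20278) (.leaf 0)) (.node (.leaf 8696) (.leaf 0))))))) (.node (.node (.node (.node (.node (.node (.leaf 13145) (.leaf 5934)) (.node (.leaf 13153) (.leaf 0))) (.node (.node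 (.leaf 16495) (.leaf 8396)) (.node (.leaf 16340) (.leaf 0)))) (.node (.node (.node (.leaf 8554) (.leaf 13559)) (.node (.leaf 4352) (.leaf 0))) (.node (.node (.leaf 20177) (.leaf 0)) (.node (.leaf 10584) (.leaf 0))))) (.node (.node (.node (.node (.leaf 12290) (.leaf 1638)) (.node (.leaf 20136) (.leaf 0))) (.node (.node (.leaf 15437) (.leaf 0)) (.node (.leaf 2931) (.leaf 0)))) (.node (.node (.node (.leaf 919) (.leaf 19625)) (.node (.leaf 3) (.leaf 0))) (.node (.node (.leaf 16061) (.leaf 0)) (.node (.leaf 20245) (.leaf 0)))))) (.node (.node (.node (.node (.node (.leaf 12769) (.leaf 941)) (.node (.leaf 6328) (.leaf 0))) (.node (.node (.leaf 11510) (.leaf 19971)) (.node (.leaf 12241) (.leaf 0)))) (.node (.node (.node (.leaf 19019) (.leaf 4591)) (.node (.leaf 3942) (.leaf 0))) (.node (.node (.leaf 7478) (.leaf 0)) (.node (.leaf 13264) (.leaf 0))))) (.node (.node (.node (.node (.leaf 19981) (.leaf 8918)) (.node (.leaf 1348) (.leaf 0))) (.node (.node (.leaf 7002) (.leaf 0)) (.node (.leaf 784) (.leaf 0))))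 (.node (.node (.node (.leaf 11974) (.leaf 11520)) (.node (.leaf 11704) (.leaf 0))) (.node (.node (.leaf 3489) (.leaf 0)) (.node (.leaf 5892) (.leaf 0)))))))))

/-- part of a table -/
def ordK34 : Trie := (.node (.node (.node (.node (.node (.node (.node (.node (.leaf 18082) (.leaf 17853)) (.node (.leaf 5270) (.leaf 0))) (.node (.node (.leaf 13255) (.leaf 13778)) (.node (.leaf 10944) (.leaf 0)))) (.node (.node (.node (.leaf 12284) (.leaf 8338)) (.node (.leaf 10822) (.leaf 0))) (.node (.node (.leaf 6227) (.leaf 0)) (.node (.leaf 12218) (.leaf 0))))) (.node (.node (.node (.node (.leaf 12970) (.leaf 14297)) (.node (.leaf 14923) (.leaf 0))) (.node (.node (.leaf 18275) (.leaf 0)) (.node (.leaf 2162) (.leaf 0)))) (.node (.node (.node (.leaf 1931) (.leaf 14115)) (.node (.leaf 8466) (.leaf 0))) (.node (.node (.leaf 10683) (.leaf 0)) (.node (.leaf 17612) (.leaf 0)))))) (.node (.node (.node (.node (.node (.leaf 15697) (.leaf 12771)) (.node (.leaf 2082) (.leaf 0))) (.node (.node (.leaf 8052) (.leaf 18272)) (.node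 (.leaf 19272) (.leaf 0)))) (.node (.node (.node (.leaf 9123) (.leaf 5864)) (.node (.leaf 9662) (.leaf 0))) (.node (.node (.leaf 11701) (.leaf 0)) (.node (.leaf 3780) (.leaf 0))))) (.node (.node (.node (.node (.leaf 2746) (.leaf 6566)) (.node (.leaf 9940) (.leaf 0))) (.node (.node (.leaf 17235) (.leaf 0)) (.node (.leaf 18504) (.leaf 0)))) (.node (.node (.node (.leaf 14239) (.leaf 8849)) (.node (.leaf 17327) (.leaf 0))) (.node (.node (.leaf 1391) (.leaf 0)) (.node (.leaf 2638) (.leaf 0))))))) (.node (.node (.node (.node (.node (.node (.leaf 2912) (.leaf 6255)) (.node (.leaf 21327) (.leaf 0))) (.node (.node (.leaf 5983) (.leaf 14037)) (.node (.leaf 2963) (.leaf 0)))) (.node (.node (.node (.leaf 5916) (.leaf 10918)) (.node (.leaf 1498) (.leaf 0))) (.node (.node (.leaf 11853) (.leaf 0)) (.node (.leaf 13405) (.leaf 0))))) (.node (.node (.node (.node (.leaf 6749) (.leaf 6421)) (.node (.leaf 8174) (.leaf 0))) (.node (.node (.leaf 7387) (.leaf 0)) (.node (.leaf 1517) (.leaf 0)))) (.node (.node (.node (.leaf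 12497) (.leaf 6094)) (.node (.leaf 14520) (.leaf 0))) (.node (.node (.leaf 21126) (.leaf 0)) (.node (.leaf 5954) (.leaf 0)))))) (.node (.node (.node (.node (.node (.leaf 5122) (.leaf 2250)) (.node (.leaf 15019) (.leaf 0))) (.node (.node (.leaf 20383) (.leaf 20579)) (.node (.leaf 19429) (.leaf 0)))) (.node (.node (.node (.leaf 11298) (.leaf 12758)) (.node (.leaf 14418) (.leaf 0))) (.node (.node (.leaf 14609) (.leaf 0)) (.node (.leaf 15751) (.leaf 0))))) (.node (.node (.node (.node (.leaf 6654) (.leaf 5508)) (.node (.leaf 10019) (.leaf 0))) (.node (.node (.leaf 16294) (.leaf 0)) (.node (.leaf 17620) (.leaf 0)))) (.node (.node (.node (.leaf 18049) (.leaf 20610)) (.node (.leaf 3175) (.leaf 0))) (.node (.node (.leaf 9482) (.leaf 0)) (.node (.leaf 18737) (.leaf 0)))))))) (.node (.node (.node (.node (.node (.node (.node (.leaf 395) (.leaf 1411)) (.node (.leaf 3962) (.leaf 0))) (.node (.node (.leaf 12494) (.leaf 1840)) (.node (.leaf 6828) (.leaf 0)))) (.node (.node (.node (.leaf 6024) (.leaf 10710)) (.node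 (.leaf 18494) (.leaf 0))) (.node (.node (.leaf 5421) (.leaf 0)) (.node (.leaf 20458) (.leaf 0))))) (.node (.node (.node (.node (.leaf 18827) (.leaf 20095)) (.node (.leaf 852) (.leaf 0))) (.node (.node (.leaf 17112) (.leaf 0)) (.node (.leaf 19669) (.leaf 0)))) (.node (.node (.node (.leaf 15404) (.leaf 20986)) (.node (.leaf 7364) (.leaf 0))) (.node (.node (.leaf 21007) (.leaf 0)) (.node (.leaf 1050) (.leaf 0)))))) (.node (.node (.node (.node (.node (.leaf 10969) (.leaf 657)) (.node (.leaf 6237) (.leaf 0))) (.node (.node (.leaf 15630) (.leaf 7268)) (.node (.leaf 18050) (.leaf 0)))) (.node (.node (.node (.leaf 9250) (.leaf 13206)) (.node (.leaf 10739) (.leaf 0))) (.node (.node (.leaf 7093) (.leaf 0)) (.node (.leaf 12896) (.leaf 0))))) (.node (.node (.node (.node (.leaf 10520) (.leaf 13893)) (.node (.leaf 10677) (.leaf 0))) (.node (.node (.leaf 20990) (.leaf 0)) (.node (.leaf 564) (.leaf 0)))) (.node (.node (.node (.leaf 9891) (.leaf 15536)) (.node (.leaf 18061) (.leaf 0))) (.node (.node (.leaf 3434)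 (.leaf 0)) (.node (.leaf 14279) (.leaf 0))))))) (.node (.node (.node (.node (.node (.node (.leaf 9197) (.leaf 6943)) (.node (.leaf 10049) (.leaf 0))) (.node (.node (.leaf 5383) (.leaf 13106)) (.node (.leaf 4346) (.leaf 0)))) (.node (.node (.node (.leaf 18166) (.leaf 5563)) (.node (.leaf 8947) (.leaf 0))) (.node (.node (.leaf 18224) (.leaf 0)) (.node (.leaf 21254) (.leaf 0))))) (.node (.node (.node (.node (.leaf 11916) (.leaf 5975)) (.node (.leaf 5676) (.leaf 0))) (.node (.node (.leaf 18586) (.leaf 0)) (.node (.leaf 19497) (.leaf 0)))) (.node (.node (.node (.leaf 1645) (.leaf 1172)) (.node (.leaf 7745) (.leaf 0))) (.node (.node (.leaf 16344) (.leaf 0)) (.node (.leaf 15179) (.leaf 0)))))) (.node (.node (.node (.node (.node (.leaf 3795) (.leaf 6956)) (.node (.leaf 16671) (.leaf 0))) (.node (.node (.leaf 6682) (.leaf 18432)) (.node (.leaf 3998) (.leaf 0)))) (.node (.node (.node (.leaf 3676) (.leaf 8589)) (.node (.leaf 5163) (.leaf 0))) (.node (.node (.leaf 5136) (.leaf 0)) (.node (.leaf 9704) (.leaf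 0))))) (.node (.node (.node (.node (.leaf 3485) (.leaf 18733)) (.node (.leaf 7979) (.leaf 0))) (.node (.node (.leaf 3574) (.leaf 0)) (.node (.leaf 8381) (.leaf 0)))) (.node (.node (.node (.leaf 16177) (.leaf 20674)) (.node (.leaf 21043) (.leaf 0))) (.node (.node (.leaf 4313) (.leaf 0)) (.node (.leaf 4927) (.leaf 0)))))))))

/-- part of a table -/
def ordK35 : Trie := (.node (.node (.node (.node (.node (.node (.node (.node (.leaf 1165) (.leaf 11236)) (.node (.leaf 14049) (.leaf 0))) (.node (.node (.leaf 4768) (.leaf 15767)) (.node (.leaf 14138) (.leaf 0)))) (.node (.node (.node (.leaf 19060) (.leaf 5668)) (.node (.leaf 3661) (.leaf 0))) (.node (.node (.leaf 10135) (.leaf 0)) (.node (.leaf 4501) (.leaf 0))))) (.node (.node (.node (.node (.leaf 8957) (.leaf 12432)) (.node (.leaf 17855) (.leaf 0))) (.node (.node (.leaf 10970) (.leaf 0)) (.node (.leaf 3472) (.leaf 0)))) (.node (.node (.node (.leaf 12599) (.leaf 4379)) (.node (.leaf 3041) (.leaf 0))) (.node (.node (.leaf 18751) (.leaf 0)) (.node (.leaf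 11699) (.leaf 0)))))) (.node (.node (.node (.node (.node (.leaf 20706) (.leaf 10648)) (.node (.leaf 2614) (.leaf 0))) (.node (.node (.leaf 19569) (.leaf 1038)) (.node (.leaf 15204) (.leaf 0)))) (.node (.node (.node (.leaf 6037) (.leaf 9172)) (.node (.leaf 17720) (.leaf 0))) (.node (.node (.leaf 2274) (.leaf 0)) (.node (.leaf 1325) (.leaf 0))))) (.node (.node (.node (.node (.leaf 9582) (.leaf 18106)) (.node (.leaf 7665) (.leaf 0))) (.node (.node (.leaf 9379) (.leaf 0)) (.node (.leaf 6697) (.leaf 0)))) (.node (.node (.node (.leaf 4697) (.leaf 15682)) (.node (.leaf 18071) (.leaf 0))) (.node (.node (.leaf 488) (.leaf 0)) (.node (.leaf 2068) (.leaf 0))))))) (.node (.node (.node (.node (.node (.node (.leaf 16889) (.leaf 17763)) (.node (.leaf 15489) (.leaf 0))) (.node (.node (.leaf 7682) (.leaf 5653)) (.node (.leaf 14493) (.leaf 0)))) (.node (.node (.node (.leaf 20842) (.leaf 14492)) (.node (.leaf 6712) (.leaf 0))) (.node (.node (.leaf 11048) (.leaf 0)) (.node (.leaf 3287) (.leaf 0))))) (.node (.node (.node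 (.node (.leaf 15274) (.leaf 20364)) (.node (.leaf 20690) (.leaf 0))) (.node (.node (.leaf 12480) (.leaf 0)) (.node (.leaf 3893) (.leaf 0)))) (.node (.node (.node (.leaf 11920) (.leaf 19915)) (.node (.leaf 21371) (.leaf 0))) (.node (.node (.leaf 9531) (.leaf 0)) (.node (.leaf 17367) (.leaf 0)))))) (.node (.node (.node (.node (.node (.leaf 1995) (.leaf 17392)) (.node (.leaf 10087) (.leaf 0))) (.node (.node (.leaf 6426) (.leaf 7628)) (.node (.leaf 9754) (.leaf 0)))) (.node (.node (.node (.leaf 559) (.leaf 7173)) (.node (.leaf 9239) (.leaf 0))) (.node (.node (.leaf 16644) (.leaf 0)) (.node (.leaf 2314) (.leaf 0))))) (.node (.node (.node (.node (.leaf 11760) (.leaf 13437)) (.node (.leaf 19237) (.leaf 0))) (.node (.node (.leaf 20483) (.leaf 0)) (.node (.leaf 1272) (.leaf 0)))) (.node (.node (.node (.leaf 6941) (.leaf 2753)) (.node (.leaf 12068) (.leaf 0))) (.node (.node (.leaf 10871) (.leaf 0)) (.node (.leaf 2470) (.leaf 0)))))))) (.node (.node (.node (.node (.node (.node (.node (.leaf 16500) (.leaf 19452))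 (.node (.leaf 19025) (.leaf 0))) (.node (.node (.leaf 16192) (.leaf 19264)) (.node (.leaf 8228) (.leaf 0)))) (.node (.node (.node (.leaf 14916) (.leaf 9751)) (.node (.leaf 16803) (.leaf 0))) (.node (.node (.leaf 11276) (.leaf 0)) (.node (.leaf 6334) (.leaf 0))))) (.node (.node (.node (.node (.leaf 11057) (.leaf 354)) (.node (.leaf 16519) (.leaf 0))) (.node (.node (.leaf 21193) (.leaf 0)) (.node (.leaf 6183) (.leaf 0)))) (.node (.node (.node (.leaf 5715) (.leaf 3279)) (.node (.leaf 11845) (.leaf 0))) (.node (.node (.leaf 19857) (.leaf 0)) (.node (.leaf 13496) (.leaf 0)))))) (.node (.node (.node (.node (.node (.leaf 16606) (.leaf 7956)) (.node (.leaf 10164) (.leaf 0))) (.node (.node (.leaf 20562) (.leaf 7348)) (.node (.leaf 19256) (.leaf 0)))) (.node (.node (.node (.leaf 19758) (.leaf 19057)) (.node (.leaf 20241) (.leaf 0))) (.node (.node (.leaf 19733) (.leaf 0)) (.node (.leaf 9855) (.leaf 0))))) (.node (.node (.node (.node (.leaf 11358) (.leaf 690)) (.node (.leaf 18088) (.leaf 0))) (.node (.node (.leaf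 19539) (.leaf 0)) (.node (.leaf 6819) (.leaf 0)))) (.node (.node (.node (.leaf 11044) (.leaf 15359)) (.node (.leaf 6760) (.leaf 0))) (.node (.node (.leaf 17402) (.leaf 0)) (.node (.leaf 298) (.leaf 0))))))) (.node (.node (.node (.node (.node (.node (.leaf 20498) (.leaf 19090)) (.node (.leaf 13510) (.leaf 0))) (.node (.node (.leaf 13968) (.leaf 15950)) (.node (.leaf 14961) (.leaf 0)))) (.node (.node (.node (.leaf 15069) (.leaf 8688)) (.node (.leaf 16446) (.leaf 0))) (.node (.node (.leaf 11317) (.leaf 0)) (.node (.leaf 16012) (.leaf 0))))) (.node (.node (.node (.node (.leaf 8250) (.leaf 7617)) (.node (.leaf 2390) (.leaf 0))) (.node (.node (.leaf 3976) (.leaf 0)) (.node (.leaf 3619) (.leaf 0)))) (.node (.node (.node (.leaf 4162) (.leaf 10773)) (.node (.leaf 19082) (.leaf 0))) (.node (.node (.leaf 5101) (.leaf 0)) (.node (.leaf 9738) (.leaf 0)))))) (.node (.node (.node (.node (.node (.leaf 1316) (.leaf 16244)) (.node (.leaf 5804) (.leaf 0))) (.node (.node (.leaf 8083) (.leaf 7662)) (.node (.leaf 1443)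 (.leaf 0)))) (.node (.node (.node (.leaf 16675) (.leaf 20960)) (.node (.leaf 12834) (.leaf 0))) (.node (.node (.leaf 20415) (.leaf 0)) (.node (.leaf 14657) (.leaf 0))))) (.node (.node (.node (.node (.leaf 11037) (.leaf 11501)) (.node (.leaf 8682) (.leaf 0))) (.node (.node (.leaf 19853) (.leaf 0)) (.node (.leaf 14620) (.leaf 0)))) (.node (.node (.node (.leaf 16641) (.leaf 9717)) (.node (.leaf 6865) (.leaf 0))) (.node (.node (.leaf 18169) (.leaf 0)) (.node (.leaf 9090) (.leaf 0)))))))))

/-- part of a table -/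
def ordK36 : Trie := (.node (.node (.node (.node (.node (.node (.node (.node (.leaf 19596) (.leaf 7727)) (.node (.leaf 1462) (.leaf 0))) (.node (.node (.leaf 6759) (.leaf 19361)) (.node (.leaf 13492) (.leaf 0)))) (.node (.node (.node (.leaf 18434) (.leaf 19073)) (.node (.leaf 2355) (.leaf 0))) (.node (.node (.leaf 16486) (.leaf 0)) (.node (.leaf 4303) (.leaf 0))))) (.node (.node (.node (.node (.leaf 19109) (.leaf 9121)) (.node (.leaf 14525) (.leaf 0))) (.node (.node (.leaf 14564) (.leaf 0)) (.node (.leaf 7382) (.leaf 0)))) (.node (.node (.node (.leaf 5399) (.leaf 20605)) (.node (.leaf 3950) (.leaf 0))) (.node (.node (.leaf 20005) (.leaf 0)) (.node (.leaf 8245) (.leaf 0)))))) (.node (.node (.node (.node (.node (.leaf 5252) (.leaf 19478)) (.node (.leaf 20304) (.leaf 0))) (.node (.node (.leaf 3732) (.leaf 8155)) (.node (.leaf 21356) (.leaf 0)))) (.node (.node (.node (.leaf 2052) (.leaf 12992)) (.node (.leaf 5720) (.leaf 0))) (.node (.node (.leaf 10486) (.leaf 0)) (.node (.leaf 955) (.leaf 0))))) (.node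 (.node (.node (.node (.leaf 2083) (.leaf 10355)) (.node (.leaf 3314) (.leaf 0))) (.node (.node (.leaf 20546) (.leaf 0)) (.node (.leaf 13455) (.leaf 0)))) (.node (.node (.node (.leaf 1585) (.leaf 21107)) (.node (.leaf 17838) (.leaf 0))) (.node (.node (.leaf 8782) (.leaf 0)) (.node (.leaf 16962) (.leaf 0))))))) (.node (.node (.node (.node (.node (.node (.leaf 13199) (.leaf 13970)) (.node (.leaf 15113) (.leaf 0))) (.node (.node (.leaf 16065) (.leaf 19078)) (.node (.leaf 8535) (.leaf 0)))) (.node (.node (.node (.leaf 19300) (.leaf 6979)) (.node (.leaf 441) (.leaf 0))) (.node (.node (.leaf 16621) (.leaf 0)) (.node (.leaf 19385) (.leaf 0))))) (.node (.node (.node (.node (.leaf 14984) (.leaf 15906)) (.node (.leaf 19381) (.leaf 0))) (.node (.node (.leaf 2012) (.leaf 0)) (.node (.leaf 15584) (.leaf 0)))) (.node (.node (.node (.leaf 12249) (.leaf 17916)) (.node (.leaf 9964) (.leaf 0))) (.node (.node (.leaf 20140) (.leaf 0)) (.node (.leaf 12293) (.leaf 0)))))) (.node (.node (.node (.node (.node (.leaf 6699)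 (.leaf 8992)) (.node (.leaf 13463) (.leaf 0))) (.node (.node (.leaf 12158) (.leaf 13632)) (.node (.leaf 1880) (.leaf 0)))) (.node (.node (.node (.leaf 19243) (.leaf 1428)) (.node (.leaf 4855) (.leaf 0))) (.node (.node (.leaf 5638) (.leaf 0)) (.node (.leaf 20788) (.leaf 0))))) (.node (.node (.node (.node (.leaf 11453) (.leaf 1640)) (.node (.leaf 8423) (.leaf 0))) (.node (.node (.leaf 862) (.leaf 0)) (.node (.leaf 14989) (.leaf 0)))) (.node (.node (.node (.leaf 8814) (.leaf 17859)) (.node (.leaf 9418) (.leaf 0))) (.node (.node (.leaf 275) (.leaf 0)) (.node (.leaf 12814) (.leaf 0)))))))) (.node (.node (.node (.node (.node (.node (.node (.leaf 1554) (.leaf 17765)) (.node (.leaf 13177) (.leaf 0))) (.node (.node (.leaf 17966) (.leaf 11165)) (.node (.leaf 6303) (.leaf 0)))) (.node (.node (.node (.leaf 11375) (.leaf 6357)) (.node (.leaf 3890) (.leaf 0))) (.node (.node (.leaf 11470) (.leaf 0)) (.node (.leaf 10104) (.leaf 0))))) (.node (.node (.node (.node (.leaf 3361) (.leaf 13846)) (.node (.leaf 12286) (.leaf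 0))) (.node (.node (.leaf 15195) (.leaf 0)) (.node (.leaf 20677) (.leaf 0)))) (.node (.node (.node (.leaf 17572) (.leaf 16283)) (.node (.leaf 7972) (.leaf 0))) (.node (.node (.leaf 11254) (.leaf 0)) (.node (.leaf 15339) (.leaf 0)))))) (.node (.node (.node (.node (.node (.leaf 6392) (.leaf 14346)) (.node (.leaf 16388) (.leaf 0))) (.node (.node (.leaf 11334) (.leaf 5981)) (.node (.leaf 11451) (.leaf 0)))) (.node (.node (.node (.leaf 14694) (.leaf 6293)) (.node (.leaf 16952) (.leaf 0))) (.node (.node (.leaf 12620) (.leaf 0)) (.node (.leaf 8088) (.leaf 0))))) (.node (.node (.node (.node (.leaf 452) (.leaf 8552)) (.node (.leaf 12829) (.leaf 0))) (.node (.node (.leaf 1534) (.leaf 0)) (.node (.leaf 10735) (.leaf 0)))) (.node (.node (.node (.leaf 20804) (.leaf 11598)) (.node (.leaf 1869) (.leaf 0))) (.node (.node (.leaf 20921) (.leaf 0)) (.node (.leaf 19260) (.leaf 0))))))) (.node (.node (.node (.node (.node (.node (.leaf 4584) (.leaf 14437)) (.node (.leaf 18829) (.leaf 0))) (.node (.node (.leaf 15101) (.leaf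 17158)) (.node (.leaf 12450) (.leaf 0)))) (.node (.node (.node (.leaf 8588) (.leaf 4255)) (.node (.leaf 860) (.leaf 0))) (.node (.node (.leaf 8674) (.leaf 0)) (.node (.leaf 9051) (.leaf 0))))) (.node (.node (.node (.node (.leaf 7065) (.leaf 15660)) (.node (.leaf 6448) (.leaf 0))) (.node (.node (.leaf 7765) (.leaf 0)) (.node (.leaf 14145) (.leaf 0)))) (.node (.node (.node (.leaf 10767) (.leaf 13765)) (.node (.leaf 5477) (.leaf 0))) (.node (.node (.leaf 19885) (.leaf 0)) (.node (.leaf 1608) (.leaf 0)))))) (.node (.node (.node (.node (.node (.leaf 7477) (.leaf 20615)) (.node (.leaf 4416) (.leaf 0))) (.node (.node (.leaf 17051) (.leaf 1064)) (.node (.leaf 12562) (.leaf 0)))) (.node (.node (.node (.leaf 7953) (.leaf 18480)) (.node (.leaf 6261) (.leaf 0))) (.node (.node (.leaf 12673) (.leaf 0)) (.node (.leaf 12803) (.leaf 0))))) (.node (.node (.node (.node (.leaf 14070) (.leaf 17876)) (.node (.leaf 18392) (.leaf 0))) (.node (.node (.leaf 12427) (.leaf 0)) (.node (.leaf 16712) (.leaf 0)))) (.node (.node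 (.node (.leaf 11732) (.leaf 11837)) (.node (.leaf 15300) (.leaf 0))) (.node (.node (.leaf 5151) (.leaf 0)) (.node (.leaf 14744) (.leaf 0)))))))))

/-- part of a table -/
def ordK37 : Trie := (.node (.node (.node (.node (.node (.node (.node (.node (.leaf 13566) (.leaf 8031)) (.node (.leaf 4460) (.leaf 0))) (.node (.node (.leaf 3074) (.leaf 9777)) (.node (.leaf 10413) (.leaf 0)))) (.node (.node (.node (.leaf 13638) (.leaf 4118)) (.node (.leaf 4002) (.leaf 0))) (.node (.node (.leaf 21483) (.leaf 0)) (.node (.leaf 12499) (.leaf 0))))) (.node (.node (.node (.node (.leaf 18052) (.leaf 9916)) (.node (.leaf 8558) (.leaf 0))) (.node (.node (.leaf 16871) (.leaf 0)) (.node (.leaf 21259) (.leaf 0)))) (.node (.node (.node (.leaf 8144) (.leaf 3933)) (.node (.leaf 14109) (.leaf 0))) (.node (.node (.leaf 15282) (.leaf 0)) (.node (.leaf 1926) (.leaf 0)))))) (.node (.node (.node (.node (.node (.leaf 18338) (.leaf 18212)) (.node (.leaf 9543) (.leaf 0))) (.node (.node (.leaf 19484) (.leaf 4114)) (.node (.leaf 6971)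 (.leaf 0)))) (.node (.node (.node (.leaf 15039) (.leaf 8427)) (.node (.leaf 5526) (.leaf 0))) (.node (.node (.leaf 13448) (.leaf 0)) (.node (.leaf 6236) (.leaf 0))))) (.node (.node (.node (.node (.leaf 16201) (.leaf 19304)) (.node (.leaf 9691) (.leaf 0))) (.node (.node (.leaf 20922) (.leaf 0)) (.node (.leaf 6997) (.leaf 0)))) (.node (.node (.node (.leaf 7710) (.leaf 10170)) (.node (.leaf 2932) (.leaf 0))) (.node (.node (.leaf 7712) (.leaf 0)) (.node (.leaf 8662) (.leaf 0))))))) (.node (.node (.node (.node (.node (.node (.leaf 495) (.leaf 5462)) (.node (.leaf 16089) (.leaf 0))) (.node (.node (.leaf 2947) (.leaf 6646)) (.node (.leaf 19282) (.leaf 0)))) (.node (.node (.node (.leaf 10284) (.leaf 11562)) (.node (.leaf 4632) (.leaf 0))) (.node (.node (.leaf 18502) (.leaf 0)) (.node (.leaf 5966) (.leaf 0))))) (.node (.node (.node (.node (.leaf 4883) (.leaf 20113)) (.node (.leaf 3907) (.leaf 0))) (.node (.node (.leaf 10895) (.leaf 0)) (.node (.leaf 19635) (.leaf 0)))) (.node (.node (.node (.leaf 18510) (.leaf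 20564)) (.node (.leaf 6816) (.leaf 0))) (.node (.node (.leaf 2070) (.leaf 0)) (.node (.leaf 11594) (.leaf 0)))))) (.node (.node (.node (.node (.node (.leaf 2969) (.leaf 770)) (.node (.leaf 14001) (.leaf 0))) (.node (.node (.leaf 21115) (.leaf 7909)) (.node (.leaf 19636) (.leaf 0)))) (.node (.node (.node (.leaf 4905) (.leaf 416)) (.node (.leaf 4519) (.leaf 0))) (.node (.node (.leaf 18389) (.leaf 0)) (.node (.leaf 19703) (.leaf 0))))) (.node (.node (.node (.node (.leaf 6315) (.leaf 20518)) (.node (.leaf 10658) (.leaf 0))) (.node (.node (.leaf 8015) (.leaf 0)) (.node (.leaf 15061) (.leaf 0)))) (.node (.node (.node (.leaf 946) (.leaf 17823)) (.node (.leaf 698) (.leaf 0))) (.node (.node (.leaf 18497) (.leaf 0)) (.node (.leaf 13994) (.leaf 0)))))))) (.node (.node (.node (.node (.node (.node (.node (.leaf 4503) (.leaf 4683)) (.node (.leaf 18217) (.leaf 0))) (.node (.node (.leaf 4111) (.leaf 1139)) (.node (.leaf 13230) (.leaf 0)))) (.node (.node (.node (.leaf 11090) (.leaf 7378)) (.node (.leaf 13570) (.leaf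 0))) (.node (.node (.leaf 18261) (.leaf 0)) (.node (.leaf 11948) (.leaf 0))))) (.node (.node (.node (.node (.leaf 15247) (.leaf 5796)) (.node (.leaf 6513) (.leaf 0))) (.node (.node (.leaf 19701) (.leaf 0)) (.node (.leaf 18600) (.leaf 0)))) (.node (.node (.node (.leaf 4222) (.leaf 12167)) (.node (.leaf 6568) (.leaf 0))) (.node (.node (.leaf 21486) (.leaf 0)) (.node (.leaf 4102) (.leaf 0)))))) (.node (.node (.node (.node (.node (.leaf 3260) (.leaf 15481)) (.node (.leaf 2884) (.leaf 0))) (.node (.node (.leaf 2159) (.leaf 783)) (.node (.leaf 13512) (.leaf 0)))) (.node (.node (.node (.leaf 10406) (.leaf 19556)) (.node (.leaf 11796) (.leaf 0))) (.node (.node (.leaf 2319) (.leaf 0)) (.node (.leaf 19825) (.leaf 0))))) (.node (.node (.node (.node (.leaf 1379) (.leaf 16630)) (.node (.leaf 5507) (.leaf 0))) (.node (.node (.leaf 5251) (.leaf 0)) (.node (.leaf 10572) (.leaf 0)))) (.node (.node (.node (.leaf 10224) (.leaf 4954)) (.node (.leaf 8772) (.leaf 0))) (.node (.node (.leaf 18314) (.leaf 0)) (.node (.leaf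 10333) (.leaf 0))))))) (.node (.node (.node (.node (.node (.node (.leaf 20243) (.leaf 5749)) (.node (.leaf 927) (.leaf 0))) (.node (.node (.leaf 503) (.leaf 13117)) (.node (.leaf 4787) (.leaf 0)))) (.node (.node (.node (.leaf 4505) (.leaf 20742)) (.node (.leaf 3126) (.leaf 0))) (.node (.node (.leaf 3193) (.leaf 0)) (.node (.leaf 6166) (.leaf 0))))) (.node (.node (.node (.node (.leaf 10421) (.leaf 9485)) (.node (.leaf 542) (.leaf 0))) (.node (.node (.leaf 3418) (.leaf 0)) (.node (.leaf 12703) (.leaf 0)))) (.node (.node (.node (.leaf 16579) (.leaf 7739)) (.node (.leaf 16235) (.leaf 0))) (.node (.node (.leaf 3539) (.leaf 0)) (.node (.leaf 12300) (.leaf 0)))))) (.node (.node (.node (.node (.node (.leaf 760) (.leaf 6111)) (.node (.leaf 16844) (.leaf 0))) (.node (.node (.leaf 11226) (.leaf 6501)) (.node (.leaf 2983) (.leaf 0)))) (.node (.node (.node (.leaf 8027) (.leaf 15535)) (.node (.leaf 4655) (.leaf 0))) (.node (.node (.leaf 3796) (.leaf 0)) (.node (.leaf 20646) (.leaf 0))))) (.node (.node (.node (.node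 (.leaf 15209) (.leaf 15633)) (.node (.leaf 2742) (.leaf 0))) (.node (.node (.leaf 18376) (.leaf 0)) (.node (.leaf 7685) (.leaf 0)))) (.node (.node (.node (.leaf 5635) (.leaf 1944)) (.node (.leaf 4782) (.leaf 0))) (.node (.node (.leaf 1647) (.leaf 0)) (.node (.leaf 14226) (.leaf 0)))))))))

/-- part of a table -/
def ordK38 : Trie := (.node (.node (.node (.node (.node (.node (.node (.node (.leaf 19715) (.leaf 2005)) (.node (.leaf 19008) (.leaf 0))) (.node (.node (.leaf 15568) (.leaf 11824)) (.node (.leaf 16136) (.leaf 0)))) (.node (.node (.node (.leaf 18486) (.leaf 15312)) (.node (.leaf 7396) (.leaf 0))) (.node (.node (.leaf 10404) (.leaf 0)) (.node (.leaf 8835) (.leaf 0))))) (.node (.node (.node (.node (.leaf 4548) (.leaf 11536)) (.node (.leaf 12546) (.leaf 0))) (.node (.node (.leaf 15170) (.leaf 0)) (.node (.leaf 7155) (.leaf 0)))) (.node (.node (.node (.leaf 21274) (.leaf 18587)) (.node (.leaf 9059) (.leaf 0))) (.node (.node (.leaf 18332) (.leaf 0)) (.node (.leaf 1792) (.leaf 0)))))) (.node (.node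 (.node (.node (.node (.leaf 14924) (.leaf 10066)) (.node (.leaf 3308) (.leaf 0))) (.node (.node (.leaf 15847) (.leaf 12617)) (.node (.leaf 12824) (.leaf 0)))) (.node (.node (.node (.leaf 1122) (.leaf 13830)) (.node (.leaf 13604) (.leaf 0))) (.node (.node (.leaf 9255) (.leaf 0)) (.node (.leaf 8230) (.leaf 0))))) (.node (.node (.node (.node (.leaf 17856) (.leaf 749)) (.node (.leaf 16095) (.leaf 0))) (.node (.node (.leaf 9974) (.leaf 0)) (.node (.leaf 14220) (.leaf 0)))) (.node (.node (.node (.leaf 9270) (.leaf 19103)) (.node (.leaf 16737) (.leaf 0))) (.node (.node (.leaf 14706) (.leaf 0)) (.node (.leaf 15861) (.leaf 0))))))) (.node (.node (.node (.node (.node (.node (.leaf 11833) (.leaf 1245)) (.node (.leaf 16342) (.leaf 0))) (.node (.node (.leaf 20516) (.leaf 19650)) (.node (.leaf 6860) (.leaf 0)))) (.node (.node (.node (.leaf 19515) (.leaf 3101)) (.node (.leaf 11117) (.leaf 0))) (.node (.node (.leaf 634) (.leaf 0)) (.node (.leaf 21357) (.leaf 0))))) (.node (.node (.node (.node (.leaf 9505) (.leaf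 279)) (.node (.leaf 7667) (.leaf 0))) (.node (.node (.leaf 16417) (.leaf 0)) (.node (.leaf 10484) (.leaf 0)))) (.node (.node (.node (.leaf 5236) (.leaf 15675)) (.node (.leaf 15205) (.leaf 0))) (.node (.node (.leaf 1600) (.leaf 0)) (.node (.leaf 18864) (.leaf 0)))))) (.node (.node (.node (.node (.node (.leaf 10165) (.leaf 19158)) (.node (.leaf 1) (.leaf 0))) (.node (.node (.leaf 16973) (.leaf 11081)) (.node (.leaf 17724) (.leaf 0)))) (.node (.node (.node (.leaf 15075) (.leaf 15199)) (.node (.leaf 1314) (.leaf 0))) (.node (.node (.leaf 11735) (.leaf 0)) (.node (.leaf 8706) (.leaf 0))))) (.node (.node (.node (.node (.leaf 11082) (.leaf 19319)) (.node (.leaf 7566) (.leaf 0))) (.node (.node (.leaf 18562) (.leaf 0)) (.node (.leaf 19151) (.leaf 0)))) (.node (.node (.node (.leaf 18087) (.leaf 9119)) (.node (.leaf 1571) (.leaf 0))) (.node (.node (.leaf 11961) (.leaf 0)) (.node (.leaf 16819) (.leaf 0)))))))) (.node (.node (.node (.node (.node (.node (.node (.leaf 8839) (.leaf 9327)) (.node (.leaf 13031) (.leaf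 0))) (.node (.node (.leaf 3915) (.leaf 1628)) (.node (.leaf 7656) (.leaf 0)))) (.node (.node (.node (.leaf 7580) (.leaf 8384)) (.node (.leaf 19595) (.leaf 0))) (.node (.node (.leaf 12924) (.leaf 0)) (.node (.leaf 2889) (.leaf 0))))) (.node (.node (.node (.node (.leaf 8902) (.leaf 18220)) (.node (.leaf 8021) (.leaf 0))) (.node (.node (.leaf 20604) (.leaf 0)) (.node (.leaf 321) (.leaf 0)))) (.node (.node (.node (.leaf 2556) (.leaf 19384)) (.node (.leaf 20076) (.leaf 0))) (.node (.node (.leaf 3292) (.leaf 0)) (.node (.leaf 6690) (.leaf 0)))))) (.node (.node (.node (.node (.node (.leaf 19056) (.leaf 10422)) (.node (.leaf 12927) (.leaf 0))) (.node (.node (.leaf 8915) (.leaf 9637)) (.node (.leaf 8536) (.leaf 0)))) (.node (.node (.node (.leaf 19630) (.leaf 11635)) (.node (.leaf 17321) (.leaf 0))) (.node (.node (.leaf 5326) (.leaf 0)) (.node (.leaf 393) (.leaf 0))))) (.node (.node (.node (.node (.leaf 19382) (.leaf 2304)) (.node (.leaf 18910) (.leaf 0))) (.node (.node (.leaf 13297) (.leaf 0)) (.node (.leaf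 13274) (.leaf 0)))) (.node (.node (.node (.leaf 19773) (.leaf 10686)) (.node (.leaf 6740) (.leaf 0))) (.node (.node (.leaf 10578) (.leaf 0)) (.node (.leaf 5575) (.leaf 0))))))) (.node (.node (.node (.node (.node (.node (.leaf 1301) (.leaf 17939)) (.node (.leaf 18589) (.leaf 0))) (.node (.node (.leaf 19255) (.leaf 9743)) (.node (.leaf 3768) (.leaf 0)))) (.node (.node (.node (.leaf 8605) (.leaf 3389)) (.node (.leaf 2327) (.leaf 0))) (.node (.node (.leaf 10046) (.leaf 0)) (.node (.leaf 19851) (.leaf 0))))) (.node (.node (.node (.node (.leaf 1826) (.leaf 15587)) (.node (.leaf 13683) (.leaf 0))) (.node (.node (.leaf 4639) (.leaf 0)) (.node (.leaf 2181) (.leaf 0)))) (.node (.node (.node (.leaf 7366) (.leaf 7192)) (.node (.leaf 5080) (.leaf 0))) (.node (.node (.leaf 6742) (.leaf 0)) (.node (.leaf 3065) (.leaf 0)))))) (.node (.node (.node (.node (.node (.leaf 8093) (.leaf 14546)) (.node (.leaf 17591) (.leaf 0))) (.node (.node (.leaf 10142) (.leaf 16951)) (.node (.leaf 12105) (.leaf 0)))) (.node (.node (.node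 (.leaf 17884) (.leaf 15333)) (.node (.leaf 8612) (.leaf 0))) (.node (.node (.leaf 13196) (.leaf 0)) (.node (.leaf 6762) (.leaf 0))))) (.node (.node (.node (.node (.leaf 15513) (.leaf 2559)) (.node (.leaf 11836) (.leaf 0))) (.node (.node (.leaf 11505) (.leaf 0)) (.node (.leaf 12077) (.leaf 0)))) (.node (.node (.node (.leaf 420) (.leaf 3401)) (.node (.leaf 15297) (.leaf 0))) (.node (.node (.leaf 14077) (.leaf 0)) (.node (.leaf 10919) (.leaf 0)))))))))

/-- part of a table -/
def ordK39 : Trie := (.node (.node (.node (.node (.node (.node (.node (.node (.leaf 15003) (.leaf 20754)) (.node (.leaf 8807) (.leaf 0))) (.node (.node (.leaf 5918) (.leaf 8294)) (.node (.leaf 17606) (.leaf 0)))) (.node (.node (.node (.leaf 2813) (.leaf 5344)) (.node (.leaf 257) (.leaf 0))) (.node (.node (.leaf 6278) (.leaf 0)) (.node (.leaf 11184) (.leaf 0))))) (.node (.node (.node (.node (.leaf 19331) (.leaf 16608)) (.node (.leaf 5011) (.leaf 0))) (.node (.node (.leaf 9595) (.leaf 0)) (.node (.leaf 14847) (.leaf 0)))) (.node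 (.node (.node (.leaf 5293) (.leaf 12225)) (.node (.leaf 4400) (.leaf 0))) (.node (.node (.leaf 15418) (.leaf 0)) (.node (.leaf 8438) (.leaf 0)))))) (.node (.node (.node (.node (.node (.leaf 20670) (.leaf 19700)) (.node (.leaf 5024) (.leaf 0))) (.node (.node (.leaf 13384) (.leaf 2411)) (.node (.leaf 8811) (.leaf 0)))) (.node (.node (.node (.leaf 8893) (.leaf 19973)) (.node (.leaf 9526) (.leaf 0))) (.node (.node (.leaf 5585) (.leaf 0)) (.node (.leaf 20856) (.leaf 0))))) (.node (.node (.node (.node (.leaf 5959) (.leaf 6370)) (.node (.leaf 6546) (.leaf 0))) (.node (.node (.leaf 19798) (.leaf 0)) (.node (.leaf 10851) (.leaf 0)))) (.node (.node (.node (.leaf 14538) (.leaf 10488)) (.node (.leaf 21093) (.leaf 0))) (.node (.node (.leaf 6791) (.leaf 0)) (.node (.leaf 2271) (.leaf 0))))))) (.node (.node (.node (.node (.node (.node (.leaf 6797) (.leaf 16327)) (.node (.leaf 10789) (.leaf 0))) (.node (.node (.leaf 10508) (.leaf 5624)) (.node (.leaf 4566) (.leaf 0)))) (.node (.node (.node (.leaf 3743) (.leaf 19666))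 (.node (.leaf 114) (.leaf 0))) (.node (.node (.leaf 7961) (.leaf 0)) (.node (.leaf 3991) (.leaf 0))))) (.node (.node (.node (.node (.leaf 19895) (.leaf 4095)) (.node (.leaf 3271) (.leaf 0))) (.node (.node (.leaf 17878) (.leaf 0)) (.node (.leaf 8403) (.leaf 0)))) (.node (.node (.node (.leaf 19865) (.leaf 13187)) (.node (.leaf 20895) (.leaf 0))) (.node (.node (.leaf 12553) (.leaf 0)) (.node (.leaf 2306) (.leaf 0)))))) (.node (.node (.node (.node (.node (.leaf 8544) (.leaf 14455)) (.node (.leaf 3926) (.leaf 0))) (.node (.node (.leaf 15006) (.leaf 17046)) (.node (.leaf 8621) (.leaf 0)))) (.node (.node (.node (.leaf 14484) (.leaf 15485)) (.node (.leaf 17124) (.leaf 0))) (.node (.node (.leaf 21069) (.leaf 0)) (.node (.leaf 3807) (.leaf 0))))) (.node (.node (.node (.node (.leaf 13850) (.leaf 14206)) (.node (.leaf 10570) (.leaf 0))) (.node (.node (.leaf 4802) (.leaf 0)) (.node (.leaf 13712) (.leaf 0)))) (.node (.node (.node (.leaf 8622) (.leaf 10989)) (.node (.leaf 6958) (.leaf 0))) (.node (.node (.leaf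 3382) (.leaf 0)) (.node (.leaf 21169) (.leaf 0)))))))) (.node (.node (.node (.node (.node (.node (.node (.leaf 11186) (.leaf 2933)) (.node (.leaf 6275) (.leaf 0))) (.node (.node (.leaf 6599) (.leaf 7609)) (.node (.leaf 20228) (.leaf 0)))) (.node (.node (.node (.leaf 3642) (.leaf 2540)) (.node (.leaf 21177) (.leaf 0))) (.node (.node (.leaf 14815) (.leaf 0)) (.node (.leaf 16453) (.leaf 0))))) (.node (.node (.node (.node (.leaf 9199) (.leaf 18438)) (.node (.leaf 17970) (.leaf 0))) (.node (.node (.leaf 20549) (.leaf 0)) (.node (.leaf 20563) (.leaf 0)))) (.node (.node (.node (.leaf 15552) (.leaf 9383)) (.node (.leaf 12371) (.leaf 0))) (.node (.node (.leaf 5505) (.leaf 0)) (.node (.leaf 5428) (.leaf 0)))))) (.node (.node (.node (.node (.node (.leaf 14973) (.leaf 2895)) (.node (.leaf 19232) (.leaf 0))) (.node (.node (.leaf 9213) (.leaf 628)) (.node (.leaf 3342) (.leaf 0)))) (.node (.node (.node (.leaf 8104) (.leaf 10441)) (.node (.leaf 19576) (.leaf 0))) (.node (.node (.leaf 11351) (.leaf 0)) (.node (.leaf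 7626) (.leaf 0))))) (.node (.node (.node (.node (.leaf 17000) (.leaf 19878)) (.node (.leaf 9283) (.leaf 0))) (.node (.node (.leaf 21187) (.leaf 0)) (.node (.leaf 9212) (.leaf 0)))) (.node (.node (.node (.leaf 17880) (.leaf 10637)) (.node (.leaf 9400) (.leaf 0))) (.node (.node (.leaf 12706) (.leaf 0)) (.node (.leaf 9217) (.leaf 0))))))) (.node (.node (.node (.node (.node (.node (.leaf 18184) (.leaf 16047)) (.node (.leaf 15363) (.leaf 0))) (.node (.node (.leaf 14862) (.leaf 11800)) (.node (.leaf 7583) (.leaf 0)))) (.node (.node (.node (.leaf 8597) (.leaf 12206)) (.node (.leaf 3761) (.leaf 0))) (.node (.node (.leaf 8203) (.leaf 0)) (.node (.leaf 21127) (.leaf 0))))) (.node (.node (.node (.node (.leaf 20223) (.leaf 3984)) (.node (.leaf 12995) (.leaf 0))) (.node (.node (.leaf 10575) (.leaf 0)) (.node (.leaf 11910) (.leaf 0)))) (.node (.node (.node (.leaf 4706) (.leaf 3941)) (.node (.leaf 15776) (.leaf 0))) (.node (.node (.leaf 6511) (.leaf 0)) (.node (.leaf 13549) (.leaf 0)))))) (.node (.node (.node (.node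 (.node (.leaf 6136) (.leaf 10583)) (.node (.leaf 17560) (.leaf 0))) (.node (.node (.leaf 3132) (.leaf 17471)) (.node (.leaf 3631) (.leaf 0)))) (.node (.node (.node (.leaf 8312) (.leaf 9801)) (.node (.leaf 6313) (.leaf 0))) (.node (.node (.leaf 13039) (.leaf 0)) (.node (.leaf 20309) (.leaf 0))))) (.node (.node (.node (.node (.leaf 6444) (.leaf 4409)) (.node (.leaf 2478) (.leaf 0))) (.node (.node (.leaf 1351) (.leaf 0)) (.node (.leaf 11523) (.leaf 0)))) (.node (.node (.node (.leaf 7749) (.leaf 7163)) (.node (.leaf 5738) (.leaf 0))) (.node (.node (.leaf 15999) (.leaf 0)) (.node (.leaf 686) (.leaf 0)))))))))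

/-- part of a table -/
def ordK40 : Trie := (.node (.node (.node (.node (.node (.node (.node (.node (.leaf 19883) (.leaf 18802)) (.node (.leaf 5230) (.leaf 0))) (.node (.node (.leaf 16164) (.leaf 6663)) (.node (.leaf 10926) (.leaf 0)))) (.node (.node (.node (.leaf 14119) (.leaf 19575)) (.node (.leaf 12244) (.leaf 0))) (.node (.node (.leaf 5036) (.leaf 0)) (.node (.leaf 17513) (.leaf 0))))) (.node (.node (.node (.node (.leaf 19155) (.leaf 4824)) (.node (.leaf 7729) (.leaf 0))) (.node (.node (.leaf 7791) (.leaf 0)) (.node (.leaf 13089) (.leaf 0)))) (.node (.node (.node (.leaf 5766) (.leaf 19036)) (.node (.leaf 18371) (.leaf 0))) (.node (.node (.leaf 16627) (.leaf 0)) (.node (.leaf 127) (.leaf 0)))))) (.node (.node (.node (.node (.node (.leaf 16394) (.leaf 16572)) (.node (.leaf 3312) (.leaf 0))) (.node (.node (.leaf 2022) (.leaf 20568)) (.node (.leaf 9280) (.leaf 0)))) (.node (.node (.node (.leaf 526) (.leaf 9536)) (.node (.leaf 14106) (.leaf 0))) (.node (.node (.leaf 16002) (.leaf 0)) (.node (.leaf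 7936) (.leaf 0))))) (.node (.node (.node (.node (.leaf 16346) (.leaf 16796)) (.node (.leaf 15822) (.leaf 0))) (.node (.node (.leaf 10942) (.leaf 0)) (.node (.leaf 7176) (.leaf 0)))) (.node (.node (.node (.leaf 13916) (.leaf 10807)) (.node (.leaf 5045) (.leaf 0))) (.node (.node (.leaf 1235) (.leaf 0)) (.node (.leaf 1304) (.leaf 0))))))) (.node (.node (.node (.node (.node (.node (.leaf 8328) (.leaf 14798)) (.node (.leaf 6910) (.leaf 0))) (.node (.node (.leaf 1977) (.leaf 21066)) (.node (.leaf 16538) (.leaf 0)))) (.node (.node (.node (.leaf 3481) (.leaf 19686)) (.node (.leaf 19024) (.leaf 0))) (.node (.node (.leaf 20310) (.leaf 0)) (.node (.leaf 1216) (.leaf 0))))) (.node (.node (.node (.node (.leaf 8054) (.leaf 18228)) (.node (.leaf 11900) (.leaf 0))) (.node (.node (.leaf 1376) (.leaf 0)) (.node (.leaf 14016) (.leaf 0)))) (.node (.node (.node (.leaf 11078) (.leaf 10391)) (.node (.leaf 10090) (.leaf 0))) (.node (.node (.leaf 4185) (.leaf 0)) (.node (.leaf 3381) (.leaf 0)))))) (.node (.node (.node (.node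 (.node (.leaf 13918) (.leaf 4322)) (.node (.leaf 8483) (.leaf 0))) (.node (.node (.leaf 10429) (.leaf 5360)) (.node (.leaf 12827) (.leaf 0)))) (.node (.node (.node (.leaf 18203) (.leaf 5125)) (.node (.leaf 1362) (.leaf 0))) (.node (.node (.leaf 5711) (.leaf 0)) (.node (.leaf 16997) (.leaf 0))))) (.node (.node (.node (.node (.leaf 1334) (.leaf 8136)) (.node (.leaf 7688) (.leaf 0))) (.node (.node (.leaf 9060) (.leaf 0)) (.node (.leaf 2695) (.leaf 0)))) (.node (.node (.node (.leaf 6118) (.leaf 11513)) (.node (.leaf 10911) (.leaf 0))) (.node (.node (.leaf 684) (.leaf 0)) (.node (.leaf 568) (.leaf 0)))))))) (.node (.node (.node (.node (.node (.node (.node (.leaf 8090) (.leaf 12557)) (.node (.leaf 11744) (.leaf 0))) (.node (.node (.leaf 15790) (.leaf 19122)) (.node (.leaf 365) (.leaf 0)))) (.node (.node (.node (.leaf 15606) (.leaf 18689)) (.node (.leaf 2308) (.leaf 0))) (.node (.node (.leaf 19366) (.leaf 0)) (.node (.leaf 232) (.leaf 0))))) (.node (.node (.node (.node (.leaf 16907) (.leaf 15845)) (.node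 (.leaf 18151) (.leaf 0))) (.node (.node (.leaf 16400) (.leaf 0)) (.node (.leaf 9978) (.leaf 0)))) (.node (.node (.node (.leaf 1031) (.leaf 13967)) (.node (.leaf 8614) (.leaf 0))) (.node (.node (.leaf 19776) (.leaf 0)) (.node (.leaf 15858) (.leaf 0)))))) (.node (.node (.node (.node (.node (.leaf 21490) (.leaf 19728)) (.node (.leaf 1924) (.leaf 0))) (.node (.node (.leaf 8470) (.leaf 9363)) (.node (.leaf 11287) (.leaf 0)))) (.node (.node (.node (.leaf 6087) (.leaf 10720)) (.node (.leaf 10586) (.leaf 0))) (.node (.node (.leaf 11259) (.leaf 0)) (.node (.leaf 20831) (.leaf 0))))) (.node (.node (.node (.node (.leaf 16356) (.leaf 8956)) (.node (.leaf 19273) (.leaf 0))) (.node (.node (.leaf 17138) (.leaf 0)) (.node (.leaf 20434) (.leaf 0)))) (.node (.node (.node (.leaf 15354) (.leaf 21159)) (.node (.leaf 11736) (.leaf 0))) (.node (.node (.leaf 6521) (.leaf 0)) (.node (.leaf 7037) (.leaf 0))))))) (.node (.node (.node (.node (.node (.node (.leaf 16133) (.leaf 17136)) (.node (.leaf 19159) (.leaf 0))) (.node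 (.node (.leaf 3280) (.leaf 16980)) (.node (.leaf 13798) (.leaf 0)))) (.node (.node (.node (.leaf 4588) (.leaf 5757)) (.node (.leaf 17618) (.leaf 0))) (.node (.node (.leaf 21359) (.leaf 0)) (.node (.leaf 8343) (.leaf 0))))) (.node (.node (.node (.node (.leaf 8247) (.leaf 2045)) (.node (.leaf 13646) (.leaf 0))) (.node (.node (.leaf 3195) (.leaf 0)) (.node (.leaf 13266) (.leaf 0)))) (.node (.node (.node (.leaf 5149) (.leaf 7361)) (.node (.leaf 14810) (.leaf 0))) (.node (.node (.leaf 1483) (.leaf 0)) (.node (.leaf 14626) (.leaf 0)))))) (.node (.node (.node (.node (.node (.leaf 1149) (.leaf 18987)) (.node (.leaf 2384) (.leaf 0))) (.node (.node (.leaf 3860) (.leaf 2949)) (.node (.leaf 16284) (.leaf 0)))) (.node (.node (.node (.leaf 18575) (.leaf 20147)) (.node (.leaf 9287) (.leaf 0))) (.node (.node (.leaf 16588) (.leaf 0)) (.node (.leaf 18070) (.leaf 0))))) (.node (.node (.node (.node (.leaf 9575) (.leaf 10947)) (.node (.leaf 15671) (.leaf 0))) (.node (.node (.leaf 17196) (.leaf 0)) (.node (.leaf 10630)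 (.leaf 0)))) (.node (.node (.node (.leaf 4688) (.leaf 13421)) (.node (.leaf 20219) (.leaf 0))) (.node (.node (.leaf 4364) (.leaf 0)) (.node (.leaf 13292) (.leaf 0)))))))))

/-- part of a table -/
def ordK41 : Trie := (.node (.node (.node (.node (.node (.node (.node (.node (.leaf 14877) (.leaf 12787)) (.node (.leaf 16166) (.leaf 0))) (.node (.node (.leaf 5728) (.leaf 1955)) (.node (.leaf 1448) (.leaf 0)))) (.node (.node (.node (.leaf 21188) (.leaf 11785)) (.node (.leaf 911) (.leaf 0))) (.node (.node (.leaf 18846) (.leaf 0)) (.node (.leaf 12785) (.leaf 0))))) (.node (.node (.node (.node (.leaf 8553) (.leaf 4997)) (.node (.leaf 13375) (.leaf 0))) (.node (.node (.leaf 13962) (.leaf 0)) (.node (.leaf 16723) (.leaf 0)))) (.node (.node (.node (.leaf 15087) (.leaf 18565)) (.node (.leaf 19289) (.leaf 0))) (.node (.node (.leaf 2105) (.leaf 0)) (.node (.leaf 12396) (.leaf 0)))))) (.node (.node (.node (.node (.node (.leaf 13637) (.leaf 313)) (.node (.leaf 2555) (.leaf 0))) (.node (.node (.leaf 11274) (.leaf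 4080)) (.node (.leaf 18765) (.leaf 0)))) (.node (.node (.node (.leaf 12567) (.leaf 18347)) (.node (.leaf 534) (.leaf 0))) (.node (.node (.leaf 137) (.leaf 0)) (.node (.leaf 3244) (.leaf 0))))) (.node (.node (.node (.node (.leaf 6778) (.leaf 11498)) (.node (.leaf 13003) (.leaf 0))) (.node (.node (.leaf 15175) (.leaf 0)) (.node (.leaf 10100) (.leaf 0)))) (.node (.node (.node (.leaf 20281) (.leaf 6984)) (.node (.leaf 21001) (.leaf 0))) (.node (.node (.leaf 1666) (.leaf 0)) (.node (.leaf 6470) (.leaf 0))))))) (.node (.node (.node (.node (.node (.node (.leaf 4273) (.leaf 4258)) (.node (.leaf 3048) (.leaf 0))) (.node (.node (.leaf 8522) (.leaf 18725)) (.node (.leaf 1824) (.leaf 0)))) (.node (.node (.node (.leaf 10585) (.leaf 4744)) (.node (.leaf 3229) (.leaf 0))) (.node (.node (.leaf 5479) (.leaf 0)) (.node (.leaf 12854) (.leaf 0))))) (.node (.node (.node (.node (.leaf 5893) (.leaf 7219)) (.node (.leaf 18905) (.leaf 0))) (.node (.node (.leaf 4359) (.leaf 0)) (.node (.leaf 14742) (.leaf 0)))) (.node (.node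 (.node (.leaf 21234) (.leaf 164)) (.node (.leaf 11930) (.leaf 0))) (.node (.node (.leaf 13088) (.leaf 0)) (.node (.leaf 9296) (.leaf 0)))))) (.node (.node (.node (.node (.node (.leaf 2467) (.leaf 2711)) (.node (.leaf 17371) (.leaf 0))) (.node (.node (.leaf 2135) (.leaf 1265)) (.node (.leaf 9337) (.leaf 0)))) (.node (.node (.node (.leaf 13578) (.leaf 16390)) (.node (.leaf 15899) (.leaf 0))) (.node (.node (.leaf 3159) (.leaf 0)) (.node (.leaf 9616) (.leaf 0))))) (.node (.node (.node (.node (.leaf 16213) (.leaf 20852)) (.node (.leaf 2449) (.leaf 0))) (.node (.node (.leaf 9561) (.leaf 0)) (.node (.leaf 4055) (.leaf 0)))) (.node (.node (.node (.leaf 10676) (.leaf 20297)) (.node (.leaf 20658) (.leaf 0))) (.node (.node (.leaf 10152) (.leaf 0)) (.node (.leaf 11362) (.leaf 0)))))))) (.node (.node (.node (.node (.node (.node (.node (.leaf 3490) (.leaf 3621)) (.node (.leaf 14276) (.leaf 0))) (.node (.node (.leaf 5776) (.leaf 9368)) (.node (.leaf 143) (.leaf 0)))) (.node (.node (.node (.leaf 18800) (.leaf 733))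 (.node (.leaf 11225) (.leaf 0))) (.node (.node (.leaf 20984) (.leaf 0)) (.node (.leaf 904) (.leaf 0))))) (.node (.node (.node (.node (.leaf 7788) (.leaf 19212)) (.node (.leaf 6582) (.leaf 0))) (.node (.node (.leaf 19189) (.leaf 0)) (.node (.leaf 14674) (.leaf 0)))) (.node (.node (.node (.leaf 15901) (.leaf 17749)) (.node (.leaf 16977) (.leaf 0))) (.node (.node (.leaf 6617) (.leaf 0)) (.node (.leaf 13575) (.leaf 0)))))) (.node (.node (.node (.node (.node (.leaf 18274) (.leaf 7066)) (.node (.leaf 13341) (.leaf 0))) (.node (.node (.leaf 11473) (.leaf 16668)) (.node (.leaf 14654) (.leaf 0)))) (.node (.node (.node (.leaf 16790) (.leaf 14311)) (.node (.leaf 6503) (.leaf 0))) (.node (.node (.leaf 15932) (.leaf 0)) (.node (.leaf 16187) (.leaf 0))))) (.node (.node (.node (.node (.leaf 400) (.leaf 19108)) (.node (.leaf 6635) (.leaf 0))) (.node (.node (.leaf 7321) (.leaf 0)) (.node (.leaf 11472) (.leaf 0)))) (.node (.node (.node (.leaf 1718) (.leaf 15191)) (.node (.leaf 17433) (.leaf 0))) (.node (.node (.leaf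 18601) (.leaf 0)) (.node (.leaf 18378) (.leaf 0))))))) (.node (.node (.node (.node (.node (.node (.leaf 3409) (.leaf 13334)) (.node (.leaf 13393) (.leaf 0))) (.node (.node (.leaf 1821) (.leaf 410)) (.node (.leaf 4831) (.leaf 0)))) (.node (.node (.node (.leaf 11187) (.leaf 9204)) (.node (.leaf 2688) (.leaf 0))) (.node (.node (.leaf 9919) (.leaf 0)) (.node (.leaf 6112) (.leaf 0))))) (.node (.node (.node (.node (.leaf 2302) (.leaf 8712)) (.node (.leaf 16701) (.leaf 0))) (.node (.node (.leaf 9112) (.leaf 0)) (.node (.leaf 9706) (.leaf 0)))) (.node (.node (.node (.leaf 12040) (.leaf 16455)) (.node (.leaf 17352) (.leaf 0))) (.node (.node (.leaf 4219) (.leaf 0)) (.node (.leaf 7868) (.leaf 0)))))) (.node (.node (.node (.node (.node (.leaf 13946) (.leaf 17266)) (.node (.leaf 7812) (.leaf 0))) (.node (.node (.leaf 5627) (.leaf 12631)) (.node (.leaf 10381) (.leaf 0)))) (.node (.node (.node (.leaf 9631) (.leaf 16824)) (.node (.leaf 1660) (.leaf 0))) (.node (.node (.leaf 761) (.leaf 0)) (.node (.leaf 8822) (.leaf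 0))))) (.node (.node (.node (.node (.leaf 15068) (.leaf 5067)) (.node (.leaf 5992) (.leaf 0))) (.node (.node (.leaf 6947) (.leaf 0)) (.node (.leaf 17295) (.leaf 0)))) (.node (.node (.node (.leaf 19751) (.leaf 16892)) (.node (.leaf 9332) (.leaf 0))) (.node (.node (.leaf 1553) (.leaf 0)) (.node (.leaf 9028) (.leaf 0)))))))))

/-- part of a table -/
def ordK42 : Trie := (.node (.node (.node (.node (.node (.node (.node (.node (.leaf 16594) (.leaf 5007)) (.node (.leaf 1242) (.leaf 0))) (.node (.node (.leaf 9899) (.leaf 11350)) (.node (.leaf 14529) (.leaf 0)))) (.node (.node (.node (.leaf 2298) (.leaf 14288)) (.node (.leaf 4609) (.leaf 0))) (.node (.node (.leaf 322) (.leaf 0)) (.node (.leaf 737) (.leaf 0))))) (.node (.node (.node (.node (.leaf 6661) (.leaf 10334)) (.node (.leaf 20569) (.leaf 0))) (.node (.node (.leaf 13693) (.leaf 0)) (.node (.leaf 16583) (.leaf 0)))) (.node (.node (.node (.leaf 5868) (.leaf 8973)) (.node (.leaf 13991) (.leaf 0))) (.node (.node (.leaf 19717) (.leaf 0)) (.node (.leaf 21268)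 (.leaf 0)))))) (.node (.node (.node (.node (.node (.leaf 15328) (.leaf 11051)) (.node (.leaf 6208) (.leaf 0))) (.node (.node (.leaf 9044) (.leaf 6317)) (.node (.leaf 20982) (.leaf 0)))) (.node (.node (.node (.leaf 14065) (.leaf 7676)) (.node (.leaf 1014) (.leaf 0))) (.node (.node (.leaf 17090) (.leaf 0)) (.node (.leaf 3296) (.leaf 0))))) (.node (.node (.node (.node (.leaf 4574) (.leaf 12840)) (.node (.leaf 16478) (.leaf 0))) (.node (.node (.leaf 14275) (.leaf 0)) (.node (.leaf 18199) (.leaf 0)))) (.node (.node (.node (.leaf 16391) (.leaf 18742)) (.node (.leaf 19471) (.leaf 0))) (.node (.node (.leaf 15596) (.leaf 0)) (.node (.leaf 6793) (.leaf 0))))))) (.node (.node (.node (.node (.node (.node (.leaf 15804) (.leaf 19994)) (.node (.leaf 1495) (.leaf 0))) (.node (.node (.leaf 14917) (.leaf 17883)) (.node (.leaf 8288) (.leaf 0)))) (.node (.node (.node (.leaf 11794) (.leaf 685)) (.node (.leaf 10197) (.leaf 0))) (.node (.node (.leaf 2127) (.leaf 0)) (.node (.leaf 12345) (.leaf 0))))) (.node (.node (.node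 (.node (.leaf 11931) (.leaf 607)) (.node (.leaf 1539) (.leaf 0))) (.node (.node (.leaf 6390) (.leaf 0)) (.node (.leaf 194) (.leaf 0)))) (.node (.node (.node (.leaf 735) (.leaf 2499)) (.node (.leaf 6163) (.leaf 0))) (.node (.node (.leaf 16963) (.leaf 0)) (.node (.leaf 3543) (.leaf 0)))))) (.node (.node (.node (.node (.node (.leaf 12808) (.leaf 924)) (.node (.leaf 11476) (.leaf 0))) (.node (.node (.leaf 19241) (.leaf 1964)) (.node (.leaf 7272) (.leaf 0)))) (.node (.node (.node (.leaf 9142) (.leaf 4653)) (.node (.leaf 10181) (.leaf 0))) (.node (.node (.leaf 4165) (.leaf 0)) (.node (.leaf 15520) (.leaf 0))))) (.node (.node (.node (.node (.leaf 20590) (.leaf 15864)) (.node (.leaf 6082) (.leaf 0))) (.node (.node (.leaf 9993) (.leaf 0)) (.node (.leaf 1068) (.leaf 0)))) (.node (.node (.node (.leaf 12836) (.leaf 9920)) (.node (.leaf 11579) (.leaf 0))) (.node (.node (.leaf 18321) (.leaf 0)) (.node (.leaf 5524) (.leaf 0)))))))) (.node (.node (.node (.node (.node (.node (.node (.leaf 17641) (.leaf 5609)) (.node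 (.leaf 8659) (.leaf 0))) (.node (.node (.leaf 1073) (.leaf 13050)) (.node (.leaf 20096) (.leaf 0)))) (.node (.node (.node (.leaf 1976) (.leaf 18129)) (.node (.leaf 1180) (.leaf 0))) (.node (.node (.leaf 2366) (.leaf 0)) (.node (.leaf 12258) (.leaf 0))))) (.node (.node (.node (.node (.leaf 15410) (.leaf 8837)) (.node (.leaf 17414) (.leaf 0))) (.node (.node (.leaf 1116) (.leaf 0)) (.node (.leaf 14228) (.leaf 0)))) (.node (.node (.node (.leaf 5025) (.leaf 15449)) (.node (.leaf 625) (.leaf 0))) (.node (.node (.leaf 3567) (.leaf 0)) (.node (.leaf 4973) (.leaf 0)))))) (.node (.node (.node (.node (.node (.leaf 7790) (.leaf 6907)) (.node (.leaf 20356) (.leaf 0))) (.node (.node (.leaf 11103) (.leaf 17119)) (.node (.leaf 3458) (.leaf 0)))) (.node (.node (.node (.leaf 7305) (.leaf 11927)) (.node (.leaf 7994) (.leaf 0))) (.node (.node (.leaf 11422) (.leaf 0)) (.node (.leaf 14210) (.leaf 0))))) (.node (.node (.node (.node (.leaf 6109) (.leaf 15644)) (.node (.leaf 17938) (.leaf 0))) (.node (.node (.leaf 6131)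 (.leaf 0)) (.node (.leaf 9472) (.leaf 0)))) (.node (.node (.node (.leaf 7637) (.leaf 2218)) (.node (.leaf 307) (.leaf 0))) (.node (.node (.leaf 19173) (.leaf 0)) (.node (.leaf 15220) (.leaf 0))))))) (.node (.node (.node (.node (.node (.node (.leaf 16510) (.leaf 20988)) (.node (.leaf 6193) (.leaf 0))) (.node (.node (.leaf 10596) (.leaf 6725)) (.node (.leaf 12922) (.leaf 0)))) (.node (.node (.node (.leaf 3959) (.leaf 9278)) (.node (.leaf 8465) (.leaf 0))) (.node (.node (.leaf 15390) (.leaf 0)) (.node (.leaf 6075) (.leaf 0))))) (.node (.node (.node (.node (.leaf 18032) (.leaf 1204)) (.node (.leaf 13312) (.leaf 0))) (.node (.node (.leaf 5778) (.leaf 0)) (.node (.leaf 18312) (.leaf 0)))) (.node (.node (.node (.leaf 16640) (.leaf 5162)) (.node (.leaf 16694) (.leaf 0))) (.node (.node (.leaf 2422) (.leaf 0)) (.node (.leaf 6310) (.leaf 0)))))) (.node (.node (.node (.node (.node (.leaf 19548) (.leaf 14306)) (.node (.leaf 18260) (.leaf 0))) (.node (.node (.leaf 9510) (.leaf 13932)) (.node (.leaf 15400) (.leaf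 0)))) (.node (.node (.node (.leaf 8291) (.leaf 4536)) (.node (.leaf 7174) (.leaf 0))) (.node (.node (.leaf 11998) (.leaf 0)) (.node (.leaf 2706) (.leaf 0))))) (.node (.node (.node (.node (.leaf 5904) (.leaf 16893)) (.node (.leaf 11446) (.leaf 0))) (.node (.node (.leaf 19912) (.leaf 0)) (.node (.leaf 14488) (.leaf 0)))) (.node (.node (.node (.leaf 7327) (.leaf 1796)) (.node (.leaf 1223) (.leaf 0))) (.node (.node (.leaf 10495) (.leaf 0)) (.node (.leaf 20215) (.leaf 0)))))))))

/-- part of a table -/
def ordK43 : Trie := (.node (.node (.node (.node (.node (.node (.node (.node (.leaf 19582) (.leaf 15141)) (.node (.leaf 14470) (.leaf 0))) (.node (.node (.leaf 18066) (.leaf 11421)) (.node (.leaf 16044) (.leaf 0)))) (.node (.node (.node (.leaf 16395) (.leaf 18886)) (.node (.leaf 16050) (.leaf 0))) (.node (.node (.leaf 8661) (.leaf 0)) (.node (.leaf 13382) (.leaf 0))))) (.node (.node (.node (.node (.leaf 17979) (.leaf 18659)) (.node (.leaf 11939) (.leaf 0))) (.node (.node (.leaf 12348) (.leaf 0)) (.node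 (.leaf 19996) (.leaf 0)))) (.node (.node (.node (.leaf 13371) (.leaf 13083)) (.node (.leaf 12966) (.leaf 0))) (.node (.node (.leaf 21181) (.leaf 0)) (.node (.leaf 13902) (.leaf 0)))))) (.node (.node (.node (.node (.node (.leaf 14118) (.leaf 20757)) (.node (.leaf 16825) (.leaf 0))) (.node (.node (.leaf 4522) (.leaf 15914)) (.node (.leaf 20058) (.leaf 0)))) (.node (.node (.node (.leaf 18570) (.leaf 16190)) (.node (.leaf 12196) (.leaf 0))) (.node (.node (.leaf 21077) (.leaf 0)) (.node (.leaf 11763) (.leaf 0))))) (.node (.node (.node (.node (.leaf 10330) (.leaf 12611)) (.node (.leaf 17305) (.leaf 0))) (.node (.node (.leaf 13378) (.leaf 0)) (.node (.leaf 14811) (.leaf 0)))) (.node (.node (.node (.leaf 3883) (.leaf 202)) (.node (.leaf 3620) (.leaf 0))) (.node (.node (.leaf 2066) (.leaf 0)) (.node (.leaf 9012) (.leaf 0))))))) (.node (.node (.node (.node (.node (.node (.leaf 4148) (.leaf 13870)) (.node (.leaf 12145) (.leaf 0))) (.node (.node (.leaf 12630) (.leaf 12659)) (.node (.leaf 17091) (.leaf 0))))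 (.node (.node (.node (.leaf 20594) (.leaf 17980)) (.node (.leaf 1654) (.leaf 0))) (.node (.node (.leaf 2296) (.leaf 0)) (.node (.leaf 8790) (.leaf 0))))) (.node (.node (.node (.node (.leaf 14227) (.leaf 8867)) (.node (.leaf 2915) (.leaf 0))) (.node (.node (.leaf 4305) (.leaf 0)) (.node (.leaf 3209) (.leaf 0)))) (.node (.node (.node (.leaf 16224) (.leaf 8874)) (.node (.leaf 17807) (.leaf 0))) (.node (.node (.leaf 16716) (.leaf 0)) (.node (.leaf 13453) (.leaf 0)))))) (.node (.node (.node (.node (.node (.leaf 16490) (.leaf 4293)) (.node (.leaf 15810) (.leaf 0))) (.node (.node (.leaf 18002) (.leaf 16330)) (.node (.leaf 12661) (.leaf 0)))) (.node (.node (.node (.leaf 13243) (.leaf 21017)) (.node (.leaf 7424) (.leaf 0))) (.node (.node (.leaf 5059) (.leaf 0)) (.node (.leaf 12228) (.leaf 0))))) (.node (.node (.node (.node (.leaf 3345) (.leaf 14632)) (.node (.leaf 9558) (.leaf 0))) (.node (.node (.leaf 21142) (.leaf 0)) (.node (.leaf 11776) (.leaf 0)))) (.node (.node (.node (.leaf 9370) (.leaf 10336)) (.node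 (.leaf 18318) (.leaf 0))) (.node (.node (.leaf 17245) (.leaf 0)) (.node (.leaf 16491) (.leaf 0)))))))) (.node (.node (.node (.node (.node (.node (.node (.leaf 12220) (.leaf 1402)) (.node (.leaf 5116) (.leaf 0))) (.node (.node (.leaf 17195) (.leaf 20724)) (.node (.leaf 17918) (.leaf 0)))) (.node (.node (.node (.leaf 7805) (.leaf 18823)) (.node (.leaf 3708) (.leaf 0))) (.node (.node (.leaf 4880) (.leaf 0)) (.node (.leaf 58) (.leaf 0))))) (.node (.node (.node (.node (.leaf 9821) (.leaf 9819)) (.node (.leaf 2300) (.leaf 0))) (.node (.node (.leaf 21303) (.leaf 0)) (.node (.leaf 12377) (.leaf 0)))) (.node (.node (.node (.leaf 4314) (.leaf 19893)) (.node (.leaf 4677) (.leaf 0))) (.node (.node (.leaf 18845) (.leaf 0)) (.node (.leaf 2418) (.leaf 0)))))) (.node (.node (.node (.node (.node (.leaf 19323) (.leaf 8248)) (.node (.leaf 20992) (.leaf 0))) (.node (.node (.leaf 11610) (.leaf 7974)) (.node (.leaf 14494) (.leaf 0)))) (.node (.node (.node (.leaf 20989) (.leaf 18993)) (.node (.leaf 15409) (.leaf 0))) (.node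 (.node (.leaf 15734) (.leaf 0)) (.node (.leaf 11466) (.leaf 0))))) (.node (.node (.node (.node (.leaf 3275) (.leaf 12292)) (.node (.leaf 12646) (.leaf 0))) (.node (.node (.leaf 15696) (.leaf 0)) (.node (.leaf 12698) (.leaf 0)))) (.node (.node (.node (.leaf 20643) (.leaf 5958)) (.node (.leaf 12327) (.leaf 0))) (.node (.node (.leaf 20666) (.leaf 0)) (.node (.leaf 14090) (.leaf 0))))))) (.node (.node (.node (.node (.node (.node (.leaf 20797) (.leaf 14189)) (.node (.leaf 3602) (.leaf 0))) (.node (.node (.leaf 15133) (.leaf 624)) (.node (.leaf 19858) (.leaf 0)))) (.node (.node (.node (.leaf 17483) (.leaf 18828)) (.node (.leaf 18370) (.leaf 0))) (.node (.node (.leaf 5847) (.leaf 0)) (.node (.leaf 12419) (.leaf 0))))) (.node (.node (.node (.node (.leaf 6906) (.leaf 15863)) (.node (.leaf 1739) (.leaf 0))) (.node (.node (.leaf 15729) (.leaf 0)) (.node (.leaf 242) (.leaf 0)))) (.node (.node (.node (.leaf 6681) (.leaf 11496)) (.node (.leaf 339) (.leaf 0))) (.node (.node (.leaf 3376) (.leaf 0)) (.node (.leaf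 14373) (.leaf 0)))))) (.node (.node (.node (.node (.node (.leaf 14093) (.leaf 19654)) (.node (.leaf 9310) (.leaf 0))) (.node (.node (.leaf 9033) (.leaf 20327)) (.node (.leaf 252) (.leaf 0)))) (.node (.node (.node (.leaf 17121) (.leaf 4507)) (.node (.leaf 17782) (.leaf 0))) (.node (.node (.leaf 11838) (.leaf 0)) (.node (.leaf 642) (.leaf 0))))) (.node (.node (.node (.node (.leaf 8199) (.leaf 7795)) (.node (.leaf 21503) (.leaf 0))) (.node (.node (.leaf 11591) (.leaf 0)) (.node (.leaf 7563) (.leaf 0)))) (.node (.node (.node (.leaf 5058) (.leaf 1526)) (.node (.leaf 12183) (.leaf 0))) (.node (.node (.leaf 4590) (.leaf 0)) (.node (.leaf 11021) (.leaf 0)))))))))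

/-- part of a table -/
def ordK44 : Trie := (.node (.node (.node (.node (.node (.node (.node (.node (.leaf 10909) (.leaf 19837)) (.node (.leaf 12746) (.leaf 0))) (.node (.node (.leaf 11418) (.leaf 6961)) (.node (.leaf 4884) (.leaf 0)))) (.node (.node (.node (.leaf 15491) (.leaf 16687)) (.node (.leaf 13614) (.leaf 0))) (.node (.node (.leaf 20380) (.leaf 0)) (.node (.leaf 2003) (.leaf 0))))) (.node (.node (.node (.node (.leaf 854) (.leaf 5920)) (.node (.leaf 19396) (.leaf 0))) (.node (.node (.leaf 12319) (.leaf 0)) (.node (.leaf 17626) (.leaf 0)))) (.node (.node (.node (.leaf 20316) (.leaf 2157)) (.node (.leaf 4476) (.leaf 0))) (.node (.node (.leaf 5444) (.leaf 0)) (.node (.leaf 14323) (.leaf 0)))))) (.node (.node (.node (.node (.node (.leaf 21398) (.leaf 3468)) (.node (.leaf 6777) (.leaf 0))) (.node (.node (.leaf 19313) (.leaf 17761)) (.node (.leaf 2804) (.leaf 0)))) (.node (.node (.node (.leaf 18948) (.leaf 13505)) (.node (.leaf 1237) (.leaf 0))) (.node (.node (.leaf 3511) (.leaf 0)) (.node (.leaf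 12830) (.leaf 0))))) (.node (.node (.node (.node (.leaf 471) (.leaf 10373)) (.node (.leaf 21157) (.leaf 0))) (.node (.node (.leaf 9648) (.leaf 0)) (.node (.leaf 5413) (.leaf 0)))) (.node (.node (.node (.leaf 9132) (.leaf 6098)) (.node (.leaf 9232) (.leaf 0))) (.node (.node (.leaf 2649) (.leaf 0)) (.node (.leaf 134) (.leaf 0))))))) (.node (.node (.node (.node (.node (.node (.leaf 9908) (.leaf 9083)) (.node (.leaf 6837) (.leaf 0))) (.node (.node (.leaf 19884) (.leaf 3675)) (.node (.leaf 16315) (.leaf 0)))) (.node (.node (.node (.leaf 13327) (.leaf 4551)) (.node (.leaf 6677) (.leaf 0))) (.node (.node (.leaf 14073) (.leaf 0)) (.node (.leaf 20468) (.leaf 0))))) (.node (.node (.node (.node (.leaf 13478) (.leaf 8143)) (.node (.leaf 2687) (.leaf 0))) (.node (.node (.leaf 11862) (.leaf 0)) (.node (.leaf 7601) (.leaf 0)))) (.node (.node (.node (.leaf 10075) (.leaf 20510)) (.node (.leaf 3139) (.leaf 0))) (.node (.node (.leaf 21185) (.leaf 0)) (.node (.leaf 4890) (.leaf 0)))))) (.node (.node (.node (.node (.node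 (.leaf 2404) (.leaf 13840)) (.node (.leaf 12259) (.leaf 0))) (.node (.node (.leaf 17890) (.leaf 6060)) (.node (.leaf 20260) (.leaf 0)))) (.node (.node (.node (.leaf 3904) (.leaf 7644)) (.node (.leaf 6134) (.leaf 0))) (.node (.node (.leaf 21244) (.leaf 0)) (.node (.leaf 2379) (.leaf 0))))) (.node (.node (.node (.node (.leaf 13982) (.leaf 2047)) (.node (.leaf 13119) (.leaf 0))) (.node (.node (.leaf 14078) (.leaf 0)) (.node (.leaf 10628) (.leaf 0)))) (.node (.node (.node (.leaf 12828) (.leaf 17770)) (.node (.leaf 1170) (.leaf 0))) (.node (.node (.leaf 2868) (.leaf 0)) (.node (.leaf 5309) (.leaf 0)))))))) (.node (.node (.node (.node (.node (.node (.node (.leaf 13651) (.leaf 21211)) (.node (.leaf 8717) (.leaf 0))) (.node (.node (.leaf 13103) (.leaf 14762)) (.node (.leaf 6536) (.leaf 0)))) (.node (.node (.node (.leaf 1684) (.leaf 1010)) (.node (.leaf 13619) (.leaf 0))) (.node (.node (.leaf 4819) (.leaf 0)) (.node (.leaf 7009) (.leaf 0))))) (.node (.node (.node (.node (.leaf 7661) (.leaf 1771)) (.node (.leaf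 6874) (.leaf 0))) (.node (.node (.leaf 8762) (.leaf 0)) (.node (.leaf 21015) (.leaf 0)))) (.node (.node (.node (.leaf 16810) (.leaf 16515)) (.node (.leaf 12952) (.leaf 0))) (.node (.node (.leaf 3545) (.leaf 0)) (.node (.leaf 13630) (.leaf 0)))))) (.node (.node (.node (.node (.node (.leaf 9672) (.leaf 18657)) (.node (.leaf 14664) (.leaf 0))) (.node (.node (.leaf 13275) (.leaf 14500)) (.node (.leaf 1886) (.leaf 0)))) (.node (.node (.node (.leaf 12811) (.leaf 4558)) (.node (.leaf 14805) (.leaf 0))) (.node (.node (.leaf 9778) (.leaf 0)) (.node (.leaf 16333) (.leaf 0))))) (.node (.node (.node (.node (.leaf 6403) (.leaf 4547)) (.node (.leaf 8623) (.leaf 0))) (.node (.node (.leaf 6435) (.leaf 0)) (.node (.leaf 10471) (.leaf 0)))) (.node (.node (.node (.leaf 3519) (.leaf 20695)) (.node (.leaf 19653) (.leaf 0))) (.node (.node (.leaf 13298) (.leaf 0)) (.node (.leaf 7797) (.leaf 0))))))) (.node (.node (.node (.node (.node (.node (.leaf 6675) (.leaf 10678)) (.node (.leaf 8864) (.leaf 0))) (.node (.node (.leaf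 7104) (.leaf 4604)) (.node (.leaf 836) (.leaf 0)))) (.node (.node (.node (.leaf 4493) (.leaf 4226)) (.node (.leaf 19149) (.leaf 0))) (.node (.node (.leaf 14990) (.leaf 0)) (.node (.leaf 6957) (.leaf 0))))) (.node (.node (.node (.node (.leaf 6877) (.leaf 21013)) (.node (.leaf 8708) (.leaf 0))) (.node (.node (.leaf 243) (.leaf 0)) (.node (.leaf 18127) (.leaf 0)))) (.node (.node (.node (.leaf 432) (.leaf 4391)) (.node (.leaf 12881) (.leaf 0))) (.node (.node (.leaf 3007) (.leaf 0)) (.node (.leaf 3199) (.leaf 0)))))) (.node (.node (.node (.node (.node (.leaf 11868) (.leaf 18316)) (.node (.leaf 12856) (.leaf 0))) (.node (.node (.leaf 6667) (.leaf 15543)) (.node (.leaf 5541) (.leaf 0)))) (.node (.node (.node (.leaf 9358) (.leaf 4951)) (.node (.leaf 3867) (.leaf 0))) (.node (.node (.leaf 14737) (.leaf 0)) (.node (.leaf 18888) (.leaf 0))))) (.node (.node (.node (.node (.leaf 21116) (.leaf 91)) (.node (.leaf 11991) (.leaf 0))) (.node (.node (.leaf 6642) (.leaf 0)) (.node (.leaf 8220) (.leaf 0)))) (.node (.node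 (.node (.leaf 6651) (.leaf 7980)) (.node (.leaf 15071) (.leaf 0))) (.node (.node (.leaf 15556) (.leaf 0)) (.node (.leaf 4745) (.leaf 0)))))))))

/-- part of a table -/
def ordK45 : Trie := (.node (.node (.node (.node (.node (.node (.node (.node (.leaf 13367) (.leaf 19373)) (.node (.leaf 2399) (.leaf 0))) (.node (.node (.leaf 17067) (.leaf 4867)) (.node (.leaf 14699) (.leaf 0)))) (.node (.node (.node (.leaf 5253) (.leaf 6073)) (.node (.leaf 1135) (.leaf 0))) (.node (.node (.leaf 15860) (.leaf 0)) (.node (.leaf 3517) (.leaf 0))))) (.node (.node (.node (.node (.leaf 7759) (.leaf 17281)) (.node (.leaf 18345) (.leaf 0))) (.node (.node (.leaf 15168) (.leaf 0)) (.node (.leaf 11798) (.leaf 0)))) (.node (.node (.node (.leaf 14880) (.leaf 19671)) (.node (.leaf 12085) (.leaf 0))) (.node (.node (.leaf 14203) (.leaf 0)) (.node (.leaf 6465) (.leaf 0)))))) (.node (.node (.node (.node (.node (.leaf 12487) (.leaf 8095)) (.node (.leaf 7733) (.leaf 0))) (.node (.node (.leaf 13146) (.leaf 16565)) (.node (.leaf 16033)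 (.leaf 0)))) (.node (.node (.node (.leaf 9748) (.leaf 18773)) (.node (.leaf 7052) (.leaf 0))) (.node (.node (.leaf 6096) (.leaf 0)) (.node (.leaf 6539) (.leaf 0))))) (.node (.node (.node (.node (.leaf 16651) (.leaf 18786)) (.node (.leaf 12395) (.leaf 0))) (.node (.node (.leaf 15255) (.leaf 0)) (.node (.leaf 18232) (.leaf 0)))) (.node (.node (.node (.leaf 13669) (.leaf 10503)) (.node (.leaf 3303) (.leaf 0))) (.node (.node (.leaf 11123) (.leaf 0)) (.node (.leaf 4145) (.leaf 0))))))) (.node (.node (.node (.node (.node (.node (.leaf 11899) (.leaf 12019)) (.node (.leaf 3857) (.leaf 0))) (.node (.node (.leaf 15249) (.leaf 12093)) (.node (.leaf 14057) (.leaf 0)))) (.node (.node (.node (.leaf 21026) (.leaf 14743)) (.node (.leaf 13462) (.leaf 0))) (.node (.node (.leaf 15001) (.leaf 0)) (.node (.leaf 14011) (.leaf 0))))) (.node (.node (.node (.node (.leaf 11022) (.leaf 16005)) (.node (.leaf 4351) (.leaf 0))) (.node (.node (.leaf 1548) (.leaf 0)) (.node (.leaf 14212) (.leaf 0)))) (.node (.node (.node (.leaf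 8834) (.leaf 4440)) (.node (.leaf 21202) (.leaf 0))) (.node (.node (.leaf 20801) (.leaf 0)) (.node (.leaf 10550) (.leaf 0)))))) (.node (.node (.node (.node (.node (.leaf 1510) (.leaf 18769)) (.node (.leaf 11002) (.leaf 0))) (.node (.node (.leaf 20941) (.leaf 15698)) (.node (.leaf 20122) (.leaf 0)))) (.node (.node (.node (.leaf 11153) (.leaf 9831)) (.node (.leaf 6279) (.leaf 0))) (.node (.node (.leaf 21337) (.leaf 0)) (.node (.leaf 21095) (.leaf 0))))) (.node (.node (.node (.node (.leaf 18458) (.leaf 9487)) (.node (.leaf 15874) (.leaf 0))) (.node (.node (.leaf 18372) (.leaf 0)) (.node (.leaf 7915) (.leaf 0)))) (.node (.node (.node (.leaf 18909) (.leaf 3840)) (.node (.leaf 20918) (.leaf 0))) (.node (.node (.leaf 21144) (.leaf 0)) (.node (.leaf 9256) (.leaf 0)))))))) (.node (.node (.node (.node (.node (.node (.node (.leaf 21366) (.leaf 19346)) (.node (.leaf 1502) (.leaf 0))) (.node (.node (.leaf 19864) (.leaf 2215)) (.node (.leaf 8944) (.leaf 0)))) (.node (.node (.node (.leaf 11655) (.leaf 19989)) (.node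 (.leaf 2533) (.leaf 0))) (.node (.node (.leaf 2554) (.leaf 0)) (.node (.leaf 10128) (.leaf 0))))) (.node (.node (.node (.node (.leaf 14904) (.leaf 2287)) (.node (.leaf 20381) (.leaf 0))) (.node (.node (.leaf 20885) (.leaf 0)) (.node (.leaf 6485) (.leaf 0)))) (.node (.node (.node (.leaf 1069) (.leaf 5914)) (.node (.leaf 19660) (.leaf 0))) (.node (.node (.leaf 5031) (.leaf 0)) (.node (.leaf 6271) (.leaf 0)))))) (.node (.node (.node (.node (.node (.leaf 14563) (.leaf 8251)) (.node (.leaf 4282) (.leaf 0))) (.node (.node (.leaf 1043) (.leaf 14619)) (.node (.leaf 6652) (.leaf 0)))) (.node (.node (.node (.leaf 7577) (.leaf 7546)) (.node (.leaf 82) (.leaf 0))) (.node (.node (.leaf 8295) (.leaf 0)) (.node (.leaf 5357) (.leaf 0))))) (.node (.node (.node (.node (.leaf 2435) (.leaf 17635)) (.node (.leaf 14746) (.leaf 0))) (.node (.node (.leaf 17427) (.leaf 0)) (.node (.leaf 20561) (.leaf 0)))) (.node (.node (.node (.leaf 16247) (.leaf 8982)) (.node (.leaf 12638) (.leaf 0))) (.node (.node (.leaf 20066) (.leaf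 0)) (.node (.leaf 10771) (.leaf 0))))))) (.node (.node (.node (.node (.node (.node (.leaf 11176) (.leaf 6636)) (.node (.leaf 19030) (.leaf 0))) (.node (.node (.leaf 9808) (.leaf 7543)) (.node (.leaf 6375) (.leaf 0)))) (.node (.node (.node (.leaf 12263) (.leaf 10760)) (.node (.leaf 19968) (.leaf 0))) (.node (.node (.leaf 16162) (.leaf 0)) (.node (.leaf 21467) (.leaf 0))))) (.node (.node (.node (.node (.leaf 17449) (.leaf 13608)) (.node (.leaf 10527) (.leaf 0))) (.node (.node (.leaf 17545) (.leaf 0)) (.node (.leaf 10378) (.leaf 0)))) (.node (.node (.node (.leaf 3218) (.leaf 17781)) (.node (.leaf 765) (.leaf 0))) (.node (.node (.leaf 14901) (.leaf 0)) (.node (.leaf 20972) (.leaf 0)))))) (.node (.node (.node (.node (.node (.leaf 418) (.leaf 12852)) (.node (.leaf 20308) (.leaf 0))) (.node (.node (.leaf 3758) (.leaf 9443)) (.node (.leaf 11996) (.leaf 0)))) (.node (.node (.node (.leaf 4789) (.leaf 12624)) (.node (.leaf 1332) (.leaf 0))) (.node (.node (.leaf 1150) (.leaf 0)) (.node (.leaf 5437) (.leaf 0)))))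 (.node (.node (.node (.node (.leaf 17862) (.leaf 13409)) (.node (.leaf 14014) (.leaf 0))) (.node (.node (.leaf 16719) (.leaf 0)) (.node (.leaf 19784) (.leaf 0)))) (.node (.node (.node (.leaf 9911) (.leaf 8107)) (.node (.leaf 15959) (.leaf 0))) (.node (.node (.leaf 6557) (.leaf 0)) (.node (.leaf 21004) (.leaf 0)))))))))

/-- part of a table -/
def ordK46 : Trie := (.node (.node (.node (.node (.node (.node (.node (.node (.leaf 9847) (.leaf 17015)) (.node (.leaf 3002) (.leaf 0))) (.node (.node (.leaf 14867) (.leaf 9420)) (.node (.leaf 19335) (.leaf 0)))) (.node (.node (.node (.leaf 18950) (.leaf 10454)) (.node (.leaf 7013) (.leaf 0))) (.node (.node (.leaf 17744) (.leaf 0)) (.node (.leaf 12479) (.leaf 0))))) (.node (.node (.node (.node (.leaf 7404) (.leaf 5730)) (.node (.leaf 2078) (.leaf 0))) (.node (.node (.leaf 10966) (.leaf 0)) (.node (.leaf 8285) (.leaf 0)))) (.node (.node (.node (.leaf 4098) (.leaf 21194)) (.node (.leaf 1541) (.leaf 0))) (.node (.node (.leaf 3380) (.leaf 0)) (.node (.leaf 2657)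 (.leaf 0)))))) (.node (.node (.node (.node (.node (.leaf 2812) (.leaf 5482)) (.node (.leaf 16219) (.leaf 0))) (.node (.node (.leaf 17452) (.leaf 19652)) (.node (.leaf 9858) (.leaf 0)))) (.node (.node (.node (.leaf 6934) (.leaf 19481)) (.node (.leaf 4774) (.leaf 0))) (.node (.node (.leaf 9774) (.leaf 0)) (.node (.leaf 2204) (.leaf 0))))) (.node (.node (.node (.node (.leaf 1748) (.leaf 16883)) (.node (.leaf 16706) (.leaf 0))) (.node (.node (.leaf 3803) (.leaf 0)) (.node (.leaf 562) (.leaf 0)))) (.node (.node (.node (.leaf 14681) (.leaf 5942)) (.node (.leaf 6764) (.leaf 0))) (.node (.node (.leaf 5571) (.leaf 0)) (.node (.leaf 2544) (.leaf 0))))))) (.node (.node (.node (.node (.node (.node (.leaf 14497) (.leaf 20642)) (.node (.leaf 13865) (.leaf 0))) (.node (.node (.leaf 810) (.leaf 14170)) (.node (.leaf 19455) (.leaf 0)))) (.node (.node (.node (.leaf 19979) (.leaf 1078)) (.node (.leaf 7402) (.leaf 0))) (.node (.node (.leaf 19058) (.leaf 0)) (.node (.leaf 14161) (.leaf 0))))) (.node (.node (.node (.node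 (.leaf 14840) (.leaf 15365)) (.node (.leaf 7482) (.leaf 0))) (.node (.node (.leaf 9845) (.leaf 0)) (.node (.leaf 9641) (.leaf 0)))) (.node (.node (.node (.leaf 14552) (.leaf 3697)) (.node (.leaf 2806) (.leaf 0))) (.node (.node (.leaf 6990) (.leaf 0)) (.node (.leaf 3089) (.leaf 0)))))) (.node (.node (.node (.node (.node (.leaf 11331) (.leaf 14129)) (.node (.leaf 11981) (.leaf 0))) (.node (.node (.leaf 1937) (.leaf 9746)) (.node (.leaf 4472) (.leaf 0)))) (.node (.node (.node (.leaf 8182) (.leaf 8610)) (.node (.leaf 11866) (.leaf 0))) (.node (.node (.leaf 17377) (.leaf 0)) (.node (.leaf 9441) (.leaf 0))))) (.node (.node (.node (.node (.leaf 7750) (.leaf 15589)) (.node (.leaf 11430) (.leaf 0))) (.node (.node (.leaf 20010) (.leaf 0)) (.node (.leaf 976) (.leaf 0)))) (.node (.node (.node (.leaf 16903) (.leaf 20335)) (.node (.leaf 960) (.leaf 0))) (.node (.node (.leaf 1592) (.leaf 0)) (.node (.leaf 17737) (.leaf 0)))))))) (.node (.node (.node (.node (.node (.node (.node (.leaf 14495) (.leaf 2095)) (.node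 (.leaf 16130) (.leaf 0))) (.node (.node (.leaf 16364) (.leaf 14345)) (.node (.leaf 7932) (.leaf 0)))) (.node (.node (.node (.leaf 7852) (.leaf 3900)) (.node (.leaf 10481) (.leaf 0))) (.node (.node (.leaf 17570) (.leaf 0)) (.node (.leaf 3925) (.leaf 0))))) (.node (.node (.node (.node (.leaf 17257) (.leaf 3486)) (.node (.leaf 1783) (.leaf 0))) (.node (.node (.leaf 12224) (.leaf 0)) (.node (.leaf 17426) (.leaf 0)))) (.node (.node (.node (.leaf 18256) (.leaf 8001)) (.node (.leaf 3216) (.leaf 0))) (.node (.node (.leaf 3092) (.leaf 0)) (.node (.leaf 19284) (.leaf 0)))))) (.node (.node (.node (.node (.node (.leaf 12527) (.leaf 14190)) (.node (.leaf 13689) (.leaf 0))) (.node (.node (.leaf 20951) (.leaf 17793)) (.node (.leaf 6861) (.leaf 0)))) (.node (.node (.node (.leaf 14326) (.leaf 6393)) (.node (.leaf 20481) (.leaf 0))) (.node (.node (.leaf 12584) (.leaf 0)) (.node (.leaf 7888) (.leaf 0))))) (.node (.node (.node (.node (.leaf 16259) (.leaf 8130)) (.node (.leaf 9057) (.leaf 0))) (.node (.node (.leaf 20705)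 (.leaf 0)) (.node (.leaf 2701) (.leaf 0)))) (.node (.node (.node (.leaf 14043) (.leaf 18477)) (.node (.leaf 17084) (.leaf 0))) (.node (.node (.leaf 17840) (.leaf 0)) (.node (.leaf 10623) (.leaf 0))))))) (.node (.node (.node (.node (.node (.node (.leaf 12668) (.leaf 9058)) (.node (.leaf 1185) (.leaf 0))) (.node (.node (.leaf 6802) (.leaf 12268)) (.node (.leaf 15862) (.leaf 0)))) (.node (.node (.node (.leaf 12474) (.leaf 18362)) (.node (.leaf 1540) (.leaf 0))) (.node (.node (.leaf 8861) (.leaf 0)) (.node (.leaf 5313) (.leaf 0))))) (.node (.node (.node (.node (.leaf 15414) (.leaf 19770)) (.node (.leaf 9403) (.leaf 0))) (.node (.node (.leaf 9350) (.leaf 0)) (.node (.leaf 9869) (.leaf 0)))) (.node (.node (.node (.leaf 7016) (.leaf 235)) (.node (.leaf 1154) (.leaf 0))) (.node (.node (.leaf 16564) (.leaf 0)) (.node (.leaf 5389) (.leaf 0)))))) (.node (.node (.node (.node (.node (.leaf 10258) (.leaf 17925)) (.node (.leaf 9517) (.leaf 0))) (.node (.node (.leaf 4895) (.leaf 812)) (.node (.leaf 1440) (.leaf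 0)))) (.node (.node (.node (.leaf 7629) (.leaf 12694)) (.node (.leaf 21265) (.leaf 0))) (.node (.node (.leaf 19781) (.leaf 0)) (.node (.leaf 21196) (.leaf 0))))) (.node (.node (.node (.node (.leaf 15350) (.leaf 2580)) (.node (.leaf 4847) (.leaf 0))) (.node (.node (.leaf 13337) (.leaf 0)) (.node (.leaf 12506) (.leaf 0)))) (.node (.node (.node (.leaf 8094) (.leaf 13536)) (.node (.leaf 14101) (.leaf 0))) (.node (.node (.leaf 434) (.leaf 0)) (.node (.leaf 8053) (.leaf 0)))))))))

/-- part of a table -/
def ordK47 : Trie := (.node (.node (.node (.node (.node (.node (.node (.node (.leaf 5315) (.leaf 4411)) (.node (.leaf 15887) (.leaf 0))) (.node (.node (.leaf 21054) (.leaf 3178)) (.node (.leaf 2987) (.leaf 0)))) (.node (.node (.node (.leaf 12488) (.leaf 6085)) (.node (.leaf 6702) (.leaf 0))) (.node (.node (.leaf 3337) (.leaf 0)) (.node (.leaf 10502) (.leaf 0))))) (.node (.node (.node (.node (.leaf 6515) (.leaf 2749)) (.node (.leaf 15017) (.leaf 0))) (.node (.node (.leaf 19676) (.leaf 0)) (.node (.leaf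 4562) (.leaf 0)))) (.node (.node (.node (.leaf 9389) (.leaf 21154)) (.node (.leaf 2689) (.leaf 0))) (.node (.node (.leaf 19495) (.leaf 0)) (.node (.leaf 6611) (.leaf 0)))))) (.node (.node (.node (.node (.node (.leaf 16365) (.leaf 15330)) (.node (.leaf 9385) (.leaf 0))) (.node (.node (.leaf 20378) (.leaf 2428)) (.node (.leaf 14476) (.leaf 0)))) (.node (.node (.node (.leaf 16426) (.leaf 10662)) (.node (.leaf 20473) (.leaf 0))) (.node (.node (.leaf 14617) (.leaf 0)) (.node (.leaf 9042) (.leaf 0))))) (.node (.node (.node (.node (.leaf 6209) (.leaf 237)) (.node (.leaf 8673) (.leaf 0))) (.node (.node (.leaf 20821) (.leaf 0)) (.node (.leaf 7392) (.leaf 0)))) (.node (.node (.node (.leaf 16517) (.leaf 885)) (.node (.leaf 3080) (.leaf 0))) (.node (.node (.leaf 8693) (.leaf 0)) (.node (.leaf 490) (.leaf 0))))))) (.node (.node (.node (.node (.node (.node (.leaf 5651) (.leaf 9733)) (.node (.leaf 5112) (.leaf 0))) (.node (.node (.leaf 2786) (.leaf 9434)) (.node (.leaf 8056) (.leaf 0)))) (.node (.node (.node (.leaf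 1076) (.leaf 9027)) (.node (.leaf 7433) (.leaf 0))) (.node (.node (.leaf 11782) (.leaf 0)) (.node (.leaf 14885) (.leaf 0))))) (.node (.node (.node (.node (.leaf 20890) (.leaf 5398)) (.node (.leaf 13430) (.leaf 0))) (.node (.node (.leaf 7202) (.leaf 0)) (.node (.leaf 12593) (.leaf 0)))) (.node (.node (.node (.leaf 6551) (.leaf 12996)) (.node (.leaf 17372) (.leaf 0))) (.node (.node (.leaf 15441) (.leaf 0)) (.node (.leaf 10684) (.leaf 0)))))) (.node (.node (.node (.node (.node (.leaf 414) (.leaf 21336)) (.node (.leaf 17634) (.leaf 0))) (.node (.node (.leaf 14098) (.leaf 15374)) (.node (.leaf 7135) (.leaf 0)))) (.node (.node (.node (.leaf 2337) (.leaf 1513)) (.node (.leaf 18583) (.leaf 0))) (.node (.node (.leaf 9445) (.leaf 0)) (.node (.leaf 539) (.leaf 0))))) (.node (.node (.node (.node (.leaf 8938) (.leaf 6410)) (.node (.leaf 16148) (.leaf 0))) (.node (.node (.leaf 3595) (.leaf 0)) (.node (.leaf 3863) (.leaf 0)))) (.node (.node (.node (.leaf 9282) (.leaf 6146)) (.node (.leaf 17180) (.leaf 0))) (.node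 (.node (.leaf 1197) (.leaf 0)) (.node (.leaf 19196) (.leaf 0)))))))) (.node (.node (.node (.node (.node (.node (.node (.leaf 5226) (.leaf 20004)) (.node (.leaf 3014) (.leaf 0))) (.node (.node (.leaf 1779) (.leaf 20887)) (.node (.leaf 13911) (.leaf 0)))) (.node (.node (.node (.leaf 20566) (.leaf 7313)) (.node (.leaf 4381) (.leaf 0))) (.node (.node (.leaf 7890) (.leaf 0)) (.node (.leaf 10123) (.leaf 0))))) (.node (.node (.node (.node (.leaf 7142) (.leaf 14434)) (.node (.leaf 15398) (.leaf 0))) (.node (.node (.leaf 15157) (.leaf 0)) (.node (.leaf 13156) (.leaf 0)))) (.node (.node (.node (.leaf 9825) (.leaf 3723)) (.node (.leaf 4657) (.leaf 0))) (.node (.node (.leaf 4109) (.leaf 0)) (.node (.leaf 16736) (.leaf 0)))))) (.node (.node (.node (.node (.node (.leaf 12318) (.leaf 8829)) (.node (.leaf 1713) (.leaf 0))) (.node (.node (.leaf 2702) (.leaf 15951)) (.node (.leaf 1825) (.leaf 0)))) (.node (.node (.node (.leaf 12790) (.leaf 20954)) (.node (.leaf 19231) (.leaf 0))) (.node (.node (.leaf 1809) (.leaf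 0)) (.node (.leaf 3023) (.leaf 0))))) (.node (.node (.node (.node (.leaf 7469) (.leaf 4749)) (.node (.leaf 4794) (.leaf 0))) (.node (.node (.leaf 10254) (.leaf 0)) (.node (.leaf 19672) (.leaf 0)))) (.node (.node (.node (.leaf 18612) (.leaf 12626)) (.node (.leaf 1365) (.leaf 0))) (.node (.node (.leaf 21030) (.leaf 0)) (.node (.leaf 4922) (.leaf 0))))))) (.node (.node (.node (.node (.node (.node (.leaf 8584) (.leaf 8632)) (.node (.leaf 14061) (.leaf 0))) (.node (.node (.leaf 8002) (.leaf 3094)) (.node (.leaf 3579) (.leaf 0)))) (.node (.node (.node (.leaf 8958) (.leaf 7875)) (.node (.leaf 21297) (.leaf 0))) (.node (.node (.leaf 10025) (.leaf 0)) (.node (.leaf 5672) (.leaf 0))))) (.node (.node (.node (.node (.leaf 18440) (.leaf 5632)) (.node (.leaf 14040) (.leaf 0))) (.node (.node (.leaf 16456) (.leaf 0)) (.node (.leaf 18924) (.leaf 0)))) (.node (.node (.node (.leaf 14075) (.leaf 13548)) (.node (.leaf 18375) (.leaf 0))) (.node (.node (.leaf 14828) (.leaf 0)) (.node (.leaf 3422) (.leaf 0)))))) (.node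 (.node (.node (.node (.node (.leaf 18702) (.leaf 12332)) (.node (.leaf 9437) (.leaf 0))) (.node (.node (.leaf 389) (.leaf 19050)) (.node (.leaf 5773) (.leaf 0)))) (.node (.node (.node (.leaf 14628) (.leaf 1889)) (.node (.leaf 1096) (.leaf 0))) (.node (.node (.leaf 13947) (.leaf 0)) (.node (.leaf 15050) (.leaf 0))))) (.node (.node (.node (.node (.leaf 1941) (.leaf 9843)) (.node (.leaf 19935) (.leaf 0))) (.node (.node (.leaf 8615) (.leaf 0)) (.node (.leaf 9236) (.leaf 0)))) (.node (.node (.node (.leaf 5709) (.leaf 1876)) (.node (.leaf 8346) (.leaf 0))) (.node (.node (.leaf 17640) (.leaf 0)) (.node (.leaf 14983) (.leaf 0)))))))))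

/-- part of a table -/
def ordK48 : Trie := (.node (.node (.node (.node (.node (.node (.node (.node (.leaf 20288) (.leaf 11637)) (.node (.leaf 17893) (.leaf 0))) (.node (.node (.leaf 3884) (.leaf 352)) (.node (.leaf 858) (.leaf 0)))) (.node (.node (.node (.leaf 7736) (.leaf 8658)) (.node (.leaf 364) (.leaf 0))) (.node (.node (.leaf 7651) (.leaf 0)) (.node (.leaf 2903) (.leaf 0))))) (.node (.node (.node (.node (.leaf 3245) (.leaf 17849)) (.node (.leaf 11524) (.leaf 0))) (.node (.node (.leaf 5598) (.leaf 0)) (.node (.leaf 19869) (.leaf 0)))) (.node (.node (.node (.leaf 17240) (.leaf 19905)) (.node (.leaf 16152) (.leaf 0))) (.node (.node (.leaf 14468) (.leaf 0)) (.node (.leaf 7195) (.leaf 0)))))) (.node (.node (.node (.node (.node (.leaf 16602) (.leaf 16585)) (.node (.leaf 19507) (.leaf 0))) (.node (.node (.leaf 222) (.leaf 6672)) (.node (.leaf 18957) (.leaf 0)))) (.node (.node (.node (.leaf 21214) (.leaf 12534)) (.node (.leaf 14937) (.leaf 0))) (.node (.node (.leaf 11291) (.leaf 0)) (.node (.leaf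 9559) (.leaf 0))))) (.node (.node (.node (.node (.leaf 2799) (.leaf 17658)) (.node (.leaf 14202) (.leaf 0))) (.node (.node (.leaf 13170) (.leaf 0)) (.node (.leaf 12254) (.leaf 0)))) (.node (.node (.node (.leaf 5830) (.leaf 13939)) (.node (.leaf 17405) (.leaf 0))) (.node (.node (.leaf 20234) (.leaf 0)) (.node (.leaf 3232) (.leaf 0))))))) (.node (.node (.node (.node (.node (.node (.leaf 6892) (.leaf 14436)) (.node (.leaf 13322) (.leaf 0))) (.node (.node (.leaf 9022) (.leaf 12115)) (.node (.leaf 10127) (.leaf 0)))) (.node (.node (.node (.leaf 9979) (.leaf 8769)) (.node (.leaf 3420) (.leaf 0))) (.node (.node (.leaf 11949) (.leaf 0)) (.node (.leaf 5727) (.leaf 0))))) (.node (.node (.node (.node (.leaf 2583) (.leaf 6001)) (.node (.leaf 5634) (.leaf 0))) (.node (.node (.leaf 5113) (.leaf 0)) (.node (.leaf 150) (.leaf 0)))) (.node (.node (.node (.leaf 12116) (.leaf 2730)) (.node (.leaf 6188) (.leaf 0))) (.node (.node (.leaf 16714) (.leaf 0)) (.node (.leaf 9611) (.leaf 0)))))) (.node (.node (.node (.node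 (.node (.leaf 1633) (.leaf 6723)) (.node (.leaf 16392) (.leaf 0))) (.node (.node (.leaf 536) (.leaf 10728)) (.node (.leaf 12140) (.leaf 0)))) (.node (.node (.node (.leaf 19051) (.leaf 16934)) (.node (.leaf 21105) (.leaf 0))) (.node (.node (.leaf 13406) (.leaf 0)) (.node (.leaf 4658) (.leaf 0))))) (.node (.node (.node (.node (.leaf 12076) (.leaf 3800)) (.node (.leaf 16886) (.leaf 0))) (.node (.node (.leaf 6795) (.leaf 0)) (.node (.leaf 9563) (.leaf 0)))) (.node (.node (.node (.leaf 2807) (.leaf 13679)) (.node (.leaf 1582) (.leaf 0))) (.node (.node (.leaf 347) (.leaf 0)) (.node (.leaf 16007) (.leaf 0)))))))) (.node (.node (.node (.node (.node (.node (.node (.leaf 16331) (.leaf 17627)) (.node (.leaf 8132) (.leaf 0))) (.node (.node (.leaf 4642) (.leaf 11485)) (.node (.leaf 2185) (.leaf 0)))) (.node (.node (.node (.leaf 14487) (.leaf 16781)) (.node (.leaf 928) (.leaf 0))) (.node (.node (.leaf 1759) (.leaf 0)) (.node (.leaf 6775) (.leaf 0))))) (.node (.node (.node (.node (.leaf 7691) (.leaf 17299)) (.node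 (.leaf 1810) (.leaf 0))) (.node (.node (.leaf 13270) (.leaf 0)) (.node (.leaf 17147) (.leaf 0)))) (.node (.node (.node (.leaf 766) (.leaf 4262)) (.node (.leaf 15943) (.leaf 0))) (.node (.node (.leaf 13325) (.leaf 0)) (.node (.leaf 13099) (.leaf 0)))))) (.node (.node (.node (.node (.node (.leaf 11482) (.leaf 4310)) (.node (.leaf 387) (.leaf 0))) (.node (.node (.leaf 9422) (.leaf 5167)) (.node (.leaf 7007) (.leaf 0)))) (.node (.node (.node (.leaf 13787) (.leaf 20074)) (.node (.leaf 211) (.leaf 0))) (.node (.node (.leaf 19087) (.leaf 0)) (.node (.leaf 9380) (.leaf 0))))) (.node (.node (.node (.node (.leaf 18177) (.leaf 19254)) (.node (.leaf 5475) (.leaf 0))) (.node (.node (.leaf 8357) (.leaf 0)) (.node (.leaf 20352) (.leaf 0)))) (.node (.node (.node (.leaf 9608) (.leaf 3594)) (.node (.leaf 11322) (.leaf 0))) (.node (.node (.leaf 7261) (.leaf 0)) (.node (.leaf 3785) (.leaf 0))))))) (.node (.node (.node (.node (.node (.node (.leaf 18995) (.leaf 16876)) (.node (.leaf 7512) (.leaf 0))) (.node (.node (.leaf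 2098) (.leaf 4096)) (.node (.leaf 1047) (.leaf 0)))) (.node (.node (.node (.leaf 6769) (.leaf 6432)) (.node (.leaf 2866) (.leaf 0))) (.node (.node (.leaf 15944) (.leaf 0)) (.node (.leaf 12143) (.leaf 0))))) (.node (.node (.node (.node (.leaf 17333) (.leaf 9026)) (.node (.leaf 5324) (.leaf 0))) (.node (.node (.leaf 12552) (.leaf 0)) (.node (.leaf 15655) (.leaf 0)))) (.node (.node (.node (.leaf 13210) (.leaf 2997)) (.node (.leaf 7376) (.leaf 0))) (.node (.node (.leaf 5367) (.leaf 0)) (.node (.leaf 9030) (.leaf 0)))))) (.node (.node (.node (.node (.node (.leaf 18294) (.leaf 18405)) (.node (.leaf 19974) (.leaf 0))) (.node (.node (.leaf 18254) (.leaf 11064)) (.node (.leaf 19095) (.leaf 0)))) (.node (.node (.node (.leaf 16652) (.leaf 14830)) (.node (.leaf 11130) (.leaf 0))) (.node (.node (.leaf 1715) (.leaf 0)) (.node (.leaf 13013) (.leaf 0))))) (.node (.node (.node (.node (.leaf 10084) (.leaf 3557)) (.node (.leaf 19428) (.leaf 0))) (.node (.node (.leaf 14482) (.leaf 0)) (.node (.leaf 309) (.leaf 0))))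 (.node (.node (.node (.leaf 3762) (.leaf 19964)) (.node (.leaf 7776) (.leaf 0))) (.node (.node (.leaf 6743) (.leaf 0)) (.node (.leaf 14382) (.leaf 0)))))))))

/-- part of a table -/
def ordK49 : Trie := (.node (.node (.node (.node (.node (.node (.node (.node (.leaf 12483) (.leaf 17691)) (.node (.leaf 17706) (.leaf 0))) (.node (.node (.leaf 9271) (.leaf 7315)) (.node (.leaf 14550) (.leaf 0)))) (.node (.node (.node (.leaf 12238) (.leaf 6274)) (.node (.leaf 1777) (.leaf 0))) (.node (.node (.leaf 13024) (.leaf 0)) (.node (.leaf 14942) (.leaf 0))))) (.node (.node (.node (.node (.leaf 9878) (.leaf 15553)) (.node (.leaf 59) (.leaf 0))) (.node (.node (.leaf 5278) (.leaf 0)) (.node (.leaf 13603) (.leaf 0)))) (.node (.node (.node (.leaf 11394) (.leaf 7372)) (.node (.leaf 18517) (.leaf 0))) (.node (.node (.leaf 5306) (.leaf 0)) (.node (.leaf 11740) (.leaf 0)))))) (.node (.node (.node (.node (.node (.leaf 4915) (.leaf 14549)) (.node (.leaf 4013) (.leaf 0))) (.node (.node (.leaf 3130) (.leaf 15084)) (.node (.leaf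 2690) (.leaf 0)))) (.node (.node (.node (.leaf 11222) (.leaf 12331)) (.node (.leaf 17960) (.leaf 0))) (.node (.node (.leaf 1002) (.leaf 0)) (.node (.leaf 10612) (.leaf 0))))) (.node (.node (.node (.node (.leaf 7116) (.leaf 21009)) (.node (.leaf 9419) (.leaf 0))) (.node (.node (.leaf 18135) (.leaf 0)) (.node (.leaf 17600) (.leaf 0)))) (.node (.node (.node (.leaf 20495) (.leaf 20644)) (.node (.leaf 12097) (.leaf 0))) (.node (.node (.leaf 13824) (.leaf 0)) (.node (.leaf 5325) (.leaf 0))))))) (.node (.node (.node (.node (.node (.node (.leaf 13696) (.leaf 19910)) (.node (.leaf 17753) (.leaf 0))) (.node (.node (.leaf 12509) (.leaf 7119)) (.node (.leaf 19157) (.leaf 0)))) (.node (.node (.node (.leaf 7724) (.leaf 15764)) (.node (.leaf 18947) (.leaf 0))) (.node (.node (.leaf 21139) (.leaf 0)) (.node (.leaf 14806) (.leaf 0))))) (.node (.node (.node (.node (.leaf 19004) (.leaf 16420)) (.node (.leaf 10835) (.leaf 0))) (.node (.node (.leaf 12637) (.leaf 0)) (.node (.leaf 18826) (.leaf 0)))) (.node (.node (.node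 (.leaf 9458) (.leaf 7819)) (.node (.leaf 20548) (.leaf 0))) (.node (.node (.leaf 5368) (.leaf 0)) (.node (.leaf 2340) (.leaf 0)))))) (.node (.node (.node (.node (.node (.leaf 13054) (.leaf 13032)) (.node (.leaf 8374) (.leaf 0))) (.node (.node (.leaf 13606) (.leaf 6342)) (.node (.leaf 16416) (.leaf 0)))) (.node (.node (.node (.leaf 20486) (.leaf 9647)) (.node (.leaf 2479) (.leaf 0))) (.node (.node (.leaf 11257) (.leaf 0)) (.node (.leaf 17754) (.leaf 0))))) (.node (.node (.node (.node (.leaf 6477) (.leaf 14562)) (.node (.leaf 13803) (.leaf 0))) (.node (.node (.leaf 15015) (.leaf 0)) (.node (.leaf 864) (.leaf 0)))) (.node (.node (.node (.leaf 21216) (.leaf 18546)) (.node (.leaf 20049) (.leaf 0))) (.node (.node (.leaf 1839) (.leaf 0)) (.node (.leaf 5069) (.leaf 0)))))))) (.node (.node (.node (.node (.node (.node (.node (.leaf 12464) (.leaf 8502)) (.node (.leaf 5490) (.leaf 0))) (.node (.node (.leaf 4401) (.leaf 1531)) (.node (.leaf 1707) (.leaf 0)))) (.node (.node (.node (.leaf 7684) (.leaf 18092)) (.node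 (.leaf 17712) (.leaf 0))) (.node (.node (.leaf 9829) (.leaf 0)) (.node (.leaf 21151) (.leaf 0))))) (.node (.node (.node (.node (.leaf 18512) (.leaf 5486)) (.node (.leaf 6329) (.leaf 0))) (.node (.node (.leaf 19249) (.leaf 0)) (.node (.leaf 5076) (.leaf 0)))) (.node (.node (.node (.leaf 6404) (.leaf 633)) (.node (.leaf 16493) (.leaf 0))) (.node (.node (.leaf 2032) (.leaf 0)) (.node (.leaf 17819) (.leaf 0)))))) (.node (.node (.node (.node (.node (.leaf 9333) (.leaf 4606)) (.node (.leaf 15261) (.leaf 0))) (.node (.node (.leaf 10785) (.leaf 6786)) (.node (.leaf 15228) (.leaf 0)))) (.node (.node (.node (.leaf 4170) (.leaf 5956)) (.node (.leaf 7821) (.leaf 0))) (.node (.node (.leaf 12521) (.leaf 0)) (.node (.leaf 19799) (.leaf 0))))) (.node (.node (.node (.node (.leaf 19169) (.leaf 15132)) (.node (.leaf 72) (.leaf 0))) (.node (.node (.leaf 4781) (.leaf 0)) (.node (.leaf 2421) (.leaf 0)))) (.node (.node (.node (.leaf 15786) (.leaf 16066)) (.node (.leaf 1192) (.leaf 0))) (.node (.node (.leaf 2248) (.leaf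 0)) (.node (.leaf 17546) (.leaf 0))))))) (.node (.node (.node (.node (.node (.node (.leaf 19682) (.leaf 4012)) (.node (.leaf 15578) (.leaf 0))) (.node (.node (.leaf 8818) (.leaf 18021)) (.node (.leaf 7275) (.leaf 0)))) (.node (.node (.node (.leaf 636) (.leaf 10462)) (.node (.leaf 21110) (.leaf 0))) (.node (.node (.leaf 2798) (.leaf 0)) (.node (.leaf 17199) (.leaf 0))))) (.node (.node (.node (.node (.leaf 3391) (.leaf 14515)) (.node (.leaf 8181) (.leaf 0))) (.node (.node (.leaf 19490) (.leaf 0)) (.node (.leaf 6297) (.leaf 0)))) (.node (.node (.node (.leaf 11985) (.leaf 17532)) (.node (.leaf 2142) (.leaf 0))) (.node (.node (.leaf 17303) (.leaf 0)) (.node (.leaf 791) (.leaf 0)))))) (.node (.node (.node (.node (.node (.leaf 21189) (.leaf 12667)) (.node (.leaf 19729) (.leaf 0))) (.node (.node (.leaf 1104) (.leaf 18441)) (.node (.leaf 11849) (.leaf 0)))) (.node (.node (.node (.leaf 4053) (.leaf 7431)) (.node (.leaf 3426) (.leaf 0))) (.node (.node (.leaf 12397) (.leaf 0)) (.node (.leaf 19889) (.leaf 0)))))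 (.node (.node (.node (.node (.leaf 2192) (.leaf 1327)) (.node (.leaf 18932) (.leaf 0))) (.node (.node (.leaf 18566) (.leaf 0)) (.node (.leaf 20246) (.leaf 0)))) (.node (.node (.node (.leaf 18425) (.leaf 15090)) (.node (.leaf 15464) (.leaf 0))) (.node (.node (.leaf 1757) (.leaf 0)) (.node (.leaf 13454) (.leaf 0)))))))))

/-- part of a table -/
def ordK50 : Trie := (.node (.node (.node (.node (.node (.node (.node (.node (.leaf 5911) (.leaf 8548)) (.node (.leaf 18670) (.leaf 0))) (.node (.node (.leaf 19810) (.leaf 1769)) (.node (.leaf 18767) (.leaf 0)))) (.node (.node (.node (.leaf 8855) (.leaf 16170)) (.node (.leaf 13081) (.leaf 0))) (.node (.node (.leaf 153) (.leaf 0)) (.node (.leaf 2345) (.leaf 0))))) (.node (.node (.node (.node (.leaf 14221) (.leaf 1070)) (.node (.leaf 7825) (.leaf 0))) (.node (.node (.leaf 20436) (.leaf 0)) (.node (.leaf 1408) (.leaf 0)))) (.node (.node (.node (.leaf 6671) (.leaf 591)) (.node (.leaf 19247) (.leaf 0))) (.node (.node (.leaf 9745) (.leaf 0)) (.node (.leaf 1368) (.leaf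 0)))))) (.node (.node (.node (.node (.node (.leaf 16368) (.leaf 9760)) (.node (.leaf 12911) (.leaf 0))) (.node (.node (.leaf 10544) (.leaf 9085)) (.node (.leaf 10713) (.leaf 0)))) (.node (.node (.node (.leaf 13259) (.leaf 7214)) (.node (.leaf 5566) (.leaf 0))) (.node (.node (.leaf 10922) (.leaf 0)) (.node (.leaf 10905) (.leaf 0))))) (.node (.node (.node (.node (.leaf 7188) (.leaf 17355)) (.node (.leaf 10266) (.leaf 0))) (.node (.node (.leaf 3416) (.leaf 0)) (.node (.leaf 15788) (.leaf 0)))) (.node (.node (.node (.leaf 20862) (.leaf 1766)) (.node (.leaf 8494) (.leaf 0))) (.node (.node (.leaf 15014) (.leaf 0)) (.node (.leaf 10219) (.leaf 0))))))) (.node (.node (.node (.node (.node (.node (.leaf 2946) (.leaf 2042)) (.node (.leaf 13071) (.leaf 0))) (.node (.node (.leaf 18109) (.leaf 9457)) (.node (.leaf 3435) (.leaf 0)))) (.node (.node (.node (.leaf 19473) (.leaf 6549)) (.node (.leaf 11823) (.leaf 0))) (.node (.node (.leaf 8126) (.leaf 0)) (.node (.leaf 11797) (.leaf 0))))) (.node (.node (.node (.node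 (.leaf 3581) (.leaf 20154)) (.node (.leaf 1206) (.leaf 0))) (.node (.node (.leaf 18175) (.leaf 0)) (.node (.leaf 12112) (.leaf 0)))) (.node (.node (.node (.leaf 20398) (.leaf 998)) (.node (.leaf 2085) (.leaf 0))) (.node (.node (.leaf 13233) (.leaf 0)) (.node (.leaf 13253) (.leaf 0)))))) (.node (.node (.node (.node (.node (.leaf 4811) (.leaf 1625)) (.node (.leaf 4088) (.leaf 0))) (.node (.node (.leaf 12719) (.leaf 5487)) (.node (.leaf 15381) (.leaf 0)))) (.node (.node (.node (.leaf 5137) (.leaf 15522)) (.node (.leaf 19104) (.leaf 0))) (.node (.node (.leaf 13294) (.leaf 0)) (.node (.leaf 12037) (.leaf 0))))) (.node (.node (.node (.node (.leaf 15681) (.leaf 17130)) (.node (.leaf 10654) (.leaf 0))) (.node (.node (.leaf 16450) (.leaf 0)) (.node (.leaf 4608) (.leaf 0)))) (.node (.node (.node (.leaf 2769) (.leaf 7067)) (.node (.leaf 19131) (.leaf 0))) (.node (.node (.leaf 2888) (.leaf 0)) (.node (.leaf 6004) (.leaf 0)))))))) (.node (.node (.node (.node (.node (.node (.node (.leaf 8087) (.leaf 2631)) (.node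 (.leaf 15609) (.leaf 0))) (.node (.node (.leaf 20721) (.leaf 17663)) (.node (.leaf 9235) (.leaf 0)))) (.node (.node (.node (.leaf 5828) (.leaf 2863)) (.node (.leaf 18655) (.leaf 0))) (.node (.node (.leaf 1564) (.leaf 0)) (.node (.leaf 8272) (.leaf 0))))) (.node (.node (.node (.node (.leaf 6492) (.leaf 9804)) (.node (.leaf 15518) (.leaf 0))) (.node (.node (.leaf 20454) (.leaf 0)) (.node (.leaf 7555) (.leaf 0)))) (.node (.node (.node (.leaf 17001) (.leaf 16355)) (.node (.leaf 14332) (.leaf 0))) (.node (.node (.leaf 8716) (.leaf 0)) (.node (.leaf 7815) (.leaf 0)))))) (.node (.node (.node (.node (.node (.leaf 16623) (.leaf 3734)) (.node (.leaf 4468) (.leaf 0))) (.node (.node (.leaf 17684) (.leaf 12400)) (.node (.leaf 3865) (.leaf 0)))) (.node (.node (.node (.leaf 10220) (.leaf 6872)) (.node (.leaf 4339) (.leaf 0))) (.node (.node (.leaf 12366) (.leaf 0)) (.node (.leaf 5980) (.leaf 0))))) (.node (.node (.node (.node (.leaf 21425) (.leaf 17816)) (.node (.leaf 1259) (.leaf 0))) (.node (.node (.leaf 20541)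 (.leaf 0)) (.node (.leaf 5001) (.leaf 0)))) (.node (.node (.node (.leaf 4716) (.leaf 13767)) (.node (.leaf 20672) (.leaf 0))) (.node (.node (.leaf 21035) (.leaf 0)) (.node (.leaf 10389) (.leaf 0))))))) (.node (.node (.node (.node (.node (.node (.leaf 7271) (.leaf 16460)) (.node (.leaf 3407) (.leaf 0))) (.node (.node (.leaf 1407) (.leaf 11788)) (.node (.leaf 5426) (.leaf 0)))) (.node (.node (.node (.leaf 17574) (.leaf 6645)) (.node (.leaf 343) (.leaf 0))) (.node (.node (.leaf 8884) (.leaf 0)) (.node (.leaf 3749) (.leaf 0))))) (.node (.node (.node (.node (.leaf 15540) (.leaf 18009)) (.node (.leaf 5094) (.leaf 0))) (.node (.node (.leaf 9179) (.leaf 0)) (.node (.leaf 8187) (.leaf 0)))) (.node (.node (.node (.leaf 14204) (.leaf 10733)) (.node (.leaf 10902) (.leaf 0))) (.node (.node (.leaf 18235) (.leaf 0)) (.node (.leaf 15603) (.leaf 0)))))) (.node (.node (.node (.node (.node (.leaf 16324) (.leaf 18597)) (.node (.leaf 2115) (.leaf 0))) (.node (.node (.leaf 16881) (.leaf 21472)) (.node (.leaf 17029) (.leaf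 0)))) (.node (.node (.node (.leaf 201) (.leaf 7892)) (.node (.leaf 9373) (.leaf 0))) (.node (.node (.leaf 10044) (.leaf 0)) (.node (.leaf 18357) (.leaf 0))))) (.node (.node (.node (.node (.leaf 42) (.leaf 20379)) (.node (.leaf 5967) (.leaf 0))) (.node (.node (.leaf 361) (.leaf 0)) (.node (.leaf 3885) (.leaf 0)))) (.node (.node (.node (.leaf 20225) (.leaf 20240)) (.node (.leaf 5808) (.leaf 0))) (.node (.node (.leaf 4481) (.leaf 0)) (.node (.leaf 415) (.leaf 0)))))))))

/-- part of a table -/
def ordK51 : Trie := (.node (.node (.node (.node (.node (.node (.node (.node (.leaf 9707) (.leaf 12296)) (.node (.leaf 10322) (.leaf 0))) (.node (.node (.leaf 2013) (.leaf 755)) (.node (.leaf 19156) (.leaf 0)))) (.node (.node (.node (.leaf 4919) (.leaf 2965)) (.node (.leaf 2534) (.leaf 0))) (.node (.node (.leaf 10134) (.leaf 0)) (.node (.leaf 14350) (.leaf 0))))) (.node (.node (.node (.node (.leaf 9317) (.leaf 1032)) (.node (.leaf 8375) (.leaf 0))) (.node (.node (.leaf 15694) (.leaf 0)) (.node (.leaf 1166) (.leaf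 0)))) (.node (.node (.node (.leaf 17732) (.leaf 7588)) (.node (.leaf 14165) (.leaf 0))) (.node (.node (.leaf 7099) (.leaf 0)) (.node (.leaf 13173) (.leaf 0)))))) (.node (.node (.node (.node (.node (.leaf 14557) (.leaf 11757)) (.node (.leaf 21264) (.leaf 0))) (.node (.node (.leaf 3716) (.leaf 9562)) (.node (.leaf 10393) (.leaf 0)))) (.node (.node (.node (.leaf 16535) (.leaf 7032)) (.node (.leaf 18949) (.leaf 0))) (.node (.node (.leaf 5533) (.leaf 0)) (.node (.leaf 9822) (.leaf 0))))) (.node (.node (.node (.node (.leaf 7249) (.leaf 20720)) (.node (.leaf 14363) (.leaf 0))) (.node (.node (.leaf 18622) (.leaf 0)) (.node (.leaf 17965) (.leaf 0)))) (.node (.node (.node (.leaf 7139) (.leaf 820)) (.node (.leaf 14940) (.leaf 0))) (.node (.node (.leaf 1004) (.leaf 0)) (.node (.leaf 13157) (.leaf 0))))))) (.node (.node (.node (.node (.node (.node (.leaf 9122) (.leaf 9613)) (.node (.leaf 11383) (.leaf 0))) (.node (.node (.leaf 4271) (.leaf 17725)) (.node (.leaf 4813) (.leaf 0)))) (.node (.node (.node (.leaf 2743)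 (.leaf 10786)) (.node (.leaf 17095) (.leaf 0))) (.node (.node (.leaf 20844) (.leaf 0)) (.node (.leaf 83) (.leaf 0))))) (.node (.node (.node (.node (.leaf 6377) (.leaf 11212)) (.node (.leaf 2289) (.leaf 0))) (.node (.node (.leaf 4917) (.leaf 0)) (.node (.leaf 12146) (.leaf 0)))) (.node (.node (.node (.leaf 17726) (.leaf 6949)) (.node (.leaf 16635) (.leaf 0))) (.node (.node (.leaf 3678) (.leaf 0)) (.node (.leaf 19643) (.leaf 0)))))) (.node (.node (.node (.node (.node (.leaf 6538) (.leaf 17557)) (.node (.leaf 9134) (.leaf 0))) (.node (.node (.leaf 9229) (.leaf 18046)) (.node (.leaf 11860) (.leaf 0)))) (.node (.node (.node (.leaf 12674) (.leaf 7486)) (.node (.leaf 2231) (.leaf 0))) (.node (.node (.leaf 7696) (.leaf 0)) (.node (.leaf 6680) (.leaf 0))))) (.node (.node (.node (.node (.leaf 200) (.leaf 20830)) (.node (.leaf 19450) (.leaf 0))) (.node (.node (.leaf 21433) (.leaf 0)) (.node (.leaf 11627) (.leaf 0)))) (.node (.node (.node (.leaf 14124) (.leaf 14859)) (.node (.leaf 3392) (.leaf 0))) (.node (.node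 (.leaf 9185) (.leaf 0)) (.node (.leaf 20426) (.leaf 0)))))))) (.node (.node (.node (.node (.node (.node (.node (.leaf 15391) (.leaf 20713)) (.node (.leaf 15716) (.leaf 0))) (.node (.node (.leaf 3819) (.leaf 4556)) (.node (.leaf 4033) (.leaf 0)))) (.node (.node (.node (.leaf 4818) (.leaf 5660)) (.node (.leaf 3183) (.leaf 0))) (.node (.node (.leaf 6250) (.leaf 0)) (.node (.leaf 12295) (.leaf 0))))) (.node (.node (.node (.node (.leaf 18404) (.leaf 5534)) (.node (.leaf 21407) (.leaf 0))) (.node (.node (.leaf 12221) (.leaf 0)) (.node (.leaf 2796) (.leaf 0)))) (.node (.node (.node (.leaf 16985) (.leaf 5906)) (.node (.leaf 2301) (.leaf 0))) (.node (.node (.leaf 16501) (.leaf 0)) (.node (.leaf 15580) (.leaf 0)))))) (.node (.node (.node (.node (.node (.leaf 13905) (.leaf 13557)) (.node (.leaf 8195) (.leaf 0))) (.node (.node (.leaf 13735) (.leaf 480)) (.node (.leaf 5442) (.leaf 0)))) (.node (.node (.node (.leaf 758) (.leaf 18433)) (.node (.leaf 6888) (.leaf 0))) (.node (.node (.leaf 3327) (.leaf 0)) (.node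 (.leaf 13414) (.leaf 0))))) (.node (.node (.node (.node (.leaf 21421) (.leaf 18594)) (.node (.leaf 21252) (.leaf 0))) (.node (.node (.leaf 3510) (.leaf 0)) (.node (.leaf 3825) (.leaf 0)))) (.node (.node (.node (.leaf 12969) (.leaf 3309)) (.node (.leaf 18022) (.leaf 0))) (.node (.node (.leaf 7491) (.leaf 0)) (.node (.leaf 3987) (.leaf 0))))))) (.node (.node (.node (.node (.node (.node (.leaf 2787) (.leaf 5044)) (.node (.leaf 1012) (.leaf 0))) (.node (.node (.leaf 12024) (.leaf 280)) (.node (.leaf 9339) (.leaf 0)))) (.node (.node (.node (.leaf 20097) (.leaf 14004)) (.node (.leaf 16549) (.leaf 0))) (.node (.node (.leaf 4998) (.leaf 0)) (.node (.leaf 147) (.leaf 0))))) (.node (.node (.node (.node (.leaf 9697) (.leaf 6844)) (.node (.leaf 18201) (.leaf 0))) (.node (.node (.leaf 9682) (.leaf 0)) (.node (.leaf 16735) (.leaf 0)))) (.node (.node (.node (.leaf 8722) (.leaf 1457)) (.node (.leaf 17132) (.leaf 0))) (.node (.node (.leaf 10904) (.leaf 0)) (.node (.leaf 2696) (.leaf 0)))))) (.node (.node (.node (.node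 (.node (.leaf 6376) (.leaf 13511)) (.node (.leaf 1829) (.leaf 0))) (.node (.node (.leaf 2252) (.leaf 20032)) (.node (.leaf 5771) (.leaf 0)))) (.node (.node (.node (.leaf 9140) (.leaf 11173)) (.node (.leaf 2049) (.leaf 0))) (.node (.node (.leaf 18571) (.leaf 0)) (.node (.leaf 1015) (.leaf 0))))) (.node (.node (.node (.node (.leaf 6619) (.leaf 18117)) (.node (.leaf 14886) (.leaf 0))) (.node (.node (.leaf 9593) (.leaf 0)) (.node (.leaf 12329) (.leaf 0)))) (.node (.node (.node (.leaf 4043) (.leaf 6614)) (.node (.leaf 5206) (.leaf 0))) (.node (.node (.leaf 15196) (.leaf 0)) (.node (.leaf 7707) (.leaf 0)))))))))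

/-- part of a table -/
def ordK52 : Trie := (.node (.node (.node (.node (.node (.node (.node (.node (.leaf 19017) (.leaf 2632)) (.node (.leaf 3436) (.leaf 0))) (.node (.node (.leaf 16311) (.leaf 12732)) (.node (.leaf 2413) (.leaf 0)))) (.node (.node (.node (.leaf 18073) (.leaf 16677)) (.node (.leaf 7655) (.leaf 0))) (.node (.node (.leaf 15434) (.leaf 0)) (.node (.leaf 10362) (.leaf 0))))) (.node (.node (.node (.node (.leaf 7177) (.leaf 13251)) (.node (.leaf 9884) (.leaf 0))) (.node (.node (.leaf 8496) (.leaf 0)) (.node (.leaf 7051) (.leaf 0)))) (.node (.node (.node (.leaf 6603) (.leaf 3584)) (.node (.leaf 10765) (.leaf 0))) (.node (.node (.leaf 15098) (.leaf 0)) (.node (.leaf 5238) (.leaf 0)))))) (.node (.node (.node (.node (.node (.leaf 15317) (.leaf 17711)) (.node (.leaf 8845) (.leaf 0))) (.node (.node (.leaf 2908) (.leaf 20011)) (.node (.leaf 4607) (.leaf 0)))) (.node (.node (.node (.leaf 12275) (.leaf 8775)) (.node (.leaf 824) (.leaf 0))) (.node (.node (.leaf 4180) (.leaf 0)) (.node (.leaf 19899)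 (.leaf 0))))) (.node (.node (.node (.node (.leaf 8157) (.leaf 3818)) (.node (.leaf 1572) (.leaf 0))) (.node (.node (.leaf 20272) (.leaf 0)) (.node (.leaf 379) (.leaf 0)))) (.node (.node (.node (.leaf 12234) (.leaf 7046)) (.node (.leaf 14339) (.leaf 0))) (.node (.node (.leaf 21155) (.leaf 0)) (.node (.leaf 670) (.leaf 0))))))) (.node (.node (.node (.node (.node (.node (.leaf 5578) (.leaf 9792)) (.node (.leaf 7636) (.leaf 0))) (.node (.node (.leaf 5644) (.leaf 14271)) (.node (.leaf 16452) (.leaf 0)))) (.node (.node (.node (.leaf 8119) (.leaf 9600)) (.node (.leaf 1279) (.leaf 0))) (.node (.node (.leaf 9596) (.leaf 0)) (.node (.leaf 21343) (.leaf 0))))) (.node (.node (.node (.node (.leaf 713) (.leaf 3902)) (.node (.leaf 20902) (.leaf 0))) (.node (.node (.leaf 8854) (.leaf 0)) (.node (.leaf 13866) (.leaf 0)))) (.node (.node (.node (.leaf 5596) (.leaf 2854)) (.node (.leaf 15260) (.leaf 0))) (.node (.node (.leaf 12669) (.leaf 0)) (.node (.leaf 20683) (.leaf 0)))))) (.node (.node (.node (.node (.node (.leaf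 11921) (.leaf 18041)) (.node (.leaf 15994) (.leaf 0))) (.node (.node (.leaf 14103) (.leaf 15202)) (.node (.leaf 3091) (.leaf 0)))) (.node (.node (.node (.leaf 8859) (.leaf 7558)) (.node (.leaf 18785) (.leaf 0))) (.node (.node (.leaf 17628) (.leaf 0)) (.node (.leaf 426) (.leaf 0))))) (.node (.node (.node (.node (.leaf 1398) (.leaf 7493)) (.node (.leaf 9290) (.leaf 0))) (.node (.node (.leaf 15654) (.leaf 0)) (.node (.leaf 11041) (.leaf 0)))) (.node (.node (.node (.leaf 21247) (.leaf 10423)) (.node (.leaf 12408) (.leaf 0))) (.node (.node (.leaf 9516) (.leaf 0)) (.node (.leaf 3591) (.leaf 0)))))))) (.node (.node (.node (.node (.node (.node (.node (.leaf 8043) (.leaf 1134)) (.node (.leaf 19312) (.leaf 0))) (.node (.node (.leaf 21465) (.leaf 6431)) (.node (.leaf 13137) (.leaf 0)))) (.node (.node (.node (.leaf 19420) (.leaf 11137)) (.node (.leaf 2793) (.leaf 0))) (.node (.node (.leaf 21362) (.leaf 0)) (.node (.leaf 184) (.leaf 0))))) (.node (.node (.node (.node (.leaf 13121) (.leaf 12187)) (.node (.leaf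 717) (.leaf 0))) (.node (.node (.leaf 4356) (.leaf 0)) (.node (.leaf 3550) (.leaf 0)))) (.node (.node (.node (.leaf 5349) (.leaf 6461)) (.node (.leaf 13809) (.leaf 0))) (.node (.node (.leaf 18638) (.leaf 0)) (.node (.leaf 18413) (.leaf 0)))))) (.node (.node (.node (.node (.node (.leaf 19856) (.leaf 11541)) (.node (.leaf 16228) (.leaf 0))) (.node (.node (.leaf 11237) (.leaf 1464)) (.node (.leaf 14413) (.leaf 0)))) (.node (.node (.node (.leaf 7518) (.leaf 5601)) (.node (.leaf 7454) (.leaf 0))) (.node (.node (.leaf 20872) (.leaf 0)) (.node (.leaf 4123) (.leaf 0))))) (.node (.node (.node (.node (.leaf 14282) (.leaf 3324)) (.node (.leaf 20997) (.leaf 0))) (.node (.node (.leaf 10485) (.leaf 0)) (.node (.leaf 7317) (.leaf 0)))) (.node (.node (.node (.leaf 14252) (.leaf 14630)) (.node (.leaf 11601) (.leaf 0))) (.node (.node (.leaf 8991) (.leaf 0)) (.node (.leaf 1207) (.leaf 0))))))) (.node (.node (.node (.node (.node (.node (.leaf 8566) (.leaf 267)) (.node (.leaf 14758) (.leaf 0))) (.node (.node (.leaf 18664)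 (.leaf 20825)) (.node (.leaf 4709) (.leaf 0)))) (.node (.node (.node (.leaf 10390) (.leaf 14310)) (.node (.leaf 13494) (.leaf 0))) (.node (.node (.leaf 11690) (.leaf 0)) (.node (.leaf 5468) (.leaf 0))))) (.node (.node (.node (.node (.leaf 12273) (.leaf 9897)) (.node (.leaf 9988) (.leaf 0))) (.node (.node (.leaf 1273) (.leaf 0)) (.node (.leaf 3920) (.leaf 0)))) (.node (.node (.node (.leaf 15429) (.leaf 14586)) (.node (.leaf 32) (.leaf 0))) (.node (.node (.leaf 13920) (.leaf 0)) (.node (.leaf 7023) (.leaf 0)))))) (.node (.node (.node (.node (.node (.leaf 837) (.leaf 15331)) (.node (.leaf 20302) (.leaf 0))) (.node (.node (.leaf 729) (.leaf 3437)) (.node (.leaf 11781) (.leaf 0)))) (.node (.node (.node (.leaf 6976) (.leaf 2511)) (.node (.leaf 6466) (.leaf 0))) (.node (.node (.leaf 10296) (.leaf 0)) (.node (.leaf 3869) (.leaf 0))))) (.node (.node (.node (.node (.leaf 15571) (.leaf 6542)) (.node (.leaf 14644) (.leaf 0))) (.node (.node (.leaf 10834) (.leaf 0)) (.node (.leaf 12741) (.leaf 0)))) (.node (.node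 (.node (.leaf 16527) (.leaf 18747)) (.node (.leaf 10445) (.leaf 0))) (.node (.node (.leaf 3823) (.leaf 0)) (.node (.leaf 16145) (.leaf 0)))))))))

/-- part of a table -/
def ordK53 : Trie := (.node (.node (.node (.node (.node (.node (.node (.node (.leaf 14637) (.leaf 892)) (.node (.leaf 20153) (.leaf 0))) (.node (.node (.leaf 21104) (.leaf 17380)) (.node (.leaf 11758) (.leaf 0)))) (.node (.node (.node (.leaf 15276) (.leaf 8221)) (.node (.leaf 16151) (.leaf 0))) (.node (.node (.leaf 5100) (.leaf 0)) (.node (.leaf 6987) (.leaf 0))))) (.node (.node (.node (.node (.leaf 6998) (.leaf 5716)) (.node (.leaf 4089) (.leaf 0))) (.node (.node (.leaf 16867) (.leaf 0)) (.node (.leaf 8101) (.leaf 0)))) (.node (.node (.node (.leaf 8600) (.leaf 2800)) (.node (.leaf 16665) (.leaf 0))) (.node (.node (.leaf 19649) (.leaf 0)) (.node (.leaf 2704) (.leaf 0)))))) (.node (.node (.node (.node (.node (.leaf 16521) (.leaf 1688)) (.node (.leaf 7461) (.leaf 0))) (.node (.node (.leaf 16447) (.leaf 12666)) (.node (.leaf 13715)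 (.leaf 0)))) (.node (.node (.node (.leaf 17324) (.leaf 14615)) (.node (.leaf 11670) (.leaf 0))) (.node (.node (.leaf 11343) (.leaf 0)) (.node (.leaf 3362) (.leaf 0))))) (.node (.node (.node (.node (.leaf 9148) (.leaf 14568)) (.node (.leaf 1171) (.leaf 0))) (.node (.node (.leaf 12558) (.leaf 0)) (.node (.leaf 3593) (.leaf 0)))) (.node (.node (.node (.leaf 13235) (.leaf 8532)) (.node (.leaf 11724) (.leaf 0))) (.node (.node (.leaf 18483) (.leaf 0)) (.node (.leaf 13021) (.leaf 0))))))) (.node (.node (.node (.node (.node (.node (.leaf 7041) (.leaf 7606)) (.node (.leaf 11727) (.leaf 0))) (.node (.node (.leaf 13320) (.leaf 11432)) (.node (.leaf 2977) (.leaf 0)))) (.node (.node (.node (.leaf 8930) (.leaf 4942)) (.node (.leaf 4489) (.leaf 0))) (.node (.node (.leaf 2605) (.leaf 0)) (.node (.leaf 11166) (.leaf 0))))) (.node (.node (.node (.node (.leaf 9731) (.leaf 21307)) (.node (.leaf 934) (.leaf 0))) (.node (.node (.leaf 839) (.leaf 0)) (.node (.leaf 17437) (.leaf 0)))) (.node (.node (.node (.leaf 4182) (.leaf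 3155)) (.node (.leaf 3189) (.leaf 0))) (.node (.node (.leaf 13921) (.leaf 0)) (.node (.leaf 5527) (.leaf 0)))))) (.node (.node (.node (.node (.node (.leaf 3242) (.leaf 7559)) (.node (.leaf 9883) (.leaf 0))) (.node (.node (.leaf 10833) (.leaf 4065)) (.node (.leaf 3291) (.leaf 0)))) (.node (.node (.node (.leaf 11488) (.leaf 2788)) (.node (.leaf 1221) (.leaf 0))) (.node (.node (.leaf 11500) (.leaf 0)) (.node (.leaf 12039) (.leaf 0))))) (.node (.node (.node (.node (.leaf 12505) (.leaf 12649)) (.node (.leaf 13260) (.leaf 0))) (.node (.node (.leaf 6296) (.leaf 0)) (.node (.leaf 10062) (.leaf 0)))) (.node (.node (.node (.leaf 3140) (.leaf 7551)) (.node (.leaf 12274) (.leaf 0))) (.node (.node (.leaf 19318) (.leaf 0)) (.node (.leaf 1733) (.leaf 0)))))))) (.node (.node (.node (.node (.node (.node (.node (.leaf 14472) (.leaf 4629)) (.node (.leaf 6863) (.leaf 0))) (.node (.node (.leaf 11009) (.leaf 14309)) (.node (.leaf 17156) (.leaf 0)))) (.node (.node (.node (.leaf 17294) (.leaf 15188)) (.node (.leaf 5988)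 (.leaf 0))) (.node (.node (.leaf 19641) (.leaf 0)) (.node (.leaf 3533) (.leaf 0))))) (.node (.node (.node (.node (.leaf 4072) (.leaf 17269)) (.node (.leaf 15933) (.leaf 0))) (.node (.node (.leaf 8176) (.leaf 0)) (.node (.leaf 7197) (.leaf 0)))) (.node (.node (.node (.leaf 9004) (.leaf 11852)) (.node (.leaf 6876) (.leaf 0))) (.node (.node (.leaf 19140) (.leaf 0)) (.node (.leaf 14760) (.leaf 0)))))) (.node (.node (.node (.node (.node (.leaf 4108) (.leaf 15774)) (.node (.leaf 11390) (.leaf 0))) (.node (.node (.leaf 8856) (.leaf 2651)) (.node (.leaf 7447) (.leaf 0)))) (.node (.node (.node (.leaf 9005) (.leaf 3821)) (.node (.leaf 11378) (.leaf 0))) (.node (.node (.leaf 10138) (.leaf 0)) (.node (.leaf 15176) (.leaf 0))))) (.node (.node (.node (.node (.leaf 17766) (.leaf 13890)) (.node (.leaf 14882) (.leaf 0))) (.node (.node (.leaf 21037) (.leaf 0)) (.node (.leaf 4752) (.leaf 0)))) (.node (.node (.node (.leaf 7763) (.leaf 8156)) (.node (.leaf 8256) (.leaf 0))) (.node (.node (.leaf 7057) (.leaf 0)) (.node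 (.leaf 13399) (.leaf 0))))))) (.node (.node (.node (.node (.node (.node (.leaf 20165) (.leaf 13358)) (.node (.leaf 8235) (.leaf 0))) (.node (.node (.leaf 16830) (.leaf 6422)) (.node (.leaf 14130) (.leaf 0)))) (.node (.node (.node (.leaf 2498) (.leaf 15289)) (.node (.leaf 11730) (.leaf 0))) (.node (.node (.leaf 20105) (.leaf 0)) (.node (.leaf 6348) (.leaf 0))))) (.node (.node (.node (.node (.leaf 17478) (.leaf 7761)) (.node (.leaf 13020) (.leaf 0))) (.node (.node (.leaf 11950) (.leaf 0)) (.node (.leaf 20535) (.leaf 0)))) (.node (.node (.node (.leaf 9548) (.leaf 18833)) (.node (.leaf 16071) (.leaf 0))) (.node (.node (.leaf 20497) (.leaf 0)) (.node (.leaf 18768) (.leaf 0)))))) (.node (.node (.node (.node (.node (.leaf 19525) (.leaf 1248)) (.node (.leaf 16097) (.leaf 0))) (.node (.node (.leaf 1747) (.leaf 9690)) (.node (.leaf 11354) (.leaf 0)))) (.node (.node (.node (.leaf 19333) (.leaf 437)) (.node (.leaf 7620) (.leaf 0))) (.node (.node (.leaf 1927) (.leaf 0)) (.node (.leaf 9875) (.leaf 0))))) (.node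 (.node (.node (.node (.leaf 17520) (.leaf 6025)) (.node (.leaf 8791) (.leaf 0))) (.node (.node (.leaf 6972) (.leaf 0)) (.node (.leaf 9273) (.leaf 0)))) (.node (.node (.node (.leaf 16240) (.leaf 2841)) (.node (.leaf 10756) (.leaf 0))) (.node (.node (.leaf 4019) (.leaf 0)) (.node (.leaf 19538) (.leaf 0)))))))))

/-- part of a table -/
def ordK54 : Trie := (.node (.node (.node (.node (.node (.node (.node (.node (.leaf 7981) (.leaf 10722)) (.node (.leaf 11063) (.leaf 0))) (.node (.node (.leaf 14682) (.leaf 7026)) (.node (.leaf 8417) (.leaf 0)))) (.node (.node (.node (.leaf 20813) (.leaf 10097)) (.node (.leaf 16792) (.leaf 0))) (.node (.node (.leaf 11157) (.leaf 0)) (.node (.leaf 3514) (.leaf 0))))) (.node (.node (.node (.node (.leaf 10852) (.leaf 10740)) (.node (.leaf 7449) (.leaf 0))) (.node (.node (.leaf 8852) (.leaf 0)) (.node (.leaf 19904) (.leaf 0)))) (.node (.node (.node (.leaf 5087) (.leaf 7244)) (.node (.leaf 18961) (.leaf 0))) (.node (.node (.leaf 16212) (.leaf 0)) (.node (.leaf 7226) (.leaf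 0)))))) (.node (.node (.node (.node (.node (.leaf 8014) (.leaf 4671)) (.node (.leaf 9335) (.leaf 0))) (.node (.node (.leaf 9906) (.leaf 20484)) (.node (.leaf 13682) (.leaf 0)))) (.node (.node (.node (.leaf 9258) (.leaf 14489)) (.node (.leaf 15882) (.leaf 0))) (.node (.node (.leaf 17154) (.leaf 0)) (.node (.leaf 8741) (.leaf 0))))) (.node (.node (.node (.node (.leaf 6027) (.leaf 457)) (.node (.leaf 1270) (.leaf 0))) (.node (.node (.leaf 7224) (.leaf 0)) (.node (.leaf 17783) (.leaf 0)))) (.node (.node (.node (.leaf 9127) (.leaf 12402)) (.node (.leaf 13737) (.leaf 0))) (.node (.node (.leaf 13258) (.leaf 0)) (.node (.leaf 603) (.leaf 0))))))) (.node (.node (.node (.node (.node (.node (.leaf 4190) (.leaf 13748)) (.node (.leaf 17332) (.leaf 0))) (.node (.node (.leaf 20459) (.leaf 18580)) (.node (.leaf 231) (.leaf 0)))) (.node (.node (.node (.leaf 4471) (.leaf 1189)) (.node (.leaf 19402) (.leaf 0))) (.node (.node (.leaf 15164) (.leaf 0)) (.node (.leaf 3073) (.leaf 0))))) (.node (.node (.node (.node (.leaf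 17170) (.leaf 15754)) (.node (.leaf 3237) (.leaf 0))) (.node (.node (.leaf 18040) (.leaf 0)) (.node (.leaf 20210) (.leaf 0)))) (.node (.node (.node (.leaf 7120) (.leaf 2171)) (.node (.leaf 20741) (.leaf 0))) (.node (.node (.leaf 2220) (.leaf 0)) (.node (.leaf 4775) (.leaf 0)))))) (.node (.node (.node (.node (.node (.leaf 11243) (.leaf 6276)) (.node (.leaf 6343) (.leaf 0))) (.node (.node (.leaf 14844) (.leaf 11809)) (.node (.leaf 12576) (.leaf 0)))) (.node (.node (.node (.leaf 20104) (.leaf 738)) (.node (.leaf 11368) (.leaf 0))) (.node (.node (.leaf 88) (.leaf 0)) (.node (.leaf 918) (.leaf 0))))) (.node (.node (.node (.node (.leaf 9927) (.leaf 2474)) (.node (.leaf 6854) (.leaf 0))) (.node (.node (.leaf 3919) (.leaf 0)) (.node (.leaf 2692) (.leaf 0)))) (.node (.node (.node (.leaf 7334) (.leaf 16828)) (.node (.leaf 17329) (.leaf 0))) (.node (.node (.leaf 6840) (.leaf 0)) (.node (.leaf 12020) (.leaf 0)))))))) (.node (.node (.node (.node (.node (.node (.node (.leaf 19999) (.leaf 13792)) (.node (.leaf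 17597) (.leaf 0))) (.node (.node (.leaf 19534) (.leaf 9918)) (.node (.leaf 7780) (.leaf 0)))) (.node (.node (.node (.leaf 9032) (.leaf 16398)) (.node (.leaf 10935) (.leaf 0))) (.node (.node (.leaf 21240) (.leaf 0)) (.node (.leaf 10465) (.leaf 0))))) (.node (.node (.node (.node (.leaf 7538) (.leaf 15958)) (.node (.leaf 2320) (.leaf 0))) (.node (.node (.leaf 9708) (.leaf 0)) (.node (.leaf 20150) (.leaf 0)))) (.node (.node (.node (.leaf 10730) (.leaf 7308)) (.node (.leaf 14033) (.leaf 0))) (.node (.node (.leaf 14296) (.leaf 0)) (.node (.leaf 19135) (.leaf 0)))))) (.node (.node (.node (.node (.node (.leaf 21005) (.leaf 6413)) (.node (.leaf 18103) (.leaf 0))) (.node (.node (.leaf 13995) (.leaf 18174)) (.node (.leaf 902) (.leaf 0)))) (.node (.node (.node (.leaf 3323) (.leaf 7646)) (.node (.leaf 20072) (.leaf 0))) (.node (.node (.leaf 7047) (.leaf 0)) (.node (.leaf 13379) (.leaf 0))))) (.node (.node (.node (.node (.leaf 2030) (.leaf 14861)) (.node (.leaf 10348) (.leaf 0))) (.node (.node (.leaf 21296) (.leaf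 0)) (.node (.leaf 14008) (.leaf 0)))) (.node (.node (.node (.leaf 19106) (.leaf 8516)) (.node (.leaf 21394) (.leaf 0))) (.node (.node (.leaf 19779) (.leaf 0)) (.node (.leaf 7448) (.leaf 0))))))) (.node (.node (.node (.node (.node (.node (.leaf 811) (.leaf 3302)) (.node (.leaf 1615) (.leaf 0))) (.node (.node (.leaf 6849) (.leaf 2763)) (.node (.leaf 17809) (.leaf 0)))) (.node (.node (.node (.leaf 4439) (.leaf 155)) (.node (.leaf 21346) (.leaf 0))) (.node (.node (.leaf 115) (.leaf 0)) (.node (.leaf 12282) (.leaf 0))))) (.node (.node (.node (.node (.leaf 8274) (.leaf 16904)) (.node (.leaf 20421) (.leaf 0))) (.node (.node (.leaf 9597) (.leaf 0)) (.node (.leaf 2849) (.leaf 0)))) (.node (.node (.node (.leaf 14748) (.leaf 9903)) (.node (.leaf 4434) (.leaf 0))) (.node (.node (.leaf 6554) (.leaf 0)) (.node (.leaf 19913) (.leaf 0)))))) (.node (.node (.node (.node (.node (.leaf 4832) (.leaf 11107)) (.node (.leaf 9088) (.leaf 0))) (.node (.node (.leaf 7544) (.leaf 16877)) (.node (.leaf 6140) (.leaf 0)))) (.node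 (.node (.node (.leaf 13242) (.leaf 2557)) (.node (.leaf 129) (.leaf 0))) (.node (.node (.leaf 2658) (.leaf 0)) (.node (.leaf 1617) (.leaf 0))))) (.node (.node (.node (.node (.leaf 4801) (.leaf 14822)) (.node (.leaf 14162) (.leaf 0))) (.node (.node (.leaf 712) (.leaf 0)) (.node (.leaf 10800) (.leaf 0)))) (.node (.node (.node (.leaf 20024) (.leaf 7836)) (.node (.leaf 6067) (.leaf 0))) (.node (.node (.leaf 18062) (.leaf 0)) (.node (.leaf 2307) (.leaf 0)))))))))

/-- part of a table -/
def ordK55 : Trie := (.node (.node (.node (.node (.node (.node (.node (.node (.leaf 4308) (.leaf 4630)) (.node (.leaf 9689) (.leaf 0))) (.node (.node (.leaf 18914) (.leaf 8034)) (.node (.leaf 16154) (.leaf 0)))) (.node (.node (.node (.leaf 18991) (.leaf 19941)) (.node (.leaf 18) (.leaf 0))) (.node (.node (.leaf 5760) (.leaf 0)) (.node (.leaf 20254) (.leaf 0))))) (.node (.node (.node (.node (.leaf 5414) (.leaf 16925)) (.node (.leaf 1477) (.leaf 0))) (.node (.node (.leaf 288) (.leaf 0)) (.node (.leaf 8819) (.leaf 0)))) (.node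 (.node (.node (.leaf 4593) (.leaf 7262)) (.node (.leaf 13552) (.leaf 0))) (.node (.node (.leaf 5521) (.leaf 0)) (.node (.leaf 20691) (.leaf 0)))))) (.node (.node (.node (.node (.node (.leaf 20440) (.leaf 14817)) (.node (.leaf 20635) (.leaf 0))) (.node (.node (.leaf 18740) (.leaf 863)) (.node (.leaf 218) (.leaf 0)))) (.node (.node (.node (.leaf 10626) (.leaf 7505)) (.node (.leaf 2161) (.leaf 0))) (.node (.node (.leaf 16905) (.leaf 0)) (.node (.leaf 14435) (.leaf 0))))) (.node (.node (.node (.node (.leaf 4999) (.leaf 21161)) (.node (.leaf 17179) (.leaf 0))) (.node (.node (.leaf 2934) (.leaf 0)) (.node (.leaf 18098) (.leaf 0)))) (.node (.node (.node (.leaf 17797) (.leaf 14140)) (.node (.leaf 10565) (.leaf 0))) (.node (.node (.leaf 16846) (.leaf 0)) (.node (.leaf 10057) (.leaf 0))))))) (.node (.node (.node (.node (.node (.node (.leaf 16645) (.leaf 16141)) (.node (.leaf 1399) (.leaf 0))) (.node (.node (.leaf 18427) (.leaf 11828)) (.node (.leaf 10103) (.leaf 0)))) (.node (.node (.node (.leaf 10325) (.leaf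 4721)) (.node (.leaf 11007) (.leaf 0))) (.node (.node (.leaf 9178) (.leaf 0)) (.node (.leaf 18065) (.leaf 0))))) (.node (.node (.node (.node (.leaf 20445) (.leaf 5786)) (.node (.leaf 8868) (.leaf 0))) (.node (.node (.leaf 5963) (.leaf 0)) (.node (.leaf 8901) (.leaf 0)))) (.node (.node (.node (.leaf 18867) (.leaf 4203)) (.node (.leaf 16811) (.leaf 0))) (.node (.node (.leaf 12058) (.leaf 0)) (.node (.leaf 5924) (.leaf 0)))))) (.node (.node (.node (.node (.node (.leaf 20855) (.leaf 1503)) (.node (.leaf 4698) (.leaf 0))) (.node (.node (.leaf 15142) (.leaf 18301)) (.node (.leaf 3011) (.leaf 0)))) (.node (.node (.node (.leaf 7464) (.leaf 20517)) (.node (.leaf 9935) (.leaf 0))) (.node (.node (.leaf 21079) (.leaf 0)) (.node (.leaf 917) (.leaf 0))))) (.node (.node (.node (.node (.leaf 11726) (.leaf 4288)) (.node (.leaf 13205) (.leaf 0))) (.node (.node (.leaf 10366) (.leaf 0)) (.node (.leaf 11231) (.leaf 0)))) (.node (.node (.node (.leaf 20185) (.leaf 1827)) (.node (.leaf 2254) (.leaf 0))) (.node (.node (.leaf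 5470) (.leaf 0)) (.node (.leaf 4920) (.leaf 0)))))))) (.node (.node (.node (.node (.node (.node (.node (.leaf 11711) (.leaf 5248)) (.node (.leaf 20220) (.leaf 0))) (.node (.node (.leaf 3951) (.leaf 14381)) (.node (.leaf 77) (.leaf 0)))) (.node (.node (.node (.leaf 14415) (.leaf 17446)) (.node (.leaf 17894) (.leaf 0))) (.node (.node (.leaf 10449) (.leaf 0)) (.node (.leaf 12775) (.leaf 0))))) (.node (.node (.node (.node (.leaf 522) (.leaf 366)) (.node (.leaf 19226) (.leaf 0))) (.node (.node (.leaf 20289) (.leaf 0)) (.node (.leaf 6032) (.leaf 0)))) (.node (.node (.node (.leaf 16866) (.leaf 19510)) (.node (.leaf 14274) (.leaf 0))) (.node (.node (.leaf 4822) (.leaf 0)) (.node (.leaf 9439) (.leaf 0)))))) (.node (.node (.node (.node (.node (.leaf 20955) (.leaf 19037)) (.node (.leaf 2086) (.leaf 0))) (.node (.node (.leaf 229) (.leaf 15499)) (.node (.leaf 10102) (.leaf 0)))) (.node (.node (.node (.leaf 16983) (.leaf 17358)) (.node (.leaf 11589) (.leaf 0))) (.node (.node (.leaf 3981) (.leaf 0)) (.node (.leaf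 10943) (.leaf 0))))) (.node (.node (.node (.node (.leaf 4924) (.leaf 10595)) (.node (.leaf 18339) (.leaf 0))) (.node (.node (.leaf 14698) (.leaf 0)) (.node (.leaf 6127) (.leaf 0)))) (.node (.node (.node (.leaf 19280) (.leaf 472)) (.node (.leaf 19555) (.leaf 0))) (.node (.node (.leaf 17113) (.leaf 0)) (.node (.leaf 2227) (.leaf 0))))))) (.node (.node (.node (.node (.node (.node (.leaf 7350) (.leaf 8162)) (.node (.leaf 3341) (.leaf 0))) (.node (.node (.leaf 9101) (.leaf 4675)) (.node (.leaf 3910) (.leaf 0)))) (.node (.node (.node (.leaf 1627) (.leaf 6753)) (.node (.leaf 17233) (.leaf 0))) (.node (.node (.leaf 14591) (.leaf 0)) (.node (.leaf 15642) (.leaf 0))))) (.node (.node (.node (.node (.leaf 20814) (.leaf 8252)) (.node (.leaf 18839) (.leaf 0))) (.node (.node (.leaf 13713) (.leaf 0)) (.node (.leaf 20697) (.leaf 0)))) (.node (.node (.node (.leaf 15150) (.leaf 13385)) (.node (.leaf 17058) (.leaf 0))) (.node (.node (.leaf 19257) (.leaf 0)) (.node (.leaf 8372) (.leaf 0)))))) (.node (.node (.node (.node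 (.node (.leaf 4347) (.leaf 6673)) (.node (.leaf 17395) (.leaf 0))) (.node (.node (.leaf 7436) (.leaf 13813)) (.node (.leaf 21120) (.leaf 0)))) (.node (.node (.node (.leaf 21358) (.leaf 11113)) (.node (.leaf 9951) (.leaf 0))) (.node (.node (.leaf 6928) (.leaf 0)) (.node (.leaf 13660) (.leaf 0))))) (.node (.node (.node (.node (.leaf 20120) (.leaf 18964)) (.node (.leaf 12855) (.leaf 0))) (.node (.node (.leaf 4412) (.leaf 0)) (.node (.leaf 18084) (.leaf 0)))) (.node (.node (.node (.leaf 3877) (.leaf 21430)) (.node (.leaf 18955) (.leaf 0))) (.node (.node (.leaf 9827) (.leaf 0)) (.node (.leaf 4693) (.leaf 0)))))))))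

/-- part of a table -/
def ordK56 : Trie := (.node (.node (.node (.node (.node (.node (.node (.node (.leaf 5993) (.leaf 19311)) (.node (.leaf 20328) (.leaf 0))) (.node (.node (.leaf 2334) (.leaf 8233)) (.node (.leaf 16586) (.leaf 0)))) (.node (.node (.node (.leaf 842) (.leaf 20442)) (.node (.leaf 18675) (.leaf 0))) (.node (.node (.leaf 12456) (.leaf 0)) (.node (.leaf 16442) (.leaf 0))))) (.node (.node (.node (.node (.leaf 17529) (.leaf 2216)) (.node (.leaf 5392) (.leaf 0))) (.node (.node (.leaf 9386) (.leaf 0)) (.node (.leaf 533) (.leaf 0)))) (.node (.node (.node (.leaf 11106) (.leaf 11708)) (.node (.leaf 2155) (.leaf 0))) (.node (.node (.leaf 5372) (.leaf 0)) (.node (.leaf 5582) (.leaf 0)))))) (.node (.node (.node (.node (.node (.leaf 15487) (.leaf 12468)) (.node (.leaf 10513) (.leaf 0))) (.node (.node (.leaf 17889) (.leaf 1247)) (.node (.leaf 823) (.leaf 0)))) (.node (.node (.node (.leaf 20061) (.leaf 18003)) (.node (.leaf 219) (.leaf 0))) (.node (.node (.leaf 13754) (.leaf 0)) (.node (.leaf 20242)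 (.leaf 0))))) (.node (.node (.node (.node (.leaf 15945) (.leaf 10856)) (.node (.leaf 13710) (.leaf 0))) (.node (.node (.leaf 16711) (.leaf 0)) (.node (.leaf 4393) (.leaf 0)))) (.node (.node (.node (.leaf 5948) (.leaf 20551)) (.node (.leaf 11339) (.leaf 0))) (.node (.node (.leaf 11050) (.leaf 0)) (.node (.leaf 757) (.leaf 0))))))) (.node (.node (.node (.node (.node (.node (.leaf 19022) (.leaf 3352)) (.node (.leaf 17625) (.leaf 0))) (.node (.node (.leaf 11718) (.leaf 17054)) (.node (.leaf 18120) (.leaf 0)))) (.node (.node (.node (.leaf 8683) (.leaf 21225)) (.node (.leaf 3063) (.leaf 0))) (.node (.node (.leaf 10931) (.leaf 0)) (.node (.leaf 10587) (.leaf 0))))) (.node (.node (.node (.node (.leaf 12369) (.leaf 13774)) (.node (.leaf 5722) (.leaf 0))) (.node (.node (.leaf 15275) (.leaf 0)) (.node (.leaf 8949) (.leaf 0)))) (.node (.node (.node (.leaf 9452) (.leaf 14144)) (.node (.leaf 10987) (.leaf 0))) (.node (.node (.leaf 13912) (.leaf 0)) (.node (.leaf 11413) (.leaf 0)))))) (.node (.node (.node (.node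 (.node (.leaf 17639) (.leaf 7541)) (.node (.leaf 19924) (.leaf 0))) (.node (.node (.leaf 711) (.leaf 4435)) (.node (.leaf 9771) (.leaf 0)))) (.node (.node (.node (.leaf 2996) (.leaf 743)) (.node (.leaf 2774) (.leaf 0))) (.node (.node (.leaf 18967) (.leaf 0)) (.node (.leaf 6104) (.leaf 0))))) (.node (.node (.node (.node (.leaf 6975) (.leaf 14793)) (.node (.leaf 15286) (.leaf 0))) (.node (.node (.leaf 18097) (.leaf 0)) (.node (.leaf 18847) (.leaf 0)))) (.node (.node (.node (.leaf 10091) (.leaf 7898)) (.node (.leaf 13701) (.leaf 0))) (.node (.node (.leaf 6490) (.leaf 0)) (.node (.leaf 14667) (.leaf 0)))))))) (.node (.node (.node (.node (.node (.node (.node (.leaf 746) (.leaf 17482)) (.node (.leaf 4858) (.leaf 0))) (.node (.node (.leaf 11307) (.leaf 2751)) (.node (.leaf 5434) (.leaf 0)))) (.node (.node (.node (.leaf 3757) (.leaf 2200)) (.node (.leaf 13416) (.leaf 0))) (.node (.node (.leaf 20423) (.leaf 0)) (.node (.leaf 10721) (.leaf 0))))) (.node (.node (.node (.node (.leaf 1604) (.leaf 18906)) (.node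 (.leaf 12621) (.leaf 0))) (.node (.node (.leaf 7982) (.leaf 0)) (.node (.leaf 14028) (.leaf 0)))) (.node (.node (.node (.leaf 14431) (.leaf 20614)) (.node (.leaf 11915) (.leaf 0))) (.node (.node (.leaf 12223) (.leaf 0)) (.node (.leaf 3425) (.leaf 0)))))) (.node (.node (.node (.node (.node (.leaf 5316) (.leaf 2024)) (.node (.leaf 17598) (.leaf 0))) (.node (.node (.leaf 10816) (.leaf 13760)) (.node (.leaf 6332) (.leaf 0)))) (.node (.node (.node (.leaf 671) (.leaf 15345)) (.node (.leaf 64) (.leaf 0))) (.node (.node (.leaf 11407) (.leaf 0)) (.node (.leaf 17236) (.leaf 0))))) (.node (.node (.node (.node (.leaf 21201) (.leaf 7103)) (.node (.leaf 5867) (.leaf 0))) (.node (.node (.leaf 2397) (.leaf 0)) (.node (.leaf 9572) (.leaf 0)))) (.node (.node (.node (.leaf 8952) (.leaf 3075)) (.node (.leaf 9985) (.leaf 0))) (.node (.node (.leaf 9730) (.leaf 0)) (.node (.leaf 962) (.leaf 0))))))) (.node (.node (.node (.node (.node (.node (.leaf 2561) (.leaf 13308)) (.node (.leaf 11625) (.leaf 0))) (.node (.node (.leaf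 7050) (.leaf 18165)) (.node (.leaf 21224) (.leaf 0)))) (.node (.node (.node (.leaf 6093) (.leaf 15643)) (.node (.leaf 11135) (.leaf 0))) (.node (.node (.leaf 12170) (.leaf 0)) (.node (.leaf 11654) (.leaf 0))))) (.node (.node (.node (.node (.leaf 6776) (.leaf 5656)) (.node (.leaf 7399) (.leaf 0))) (.node (.node (.leaf 13553) (.leaf 0)) (.node (.leaf 16584) (.leaf 0)))) (.node (.node (.node (.leaf 13799) (.leaf 12381)) (.node (.leaf 6341) (.leaf 0))) (.node (.node (.leaf 16214) (.leaf 0)) (.node (.leaf 3864) (.leaf 0)))))) (.node (.node (.node (.node (.node (.leaf 3769) (.leaf 5465)) (.node (.leaf 16053) (.leaf 0))) (.node (.node (.leaf 11682) (.leaf 18471)) (.node (.leaf 10260) (.leaf 0)))) (.node (.node (.node (.leaf 12712) (.leaf 6459)) (.node (.leaf 2266) (.leaf 0))) (.node (.node (.leaf 11893) (.leaf 0)) (.node (.leaf 948) (.leaf 0))))) (.node (.node (.node (.node (.leaf 17041) (.leaf 929)) (.node (.leaf 7878) (.leaf 0))) (.node (.node (.leaf 18822) (.leaf 0)) (.node (.leaf 8734) (.leaf 0))))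 (.node (.node (.node (.leaf 3062) (.leaf 1077)) (.node (.leaf 2571) (.leaf 0))) (.node (.node (.leaf 21075) (.leaf 0)) (.node (.leaf 18152) (.leaf 0)))))))))

/-- part of a table -/
def ordK57 : Trie := (.node (.node (.node (.node (.node (.node (.node (.node (.leaf 14908) (.leaf 11)) (.node (.leaf 13095) (.leaf 0))) (.node (.node (.leaf 5712) (.leaf 21173)) (.node (.leaf 20536) (.leaf 0)))) (.node (.node (.node (.leaf 14666) (.leaf 1986)) (.node (.leaf 13551) (.leaf 0))) (.node (.node (.leaf 12243) (.leaf 0)) (.node (.leaf 1086) (.leaf 0))))) (.node (.node (.node (.node (.leaf 5132) (.leaf 8980)) (.node (.leaf 18048) (.leaf 0))) (.node (.node (.leaf 11230) (.leaf 0)) (.node (.leaf 9933) (.leaf 0)))) (.node (.node (.node (.leaf 6201) (.leaf 17952)) (.node (.leaf 15796) (.leaf 0))) (.node (.node (.leaf 16022) (.leaf 0)) (.node (.leaf 19303) (.leaf 0)))))) (.node (.node (.node (.node (.node (.leaf 12848) (.leaf 14611)) (.node (.leaf 5034) (.leaf 0))) (.node (.node (.leaf 491) (.leaf 18171)) (.node (.leaf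 8876) (.leaf 0)))) (.node (.node (.node (.leaf 18402) (.leaf 14002)) (.node (.leaf 6041) (.leaf 0))) (.node (.node (.leaf 12114) (.leaf 0)) (.node (.leaf 17258) (.leaf 0))))) (.node (.node (.node (.node (.leaf 14893) (.leaf 5422)) (.node (.leaf 11880) (.leaf 0))) (.node (.node (.leaf 10072) (.leaf 0)) (.node (.leaf 8676) (.leaf 0)))) (.node (.node (.node (.leaf 9392) (.leaf 1720)) (.node (.leaf 11671) (.leaf 0))) (.node (.node (.leaf 10647) (.leaf 0)) (.node (.leaf 9989) (.leaf 0))))))) (.node (.node (.node (.node (.node (.node (.leaf 3267) (.leaf 13476)) (.node (.leaf 8498) (.leaf 0))) (.node (.node (.leaf 18971) (.leaf 12122)) (.node (.leaf 6333) (.leaf 0)))) (.node (.node (.node (.leaf 21112) (.leaf 12133)) (.node (.leaf 11193) (.leaf 0))) (.node (.node (.leaf 15723) (.leaf 0)) (.node (.leaf 6758) (.leaf 0))))) (.node (.node (.node (.node (.leaf 17804) (.leaf 15377)) (.node (.leaf 19160) (.leaf 0))) (.node (.node (.leaf 1496) (.leaf 0)) (.node (.leaf 7787) (.leaf 0)))) (.node (.node (.node (.leaf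 21308) (.leaf 11592)) (.node (.leaf 386) (.leaf 0))) (.node (.node (.leaf 106) (.leaf 0)) (.node (.leaf 20809) (.leaf 0)))))) (.node (.node (.node (.node (.node (.leaf 17563) (.leaf 4006)) (.node (.leaf 10724) (.leaf 0))) (.node (.node (.leaf 6320) (.leaf 21466)) (.node (.leaf 5030) (.leaf 0)))) (.node (.node (.node (.leaf 3524) (.leaf 9376)) (.node (.leaf 5452) (.leaf 0))) (.node (.node (.leaf 5064) (.leaf 0)) (.node (.leaf 13248) (.leaf 0))))) (.node (.node (.node (.node (.leaf 8407) (.leaf 14670)) (.node (.leaf 17588) (.leaf 0))) (.node (.node (.leaf 7845) (.leaf 0)) (.node (.leaf 19290) (.leaf 0)))) (.node (.node (.node (.leaf 12653) (.leaf 14248)) (.node (.leaf 11221) (.leaf 0))) (.node (.node (.leaf 1251) (.leaf 0)) (.node (.leaf 93) (.leaf 0)))))))) (.node (.node (.node (.node (.node (.node (.node (.leaf 15940) (.leaf 8406)) (.node (.leaf 16698) (.leaf 0))) (.node (.node (.leaf 12933) (.leaf 20629)) (.node (.leaf 11333) (.leaf 0)))) (.node (.node (.node (.leaf 17349) (.leaf 13896)) (.node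 (.leaf 7354) (.leaf 0))) (.node (.node (.leaf 12725) (.leaf 0)) (.node (.leaf 5664) (.leaf 0))))) (.node (.node (.node (.node (.leaf 13111) (.leaf 20025)) (.node (.leaf 15144) (.leaf 0))) (.node (.node (.leaf 20974) (.leaf 0)) (.node (.leaf 11493) (.leaf 0)))) (.node (.node (.node (.leaf 7705) (.leaf 17498)) (.node (.leaf 20931) (.leaf 0))) (.node (.node (.leaf 15867) (.leaf 0)) (.node (.leaf 945) (.leaf 0)))))) (.node (.node (.node (.node (.node (.leaf 9848) (.leaf 14504)) (.node (.leaf 17059) (.leaf 0))) (.node (.node (.leaf 15883) (.leaf 2597)) (.node (.leaf 230) (.leaf 0)))) (.node (.node (.node (.leaf 13158) (.leaf 17356)) (.node (.leaf 2294) (.leaf 0))) (.node (.node (.leaf 13600) (.leaf 0)) (.node (.leaf 20543) (.leaf 0))))) (.node (.node (.node (.node (.leaf 6184) (.leaf 1820)) (.node (.leaf 19890) (.leaf 0))) (.node (.node (.leaf 20631) (.leaf 0)) (.node (.leaf 12378) (.leaf 0)))) (.node (.node (.node (.leaf 20338) (.leaf 2084)) (.node (.leaf 1568) (.leaf 0))) (.node (.node (.leaf 14397)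 (.leaf 0)) (.node (.leaf 16322) (.leaf 0))))))) (.node (.node (.node (.node (.node (.node (.leaf 8057) (.leaf 8844)) (.node (.leaf 13980) (.leaf 0))) (.node (.node (.leaf 5165) (.leaf 15524)) (.node (.leaf 9942) (.leaf 0)))) (.node (.node (.node (.leaf 19984) (.leaf 9433)) (.node (.leaf 19461) (.leaf 0))) (.node (.node (.leaf 6926) (.leaf 0)) (.node (.leaf 14977) (.leaf 0))))) (.node (.node (.node (.node (.leaf 11220) (.leaf 6716)) (.node (.leaf 10056) (.leaf 0))) (.node (.node (.leaf 20845) (.leaf 0)) (.node (.leaf 13435) (.leaf 0)))) (.node (.node (.node (.leaf 18258) (.leaf 14020)) (.node (.leaf 18045) (.leaf 0))) (.node (.node (.leaf 15423) (.leaf 0)) (.node (.leaf 7446) (.leaf 0)))))) (.node (.node (.node (.node (.node (.leaf 10916) (.leaf 12750)) (.node (.leaf 10241) (.leaf 0))) (.node (.node (.leaf 6455) (.leaf 13096)) (.node (.leaf 4870) (.leaf 0)))) (.node (.node (.node (.leaf 10936) (.leaf 6586)) (.node (.leaf 619) (.leaf 0))) (.node (.node (.leaf 15504) (.leaf 0)) (.node (.leaf 11086)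 (.leaf 0))))) (.node (.node (.node (.node (.leaf 17906) (.leaf 19922)) (.node (.leaf 10964) (.leaf 0))) (.node (.node (.leaf 933) (.leaf 0)) (.node (.leaf 2757) (.leaf 0)))) (.node (.node (.node (.leaf 18136) (.leaf 5917)) (.node (.leaf 7130) (.leaf 0))) (.node (.node (.leaf 6249) (.leaf 0)) (.node (.leaf 1511) (.leaf 0)))))))))

/-- part of a table -/
def ordK58 : Trie := (.node (.node (.node (.node (.node (.node (.node (.node (.leaf 6606) (.leaf 10663)) (.node (.leaf 7587) (.leaf 0))) (.node (.node (.leaf 14539) (.leaf 14854)) (.node (.leaf 17829) (.leaf 0)))) (.node (.node (.node (.leaf 18820) (.leaf 12205)) (.node (.leaf 21065) (.leaf 0))) (.node (.node (.leaf 1482) (.leaf 0)) (.node (.leaf 10489) (.leaf 0))))) (.node (.node (.node (.node (.leaf 14812) (.leaf 6148)) (.node (.leaf 8324) (.leaf 0))) (.node (.node (.leaf 11965) (.leaf 0)) (.node (.leaf 18572) (.leaf 0)))) (.node (.node (.node (.leaf 5299) (.leaf 10183)) (.node (.leaf 6556) (.leaf 0))) (.node (.node (.leaf 6231) (.leaf 0)) (.node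 (.leaf 4466) (.leaf 0)))))) (.node (.node (.node (.node (.node (.leaf 9298) (.leaf 20451)) (.node (.leaf 7839) (.leaf 0))) (.node (.node (.leaf 10365) (.leaf 4803)) (.node (.leaf 2958) (.leaf 0)))) (.node (.node (.node (.leaf 12211) (.leaf 20476)) (.node (.leaf 2691) (.leaf 0))) (.node (.node (.leaf 16077) (.leaf 0)) (.node (.leaf 7143) (.leaf 0))))) (.node (.node (.node (.node (.leaf 18755) (.leaf 17319)) (.node (.leaf 7298) (.leaf 0))) (.node (.node (.leaf 10298) (.leaf 0)) (.node (.leaf 7412) (.leaf 0)))) (.node (.node (.node (.leaf 20143) (.leaf 7930)) (.node (.leaf 1033) (.leaf 0))) (.node (.node (.leaf 12815) (.leaf 0)) (.node (.leaf 7517) (.leaf 0))))))) (.node (.node (.node (.node (.node (.node (.leaf 8521) (.leaf 18576)) (.node (.leaf 10223) (.leaf 0))) (.node (.node (.leaf 15416) (.leaf 19181)) (.node (.leaf 15229) (.leaf 0)))) (.node (.node (.node (.leaf 6487) (.leaf 20576)) (.node (.leaf 10001) (.leaf 0))) (.node (.node (.leaf 9681) (.leaf 0)) (.node (.leaf 19577) (.leaf 0))))) (.node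 (.node (.node (.node (.leaf 6322) (.leaf 3263)) (.node (.leaf 3986) (.leaf 0))) (.node (.node (.leaf 13869) (.leaf 0)) (.node (.leaf 6838) (.leaf 0)))) (.node (.node (.node (.leaf 8493) (.leaf 9292)) (.node (.leaf 18699) (.leaf 0))) (.node (.node (.leaf 10874) (.leaf 0)) (.node (.leaf 9934) (.leaf 0)))))) (.node (.node (.node (.node (.node (.leaf 7744) (.leaf 4613)) (.node (.leaf 4437) (.leaf 0))) (.node (.node (.leaf 932) (.leaf 33)) (.node (.leaf 12203) (.leaf 0)))) (.node (.node (.node (.leaf 10215) (.leaf 19954)) (.node (.leaf 9813) (.leaf 0))) (.node (.node (.leaf 12349) (.leaf 0)) (.node (.leaf 7015) (.leaf 0))))) (.node (.node (.node (.node (.leaf 16612) (.leaf 11367)) (.node (.leaf 54) (.leaf 0))) (.node (.node (.leaf 7714) (.leaf 0)) (.node (.leaf 5567) (.leaf 0)))) (.node (.node (.node (.leaf 6817) (.leaf 7576)) (.node (.leaf 18430) (.leaf 0))) (.node (.node (.leaf 4766) (.leaf 0)) (.node (.leaf 20881) (.leaf 0)))))))) (.node (.node (.node (.node (.node (.node (.node (.leaf 3717) (.leaf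 18780)) (.node (.leaf 11557) (.leaf 0))) (.node (.node (.leaf 15123) (.leaf 12335)) (.node (.leaf 6766) (.leaf 0)))) (.node (.node (.node (.leaf 8082) (.leaf 15668)) (.node (.leaf 15380) (.leaf 0))) (.node (.node (.leaf 20298) (.leaf 0)) (.node (.leaf 8401) (.leaf 0))))) (.node (.node (.node (.node (.leaf 98) (.leaf 10022)) (.node (.leaf 4417) (.leaf 0))) (.node (.node (.leaf 12743) (.leaf 0)) (.node (.leaf 15258) (.leaf 0)))) (.node (.node (.node (.leaf 1155) (.leaf 11697)) (.node (.leaf 18118) (.leaf 0))) (.node (.node (.leaf 15839) (.leaf 0)) (.node (.leaf 12835) (.leaf 0)))))) (.node (.node (.node (.node (.node (.leaf 15004) (.leaf 17959)) (.node (.leaf 10988) (.leaf 0))) (.node (.node (.leaf 2975) (.leaf 5)) (.node (.leaf 2976) (.leaf 0)))) (.node (.node (.node (.leaf 3370) (.leaf 11596)) (.node (.leaf 16255) (.leaf 0))) (.node (.node (.leaf 2735) (.leaf 0)) (.node (.leaf 2176) (.leaf 0))))) (.node (.node (.node (.node (.leaf 14652) (.leaf 17444)) (.node (.leaf 10468) (.leaf 0))) (.node (.node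 (.leaf 11869) (.leaf 0)) (.node (.leaf 12342) (.leaf 0)))) (.node (.node (.node (.leaf 17544) (.leaf 4394)) (.node (.leaf 21318) (.leaf 0))) (.node (.node (.leaf 19003) (.leaf 0)) (.node (.leaf 3394) (.leaf 0))))))) (.node (.node (.node (.node (.node (.node (.leaf 5984) (.leaf 12663)) (.node (.leaf 2847) (.leaf 0))) (.node (.node (.leaf 6783) (.leaf 4690)) (.node (.leaf 15511) (.leaf 0)))) (.node (.node (.node (.leaf 142) (.leaf 14169)) (.node (.leaf 20174) (.leaf 0))) (.node (.node (.leaf 10993) (.leaf 0)) (.node (.leaf 2372) (.leaf 0))))) (.node (.node (.node (.node (.leaf 17142) (.leaf 7406)) (.node (.leaf 21222) (.leaf 0))) (.node (.node (.leaf 4057) (.leaf 0)) (.node (.leaf 6044) (.leaf 0)))) (.node (.node (.node (.leaf 13837) (.leaf 11024)) (.node (.leaf 19934) (.leaf 0))) (.node (.node (.leaf 7751) (.leaf 0)) (.node (.leaf 1674) (.leaf 0)))))) (.node (.node (.node (.node (.node (.leaf 3032) (.leaf 1884)) (.node (.leaf 16568) (.leaf 0))) (.node (.node (.leaf 5418) (.leaf 3359)) (.node (.leaf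 9049) (.leaf 0)))) (.node (.node (.node (.leaf 20687) (.leaf 2239)) (.node (.leaf 2646) (.leaf 0))) (.node (.node (.leaf 3190) (.leaf 0)) (.node (.leaf 19591) (.leaf 0))))) (.node (.node (.node (.node (.leaf 17386) (.leaf 15105)) (.node (.leaf 13560) (.leaf 0))) (.node (.node (.leaf 6321) (.leaf 0)) (.node (.leaf 4485) (.leaf 0)))) (.node (.node (.node (.leaf 15031) (.leaf 13758)) (.node (.leaf 777) (.leaf 0))) (.node (.node (.leaf 7649) (.leaf 0)) (.node (.leaf 9129) (.leaf 0)))))))))

/-- part of a table -/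
def ordK59 : Trie := (.node (.node (.node (.node (.node (.node (.node (.node (.leaf 12422) (.leaf 3214)) (.node (.leaf 3583) (.leaf 0))) (.node (.node (.leaf 12823) (.leaf 18716)) (.node (.leaf 18520) (.leaf 0)))) (.node (.node (.node (.leaf 14985) (.leaf 8537)) (.node (.leaf 20271) (.leaf 0))) (.node (.node (.leaf 9125) (.leaf 0)) (.node (.leaf 19239) (.leaf 0))))) (.node (.node (.node (.node (.leaf 12763) (.leaf 21226)) (.node (.leaf 2960) (.leaf 0))) (.node (.node (.leaf 6572) (.leaf 0)) (.node (.leaf 20218) (.leaf 0)))) (.node (.node (.node (.leaf 8590) (.leaf 21067)) (.node (.leaf 12454) (.leaf 0))) (.node (.node (.leaf 18216) (.leaf 0)) (.node (.leaf 1709) (.leaf 0)))))) (.node (.node (.node (.node (.node (.leaf 20427) (.leaf 20091)) (.node (.leaf 10537) (.leaf 0))) (.node (.node (.leaf 16449) (.leaf 14079)) (.node (.leaf 5565) (.leaf 0)))) (.node (.node (.node (.leaf 17739) (.leaf 15028)) (.node (.leaf 4561) (.leaf 0))) (.node (.node (.leaf 4076) (.leaf 0)) (.node (.leaf 10981) (.leaf 0)))))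 (.node (.node (.node (.node (.leaf 3077) (.leaf 14816)) (.node (.leaf 14981) (.leaf 0))) (.node (.node (.leaf 19117) (.leaf 0)) (.node (.leaf 20812) (.leaf 0)))) (.node (.node (.node (.leaf 15532) (.leaf 3980)) (.node (.leaf 13282) (.leaf 0))) (.node (.node (.leaf 17586) (.leaf 0)) (.node (.leaf 5095) (.leaf 0))))))) (.node (.node (.node (.node (.node (.node (.leaf 4741) (.leaf 11015)) (.node (.leaf 2092) (.leaf 0))) (.node (.node (.leaf 5951) (.leaf 18140)) (.node (.leaf 4420) (.leaf 0)))) (.node (.node (.node (.leaf 4159) (.leaf 3850)) (.node (.leaf 12262) (.leaf 0))) (.node (.node (.leaf 19712) (.leaf 0)) (.node (.leaf 7995) (.leaf 0))))) (.node (.node (.node (.node (.leaf 11608) (.leaf 9508)) (.node (.leaf 18975) (.leaf 0))) (.node (.node (.leaf 15490) (.leaf 0)) (.node (.leaf 3049) (.leaf 0)))) (.node (.node (.node (.leaf 17404) (.leaf 10358)) (.node (.leaf 12008) (.leaf 0))) (.node (.node (.leaf 15095) (.leaf 0)) (.node (.leaf 3432) (.leaf 0)))))) (.node (.node (.node (.node (.node (.leaf 4603)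 (.leaf 261)) (.node (.leaf 6428) (.leaf 0))) (.node (.node (.leaf 20908) (.leaf 2143)) (.node (.leaf 11253) (.leaf 0)))) (.node (.node (.node (.leaf 1959) (.leaf 20820)) (.node (.leaf 1291) (.leaf 0))) (.node (.node (.leaf 13115) (.leaf 0)) (.node (.leaf 16561) (.leaf 0))))) (.node (.node (.node (.node (.leaf 2090) (.leaf 6173)) (.node (.leaf 11978) (.leaf 0))) (.node (.node (.leaf 492) (.leaf 0)) (.node (.leaf 19038) (.leaf 0)))) (.node (.node (.node (.leaf 20860) (.leaf 2565)) (.node (.leaf 8997) (.leaf 0))) (.node (.node (.leaf 19917) (.leaf 0)) (.node (.leaf 6525) (.leaf 0)))))))) (.node (.node (.node (.node (.node (.node (.node (.leaf 21048) (.leaf 197)) (.node (.leaf 13627) (.leaf 0))) (.node (.node (.leaf 458) (.leaf 12434)) (.node (.leaf 20065) (.leaf 0)))) (.node (.node (.node (.leaf 19645) (.leaf 20907)) (.node (.leaf 17005) (.leaf 0))) (.node (.node (.leaf 6165) (.leaf 0)) (.node (.leaf 9736) (.leaf 0))))) (.node (.node (.node (.node (.leaf 6306) (.leaf 15713)) (.node (.leaf 18157) (.leaf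 0))) (.node (.node (.leaf 5994) (.leaf 0)) (.node (.leaf 7255) (.leaf 0)))) (.node (.node (.node (.leaf 16337) (.leaf 123)) (.node (.leaf 15413) (.leaf 0))) (.node (.node (.leaf 20900) (.leaf 0)) (.node (.leaf 10841) (.leaf 0)))))) (.node (.node (.node (.node (.node (.leaf 12442) (.leaf 16123)) (.node (.leaf 21380) (.leaf 0))) (.node (.node (.leaf 6548) (.leaf 9164)) (.node (.leaf 3784) (.leaf 0)))) (.node (.node (.node (.leaf 7846) (.leaf 15190)) (.node (.leaf 10207) (.leaf 0))) (.node (.node (.leaf 19501) (.leaf 0)) (.node (.leaf 13224) (.leaf 0))))) (.node (.node (.node (.node (.leaf 20882) (.leaf 502)) (.node (.leaf 16693) (.leaf 0))) (.node (.node (.leaf 21021) (.leaf 0)) (.node (.leaf 7234) (.leaf 0)))) (.node (.node (.node (.leaf 13313) (.leaf 800)) (.node (.leaf 12090) (.leaf 0))) (.node (.node (.leaf 17169) (.leaf 0)) (.node (.leaf 10614) (.leaf 0))))))) (.node (.node (.node (.node (.node (.node (.leaf 16316) (.leaf 13944)) (.node (.leaf 7228) (.leaf 0))) (.node (.node (.leaf 17985) (.leaf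 19860)) (.node (.leaf 13843) (.leaf 0)))) (.node (.node (.node (.leaf 1404) (.leaf 8950)) (.node (.leaf 2992) (.leaf 0))) (.node (.node (.leaf 12861) (.leaf 0)) (.node (.leaf 16619) (.leaf 0))))) (.node (.node (.node (.node (.leaf 15730) (.leaf 9642)) (.node (.leaf 602) (.leaf 0))) (.node (.node (.leaf 17009) (.leaf 0)) (.node (.leaf 10761) (.leaf 0)))) (.node (.node (.node (.leaf 17583) (.leaf 17461)) (.node (.leaf 2476) (.leaf 0))) (.node (.node (.leaf 105) (.leaf 0)) (.node (.leaf 3783) (.leaf 0)))))) (.node (.node (.node (.node (.node (.leaf 19859) (.leaf 18172)) (.node (.leaf 16837) (.leaf 0))) (.node (.node (.leaf 7146) (.leaf 19252)) (.node (.leaf 16410) (.leaf 0)))) (.node (.node (.node (.leaf 8408) (.leaf 993)) (.node (.leaf 8779) (.leaf 0))) (.node (.node (.leaf 14818) (.leaf 0)) (.node (.leaf 1098) (.leaf 0))))) (.node (.node (.node (.node (.leaf 6811) (.leaf 5040)) (.node (.leaf 13611) (.leaf 0))) (.node (.node (.leaf 16740) (.leaf 0)) (.node (.leaf 15551) (.leaf 0)))) (.node (.node (.node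 (.leaf 13171) (.leaf 11795)) (.node (.leaf 2664) (.leaf 0))) (.node (.node (.leaf 3560) (.leaf 0)) (.node (.leaf 3886) (.leaf 0)))))))))

/-- part of a table -/
def ordK60 : Trie := (.node (.node (.node (.node (.node (.node (.node (.node (.leaf 10985) (.leaf 3099)) (.node (.leaf 21172) (.leaf 0))) (.node (.node (.leaf 20334) (.leaf 16303)) (.node (.leaf 6561) (.leaf 0)))) (.node (.node (.node (.leaf 17540) (.leaf 17400)) (.node (.leaf 1182) (.leaf 0))) (.node (.node (.leaf 12202) (.leaf 0)) (.node (.leaf 10096) (.leaf 0))))) (.node (.node (.node (.node (.leaf 10912) (.leaf 4315)) (.node (.leaf 12507) (.leaf 0))) (.node (.node (.leaf 15402) (.leaf 0)) (.node (.leaf 6850) (.leaf 0)))) (.node (.node (.node (.leaf 14791) (.leaf 7189)) (.node (.leaf 11756) (.leaf 0))) (.node (.node (.leaf 10560) (.leaf 0)) (.node (.leaf 9984) (.leaf 0)))))) (.node (.node (.node (.node (.node (.leaf 11133) (.leaf 12948)) (.node (.leaf 3335) (.leaf 0))) (.node (.node (.leaf 13763) (.leaf 8016)) (.node (.leaf 6095) (.leaf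 0)))) (.node (.node (.node (.leaf 6729) (.leaf 12413)) (.node (.leaf 10714) (.leaf 0))) (.node (.node (.leaf 16533) (.leaf 0)) (.node (.leaf 7186) (.leaf 0))))) (.node (.node (.node (.node (.leaf 7552) (.leaf 4820)) (.node (.leaf 19559) (.leaf 0))) (.node (.node (.leaf 21101) (.leaf 0)) (.node (.leaf 8515) (.leaf 0)))) (.node (.node (.node (.leaf 16923) (.leaf 11669)) (.node (.leaf 20399) (.leaf 0))) (.node (.node (.leaf 20064) (.leaf 0)) (.node (.leaf 11215) (.leaf 0))))))) (.node (.node (.node (.node (.node (.node (.leaf 809) (.leaf 3752)) (.node (.leaf 17879) (.leaf 0))) (.node (.node (.leaf 16713) (.leaf 11072)) (.node (.leaf 7008) (.leaf 0)))) (.node (.node (.node (.leaf 16230) (.leaf 8857)) (.node (.leaf 3251) (.leaf 0))) (.node (.node (.leaf 17988) (.leaf 0)) (.node (.leaf 10847) (.leaf 0))))) (.node (.node (.node (.node (.leaf 15757) (.leaf 12619)) (.node (.leaf 8321) (.leaf 0))) (.node (.node (.leaf 16522) (.leaf 0)) (.node (.leaf 13092) (.leaf 0)))) (.node (.node (.node (.leaf 11956) (.leaf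 3115)) (.node (.leaf 9410) (.leaf 0))) (.node (.node (.leaf 8313) (.leaf 0)) (.node (.leaf 21090) (.leaf 0)))))) (.node (.node (.node (.node (.node (.leaf 26) (.leaf 2359)) (.node (.leaf 5391) (.leaf 0))) (.node (.node (.leaf 1225) (.leaf 5930)) (.node (.leaf 19013) (.leaf 0)))) (.node (.node (.node (.leaf 9117) (.leaf 5985)) (.node (.leaf 17342) (.leaf 0))) (.node (.node (.leaf 8503) (.leaf 0)) (.node (.leaf 7365) (.leaf 0))))) (.node (.node (.node (.node (.leaf 781) (.leaf 21032)) (.node (.leaf 3106) (.leaf 0))) (.node (.node (.leaf 3131) (.leaf 0)) (.node (.leaf 9061) (.leaf 0)))) (.node (.node (.node (.leaf 20237) (.leaf 20054)) (.node (.leaf 12210) (.leaf 0))) (.node (.node (.leaf 3051) (.leaf 0)) (.node (.leaf 14508) (.leaf 0)))))))) (.node (.node (.node (.node (.node (.node (.node (.leaf 391) (.leaf 19768)) (.node (.leaf 17977) (.leaf 0))) (.node (.node (.leaf 19730) (.leaf 10335)) (.node (.leaf 12805) (.leaf 0)))) (.node (.node (.node (.leaf 7607) (.leaf 2862)) (.node (.leaf 13661) (.leaf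 0))) (.node (.node (.leaf 19368) (.leaf 0)) (.node (.leaf 12111) (.leaf 0))))) (.node (.node (.node (.node (.leaf 15575) (.leaf 6864)) (.node (.leaf 20490) (.leaf 0))) (.node (.node (.leaf 1544) (.leaf 0)) (.node (.leaf 15949) (.leaf 0)))) (.node (.node (.node (.leaf 16415) (.leaf 14946)) (.node (.leaf 21369) (.leaf 0))) (.node (.node (.leaf 6242) (.leaf 0)) (.node (.leaf 19691) (.leaf 0)))))) (.node (.node (.node (.node (.node (.leaf 20450) (.leaf 12489)) (.node (.leaf 4156) (.leaf 0))) (.node (.node (.leaf 4929) (.leaf 15127)) (.node (.leaf 5570) (.leaf 0)))) (.node (.node (.node (.leaf 284) (.leaf 21138)) (.node (.leaf 8412) (.leaf 0))) (.node (.node (.leaf 7246) (.leaf 0)) (.node (.leaf 14137) (.leaf 0))))) (.node (.node (.node (.node (.leaf 19545) (.leaf 5382)) (.node (.leaf 3104) (.leaf 0))) (.node (.node (.leaf 15857) (.leaf 0)) (.node (.leaf 18273) (.leaf 0)))) (.node (.node (.node (.leaf 20508) (.leaf 6210)) (.node (.leaf 18722) (.leaf 0))) (.node (.node (.leaf 11607) (.leaf 0)) (.node (.leaf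 4193) (.leaf 0))))))) (.node (.node (.node (.node (.node (.node (.leaf 2948) (.leaf 17872)) (.node (.leaf 9195) (.leaf 0))) (.node (.node (.leaf 19868) (.leaf 6363)) (.node (.leaf 1950) (.leaf 0)))) (.node (.node (.node (.leaf 5680) (.leaf 5623)) (.node (.leaf 21480) (.leaf 0))) (.node (.node (.leaf 5128) (.leaf 0)) (.node (.leaf 2293) (.leaf 0))))) (.node (.node (.node (.node (.leaf 12545) (.leaf 8332)) (.node (.leaf 15834) (.leaf 0))) (.node (.node (.leaf 7917) (.leaf 0)) (.node (.leaf 11937) (.leaf 0)))) (.node (.node (.node (.leaf 2318) (.leaf 376)) (.node (.leaf 6626) (.leaf 0))) (.node (.node (.leaf 1835) (.leaf 0)) (.node (.leaf 14412) (.leaf 0)))))) (.node (.node (.node (.node (.node (.leaf 17863) (.leaf 18055)) (.node (.leaf 14019) (.leaf 0))) (.node (.node (.leaf 8995) (.leaf 15181)) (.node (.leaf 14293) (.leaf 0)))) (.node (.node (.node (.leaf 3248) (.leaf 10194)) (.node (.leaf 8433) (.leaf 0))) (.node (.node (.leaf 1793) (.leaf 0)) (.node (.leaf 15241) (.leaf 0))))) (.node (.node (.node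 (.node (.leaf 7530) (.leaf 1978)) (.node (.leaf 4986) (.leaf 0))) (.node (.node (.leaf 16557) (.leaf 0)) (.node (.leaf 19477) (.leaf 0)))) (.node (.node (.node (.leaf 17873) (.leaf 18322)) (.node (.leaf 8444) (.leaf 0))) (.node (.node (.leaf 14542) (.leaf 0)) (.node (.leaf 15483) (.leaf 0)))))))))

/-- part of a table -/
def ordK61 : Trie := (.node (.node (.node (.node (.node (.node (.node (.node (.leaf 13269) (.leaf 18193)) (.node (.leaf 15180) (.leaf 0))) (.node (.node (.leaf 8044) (.leaf 4105)) (.node (.leaf 20857) (.leaf 0)))) (.node (.node (.node (.leaf 17477) (.leaf 7686)) (.node (.leaf 6302) (.leaf 0))) (.node (.node (.leaf 1953) (.leaf 0)) (.node (.leaf 720) (.leaf 0))))) (.node (.node (.node (.node (.leaf 11786) (.leaf 20781)) (.node (.leaf 16774) (.leaf 0))) (.node (.node (.leaf 16835) (.leaf 0)) (.node (.leaf 10910) (.leaf 0)))) (.node (.node (.node (.leaf 4509) (.leaf 17171)) (.node (.leaf 17974) (.leaf 0))) (.node (.node (.leaf 21199) (.leaf 0)) (.node (.leaf 16226) (.leaf 0)))))) (.node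 (.node (.node (.node (.node (.leaf 572) (.leaf 16153)) (.node (.leaf 10329) (.leaf 0))) (.node (.node (.leaf 7844) (.leaf 5464)) (.node (.leaf 19916) (.leaf 0)))) (.node (.node (.node (.leaf 17587) (.leaf 16427)) (.node (.leaf 8284) (.leaf 0))) (.node (.node (.leaf 9369) (.leaf 0)) (.node (.leaf 11027) (.leaf 0))))) (.node (.node (.node (.node (.leaf 10994) (.leaf 12780)) (.node (.leaf 3176) (.leaf 0))) (.node (.node (.leaf 3622) (.leaf 0)) (.node (.leaf 19021) (.leaf 0)))) (.node (.node (.node (.leaf 18037) (.leaf 6534)) (.node (.leaf 8922) (.leaf 0))) (.node (.node (.leaf 20331) (.leaf 0)) (.node (.leaf 5267) (.leaf 0))))))) (.node (.node (.node (.node (.node (.node (.leaf 11516) (.leaf 979)) (.node (.leaf 16734) (.leaf 0))) (.node (.node (.leaf 14242) (.leaf 4181)) (.node (.leaf 903) (.leaf 0)))) (.node (.node (.node (.leaf 17531) (.leaf 17354)) (.node (.leaf 5502) (.leaf 0))) (.node (.node (.leaf 15706) (.leaf 0)) (.node (.leaf 20639) (.leaf 0))))) (.node (.node (.node (.node (.leaf 7584) (.leaf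 1040)) (.node (.leaf 7297) (.leaf 0))) (.node (.node (.leaf 4577) (.leaf 0)) (.node (.leaf 16343) (.leaf 0)))) (.node (.node (.node (.leaf 13957) (.leaf 9405)) (.node (.leaf 19562) (.leaf 0))) (.node (.node (.leaf 8984) (.leaf 0)) (.node (.leaf 6755) (.leaf 0)))))) (.node (.node (.node (.node (.node (.leaf 2827) (.leaf 7608)) (.node (.leaf 797) (.leaf 0))) (.node (.node (.leaf 18026) (.leaf 15234)) (.node (.leaf 12374) (.leaf 0)))) (.node (.node (.node (.leaf 14585) (.leaf 18711)) (.node (.leaf 19042) (.leaf 0))) (.node (.node (.leaf 11053) (.leaf 0)) (.node (.leaf 3217) (.leaf 0))))) (.node (.node (.node (.node (.leaf 17033) (.leaf 21129)) (.node (.leaf 1006) (.leaf 0))) (.node (.node (.leaf 10545) (.leaf 0)) (.node (.leaf 19119) (.leaf 0)))) (.node (.node (.node (.leaf 19621) (.leaf 16646)) (.node (.leaf 10660) (.leaf 0))) (.node (.node (.leaf 21311) (.leaf 0)) (.node (.leaf 20648) (.leaf 0)))))))) (.node (.node (.node (.node (.node (.node (.node (.leaf 12895) (.leaf 3213)) (.node (.leaf 1697)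 (.leaf 0))) (.node (.node (.leaf 15411) (.leaf 6352)) (.node (.leaf 11572) (.leaf 0)))) (.node (.node (.node (.leaf 17280) (.leaf 17310)) (.node (.leaf 10832) (.leaf 0))) (.node (.node (.leaf 16928) (.leaf 0)) (.node (.leaf 3098) (.leaf 0))))) (.node (.node (.node (.node (.leaf 4982) (.leaf 2722)) (.node (.leaf 15735) (.leaf 0))) (.node (.node (.leaf 5912) (.leaf 0)) (.node (.leaf 107) (.leaf 0)))) (.node (.node (.node (.leaf 4040) (.leaf 10949)) (.node (.leaf 20222) (.leaf 0))) (.node (.node (.leaf 20189) (.leaf 0)) (.node (.leaf 1622) (.leaf 0)))))) (.node (.node (.node (.node (.node (.leaf 3566) (.leaf 4524)) (.node (.leaf 12250) (.leaf 0))) (.node (.node (.leaf 3849) (.leaf 20043)) (.node (.leaf 19316) (.leaf 0)))) (.node (.node (.node (.leaf 17516) (.leaf 21489)) (.node (.leaf 3787) (.leaf 0))) (.node (.node (.leaf 1721) (.leaf 0)) (.node (.leaf 14512) (.leaf 0))))) (.node (.node (.node (.node (.leaf 18811) (.leaf 4330)) (.node (.leaf 7458) (.leaf 0))) (.node (.node (.leaf 9773) (.leaf 0)) (.node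 (.leaf 8036) (.leaf 0)))) (.node (.node (.node (.leaf 10426) (.leaf 3944)) (.node (.leaf 18310) (.leaf 0))) (.node (.node (.leaf 18815) (.leaf 0)) (.node (.leaf 988) (.leaf 0))))))) (.node (.node (.node (.node (.node (.node (.leaf 7683) (.leaf 9579)) (.node (.leaf 7028) (.leaf 0))) (.node (.node (.leaf 10184) (.leaf 1576)) (.node (.leaf 1883) (.leaf 0)))) (.node (.node (.node (.leaf 15385) (.leaf 12336)) (.node (.leaf 11094) (.leaf 0))) (.node (.node (.leaf 7248) (.leaf 0)) (.node (.leaf 15000) (.leaf 0))))) (.node (.node (.node (.node (.leaf 18821) (.leaf 20981)) (.node (.leaf 21249) (.leaf 0))) (.node (.node (.leaf 10644) (.leaf 0)) (.node (.leaf 19200) (.leaf 0)))) (.node (.node (.node (.leaf 18156) (.leaf 7725)) (.node (.leaf 4064) (.leaf 0))) (.node (.node (.leaf 11761) (.leaf 0)) (.node (.leaf 961) (.leaf 0)))))) (.node (.node (.node (.node (.node (.leaf 3580) (.leaf 16822)) (.node (.leaf 20488) (.leaf 0))) (.node (.node (.leaf 17063) (.leaf 6895)) (.node (.leaf 13623) (.leaf 0)))) (.node (.node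 (.node (.leaf 12129) (.leaf 1650)) (.node (.leaf 16406) (.leaf 0))) (.node (.node (.leaf 20092) (.leaf 0)) (.node (.leaf 21061) (.leaf 0))))) (.node (.node (.node (.node (.leaf 13909) (.leaf 15243)) (.node (.leaf 18340) (.leaf 0))) (.node (.node (.leaf 1774) (.leaf 0)) (.node (.leaf 13285) (.leaf 0)))) (.node (.node (.node (.leaf 1174) (.leaf 18320)) (.node (.leaf 4247) (.leaf 0))) (.node (.node (.leaf 5388) (.leaf 0)) (.node (.leaf 21019) (.leaf 0)))))))))

/-- part of a table -/
def ordK62 : Trie := (.node (.node (.node (.node (.node (.node (.node (.node (.leaf 4173) (.leaf 3534)) (.node (.leaf 3774) (.leaf 0))) (.node (.node (.leaf 14444) (.leaf 10217)) (.node (.leaf 15035) (.leaf 0)))) (.node (.node (.node (.leaf 8273) (.leaf 12863)) (.node (.leaf 9312) (.leaf 0))) (.node (.node (.leaf 9110) (.leaf 0)) (.node (.leaf 2008) (.leaf 0))))) (.node (.node (.node (.node (.leaf 7652) (.leaf 4223)) (.node (.leaf 8382) (.leaf 0))) (.node (.node (.leaf 9652) (.leaf 0)) (.node (.leaf 13655) (.leaf 0))))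 (.node (.node (.node (.leaf 5872) (.leaf 14623)) (.node (.leaf 1687) (.leaf 0))) (.node (.node (.leaf 20318) (.leaf 0)) (.node (.leaf 14026) (.leaf 0)))))) (.node (.node (.node (.node (.node (.leaf 17727) (.leaf 4115)) (.node (.leaf 11256) (.leaf 0))) (.node (.node (.leaf 4278) (.leaf 13972)) (.node (.leaf 7920) (.leaf 0)))) (.node (.node (.node (.leaf 1005) (.leaf 9124)) (.node (.leaf 2959) (.leaf 0))) (.node (.node (.leaf 10236) (.leaf 0)) (.node (.leaf 3772) (.leaf 0))))) (.node (.node (.node (.node (.leaf 14134) (.leaf 11533)) (.node (.leaf 21046) (.leaf 0))) (.node (.node (.leaf 3876) (.leaf 0)) (.node (.leaf 2938) (.leaf 0)))) (.node (.node (.node (.leaf 1831) (.leaf 14936)) (.node (.leaf 14045) (.leaf 0))) (.node (.node (.leaf 10625) (.leaf 0)) (.node (.leaf 1474) (.leaf 0))))))) (.node (.node (.node (.node (.node (.node (.leaf 13838) (.leaf 17200)) (.node (.leaf 16874) (.leaf 0))) (.node (.node (.leaf 13675) (.leaf 9451)) (.node (.leaf 11527) (.leaf 0)))) (.node (.node (.node (.leaf 12253)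 (.leaf 9928)) (.node (.leaf 3197) (.leaf 0))) (.node (.node (.leaf 16362) (.leaf 0)) (.node (.leaf 4767) (.leaf 0))))) (.node (.node (.node (.node (.leaf 17114) (.leaf 13576)) (.node (.leaf 15165) (.leaf 0))) (.node (.node (.leaf 1866) (.leaf 0)) (.node (.leaf 7660) (.leaf 0)))) (.node (.node (.node (.leaf 19393) (.leaf 659)) (.node (.leaf 9976) (.leaf 0))) (.node (.node (.leaf 1836) (.leaf 0)) (.node (.leaf 7811) (.leaf 0)))))) (.node (.node (.node (.node (.node (.leaf 7934) (.leaf 13105)) (.node (.leaf 1476) (.leaf 0))) (.node (.node (.leaf 18593) (.leaf 7377)) (.node (.leaf 3506) (.leaf 0)))) (.node (.node (.node (.leaf 1456) (.leaf 8642)) (.node (.leaf 2502) (.leaf 0))) (.node (.node (.leaf 5249) (.leaf 0)) (.node (.leaf 10828) (.leaf 0))))) (.node (.node (.node (.node (.leaf 6038) (.leaf 19838)) (.node (.leaf 11906) (.leaf 0))) (.node (.node (.leaf 223) (.leaf 0)) (.node (.leaf 11774) (.leaf 0)))) (.node (.node (.node (.leaf 13834) (.leaf 693)) (.node (.leaf 7996) (.leaf 0))) (.node (.node (.leaf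 13993) (.leaf 0)) (.node (.leaf 7534) (.leaf 0)))))))) (.node (.node (.node (.node (.node (.node (.node (.leaf 7965) (.leaf 11424)) (.node (.leaf 9726) (.leaf 0))) (.node (.node (.leaf 9823) (.leaf 8561)) (.node (.leaf 7809) (.leaf 0)))) (.node (.node (.node (.leaf 13108) (.leaf 14067)) (.node (.leaf 11964) (.leaf 0))) (.node (.node (.leaf 9466) (.leaf 0)) (.node (.leaf 9696) (.leaf 0))))) (.node (.node (.node (.node (.leaf 9323) (.leaf 6628)) (.node (.leaf 7782) (.leaf 0))) (.node (.node (.leaf 16954) (.leaf 0)) (.node (.leaf 11502) (.leaf 0)))) (.node (.node (.node (.leaf 4169) (.leaf 21485)) (.node (.leaf 12289) (.leaf 0))) (.node (.node (.leaf 18918) (.leaf 0)) (.node (.leaf 1020) (.leaf 0)))))) (.node (.node (.node (.node (.node (.leaf 6616) (.leaf 12485)) (.node (.leaf 7280) (.leaf 0))) (.node (.node (.leaf 901) (.leaf 6678)) (.node (.leaf 4419) (.leaf 0)))) (.node (.node (.node (.leaf 500) (.leaf 5898)) (.node (.leaf 2432) (.leaf 0))) (.node (.node (.leaf 3447) (.leaf 0)) (.node (.leaf 9649)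 (.leaf 0))))) (.node (.node (.node (.node (.leaf 10492) (.leaf 6801)) (.node (.leaf 13014) (.leaf 0))) (.node (.node (.leaf 1699) (.leaf 0)) (.node (.leaf 10603) (.leaf 0)))) (.node (.node (.node (.leaf 7408) (.leaf 7413)) (.node (.leaf 8572) (.leaf 0))) (.node (.node (.leaf 9617) (.leaf 0)) (.node (.leaf 11580) (.leaf 0))))))) (.node (.node (.node (.node (.node (.node (.leaf 5700) (.leaf 18695)) (.node (.leaf 21060) (.leaf 0))) (.node (.node (.leaf 6214) (.leaf 7328)) (.node (.leaf 15337) (.leaf 0)))) (.node (.node (.node (.leaf 11311) (.leaf 13261)) (.node (.leaf 2859) (.leaf 0))) (.node (.node (.leaf 2654) (.leaf 0)) (.node (.leaf 4444) (.leaf 0))))) (.node (.node (.node (.node (.leaf 13357) (.leaf 15566)) (.node (.leaf 1473) (.leaf 0))) (.node (.node (.leaf 7621) (.leaf 0)) (.node (.leaf 8501) (.leaf 0)))) (.node (.node (.node (.leaf 4134) (.leaf 17455)) (.node (.leaf 1384) (.leaf 0))) (.node (.node (.leaf 21165) (.leaf 0)) (.node (.leaf 1597) (.leaf 0)))))) (.node (.node (.node (.node (.node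 (.leaf 18085) (.leaf 21396)) (.node (.leaf 6908) (.leaf 0))) (.node (.node (.leaf 12865) (.leaf 20329)) (.node (.leaf 630) (.leaf 0)))) (.node (.node (.node (.leaf 10972) (.leaf 9453)) (.node (.leaf 17260) (.leaf 0))) (.node (.node (.leaf 6189) (.leaf 0)) (.node (.leaf 4208) (.leaf 0))))) (.node (.node (.node (.node (.leaf 17369) (.leaf 11091)) (.node (.leaf 3992) (.leaf 0))) (.node (.node (.leaf 14887) (.leaf 0)) (.node (.leaf 17865) (.leaf 0)))) (.node (.node (.node (.leaf 15818) (.leaf 7993)) (.node (.leaf 14523) (.leaf 0))) (.node (.node (.leaf 2424) (.leaf 0)) (.node (.leaf 8735) (.leaf 0)))))))))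

/-- part of a table -/
def ordK63 : Trie := (.node (.node (.node (.node (.node (.node (.node (.node (.leaf 7390) (.leaf 17098)) (.node (.leaf 6380) (.leaf 0))) (.node (.node (.leaf 17459) (.leaf 668)) (.node (.leaf 4116) (.leaf 0)))) (.node (.node (.node (.leaf 2486) (.leaf 7564)) (.node (.leaf 20463) (.leaf 0))) (.node (.node (.leaf 15474) (.leaf 0)) (.node (.leaf 3838) (.leaf 0))))) (.node (.node (.node (.node (.leaf 13456) (.leaf 20645)) (.node (.leaf 21245) (.leaf 0))) (.node (.node (.leaf 5763) (.leaf 0)) (.node (.leaf 2099) (.leaf 0)))) (.node (.node (.node (.leaf 18875) (.leaf 12314)) (.node (.leaf 18676) (.leaf 0))) (.node (.node (.leaf 5882) (.leaf 0)) (.node (.leaf 21262) (.leaf 0)))))) (.node (.node (.node (.node (.node (.leaf 16293) (.leaf 3085)) (.node (.leaf 268) (.leaf 0))) (.node (.node (.leaf 6794) (.leaf 20359)) (.node (.leaf 1276) (.leaf 0)))) (.node (.node (.node (.leaf 3393) (.leaf 13520)) (.node (.leaf 11626) (.leaf 0))) (.node (.node (.leaf 17555) (.leaf 0)) (.node (.leaf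 14905) (.leaf 0))))) (.node (.node (.node (.node (.leaf 16084) (.leaf 19879)) (.node (.leaf 6959) (.leaf 0))) (.node (.node (.leaf 3061) (.leaf 0)) (.node (.leaf 799) (.leaf 0)))) (.node (.node (.node (.leaf 7183) (.leaf 7245)) (.node (.leaf 15692) (.leaf 0))) (.node (.node (.leaf 3467) (.leaf 0)) (.node (.leaf 16982) (.leaf 0))))))) (.node (.node (.node (.node (.node (.node (.leaf 1522) (.leaf 3632)) (.node (.leaf 6479) (.leaf 0))) (.node (.node (.leaf 589) (.leaf 18762)) (.node (.leaf 5443) (.leaf 0)))) (.node (.node (.node (.leaf 21147) (.leaf 9116)) (.node (.leaf 14765) (.leaf 0))) (.node (.node (.leaf 5174) (.leaf 0)) (.node (.leaf 11417) (.leaf 0))))) (.node (.node (.node (.node (.leaf 4413) (.leaf 6523)) (.node (.leaf 12279) (.leaf 0))) (.node (.node (.leaf 2483) (.leaf 0)) (.node (.leaf 3858) (.leaf 0)))) (.node (.node (.node (.leaf 17203) (.leaf 20871)) (.node (.leaf 19957) (.leaf 0))) (.node (.node (.leaf 14402) (.leaf 0)) (.node (.leaf 9811) (.leaf 0)))))) (.node (.node (.node (.node (.node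 (.leaf 530) (.leaf 8660)) (.node (.leaf 13671) (.leaf 0))) (.node (.node (.leaf 17507) (.leaf 6772)) (.node (.leaf 10552) (.leaf 0)))) (.node (.node (.node (.leaf 12134) (.leaf 12500)) (.node (.leaf 7338) (.leaf 0))) (.node (.node (.leaf 14506) (.leaf 0)) (.node (.leaf 9877) (.leaf 0))))) (.node (.node (.node (.node (.leaf 13241) (.leaf 8647)) (.node (.leaf 10351) (.leaf 0))) (.node (.node (.leaf 2909) (.leaf 0)) (.node (.leaf 14466) (.leaf 0)))) (.node (.node (.node (.leaf 16856) (.leaf 9096)) (.node (.leaf 21409) (.leaf 0))) (.node (.node (.leaf 14344) (.leaf 0)) (.node (.leaf 11673) (.leaf 0)))))))) (.node (.node (.node (.node (.node (.node (.node (.leaf 6846) (.leaf 12597)) (.node (.leaf 6598) (.leaf 0))) (.node (.node (.leaf 12781) (.leaf 8759)) (.node (.leaf 14801) (.leaf 0)))) (.node (.node (.node (.leaf 3354) (.leaf 8336)) (.node (.leaf 13481) (.leaf 0))) (.node (.node (.leaf 4020) (.leaf 0)) (.node (.leaf 18324) (.leaf 0))))) (.node (.node (.node (.node (.leaf 14750) (.leaf 18452)) (.node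 (.leaf 15838) (.leaf 0))) (.node (.node (.leaf 20255) (.leaf 0)) (.node (.leaf 7358) (.leaf 0)))) (.node (.node (.node (.leaf 283) (.leaf 4372)) (.node (.leaf 14370) (.leaf 0))) (.node (.node (.leaf 20410) (.leaf 0)) (.node (.leaf 20275) (.leaf 0)))))) (.node (.node (.node (.node (.node (.leaf 14878) (.leaf 7625)) (.node (.leaf 5625) (.leaf 0))) (.node (.node (.leaf 6751) (.leaf 1803)) (.node (.leaf 8079) (.leaf 0)))) (.node (.node (.node (.leaf 21374) (.leaf 16547)) (.node (.leaf 10597) (.leaf 0))) (.node (.node (.leaf 8703) (.leaf 0)) (.node (.leaf 16658) (.leaf 0))))) (.node (.node (.node (.node (.leaf 16939) (.leaf 8755)) (.node (.leaf 16436) (.leaf 0))) (.node (.node (.leaf 19223) (.leaf 0)) (.node (.leaf 3498) (.leaf 0)))) (.node (.node (.node (.leaf 6509) (.leaf 2939)) (.node (.leaf 12044) (.leaf 0))) (.node (.node (.leaf 14127) (.leaf 0)) (.node (.leaf 13532) (.leaf 0))))))) (.node (.node (.node (.node (.node (.node (.leaf 8523) (.leaf 21266)) (.node (.leaf 8691) (.leaf 0))) (.node (.node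 (.leaf 478) (.leaf 19925)) (.node (.leaf 17790) (.leaf 0)))) (.node (.node (.node (.leaf 5840) (.leaf 16381)) (.node (.leaf 7078) (.leaf 0))) (.node (.node (.leaf 19704) (.leaf 0)) (.node (.leaf 11566) (.leaf 0))))) (.node (.node (.node (.node (.leaf 12209) (.leaf 17964)) (.node (.leaf 6705) (.leaf 0))) (.node (.node (.leaf 21286) (.leaf 0)) (.node (.leaf 8237) (.leaf 0)))) (.node (.node (.node (.leaf 3693) (.leaf 15443)) (.node (.leaf 1347) (.leaf 0))) (.node (.node (.leaf 6316) (.leaf 0)) (.node (.leaf 5569) (.leaf 0)))))) (.node (.node (.node (.node (.node (.leaf 12451) (.leaf 13973)) (.node (.leaf 7069) (.leaf 0))) (.node (.node (.leaf 19932) (.leaf 3719)) (.node (.leaf 6858) (.leaf 0)))) (.node (.node (.node (.leaf 12707) (.leaf 5154)) (.node (.leaf 1021) (.leaf 0))) (.node (.node (.leaf 21217) (.leaf 0)) (.node (.leaf 14779) (.leaf 0))))) (.node (.node (.node (.node (.leaf 15808) (.leaf 19033)) (.node (.leaf 21382) (.leaf 0))) (.node (.node (.leaf 12347) (.leaf 0)) (.node (.leaf 21028) (.leaf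 0)))) (.node (.node (.node (.leaf 3417) (.leaf 4106)) (.node (.leaf 11947) (.leaf 0))) (.node (.node (.leaf 9465) (.leaf 0)) (.node (.leaf 5123) (.leaf 0)))))))))

/-- part of a table -/
def ordK64 : Trie := (.node (.node (.node (.node (.node (.node (.node (.node (.leaf 3068) (.leaf 5691)) (.node (.leaf 6076) (.leaf 0))) (.node (.node (.leaf 10954) (.leaf 12437)) (.node (.leaf 18564) (.leaf 0)))) (.node (.node (.node (.leaf 4896) (.leaf 5102)) (.node (.leaf 8418) (.leaf 0))) (.node (.node (.leaf 10764) (.leaf 0)) (.node (.leaf 5106) (.leaf 0))))) (.node (.node (.node (.node (.leaf 18439) (.leaf 15025)) (.node (.leaf 10040) (.leaf 0))) (.node (.node (.leaf 12054) (.leaf 0)) (.node (.leaf 1199) (.leaf 0)))) (.node (.node (.node (.leaf 1630) (.leaf 5706)) (.node (.leaf 9973) (.leaf 0))) (.node (.node (.leaf 18155) (.leaf 0)) (.node (.leaf 11391) (.leaf 0)))))) (.node (.node (.node (.node (.node (.leaf 20919) (.leaf 20026)) (.node (.leaf 1530) (.leaf 0))) (.node (.node (.leaf 10213) (.leaf 11342)) (.node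 (.leaf 606) (.leaf 0)))) (.node (.node (.node (.leaf 8989) (.leaf 17189)) (.node (.leaf 14416) (.leaf 0))) (.node (.node (.leaf 1310) (.leaf 0)) (.node (.leaf 4966) (.leaf 0))))) (.node (.node (.node (.node (.leaf 11787) (.leaf 13213)) (.node (.leaf 16784) (.leaf 0))) (.node (.node (.leaf 3542) (.leaf 0)) (.node (.leaf 6922) (.leaf 0)))) (.node (.node (.node (.leaf 14777) (.leaf 18838)) (.node (.leaf 14417) (.leaf 0))) (.node (.node (.leaf 16264) (.leaf 0)) (.node (.leaf 7083) (.leaf 0))))))) (.node (.node (.node (.node (.node (.node (.leaf 21084) (.leaf 3970)) (.node (.leaf 381) (.leaf 0))) (.node (.node (.leaf 13508) (.leaf 16158)) (.node (.leaf 20466) (.leaf 0)))) (.node (.node (.node (.leaf 15500) (.leaf 7194)) (.node (.leaf 3654) (.leaf 0))) (.node (.node (.leaf 18401) (.leaf 0)) (.node (.leaf 18754) (.leaf 0))))) (.node (.node (.node (.node (.leaf 7267) (.leaf 17561)) (.node (.leaf 13959) (.leaf 0))) (.node (.node (.leaf 4404) (.leaf 0)) (.node (.leaf 52) (.leaf 0)))) (.node (.node (.node (.leaf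 15728) (.leaf 18697)) (.node (.leaf 6963) (.leaf 0))) (.node (.node (.leaf 11716) (.leaf 0)) (.node (.leaf 14749) (.leaf 0)))))) (.node (.node (.node (.node (.node (.leaf 4622) (.leaf 7253)) (.node (.leaf 12100) (.leaf 0))) (.node (.node (.leaf 15012) (.leaf 14264)) (.node (.leaf 8909) (.leaf 0)))) (.node (.node (.node (.leaf 4696) (.leaf 1523)) (.node (.leaf 11116) (.leaf 0))) (.node (.node (.leaf 3439) (.leaf 0)) (.node (.leaf 1370) (.leaf 0))))) (.node (.node (.node (.node (.leaf 4028) (.leaf 5088)) (.node (.leaf 17990) (.leaf 0))) (.node (.node (.leaf 14501) (.leaf 0)) (.node (.leaf 21114) (.leaf 0)))) (.node (.node (.node (.leaf 2326) (.leaf 17539)) (.node (.leaf 1750) (.leaf 0))) (.node (.node (.leaf 18814) (.leaf 0)) (.node (.leaf 19788) (.leaf 0)))))))) (.node (.node (.node (.node (.node (.node (.node (.leaf 10301) (.leaf 13113)) (.node (.leaf 2408) (.leaf 0))) (.node (.node (.leaf 10803) (.leaf 17713)) (.node (.leaf 15685) (.leaf 0)))) (.node (.node (.node (.leaf 8431) (.leaf 18738)) (.node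 (.leaf 561) (.leaf 0))) (.node (.node (.leaf 7947) (.leaf 0)) (.node (.leaf 12586) (.leaf 0))))) (.node (.node (.node (.node (.leaf 21298) (.leaf 14683)) (.node (.leaf 10346) (.leaf 0))) (.node (.node (.leaf 12876) (.leaf 0)) (.node (.leaf 16767) (.leaf 0)))) (.node (.node (.node (.leaf 5155) (.leaf 4882)) (.node (.leaf 11440) (.leaf 0))) (.node (.node (.leaf 18343) (.leaf 0)) (.node (.leaf 5789) (.leaf 0)))))) (.node (.node (.node (.node (.node (.leaf 4010) (.leaf 11717)) (.node (.leaf 8730) (.leaf 0))) (.node (.node (.leaf 9941) (.leaf 3961)) (.node (.leaf 16063) (.leaf 0)))) (.node (.node (.node (.leaf 4267) (.leaf 20001)) (.node (.leaf 8388) (.leaf 0))) (.node (.node (.leaf 17944) (.leaf 0)) (.node (.leaf 18248) (.leaf 0))))) (.node (.node (.node (.node (.leaf 13816) (.leaf 19341)) (.node (.leaf 19561) (.leaf 0))) (.node (.node (.leaf 14366) (.leaf 0)) (.node (.leaf 4829) (.leaf 0)))) (.node (.node (.node (.leaf 3052) (.leaf 3307)) (.node (.leaf 10719) (.leaf 0))) (.node (.node (.leaf 12109)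 (.leaf 0)) (.node (.leaf 19855) (.leaf 0))))))) (.node (.node (.node (.node (.node (.node (.leaf 13699) (.leaf 15632)) (.node (.leaf 14736) (.leaf 0))) (.node (.node (.leaf 18178) (.leaf 17243)) (.node (.leaf 21326) (.leaf 0)))) (.node (.node (.node (.leaf 4237) (.leaf 4191)) (.node (.leaf 7342) (.leaf 0))) (.node (.node (.leaf 8739) (.leaf 0)) (.node (.leaf 12923) (.leaf 0))))) (.node (.node (.node (.node (.leaf 9856) (.leaf 16485)) (.node (.leaf 7339) (.leaf 0))) (.node (.node (.leaf 9784) (.leaf 0)) (.node (.leaf 12139) (.leaf 0)))) (.node (.node (.node (.leaf 18552) (.leaf 20041)) (.node (.leaf 18549) (.leaf 0))) (.node (.node (.leaf 1621) (.leaf 0)) (.node (.leaf 3368) (.leaf 0)))))) (.node (.node (.node (.node (.node (.leaf 18548) (.leaf 1563)) (.node (.leaf 17035) (.leaf 0))) (.node (.node (.leaf 16150) (.leaf 18143)) (.node (.leaf 20939) (.leaf 0)))) (.node (.node (.node (.leaf 5667) (.leaf 291)) (.node (.leaf 14230) (.leaf 0))) (.node (.node (.leaf 5818) (.leaf 0)) (.node (.leaf 3564) (.leaf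 0))))) (.node (.node (.node (.node (.leaf 15030) (.leaf 16610)) (.node (.leaf 18990) (.leaf 0))) (.node (.node (.leaf 18472) (.leaf 0)) (.node (.leaf 10201) (.leaf 0)))) (.node (.node (.node (.leaf 12368) (.leaf 11665)) (.node (.leaf 19469) (.leaf 0))) (.node (.node (.leaf 15327) (.leaf 0)) (.node (.leaf 12490) (.leaf 0)))))))))

/-- part of a table -/
def ordK65 : Trie := (.node (.node (.node (.node (.node (.node (.node (.node (.leaf 20909) (.leaf 3834)) (.node (.leaf 1422) (.leaf 0))) (.node (.node (.leaf 2501) (.leaf 12768)) (.node (.leaf 21056) (.leaf 0)))) (.node (.node (.node (.leaf 563) (.leaf 13129)) (.node (.leaf 13338) (.leaf 0))) (.node (.node (.leaf 8239) (.leaf 0)) (.node (.leaf 9718) (.leaf 0))))) (.node (.node (.node (.node (.leaf 14116) (.leaf 5046)) (.node (.leaf 9660) (.leaf 0))) (.node (.node (.leaf 12569) (.leaf 0)) (.node (.leaf 3655) (.leaf 0)))) (.node (.node (.node (.leaf 1142) (.leaf 4572)) (.node (.leaf 12794) (.leaf 0))) (.node (.node (.leaf 3692) (.leaf 0)) (.node (.leaf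 19694) (.leaf 0)))))) (.node (.node (.node (.node (.node (.leaf 16298) (.leaf 8455)) (.node (.leaf 14308) (.leaf 0))) (.node (.node (.leaf 2439) (.leaf 2361)) (.node (.leaf 2031) (.leaf 0)))) (.node (.node (.node (.leaf 16318) (.leaf 14099)) (.node (.leaf 20307) (.leaf 0))) (.node (.node (.leaf 15611) (.leaf 0)) (.node (.leaf 7879) (.leaf 0))))) (.node (.node (.node (.node (.leaf 12951) (.leaf 13740)) (.node (.leaf 11766) (.leaf 0))) (.node (.node (.leaf 13250) (.leaf 0)) (.node (.leaf 18551) (.leaf 0)))) (.node (.node (.node (.leaf 11200) (.leaf 7874)) (.node (.leaf 20707) (.leaf 0))) (.node (.node (.leaf 14442) (.leaf 0)) (.node (.leaf 18033) (.leaf 0))))))) (.node (.node (.node (.node (.node (.node (.leaf 14888) (.leaf 1682)) (.node (.leaf 3731) (.leaf 0))) (.node (.node (.leaf 13381) (.leaf 20630)) (.node (.leaf 13882) (.leaf 0)))) (.node (.node (.node (.leaf 2602) (.leaf 17515)) (.node (.leaf 1698) (.leaf 0))) (.node (.node (.leaf 8888) (.leaf 0)) (.node (.leaf 12416) (.leaf 0))))) (.node (.node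 (.node (.node (.leaf 514) (.leaf 15983)) (.node (.leaf 18966) (.leaf 0))) (.node (.node (.leaf 4654) (.leaf 0)) (.node (.leaf 9133) (.leaf 0)))) (.node (.node (.node (.leaf 7151) (.leaf 16503)) (.node (.leaf 5140) (.leaf 0))) (.node (.node (.leaf 2488) (.leaf 0)) (.node (.leaf 6305) (.leaf 0)))))) (.node (.node (.node (.node (.node (.leaf 15472) (.leaf 13523)) (.node (.leaf 1864) (.leaf 0))) (.node (.node (.leaf 9081) (.leaf 18148)) (.node (.leaf 10573) (.leaf 0)))) (.node (.node (.node (.leaf 15992) (.leaf 10805)) (.node (.leaf 7129) (.leaf 0))) (.node (.node (.leaf 11649) (.leaf 0)) (.node (.leaf 8059) (.leaf 0))))) (.node (.node (.node (.node (.leaf 10028) (.leaf 15850)) (.node (.leaf 644) (.leaf 0))) (.node (.node (.leaf 21445) (.leaf 0)) (.node (.leaf 16869) (.leaf 0)))) (.node (.node (.node (.leaf 8821) (.leaf 14280)) (.node (.leaf 20807) (.leaf 0))) (.node (.node (.leaf 12328) (.leaf 0)) (.node (.leaf 19613) (.leaf 0)))))))) (.node (.node (.node (.node (.node (.node (.node (.leaf 14147) (.leaf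 363)) (.node (.leaf 18271) (.leaf 0))) (.node (.node (.leaf 14213) (.leaf 12914)) (.node (.leaf 1922) (.leaf 0)))) (.node (.node (.node (.leaf 10702) (.leaf 13417)) (.node (.leaf 8540) (.leaf 0))) (.node (.node (.leaf 18937) (.leaf 0)) (.node (.leaf 20811) (.leaf 0))))) (.node (.node (.node (.node (.leaf 11397) (.leaf 5284)) (.node (.leaf 6618) (.leaf 0))) (.node (.node (.leaf 16802) (.leaf 0)) (.node (.leaf 19372) (.leaf 0)))) (.node (.node (.node (.leaf 10195) (.leaf 10479)) (.node (.leaf 16463) (.leaf 0))) (.node (.node (.leaf 594) (.leaf 0)) (.node (.leaf 8369) (.leaf 0)))))) (.node (.node (.node (.node (.node (.leaf 10133) (.leaf 12486)) (.node (.leaf 7147) (.leaf 0))) (.node (.node (.leaf 8923) (.leaf 19638)) (.node (.leaf 7771) (.leaf 0)))) (.node (.node (.node (.leaf 10255) (.leaf 18946)) (.node (.leaf 615) (.leaf 0))) (.node (.node (.leaf 15459) (.leaf 0)) (.node (.leaf 342) (.leaf 0))))) (.node (.node (.node (.node (.leaf 13305) (.leaf 2508)) (.node (.leaf 4216) (.leaf 0))) (.node (.node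 (.leaf 15599) (.leaf 0)) (.node (.leaf 11353) (.leaf 0)))) (.node (.node (.node (.leaf 21493) (.leaf 2081)) (.node (.leaf 18851) (.leaf 0))) (.node (.node (.leaf 19711) (.leaf 0)) (.node (.leaf 19006) (.leaf 0))))))) (.node (.node (.node (.node (.node (.node (.leaf 8841) (.leaf 5595)) (.node (.leaf 10200) (.leaf 0))) (.node (.node (.leaf 4259) (.leaf 2790)) (.node (.leaf 11058) (.leaf 0)))) (.node (.node (.node (.leaf 9725) (.leaf 13844)) (.node (.leaf 4443) (.leaf 0))) (.node (.node (.leaf 8545) (.leaf 0)) (.node (.leaf 14205) (.leaf 0))))) (.node (.node (.node (.node (.leaf 7861) (.leaf 10538)) (.node (.leaf 11369) (.leaf 0))) (.node (.node (.leaf 5971) (.leaf 0)) (.node (.leaf 1101) (.leaf 0)))) (.node (.node (.node (.leaf 6631) (.leaf 6230)) (.node (.leaf 10021) (.leaf 0))) (.node (.node (.leaf 20385) (.leaf 0)) (.node (.leaf 13801) (.leaf 0)))))) (.node (.node (.node (.node (.node (.leaf 10869) (.leaf 18852)) (.node (.leaf 20785) (.leaf 0))) (.node (.node (.leaf 13191) (.leaf 8440)) (.node (.leaf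 20039) (.leaf 0)))) (.node (.node (.node (.leaf 3228) (.leaf 11065)) (.node (.leaf 14738) (.leaf 0))) (.node (.node (.leaf 17903) (.leaf 0)) (.node (.leaf 2777) (.leaf 0))))) (.node (.node (.node (.node (.leaf 21292) (.leaf 10173)) (.node (.leaf 16896) (.leaf 0))) (.node (.node (.leaf 17784) (.leaf 0)) (.node (.leaf 9664) (.leaf 0)))) (.node (.node (.node (.leaf 2740) (.leaf 10297)) (.node (.leaf 21464) (.leaf 0))) (.node (.node (.leaf 21470) (.leaf 0)) (.node (.leaf 2955) (.leaf 0)))))))))

/-- part of a table -/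
def ordK66 : Trie := (.node (.node (.node (.node (.node (.node (.node (.node (.leaf 8236) (.leaf 21458)) (.node (.leaf 10853) (.leaf 0))) (.node (.node (.leaf 19405) (.leaf 7236)) (.node (.leaf 10017) (.leaf 0)))) (.node (.node (.node (.leaf 11227) (.leaf 21282)) (.node (.leaf 18661) (.leaf 0))) (.node (.node (.leaf 13017) (.leaf 0)) (.node (.leaf 12908) (.leaf 0))))) (.node (.node (.node (.node (.leaf 560) (.leaf 3081)) (.node (.leaf 17494) (.leaf 0))) (.node (.node (.leaf 14044) (.leaf 0)) (.node (.leaf 13212) (.leaf 0)))) (.node (.node (.node (.leaf 1508) (.leaf 8578)) (.node (.leaf 613) (.leaf 0))) (.node (.node (.leaf 13851) (.leaf 0)) (.node (.leaf 5295) (.leaf 0)))))) (.node (.node (.node (.node (.node (.leaf 16513) (.leaf 16826)) (.node (.leaf 1862) (.leaf 0))) (.node (.node (.leaf 13141) (.leaf 20392)) (.node (.leaf 19201) (.leaf 0)))) (.node (.node (.node (.leaf 2245) (.leaf 12672)) (.node (.leaf 11745) (.leaf 0))) (.node (.node (.leaf 7086) (.leaf 0)) (.node (.leaf 9960) (.leaf 0)))))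 (.node (.node (.node (.node (.leaf 15960) (.leaf 3927)) (.node (.leaf 17527) (.leaf 0))) (.node (.node (.leaf 18745) (.leaf 0)) (.node (.leaf 2880) (.leaf 0)))) (.node (.node (.node (.leaf 18443) (.leaf 15878)) (.node (.leaf 11746) (.leaf 0))) (.node (.node (.leaf 3019) (.leaf 0)) (.node (.leaf 358) (.leaf 0))))))) (.node (.node (.node (.node (.node (.node (.leaf 19343) (.leaf 20565)) (.node (.leaf 19511) (.leaf 0))) (.node (.node (.leaf 12761) (.leaf 7215)) (.node (.leaf 19005) (.leaf 0)))) (.node (.node (.node (.leaf 5991) (.leaf 11590)) (.node (.leaf 16699) (.leaf 0))) (.node (.node (.leaf 6929) (.leaf 0)) (.node (.leaf 3652) (.leaf 0))))) (.node (.node (.node (.node (.leaf 7367) (.leaf 3806)) (.node (.leaf 13839) (.leaf 0))) (.node (.node (.leaf 3954) (.leaf 0)) (.node (.leaf 10723) (.leaf 0)))) (.node (.node (.node (.leaf 18126) (.leaf 3186)) (.node (.leaf 3031) (.leaf 0))) (.node (.node (.leaf 844) (.leaf 0)) (.node (.leaf 15574) (.leaf 0)))))) (.node (.node (.node (.node (.node (.leaf 13343)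 (.leaf 2550)) (.node (.leaf 11913) (.leaf 0))) (.node (.node (.leaf 9207) (.leaf 20768)) (.node (.leaf 1339) (.leaf 0)))) (.node (.node (.node (.leaf 14238) (.leaf 14261)) (.node (.leaf 19734) (.leaf 0))) (.node (.node (.leaf 21103) (.leaf 0)) (.node (.leaf 12439) (.leaf 0))))) (.node (.node (.node (.node (.leaf 12060) (.leaf 16915)) (.node (.leaf 9507) (.leaf 0))) (.node (.node (.leaf 7681) (.leaf 0)) (.node (.leaf 6425) (.leaf 0)))) (.node (.node (.node (.leaf 19846) (.leaf 8697)) (.node (.leaf 16348) (.leaf 0))) (.node (.node (.leaf 7056) (.leaf 0)) (.node (.leaf 18505) (.leaf 0)))))))) (.node (.node (.node (.node (.node (.node (.node (.leaf 17664) (.leaf 17558)) (.node (.leaf 556) (.leaf 0))) (.node (.node (.leaf 875) (.leaf 6034)) (.node (.leaf 10203) (.leaf 0)))) (.node (.node (.node (.leaf 11620) (.leaf 5525)) (.node (.leaf 18772) (.leaf 0))) (.node (.node (.leaf 21497) (.leaf 0)) (.node (.leaf 17398) (.leaf 0))))) (.node (.node (.node (.node (.leaf 3848) (.leaf 14933)) (.node (.leaf 581)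 (.leaf 0))) (.node (.node (.leaf 6524) (.leaf 0)) (.node (.leaf 11581) (.leaf 0)))) (.node (.node (.node (.leaf 9153) (.leaf 3371)) (.node (.leaf 10055) (.leaf 0))) (.node (.node (.leaf 10052) (.leaf 0)) (.node (.leaf 4680) (.leaf 0)))))) (.node (.node (.node (.node (.node (.leaf 6625) (.leaf 3636)) (.node (.leaf 2676) (.leaf 0))) (.node (.node (.leaf 1034) (.leaf 7088)) (.node (.leaf 6286) (.leaf 0)))) (.node (.node (.node (.leaf 2487) (.leaf 3017)) (.node (.leaf 14211) (.leaf 0))) (.node (.node (.leaf 15622) (.leaf 0)) (.node (.leaf 3983) (.leaf 0))))) (.node (.node (.node (.node (.leaf 9020) (.leaf 13240)) (.node (.leaf 20547) (.leaf 0))) (.node (.node (.leaf 11282) (.leaf 0)) (.node (.leaf 7989) (.leaf 0)))) (.node (.node (.node (.leaf 11396) (.leaf 2613)) (.node (.leaf 14604) (.leaf 0))) (.node (.node (.leaf 2608) (.leaf 0)) (.node (.leaf 12440) (.leaf 0))))))) (.node (.node (.node (.node (.node (.node (.leaf 5254) (.leaf 13956)) (.node (.leaf 6600) (.leaf 0))) (.node (.node (.leaf 1559) (.leaf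 14318)) (.node (.leaf 16995) (.leaf 0)))) (.node (.node (.node (.leaf 11556) (.leaf 15904)) (.node (.leaf 7054) (.leaf 0))) (.node (.node (.leaf 2406) (.leaf 0)) (.node (.leaf 9549) (.leaf 0))))) (.node (.node (.node (.node (.leaf 18817) (.leaf 16018)) (.node (.leaf 1112) (.leaf 0))) (.node (.node (.leaf 11429) (.leaf 0)) (.node (.leaf 12574) (.leaf 0)))) (.node (.node (.node (.leaf 9461) (.leaf 18672)) (.node (.leaf 4972) (.leaf 0))) (.node (.node (.leaf 8300) (.leaf 0)) (.node (.leaf 14088) (.leaf 0)))))) (.node (.node (.node (.node (.node (.leaf 20597) (.leaf 11273)) (.node (.leaf 10437) (.leaf 0))) (.node (.node (.leaf 7864) (.leaf 2242)) (.node (.leaf 632) (.leaf 0)))) (.node (.node (.node (.leaf 5262) (.leaf 15244)) (.node (.leaf 15334) (.leaf 0))) (.node (.node (.leaf 14143) (.leaf 0)) (.node (.leaf 15726) (.leaf 0))))) (.node (.node (.node (.node (.leaf 2584) (.leaf 14918)) (.node (.leaf 17913) (.leaf 0))) (.node (.node (.leaf 11855) (.leaf 0)) (.node (.leaf 7435) (.leaf 0)))) (.node (.node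 (.node (.leaf 3978) (.leaf 4121)) (.node (.leaf 10342) (.leaf 0))) (.node (.node (.leaf 6499) (.leaf 0)) (.node (.leaf 15775) (.leaf 0)))))))))

/-- part of a table -/
def ordK67 : Trie := (.node (.node (.node (.node (.node (.node (.node (.node (.leaf 7029) (.leaf 4756)) (.node (.leaf 7179) (.leaf 0))) (.node (.node (.leaf 20206) (.leaf 1874)) (.node (.leaf 14994) (.leaf 0)))) (.node (.node (.node (.leaf 9511) (.leaf 15888)) (.node (.leaf 12926) (.leaf 0))) (.node (.node (.leaf 14141) (.leaf 0)) (.node (.leaf 4849) (.leaf 0))))) (.node (.node (.node (.node (.leaf 10604) (.leaf 18131)) (.node (.leaf 8488) (.leaf 0))) (.node (.node (.leaf 14613) (.leaf 0)) (.node (.leaf 19546) (.leaf 0)))) (.node (.node (.node (.leaf 7535) (.leaf 10493)) (.node (.leaf 8733) (.leaf 0))) (.node (.node (.leaf 1336) (.leaf 0)) (.node (.leaf 326) (.leaf 0)))))) (.node (.node (.node (.node (.node (.leaf 3600) (.leaf 13728)) (.node (.leaf 13344) (.leaf 0))) (.node (.node (.leaf 7430) (.leaf 18262)) (.node (.leaf 18868) (.leaf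 0)))) (.node (.node (.node (.leaf 5198) (.leaf 20069)) (.node (.leaf 20583) (.leaf 0))) (.node (.node (.leaf 18142) (.leaf 0)) (.node (.leaf 865) (.leaf 0))))) (.node (.node (.node (.node (.leaf 3207) (.leaf 3999)) (.node (.leaf 21301) (.leaf 0))) (.node (.node (.leaf 3931) (.leaf 0)) (.node (.leaf 18804) (.leaf 0)))) (.node (.node (.node (.leaf 10115) (.leaf 4355)) (.node (.leaf 20296) (.leaf 0))) (.node (.node (.leaf 13978) (.leaf 0)) (.node (.leaf 18221) (.leaf 0))))))) (.node (.node (.node (.node (.node (.node (.leaf 8667) (.leaf 2009)) (.node (.leaf 2520) (.leaf 0))) (.node (.node (.leaf 16094) (.leaf 14361)) (.node (.leaf 8798) (.leaf 0)))) (.node (.node (.node (.leaf 14590) (.leaf 19579)) (.node (.leaf 703) (.leaf 0))) (.node (.node (.leaf 17048) (.leaf 0)) (.node (.leaf 20002) (.leaf 0))))) (.node (.node (.node (.node (.leaf 12317) (.leaf 9963)) (.node (.leaf 18408) (.leaf 0))) (.node (.node (.leaf 9286) (.leaf 0)) (.node (.leaf 2925) (.leaf 0)))) (.node (.node (.node (.leaf 12702) (.leaf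 6186)) (.node (.leaf 13372) (.leaf 0))) (.node (.node (.leaf 20217) (.leaf 0)) (.node (.leaf 18403) (.leaf 0)))))) (.node (.node (.node (.node (.node (.leaf 6911) (.leaf 6239)) (.node (.leaf 3993) (.leaf 0))) (.node (.node (.leaf 7094) (.leaf 14351)) (.node (.leaf 15362) (.leaf 0)))) (.node (.node (.node (.leaf 11737) (.leaf 7400)) (.node (.leaf 14855) (.leaf 0))) (.node (.node (.leaf 10453) (.leaf 0)) (.node (.leaf 20472) (.leaf 0))))) (.node (.node (.node (.node (.leaf 16289) (.leaf 4936)) (.node (.leaf 19364) (.leaf 0))) (.node (.node (.leaf 3494) (.leaf 0)) (.node (.leaf 6969) (.leaf 0)))) (.node (.node (.node (.leaf 8946) (.leaf 5576)) (.node (.leaf 17251) (.leaf 0))) (.node (.node (.leaf 15736) (.leaf 0)) (.node (.leaf 10300) (.leaf 0)))))))) (.node (.node (.node (.node (.node (.node (.node (.leaf 3625) (.leaf 13124)) (.node (.leaf 10169) (.leaf 0))) (.node (.node (.leaf 679) (.leaf 16082)) (.node (.leaf 21376) (.leaf 0)))) (.node (.node (.node (.leaf 12610) (.leaf 6856)) (.node (.leaf 12991)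 (.leaf 0))) (.node (.node (.leaf 16546) (.leaf 0)) (.node (.leaf 3744) (.leaf 0))))) (.node (.node (.node (.node (.leaf 19107) (.leaf 2953)) (.node (.leaf 17040) (.leaf 0))) (.node (.node (.leaf 1732) (.leaf 0)) (.node (.leaf 15926) (.leaf 0)))) (.node (.node (.node (.leaf 1651) (.leaf 13542)) (.node (.leaf 4869) (.leaf 0))) (.node (.node (.leaf 6142) (.leaf 0)) (.node (.leaf 19194) (.leaf 0)))))) (.node (.node (.node (.node (.node (.leaf 14335) (.leaf 18292)) (.node (.leaf 10109) (.leaf 0))) (.node (.node (.leaf 1949) (.leaf 19818)) (.node (.leaf 8404) (.leaf 0)))) (.node (.node (.node (.leaf 5641) (.leaf 17553)) (.node (.leaf 2347) (.leaf 0))) (.node (.node (.leaf 19753) (.leaf 0)) (.node (.leaf 17848) (.leaf 0))))) (.node (.node (.node (.node (.leaf 838) (.leaf 2028)) (.node (.leaf 21378) (.leaf 0))) (.node (.node (.leaf 1670) (.leaf 0)) (.node (.leaf 16464) (.leaf 0)))) (.node (.node (.node (.leaf 1081) (.leaf 7732)) (.node (.leaf 20139) (.leaf 0))) (.node (.node (.leaf 9803) (.leaf 0)) (.node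 (.leaf 10073) (.leaf 0))))))) (.node (.node (.node (.node (.node (.node (.leaf 13090) (.leaf 8492)) (.node (.leaf 7181) (.leaf 0))) (.node (.node (.leaf 13349) (.leaf 14593)) (.node (.leaf 5837) (.leaf 0)))) (.node (.node (.node (.leaf 8939) (.leaf 20126)) (.node (.leaf 10271) (.leaf 0))) (.node (.node (.leaf 10146) (.leaf 0)) (.node (.leaf 14122) (.leaf 0))))) (.node (.node (.node (.node (.leaf 2455) (.leaf 12162)) (.node (.leaf 2586) (.leaf 0))) (.node (.node (.leaf 20292) (.leaf 0)) (.node (.leaf 9281) (.leaf 0)))) (.node (.node (.node (.leaf 2166) (.leaf 163)) (.node (.leaf 16156) (.leaf 0))) (.node (.node (.leaf 8796) (.leaf 0)) (.node (.leaf 10878) (.leaf 0)))))) (.node (.node (.node (.node (.node (.leaf 3367) (.leaf 20211)) (.node (.leaf 19754) (.leaf 0))) (.node (.node (.leaf 5282) (.leaf 3449)) (.node (.leaf 18635) (.leaf 0)))) (.node (.node (.node (.leaf 3344) (.leaf 1328)) (.node (.leaf 5909) (.leaf 0))) (.node (.node (.leaf 14884) (.leaf 0)) (.node (.leaf 3205) (.leaf 0))))) (.node (.node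 (.node (.node (.leaf 4840) (.leaf 7582)) (.node (.leaf 5663) (.leaf 0))) (.node (.node (.leaf 21269) (.leaf 0)) (.node (.leaf 13422) (.leaf 0)))) (.node (.node (.node (.leaf 20688) (.leaf 10045)) (.node (.leaf 584) (.leaf 0))) (.node (.node (.leaf 20848) (.leaf 0)) (.node (.leaf 16295) (.leaf 0)))))))))

/-- part of a table -/
def ordK68 : Trie := (.node (.node (.node (.node (.node (.node (.node (.node (.leaf 14963) (.leaf 8685)) (.node (.leaf 15530) (.leaf 0))) (.node (.node (.leaf 20395) (.leaf 7978)) (.node (.leaf 8738) (.leaf 0)))) (.node (.node (.node (.leaf 3133) (.leaf 3008)) (.node (.leaf 859) (.leaf 0))) (.node (.node (.leaf 7397) (.leaf 0)) (.node (.leaf 13027) (.leaf 0))))) (.node (.node (.node (.node (.leaf 3826) (.leaf 3304)) (.node (.leaf 18128) (.leaf 0))) (.node (.node (.leaf 2622) (.leaf 0)) (.node (.leaf 16030) (.leaf 0)))) (.node (.node (.node (.leaf 16040) (.leaf 16986)) (.node (.leaf 3030) (.leaf 0))) (.node (.node (.leaf 13597) (.leaf 0)) (.node (.leaf 5494) (.leaf 0)))))) (.node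 (.node (.node (.node (.node (.leaf 8025) (.leaf 7524)) (.node (.leaf 5888) (.leaf 0))) (.node (.node (.leaf 20301) (.leaf 4615)) (.node (.leaf 19942) (.leaf 0)))) (.node (.node (.node (.leaf 5196) (.leaf 11997)) (.node (.leaf 12929) (.leaf 0))) (.node (.node (.leaf 13747) (.leaf 0)) (.node (.leaf 20640) (.leaf 0))))) (.node (.node (.node (.node (.leaf 12471) (.leaf 2984)) (.node (.leaf 7753) (.leaf 0))) (.node (.node (.leaf 9151) (.leaf 0)) (.node (.leaf 21365) (.leaf 0)))) (.node (.node (.node (.leaf 13195) (.leaf 21270)) (.node (.leaf 9381) (.leaf 0))) (.node (.node (.leaf 11364) (.leaf 0)) (.node (.leaf 18952) (.leaf 0))))))) (.node (.node (.node (.node (.node (.node (.leaf 2607) (.leaf 807)) (.node (.leaf 10396) (.leaf 0))) (.node (.node (.leaf 10269) (.leaf 1983)) (.node (.leaf 6405) (.leaf 0)))) (.node (.node (.node (.leaf 10326) (.leaf 16884)) (.node (.leaf 11558) (.leaf 0))) (.node (.node (.leaf 2659) (.leaf 0)) (.node (.leaf 7698) (.leaf 0))))) (.node (.node (.node (.node (.leaf 5057) (.leaf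 19724)) (.node (.leaf 9900) (.leaf 0))) (.node (.node (.leaf 4645) (.leaf 0)) (.node (.leaf 16656) (.leaf 0)))) (.node (.node (.node (.leaf 13086) (.leaf 12842)) (.node (.leaf 20637) (.leaf 0))) (.node (.node (.leaf 16345) (.leaf 0)) (.node (.leaf 17228) (.leaf 0)))))) (.node (.node (.node (.node (.node (.leaf 14024) (.leaf 21082)) (.node (.leaf 3626) (.leaf 0))) (.node (.node (.leaf 20330) (.leaf 5539)) (.node (.leaf 9025) (.leaf 0)))) (.node (.node (.node (.leaf 16516) (.leaf 16554)) (.node (.leaf 113) (.leaf 0))) (.node (.node (.leaf 10324) (.leaf 0)) (.node (.leaf 9861) (.leaf 0))))) (.node (.node (.node (.node (.leaf 5694) (.leaf 16498)) (.node (.leaf 7860) (.leaf 0))) (.node (.node (.leaf 17559) (.leaf 0)) (.node (.leaf 1936) (.leaf 0)))) (.node (.node (.node (.leaf 20044) (.leaf 19153)) (.node (.leaf 9393) (.leaf 0))) (.node (.node (.leaf 17168) (.leaf 0)) (.node (.leaf 2936) (.leaf 0)))))))) (.node (.node (.node (.node (.node (.node (.node (.leaf 11477) (.leaf 13080)) (.node (.leaf 3320)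 (.leaf 0))) (.node (.node (.leaf 10029) (.leaf 20501)) (.node (.leaf 952) (.leaf 0)))) (.node (.node (.node (.leaf 20750) (.leaf 14254)) (.node (.leaf 9519) (.leaf 0))) (.node (.node (.leaf 20285) (.leaf 0)) (.node (.leaf 5953) (.leaf 0))))) (.node (.node (.node (.node (.leaf 1188) (.leaf 11377)) (.node (.leaf 17815) (.leaf 0))) (.node (.node (.leaf 7533) (.leaf 0)) (.node (.leaf 11416) (.leaf 0)))) (.node (.node (.node (.leaf 11360) (.leaf 10872)) (.node (.leaf 11112) (.leaf 0))) (.node (.node (.leaf 8879) (.leaf 0)) (.node (.leaf 16135) (.leaf 0)))))) (.node (.node (.node (.node (.node (.leaf 13286) (.leaf 15279)) (.node (.leaf 11061) (.leaf 0))) (.node (.node (.leaf 17789) (.leaf 15372)) (.node (.leaf 17075) (.leaf 0)))) (.node (.node (.node (.leaf 15277) (.leaf 7925)) (.node (.leaf 19488) (.leaf 0))) (.node (.node (.leaf 6427) (.leaf 0)) (.node (.leaf 13607) (.leaf 0))))) (.node (.node (.node (.node (.leaf 19830) (.leaf 1642)) (.node (.leaf 16138) (.leaf 0))) (.node (.node (.leaf 19146) (.leaf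 0)) (.node (.leaf 11441) (.leaf 0)))) (.node (.node (.node (.leaf 4715) (.leaf 15652)) (.node (.leaf 8670) (.leaf 0))) (.node (.node (.leaf 19029) (.leaf 0)) (.node (.leaf 8205) (.leaf 0))))))) (.node (.node (.node (.node (.node (.node (.leaf 20572) (.leaf 6206)) (.node (.leaf 7476) (.leaf 0))) (.node (.node (.leaf 18115) (.leaf 13415)) (.node (.leaf 17259) (.leaf 0)))) (.node (.node (.node (.leaf 6638) (.leaf 1048)) (.node (.leaf 12281) (.leaf 0))) (.node (.node (.leaf 2971) (.leaf 0)) (.node (.leaf 14518) (.leaf 0))))) (.node (.node (.node (.node (.leaf 6553) (.leaf 12014)) (.node (.leaf 20257) (.leaf 0))) (.node (.node (.leaf 6396) (.leaf 0)) (.node (.leaf 8304) (.leaf 0)))) (.node (.node (.node (.leaf 15094) (.leaf 16211)) (.node (.leaf 5023) (.leaf 0))) (.node (.node (.leaf 944) (.leaf 0)) (.node (.leaf 12542) (.leaf 0)))))) (.node (.node (.node (.node (.node (.leaf 6765) (.leaf 10971)) (.node (.leaf 1542) (.leaf 0))) (.node (.node (.leaf 12363) (.leaf 17298)) (.node (.leaf 1778) (.leaf 0))))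 (.node (.node (.node (.leaf 1910) (.leaf 21325)) (.node (.leaf 13301) (.leaf 0))) (.node (.node (.leaf 2729) (.leaf 0)) (.node (.leaf 7191) (.leaf 0))))) (.node (.node (.node (.node (.leaf 19588) (.leaf 2458)) (.node (.leaf 17052) (.leaf 0))) (.node (.node (.leaf 12607) (.leaf 0)) (.node (.leaf 1103) (.leaf 0)))) (.node (.node (.node (.leaf 6143) (.leaf 14291)) (.node (.leaf 15322) (.leaf 0))) (.node (.node (.leaf 15049) (.leaf 0)) (.node (.leaf 6414) (.leaf 0)))))))))

/-- part of a table -/
def ordK69 : Trie := (.node (.node (.node (.node (.node (.node (.node (.node (.leaf 3408) (.leaf 18467)) (.node (.leaf 5415) (.leaf 0))) (.node (.node (.leaf 12072) (.leaf 1524)) (.node (.leaf 16595) (.leaf 0)))) (.node (.node (.node (.leaf 20433) (.leaf 7896)) (.node (.leaf 21440) (.leaf 0))) (.node (.node (.leaf 16970) (.leaf 0)) (.node (.leaf 20880) (.leaf 0))))) (.node (.node (.node (.node (.leaf 15392) (.leaf 21453)) (.node (.leaf 890) (.leaf 0))) (.node (.node (.leaf 20448) (.leaf 0)) (.node (.leaf 11181)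 (.leaf 0)))) (.node (.node (.node (.leaf 13052) (.leaf 14653)) (.node (.leaf 9037) (.leaf 0))) (.node (.node (.leaf 11817) (.leaf 0)) (.node (.leaf 9995) (.leaf 0)))))) (.node (.node (.node (.node (.node (.leaf 15816) (.leaf 8164)) (.node (.leaf 1146) (.leaf 0))) (.node (.node (.leaf 3504) (.leaf 3608)) (.node (.leaf 15151) (.leaf 0)))) (.node (.node (.node (.leaf 8457) (.leaf 17301)) (.node (.leaf 2026) (.leaf 0))) (.node (.node (.leaf 10177) (.leaf 0)) (.node (.leaf 20452) (.leaf 0))))) (.node (.node (.node (.node (.leaf 15301) (.leaf 8484)) (.node (.leaf 15248) (.leaf 0))) (.node (.node (.leaf 3088) (.leaf 0)) (.node (.leaf 5520) (.leaf 0)))) (.node (.node (.node (.leaf 18968) (.leaf 9145)) (.node (.leaf 10610) (.leaf 0))) (.node (.node (.leaf 20267) (.leaf 0)) (.node (.leaf 1899) (.leaf 0))))))) (.node (.node (.node (.node (.node (.node (.leaf 11197) (.leaf 11128)) (.node (.leaf 2021) (.leaf 0))) (.node (.node (.leaf 4480) (.leaf 19702)) (.node (.leaf 18927) (.leaf 0)))) (.node (.node (.node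 (.leaf 7356) (.leaf 4446)) (.node (.leaf 15717) (.leaf 0))) (.node (.node (.leaf 8439) (.leaf 0)) (.node (.leaf 20962) (.leaf 0))))) (.node (.node (.node (.node (.leaf 7971) (.leaf 2805)) (.node (.leaf 21492) (.leaf 0))) (.node (.node (.leaf 11281) (.leaf 0)) (.node (.leaf 4912) (.leaf 0)))) (.node (.node (.node (.leaf 18998) (.leaf 20449)) (.node (.leaf 5767) (.leaf 0))) (.node (.node (.leaf 5642) (.leaf 0)) (.node (.leaf 5471) (.leaf 0)))))) (.node (.node (.node (.node (.node (.leaf 5666) (.leaf 19953)) (.node (.leaf 15890) (.leaf 0))) (.node (.node (.leaf 9887) (.leaf 10131)) (.node (.leaf 8863) (.leaf 0)))) (.node (.node (.node (.leaf 13668) (.leaf 6708)) (.node (.leaf 16974) (.leaf 0))) (.node (.node (.leaf 16878) (.leaf 0)) (.node (.leaf 12351) (.leaf 0))))) (.node (.node (.node (.node (.leaf 74) (.leaf 19228)) (.node (.leaf 19324) (.leaf 0))) (.node (.node (.leaf 7562) (.leaf 0)) (.node (.leaf 9592) (.leaf 0)))) (.node (.node (.node (.leaf 13797) (.leaf 4918)) (.node (.leaf 1644) (.leaf 0)))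 (.node (.node (.leaf 8773) (.leaf 0)) (.node (.leaf 2842) (.leaf 0)))))))) (.node (.node (.node (.node (.node (.node (.node (.leaf 12561) (.leaf 2360)) (.node (.leaf 16505) (.leaf 0))) (.node (.node (.leaf 2312) (.leaf 11252)) (.node (.leaf 10558) (.leaf 0)))) (.node (.node (.node (.leaf 4199) (.leaf 17734)) (.node (.leaf 10099) (.leaf 0))) (.node (.node (.leaf 13624) (.leaf 0)) (.node (.leaf 11944) (.leaf 0))))) (.node (.node (.node (.node (.leaf 17436) (.leaf 13564)) (.node (.leaf 12640) (.leaf 0))) (.node (.node (.leaf 5068) (.leaf 0)) (.node (.leaf 4904) (.leaf 0)))) (.node (.node (.node (.leaf 5900) (.leaf 9105)) (.node (.leaf 11352) (.leaf 0))) (.node (.node (.leaf 20368) (.leaf 0)) (.node (.leaf 14259) (.leaf 0)))))) (.node (.node (.node (.node (.node (.leaf 3114) (.leaf 167)) (.node (.leaf 9553) (.leaf 0))) (.node (.node (.leaf 11725) (.leaf 17722)) (.node (.leaf 8148) (.leaf 0)))) (.node (.node (.node (.leaf 19832) (.leaf 3750)) (.node (.leaf 21228) (.leaf 0))) (.node (.node (.leaf 1528)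 (.leaf 0)) (.node (.leaf 20824) (.leaf 0))))) (.node (.node (.node (.node (.leaf 6898) (.leaf 5146)) (.node (.leaf 9851) (.leaf 0))) (.node (.node (.leaf 6883) (.leaf 0)) (.node (.leaf 19127) (.leaf 0)))) (.node (.node (.node (.leaf 10349) (.leaf 12023)) (.node (.leaf 17328) (.leaf 0))) (.node (.node (.leaf 14060) (.leaf 0)) (.node (.leaf 5233) (.leaf 0))))))) (.node (.node (.node (.node (.node (.node (.leaf 4366) (.leaf 5089)) (.node (.leaf 7766) (.leaf 0))) (.node (.node (.leaf 16029) (.leaf 7351)) (.node (.leaf 7144) (.leaf 0)))) (.node (.node (.node (.leaf 14573) (.leaf 4710)) (.node (.leaf 14999) (.leaf 0))) (.node (.node (.leaf 7395) (.leaf 0)) (.node (.leaf 10088) (.leaf 0))))) (.node (.node (.node (.node (.leaf 16334) (.leaf 8534)) (.node (.leaf 2459) (.leaf 0))) (.node (.node (.leaf 6081) (.leaf 0)) (.node (.leaf 7169) (.leaf 0)))) (.node (.node (.node (.leaf 14179) (.leaf 16021)) (.node (.leaf 12186) (.leaf 0))) (.node (.node (.leaf 3424) (.leaf 0)) (.node (.leaf 186) (.leaf 0)))))) (.node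 (.node (.node (.node (.node (.leaf 15047) (.leaf 14717)) (.node (.leaf 9144) (.leaf 0))) (.node (.node (.leaf 11511) (.leaf 2737)) (.node (.leaf 12493) (.leaf 0)))) (.node (.node (.node (.leaf 7854) (.leaf 3558)) (.node (.leaf 19752) (.leaf 0))) (.node (.node (.leaf 4979) (.leaf 0)) (.node (.leaf 5852) (.leaf 0))))) (.node (.node (.node (.node (.leaf 9243) (.leaf 6914)) (.node (.leaf 13356) (.leaf 0))) (.node (.node (.leaf 17830) (.leaf 0)) (.node (.leaf 6454) (.leaf 0)))) (.node (.node (.node (.leaf 7241) (.leaf 15879)) (.node (.leaf 3411) (.leaf 0))) (.node (.node (.leaf 8471) (.leaf 0)) (.node (.leaf 9491) (.leaf 0)))))))))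

/-- part of a table -/
def ordK70 : Trie := (.node (.node (.node (.node (.node (.node (.node (.node (.leaf 14598) (.leaf 14257)) (.node (.leaf 10456) (.leaf 0))) (.node (.node (.leaf 2097) (.leaf 18688)) (.node (.leaf 1167) (.leaf 0)))) (.node (.node (.node (.leaf 8084) (.leaf 3559)) (.node (.leaf 2414) (.leaf 0))) (.node (.node (.leaf 709) (.leaf 0)) (.node (.leaf 6968) (.leaf 0))))) (.node (.node (.node (.node (.leaf 11154) (.leaf 20125)) (.node (.leaf 616) (.leaf 0))) (.node (.node (.leaf 705) (.leaf 0)) (.node (.leaf 15851) (.leaf 0)))) (.node (.node (.node (.leaf 16709) (.leaf 12190)) (.node (.leaf 13041) (.leaf 0))) (.node (.node (.leaf 18252) (.leaf 0)) (.node (.leaf 20948) (.leaf 0)))))) (.node (.node (.node (.node (.node (.leaf 20277) (.leaf 13538)) (.node (.leaf 3627) (.leaf 0))) (.node (.node (.leaf 7474) (.leaf 17297)) (.node (.leaf 10060) (.leaf 0)))) (.node (.node (.node (.leaf 5203) (.leaf 1441)) (.node (.leaf 11438) (.leaf 0))) (.node (.node (.leaf 16279) (.leaf 0)) (.node (.leaf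 17109) (.leaf 0))))) (.node (.node (.node (.node (.leaf 12591) (.leaf 16745)) (.node (.leaf 8926) (.leaf 0))) (.node (.node (.leaf 7473) (.leaf 0)) (.node (.leaf 2165) (.leaf 0)))) (.node (.node (.node (.leaf 1119) (.leaf 1543)) (.node (.leaf 20283) (.leaf 0))) (.node (.node (.leaf 3456) (.leaf 0)) (.node (.leaf 6351) (.leaf 0))))))) (.node (.node (.node (.node (.node (.node (.leaf 18391) (.leaf 11815)) (.node (.leaf 12893) (.leaf 0))) (.node (.node (.leaf 11068) (.leaf 11486)) (.node (.leaf 17835) (.leaf 0)))) (.node (.node (.node (.leaf 5170) (.leaf 10374)) (.node (.leaf 9727) (.leaf 0))) (.node (.node (.leaf 12538) (.leaf 0)) (.node (.leaf 9103) (.leaf 0))))) (.node (.node (.node (.node (.leaf 4428) (.leaf 16034)) (.node (.leaf 7849) (.leaf 0))) (.node (.node (.leaf 3866) (.leaf 0)) (.node (.leaf 15993) (.leaf 0)))) (.node (.node (.node (.leaf 18923) (.leaf 17897)) (.node (.leaf 10199) (.leaf 0))) (.node (.node (.leaf 6847) (.leaf 0)) (.node (.leaf 9313) (.leaf 0)))))) (.node (.node (.node (.node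 (.node (.leaf 1144) (.leaf 19487)) (.node (.leaf 2991) (.leaf 0))) (.node (.node (.leaf 7323) (.leaf 20262)) (.node (.leaf 3935) (.leaf 0)))) (.node (.node (.node (.leaf 16106) (.leaf 18364)) (.node (.leaf 16685) (.leaf 0))) (.node (.node (.leaf 4776) (.leaf 0)) (.node (.leaf 15155) (.leaf 0))))) (.node (.node (.node (.node (.leaf 874) (.leaf 6204)) (.node (.leaf 5181) (.leaf 0))) (.node (.node (.leaf 8847) (.leaf 0)) (.node (.leaf 12157) (.leaf 0)))) (.node (.node (.node (.leaf 19516) (.leaf 7798)) (.node (.leaf 20600) (.leaf 0))) (.node (.node (.leaf 20979) (.leaf 0)) (.node (.leaf 9056) (.leaf 0)))))))) (.node (.node (.node (.node (.node (.node (.node (.leaf 10080) (.leaf 1181)) (.node (.leaf 19749) (.leaf 0))) (.node (.node (.leaf 17383) (.leaf 15807)) (.node (.leaf 20195) (.leaf 0)))) (.node (.node (.node (.leaf 1610) (.leaf 12588)) (.node (.leaf 19972) (.leaf 0))) (.node (.node (.leaf 10778) (.leaf 0)) (.node (.leaf 13779) (.leaf 0))))) (.node (.node (.node (.node (.leaf 7499) (.leaf 15881))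 (.node (.leaf 3446) (.leaf 0))) (.node (.node (.leaf 16006) (.leaf 0)) (.node (.leaf 14919) (.leaf 0)))) (.node (.node (.node (.leaf 14831) (.leaf 5587)) (.node (.leaf 7344) (.leaf 0))) (.node (.node (.leaf 11874) (.leaf 0)) (.node (.leaf 20081) (.leaf 0)))))) (.node (.node (.node (.node (.node (.leaf 7818) (.leaf 4269)) (.node (.leaf 21494) (.leaf 0))) (.node (.node (.leaf 13738) (.leaf 20835)) (.node (.leaf 7612) (.leaf 0)))) (.node (.node (.node (.leaf 747) (.leaf 18450)) (.node (.leaf 7674) (.leaf 0))) (.node (.node (.leaf 18108) (.leaf 0)) (.node (.leaf 8319) (.leaf 0))))) (.node (.node (.node (.node (.leaf 3770) (.leaf 19367)) (.node (.leaf 3188) (.leaf 0))) (.node (.node (.leaf 11384) (.leaf 0)) (.node (.leaf 10532) (.leaf 0)))) (.node (.node (.node (.leaf 15085) (.leaf 16218)) (.node (.leaf 10889) (.leaf 0))) (.node (.node (.leaf 4991) (.leaf 0)) (.node (.leaf 11825) (.leaf 0))))))) (.node (.node (.node (.node (.node (.node (.leaf 8994) (.leaf 16237)) (.node (.leaf 9656) (.leaf 0))) (.node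 (.node (.leaf 11328) (.leaf 5639)) (.node (.leaf 8978) (.leaf 0)))) (.node (.node (.node (.leaf 1913) (.leaf 10598)) (.node (.leaf 6347) (.leaf 0))) (.node (.node (.leaf 19457) (.leaf 0)) (.node (.leaf 3135) (.leaf 0))))) (.node (.node (.node (.node (.leaf 16738) (.leaf 19966)) (.node (.leaf 15080) (.leaf 0))) (.node (.node (.leaf 5923) (.leaf 0)) (.node (.leaf 12297) (.leaf 0)))) (.node (.node (.node (.leaf 7427) (.leaf 11371)) (.node (.leaf 15712) (.leaf 0))) (.node (.node (.leaf 14759) (.leaf 0)) (.node (.leaf 16756) (.leaf 0)))))) (.node (.node (.node (.node (.node (.leaf 4032) (.leaf 18276)) (.node (.leaf 15440) (.leaf 0))) (.node (.node (.leaf 1969) (.leaf 12539)) (.node (.leaf 19824) (.leaf 0)))) (.node (.node (.node (.leaf 2427) (.leaf 475)) (.node (.leaf 12955) (.leaf 0))) (.node (.node (.leaf 520) (.leaf 0)) (.node (.leaf 14354) (.leaf 0))))) (.node (.node (.node (.node (.leaf 9602) (.leaf 9923)) (.node (.leaf 8271) (.leaf 0))) (.node (.node (.leaf 16855) (.leaf 0)) (.node (.leaf 1018)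 (.leaf 0)))) (.node (.node (.node (.leaf 12524) (.leaf 10286)) (.node (.leaf 14943) (.leaf 0))) (.node (.node (.leaf 9576) (.leaf 0)) (.node (.leaf 13062) (.leaf 0)))))))))

/-- part of a table -/
def ordK71 : Trie := (.node (.node (.node (.node (.node (.node (.node (.node (.leaf 7229) (.leaf 8368)) (.node (.leaf 13368) (.leaf 0))) (.node (.node (.leaf 1405) (.leaf 8105)) (.node (.leaf 16111) (.leaf 0)))) (.node (.node (.node (.leaf 19161) (.leaf 2497)) (.node (.leaf 15036) (.leaf 0))) (.node (.node (.leaf 20657) (.leaf 0)) (.node (.leaf 4231) (.leaf 0))))) (.node (.node (.node (.node (.leaf 8183) (.leaf 16539)) (.node (.leaf 2546) (.leaf 0))) (.node (.node (.leaf 8729) (.leaf 0)) (.node (.leaf 4300) (.leaf 0)))) (.node (.node (.node (.leaf 20462) (.leaf 12944)) (.node (.leaf 19145) (.leaf 0))) (.node (.node (.leaf 13209) (.leaf 0)) (.node (.leaf 16895) (.leaf 0)))))) (.node (.node (.node (.node (.node (.leaf 14600) (.leaf 8067)) (.node (.leaf 19901) (.leaf 0))) (.node (.node (.leaf 10619) (.leaf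 20179)) (.node (.leaf 5744) (.leaf 0)))) (.node (.node (.node (.leaf 7062) (.leaf 10430)) (.node (.leaf 21256) (.leaf 0))) (.node (.node (.leaf 1488) (.leaf 0)) (.node (.leaf 13561) (.leaf 0))))) (.node (.node (.node (.node (.leaf 11321) (.leaf 2)) (.node (.leaf 3588) (.leaf 0))) (.node (.node (.leaf 15138) (.leaf 0)) (.node (.leaf 2726) (.leaf 0)))) (.node (.node (.node (.leaf 6160) (.leaf 8209)) (.node (.leaf 14295) (.leaf 0))) (.node (.node (.leaf 3338) (.leaf 0)) (.node (.leaf 12737) (.leaf 0))))))) (.node (.node (.node (.node (.node (.node (.leaf 4990) (.leaf 8924)) (.node (.leaf 17451) (.leaf 0))) (.node (.node (.leaf 4875) (.leaf 9388)) (.node (.leaf 11059) (.leaf 0)))) (.node (.node (.node (.leaf 8881) (.leaf 6641)) (.node (.leaf 13211) (.leaf 0))) (.node (.node (.leaf 10642) (.leaf 0)) (.node (.leaf 21417) (.leaf 0))))) (.node (.node (.node (.node (.leaf 2139) (.leaf 20916)) (.node (.leaf 15148) (.leaf 0))) (.node (.node (.leaf 17223) (.leaf 0)) (.node (.leaf 1475) (.leaf 0)))) (.node (.node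 (.node (.leaf 2160) (.leaf 17552)) (.node (.leaf 3526) (.leaf 0))) (.node (.node (.leaf 748) (.leaf 0)) (.node (.leaf 9322) (.leaf 0)))))) (.node (.node (.node (.node (.node (.leaf 14157) (.leaf 4939)) (.node (.leaf 8005) (.leaf 0))) (.node (.node (.leaf 5369) (.leaf 11904)) (.node (.leaf 565) (.leaf 0)))) (.node (.node (.node (.leaf 18684) (.leaf 5939)) (.node (.leaf 10794) (.leaf 0))) (.node (.node (.leaf 12880) (.leaf 0)) (.node (.leaf 11858) (.leaf 0))))) (.node (.node (.node (.node (.leaf 4569) (.leaf 20876)) (.node (.leaf 4964) (.leaf 0))) (.node (.node (.leaf 4790) (.leaf 0)) (.node (.leaf 8580) (.leaf 0)))) (.node (.node (.node (.leaf 5381) (.leaf 19831)) (.node (.leaf 4407) (.leaf 0))) (.node (.node (.leaf 12056) (.leaf 0)) (.node (.leaf 12200) (.leaf 0)))))))) (.node (.node (.node (.node (.node (.node (.node (.leaf 19697) (.leaf 7679)) (.node (.leaf 10635) (.leaf 0))) (.node (.node (.leaf 12061) (.leaf 3544)) (.node (.leaf 13479) (.leaf 0)))) (.node (.node (.node (.leaf 16404) (.leaf 19930))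 (.node (.leaf 15452) (.leaf 0))) (.node (.node (.leaf 15626) (.leaf 0)) (.node (.leaf 10682) (.leaf 0))))) (.node (.node (.node (.node (.leaf 19814) (.leaf 8529)) (.node (.leaf 19294) (.leaf 0))) (.node (.node (.leaf 12461) (.leaf 0)) (.node (.leaf 1659) (.leaf 0)))) (.node (.node (.node (.leaf 8964) (.leaf 10221)) (.node (.leaf 11875) (.leaf 0))) (.node (.node (.leaf 11873) (.leaf 0)) (.node (.leaf 12956) (.leaf 0)))))) (.node (.node (.node (.node (.node (.leaf 265) (.leaf 5643)) (.node (.leaf 17274) (.leaf 0))) (.node (.node (.leaf 20157) (.leaf 11743)) (.node (.leaf 7880) (.leaf 0)))) (.node (.node (.node (.leaf 21150) (.leaf 16421)) (.node (.leaf 13525) (.leaf 0))) (.node (.node (.leaf 17631) (.leaf 0)) (.node (.leaf 14735) (.leaf 0))))) (.node (.node (.node (.node (.leaf 21314) (.leaf 13470)) (.node (.leaf 14658) (.leaf 0))) (.node (.node (.leaf 9478) (.leaf 0)) (.node (.leaf 18293) (.leaf 0)))) (.node (.node (.node (.leaf 9152) (.leaf 99)) (.node (.leaf 14321) (.leaf 0))) (.node (.node (.leaf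 19344) (.leaf 0)) (.node (.leaf 4463) (.leaf 0))))))) (.node (.node (.node (.node (.node (.node (.leaf 6875) (.leaf 11336)) (.node (.leaf 557) (.leaf 0))) (.node (.node (.leaf 12358) (.leaf 11142)) (.node (.leaf 12866) (.leaf 0)))) (.node (.node (.node (.leaf 21444) (.leaf 6893)) (.node (.leaf 3565) (.leaf 0))) (.node (.node (.leaf 17431) (.leaf 0)) (.node (.leaf 6814) (.leaf 0))))) (.node (.node (.node (.node (.leaf 2573) (.leaf 2962)) (.node (.leaf 11414) (.leaf 0))) (.node (.node (.leaf 11826) (.leaf 0)) (.node (.leaf 12776) (.leaf 0)))) (.node (.node (.node (.leaf 12150) (.leaf 18215)) (.node (.leaf 20822) (.leaf 0))) (.node (.node (.leaf 21299) (.leaf 0)) (.node (.leaf 970) (.leaf 0)))))) (.node (.node (.node (.node (.node (.leaf 6141) (.leaf 7793)) (.node (.leaf 13244) (.leaf 0))) (.node (.node (.leaf 2750) (.leaf 18632)) (.node (.leaf 6859) (.leaf 0)))) (.node (.node (.node (.leaf 13981) (.leaf 3463)) (.node (.leaf 1888) (.leaf 0))) (.node (.node (.leaf 2853) (.leaf 0)) (.node (.leaf 14543)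 (.leaf 0))))) (.node (.node (.node (.node (.leaf 20006) (.leaf 13871)) (.node (.leaf 11392) (.leaf 0))) (.node (.node (.leaf 20034) (.leaf 0)) (.node (.leaf 17062) (.leaf 0)))) (.node (.node (.node (.leaf 20166) (.leaf 14819)) (.node (.leaf 6446) (.leaf 0))) (.node (.node (.leaf 20515) (.leaf 0)) (.node (.leaf 18841) (.leaf 0)))))))))

/-- part of a table -/
def ordK72 : Trie := (.node (.node (.node (.node (.node (.node (.node (.node (.leaf 11479) (.leaf 20129)) (.node (.leaf 21251) (.leaf 0))) (.node (.node (.leaf 21052) (.leaf 11518)) (.node (.leaf 9556) (.leaf 0)))) (.node (.node (.node (.leaf 12679) (.leaf 10388)) (.node (.leaf 20503) (.leaf 0))) (.node (.node (.leaf 6152) (.leaf 0)) (.node (.leaf 3509) (.leaf 0))))) (.node (.node (.node (.node (.leaf 7080) (.leaf 1960)) (.node (.leaf 4538) (.leaf 0))) (.node (.node (.leaf 19411) (.leaf 0)) (.node (.leaf 13271) (.leaf 0)))) (.node (.node (.node (.leaf 21018) (.leaf 14188)) (.node (.leaf 13284) (.leaf 0))) (.node (.node (.leaf 20534) (.leaf 0))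 (.node (.leaf 13645) (.leaf 0)))))) (.node (.node (.node (.node (.node (.leaf 19296) (.leaf 3721)) (.node (.leaf 3994) (.leaf 0))) (.node (.node (.leaf 17851) (.leaf 17350)) (.node (.leaf 8352) (.leaf 0)))) (.node (.node (.node (.leaf 2625) (.leaf 1492)) (.node (.leaf 11177) (.leaf 0))) (.node (.node (.leaf 20037) (.leaf 0)) (.node (.leaf 11233) (.leaf 0))))) (.node (.node (.node (.node (.leaf 4674) (.leaf 1444)) (.node (.leaf 10638) (.leaf 0))) (.node (.node (.leaf 10192) (.leaf 0)) (.node (.leaf 5881) (.leaf 0)))) (.node (.node (.node (.leaf 17485) (.leaf 17036)) (.node (.leaf 18667) (.leaf 0))) (.node (.node (.leaf 2547) (.leaf 0)) (.node (.leaf 15206) (.leaf 0))))))) (.node (.node (.node (.node (.node (.node (.leaf 17480) (.leaf 11299)) (.node (.leaf 17188) (.leaf 0))) (.node (.node (.leaf 12257) (.leaf 4557)) (.node (.leaf 1212) (.leaf 0)))) (.node (.node (.node (.leaf 5439) (.leaf 15479)) (.node (.leaf 16937) (.leaf 0))) (.node (.node (.leaf 20540) (.leaf 0)) (.node (.leaf 12909) (.leaf 0)))))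 (.node (.node (.node (.node (.leaf 15576) (.leaf 18153)) (.node (.leaf 7490) (.leaf 0))) (.node (.node (.leaf 9468) (.leaf 0)) (.node (.leaf 8373) (.leaf 0)))) (.node (.node (.node (.leaf 16367) (.leaf 8638)) (.node (.leaf 16879) (.leaf 0))) (.node (.node (.leaf 15278) (.leaf 0)) (.node (.leaf 16793) (.leaf 0)))))) (.node (.node (.node (.node (.node (.leaf 2886) (.leaf 11411)) (.node (.leaf 11462) (.leaf 0))) (.node (.node (.leaf 9367) (.leaf 12890)) (.node (.leaf 15435) (.leaf 0)))) (.node (.node (.node (.leaf 1870) (.leaf 11517)) (.node (.leaf 1653) (.leaf 0))) (.node (.node (.leaf 20204) (.leaf 0)) (.node (.leaf 16465) (.leaf 0))))) (.node (.node (.node (.node (.leaf 192) (.leaf 11404)) (.node (.leaf 11208) (.leaf 0))) (.node (.node (.leaf 9364) (.leaf 0)) (.node (.leaf 14097) (.leaf 0)))) (.node (.node (.node (.leaf 3618) (.leaf 14665)) (.node (.leaf 5148) (.leaf 0))) (.node (.node (.leaf 2624) (.leaf 0)) (.node (.leaf 18123) (.leaf 0)))))))) (.node (.node (.node (.node (.node (.node (.node (.leaf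 9474) (.leaf 1776)) (.node (.leaf 12079) (.leaf 0))) (.node (.node (.leaf 14039) (.leaf 10516)) (.node (.leaf 16537) (.leaf 0)))) (.node (.node (.node (.leaf 18105) (.leaf 6605)) (.node (.leaf 13504) (.leaf 0))) (.node (.node (.leaf 1536) (.leaf 0)) (.node (.leaf 19616) (.leaf 0))))) (.node (.node (.node (.node (.leaf 14454) (.leaf 12401)) (.node (.leaf 17385) (.leaf 0))) (.node (.node (.leaf 14507) (.leaf 0)) (.node (.leaf 1092) (.leaf 0)))) (.node (.node (.node (.leaf 438) (.leaf 49)) (.node (.leaf 1093) (.leaf 0))) (.node (.node (.leaf 18835) (.leaf 0)) (.node (.leaf 3699) (.leaf 0)))))) (.node (.node (.node (.node (.node (.leaf 10357) (.leaf 4526)) (.node (.leaf 3428) (.leaf 0))) (.node (.node (.leaf 3909) (.leaf 7857)) (.node (.leaf 9586) (.leaf 0)))) (.node (.node (.node (.leaf 6436) (.leaf 11213)) (.node (.leaf 17569) (.leaf 0))) (.node (.node (.leaf 21474) (.leaf 0)) (.node (.leaf 5351) (.leaf 0))))) (.node (.node (.node (.node (.leaf 5946) (.leaf 428)) (.node (.leaf 20652) (.leaf 0))) (.node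 (.node (.leaf 8907) (.leaf 0)) (.node (.leaf 6373) (.leaf 0)))) (.node (.node (.node (.leaf 10469) (.leaf 12393)) (.node (.leaf 10403) (.leaf 0))) (.node (.node (.leaf 18596) (.leaf 0)) (.node (.leaf 21281) (.leaf 0))))))) (.node (.node (.node (.node (.node (.node (.leaf 1784) (.leaf 11955)) (.node (.leaf 9113) (.leaf 0))) (.node (.node (.leaf 14426) (.leaf 12435)) (.node (.leaf 2212) (.leaf 0)))) (.node (.node (.node (.leaf 517) (.leaf 16231)) (.node (.leaf 2778) (.leaf 0))) (.node (.node (.leaf 9557) (.leaf 0)) (.node (.leaf 13800) (.leaf 0))))) (.node (.node (.node (.node (.leaf 8074) (.leaf 20414)) (.node (.leaf 19105) (.leaf 0))) (.node (.node (.leaf 6842) (.leaf 0)) (.node (.leaf 19564) (.leaf 0)))) (.node (.node (.node (.leaf 1972) (.leaf 19648)) (.node (.leaf 4036) (.leaf 0))) (.node (.node (.leaf 7814) (.leaf 0)) (.node (.leaf 9456) (.leaf 0)))))) (.node (.node (.node (.node (.node (.leaf 15216) (.leaf 10448)) (.node (.leaf 16729) (.leaf 0))) (.node (.node (.leaf 15223) (.leaf 18783)) (.node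 (.leaf 11851) (.leaf 0)))) (.node (.node (.node (.leaf 2410) (.leaf 6026)) (.node (.leaf 16823) (.leaf 0))) (.node (.node (.leaf 20870) (.leaf 0)) (.node (.leaf 3453) (.leaf 0))))) (.node (.node (.node (.node (.leaf 2109) (.leaf 20149)) (.node (.leaf 8726) (.leaf 0))) (.node (.node (.leaf 13625) (.leaf 0)) (.node (.leaf 14462) (.leaf 0)))) (.node (.node (.node (.leaf 8702) (.leaf 6008)) (.node (.leaf 17975) (.leaf 0))) (.node (.node (.leaf 5905) (.leaf 0)) (.node (.leaf 11668) (.leaf 0)))))))))

/-- part of a table -/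
def ordK73 : Trie := (.node (.node (.node (.node (.node (.node (.node (.node (.leaf 15814) (.leaf 8263)) (.node (.leaf 12977) (.leaf 0))) (.node (.node (.leaf 5450) (.leaf 15665)) (.node (.leaf 9623) (.leaf 0)))) (.node (.node (.node (.leaf 10470) (.leaf 1484)) (.node (.leaf 18629) (.leaf 0))) (.node (.node (.leaf 1469) (.leaf 0)) (.node (.leaf 19230) (.leaf 0))))) (.node (.node (.node (.node (.leaf 16873) (.leaf 15356)) (.node (.leaf 10709) (.leaf 0))) (.node (.node (.leaf 9408) (.leaf 0)) (.node (.leaf 14452) (.leaf 0)))) (.node (.node (.node (.leaf 14603) (.leaf 15107)) (.node (.leaf 14728) (.leaf 0))) (.node (.node (.leaf 2317) (.leaf 0)) (.node (.leaf 13167) (.leaf 0)))))) (.node (.node (.node (.node (.node (.leaf 21233) (.leaf 19748)) (.node (.leaf 11914) (.leaf 0))) (.node (.node (.leaf 9769) (.leaf 13753)) (.node (.leaf 10120) (.leaf 0)))) (.node (.node (.node (.leaf 13729) (.leaf 16808)) (.node (.leaf 16374) (.leaf 0))) (.node (.node (.leaf 2733) (.leaf 0)) (.node (.leaf 9266) (.leaf 0)))))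 (.node (.node (.node (.node (.leaf 6866) (.leaf 21109)) (.node (.leaf 6555) (.leaf 0))) (.node (.node (.leaf 17489) (.leaf 0)) (.node (.leaf 6630) (.leaf 0)))) (.node (.node (.node (.leaf 14371) (.leaf 13558)) (.node (.leaf 11439) (.leaf 0))) (.node (.node (.leaf 209) (.leaf 0)) (.node (.leaf 12903) (.leaf 0))))))) (.node (.node (.node (.node (.node (.node (.leaf 5176) (.leaf 7851)) (.node (.leaf 3696) (.leaf 0))) (.node (.node (.leaf 3822) (.leaf 13370)) (.node (.leaf 12137) (.leaf 0)))) (.node (.node (.node (.leaf 6924) (.leaf 1842)) (.node (.leaf 7700) (.leaf 0))) (.node (.node (.leaf 9218) (.leaf 0)) (.node (.leaf 9141) (.leaf 0))))) (.node (.node (.node (.node (.leaf 13620) (.leaf 2313)) (.node (.leaf 13160) (.leaf 0))) (.node (.node (.leaf 4771) (.leaf 0)) (.node (.leaf 13670) (.leaf 0)))) (.node (.node (.node (.leaf 9868) (.leaf 7801)) (.node (.leaf 14729) (.leaf 0))) (.node (.node (.leaf 19536) (.leaf 0)) (.node (.leaf 16992) (.leaf 0)))))) (.node (.node (.node (.node (.node (.leaf 13955)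 (.leaf 17164)) (.node (.leaf 1861) (.leaf 0))) (.node (.node (.leaf 16309) (.leaf 3259)) (.node (.leaf 2210) (.leaf 0)))) (.node (.node (.node (.leaf 14781) (.leaf 13676)) (.node (.leaf 6113) (.leaf 0))) (.node (.node (.leaf 16853) (.leaf 0)) (.node (.leaf 7199) (.leaf 0))))) (.node (.node (.node (.node (.leaf 10862) (.leaf 15043)) (.node (.leaf 19819) (.leaf 0))) (.node (.node (.leaf 7269) (.leaf 0)) (.node (.leaf 2134) (.leaf 0)))) (.node (.node (.node (.leaf 10594) (.leaf 841)) (.node (.leaf 1287) (.leaf 0))) (.node (.node (.leaf 7260) (.leaf 0)) (.node (.leaf 21416) (.leaf 0)))))))) (.node (.node (.node (.node (.node (.node (.node (.leaf 4132) (.leaf 6301)) (.node (.leaf 577) (.leaf 0))) (.node (.node (.leaf 3170) (.leaf 10551)) (.node (.leaf 311) (.leaf 0)))) (.node (.node (.node (.leaf 2773) (.leaf 6424)) (.node (.leaf 7391) (.leaf 0))) (.node (.node (.leaf 17104) (.leaf 0)) (.node (.leaf 14687) (.leaf 0))))) (.node (.node (.node (.node (.leaf 14394) (.leaf 5240)) (.node (.leaf 7529) (.leaf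 0))) (.node (.node (.leaf 92) (.leaf 0)) (.node (.leaf 15755) (.leaf 0)))) (.node (.node (.node (.leaf 14858) (.leaf 7702)) (.node (.leaf 599) (.leaf 0))) (.node (.node (.leaf 5004) (.leaf 0)) (.node (.leaf 20388) (.leaf 0)))))) (.node (.node (.node (.node (.node (.leaf 9404) (.leaf 13328)) (.node (.leaf 17616) (.leaf 0))) (.node (.node (.leaf 7136) (.leaf 1912)) (.node (.leaf 7602) (.leaf 0)))) (.node (.node (.node (.leaf 16115) (.leaf 18418)) (.node (.leaf 6243) (.leaf 0))) (.node (.node (.leaf 16380) (.leaf 0)) (.node (.leaf 17933) (.leaf 0))))) (.node (.node (.node (.node (.leaf 20961) (.leaf 4405)) (.node (.leaf 10043) (.leaf 0))) (.node (.node (.leaf 13015) (.leaf 0)) (.node (.leaf 3577) (.leaf 0)))) (.node (.node (.node (.leaf 3105) (.leaf 5180)) (.node (.leaf 9260) (.leaf 0))) (.node (.node (.leaf 5177) (.leaf 0)) (.node (.leaf 15156) (.leaf 0))))))) (.node (.node (.node (.node (.node (.node (.leaf 12287) (.leaf 16532)) (.node (.leaf 7434) (.leaf 0))) (.node (.node (.leaf 6919) (.leaf 12502))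 (.node (.leaf 10982) (.leaf 0)))) (.node (.node (.node (.leaf 653) (.leaf 8223)) (.node (.leaf 210) (.leaf 0))) (.node (.node (.leaf 10569) (.leaf 0)) (.node (.leaf 4251) (.leaf 0))))) (.node (.node (.node (.node (.leaf 7060) (.leaf 5035)) (.node (.leaf 18298) (.leaf 0))) (.node (.node (.leaf 4772) (.leaf 0)) (.node (.leaf 8812) (.leaf 0)))) (.node (.node (.node (.leaf 4187) (.leaf 17915)) (.node (.leaf 3283) (.leaf 0))) (.node (.node (.leaf 19134) (.leaf 0)) (.node (.leaf 18241) (.leaf 0)))))) (.node (.node (.node (.node (.node (.leaf 2184) (.leaf 20422)) (.node (.leaf 11155) (.leaf 0))) (.node (.node (.leaf 5366) (.leaf 8889)) (.node (.leaf 15789) (.leaf 0)))) (.node (.node (.node (.leaf 20581) (.leaf 15046)) (.node (.leaf 14304) (.leaf 0))) (.node (.node (.leaf 2170) (.leaf 0)) (.node (.leaf 3333) (.leaf 0))))) (.node (.node (.node (.node (.leaf 18297) (.leaf 20291)) (.node (.leaf 6774) (.leaf 0))) (.node (.node (.leaf 7332) (.leaf 0)) (.node (.leaf 15259) (.leaf 0)))) (.node (.node (.node (.leaf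 6054) (.leaf 3191)) (.node (.leaf 9590) (.leaf 0))) (.node (.node (.leaf 17623) (.leaf 0)) (.node (.leaf 7929) (.leaf 0)))))))))

/-- part of a table -/
def ordK74 : Trie := (.node (.node (.node (.node (.node (.node (.node (.node (.leaf 2848) (.leaf 4956)) (.node (.leaf 6885) (.leaf 0))) (.node (.node (.leaf 16268) (.leaf 6292)) (.node (.leaf 9413) (.leaf 0)))) (.node (.node (.node (.leaf 3759) (.leaf 987)) (.node (.leaf 2881) (.leaf 0))) (.node (.node (.leaf 8190) (.leaf 0)) (.node (.leaf 17300) (.leaf 0))))) (.node (.node (.node (.node (.leaf 3499) (.leaf 21094)) (.node (.leaf 8546) (.leaf 0))) (.node (.node (.leaf 10108) (.leaf 0)) (.node (.leaf 20656) (.leaf 0)))) (.node (.node (.node (.leaf 16978) (.leaf 5612)) (.node (.leaf 6962) (.leaf 0))) (.node (.node (.leaf 20878) (.leaf 0)) (.node (.leaf 15103) (.leaf 0)))))) (.node (.node (.node (.node (.node (.leaf 20957) (.leaf 17144)) (.node (.leaf 248) (.leaf 0))) (.node (.node (.leaf 3226) (.leaf 21355)) (.node (.leaf 14864) (.leaf 0)))) (.node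 (.node (.node (.leaf 8069) (.leaf 13867)) (.node (.leaf 20912) (.leaf 0))) (.node (.node (.leaf 5629) (.leaf 0)) (.node (.leaf 19198) (.leaf 0))))) (.node (.node (.node (.node (.leaf 5739) (.leaf 12563)) (.node (.leaf 20500) (.leaf 0))) (.node (.node (.leaf 6030) (.leaf 0)) (.node (.leaf 1971) (.leaf 0)))) (.node (.node (.node (.leaf 2039) (.leaf 18474)) (.node (.leaf 18637) (.leaf 0))) (.node (.node (.leaf 13147) (.leaf 0)) (.node (.leaf 2808) (.leaf 0))))))) (.node (.node (.node (.node (.node (.node (.leaf 4495) (.leaf 15542)) (.node (.leaf 4521) (.leaf 0))) (.node (.node (.leaf 19483) (.leaf 14879)) (.node (.leaf 5224) (.leaf 0)))) (.node (.node (.node (.leaf 15052) (.leaf 1349)) (.node (.leaf 10076) (.leaf 0))) (.node (.node (.leaf 2241) (.leaf 0)) (.node (.leaf 16504) (.leaf 0))))) (.node (.node (.node (.node (.leaf 14174) (.leaf 15956)) (.node (.leaf 8645) (.leaf 0))) (.node (.node (.leaf 20999) (.leaf 0)) (.node (.leaf 5590) (.leaf 0)))) (.node (.node (.node (.leaf 10377) (.leaf 10360)) (.node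 (.leaf 7475) (.leaf 0))) (.node (.node (.leaf 19040) (.leaf 0)) (.node (.leaf 4071) (.leaf 0)))))) (.node (.node (.node (.node (.node (.leaf 5261) (.leaf 16931)) (.node (.leaf 247) (.leaf 0))) (.node (.node (.leaf 7484) (.leaf 12240)) (.node (.leaf 2330) (.leaf 0)))) (.node (.node (.node (.leaf 11419) (.leaf 10035)) (.node (.leaf 6064) (.leaf 0))) (.node (.node (.leaf 7572) (.leaf 0)) (.node (.leaf 18582) (.leaf 0))))) (.node (.node (.node (.node (.leaf 16757) (.leaf 6145)) (.node (.leaf 20585) (.leaf 0))) (.node (.node (.leaf 7349) (.leaf 0)) (.node (.leaf 17208) (.leaf 0)))) (.node (.node (.node (.leaf 17284) (.leaf 14669)) (.node (.leaf 9657) (.leaf 0))) (.node (.node (.leaf 20479) (.leaf 0)) (.node (.leaf 17937) (.leaf 0)))))))) (.node (.node (.node (.node (.node (.node (.node (.leaf 2937) (.leaf 6724)) (.node (.leaf 13331) (.leaf 0))) (.node (.node (.leaf 19808) (.leaf 15799)) (.node (.leaf 15617) (.leaf 0)))) (.node (.node (.node (.leaf 2644) (.leaf 2133)) (.node (.leaf 2385) (.leaf 0))) (.node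 (.node (.leaf 161) (.leaf 0)) (.node (.leaf 17650) (.leaf 0))))) (.node (.node (.node (.node (.leaf 17802) (.leaf 13193)) (.node (.leaf 18423) (.leaf 0))) (.node (.node (.leaf 6003) (.leaf 0)) (.node (.leaf 6259) (.leaf 0)))) (.node (.node (.node (.leaf 8011) (.leaf 276)) (.node (.leaf 13143) (.leaf 0))) (.node (.node (.leaf 11443) (.leaf 0)) (.node (.leaf 2522) (.leaf 0)))))) (.node (.node (.node (.node (.node (.leaf 10387) (.leaf 845)) (.node (.leaf 8065) (.leaf 0))) (.node (.node (.leaf 7274) (.leaf 13589)) (.node (.leaf 12594) (.leaf 0)))) (.node (.node (.node (.leaf 6132) (.leaf 5336)) (.node (.leaf 8663) (.leaf 0))) (.node (.node (.leaf 20994) (.leaf 0)) (.node (.leaf 5974) (.leaf 0))))) (.node (.node (.node (.node (.leaf 14201) (.leaf 199)) (.node (.leaf 7153) (.leaf 0))) (.node (.node (.leaf 20224) (.leaf 0)) (.node (.leaf 11582) (.leaf 0)))) (.node (.node (.node (.leaf 17735) (.leaf 19684)) (.node (.leaf 19439) (.leaf 0))) (.node (.node (.leaf 926) (.leaf 0)) (.node (.leaf 9862) (.leaf 0)))))))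 (.node (.node (.node (.node (.node (.node (.leaf 14998) (.leaf 5856)) (.node (.leaf 9390) (.leaf 0))) (.node (.node (.leaf 4499) (.leaf 11514)) (.node (.leaf 19945) (.leaf 0)))) (.node (.node (.node (.leaf 8825) (.leaf 10859)) (.node (.leaf 2292) (.leaf 0))) (.node (.node (.leaf 8800) (.leaf 0)) (.node (.leaf 6519) (.leaf 0))))) (.node (.node (.node (.node (.leaf 394) (.leaf 17795)) (.node (.leaf 2111) (.leaf 0))) (.node (.node (.leaf 17928) (.leaf 0)) (.node (.leaf 20263) (.leaf 0)))) (.node (.node (.node (.leaf 20050) (.leaf 7098)) (.node (.leaf 19099) (.leaf 0))) (.node (.node (.leaf 9867) (.leaf 0)) (.node (.leaf 14404) (.leaf 0)))))) (.node (.node (.node (.node (.node (.leaf 13268) (.leaf 21391)) (.node (.leaf 14152) (.leaf 0))) (.node (.node (.leaf 4825) (.leaf 2660)) (.node (.leaf 9676) (.leaf 0)))) (.node (.node (.node (.leaf 8937) (.leaf 6543)) (.node (.leaf 16848) (.leaf 0))) (.node (.node (.leaf 16820) (.leaf 0)) (.node (.leaf 7341) (.leaf 0))))) (.node (.node (.node (.node (.leaf 10338)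 (.leaf 4389)) (.node (.leaf 17476) (.leaf 0))) (.node (.node (.leaf 9668) (.leaf 0)) (.node (.leaf 385) (.leaf 0)))) (.node (.node (.node (.leaf 3331) (.leaf 9411)) (.node (.leaf 21350) (.leaf 0))) (.node (.node (.leaf 21276) (.leaf 0)) (.node (.leaf 8531) (.leaf 0)))))))))

/-- part of a table -/
def ordK75 : Trie := (.node (.node (.node (.node (.node (.node (.node (.node (.leaf 13144) (.leaf 20638)) (.node (.leaf 4733) (.leaf 0))) (.node (.node (.leaf 7) (.leaf 11925)) (.node (.leaf 10568) (.leaf 0)))) (.node (.node (.node (.leaf 6683) (.leaf 16468)) (.node (.leaf 3554) (.leaf 0))) (.node (.node (.leaf 5090) (.leaf 0)) (.node (.leaf 15264) (.leaf 0))))) (.node (.node (.node (.node (.leaf 21289) (.leaf 9624)) (.node (.leaf 16280) (.leaf 0))) (.node (.node (.leaf 17881) (.leaf 0)) (.node (.leaf 5996) (.leaf 0)))) (.node (.node (.node (.leaf 12806) (.leaf 19740)) (.node (.leaf 21036) (.leaf 0))) (.node (.node (.leaf 17758) (.leaf 0)) (.node (.leaf 20619) (.leaf 0)))))) (.node (.node (.node (.node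 (.node (.leaf 20115) (.leaf 10751)) (.node (.leaf 9917) (.leaf 0))) (.node (.node (.leaf 6121) (.leaf 12658)) (.node (.leaf 21133) (.leaf 0)))) (.node (.node (.node (.leaf 2575) (.leaf 18706)) (.node (.leaf 3963) (.leaf 0))) (.node (.node (.leaf 7905) (.leaf 0)) (.node (.leaf 10063) (.leaf 0))))) (.node (.node (.node (.node (.leaf 12184) (.leaf 253)) (.node (.leaf 7734) (.leaf 0))) (.node (.node (.leaf 15856) (.leaf 0)) (.node (.leaf 5305) (.leaf 0)))) (.node (.node (.node (.leaf 18856) (.leaf 20396)) (.node (.leaf 13592) (.leaf 0))) (.node (.node (.leaf 7509) (.leaf 0)) (.node (.leaf 406) (.leaf 0))))))) (.node (.node (.node (.node (.node (.node (.leaf 14980) (.leaf 5549)) (.node (.leaf 16807) (.leaf 0))) (.node (.node (.leaf 18640) (.leaf 19522)) (.node (.leaf 19939) (.leaf 0)))) (.node (.node (.node (.leaf 10209) (.leaf 11499)) (.node (.leaf 18013) (.leaf 0))) (.node (.node (.leaf 20626) (.leaf 0)) (.node (.leaf 701) (.leaf 0))))) (.node (.node (.node (.node (.leaf 11705) (.leaf 5606)) (.node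 (.leaf 12651) (.leaf 0))) (.node (.node (.leaf 20373) (.leaf 0)) (.node (.leaf 8010) (.leaf 0)))) (.node (.node (.node (.leaf 19442) (.leaf 4205)) (.node (.leaf 15517) (.leaf 0))) (.node (.node (.leaf 16116) (.leaf 0)) (.node (.leaf 1253) (.leaf 0)))))) (.node (.node (.node (.node (.node (.leaf 2426) (.leaf 1356)) (.node (.leaf 4623) (.leaf 0))) (.node (.node (.leaf 1837) (.leaf 11890)) (.node (.leaf 18225) (.leaf 0)))) (.node (.node (.node (.leaf 6741) (.leaf 14017)) (.node (.leaf 5018) (.leaf 0))) (.node (.node (.leaf 14967) (.leaf 0)) (.node (.leaf 20389) (.leaf 0))))) (.node (.node (.node (.node (.leaf 3683) (.leaf 13515)) (.node (.leaf 3378) (.leaf 0))) (.node (.node (.leaf 17064) (.leaf 0)) (.node (.leaf 19406) (.leaf 0)))) (.node (.node (.node (.leaf 3760) (.leaf 16114)) (.node (.leaf 11684) (.leaf 0))) (.node (.node (.leaf 10339) (.leaf 0)) (.node (.leaf 11912) (.leaf 0)))))))) (.node (.node (.node (.node (.node (.node (.node (.leaf 13203) (.leaf 7560)) (.node (.leaf 10780) (.leaf 0))) (.node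 (.node (.leaf 3684) (.leaf 3090)) (.node (.leaf 3830) (.leaf 0)))) (.node (.node (.node (.leaf 6312) (.leaf 569)) (.node (.leaf 6696) (.leaf 0))) (.node (.node (.leaf 6437) (.leaf 0)) (.node (.leaf 18750) (.leaf 0))))) (.node (.node (.node (.node (.leaf 18831) (.leaf 1686)) (.node (.leaf 4800) (.leaf 0))) (.node (.node (.leaf 332) (.leaf 0)) (.node (.leaf 2336) (.leaf 0)))) (.node (.node (.node (.leaf 8656) (.leaf 16003)) (.node (.leaf 6138) (.leaf 0))) (.node (.node (.leaf 15217) (.leaf 0)) (.node (.leaf 12998) (.leaf 0)))))) (.node (.node (.node (.node (.node (.leaf 997) (.leaf 2489)) (.node (.leaf 2821) (.leaf 0))) (.node (.node (.leaf 10566) (.leaf 13176)) (.node (.leaf 18239) (.leaf 0)))) (.node (.node (.node (.leaf 10289) (.leaf 15378)) (.node (.leaf 2545) (.leaf 0))) (.node (.node (.leaf 3802) (.leaf 0)) (.node (.leaf 8711) (.leaf 0))))) (.node (.node (.node (.node (.leaf 13678) (.leaf 11013)) (.node (.leaf 6187) (.leaf 0))) (.node (.node (.leaf 8810) (.leaf 0)) (.node (.leaf 12449) (.leaf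 0)))) (.node (.node (.node (.leaf 20661) (.leaf 7692)) (.node (.leaf 12715) (.leaf 0))) (.node (.node (.leaf 4496) (.leaf 0)) (.node (.leaf 12352) (.leaf 0))))))) (.node (.node (.node (.node (.node (.node (.leaf 7658) (.leaf 8917)) (.node (.leaf 16880) (.leaf 0))) (.node (.node (.leaf 4299) (.leaf 1390)) (.node (.leaf 10734) (.leaf 0)))) (.node (.node (.node (.leaf 7370) (.leaf 10995)) (.node (.leaf 3748) (.leaf 0))) (.node (.node (.leaf 10167) (.leaf 0)) (.node (.leaf 7523) (.leaf 0))))) (.node (.node (.node (.node (.leaf 11752) (.leaf 173)) (.node (.leaf 16320) (.leaf 0))) (.node (.node (.leaf 5732) (.leaf 0)) (.node (.leaf 18534) (.leaf 0)))) (.node (.node (.node (.leaf 17902) (.leaf 15097)) (.node (.leaf 18255) (.leaf 0))) (.node (.node (.leaf 1019) (.leaf 0)) (.node (.leaf 21334) (.leaf 0)))))) (.node (.node (.node (.node (.node (.leaf 18631) (.leaf 14566)) (.node (.leaf 10310) (.leaf 0))) (.node (.node (.leaf 20761) (.leaf 10643)) (.node (.leaf 19064) (.leaf 0)))) (.node (.node (.node (.leaf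 14655) (.leaf 14531)) (.node (.leaf 4535) (.leaf 0))) (.node (.node (.leaf 19188) (.leaf 0)) (.node (.leaf 7257) (.leaf 0))))) (.node (.node (.node (.node (.leaf 11547) (.leaf 18653)) (.node (.leaf 2563) (.leaf 0))) (.node (.node (.leaf 2767) (.leaf 0)) (.node (.leaf 1620) (.leaf 0)))) (.node (.node (.node (.leaf 3451) (.leaf 4275)) (.node (.leaf 6530) (.leaf 0))) (.node (.node (.leaf 15210) (.leaf 0)) (.node (.leaf 20753) (.leaf 0)))))))))

/-- part of a table -/
def ordK76 : Trie := (.node (.node (.node (.node (.node (.node (.node (.node (.leaf 19826) (.leaf 9275)) (.node (.leaf 14524) (.leaf 0))) (.node (.node (.leaf 637) (.leaf 18499)) (.node (.leaf 8102) (.leaf 0)))) (.node (.node (.node (.leaf 21410) (.leaf 2226)) (.node (.leaf 14662) (.leaf 0))) (.node (.node (.leaf 19444) (.leaf 0)) (.node (.leaf 1573) (.leaf 0))))) (.node (.node (.node (.node (.leaf 10999) (.leaf 20806)) (.node (.leaf 1009) (.leaf 0))) (.node (.node (.leaf 18776) (.leaf 0)) (.node (.leaf 18179) (.leaf 0)))) (.node (.node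 (.node (.leaf 412) (.leaf 11973)) (.node (.leaf 18104) (.leaf 0))) (.node (.node (.leaf 20287) (.leaf 0)) (.node (.leaf 8725) (.leaf 0)))))) (.node (.node (.node (.node (.node (.leaf 20367) (.leaf 7165)) (.node (.leaf 6430) (.leaf 0))) (.node (.node (.leaf 14857) (.leaf 4386)) (.node (.leaf 21429) (.leaf 0)))) (.node (.node (.node (.leaf 7899) (.leaf 5109)) (.node (.leaf 21478) (.leaf 0))) (.node (.node (.leaf 18265) (.leaf 0)) (.node (.leaf 9063) (.leaf 0))))) (.node (.node (.node (.node (.leaf 6362) (.leaf 11003)) (.node (.leaf 8115) (.leaf 0))) (.node (.node (.leaf 17833) (.leaf 0)) (.node (.leaf 20869) (.leaf 0)))) (.node (.node (.node (.leaf 5217) (.leaf 12132)) (.node (.leaf 13664) (.leaf 0))) (.node (.node (.leaf 11464) (.leaf 0)) (.node (.leaf 20493) (.leaf 0))))))) (.node (.node (.node (.node (.node (.node (.leaf 3741) (.leaf 2944)) (.node (.leaf 1435) (.leaf 0))) (.node (.node (.leaf 20624) (.leaf 8562)) (.node (.leaf 13403) (.leaf 0)))) (.node (.node (.node (.leaf 15705) (.leaf 6567))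 (.node (.leaf 5995) (.leaf 0))) (.node (.node (.leaf 2513) (.leaf 0)) (.node (.leaf 17034) (.leaf 0))))) (.node (.node (.node (.node (.leaf 317) (.leaf 9615)) (.node (.leaf 2247) (.leaf 0))) (.node (.node (.leaf 8611) (.leaf 0)) (.node (.leaf 796) (.leaf 0)))) (.node (.node (.node (.leaf 241) (.leaf 5335)) (.node (.leaf 12578) (.leaf 0))) (.node (.node (.leaf 4268) (.leaf 0)) (.node (.leaf 7657) (.leaf 0)))))) (.node (.node (.node (.node (.node (.leaf 18139) (.leaf 3022)) (.node (.leaf 1145) (.leaf 0))) (.node (.node (.leaf 19075) (.leaf 9671)) (.node (.leaf 10048) (.leaf 0)))) (.node (.node (.node (.leaf 1584) (.leaf 19049)) (.node (.leaf 12179) (.leaf 0))) (.node (.node (.leaf 7520) (.leaf 0)) (.node (.leaf 2113) (.leaf 0))))) (.node (.node (.node (.node (.leaf 8569) (.leaf 12530)) (.node (.leaf 15895) (.leaf 0))) (.node (.node (.leaf 5982) (.leaf 0)) (.node (.leaf 5961) (.leaf 0)))) (.node (.node (.node (.leaf 145) (.leaf 7038)) (.node (.leaf 431) (.leaf 0))) (.node (.node (.leaf 308) (.leaf 0))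 (.node (.leaf 11751) (.leaf 0)))))))) (.node (.node (.node (.node (.node (.node (.node (.leaf 11983) (.leaf 1626)) (.node (.leaf 2462) (.leaf 0))) (.node (.node (.leaf 3805) (.leaf 14734)) (.node (.leaf 6442) (.leaf 0)))) (.node (.node (.node (.leaf 9950) (.leaf 6803)) (.node (.leaf 9170) (.leaf 0))) (.node (.node (.leaf 5320) (.leaf 0)) (.node (.leaf 9780) (.leaf 0))))) (.node (.node (.node (.node (.leaf 8955) (.leaf 817)) (.node (.leaf 19410) (.leaf 0))) (.node (.node (.leaf 7902) (.leaf 0)) (.node (.leaf 18202) (.leaf 0)))) (.node (.node (.node (.leaf 11114) (.leaf 2869)) (.node (.leaf 11871) (.leaf 0))) (.node (.node (.leaf 17852) (.leaf 0)) (.node (.leaf 17842) (.leaf 0)))))) (.node (.node (.node (.node (.node (.leaf 17277) (.leaf 21049)) (.node (.leaf 14408) (.leaf 0))) (.node (.node (.leaf 15514) (.leaf 16692)) (.node (.leaf 9666) (.leaf 0)))) (.node (.node (.node (.leaf 843) (.leaf 17826)) (.node (.leaf 15840) (.leaf 0))) (.node (.node (.leaf 5258) (.leaf 0)) (.node (.leaf 9945) (.leaf 0)))))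 (.node (.node (.node (.node (.leaf 12411) (.leaf 7891)) (.node (.leaf 9975) (.leaf 0))) (.node (.node (.leaf 20430) (.leaf 0)) (.node (.leaf 4344) (.leaf 0)))) (.node (.node (.node (.leaf 8655) (.leaf 469)) (.node (.leaf 11632) (.leaf 0))) (.node (.node (.leaf 14457) (.leaf 0)) (.node (.leaf 7200) (.leaf 0))))))) (.node (.node (.node (.node (.node (.node (.leaf 14421) (.leaf 14583)) (.node (.leaf 13373) (.leaf 0))) (.node (.node (.leaf 10160) (.leaf 14958)) (.node (.leaf 1834) (.leaf 0)))) (.node (.node (.node (.leaf 4431) (.leaf 4742)) (.node (.leaf 11565) (.leaf 0))) (.node (.node (.leaf 6701) (.leaf 0)) (.node (.leaf 6101) (.leaf 0))))) (.node (.node (.node (.node (.leaf 5358) (.leaf 6277)) (.node (.leaf 9814) (.leaf 0))) (.node (.node (.leaf 2448) (.leaf 0)) (.node (.leaf 9840) (.leaf 0)))) (.node (.node (.node (.leaf 2727) (.leaf 6596)) (.node (.leaf 5485) (.leaf 0))) (.node (.node (.leaf 20617) (.leaf 0)) (.node (.leaf 9214) (.leaf 0)))))) (.node (.node (.node (.node (.node (.leaf 5446) (.leaf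 16069)) (.node (.leaf 8175) (.leaf 0))) (.node (.node (.leaf 21040) (.leaf 19097)) (.node (.leaf 17194) (.leaf 0)))) (.node (.node (.node (.leaf 18267) (.leaf 14553)) (.node (.leaf 12516) (.leaf 0))) (.node (.node (.leaf 16696) (.leaf 0)) (.node (.leaf 2482) (.leaf 0))))) (.node (.node (.node (.node (.leaf 2755) (.leaf 3878)) (.node (.leaf 9695) (.leaf 0))) (.node (.node (.leaf 1537) (.leaf 0)) (.node (.leaf 1746) (.leaf 0)))) (.node (.node (.node (.leaf 3204) (.leaf 16636)) (.node (.leaf 19955) (.leaf 0))) (.node (.node (.leaf 8752) (.leaf 0)) (.node (.leaf 1765) (.leaf 0)))))))))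

/-- part of a table -/
def ordK77 : Trie := (.node (.node (.node (.node (.node (.node (.node (.node (.leaf 21131) (.leaf 8728)) (.node (.leaf 3738) (.leaf 0))) (.node (.node (.leaf 14325) (.leaf 1942)) (.node (.leaf 19096) (.leaf 0)))) (.node (.node (.node (.leaf 3142) (.leaf 8914)) (.node (.leaf 10162) (.leaf 0))) (.node (.node (.leaf 11641) (.leaf 0)) (.node (.leaf 21288) (.leaf 0))))) (.node (.node (.node (.node (.leaf 9143) (.leaf 6397)) (.node (.leaf 19988) (.leaf 0))) (.node (.node (.leaf 17082) (.leaf 0)) (.node (.leaf 10077) (.leaf 0)))) (.node (.node (.node (.leaf 5121) (.leaf 4662)) (.node (.leaf 16144) (.leaf 0))) (.node (.node (.leaf 1345) (.leaf 0)) (.node (.leaf 17594) (.leaf 0)))))) (.node (.node (.node (.node (.node (.leaf 3070) (.leaf 1799)) (.node (.leaf 14003) (.leaf 0))) (.node (.node (.leaf 17117) (.leaf 16949)) (.node (.leaf 19612) (.leaf 0)))) (.node (.node (.node (.leaf 5191) (.leaf 11969)) (.node (.leaf 18636) (.leaf 0))) (.node (.node (.leaf 1703) (.leaf 0)) (.node (.leaf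 20110) (.leaf 0))))) (.node (.node (.node (.node (.leaf 15072) (.leaf 10382)) (.node (.leaf 11084) (.leaf 0))) (.node (.node (.leaf 9768) (.leaf 0)) (.node (.leaf 17252) (.leaf 0)))) (.node (.node (.node (.leaf 16023) (.leaf 10661)) (.node (.leaf 3964) (.leaf 0))) (.node (.node (.leaf 11285) (.leaf 0)) (.node (.leaf 18487) (.leaf 0))))))) (.node (.node (.node (.node (.node (.node (.leaf 10976) (.leaf 20035)) (.node (.leaf 13383) (.leaf 0))) (.node (.node (.leaf 14541) (.leaf 8760)) (.node (.leaf 15975) (.leaf 0)))) (.node (.node (.node (.leaf 12860) (.leaf 238)) (.node (.leaf 15610) (.leaf 0))) (.node (.node (.leaf 20903) (.leaf 0)) (.node (.leaf 6039) (.leaf 0))))) (.node (.node (.node (.node (.leaf 13925) (.leaf 12125)) (.node (.leaf 7526) (.leaf 0))) (.node (.node (.leaf 11012) (.leaf 0)) (.node (.leaf 9882) (.leaf 0)))) (.node (.node (.node (.leaf 16079) (.leaf 14715)) (.node (.leaf 9655) (.leaf 0))) (.node (.node (.leaf 1105) (.leaf 0)) (.node (.leaf 5833) (.leaf 0)))))) (.node (.node (.node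 (.node (.node (.leaf 20504) (.leaf 17811)) (.node (.leaf 19900) (.leaf 0))) (.node (.node (.leaf 830) (.leaf 371)) (.node (.leaf 3144) (.leaf 0)))) (.node (.node (.node (.leaf 7709) (.leaf 14244)) (.node (.leaf 14833) (.leaf 0))) (.node (.node (.leaf 337) (.leaf 0)) (.node (.leaf 2589) (.leaf 0))))) (.node (.node (.node (.node (.leaf 13412) (.leaf 10506)) (.node (.leaf 17566) (.leaf 0))) (.node (.node (.leaf 8028) (.leaf 0)) (.node (.leaf 21210) (.leaf 0)))) (.node (.node (.node (.leaf 6222) (.leaf 2485)) (.node (.leaf 14902) (.leaf 0))) (.node (.node (.leaf 2756) (.leaf 0)) (.node (.leaf 7233) (.leaf 0)))))))) (.node (.node (.node (.node (.node (.node (.node (.leaf 20046) (.leaf 7542)) (.node (.leaf 13531) (.leaf 0))) (.node (.node (.leaf 4570) (.leaf 3290)) (.node (.leaf 3777) (.leaf 0)))) (.node (.node (.node (.leaf 8777) (.leaf 504)) (.node (.leaf 18198) (.leaf 0))) (.node (.node (.leaf 16173) (.leaf 0)) (.node (.leaf 3379) (.leaf 0))))) (.node (.node (.node (.node (.leaf 922) (.leaf 3666)) (.node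 (.leaf 13908) (.leaf 0))) (.node (.node (.leaf 8242) (.leaf 0)) (.node (.leaf 5160) (.leaf 0)))) (.node (.node (.node (.leaf 16291) (.leaf 19206)) (.node (.leaf 13879) (.leaf 0))) (.node (.node (.leaf 14897) (.leaf 0)) (.node (.leaf 16483) (.leaf 0)))))) (.node (.node (.node (.node (.node (.leaf 1872) (.leaf 15353)) (.node (.leaf 16725) (.leaf 0))) (.node (.node (.leaf 13579) (.leaf 7907)) (.node (.leaf 3210) (.leaf 0)))) (.node (.node (.node (.leaf 20216) (.leaf 6967)) (.node (.leaf 8487) (.leaf 0))) (.node (.node (.leaf 17467) (.leaf 0)) (.node (.leaf 1203) (.leaf 0))))) (.node (.node (.node (.node (.leaf 17115) (.leaf 9138)) (.node (.leaf 15005) (.leaf 0))) (.node (.node (.leaf 788) (.leaf 0)) (.node (.leaf 1094) (.leaf 0)))) (.node (.node (.node (.leaf 19034) (.leaf 13112)) (.node (.leaf 5288) (.leaf 0))) (.node (.node (.leaf 3601) (.leaf 0)) (.node (.leaf 1371) (.leaf 0))))))) (.node (.node (.node (.node (.node (.node (.leaf 3491) (.leaf 6993)) (.node (.leaf 5417) (.leaf 0))) (.node (.node (.leaf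 2879) (.leaf 740)) (.node (.leaf 3363) (.leaf 0)))) (.node (.node (.node (.leaf 2263) (.leaf 19219)) (.node (.leaf 15934) (.leaf 0))) (.node (.node (.leaf 16049) (.leaf 0)) (.node (.leaf 17584) (.leaf 0))))) (.node (.node (.node (.node (.leaf 11271) (.leaf 16678)) (.node (.leaf 8077) (.leaf 0))) (.node (.node (.leaf 17846) (.leaf 0)) (.node (.leaf 1982) (.leaf 0)))) (.node (.node (.node (.leaf 6923) (.leaf 5371)) (.node (.leaf 15900) (.leaf 0))) (.node (.node (.leaf 7150) (.leaf 0)) (.node (.leaf 13788) (.leaf 0)))))) (.node (.node (.node (.node (.node (.leaf 10261) (.leaf 18907)) (.node (.leaf 12131) (.leaf 0))) (.node (.node (.leaf 11537) (.leaf 11408)) (.node (.leaf 5775) (.leaf 0)))) (.node (.node (.node (.leaf 6746) (.leaf 4127)) (.node (.leaf 2121) (.leaf 0))) (.node (.node (.leaf 9959) (.leaf 0)) (.node (.leaf 17166) (.leaf 0))))) (.node (.node (.node (.node (.leaf 1375) (.leaf 8076)) (.node (.leaf 2202) (.leaf 0))) (.node (.node (.leaf 21246) (.leaf 0)) (.node (.leaf 15242) (.leaf 0)))) (.node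 (.node (.node (.leaf 16582) (.leaf 18972)) (.node (.leaf 1738) (.leaf 0))) (.node (.node (.leaf 5436) (.leaf 0)) (.node (.leaf 819) (.leaf 0)))))))))

/-- part of a table -/
def ordK78 : Trie := (.node (.node (.node (.node (.node (.node (.node (.node (.leaf 9196) (.leaf 2285)) (.node (.leaf 12174) (.leaf 0))) (.node (.node (.leaf 18941) (.leaf 12798)) (.node (.leaf 18083) (.leaf 0)))) (.node (.node (.node (.leaf 9034) (.leaf 11168)) (.node (.leaf 16387) (.leaf 0))) (.node (.node (.leaf 13218) (.leaf 0)) (.node (.leaf 1490) (.leaf 0))))) (.node (.node (.node (.node (.leaf 13848) (.leaf 21002)) (.node (.leaf 18545) (.leaf 0))) (.node (.node (.leaf 5188) (.leaf 0)) (.node (.leaf 12477) (.leaf 0)))) (.node (.node (.node (.leaf 5602) (.leaf 5403)) (.node (.leaf 20636) (.leaf 0))) (.node (.node (.leaf 16744) (.leaf 0)) (.node (.leaf 20980) (.leaf 0)))))) (.node (.node (.node (.node (.node (.leaf 15910) (.leaf 16317)) (.node (.leaf 12334) (.leaf 0))) (.node (.node (.leaf 11109) (.leaf 3939)) (.node (.leaf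 13200) (.leaf 0)))) (.node (.node (.node (.leaf 2567) (.leaf 1938)) (.node (.leaf 6657) (.leaf 0))) (.node (.node (.leaf 995) (.leaf 0)) (.node (.leaf 3880) (.leaf 0))))) (.node (.node (.node (.node (.leaf 8347) (.leaf 19458)) (.node (.leaf 15780) (.leaf 0))) (.node (.node (.leaf 2305) (.leaf 0)) (.node (.leaf 12227) (.leaf 0)))) (.node (.node (.node (.leaf 21361) (.leaf 19755)) (.node (.leaf 9650) (.leaf 0))) (.node (.node (.leaf 6737) (.leaf 0)) (.node (.leaf 18238) (.leaf 0))))))) (.node (.node (.node (.node (.node (.node (.leaf 12108) (.leaf 11576)) (.node (.leaf 20235) (.leaf 0))) (.node (.node (.leaf 18694) (.leaf 19530)) (.node (.leaf 12301) (.leaf 0)))) (.node (.node (.node (.leaf 1465) (.leaf 10228)) (.node (.leaf 17924) (.leaf 0))) (.node (.node (.leaf 6062) (.leaf 0)) (.node (.leaf 10512) (.leaf 0))))) (.node (.node (.node (.node (.leaf 21450) (.leaf 9440)) (.node (.leaf 11957) (.leaf 0))) (.node (.node (.leaf 1095) (.leaf 0)) (.node (.leaf 986) (.leaf 0)))) (.node (.node (.node (.leaf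 21468) (.leaf 3016)) (.node (.leaf 7180) (.leaf 0))) (.node (.node (.leaf 10290) (.leaf 0)) (.node (.leaf 14385) (.leaf 0)))))) (.node (.node (.node (.node (.node (.leaf 6745) (.leaf 7553)) (.node (.leaf 1453) (.leaf 0))) (.node (.node (.leaf 3274) (.leaf 6391)) (.node (.leaf 8976) (.leaf 0)))) (.node (.node (.node (.leaf 1366) (.leaf 543)) (.node (.leaf 7290) (.leaf 0))) (.node (.node (.leaf 18001) (.leaf 0)) (.node (.leaf 16159) (.leaf 0))))) (.node (.node (.node (.node (.leaf 17021) (.leaf 13662)) (.node (.leaf 3262) (.leaf 0))) (.node (.node (.leaf 2785) (.leaf 0)) (.node (.leaf 21473) (.leaf 0)))) (.node (.node (.node (.leaf 3125) (.leaf 12322)) (.node (.leaf 17224) (.leaf 0))) (.node (.node (.leaf 5190) (.leaf 0)) (.node (.leaf 13184) (.leaf 0)))))))) (.node (.node (.node (.node (.node (.node (.node (.leaf 3405) (.leaf 17)) (.node (.leaf 19803) (.leaf 0))) (.node (.node (.leaf 5695) (.leaf 5029)) (.node (.leaf 7440) (.leaf 0)))) (.node (.node (.node (.leaf 16147) (.leaf 19583)) (.node (.leaf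 9680) (.leaf 0))) (.node (.node (.leaf 10961) (.leaf 0)) (.node (.leaf 11261) (.leaf 0))))) (.node (.node (.node (.node (.leaf 10784) (.leaf 13783)) (.node (.leaf 20612) (.leaf 0))) (.node (.node (.leaf 20425) (.leaf 0)) (.node (.leaf 11297) (.leaf 0)))) (.node (.node (.node (.leaf 3053) (.leaf 17517)) (.node (.leaf 2780) (.leaf 0))) (.node (.node (.leaf 10262) (.leaf 0)) (.node (.leaf 11935) (.leaf 0)))))) (.node (.node (.node (.node (.node (.leaf 4202) (.leaf 11042)) (.node (.leaf 6938) (.leaf 0))) (.node (.node (.leaf 1882) (.leaf 11790)) (.node (.leaf 13790) (.leaf 0)))) (.node (.node (.node (.leaf 1535) (.leaf 7802)) (.node (.leaf 18411) (.leaf 0))) (.node (.node (.leaf 14022) (.leaf 0)) (.node (.leaf 12325) (.leaf 0))))) (.node (.node (.node (.node (.leaf 7575) (.leaf 13009)) (.node (.leaf 16634) (.leaf 0))) (.node (.node (.leaf 6869) (.leaf 0)) (.node (.leaf 10312) (.leaf 0)))) (.node (.node (.node (.leaf 14267) (.leaf 6207)) (.node (.leaf 12816) (.leaf 0))) (.node (.node (.leaf 13152) (.leaf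 0)) (.node (.leaf 2446) (.leaf 0))))))) (.node (.node (.node (.node (.node (.node (.leaf 8897) (.leaf 11105)) (.node (.leaf 13127) (.leaf 0))) (.node (.node (.leaf 17017) (.leaf 12688)) (.node (.leaf 11163) (.leaf 0)))) (.node (.node (.node (.leaf 2141) (.leaf 15225)) (.node (.leaf 8411) (.leaf 0))) (.node (.node (.leaf 19271) (.leaf 0)) (.node (.leaf 8877) (.leaf 0))))) (.node (.node (.node (.node (.leaf 8089) (.leaf 3336)) (.node (.leaf 4759) (.leaf 0))) (.node (.node (.leaf 17206) (.leaf 0)) (.node (.leaf 16270) (.leaf 0)))) (.node (.node (.node (.leaf 17340) (.leaf 13186)) (.node (.leaf 5929) (.leaf 0))) (.node (.node (.leaf 2825) (.leaf 0)) (.node (.leaf 8265) (.leaf 0)))))) (.node (.node (.node (.node (.node (.leaf 9234) (.leaf 18251)) (.node (.leaf 4354) (.leaf 0))) (.node (.node (.leaf 13782) (.leaf 6930)) (.node (.leaf 857) (.leaf 0)))) (.node (.node (.node (.leaf 20589) (.leaf 6781)) (.node (.leaf 21058) (.leaf 0))) (.node (.node (.leaf 15963) (.leaf 0)) (.node (.leaf 234) (.leaf 0)))))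 (.node (.node (.node (.node (.leaf 1110) (.leaf 2375)) (.node (.leaf 5296) (.leaf 0))) (.node (.node (.leaf 6438) (.leaf 0)) (.node (.leaf 17490) (.leaf 0)))) (.node (.node (.node (.leaf 5850) (.leaf 5559)) (.node (.leaf 11676) (.leaf 0))) (.node (.node (.leaf 2705) (.leaf 0)) (.node (.leaf 14935) (.leaf 0)))))))))

/-- part of a table -/
def ordK79 : Trie := (.node (.node (.node (.node (.node (.node (.node (.node (.leaf 6035) (.leaf 968)) (.node (.leaf 18454) (.leaf 0))) (.node (.node (.leaf 9016) (.leaf 15022)) (.node (.leaf 18573) (.leaf 0)))) (.node (.node (.node (.leaf 3861) (.leaf 2423)) (.node (.leaf 13952) (.leaf 0))) (.node (.node (.leaf 14164) (.leaf 0)) (.node (.leaf 11992) (.leaf 0))))) (.node (.node (.node (.node (.leaf 11659) (.leaf 5972)) (.node (.leaf 11623) (.leaf 0))) (.node (.node (.leaf 9552) (.leaf 0)) (.node (.leaf 704) (.leaf 0)))) (.node (.node (.node (.leaf 9427) (.leaf 19586)) (.node (.leaf 5139) (.leaf 0))) (.node (.node (.leaf 15149) (.leaf 0)) (.node (.leaf 8310) (.leaf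 0)))))) (.node (.node (.node (.node (.node (.leaf 17275) (.leaf 2678)) (.node (.leaf 11512) (.leaf 0))) (.node (.node (.leaf 6400) (.leaf 9956)) (.node (.leaf 20282) (.leaf 0)))) (.node (.node (.node (.leaf 18777) (.leaf 16285)) (.node (.leaf 13591) (.leaf 0))) (.node (.node (.leaf 10955) (.leaf 0)) (.node (.leaf 9565) (.leaf 0))))) (.node (.node (.node (.node (.leaf 12188) (.leaf 19692)) (.node (.leaf 15636) (.leaf 0))) (.node (.node (.leaf 20300) (.leaf 0)) (.node (.leaf 18029) (.leaf 0)))) (.node (.node (.node (.leaf 15160) (.leaf 9203)) (.node (.leaf 11178) (.leaf 0))) (.node (.node (.leaf 17453) (.leaf 0)) (.node (.leaf 12266) (.leaf 0))))))) (.node (.node (.node (.node (.node (.node (.leaf 18849) (.leaf 1342)) (.node (.leaf 9794) (.leaf 0))) (.node (.node (.leaf 7648) (.leaf 6353)) (.node (.leaf 19680) (.leaf 0)))) (.node (.node (.node (.leaf 13761) (.leaf 750)) (.node (.leaf 19614) (.leaf 0))) (.node (.node (.leaf 9257) (.leaf 0)) (.node (.leaf 1574) (.leaf 0))))) (.node (.node (.node (.node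 (.leaf 18500) (.leaf 20784)) (.node (.leaf 8990) (.leaf 0))) (.node (.node (.leaf 13658) (.leaf 0)) (.node (.leaf 19923) (.leaf 0)))) (.node (.node (.node (.leaf 8301) (.leaf 3116)) (.node (.leaf 5416) (.leaf 0))) (.node (.node (.leaf 14080) (.leaf 0)) (.node (.leaf 1603) (.leaf 0)))))) (.node (.node (.node (.node (.node (.leaf 2409) (.leaf 14209)) (.node (.leaf 10379) (.leaf 0))) (.node (.node (.leaf 11902) (.leaf 5607)) (.node (.leaf 6192) (.leaf 0)))) (.node (.node (.node (.leaf 6761) (.leaf 880)) (.node (.leaf 440) (.leaf 0))) (.node (.node (.leaf 21347) (.leaf 0)) (.node (.leaf 10891) (.leaf 0))))) (.node (.node (.node (.node (.leaf 5431) (.leaf 12083)) (.node (.leaf 15859) (.leaf 0))) (.node (.node (.leaf 21435) (.leaf 0)) (.node (.leaf 10428) (.leaf 0)))) (.node (.node (.node (.leaf 4897) (.leaf 18280)) (.node (.leaf 3956) (.leaf 0))) (.node (.node (.leaf 19476) (.leaf 0)) (.node (.leaf 3624) (.leaf 0)))))))) (.node (.node (.node (.node (.node (.node (.node (.leaf 19454) (.leaf 4614)) (.node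 (.leaf 12208) (.leaf 0))) (.node (.node (.leaf 5702) (.leaf 3551)) (.node (.leaf 5894) (.leaf 0)))) (.node (.node (.node (.leaf 18872) (.leaf 19351)) (.node (.leaf 12066) (.leaf 0))) (.node (.node (.leaf 18245) (.leaf 0)) (.node (.leaf 5243) (.leaf 0))))) (.node (.node (.node (.node (.leaf 20701) (.leaf 9599)) (.node (.leaf 9607) (.leaf 0))) (.node (.node (.leaf 215) (.leaf 0)) (.node (.leaf 5788) (.leaf 0)))) (.node (.node (.node (.leaf 2468) (.leaf 10153)) (.node (.leaf 16497) (.leaf 0))) (.node (.node (.leaf 12025) (.leaf 0)) (.node (.leaf 5692) (.leaf 0)))))) (.node (.node (.node (.node (.node (.leaf 15284) (.leaf 19154)) (.node (.leaf 6017) (.leaf 0))) (.node (.node (.leaf 11340) (.leaf 14607)) (.node (.leaf 195) (.leaf 0)))) (.node (.node (.node (.leaf 9889) (.leaf 15773)) (.node (.leaf 7885) (.leaf 0))) (.node (.node (.leaf 6175) (.leaf 0)) (.node (.leaf 20949) (.leaf 0))))) (.node (.node (.node (.node (.leaf 16341) (.leaf 16524)) (.node (.leaf 20119) (.leaf 0))) (.node (.node (.leaf 9837)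 (.leaf 0)) (.node (.leaf 6139) (.leaf 0)))) (.node (.node (.node (.leaf 7498) (.leaf 523)) (.node (.leaf 18723) (.leaf 0))) (.node (.node (.leaf 15824) (.leaf 0)) (.node (.leaf 18508) (.leaf 0))))))) (.node (.node (.node (.node (.node (.node (.leaf 1556) (.leaf 14132)) (.node (.leaf 20586) (.leaf 0))) (.node (.node (.leaf 11179) (.leaf 3668)) (.node (.leaf 19976) (.leaf 0)))) (.node (.node (.node (.leaf 19285) (.leaf 15405)) (.node (.leaf 16607) (.leaf 0))) (.node (.node (.leaf 10018) (.leaf 0)) (.node (.leaf 4135) (.leaf 0))))) (.node (.node (.node (.node (.leaf 12897) (.leaf 3294)) (.node (.leaf 13874) (.leaf 0))) (.node (.node (.leaf 19732) (.leaf 0)) (.node (.leaf 14360) (.leaf 0)))) (.node (.node (.node (.leaf 21363) (.leaf 15627)) (.node (.leaf 9542) (.leaf 0))) (.node (.node (.leaf 21197) (.leaf 0)) (.node (.leaf 15218) (.leaf 0)))))) (.node (.node (.node (.node (.node (.leaf 2108) (.leaf 6164)) (.node (.leaf 16639) (.leaf 0))) (.node (.node (.leaf 12433) (.leaf 2514)) (.node (.leaf 4110)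 (.leaf 0)))) (.node (.node (.node (.leaf 18457) (.leaf 21102)) (.node (.leaf 20704) (.leaf 0))) (.node (.node (.leaf 1263) (.leaf 0)) (.node (.leaf 10270) (.leaf 0))))) (.node (.node (.node (.node (.leaf 1547) (.leaf 15032)) (.node (.leaf 15737) (.leaf 0))) (.node (.node (.leaf 15915) (.leaf 0)) (.node (.leaf 11681) (.leaf 0)))) (.node (.node (.node (.leaf 18020) (.leaf 3520)) (.node (.leaf 17844) (.leaf 0))) (.node (.node (.leaf 9073) (.leaf 0)) (.node (.leaf 4026) (.leaf 0)))))))))

/-- part of a table -/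
def ordK80 : Trie := (.node (.node (.node (.node (.node (.node (.node (.node (.leaf 17525) (.leaf 9972)) (.node (.leaf 16842) (.leaf 0))) (.node (.node (.leaf 1210) (.leaf 6826)) (.node (.leaf 5800) (.leaf 0)))) (.node (.node (.node (.leaf 9489) (.leaf 4962)) (.node (.leaf 17413) (.leaf 0))) (.node (.node (.leaf 3921) (.leaf 0)) (.node (.leaf 17593) (.leaf 0))))) (.node (.node (.node (.node (.leaf 8467) (.leaf 2415)) (.node (.leaf 17973) (.leaf 0))) (.node (.node (.leaf 20592) (.leaf 0)) (.node (.leaf 8196) (.leaf 0)))) (.node (.node (.node (.leaf 6349) (.leaf 15269)) (.node (.leaf 20573) (.leaf 0))) (.node (.node (.leaf 2280) (.leaf 0)) (.node (.leaf 15598) (.leaf 0)))))) (.node (.node (.node (.node (.node (.leaf 14786) (.leaf 7172)) (.node (.leaf 19651) (.leaf 0))) (.node (.node (.leaf 14086) (.leaf 10383)) (.node (.leaf 5863) (.leaf 0)))) (.node (.node (.node (.leaf 12255) (.leaf 18145)) (.node (.leaf 1158) (.leaf 0))) (.node (.node (.leaf 6878) (.leaf 0)) (.node (.leaf 20033) (.leaf 0))))) (.node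 (.node (.node (.node (.leaf 8091) (.leaf 16312)) (.node (.leaf 18840) (.leaf 0))) (.node (.node (.leaf 10670) (.leaf 0)) (.node (.leaf 9374) (.leaf 0)))) (.node (.node (.node (.leaf 15077) (.leaf 9798)) (.node (.leaf 545) (.leaf 0))) (.node (.node (.leaf 6505) (.leaf 0)) (.node (.leaf 13554) (.leaf 0))))))) (.node (.node (.node (.node (.node (.node (.leaf 608) (.leaf 16129)) (.node (.leaf 8026) (.leaf 0))) (.node (.node (.leaf 2075) (.leaf 2213)) (.node (.leaf 11124) (.leaf 0)))) (.node (.node (.node (.leaf 8342) (.leaf 19229)) (.node (.leaf 18247) (.leaf 0))) (.node (.node (.leaf 18628) (.leaf 0)) (.node (.leaf 15590) (.leaf 0))))) (.node (.node (.node (.node (.leaf 525) (.leaf 277)) (.node (.leaf 20634) (.leaf 0))) (.node (.node (.leaf 1873) (.leaf 0)) (.node (.leaf 1561) (.leaf 0)))) (.node (.node (.node (.leaf 6238) (.leaf 14712)) (.node (.leaf 10927) (.leaf 0))) (.node (.node (.leaf 1160) (.leaf 0)) (.node (.leaf 14058) (.leaf 0)))))) (.node (.node (.node (.node (.node (.leaf 9901) (.leaf 7299))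 (.node (.leaf 19951) (.leaf 0))) (.node (.node (.leaf 1186) (.leaf 1815)) (.node (.leaf 6633) (.leaf 0)))) (.node (.node (.node (.leaf 12324) (.leaf 21321)) (.node (.leaf 16036) (.leaf 0))) (.node (.node (.leaf 19081) (.leaf 0)) (.node (.leaf 7715) (.leaf 0))))) (.node (.node (.node (.node (.leaf 4753) (.leaf 7388)) (.node (.leaf 10231) (.leaf 0))) (.node (.node (.leaf 612) (.leaf 0)) (.node (.leaf 20401) (.leaf 0)))) (.node (.node (.node (.leaf 18634) (.leaf 5823)) (.node (.leaf 12554) (.leaf 0))) (.node (.node (.leaf 14036) (.leaf 0)) (.node (.leaf 4241) (.leaf 0)))))))) (.node (.node (.node (.node (.node (.node (.node (.leaf 12264) (.leaf 8125)) (.node (.leaf 15647) (.leaf 0))) (.node (.node (.leaf 18074) (.leaf 15749)) (.node (.leaf 15193) (.leaf 0)))) (.node (.node (.node (.leaf 13842) (.leaf 1961)) (.node (.leaf 19337) (.leaf 0))) (.node (.node (.leaf 11454) (.leaf 0)) (.node (.leaf 18141) (.leaf 0))))) (.node (.node (.node (.node (.leaf 6855) (.leaf 14401)) (.node (.leaf 6940) (.leaf 0)))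 (.node (.node (.leaf 18729) (.leaf 0)) (.node (.leaf 17504) (.leaf 0)))) (.node (.node (.node (.leaf 8920) (.leaf 2464)) (.node (.leaf 2890) (.leaf 0))) (.node (.node (.leaf 19245) (.leaf 0)) (.node (.leaf 9915) (.leaf 0)))))) (.node (.node (.node (.node (.node (.leaf 13894) (.leaf 12156)) (.node (.leaf 90) (.leaf 0))) (.node (.node (.leaf 2693) (.leaf 14528)) (.node (.leaf 9758) (.leaf 0)))) (.node (.node (.node (.leaf 6244) (.leaf 11052)) (.node (.leaf 14199) (.leaf 0))) (.node (.node (.leaf 17962) (.leaf 0)) (.node (.leaf 13571) (.leaf 0))))) (.node (.node (.node (.node (.leaf 14556) (.leaf 4163)) (.node (.leaf 13035) (.leaf 0))) (.node (.node (.leaf 20555) (.leaf 0)) (.node (.leaf 20075) (.leaf 0)))) (.node (.node (.node (.leaf 4993) (.leaf 7005)) (.node (.leaf 20935) (.leaf 0))) (.node (.node (.leaf 11587) (.leaf 0)) (.node (.leaf 7975) (.leaf 0))))))) (.node (.node (.node (.node (.node (.node (.leaf 6700) (.leaf 17209)) (.node (.leaf 12059) (.leaf 0))) (.node (.node (.leaf 1461) (.leaf 9816))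 (.node (.leaf 16444) (.leaf 0)))) (.node (.node (.node (.leaf 7231) (.leaf 13295)) (.node (.leaf 8846) (.leaf 0))) (.node (.node (.leaf 14954) (.leaf 0)) (.node (.leaf 11687) (.leaf 0))))) (.node (.node (.node (.node (.leaf 435) (.leaf 2434)) (.node (.leaf 4530) (.leaf 0))) (.node (.node (.leaf 6180) (.leaf 0)) (.node (.leaf 16968) (.leaf 0)))) (.node (.node (.node (.leaf 16017) (.leaf 4194)) (.node (.leaf 17997) (.leaf 0))) (.node (.node (.leaf 21367) (.leaf 0)) (.node (.leaf 5826) (.leaf 0)))))) (.node (.node (.node (.node (.node (.leaf 4229) (.leaf 18056)) (.node (.leaf 11552) (.leaf 0))) (.node (.node (.leaf 5977) (.leaf 3667)) (.node (.leaf 295) (.leaf 0)))) (.node (.node (.node (.leaf 12235) (.leaf 9957)) (.node (.leaf 20559) (.leaf 0))) (.node (.node (.leaf 15393) (.leaf 0)) (.node (.leaf 8009) (.leaf 0))))) (.node (.node (.node (.node (.leaf 18792) (.leaf 11648)) (.node (.leaf 6624) (.leaf 0))) (.node (.node (.leaf 8961) (.leaf 0)) (.node (.leaf 20107) (.leaf 0)))) (.node (.node (.node (.leaf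 8583) (.leaf 10897)) (.node (.leaf 7740) (.leaf 0))) (.node (.node (.leaf 9424) (.leaf 0)) (.node (.leaf 17621) (.leaf 0)))))))))

/-- part of a table -/
def ordK81 : Trie := (.node (.node (.node (.node (.node (.node (.node (.node (.leaf 14450) (.leaf 3029)) (.node (.leaf 17103) (.leaf 0))) (.node (.node (.leaf 11038) (.leaf 13934)) (.node (.leaf 20078) (.leaf 0)))) (.node (.node (.node (.leaf 17022) (.leaf 17085)) (.node (.leaf 2940) (.leaf 0))) (.node (.node (.leaf 5194) (.leaf 0)) (.node (.leaf 19693) (.leaf 0))))) (.node (.node (.node (.node (.leaf 10627) (.leaf 3548)) (.node (.leaf 14292) (.leaf 0))) (.node (.node (.leaf 8689) (.leaf 0)) (.node (.leaf 19431) (.leaf 0)))) (.node (.node (.node (.leaf 13873) (.leaf 14574)) (.node (.leaf 19574) (.leaf 0))) (.node (.node (.leaf 8509) (.leaf 0)) (.node (.leaf 11132) (.leaf 0)))))) (.node (.node (.node (.node (.node (.leaf 12469) (.leaf 15529)) (.node (.leaf 17982) (.leaf 0))) (.node (.node (.leaf 15283) (.leaf 18100)) (.node (.leaf 15340) (.leaf 0))))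 (.node (.node (.node (.leaf 15501) (.leaf 3969)) (.node (.leaf 18703) (.leaf 0))) (.node (.node (.leaf 1716) (.leaf 0)) (.node (.leaf 13814) (.leaf 0))))) (.node (.node (.node (.node (.leaf 19214) (.leaf 14319)) (.node (.leaf 12862) (.leaf 0))) (.node (.node (.leaf 3874) (.leaf 0)) (.node (.leaf 12046) (.leaf 0)))) (.node (.node (.node (.leaf 13070) (.leaf 12172)) (.node (.leaf 7273) (.leaf 0))) (.node (.node (.leaf 5772) (.leaf 0)) (.node (.leaf 5536) (.leaf 0))))))) (.node (.node (.node (.node (.node (.node (.leaf 5857) (.leaf 12141)) (.node (.leaf 7952) (.leaf 0))) (.node (.node (.leaf 19269) (.leaf 10983)) (.node (.leaf 1075) (.leaf 0)))) (.node (.node (.node (.leaf 18078) (.leaf 19907)) (.node (.leaf 4487) (.leaf 0))) (.node (.node (.leaf 2264) (.leaf 0)) (.node (.leaf 16680) (.leaf 0))))) (.node (.node (.node (.node (.leaf 2303) (.leaf 50)) (.node (.leaf 6453) (.leaf 0))) (.node (.node (.leaf 6460) (.leaf 0)) (.node (.leaf 13123) (.leaf 0)))) (.node (.node (.node (.leaf 8639) (.leaf 11622))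 (.node (.leaf 13493) (.leaf 0))) (.node (.node (.leaf 8713) (.leaf 0)) (.node (.leaf 9541) (.leaf 0)))))) (.node (.node (.node (.node (.node (.leaf 14018) (.leaf 16051)) (.node (.leaf 1108) (.leaf 0))) (.node (.node (.leaf 2037) (.leaf 2952)) (.node (.leaf 17341) (.leaf 0)))) (.node (.node (.node (.leaf 5718) (.leaf 1817)) (.node (.leaf 12525) (.leaf 0))) (.node (.node (.leaf 21423) (.leaf 0)) (.node (.leaf 19778) (.leaf 0))))) (.node (.node (.node (.node (.leaf 2120) (.leaf 14635)) (.node (.leaf 18525) (.leaf 0))) (.node (.node (.leaf 12793) (.leaf 0)) (.node (.leaf 18617) (.leaf 0)))) (.node (.node (.node (.leaf 6578) (.leaf 18933)) (.node (.leaf 20141) (.leaf 0))) (.node (.node (.leaf 7225) (.leaf 0)) (.node (.leaf 10924) (.leaf 0)))))))) (.node (.node (.node (.node (.node (.node (.node (.leaf 9873) (.leaf 18861)) (.node (.leaf 7205) (.leaf 0))) (.node (.node (.leaf 16768) (.leaf 6394)) (.node (.leaf 21010) (.leaf 0)))) (.node (.node (.node (.leaf 16827) (.leaf 15687)) (.node (.leaf 13410) (.leaf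 0))) (.node (.node (.leaf 6212) (.leaf 0)) (.node (.leaf 17186) (.leaf 0))))) (.node (.node (.node (.node (.leaf 14725) (.leaf 16789)) (.node (.leaf 10320) (.leaf 0))) (.node (.node (.leaf 14108) (.leaf 0)) (.node (.leaf 9362) (.leaf 0)))) (.node (.node (.node (.leaf 3841) (.leaf 12029)) (.node (.leaf 19835) (.leaf 0))) (.node (.node (.leaf 3318) (.leaf 0)) (.node (.leaf 877) (.leaf 0)))))) (.node (.node (.node (.node (.node (.leaf 8723) (.leaf 21227)) (.node (.leaf 7794) (.leaf 0))) (.node (.node (.leaf 19120) (.leaf 21000)) (.node (.leaf 20889) (.leaf 0)))) (.node (.node (.node (.leaf 7295) (.leaf 12772)) (.node (.leaf 2530) (.leaf 0))) (.node (.node (.leaf 21253) (.leaf 0)) (.node (.leaf 1515) (.leaf 0))))) (.node (.node (.node (.node (.leaf 5580) (.leaf 20603)) (.node (.leaf 9415) (.leaf 0))) (.node (.node (.leaf 19880) (.leaf 0)) (.node (.leaf 18560) (.leaf 0)))) (.node (.node (.node (.leaf 20771) (.leaf 9244)) (.node (.leaf 19584) (.leaf 0))) (.node (.node (.leaf 873) (.leaf 0)) (.node (.leaf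 7319) (.leaf 0))))))) (.node (.node (.node (.node (.node (.node (.leaf 3816) (.leaf 18760)) (.node (.leaf 17676) (.leaf 0))) (.node (.node (.leaf 14048) (.leaf 2920)) (.node (.leaf 2324) (.leaf 0)))) (.node (.node (.node (.leaf 18007) (.leaf 12026)) (.node (.leaf 14739) (.leaf 0))) (.node (.node (.leaf 4287) (.leaf 0)) (.node (.leaf 6585) (.leaf 0))))) (.node (.node (.node (.node (.leaf 8193) (.leaf 19070)) (.node (.leaf 13864) (.leaf 0))) (.node (.node (.leaf 12832) (.leaf 0)) (.node (.leaf 20815) (.leaf 0)))) (.node (.node (.node (.leaf 2961) (.leaf 954)) (.node (.leaf 487) (.leaf 0))) (.node (.node (.leaf 17708) (.leaf 0)) (.node (.leaf 10823) (.leaf 0)))))) (.node (.node (.node (.node (.node (.leaf 1222) (.leaf 13609)) (.node (.leaf 9107) (.leaf 0))) (.node (.node (.leaf 10345) (.leaf 15396)) (.node (.leaf 9399) (.leaf 0)))) (.node (.node (.node (.leaf 4682) (.leaf 15760)) (.node (.leaf 15809) (.leaf 0))) (.node (.node (.leaf 4140) (.leaf 0)) (.node (.leaf 10480) (.leaf 0))))) (.node (.node (.node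 (.node (.leaf 676) (.leaf 20722)) (.node (.leaf 18107) (.leaf 0))) (.node (.node (.leaf 15549) (.leaf 0)) (.node (.leaf 14443) (.leaf 0)))) (.node (.node (.node (.leaf 5740) (.leaf 2535)) (.node (.leaf 13926) (.leaf 0))) (.node (.node (.leaf 17543) (.leaf 0)) (.node (.leaf 10117) (.leaf 0)))))))))

/-- part of a table -/
def ordK82 : Trie := (.node (.node (.node (.node (.node (.node (.node (.node (.leaf 21402) (.leaf 1710)) (.node (.leaf 19629) (.leaf 0))) (.node (.node (.leaf 15351) (.leaf 16591)) (.node (.leaf 521) (.leaf 0)))) (.node (.node (.node (.leaf 2267) (.leaf 12135)) (.node (.leaf 801) (.leaf 0))) (.node (.node (.leaf 13362) (.leaf 0)) (.node (.leaf 11460) (.leaf 0))))) (.node (.node (.node (.node (.leaf 1030) (.leaf 13450)) (.node (.leaf 11895) (.leaf 0))) (.node (.node (.leaf 12009) (.leaf 0)) (.node (.leaf 1353) (.leaf 0)))) (.node (.node (.node (.leaf 4960) (.leaf 6251)) (.node (.leaf 16940) (.leaf 0))) (.node (.node (.leaf 2010) (.leaf 0)) (.node (.leaf 16015) (.leaf 0)))))) (.node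 (.node (.node (.node (.node (.leaf 9021) (.leaf 9970)) (.node (.leaf 12990) (.leaf 0))) (.node (.node (.leaf 2106) (.leaf 16596)) (.node (.leaf 17182) (.leaf 0)))) (.node (.node (.node (.leaf 815) (.leaf 13595)) (.node (.leaf 1037) (.leaf 0))) (.node (.node (.leaf 1928) (.leaf 0)) (.node (.leaf 16552) (.leaf 0))))) (.node (.node (.node (.node (.leaf 3273) (.leaf 12503)) (.node (.leaf 21405) (.leaf 0))) (.node (.node (.leaf 2255) (.leaf 0)) (.node (.leaf 14601) (.leaf 0)))) (.node (.node (.node (.leaf 19480) (.leaf 11968)) (.node (.leaf 12662) (.leaf 0))) (.node (.node (.leaf 11897) (.leaf 0)) (.node (.leaf 1274) (.leaf 0))))))) (.node (.node (.node (.node (.node (.node (.leaf 6788) (.leaf 19014)) (.node (.leaf 14627) (.leaf 0))) (.node (.node (.leaf 1152) (.leaf 13722)) (.node (.leaf 15677) (.leaf 0)))) (.node (.node (.node (.leaf 14579) (.leaf 4848)) (.node (.leaf 2922) (.leaf 0))) (.node (.node (.leaf 8603) (.leaf 0)) (.node (.leaf 18214) (.leaf 0))))) (.node (.node (.node (.node (.leaf 4748) (.leaf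 4490)) (.node (.leaf 1786) (.leaf 0))) (.node (.node (.leaf 6768) (.leaf 0)) (.node (.leaf 13610) (.leaf 0)))) (.node (.node (.node (.leaf 1714) (.leaf 8435)) (.node (.leaf 17694) (.leaf 0))) (.node (.node (.leaf 6827) (.leaf 0)) (.node (.leaf 6550) (.leaf 0)))))) (.node (.node (.node (.node (.node (.leaf 19116) (.leaf 10267)) (.node (.leaf 1990) (.leaf 0))) (.node (.node (.leaf 16778) (.leaf 7158)) (.node (.leaf 18553) (.leaf 0)))) (.node (.node (.node (.leaf 10528) (.leaf 9226)) (.node (.leaf 13522) (.leaf 0))) (.node (.node (.leaf 14809) (.leaf 0)) (.node (.leaf 7489) (.leaf 0))))) (.node (.node (.node (.node (.leaf 19141) (.leaf 9846)) (.node (.leaf 14633) (.leaf 0))) (.node (.node (.leaf 20499) (.leaf 0)) (.node (.leaf 6736) (.leaf 0)))) (.node (.node (.node (.leaf 11850) (.leaf 10813)) (.node (.leaf 128) (.leaf 0))) (.node (.node (.leaf 16225) (.leaf 0)) (.node (.leaf 1917) (.leaf 0)))))))) (.node (.node (.node (.node (.node (.node (.node (.leaf 403) (.leaf 18464)) (.node (.leaf 12163) (.leaf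 0))) (.node (.node (.leaf 8121) (.leaf 8563)) (.node (.leaf 460) (.leaf 0)))) (.node (.node (.node (.leaf 8366) (.leaf 17875)) (.node (.leaf 14794) (.leaf 0))) (.node (.node (.leaf 474) (.leaf 0)) (.node (.leaf 6383) (.leaf 0))))) (.node (.node (.node (.node (.leaf 2132) (.leaf 15192)) (.node (.leaf 8896) (.leaf 0))) (.node (.node (.leaf 10855) (.leaf 0)) (.node (.leaf 6033) (.leaf 0)))) (.node (.node (.node (.leaf 5250) (.leaf 4281)) (.node (.leaf 905) (.leaf 0))) (.node (.node (.leaf 11545) (.leaf 0)) (.node (.leaf 5999) (.leaf 0)))))) (.node (.node (.node (.node (.node (.leaf 5133) (.leaf 19356)) (.node (.leaf 7064) (.leaf 0))) (.node (.node (.leaf 5052) (.leaf 15438)) (.node (.leaf 10356) (.leaf 0)))) (.node (.node (.node (.leaf 18412) (.leaf 16107)) (.node (.leaf 4899) (.leaf 0))) (.node (.node (.leaf 7752) (.leaf 0)) (.node (.leaf 12550) (.leaf 0))))) (.node (.node (.node (.node (.leaf 4448) (.leaf 14076)) (.node (.leaf 16730) (.leaf 0))) (.node (.node (.leaf 19967) (.leaf 0)) (.node (.leaf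 5891) (.leaf 0)))) (.node (.node (.node (.leaf 9709) (.leaf 6053)) (.node (.leaf 3423) (.leaf 0))) (.node (.node (.leaf 8131) (.leaf 0)) (.node (.leaf 1532) (.leaf 0))))))) (.node (.node (.node (.node (.node (.node (.leaf 16376) (.leaf 17031)) (.node (.leaf 638) (.leaf 0))) (.node (.node (.leaf 1241) (.leaf 19265)) (.node (.leaf 17204) (.leaf 0)))) (.node (.node (.node (.leaf 16143) (.leaf 8479)) (.node (.leaf 13302) (.leaf 0))) (.node (.node (.leaf 6043) (.leaf 0)) (.node (.leaf 7331) (.leaf 0))))) (.node (.node (.node (.node (.leaf 4575) (.leaf 4037)) (.node (.leaf 5794) (.leaf 0))) (.node (.node (.leaf 9893) (.leaf 0)) (.node (.leaf 19997) (.leaf 0)))) (.node (.node (.node (.leaf 18958) (.leaf 18067)) (.node (.leaf 11122) (.leaf 0))) (.node (.node (.leaf 5747) (.leaf 0)) (.node (.leaf 7019) (.leaf 0)))))) (.node (.node (.node (.node (.node (.leaf 6966) (.leaf 13886)) (.node (.leaf 1491) (.leaf 0))) (.node (.node (.leaf 19517) (.leaf 14684)) (.node (.leaf 11456) (.leaf 0)))) (.node (.node (.node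 (.leaf 20453) (.leaf 20123)) (.node (.leaf 15018) (.leaf 0))) (.node (.node (.leaf 8462) (.leaf 0)) (.node (.leaf 7704) (.leaf 0))))) (.node (.node (.node (.node (.leaf 8278) (.leaf 459)) (.node (.leaf 5350) (.leaf 0))) (.node (.node (.leaf 20279) (.leaf 0)) (.node (.leaf 7510) (.leaf 0)))) (.node (.node (.node (.leaf 21403) (.leaf 3765)) (.node (.leaf 1780) (.leaf 0))) (.node (.node (.leaf 2758) (.leaf 0)) (.node (.leaf 2240) (.leaf 0)))))))))

/-- part of a table -/
def ordK83 : Trie := (.node (.node (.node (.node (.node (.node (.node (.node (.leaf 20360) (.leaf 5583)) (.node (.leaf 17981) (.leaf 0))) (.node (.node (.leaf 12906) (.leaf 15659)) (.node (.leaf 4980) (.leaf 0)))) (.node (.node (.node (.leaf 4316) (.leaf 9503)) (.node (.leaf 3076) (.leaf 0))) (.node (.node (.leaf 2628) (.leaf 0)) (.node (.leaf 2442) (.leaf 0))))) (.node (.node (.node (.node (.leaf 19524) (.leaf 12311)) (.node (.leaf 16750) (.leaf 0))) (.node (.node (.leaf 17581) (.leaf 0)) (.node (.leaf 17599) (.leaf 0)))) (.node (.node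 (.node (.leaf 404) (.leaf 17521)) (.node (.leaf 20898) (.leaf 0))) (.node (.node (.leaf 20158) (.leaf 0)) (.node (.leaf 16260) (.leaf 0)))))) (.node (.node (.node (.node (.node (.leaf 588) (.leaf 3028)) (.node (.leaf 16351) (.leaf 0))) (.node (.node (.leaf 19746) (.leaf 1569)) (.node (.leaf 13829) (.leaf 0)))) (.node (.node (.node (.leaf 4398) (.leaf 9646)) (.node (.leaf 13139) (.leaf 0))) (.node (.node (.leaf 15619) (.leaf 0)) (.node (.leaf 16891) (.leaf 0))))) (.node (.node (.node (.node (.leaf 16308) (.leaf 741)) (.node (.leaf 17399) (.leaf 0))) (.node (.node (.leaf 5724) (.leaf 0)) (.node (.leaf 14778) (.leaf 0)))) (.node (.node (.node (.leaf 7635) (.leaf 12636)) (.node (.leaf 1881) (.leaf 0))) (.node (.node (.leaf 872) (.leaf 0)) (.node (.leaf 18387) (.leaf 0))))))) (.node (.node (.node (.node (.node (.node (.leaf 3386) (.leaf 6234)) (.node (.leaf 8290) (.leaf 0))) (.node (.node (.leaf 17580) (.leaf 3364)) (.node (.leaf 20239) (.leaf 0)))) (.node (.node (.node (.leaf 5348) (.leaf 20839)) (.node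 (.leaf 949) (.leaf 0))) (.node (.node (.leaf 9501) (.leaf 0)) (.node (.leaf 14207) (.leaf 0))))) (.node (.node (.node (.node (.leaf 8892) (.leaf 5588)) (.node (.leaf 3612) (.leaf 0))) (.node (.node (.leaf 3930) (.leaf 0)) (.node (.leaf 6722) (.leaf 0)))) (.node (.node (.node (.leaf 2196) (.leaf 21315)) (.node (.leaf 1449) (.leaf 0))) (.node (.node (.leaf 10477) (.leaf 0)) (.node (.leaf 14222) (.leaf 0)))))) (.node (.node (.node (.node (.node (.leaf 11901) (.leaf 16372)) (.node (.leaf 16197) (.leaf 0))) (.node (.node (.leaf 20199) (.leaf 8528)) (.node (.leaf 4425) (.leaf 0)))) (.node (.node (.node (.leaf 8565) (.leaf 2770)) (.node (.leaf 19592) (.leaf 0))) (.node (.node (.leaf 12062) (.leaf 0)) (.node (.leaf 15672) (.leaf 0))))) (.node (.node (.node (.node (.leaf 7081) (.leaf 11863)) (.node (.leaf 6545) (.leaf 0))) (.node (.node (.leaf 15198) (.leaf 0)) (.node (.leaf 17983) (.leaf 0)))) (.node (.node (.node (.leaf 13641) (.leaf 10659)) (.node (.leaf 4186) (.leaf 0))) (.node (.node (.leaf 5648) (.leaf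 0)) (.node (.leaf 1067) (.leaf 0)))))))) (.node (.node (.node (.node (.node (.node (.node (.leaf 9130) (.leaf 2604)) (.node (.leaf 13862) (.leaf 0))) (.node (.node (.leaf 483) (.leaf 15957)) (.node (.leaf 18470) (.leaf 0)))) (.node (.node (.node (.leaf 10787) (.leaf 21183)) (.node (.leaf 17192) (.leaf 0))) (.node (.node (.leaf 18234) (.leaf 0)) (.node (.leaf 19279) (.leaf 0))))) (.node (.node (.node (.node (.leaf 6637) (.leaf 4798)) (.node (.leaf 3773) (.leaf 0))) (.node (.node (.leaf 21395) (.leaf 0)) (.node (.leaf 18577) (.leaf 0)))) (.node (.node (.node (.leaf 6046) (.leaf 16174)) (.node (.leaf 10129) (.leaf 0))) (.node (.node (.leaf 9755) (.leaf 0)) (.node (.leaf 3686) (.leaf 0)))))) (.node (.node (.node (.node (.node (.leaf 17361) (.leaf 12388)) (.node (.leaf 19659) (.leaf 0))) (.node (.node (.leaf 19039) (.leaf 8843)) (.node (.leaf 3111) (.leaf 0)))) (.node (.node (.node (.leaf 13687) (.leaf 14463)) (.node (.leaf 7462) (.leaf 0))) (.node (.node (.leaf 15779) (.leaf 0)) (.node (.leaf 17834)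 (.leaf 0))))) (.node (.node (.node (.node (.leaf 6331) (.leaf 1646)) (.node (.leaf 479) (.leaf 0))) (.node (.node (.leaf 15893) (.leaf 0)) (.node (.leaf 11019) (.leaf 0)))) (.node (.node (.node (.leaf 20443) (.leaf 4360)) (.node (.leaf 19470) (.leaf 0))) (.node (.node (.leaf 21118) (.leaf 0)) (.node (.leaf 6433) (.leaf 0))))))) (.node (.node (.node (.node (.node (.node (.leaf 10101) (.leaf 12120)) (.node (.leaf 4568) (.leaf 0))) (.node (.node (.leaf 5229) (.leaf 13246)) (.node (.leaf 804) (.leaf 0)))) (.node (.node (.node (.leaf 11748) (.leaf 3136)) (.node (.leaf 14876) (.leaf 0))) (.node (.node (.leaf 2473) (.leaf 0)) (.node (.leaf 7516) (.leaf 0))))) (.node (.node (.node (.node (.leaf 1648) (.leaf 15010)) (.node (.leaf 7568) (.leaf 0))) (.node (.node (.leaf 21499) (.leaf 0)) (.node (.leaf 8287) (.leaf 0)))) (.node (.node (.node (.leaf 769) (.leaf 21329)) (.node (.leaf 9464) (.leaf 0))) (.node (.node (.leaf 16203) (.leaf 0)) (.node (.leaf 4894) (.leaf 0)))))) (.node (.node (.node (.node (.node (.leaf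 20782) (.leaf 18915)) (.node (.leaf 4482) (.leaf 0))) (.node (.node (.leaf 7133) (.leaf 11095)) (.node (.leaf 306) (.leaf 0)))) (.node (.node (.node (.leaf 18818) (.leaf 8627)) (.node (.leaf 19295) (.leaf 0))) (.node (.node (.leaf 16119) (.leaf 0)) (.node (.leaf 2924) (.leaf 0))))) (.node (.node (.node (.node (.leaf 3166) (.leaf 4045)) (.node (.leaf 17895) (.leaf 0))) (.node (.node (.leaf 4720) (.leaf 0)) (.node (.leaf 13979) (.leaf 0)))) (.node (.node (.node (.leaf 14223) (.leaf 10039)) (.node (.leaf 8146) (.leaf 0))) (.node (.node (.leaf 462) (.leaf 0)) (.node (.leaf 2512) (.leaf 0)))))))))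

/-- part of a table -/
def ordK84 : Trie := (.node (.node (.node (.node (.node (.node (.node (.node (.leaf 1215) (.leaf 19394)) (.node (.leaf 13903) (.leaf 0))) (.node (.node (.leaf 20465) (.leaf 10524)) (.node (.leaf 13812) (.leaf 0)))) (.node (.node (.node (.leaf 1071) (.leaf 6747)) (.node (.leaf 19767) (.leaf 0))) (.node (.node (.leaf 16860) (.leaf 0)) (.node (.leaf 5493) (.leaf 0))))) (.node (.node (.node (.node (.leaf 2694) (.leaf 17418)) (.node (.leaf 1984) (.leaf 0))) (.node (.node (.leaf 4227) (.leaf 0)) (.node (.leaf 2058) (.leaf 0)))) (.node (.node (.node (.leaf 12647) (.leaf 4467)) (.node (.leaf 467) (.leaf 0))) (.node (.node (.leaf 10443) (.leaf 0)) (.node (.leaf 786) (.leaf 0)))))) (.node (.node (.node (.node (.node (.leaf 12508) (.leaf 4652)) (.node (.leaf 4113) (.leaf 0))) (.node (.node (.leaf 16628) (.leaf 20917)) (.node (.leaf 15948) (.leaf 0)))) (.node (.node (.node (.leaf 15937) (.leaf 7770)) (.node (.leaf 6648) (.leaf 0))) (.node (.node (.leaf 19023) (.leaf 0)) (.node (.leaf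 3360) (.leaf 0))))) (.node (.node (.node (.node (.leaf 8840) (.leaf 14234)) (.node (.leaf 10409) (.leaf 0))) (.node (.node (.leaf 1583) (.leaf 0)) (.node (.leaf 17458) (.leaf 0)))) (.node (.node (.node (.leaf 16689) (.leaf 14513)) (.node (.leaf 5264) (.leaf 0))) (.node (.node (.leaf 21218) (.leaf 0)) (.node (.leaf 7622) (.leaf 0))))))) (.node (.node (.node (.node (.node (.node (.leaf 2122) (.leaf 14331)) (.node (.leaf 8160) (.leaf 0))) (.node (.node (.leaf 3255) (.leaf 1294)) (.node (.leaf 19129) (.leaf 0)))) (.node (.node (.node (.leaf 513) (.leaf 6406)) (.node (.leaf 3501) (.leaf 0))) (.node (.node (.leaf 13634) (.leaf 0)) (.node (.leaf 8664) (.leaf 0))))) (.node (.node (.node (.node (.leaf 9093) (.leaf 16004)) (.node (.leaf 9997) (.leaf 0))) (.node (.node (.leaf 5099) (.leaf 0)) (.node (.leaf 3455) (.leaf 0)))) (.node (.node (.node (.leaf 19675) (.leaf 17610)) (.node (.leaf 2101) (.leaf 0))) (.node (.node (.leaf 17817) (.leaf 0)) (.node (.leaf 3647) (.leaf 0)))))) (.node (.node (.node (.node (.node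 (.leaf 8163) (.leaf 15817)) (.node (.leaf 11546) (.leaf 0))) (.node (.node (.leaf 18830) (.leaf 10369)) (.node (.leaf 18047) (.leaf 0)))) (.node (.node (.node (.leaf 19804) (.leaf 7335)) (.node (.leaf 10411) (.leaf 0))) (.node (.node (.leaf 16511) (.leaf 0)) (.node (.leaf 13465) (.leaf 0))))) (.node (.node (.node (.node (.leaf 14117) (.leaf 4306)) (.node (.leaf 13216) (.leaf 0))) (.node (.node (.leaf 1760) (.leaf 0)) (.node (.leaf 16074) (.leaf 0)))) (.node (.node (.node (.leaf 21439) (.leaf 9537)) (.node (.leaf 5449) (.leaf 0))) (.node (.node (.leaf 9476) (.leaf 0)) (.node (.leaf 7325) (.leaf 0)))))))) (.node (.node (.node (.node (.node (.node (.node (.leaf 12735) (.leaf 19765)) (.node (.leaf 3727) (.leaf 0))) (.node (.node (.leaf 5396) (.leaf 16614)) (.node (.leaf 15419) (.leaf 0)))) (.node (.node (.node (.leaf 16221) (.leaf 8764)) (.node (.leaf 14807) (.leaf 0))) (.node (.node (.leaf 3462) (.leaf 0)) (.node (.leaf 1364) (.leaf 0))))) (.node (.node (.node (.node (.leaf 13335) (.leaf 8983)) (.node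 (.leaf 10838) (.leaf 0))) (.node (.node (.leaf 20554) (.leaf 0)) (.node (.leaf 658) (.leaf 0)))) (.node (.node (.node (.leaf 11723) (.leaf 611)) (.node (.leaf 18588) (.leaf 0))) (.node (.node (.leaf 20086) (.leaf 0)) (.node (.leaf 12430) (.leaf 0)))))) (.node (.node (.node (.node (.node (.leaf 3246) (.leaf 18904)) (.node (.leaf 5066) (.leaf 0))) (.node (.node (.leaf 6105) (.leaf 21027)) (.node (.leaf 12466) (.leaf 0)))) (.node (.node (.node (.leaf 1919) (.leaf 18373)) (.node (.leaf 19315) (.leaf 0))) (.node (.node (.leaf 21419) (.leaf 0)) (.node (.leaf 3225) (.leaf 0))))) (.node (.node (.node (.node (.leaf 12869) (.leaf 13858)) (.node (.leaf 17244) (.leaf 0))) (.node (.node (.leaf 20013) (.leaf 0)) (.node (.leaf 12376) (.leaf 0)))) (.node (.node (.node (.leaf 7532) (.leaf 318)) (.node (.leaf 3066) (.leaf 0))) (.node (.node (.leaf 10675) (.leaf 0)) (.node (.leaf 12609) (.leaf 0))))))) (.node (.node (.node (.node (.node (.node (.leaf 15457) (.leaf 15287)) (.node (.leaf 17092) (.leaf 0))) (.node (.node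 (.leaf 4459) (.leaf 4598)) (.node (.leaf 3123) (.leaf 0)))) (.node (.node (.node (.leaf 19603) (.leaf 19769)) (.node (.leaf 4014) (.leaf 0))) (.node (.node (.leaf 3477) (.leaf 0)) (.node (.leaf 1649) (.leaf 0))))) (.node (.node (.node (.node (.leaf 5960) (.leaf 6402)) (.node (.leaf 4785) (.leaf 0))) (.node (.node (.leaf 19274) (.leaf 0)) (.node (.leaf 14400) (.leaf 0)))) (.node (.node (.node (.leaf 2919) (.leaf 989)) (.node (.leaf 3528) (.leaf 0))) (.node (.node (.leaf 8061) (.leaf 0)) (.node (.leaf 3790) (.leaf 0)))))) (.node (.node (.node (.node (.node (.leaf 6913) (.leaf 5713)) (.node (.leaf 20145) (.leaf 0))) (.node (.node (.leaf 17430) (.leaf 1879)) (.node (.leaf 13985) (.leaf 0)))) (.node (.node (.node (.leaf 3810) (.leaf 18919)) (.node (.leaf 10086) (.leaf 0))) (.node (.node (.leaf 13889) (.leaf 0)) (.node (.leaf 4911) (.leaf 0))))) (.node (.node (.node (.node (.leaf 20799) (.leaf 16242)) (.node (.leaf 15062) (.leaf 0))) (.node (.node (.leaf 17353) (.leaf 0)) (.node (.leaf 18865) (.leaf 0))))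 (.node (.node (.node (.leaf 17523) (.leaf 18356)) (.node (.leaf 13906) (.leaf 0))) (.node (.node (.leaf 19928) (.leaf 0)) (.node (.leaf 18944) (.leaf 0)))))))))

/-- part of a table -/
def ordK85 : Trie := (.node (.node (.node (.node (.node (.node (.node (.node (.leaf 12344) (.leaf 13231)) (.node (.leaf 16100) (.leaf 0))) (.node (.node (.leaf 13314) (.leaf 9430)) (.node (.leaf 12021) (.leaf 0)))) (.node (.node (.node (.leaf 10843) (.leaf 1590)) (.node (.leaf 8517) (.leaf 0))) (.node (.node (.leaf 13586) (.leaf 0)) (.node (.leaf 12635) (.leaf 0))))) (.node (.node (.node (.node (.leaf 19802) (.leaf 18662)) (.node (.leaf 6218) (.leaf 0))) (.node (.node (.leaf 4256) (.leaf 0)) (.node (.leaf 17060) (.leaf 0)))) (.node (.node (.node (.leaf 1588) (.leaf 19929)) (.node (.leaf 20976) (.leaf 0))) (.node (.node (.leaf 3650) (.leaf 0)) (.node (.leaf 8140) (.leaf 0)))))) (.node (.node (.node (.node (.node (.leaf 19760) (.leaf 12373)) (.node (.leaf 5805) (.leaf 0))) (.node (.node (.leaf 12819) (.leaf 324)) (.node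 (.leaf 11146) (.leaf 0)))) (.node (.node (.node (.leaf 1814) (.leaf 20093)) (.node (.leaf 8154) (.leaf 0))) (.node (.node (.leaf 10427) (.leaf 0)) (.node (.leaf 16705) (.leaf 0))))) (.node (.node (.node (.node (.leaf 19074) (.leaf 2791)) (.node (.leaf 21414) (.leaf 0))) (.node (.node (.leaf 8606) (.leaf 0)) (.node (.leaf 21502) (.leaf 0)))) (.node (.node (.node (.leaf 17123) (.leaf 20342)) (.node (.leaf 7401) (.leaf 0))) (.node (.node (.leaf 10674) (.leaf 0)) (.node (.leaf 12889) (.leaf 0))))))) (.node (.node (.node (.node (.node (.node (.leaf 14133) (.leaf 19463)) (.node (.leaf 3079) (.leaf 0))) (.node (.node (.leaf 19628) (.leaf 7145)) (.node (.leaf 3747) (.leaf 0)))) (.node (.node (.node (.leaf 21278) (.leaf 1489)) (.node (.leaf 47) (.leaf 0))) (.node (.node (.leaf 4491) (.leaf 0)) (.node (.leaf 9488) (.leaf 0))))) (.node (.node (.node (.node (.leaf 11560) (.leaf 8592)) (.node (.leaf 13388) (.leaf 0))) (.node (.node (.leaf 5839) (.leaf 0)) (.node (.leaf 7540) (.leaf 0)))) (.node (.node (.node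 (.leaf 19233) (.leaf 14775)) (.node (.leaf 2988) (.leaf 0))) (.node (.node (.leaf 12278) (.leaf 0)) (.node (.leaf 4582) (.leaf 0)))))) (.node (.node (.node (.node (.node (.leaf 20186) (.leaf 10147)) (.node (.leaf 16617) (.leaf 0))) (.node (.node (.leaf 6158) (.leaf 3905)) (.node (.leaf 6595) (.leaf 0)))) (.node (.node (.node (.leaf 3347) (.leaf 4763)) (.node (.leaf 12614) (.leaf 0))) (.node (.node (.leaf 19227) (.leaf 0)) (.node (.leaf 18687) (.leaf 0))))) (.node (.node (.node (.node (.leaf 11660) (.leaf 12481)) (.node (.leaf 9938) (.leaf 0))) (.node (.node (.leaf 16929) (.leaf 0)) (.node (.leaf 17743) (.leaf 0)))) (.node (.node (.node (.leaf 5410) (.leaf 4891)) (.node (.leaf 11035) (.leaf 0))) (.node (.node (.leaf 9983) (.leaf 0)) (.node (.leaf 17992) (.leaf 0)))))))) (.node (.node (.node (.node (.node (.node (.node (.leaf 18132) (.leaf 17987)) (.node (.leaf 3855) (.leaf 0))) (.node (.node (.leaf 4141) (.leaf 8281)) (.node (.leaf 14396) (.leaf 0)))) (.node (.node (.node (.leaf 6196) (.leaf 18986))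 (.node (.leaf 20404) (.leaf 0))) (.node (.node (.leaf 6780) (.leaf 0)) (.node (.leaf 10900) (.leaf 0))))) (.node (.node (.node (.node (.leaf 5873) (.leaf 2219)) (.node (.leaf 11792) (.leaf 0))) (.node (.node (.leaf 12993) (.leaf 0)) (.node (.leaf 21447) (.leaf 0)))) (.node (.node (.node (.leaf 17860) (.leaf 10782)) (.node (.leaf 8974) (.leaf 0))) (.node (.node (.leaf 19949) (.leaf 0)) (.node (.leaf 7924) (.leaf 0)))))) (.node (.node (.node (.node (.node (.leaf 12457) (.leaf 5887)) (.node (.leaf 11445) (.leaf 0))) (.node (.node (.leaf 16443) (.leaf 19139)) (.node (.leaf 4201) (.leaf 0)))) (.node (.node (.node (.leaf 16020) (.leaf 16178)) (.node (.leaf 9870) (.leaf 0))) (.node (.node (.leaf 8114) (.leaf 0)) (.node (.leaf 17291) (.leaf 0))))) (.node (.node (.node (.node (.leaf 4212) (.leaf 21020)) (.node (.leaf 6784) (.leaf 0))) (.node (.node (.leaf 4968) (.leaf 0)) (.node (.leaf 4900) (.leaf 0)))) (.node (.node (.node (.leaf 20365) (.leaf 7593)) (.node (.leaf 6597) (.leaf 0))) (.node (.node (.leaf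 9177) (.leaf 0)) (.node (.leaf 8038) (.leaf 0))))))) (.node (.node (.node (.node (.node (.node (.leaf 13135) (.leaf 1007)) (.node (.leaf 3682) (.leaf 0))) (.node (.node (.leaf 1426) (.leaf 14850)) (.node (.leaf 8518) (.leaf 0)))) (.node (.node (.node (.leaf 16795) (.leaf 6520)) (.node (.leaf 20431) (.leaf 0))) (.node (.node (.leaf 16858) (.leaf 0)) (.node (.leaf 6458) (.leaf 0))))) (.node (.node (.node (.node (.leaf 10768) (.leaf 4779)) (.node (.leaf 333) (.leaf 0))) (.node (.node (.leaf 19690) (.leaf 0)) (.node (.leaf 12051) (.leaf 0)))) (.node (.node (.node (.leaf 18595) (.leaf 10204)) (.node (.leaf 14182) (.leaf 0))) (.node (.node (.leaf 398) (.leaf 0)) (.node (.leaf 1127) (.leaf 0)))))) (.node (.node (.node (.node (.node (.leaf 1894) (.leaf 3989)) (.node (.leaf 16626) (.leaf 0))) (.node (.node (.leaf 16384) (.leaf 11731)) (.node (.leaf 20659) (.leaf 0)))) (.node (.node (.node (.leaf 10509) (.leaf 18619)) (.node (.leaf 15907) (.leaf 0))) (.node (.node (.leaf 10069) (.leaf 0)) (.node (.leaf 16959)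 (.leaf 0))))) (.node (.node (.node (.node (.leaf 13587) (.leaf 18000)) (.node (.leaf 3113) (.leaf 0))) (.node (.node (.leaf 8768) (.leaf 0)) (.node (.leaf 20326) (.leaf 0)))) (.node (.node (.node (.leaf 508) (.leaf 21283)) (.node (.leaf 11706) (.leaf 0))) (.node (.node (.leaf 16600) (.leaf 0)) (.node (.leaf 18057) (.leaf 0)))))))))

/-- part of a table -/
def ordK86 : Trie := (.node (.node (.node (.node (.node (.node (.node (.node (.leaf 5028) (.leaf 13446)) (.node (.leaf 6612) (.leaf 0))) (.node (.node (.leaf 4017) (.leaf 19512)) (.node (.leaf 6833) (.leaf 0)))) (.node (.node (.node (.leaf 15527) (.leaf 18063)) (.node (.leaf 19668) (.leaf 0))) (.node (.node (.leaf 8635) (.leaf 0)) (.node (.leaf 7106) (.leaf 0))))) (.node (.node (.node (.node (.leaf 11087) (.leaf 7217)) (.node (.leaf 3614) (.leaf 0))) (.node (.node (.leaf 20469) (.leaf 0)) (.node (.leaf 7281) (.leaf 0)))) (.node (.node (.node (.leaf 10122) (.leaf 12015)) (.node (.leaf 2362) (.leaf 0))) (.node (.node (.leaf 3118) (.leaf 0)) (.node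 (.leaf 15820) (.leaf 0)))))) (.node (.node (.node (.node (.node (.leaf 17408) (.leaf 11280)) (.node (.leaf 9436) (.leaf 0))) (.node (.node (.leaf 19496) (.leaf 16746)) (.node (.leaf 1355) (.leaf 0)))) (.node (.node (.node (.leaf 14931) (.leaf 8198)) (.node (.leaf 16060) (.leaf 0))) (.node (.node (.leaf 1794) (.leaf 0)) (.node (.leaf 17256) (.leaf 0))))) (.node (.node (.node (.node (.leaf 2073) (.leaf 15802)) (.node (.leaf 605) (.leaf 0))) (.node (.node (.leaf 12409) (.leaf 0)) (.node (.leaf 1120) (.leaf 0)))) (.node (.node (.node (.leaf 4793) (.leaf 20172)) (.node (.leaf 9449) (.leaf 0))) (.node (.node (.leaf 9176) (.leaf 0)) (.node (.leaf 9259) (.leaf 0))))))) (.node (.node (.node (.node (.node (.node (.leaf 16717) (.leaf 11861)) (.node (.leaf 16299) (.leaf 0))) (.node (.node (.leaf 763) (.leaf 11164)) (.node (.leaf 6346) (.leaf 0)))) (.node (.node (.node (.leaf 1855) (.leaf 12302)) (.node (.leaf 4965) (.leaf 0))) (.node (.node (.leaf 11962) (.leaf 0)) (.node (.leaf 2048) (.leaf 0))))) (.node (.node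 (.node (.node (.leaf 20787) (.leaf 2870)) (.node (.leaf 8355) (.leaf 0))) (.node (.node (.leaf 1756) (.leaf 0)) (.node (.leaf 16697) (.leaf 0)))) (.node (.node (.node (.leaf 21031) (.leaf 15544)) (.node (.leaf 20489) (.leaf 0))) (.node (.node (.leaf 3985) (.leaf 0)) (.node (.leaf 11077) (.leaf 0)))))) (.node (.node (.node (.node (.node (.leaf 13897) (.leaf 15837)) (.node (.leaf 8099) (.leaf 0))) (.node (.node (.leaf 18397) (.leaf 15938)) (.node (.leaf 162) (.leaf 0)))) (.node (.node (.node (.leaf 16314) (.leaf 19466)) (.node (.leaf 12537) (.leaf 0))) (.node (.node (.leaf 13514) (.leaf 0)) (.node (.leaf 224) (.leaf 0))))) (.node (.node (.node (.node (.leaf 11000) (.leaf 14853)) (.node (.leaf 13744) (.leaf 0))) (.node (.node (.leaf 4021) (.leaf 0)) (.node (.leaf 11268) (.leaf 0)))) (.node (.node (.node (.leaf 12492) (.leaf 896)) (.node (.leaf 14324) (.leaf 0))) (.node (.node (.leaf 13276) (.leaf 0)) (.node (.leaf 1029) (.leaf 0)))))))) (.node (.node (.node (.node (.node (.node (.node (.leaf 15484)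 (.leaf 5173)) (.node (.leaf 10950) (.leaf 0))) (.node (.node (.leaf 4093) (.leaf 14770)) (.node (.leaf 10295) (.leaf 0)))) (.node (.node (.node (.leaf 19950) (.leaf 15357)) (.node (.leaf 17841) (.leaf 0))) (.node (.node (.leaf 290) (.leaf 0)) (.node (.leaf 10467) (.leaf 0))))) (.node (.node (.node (.node (.leaf 5300) (.leaf 11436)) (.node (.leaf 3430) (.leaf 0))) (.node (.node (.leaf 16690) (.leaf 0)) (.node (.leaf 1849) (.leaf 0)))) (.node (.node (.node (.leaf 11338) (.leaf 3322)) (.node (.leaf 2532) (.leaf 0))) (.node (.node (.leaf 17700) (.leaf 0)) (.node (.leaf 10031) (.leaf 0)))))) (.node (.node (.node (.node (.node (.leaf 13037) (.leaf 9622)) (.node (.leaf 12350) (.leaf 0))) (.node (.node (.leaf 9062) (.leaf 5043)) (.node (.leaf 4670) (.leaf 0)))) (.node (.node (.node (.leaf 17818) (.leaf 2194)) (.node (.leaf 9017) (.leaf 0))) (.node (.node (.leaf 7126) (.leaf 0)) (.node (.leaf 10482) (.leaf 0))))) (.node (.node (.node (.node (.leaf 1974) (.leaf 2720)) (.node (.leaf 5130) (.leaf 0))) (.node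 (.node (.leaf 20111) (.leaf 0)) (.node (.leaf 14839) (.leaf 0)))) (.node (.node (.node (.leaf 1194) (.leaf 8617)) (.node (.leaf 7869) (.leaf 0))) (.node (.node (.leaf 5803) (.leaf 0)) (.node (.leaf 19043) (.leaf 0))))))) (.node (.node (.node (.node (.node (.node (.leaf 16090) (.leaf 5617)) (.node (.leaf 19807) (.leaf 0))) (.node (.node (.leaf 17690) (.leaf 45)) (.node (.leaf 7414) (.leaf 0)))) (.node (.node (.node (.leaf 13180) (.leaf 774)) (.node (.leaf 5144) (.leaf 0))) (.node (.node (.leaf 13743) (.leaf 0)) (.node (.leaf 2766) (.leaf 0))))) (.node (.node (.node (.node (.leaf 15557) (.leaf 11544)) (.node (.leaf 7983) (.leaf 0))) (.node (.node (.leaf 4150) (.leaf 0)) (.node (.leaf 7507) (.leaf 0)))) (.node (.node (.node (.leaf 8390) (.leaf 1324)) (.node (.leaf 6790) (.leaf 0))) (.node (.node (.leaf 16046) (.leaf 0)) (.node (.leaf 15304) (.leaf 0)))))) (.node (.node (.node (.node (.node (.leaf 18793) (.leaf 10962)) (.node (.leaf 9319) (.leaf 0))) (.node (.node (.leaf 18380) (.leaf 18790)) (.node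 (.leaf 17432) (.leaf 0)))) (.node (.node (.node (.leaf 9299) (.leaf 21195)) (.node (.leaf 13642) (.leaf 0))) (.node (.node (.leaf 19389) (.leaf 0)) (.node (.leaf 9416) (.leaf 0))))) (.node (.node (.node (.node (.leaf 21260) (.leaf 14395)) (.node (.leaf 10511) (.leaf 0))) (.node (.node (.leaf 14155) (.leaf 0)) (.node (.leaf 17325) (.leaf 0)))) (.node (.node (.node (.leaf 18795) (.leaf 10693)) (.node (.leaf 5542) (.leaf 0))) (.node (.node (.leaf 5874) (.leaf 0)) (.node (.leaf 17573) (.leaf 0)))))))))

/-- part of a table -/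
def ordK87 : Trie := (.node (.node (.node (.node (.node (.node (.node (.node (.leaf 17150) (.leaf 18912)) (.node (.leaf 1934) (.leaf 0))) (.node (.node (.leaf 6247) (.leaf 17776)) (.node (.leaf 18023) (.leaf 0)))) (.node (.node (.node (.leaf 2050) (.leaf 20214)) (.node (.leaf 13768) (.leaf 0))) (.node (.node (.leaf 19349) (.leaf 0)) (.node (.leaf 7504) (.leaf 0))))) (.node (.node (.node (.node (.leaf 1016) (.leaf 20112)) (.node (.leaf 7605) (.leaf 0))) (.node (.node (.leaf 15011) (.leaf 0)) (.node (.leaf 16229) (.leaf 0)))) (.node (.node (.node (.leaf 19839) (.leaf 13771)) (.node (.leaf 20861) (.leaf 0))) (.node (.node (.leaf 12213) (.leaf 0)) (.node (.leaf 6468) (.leaf 0)))))) (.node (.node (.node (.node (.node (.leaf 11302) (.leaf 19369)) (.node (.leaf 2968) (.leaf 0))) (.node (.node (.leaf 15253) (.leaf 8935)) (.node (.leaf 17703) (.leaf 0)))) (.node (.node (.node (.leaf 2652) (.leaf 7247)) (.node (.leaf 13772) (.leaf 0))) (.node (.node (.leaf 19843) (.leaf 0)) (.node (.leaf 13727) (.leaf 0)))))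 (.node (.node (.node (.node (.leaf 1555) (.leaf 5640)) (.node (.leaf 10059) (.leaf 0))) (.node (.node (.leaf 12935) (.leaf 0)) (.node (.leaf 14537) (.leaf 0)))) (.node (.node (.node (.leaf 15873) (.leaf 4576)) (.node (.leaf 10036) (.leaf 0))) (.node (.node (.leaf 20363) (.leaf 0)) (.node (.leaf 19449) (.leaf 0))))))) (.node (.node (.node (.node (.node (.node (.leaf 20008) (.leaf 20968)) (.node (.leaf 5042) (.leaf 0))) (.node (.node (.leaf 18788) (.leaf 13770)) (.node (.leaf 792) (.leaf 0)))) (.node (.node (.node (.leaf 2138) (.leaf 11060)) (.node (.leaf 3827) (.leaf 0))) (.node (.node (.leaf 8593) (.leaf 0)) (.node (.leaf 7619) (.leaf 0))))) (.node (.node (.node (.node (.leaf 11917) (.leaf 15570)) (.node (.leaf 20943) (.leaf 0))) (.node (.node (.leaf 12201) (.leaf 0)) (.node (.leaf 20913) (.leaf 0)))) (.node (.node (.node (.leaf 13363) (.leaf 1114)) (.node (.leaf 15280) (.leaf 0))) (.node (.node (.leaf 11887) (.leaf 0)) (.node (.leaf 14838) (.leaf 0)))))) (.node (.node (.node (.node (.node (.leaf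 3317) (.leaf 18749)) (.node (.leaf 10319) (.leaf 0))) (.node (.node (.leaf 15364) (.leaf 11667)) (.node (.leaf 13924) (.leaf 0)))) (.node (.node (.node (.leaf 8316) (.leaf 2673)) (.node (.leaf 16969) (.leaf 0))) (.node (.node (.leaf 15406) (.leaf 0)) (.node (.leaf 4146) (.leaf 0))))) (.node (.node (.node (.node (.leaf 13300) (.leaf 20345)) (.node (.leaf 15762) (.leaf 0))) (.node (.node (.leaf 12726) (.leaf 0)) (.node (.leaf 17508) (.leaf 0)))) (.node (.node (.node (.leaf 14173) (.leaf 7689)) (.node (.leaf 2229) (.leaf 0))) (.node (.node (.leaf 19741) (.leaf 0)) (.node (.leaf 4873) (.leaf 0)))))))) (.node (.node (.node (.node (.node (.node (.node (.leaf 355) (.leaf 10187)) (.node (.leaf 4263) (.leaf 0))) (.node (.node (.leaf 1662) (.leaf 13207)) (.node (.leaf 15361) (.leaf 0)))) (.node (.node (.node (.leaf 5689) (.leaf 17847)) (.node (.leaf 10848) (.leaf 0))) (.node (.node (.leaf 3948) (.leaf 0)) (.node (.leaf 8557) (.leaf 0))))) (.node (.node (.node (.node (.leaf 17042) (.leaf 8586)) (.node (.leaf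 18539) (.leaf 0))) (.node (.node (.leaf 20324) (.leaf 0)) (.node (.leaf 2896) (.leaf 0)))) (.node (.node (.node (.leaf 12063) (.leaf 2839)) (.node (.leaf 20103) (.leaf 0))) (.node (.node (.leaf 8624) (.leaf 0)) (.node (.leaf 4783) (.leaf 0)))))) (.node (.node (.node (.node (.node (.leaf 15492) (.leaf 19840)) (.node (.leaf 18277) (.leaf 0))) (.node (.node (.leaf 427) (.leaf 16459)) (.node (.leaf 15732) (.leaf 0)))) (.node (.node (.node (.leaf 7675) (.leaf 3469)) (.node (.leaf 16072) (.leaf 0))) (.node (.node (.leaf 5500) (.leaf 0)) (.node (.leaf 2309) (.leaf 0))))) (.node (.node (.node (.node (.leaf 11089) (.leaf 5558)) (.node (.leaf 328) (.leaf 0))) (.node (.node (.leaf 18758) (.leaf 0)) (.node (.leaf 13719) (.leaf 0)))) (.node (.node (.node (.leaf 2610) (.leaf 12199)) (.node (.leaf 10938) (.leaf 0))) (.node (.node (.leaf 16843) (.leaf 0)) (.node (.leaf 9619) (.leaf 0))))))) (.node (.node (.node (.node (.node (.node (.leaf 2405) (.leaf 9191)) (.node (.leaf 973) (.leaf 0))) (.node (.node (.leaf 4737)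 (.leaf 11783)) (.node (.leaf 14722) (.leaf 0)))) (.node (.node (.node (.leaf 4335) (.leaf 10757)) (.node (.leaf 14731) (.leaf 0))) (.node (.node (.leaf 11366) (.leaf 0)) (.node (.leaf 18368) (.leaf 0))))) (.node (.node (.node (.node (.leaf 6558) (.leaf 16581)) (.node (.leaf 14995) (.leaf 0))) (.node (.node (.leaf 8761) (.leaf 0)) (.node (.leaf 19817) (.leaf 0)))) (.node (.node (.node (.leaf 14056) (.leaf 16411)) (.node (.leaf 6266) (.leaf 0))) (.node (.node (.leaf 13226) (.leaf 0)) (.node (.leaf 912) (.leaf 0)))))) (.node (.node (.node (.node (.node (.leaf 10172) (.leaf 13122)) (.node (.leaf 13077) (.leaf 0))) (.node (.node (.leaf 3445) (.leaf 17397)) (.node (.leaf 1562) (.leaf 0)))) (.node (.node (.node (.leaf 5792) (.leaf 14063)) (.node (.leaf 6813) (.leaf 0))) (.node (.node (.leaf 3256) (.leaf 0)) (.node (.leaf 6785) (.leaf 0))))) (.node (.node (.node (.node (.leaf 20531) (.leaf 12879)) (.node (.leaf 18559) (.leaf 0))) (.node (.node (.leaf 11108) (.leaf 0)) (.node (.leaf 13148) (.leaf 0)))) (.node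 (.node (.node (.leaf 6806) (.leaf 3709)) (.node (.leaf 20650) (.leaf 0))) (.node (.node (.leaf 15342) (.leaf 0)) (.node (.leaf 2697) (.leaf 0)))))))))

/-- part of a table -/
def ordK88 : Trie := (.node (.node (.node (.node (.node (.node (.node (.node (.leaf 12070) (.leaf 3799)) (.node (.leaf 8249) (.leaf 0))) (.node (.node (.leaf 13685) (.leaf 3153)) (.node (.leaf 9713) (.leaf 0)))) (.node (.node (.node (.leaf 6412) (.leaf 4925)) (.node (.leaf 4395) (.leaf 0))) (.node (.node (.leaf 5201) (.leaf 0)) (.node (.leaf 16966) (.leaf 0))))) (.node (.node (.node (.node (.leaf 3862) (.leaf 14388)) (.node (.leaf 19644) (.leaf 0))) (.node (.node (.leaf 13530) (.leaf 0)) (.node (.leaf 4157) (.leaf 0)))) (.node (.node (.node (.leaf 14218) (.leaf 17108)) (.node (.leaf 20853) (.leaf 0))) (.node (.node (.leaf 11816) (.leaf 0)) (.node (.leaf 1668) (.leaf 0)))))) (.node (.node (.node (.node (.node (.leaf 13291) (.leaf 12939)) (.node (.leaf 8153) (.leaf 0))) (.node (.node (.leaf 5445) (.leaf 1908)) (.node (.leaf 7252)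 (.leaf 0)))) (.node (.node (.node (.leaf 8527) (.leaf 7485)) (.node (.leaf 17157) (.leaf 0))) (.node (.node (.leaf 9834) (.leaf 0)) (.node (.leaf 19587) (.leaf 0))))) (.node (.node (.node (.node (.leaf 396) (.leaf 11515)) (.node (.leaf 20441) (.leaf 0))) (.node (.node (.leaf 19132) (.leaf 0)) (.node (.leaf 21206) (.leaf 0)))) (.node (.node (.node (.leaf 2748) (.leaf 5962)) (.node (.leaf 19101) (.leaf 0))) (.node (.node (.leaf 19661) (.leaf 0)) (.node (.leaf 13059) (.leaf 0))))))) (.node (.node (.node (.node (.node (.node (.leaf 482) (.leaf 12204)) (.node (.leaf 18538) (.leaf 0))) (.node (.node (.leaf 8474) (.leaf 12867)) (.node (.leaf 16194) (.leaf 0)))) (.node (.node (.node (.leaf 4427) (.leaf 8799)) (.node (.leaf 11247) (.leaf 0))) (.node (.node (.leaf 2871) (.leaf 0)) (.node (.leaf 6411) (.leaf 0))))) (.node (.node (.node (.node (.leaf 13444) (.leaf 7703)) (.node (.leaf 14479) (.leaf 0))) (.node (.node (.leaf 12242) (.leaf 0)) (.node (.leaf 3181) (.leaf 0)))) (.node (.node (.node (.leaf 17018)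 (.leaf 14236)) (.node (.leaf 2440) (.leaf 0))) (.node (.node (.leaf 17777) (.leaf 0)) (.node (.leaf 15641) (.leaf 0)))))) (.node (.node (.node (.node (.node (.leaf 18603) (.leaf 19498)) (.node (.leaf 17701) (.leaf 0))) (.node (.node (.leaf 16370) (.leaf 14932)) (.node (.leaf 18077) (.leaf 0)))) (.node (.node (.node (.leaf 10844) (.leaf 18035)) (.node (.leaf 20478) (.leaf 0))) (.node (.node (.leaf 12082) (.leaf 0)) (.node (.leaf 13376) (.leaf 0))))) (.node (.node (.node (.node (.leaf 14303) (.leaf 16418)) (.node (.leaf 4795) (.leaf 0))) (.node (.node (.leaf 20168) (.leaf 0)) (.node (.leaf 1900) (.leaf 0)))) (.node (.node (.node (.leaf 1046) (.leaf 4544)) (.node (.leaf 2500) (.leaf 0))) (.node (.node (.leaf 2703) (.leaf 0)) (.node (.leaf 19801) (.leaf 0)))))))) (.node (.node (.node (.node (.node (.node (.node (.leaf 12294) (.leaf 12151)) (.node (.leaf 15813) (.leaf 0))) (.node (.node (.leaf 1396) (.leaf 20456)) (.node (.leaf 20723) (.leaf 0)))) (.node (.node (.node (.leaf 4837) (.leaf 18044)) (.node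 (.leaf 20715) (.leaf 0))) (.node (.node (.leaf 15045) (.leaf 0)) (.node (.leaf 454) (.leaf 0))))) (.node (.node (.node (.node (.leaf 6119) (.leaf 10687)) (.node (.leaf 10907) (.leaf 0))) (.node (.node (.leaf 20405) (.leaf 0)) (.node (.leaf 15806) (.leaf 0)))) (.node (.node (.node (.leaf 8504) (.leaf 18526)) (.node (.leaf 4445) (.leaf 0))) (.node (.node (.leaf 13841) (.leaf 0)) (.node (.leaf 9686) (.leaf 0)))))) (.node (.node (.node (.node (.node (.leaf 18709) (.leaf 1860)) (.node (.leaf 13408) (.leaf 0))) (.node (.node (.leaf 11232) (.leaf 17871)) (.node (.leaf 15033) (.leaf 0)))) (.node (.node (.node (.leaf 13098) (.leaf 16573)) (.node (.leaf 2914) (.leaf 0))) (.node (.node (.leaf 11083) (.leaf 0)) (.node (.leaf 3891) (.leaf 0))))) (.node (.node (.node (.node (.leaf 8700) (.leaf 3235)) (.node (.leaf 5166) (.leaf 0))) (.node (.node (.leaf 12406) (.leaf 0)) (.node (.leaf 11301) (.leaf 0)))) (.node (.node (.node (.leaf 14283) (.leaf 17172)) (.node (.leaf 6862) (.leaf 0))) (.node (.node (.leaf 19523)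 (.leaf 0)) (.node (.leaf 10252) (.leaf 0))))))) (.node (.node (.node (.node (.node (.node (.leaf 13502) (.leaf 18133)) (.node (.leaf 8568) (.leaf 0))) (.node (.node (.leaf 3001) (.leaf 20936)) (.node (.leaf 5518) (.leaf 0)))) (.node (.node (.node (.leaf 15629) (.leaf 11952)) (.node (.leaf 10514) (.leaf 0))) (.node (.node (.leaf 17057) (.leaf 0)) (.node (.leaf 5153) (.leaf 0))))) (.node (.node (.node (.node (.leaf 14971) (.leaf 12898)) (.node (.leaf 16851) (.leaf 0))) (.node (.node (.leaf 9841) (.leaf 0)) (.node (.leaf 10410) (.leaf 0)))) (.node (.node (.node (.leaf 172) (.leaf 18244)) (.node (.leaf 10700) (.leaf 0))) (.node (.node (.leaf 4458) (.leaf 0)) (.node (.leaf 12192) (.leaf 0)))))) (.node (.node (.node (.node (.node (.leaf 18206) (.leaf 14159)) (.node (.leaf 4850) (.leaf 0))) (.node (.node (.leaf 9606) (.leaf 1853)) (.node (.leaf 4051) (.leaf 0)))) (.node (.node (.node (.leaf 11224) (.leaf 19172)) (.node (.leaf 15153) (.leaf 0))) (.node (.node (.leaf 2684) (.leaf 0)) (.node (.leaf 51) (.leaf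 0))))) (.node (.node (.node (.node (.leaf 17268) (.leaf 9019)) (.node (.leaf 341) (.leaf 0))) (.node (.node (.leaf 14355) (.leaf 0)) (.node (.leaf 3339) (.leaf 0)))) (.node (.node (.node (.leaf 16014) (.leaf 10809)) (.node (.leaf 372) (.leaf 0))) (.node (.node (.leaf 11530) (.leaf 0)) (.node (.leaf 9454) (.leaf 0)))))))))

/-- part of a table -/
def ordK89 : Trie := (.node (.node (.node (.node (.node (.node (.node (.node (.leaf 700) (.leaf 20819)) (.node (.leaf 18696) (.leaf 0))) (.node (.node (.leaf 16804) (.leaf 12309)) (.node (.leaf 13725) (.leaf 0)))) (.node (.node (.node (.leaf 19993) (.leaf 11840)) (.node (.leaf 18965) (.leaf 0))) (.node (.node (.leaf 20769) (.leaf 0)) (.node (.leaf 325) (.leaf 0))))) (.node (.node (.node (.node (.leaf 19150) (.leaf 19503)) (.node (.leaf 9612) (.leaf 0))) (.node (.node (.leaf 3390) (.leaf 0)) (.node (.leaf 16900) (.leaf 0)))) (.node (.node (.node (.leaf 17226) (.leaf 7227)) (.node (.leaf 18447) (.leaf 0))) (.node (.node (.leaf 11300) (.leaf 0)) (.node (.leaf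 132) (.leaf 0)))))) (.node (.node (.node (.node (.node (.leaf 14225) (.leaf 12110)) (.node (.leaf 9518) (.leaf 0))) (.node (.node (.leaf 8943) (.leaf 1445)) (.node (.leaf 17746) (.leaf 0)))) (.node (.node (.node (.leaf 8882) (.leaf 20923)) (.node (.leaf 7781) (.leaf 0))) (.node (.node (.leaf 8953) (.leaf 0)) (.node (.leaf 7664) (.leaf 0))))) (.node (.node (.node (.node (.leaf 9080) (.leaf 13695)) (.node (.leaf 8657) (.leaf 0))) (.node (.node (.leaf 17330) (.leaf 0)) (.node (.leaf 10689) (.leaf 0)))) (.node (.node (.node (.leaf 8426) (.leaf 13868)) (.node (.leaf 6710) (.leaf 0))) (.node (.node (.leaf 9493) (.leaf 0)) (.node (.leaf 7918) (.leaf 0))))))) (.node (.node (.node (.node (.node (.node (.leaf 6994) (.leaf 18059)) (.node (.leaf 9302) (.leaf 0))) (.node (.node (.leaf 16589) (.leaf 2823)) (.node (.leaf 6727) (.leaf 0)))) (.node (.node (.node (.leaf 15855) (.leaf 3508)) (.node (.leaf 7437) (.leaf 0))) (.node (.node (.leaf 6899) (.leaf 0)) (.node (.leaf 15865) (.leaf 0))))) (.node (.node (.node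 (.node (.leaf 689) (.leaf 9251)) (.node (.leaf 13169) (.leaf 0))) (.node (.node (.leaf 11156) (.leaf 0)) (.node (.leaf 10447) (.leaf 0)))) (.node (.node (.node (.leaf 10291) (.leaf 6156)) (.node (.leaf 19459) (.leaf 0))) (.node (.node (.leaf 3154) (.leaf 0)) (.node (.leaf 13288) (.leaf 0)))))) (.node (.node (.node (.node (.node (.leaf 3908) (.leaf 3071)) (.node (.leaf 11028) (.leaf 0))) (.node (.node (.leaf 18844) (.leaf 816)) (.node (.leaf 6338) (.leaf 0)))) (.node (.node (.node (.leaf 79) (.leaf 20729)) (.node (.leaf 7035) (.leaf 0))) (.node (.node (.leaf 2055) (.leaf 0)) (.node (.leaf 2246) (.leaf 0))))) (.node (.node (.node (.node (.leaf 3500) (.leaf 16245)) (.node (.leaf 2835) (.leaf 0))) (.node (.node (.leaf 9830) (.leaf 0)) (.node (.leaf 2669) (.leaf 0)))) (.node (.node (.node (.leaf 631) (.leaf 1124)) (.node (.leaf 20775) (.leaf 0))) (.node (.node (.leaf 19841) (.leaf 0)) (.node (.leaf 19261) (.leaf 0)))))))) (.node (.node (.node (.node (.node (.node (.node (.leaf 7708) (.leaf 13945)) (.node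 (.leaf 14597) (.leaf 0))) (.node (.node (.leaf 118) (.leaf 7547)) (.node (.leaf 14570) (.leaf 0)))) (.node (.node (.node (.leaf 19203) (.leaf 5973)) (.node (.leaf 16474) (.leaf 0))) (.node (.node (.leaf 13847) (.leaf 0)) (.node (.leaf 6050) (.leaf 0))))) (.node (.node (.node (.node (.leaf 18090) (.leaf 15360)) (.node (.leaf 15658) (.leaf 0))) (.node (.node (.leaf 7073) (.leaf 0)) (.node (.leaf 14191) (.leaf 0)))) (.node (.node (.node (.leaf 19412) (.leaf 9036)) (.node (.leaf 3707) (.leaf 0))) (.node (.node (.leaf 1106) (.leaf 0)) (.node (.leaf 17050) (.leaf 0)))))) (.node (.node (.node (.node (.node (.leaf 7653) (.leaf 19962)) (.node (.leaf 2579) (.leaf 0))) (.node (.node (.leaf 2322) (.leaf 9578)) (.node (.leaf 9324) (.leaf 0)))) (.node (.node (.node (.leaf 11040) (.leaf 10649)) (.node (.leaf 1178) (.leaf 0))) (.node (.node (.leaf 14547) (.leaf 0)) (.node (.leaf 19655) (.leaf 0))))) (.node (.node (.node (.node (.leaf 17152) (.leaf 7942)) (.node (.leaf 1413) (.leaf 0))) (.node (.node (.leaf 4970)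 (.leaf 0)) (.node (.leaf 15828) (.leaf 0)))) (.node (.node (.node (.leaf 16570) (.leaf 6224)) (.node (.leaf 17596) (.leaf 0))) (.node (.node (.leaf 19291) (.leaf 0)) (.node (.leaf 18229) (.leaf 0))))))) (.node (.node (.node (.node (.node (.node (.leaf 10166) (.leaf 14358)) (.node (.leaf 191) (.leaf 0))) (.node (.node (.leaf 11990) (.leaf 8831)) (.node (.leaf 20339) (.leaf 0)))) (.node (.node (.node (.leaf 20294) (.leaf 7829)) (.node (.leaf 12912) (.leaf 0))) (.node (.node (.leaf 8500) (.leaf 0)) (.node (.leaf 8963) (.leaf 0))))) (.node (.node (.node (.node (.leaf 14081) (.leaf 11175)) (.node (.leaf 15952) (.leaf 0))) (.node (.node (.leaf 7385) (.leaf 0)) (.node (.leaf 12536) (.leaf 0)))) (.node (.node (.node (.leaf 12013) (.leaf 18349)) (.node (.leaf 2065) (.leaf 0))) (.node (.node (.leaf 10749) (.leaf 0)) (.node (.leaf 20527) (.leaf 0)))))) (.node (.node (.node (.node (.node (.leaf 16489) (.leaf 7539)) (.node (.leaf 17697) (.leaf 0))) (.node (.node (.leaf 15466) (.leaf 6580)) (.node (.leaf 12415)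 (.leaf 0)))) (.node (.node (.node (.leaf 12654) (.leaf 5501)) (.node (.leaf 17417) (.leaf 0))) (.node (.node (.leaf 5211) (.leaf 0)) (.node (.leaf 985) (.leaf 0))))) (.node (.node (.node (.node (.leaf 5531) (.leaf 20802)) (.node (.leaf 3634) (.leaf 0))) (.node (.node (.leaf 21294) (.leaf 0)) (.node (.leaf 19956) (.leaf 0)))) (.node (.node (.node (.leaf 12185) (.leaf 13390)) (.node (.leaf 13621) (.leaf 0))) (.node (.node (.leaf 10340) (.leaf 0)) (.node (.leaf 8468) (.leaf 0)))))))))

/-- part of a table -/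
def ordK90 : Trie := (.node (.node (.node (.node (.node (.node (.node (.node (.leaf 3286) (.leaf 17942)) (.node (.leaf 19632) (.leaf 0))) (.node (.node (.leaf 12723) (.leaf 16057)) (.node (.leaf 14105) (.leaf 0)))) (.node (.node (.node (.leaf 20377) (.leaf 9118)) (.node (.leaf 6225) (.leaf 0))) (.node (.node (.leaf 14713) (.leaf 0)) (.node (.leaf 9994) (.leaf 0))))) (.node (.node (.node (.node (.leaf 14780) (.leaf 12681)) (.node (.leaf 18161) (.leaf 0))) (.node (.node (.leaf 9279) (.leaf 0)) (.node (.leaf 12251) (.leaf 0)))) (.node (.node (.node (.leaf 356) (.leaf 17468)) (.node (.leaf 7374) (.leaf 0))) (.node (.node (.leaf 5806) (.leaf 0)) (.node (.leaf 12011) (.leaf 0)))))) (.node (.node (.node (.node (.node (.leaf 18426) (.leaf 8609)) (.node (.leaf 16059) (.leaf 0))) (.node (.node (.leaf 18616) (.leaf 254)) (.node (.leaf 15256) (.leaf 0)))) (.node (.node (.node (.leaf 3949) (.leaf 1025)) (.node (.leaf 10523) (.leaf 0))) (.node (.node (.leaf 4717) (.leaf 0)) (.node (.leaf 6896) (.leaf 0))))) (.node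 (.node (.node (.node (.leaf 8040) (.leaf 8047)) (.node (.leaf 14696) (.leaf 0))) (.node (.node (.leaf 8998) (.leaf 0)) (.node (.leaf 11603) (.leaf 0)))) (.node (.node (.node (.leaf 16093) (.leaf 8006)) (.node (.leaf 4473) (.leaf 0))) (.node (.node (.leaf 18705) (.leaf 0)) (.node (.leaf 15237) (.leaf 0))))))) (.node (.node (.node (.node (.node (.node (.leaf 2815) (.leaf 20930)) (.node (.leaf 8788) (.leaf 0))) (.node (.node (.leaf 2683) (.leaf 14906)) (.node (.leaf 1675) (.leaf 0)))) (.node (.node (.node (.leaf 719) (.leaf 5225)) (.node (.leaf 9817) (.leaf 0))) (.node (.node (.leaf 4596) (.leaf 0)) (.node (.leaf 16399) (.leaf 0))))) (.node (.node (.node (.node (.leaf 6933) (.leaf 13543)) (.node (.leaf 2395) (.leaf 0))) (.node (.node (.leaf 19863) (.leaf 0)) (.node (.leaf 4984) (.leaf 0)))) (.node (.node (.node (.leaf 15065) (.leaf 2648)) (.node (.leaf 10945) (.leaf 0))) (.node (.node (.leaf 14265) (.leaf 0)) (.node (.leaf 8934) (.leaf 0)))))) (.node (.node (.node (.node (.node (.leaf 10750) (.leaf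 11882)) (.node (.leaf 8742) (.leaf 0))) (.node (.node (.leaf 18226) (.leaf 4475)) (.node (.leaf 2136) (.leaf 0)))) (.node (.node (.node (.leaf 4565) (.leaf 12232)) (.node (.leaf 4780) (.leaf 0))) (.node (.node (.leaf 10850) (.leaf 0)) (.node (.leaf 8699) (.leaf 0))))) (.node (.node (.node (.node (.leaf 14066) (.leaf 3540)) (.node (.leaf 15078) (.leaf 0))) (.node (.node (.leaf 17730) (.leaf 0)) (.node (.leaf 715) (.leaf 0)))) (.node (.node (.node (.leaf 20038) (.leaf 3753)) (.node (.leaf 9460) (.leaf 0))) (.node (.node (.leaf 5237) (.leaf 0)) (.node (.leaf 19076) (.leaf 0)))))))) (.node (.node (.node (.node (.node (.node (.node (.leaf 13872) (.leaf 20142)) (.node (.leaf 7309) (.leaf 0))) (.node (.node (.leaf 1240) (.leaf 8302)) (.node (.leaf 5082) (.leaf 0)))) (.node (.node (.node (.leaf 3319) (.leaf 2116)) (.node (.leaf 7206) (.leaf 0))) (.node (.node (.leaf 12517) (.leaf 0)) (.node (.leaf 1381) (.leaf 0))))) (.node (.node (.node (.node (.leaf 6423) (.leaf 20306)) (.node (.leaf 937) (.leaf 0))) (.node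 (.node (.leaf 16664) (.leaf 0)) (.node (.leaf 15482) (.leaf 0)))) (.node (.node (.node (.leaf 11425) (.leaf 18121)) (.node (.leaf 15) (.leaf 0))) (.node (.node (.leaf 16220) (.leaf 0)) (.node (.leaf 4246) (.leaf 0)))))) (.node (.node (.node (.node (.node (.leaf 10913) (.leaf 2907)) (.node (.leaf 20584) (.leaf 0))) (.node (.node (.leaf 11628) (.leaf 3202)) (.node (.leaf 12946) (.leaf 0)))) (.node (.node (.node (.leaf 14465) (.leaf 1890)) (.node (.leaf 15135) (.leaf 0))) (.node (.node (.leaf 8925) (.leaf 0)) (.node (.leaf 1321) (.leaf 0))))) (.node (.node (.node (.node (.leaf 6022) (.leaf 433)) (.node (.leaf 19842) (.leaf 0))) (.node (.node (.leaf 15897) (.leaf 0)) (.node (.leaf 13290) (.leaf 0)))) (.node (.node (.node (.leaf 14865) (.leaf 19251)) (.node (.leaf 3200) (.leaf 0))) (.node (.node (.leaf 13220) (.leaf 0)) (.node (.leaf 11864) (.leaf 0))))))) (.node (.node (.node (.node (.node (.node (.leaf 4711) (.leaf 15743)) (.node (.leaf 17499) (.leaf 0))) (.node (.node (.leaf 16683) (.leaf 7310)) (.node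 (.leaf 2941) (.leaf 0)))) (.node (.node (.node (.leaf 21100) (.leaf 6815)) (.node (.leaf 9336) (.leaf 0))) (.node (.node (.leaf 2620) (.leaf 0)) (.node (.leaf 10193) (.leaf 0))))) (.node (.node (.node (.node (.leaf 5152) (.leaf 399)) (.node (.leaf 6836) (.leaf 0))) (.node (.node (.leaf 7720) (.leaf 0)) (.node (.leaf 13227) (.leaf 0)))) (.node (.node (.node (.leaf 8533) (.leaf 5038)) (.node (.leaf 16961) (.leaf 0))) (.node (.node (.leaf 4341) (.leaf 0)) (.node (.leaf 1255) (.leaf 0)))))) (.node (.node (.node (.node (.node (.leaf 20408) (.leaf 4983)) (.node (.leaf 11993) (.leaf 0))) (.node (.node (.leaf 18422) (.leaf 6289)) (.node (.leaf 19258) (.leaf 0)))) (.node (.node (.node (.leaf 12959) (.leaf 20849)) (.node (.leaf 44) (.leaf 0))) (.node (.node (.leaf 10977) (.leaf 0)) (.node (.leaf 5589) (.leaf 0))))) (.node (.node (.node (.node (.leaf 7000) (.leaf 7571)) (.node (.leaf 11017) (.leaf 0))) (.node (.node (.leaf 18183) (.leaf 0)) (.node (.leaf 15263) (.leaf 0)))) (.node (.node (.node (.leaf 13419)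 (.leaf 12837)) (.node (.leaf 14571) (.leaf 0))) (.node (.node (.leaf 19350) (.leaf 0)) (.node (.leaf 1702) (.leaf 0)))))))))

/-- part of a table -/
def ordK91 : Trie := (.node (.node (.node (.node (.node (.node (.node (.node (.leaf 20544) (.leaf 8794)) (.node (.leaf 9428) (.leaf 0))) (.node (.node (.leaf 7293) (.leaf 1159)) (.node (.leaf 15651) (.leaf 0)))) (.node (.node (.node (.leaf 78) (.leaf 5138)) (.node (.leaf 320) (.leaf 0))) (.node (.node (.leaf 2578) (.leaf 0)) (.node (.leaf 12049) (.leaf 0))))) (.node (.node (.node (.node (.leaf 1618) (.leaf 5591)) (.node (.leaf 10093) (.leaf 0))) (.node (.node (.leaf 1282) (.leaf 0)) (.node (.leaf 14796) (.leaf 0)))) (.node (.node (.node (.leaf 16319) (.leaf 16227)) (.node (.leaf 19422) (.leaf 0))) (.node (.node (.leaf 1343) (.leaf 0)) (.node (.leaf 170) (.leaf 0)))))) (.node (.node (.node (.node (.node (.leaf 4672) (.leaf 1427)) (.node (.leaf 20101) (.leaf 0))) (.node (.node (.leaf 10867) (.leaf 1168)) (.node (.leaf 12692) (.leaf 0)))) (.node (.node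 (.node (.leaf 7459) (.leaf 20542)) (.node (.leaf 5546) (.leaf 0))) (.node (.node (.leaf 16863) (.leaf 0)) (.node (.leaf 12394) (.leaf 0))))) (.node (.node (.node (.node (.leaf 9640) (.leaf 14594)) (.node (.leaf 3013) (.leaf 0))) (.node (.node (.leaf 13702) (.leaf 0)) (.node (.leaf 3596) (.leaf 0)))) (.node (.node (.node (.leaf 10026) (.leaf 13487)) (.node (.leaf 9338) (.leaf 0))) (.node (.node (.leaf 20393) (.leaf 0)) (.node (.leaf 11888) (.leaf 0))))))) (.node (.node (.node (.node (.node (.node (.leaf 2599) (.leaf 16196)) (.node (.leaf 9357) (.leaf 0))) (.node (.node (.leaf 12916) (.leaf 8979)) (.node (.leaf 4442) (.leaf 0)))) (.node (.node (.node (.leaf 6340) (.leaf 13026)) (.node (.leaf 12071) (.leaf 0))) (.node (.node (.leaf 13588) (.leaf 0)) (.node (.leaf 5813) (.leaf 0))))) (.node (.node (.node (.node (.leaf 18025) (.leaf 4595)) (.node (.leaf 5223) (.leaf 0))) (.node (.node (.leaf 1807) (.leaf 0)) (.node (.leaf 14160) (.leaf 0)))) (.node (.node (.node (.leaf 17910) (.leaf 19594)) (.node (.leaf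 6122) (.leaf 0))) (.node (.node (.leaf 8320) (.leaf 0)) (.node (.leaf 21383) (.leaf 0)))))) (.node (.node (.node (.node (.node (.leaf 1798) (.leaf 19297)) (.node (.leaf 9560) (.leaf 0))) (.node (.node (.leaf 8865) (.leaf 12256)) (.node (.leaf 511) (.leaf 0)))) (.node (.node (.node (.leaf 4317) (.leaf 3043)) (.node (.leaf 16797) (.leaf 0))) (.node (.node (.leaf 21389) (.leaf 0)) (.node (.leaf 2910) (.leaf 0))))) (.node (.node (.node (.node (.leaf 14229) (.leaf 7138)) (.node (.leaf 20599) (.leaf 0))) (.node (.node (.leaf 8732) (.leaf 0)) (.node (.leaf 8449) (.leaf 0)))) (.node (.node (.node (.leaf 10010) (.leaf 13109)) (.node (.leaf 16267) (.leaf 0))) (.node (.node (.leaf 4465) (.leaf 0)) (.node (.leaf 832) (.leaf 0)))))))) (.node (.node (.node (.node (.node (.node (.node (.leaf 5124) (.leaf 17479)) (.node (.leaf 401) (.leaf 0))) (.node (.node (.leaf 16470) (.leaf 14996)) (.node (.leaf 17803) (.leaf 0)))) (.node (.node (.node (.leaf 1107) (.leaf 20007)) (.node (.leaf 13626) (.leaf 0))) (.node (.node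 (.leaf 3040) (.leaf 0)) (.node (.leaf 1079) (.leaf 0))))) (.node (.node (.node (.node (.leaf 14438) (.leaf 15082)) (.node (.leaf 1055) (.leaf 0))) (.node (.node (.leaf 9961) (.leaf 0)) (.node (.leaf 18746) (.leaf 0)))) (.node (.node (.node (.leaf 20336) (.leaf 11149)) (.node (.leaf 4380) (.leaf 0))) (.node (.node (.leaf 10752) (.leaf 0)) (.node (.leaf 17078) (.leaf 0)))))) (.node (.node (.node (.node (.node (.leaf 12764) (.leaf 16888)) (.node (.leaf 14013) (.leaf 0))) (.node (.node (.leaf 5568) (.leaf 303)) (.node (.leaf 10233) (.leaf 0)))) (.node (.node (.node (.leaf 13316) (.leaf 18173)) (.node (.leaf 9294) (.leaf 0))) (.node (.node (.leaf 17311) (.leaf 0)) (.node (.leaf 7428) (.leaf 0))))) (.node (.node (.node (.node (.leaf 17554) (.leaf 4066)) (.node (.leaf 2595) (.leaf 0))) (.node (.node (.leaf 1062) (.leaf 0)) (.node (.leaf 9761) (.leaf 0)))) (.node (.node (.node (.leaf 18341) (.leaf 11750)) (.node (.leaf 17193) (.leaf 0))) (.node (.node (.leaf 19572) (.leaf 0)) (.node (.leaf 6129) (.leaf 0)))))))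 (.node (.node (.node (.node (.node (.node (.leaf 1996) (.leaf 10352)) (.node (.leaf 12006) (.leaf 0))) (.node (.node (.leaf 3005) (.leaf 20412)) (.node (.leaf 14340) (.leaf 0)))) (.node (.node (.node (.leaf 6483) (.leaf 4252)) (.node (.leaf 13049) (.leaf 0))) (.node (.node (.leaf 13434) (.leaf 0)) (.node (.leaf 436) (.leaf 0))))) (.node (.node (.node (.node (.leaf 16530) (.leaf 4835)) (.node (.leaf 20250) (.leaf 0))) (.node (.node (.leaf 9284) (.leaf 0)) (.node (.leaf 13521) (.leaf 0)))) (.node (.node (.node (.leaf 2710) (.leaf 7442)) (.node (.leaf 19714) (.leaf 0))) (.node (.node (.leaf 2433) (.leaf 0)) (.node (.leaf 15108) (.leaf 0)))))) (.node (.node (.node (.node (.node (.leaf 8383) (.leaf 8045)) (.node (.leaf 12458) (.leaf 0))) (.node (.node (.leaf 10137) (.leaf 5241)) (.node (.leaf 12326) (.leaf 0)))) (.node (.node (.node (.leaf 12849) (.leaf 15961)) (.node (.leaf 7220) (.leaf 0))) (.node (.node (.leaf 9076) (.leaf 0)) (.node (.leaf 6216) (.leaf 0))))) (.node (.node (.node (.node (.leaf 9331)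 (.leaf 336)) (.node (.leaf 2044) (.leaf 0))) (.node (.node (.leaf 20718) (.leaf 0)) (.node (.leaf 5220) (.leaf 0)))) (.node (.node (.node (.leaf 8348) (.leaf 13721)) (.node (.leaf 515) (.leaf 0))) (.node (.node (.leaf 4816) (.leaf 0)) (.node (.leaf 2558) (.leaf 0)))))))))

/-- part of a table -/
def ordK92 : Trie := (.node (.node (.node (.node (.node (.node (.node (.node (.leaf 14010) (.leaf 9254)) (.node (.leaf 8246) (.leaf 0))) (.node (.node (.leaf 19443) (.leaf 10476)) (.node (.leaf 96) (.leaf 0)))) (.node (.node (.node (.leaf 5717) (.leaf 3525)) (.node (.leaf 16067) (.leaf 0))) (.node (.node (.leaf 13732) (.leaf 0)) (.node (.leaf 19816) (.leaf 0))))) (.node (.node (.node (.node (.leaf 17619) (.leaf 20015)) (.node (.leaf 5769) (.leaf 0))) (.node (.node (.leaf 2087) (.leaf 0)) (.node (.leaf 15841) (.leaf 0)))) (.node (.node (.node (.leaf 12736) (.leaf 1295)) (.node (.leaf 4616) (.leaf 0))) (.node (.node (.leaf 963) (.leaf 0)) (.node (.leaf 8672) (.leaf 0)))))) (.node (.node (.node (.node (.node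 (.leaf 5950) (.leaf 18732)) (.node (.leaf 8539) (.leaf 0))) (.node (.node (.leaf 1918) (.leaf 17178)) (.node (.leaf 4938) (.leaf 0)))) (.node (.node (.node (.leaf 10210) (.leaf 3982)) (.node (.leaf 11885) (.leaf 0))) (.node (.node (.leaf 16477) (.leaf 0)) (.node (.leaf 18288) (.leaf 0))))) (.node (.node (.node (.node (.leaf 7322) (.leaf 3529)) (.node (.leaf 6273) (.leaf 0))) (.node (.node (.leaf 3358) (.leaf 0)) (.node (.leaf 20280) (.leaf 0)))) (.node (.node (.node (.leaf 9535) (.leaf 1865)) (.node (.leaf 17202) (.leaf 0))) (.node (.node (.leaf 11995) (.leaf 0)) (.node (.leaf 10887) (.leaf 0))))))) (.node (.node (.node (.node (.node (.node (.leaf 13527) (.leaf 3012)) (.node (.leaf 9630) (.leaf 0))) (.node (.node (.leaf 18727) (.leaf 15268)) (.node (.leaf 16772) (.leaf 0)))) (.node (.node (.node (.leaf 14349) (.leaf 5105)) (.node (.leaf 17421) (.leaf 0))) (.node (.node (.leaf 9252) (.leaf 0)) (.node (.leaf 16661) (.leaf 0))))) (.node (.node (.node (.node (.leaf 12291) (.leaf 14300)) (.node (.leaf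 1745) (.leaf 0))) (.node (.node (.leaf 11689) (.leaf 0)) (.node (.leaf 3990) (.leaf 0)))) (.node (.node (.node (.leaf 15618) (.leaf 1580)) (.node (.leaf 16624) (.leaf 0))) (.node (.node (.leaf 12360) (.leaf 0)) (.node (.leaf 8582) (.leaf 0)))))) (.node (.node (.node (.node (.node (.leaf 2916) (.leaf 18579)) (.node (.leaf 18295) (.leaf 0))) (.node (.node (.leaf 14025) (.leaf 10616)) (.node (.leaf 18938) (.leaf 0)))) (.node (.node (.node (.leaf 8055) (.leaf 2367)) (.node (.leaf 12052) (.leaf 0))) (.node (.node (.leaf 87) (.leaf 0)) (.node (.leaf 17391) (.leaf 0))))) (.node (.node (.node (.node (.leaf 21057) (.leaf 3086)) (.node (.leaf 9605) (.leaf 0))) (.node (.node (.leaf 13011) (.leaf 0)) (.node (.leaf 11216) (.leaf 0)))) (.node (.node (.node (.leaf 5425) (.leaf 20557)) (.node (.leaf 11700) (.leaf 0))) (.node (.node (.leaf 12389) (.leaf 0)) (.node (.leaf 983) (.leaf 0)))))))) (.node (.node (.node (.node (.node (.node (.node (.leaf 1512) (.leaf 9462)) (.node (.leaf 15369) (.leaf 0))) (.node (.node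 (.leaf 19027) (.leaf 13458)) (.node (.leaf 15124) (.leaf 0)))) (.node (.node (.node (.leaf 3852) (.leaf 19137)) (.node (.leaf 16653) (.leaf 0))) (.node (.node (.leaf 4397) (.leaf 0)) (.node (.leaf 17125) (.leaf 0))))) (.node (.node (.node (.node (.leaf 17733) (.leaf 579)) (.node (.leaf 10111) (.leaf 0))) (.node (.node (.leaf 4879) (.leaf 0)) (.node (.leaf 8830) (.leaf 0)))) (.node (.node (.node (.leaf 11054) (.leaf 11764)) (.node (.leaf 13618) (.leaf 0))) (.node (.node (.leaf 17215) (.leaf 0)) (.node (.leaf 3119) (.leaf 0)))))) (.node (.node (.node (.node (.node (.leaf 9318) (.leaf 6365)) (.node (.leaf 4846) (.leaf 0))) (.node (.node (.leaf 3121) (.leaf 16875)) (.node (.leaf 17874) (.leaf 0)))) (.node (.node (.node (.leaf 13526) (.leaf 17908)) (.node (.leaf 21309) (.leaf 0))) (.node (.node (.leaf 15635) (.leaf 0)) (.node (.leaf 4085) (.leaf 0))))) (.node (.node (.node (.node (.leaf 10940) (.leaf 2386)) (.node (.leaf 6215) (.leaf 0))) (.node (.node (.leaf 3882) (.leaf 0)) (.node (.leaf 8185) (.leaf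 0)))) (.node (.node (.node (.leaf 19345) (.leaf 17198)) (.node (.leaf 21290) (.leaf 0))) (.node (.node (.leaf 2383) (.leaf 0)) (.node (.leaf 7337) (.leaf 0))))))) (.node (.node (.node (.node (.node (.node (.leaf 2970) (.leaf 13804)) (.node (.leaf 5693) (.leaf 0))) (.node (.node (.leaf 16085) (.leaf 8596)) (.node (.leaf 19873) (.leaf 0)))) (.node (.node (.node (.leaf 17316) (.leaf 2715)) (.node (.leaf 11615) (.leaf 0))) (.node (.node (.leaf 21277) (.leaf 0)) (.node (.leaf 14829) (.leaf 0))))) (.node (.node (.node (.node (.leaf 13431) (.leaf 16999)) (.node (.leaf 15648) (.leaf 0))) (.node (.node (.leaf 9965) (.leaf 0)) (.node (.leaf 2164) (.leaf 0)))) (.node (.node (.node (.leaf 17679) (.leaf 10896)) (.node (.leaf 7479) (.leaf 0))) (.node (.node (.leaf 11770) (.leaf 0)) (.node (.leaf 12042) (.leaf 0)))))) (.node (.node (.node (.node (.node (.leaf 12582) (.leaf 6721)) (.node (.leaf 2104) (.leaf 0))) (.node (.node (.leaf 18519) (.leaf 16518)) (.node (.leaf 8771) (.leaf 0)))) (.node (.node (.node (.leaf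 573) (.leaf 2036)) (.node (.leaf 1129) (.leaf 0))) (.node (.node (.leaf 20689) (.leaf 0)) (.node (.leaf 2591) (.leaf 0))))) (.node (.node (.node (.node (.leaf 8217) (.leaf 20910)) (.node (.leaf 12237) (.leaf 0))) (.node (.node (.leaf 5615) (.leaf 0)) (.node (.leaf 11449) (.leaf 0)))) (.node (.node (.node (.leaf 4583) (.leaf 13046)) (.node (.leaf 17967) (.leaf 0))) (.node (.node (.leaf 13997) (.leaf 0)) (.node (.leaf 9346) (.leaf 0)))))))))

/-- part of a table -/
def ordK93 : Trie := (.node (.node (.node (.node (.node (.node (.node (.node (.leaf 9787) (.leaf 15615)) (.node (.leaf 13319) (.leaf 0))) (.node (.node (.leaf 21) (.leaf 16102)) (.node (.leaf 9160) (.leaf 0)))) (.node (.node (.node (.leaf 3427) (.leaf 8860)) (.node (.leaf 3945) (.leaf 0))) (.node (.node (.leaf 6999) (.leaf 0)) (.node (.leaf 19599) (.leaf 0))))) (.node (.node (.node (.node (.leaf 11775) (.leaf 6388)) (.node (.leaf 1789) (.leaf 0))) (.node (.node (.leaf 5564) (.leaf 0)) (.node (.leaf 7722) (.leaf 0)))) (.node (.node (.node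 (.leaf 4153) (.leaf 18515)) (.node (.leaf 4387) (.leaf 0))) (.node (.node (.leaf 3971) (.leaf 0)) (.node (.leaf 2269) (.leaf 0)))))) (.node (.node (.node (.node (.node (.leaf 4901) (.leaf 7643)) (.node (.leaf 10098) (.leaf 0))) (.node (.node (.leaf 9264) (.leaf 19585)) (.node (.leaf 17810) (.leaf 0)))) (.node (.node (.node (.leaf 4474) (.leaf 13601)) (.node (.leaf 11574) (.leaf 0))) (.node (.node (.leaf 20580) (.leaf 0)) (.node (.leaf 3313) (.leaf 0))))) (.node (.node (.node (.node (.leaf 9886) (.leaf 7352)) (.node (.leaf 9991) (.leaf 0))) (.node (.node (.leaf 15116) (.leaf 0)) (.node (.leaf 13324) (.leaf 0)))) (.node (.node (.node (.leaf 11097) (.leaf 11295)) (.node (.leaf 10806) (.leaf 0))) (.node (.node (.leaf 20370) (.leaf 0)) (.node (.leaf 2724) (.leaf 0))))))) (.node (.node (.node (.node (.node (.node (.leaf 14800) (.leaf 3507)) (.node (.leaf 9577) (.leaf 0))) (.node (.node (.leaf 768) (.leaf 9795)) (.node (.leaf 9879) (.leaf 0)))) (.node (.node (.node (.leaf 2902) (.leaf 19015)) (.node (.leaf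 18530) (.leaf 0))) (.node (.node (.leaf 9009) (.leaf 0)) (.node (.leaf 20519) (.leaf 0))))) (.node (.node (.node (.node (.leaf 19220) (.leaf 10873)) (.node (.leaf 17457) (.leaf 0))) (.node (.node (.leaf 1481) (.leaf 0)) (.node (.leaf 10541) (.leaf 0)))) (.node (.node (.node (.leaf 1925) (.leaf 8781)) (.node (.leaf 11110) (.leaf 0))) (.node (.node (.leaf 1205) (.leaf 0)) (.node (.leaf 19528) (.leaf 0)))))) (.node (.node (.node (.node (.node (.leaf 7483) (.leaf 19084)) (.node (.leaf 10906) (.leaf 0))) (.node (.node (.leaf 15455) (.leaf 1208)) (.node (.leaf 2168) (.leaf 0)))) (.node (.node (.node (.leaf 17023) (.leaf 20778)) (.node (.leaf 14697) (.leaf 0))) (.node (.node (.leaf 15849) (.leaf 0)) (.node (.leaf 6796) (.leaf 0))))) (.node (.node (.node (.node (.leaf 10605) (.leaf 10549)) (.node (.leaf 20575) (.leaf 0))) (.node (.node (.leaf 9467) (.leaf 0)) (.node (.leaf 15920) (.leaf 0)))) (.node (.node (.node (.leaf 856) (.leaf 11098)) (.node (.leaf 19404) (.leaf 0))) (.node (.node (.leaf 18473) (.leaf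 0)) (.node (.leaf 8941) (.leaf 0)))))))) (.node (.node (.node (.node (.node (.node (.node (.leaf 12901) (.leaf 21431)) (.node (.leaf 124) (.leaf 0))) (.node (.node (.leaf 11118) (.leaf 16759)) (.node (.leaf 14429) (.leaf 0)))) (.node (.node (.node (.leaf 14498) (.leaf 6398)) (.node (.leaf 84) (.leaf 0))) (.node (.node (.leaf 5797) (.leaf 0)) (.node (.leaf 7594) (.leaf 0))))) (.node (.node (.node (.node (.leaf 17940) (.leaf 4586)) (.node (.leaf 16946) (.leaf 0))) (.node (.node (.leaf 14112) (.leaf 0)) (.node (.leaf 7957) (.leaf 0)))) (.node (.node (.node (.leaf 6147) (.leaf 7835)) (.node (.leaf 10124) (.leaf 0))) (.node (.node (.leaf 4836) (.leaf 0)) (.node (.leaf 14251) (.leaf 0)))))) (.node (.node (.node (.node (.node (.leaf 16396) (.leaf 14094)) (.node (.leaf 1439) (.leaf 0))) (.node (.node (.leaf 9564) (.leaf 8161)) (.node (.leaf 16707) (.leaf 0)))) (.node (.node (.node (.leaf 18960) (.leaf 8096)) (.node (.leaf 4375) (.leaf 0))) (.node (.node (.leaf 18832) (.leaf 0)) (.node (.leaf 21178) (.leaf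 0))))) (.node (.node (.node (.node (.leaf 14534) (.leaf 14925)) (.node (.leaf 16958) (.leaf 0))) (.node (.node (.leaf 12821) (.leaf 0)) (.node (.leaf 14224) (.leaf 0)))) (.node (.node (.node (.leaf 17308) (.leaf 13183)) (.node (.leaf 14526) (.leaf 0))) (.node (.node (.leaf 20529) (.leaf 0)) (.node (.leaf 16669) (.leaf 0))))))) (.node (.node (.node (.node (.node (.node (.leaf 1902) (.leaf 10274)) (.node (.leaf 8) (.leaf 0))) (.node (.node (.leaf 12745) (.leaf 7962)) (.node (.leaf 5879) (.leaf 0)))) (.node (.node (.node (.leaf 3638) (.leaf 4062)) (.node (.leaf 269) (.leaf 0))) (.node (.node (.leaf 5187) (.leaf 0)) (.node (.leaf 6714) (.leaf 0))))) (.node (.node (.node (.node (.leaf 10496) (.leaf 16335)) (.node (.leaf 11932) (.leaf 0))) (.node (.node (.leaf 17110) (.leaf 0)) (.node (.leaf 18563) (.leaf 0)))) (.node (.node (.node (.leaf 8476) (.leaf 3779)) (.node (.leaf 6964) (.leaf 0))) (.node (.node (.leaf 4778) (.leaf 0)) (.node (.leaf 5405) (.leaf 0)))))) (.node (.node (.node (.node (.node (.leaf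 7044) (.leaf 7693)) (.node (.leaf 20946) (.leaf 0))) (.node (.node (.leaf 19293) (.leaf 2900)) (.node (.leaf 10934) (.leaf 0)))) (.node (.node (.node (.leaf 19307) (.leaf 10000)) (.node (.leaf 20375) (.leaf 0))) (.node (.node (.leaf 17668) (.leaf 0)) (.node (.leaf 16831) (.leaf 0))))) (.node (.node (.node (.node (.leaf 3922) (.leaf 16650)) (.node (.leaf 9944) (.leaf 0))) (.node (.node (.leaf 20230) (.leaf 0)) (.node (.leaf 3457) (.leaf 0)))) (.node (.node (.node (.leaf 14059) (.leaf 16799)) (.node (.leaf 12495) (.leaf 0))) (.node (.node (.leaf 6752) (.leaf 0)) (.node (.leaf 5218) (.leaf 0)))))))))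

/-- part of a table -/
def ordK94 : Trie := (.node (.node (.node (.node (.node (.node (.node (.node (.leaf 18491) (.leaf 15475)) (.node (.leaf 16704) (.leaf 0))) (.node (.node (.leaf 13401) (.leaf 11886)) (.node (.leaf 14959) (.leaf 0)))) (.node (.node (.node (.leaf 8138) (.leaf 17681)) (.node (.leaf 6182) (.leaf 0))) (.node (.node (.leaf 8872) (.leaf 0)) (.node (.leaf 16747) (.leaf 0))))) (.node (.node (.node (.node (.leaf 19167) (.leaf 15662)) (.node (.leaf 6408) (.leaf 0))) (.node (.node (.leaf 15868) (.leaf 0)) (.node (.leaf 19812) (.leaf 0)))) (.node (.node (.node (.leaf 20773) (.leaf 9764)) (.node (.leaf 17351) (.leaf 0))) (.node (.node (.leaf 6065) (.leaf 0)) (.node (.leaf 19267) (.leaf 0)))))) (.node (.node (.node (.node (.node (.leaf 15829) (.leaf 4498)) (.node (.leaf 13503) (.leaf 0))) (.node (.node (.leaf 4243) (.leaf 15892)) (.node (.leaf 17163) (.leaf 0)))) (.node (.node (.node (.leaf 1466) (.leaf 11349)) (.node (.leaf 15913) (.leaf 0))) (.node (.node (.leaf 20509) (.leaf 0)) (.node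 (.leaf 3720) (.leaf 0))))) (.node (.node (.node (.node (.leaf 4365) (.leaf 12436)) (.node (.leaf 19464) (.leaf 0))) (.node (.node (.leaf 5550) (.leaf 0)) (.node (.leaf 7021) (.leaf 0)))) (.node (.node (.node (.leaf 10222) (.leaf 15826)) (.node (.leaf 14215) (.leaf 0))) (.node (.node (.leaf 6416) (.leaf 0)) (.node (.leaf 20514) (.leaf 0))))))) (.node (.node (.node (.node (.node (.node (.leaf 15128) (.leaf 12577)) (.node (.leaf 3301) (.leaf 0))) (.node (.node (.leaf 2918) (.leaf 20967)) (.node (.leaf 20655) (.leaf 0)))) (.node (.node (.node (.leaf 5498) (.leaf 11447)) (.node (.leaf 7701) (.leaf 0))) (.node (.node (.leaf 3957) (.leaf 0)) (.node (.leaf 1641) (.leaf 0))))) (.node (.node (.node (.node (.leaf 10249) (.leaf 8602)) (.node (.leaf 5496) (.leaf 0))) (.node (.node (.leaf 15433) (.leaf 0)) (.node (.leaf 13887) (.leaf 0)))) (.node (.node (.node (.leaf 4283) (.leaf 18429)) (.node (.leaf 14530) (.leaf 0))) (.node (.node (.leaf 2288) (.leaf 0)) (.node (.leaf 1300) (.leaf 0)))))) (.node (.node (.node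 (.node (.node (.leaf 19747) (.leaf 6078)) (.node (.leaf 10613) (.leaf 0))) (.node (.node (.leaf 13394) (.leaf 4399)) (.node (.leaf 20317) (.leaf 0)))) (.node (.node (.node (.leaf 14802) (.leaf 11219)) (.node (.leaf 17213) (.leaf 0))) (.node (.node (.leaf 11389) (.leaf 0)) (.node (.leaf 493) (.leaf 0))))) (.node (.node (.node (.node (.leaf 18485) (.leaf 3680)) (.node (.leaf 16273) (.leaf 0))) (.node (.node (.leaf 21241) (.leaf 0)) (.node (.leaf 10928) (.leaf 0)))) (.node (.node (.node (.leaf 15986) (.leaf 15875)) (.node (.leaf 17768) (.leaf 0))) (.node (.node (.leaf 11474) (.leaf 0)) (.node (.leaf 9262) (.leaf 0)))))))) (.node (.node (.node (.node (.node (.node (.node (.leaf 4694) (.leaf 14180)) (.node (.leaf 6462) (.leaf 0))) (.node (.node (.leaf 14375) (.leaf 1099)) (.node (.leaf 1337) (.leaf 0)))) (.node (.node (.node (.leaf 5083) (.leaf 16540)) (.node (.leaf 3871) (.leaf 0))) (.node (.node (.leaf 15936) (.leaf 0)) (.node (.leaf 3102) (.leaf 0))))) (.node (.node (.node (.node (.leaf 6944) (.leaf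 13333)) (.node (.leaf 20525) (.leaf 0))) (.node (.node (.leaf 5420) (.leaf 0)) (.node (.leaf 12913) (.leaf 0)))) (.node (.node (.node (.leaf 16512) (.leaf 10755)) (.node (.leaf 6335) (.leaf 0))) (.node (.node (.leaf 14772) (.leaf 0)) (.node (.leaf 20608) (.leaf 0)))))) (.node (.node (.node (.node (.node (.leaf 18789) (.leaf 15621)) (.node (.leaf 12362) (.leaf 0))) (.node (.node (.leaf 802) (.leaf 266)) (.node (.leaf 3222) (.leaf 0)))) (.node (.node (.node (.leaf 16679) (.leaf 18213)) (.node (.leaf 272) (.leaf 0))) (.node (.node (.leaf 17541) (.leaf 0)) (.node (.leaf 20733) (.leaf 0))))) (.node (.node (.node (.node (.leaf 7043) (.leaf 5150)) (.node (.leaf 12874) (.leaf 0))) (.node (.node (.leaf 18307) (.leaf 0)) (.node (.leaf 1285) (.leaf 0)))) (.node (.node (.node (.leaf 15088) (.leaf 1549)) (.node (.leaf 21272) (.leaf 0))) (.node (.node (.leaf 20397) (.leaf 0)) (.node (.leaf 16936) (.leaf 0))))))) (.node (.node (.node (.node (.node (.node (.leaf 20577) (.leaf 3107)) (.node (.leaf 1406) (.leaf 0)))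 (.node (.node (.leaf 18731) (.leaf 11854)) (.node (.leaf 6720) (.leaf 0)))) (.node (.node (.node (.leaf 169) (.leaf 10089)) (.node (.leaf 13942) (.leaf 0))) (.node (.node (.leaf 14792) (.leaf 0)) (.node (.leaf 1579) (.leaf 0))))) (.node (.node (.node (.node (.leaf 17207) (.leaf 7465)) (.node (.leaf 8969) (.leaf 0))) (.node (.node (.leaf 11046) (.leaf 0)) (.node (.leaf 4564) (.leaf 0)))) (.node (.node (.node (.leaf 11803) (.leaf 16423)) (.node (.leaf 7711) (.leaf 0))) (.node (.node (.leaf 5228) (.leaf 0)) (.node (.leaf 68) (.leaf 0)))))) (.node (.node (.node (.node (.node (.leaf 5453) (.leaf 18095)) (.node (.leaf 9719) (.leaf 0))) (.node (.node (.leaf 17407) (.leaf 11941)) (.node (.leaf 17651) (.leaf 0)))) (.node (.node (.node (.leaf 21215) (.leaf 3609)) (.node (.leaf 17647) (.leaf 0))) (.node (.node (.leaf 4329) (.leaf 0)) (.node (.leaf 16655) (.leaf 0))))) (.node (.node (.node (.node (.leaf 15657) (.leaf 6195)) (.node (.leaf 9169) (.leaf 0))) (.node (.node (.leaf 4941) (.leaf 0)) (.node (.leaf 6497)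 (.leaf 0)))) (.node (.node (.node (.leaf 17249) (.leaf 834)) (.node (.leaf 7368) (.leaf 0))) (.node (.node (.leaf 13736) (.leaf 0)) (.node (.leaf 994) (.leaf 0)))))))))

/-- part of a table -/
def ordK95 : Trie := (.node (.node (.node (.node (.node (.node (.node (.node (.leaf 19786) (.leaf 19897)) (.node (.leaf 21341) (.leaf 0))) (.node (.node (.leaf 20099) (.leaf 9534)) (.node (.leaf 8122) (.leaf 0)))) (.node (.node (.node (.leaf 130) (.leaf 11999)) (.node (.leaf 14673) (.leaf 0))) (.node (.node (.leaf 11245) (.leaf 0)) (.node (.leaf 7031) (.leaf 0))))) (.node (.node (.node (.node (.leaf 4209) (.leaf 10070)) (.node (.leaf 2341) (.leaf 0))) (.node (.node (.leaf 9205) (.leaf 0)) (.node (.leaf 4469) (.leaf 0)))) (.node (.node (.node (.leaf 16182) (.leaf 496)) (.node (.leaf 3812) (.leaf 0))) (.node (.node (.leaf 13596) (.leaf 0)) (.node (.leaf 9490) (.leaf 0)))))) (.node (.node (.node (.node (.node (.leaf 11020) (.leaf 16684)) (.node (.leaf 1989) (.leaf 0))) (.node (.node (.leaf 10941) (.leaf 4000))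 (.node (.leaf 4948) (.leaf 0)))) (.node (.node (.node (.leaf 10327) (.leaf 742)) (.node (.leaf 16854) (.leaf 0))) (.node (.node (.leaf 21415) (.leaf 0)) (.node (.leaf 14485) (.leaf 0))))) (.node (.node (.node (.node (.leaf 829) (.leaf 1521)) (.node (.leaf 9683) (.leaf 0))) (.node (.node (.leaf 4646) (.leaf 0)) (.node (.leaf 14680) (.leaf 0)))) (.node (.node (.node (.leaf 9171) (.leaf 19330)) (.node (.leaf 882) (.leaf 0))) (.node (.node (.leaf 11586) (.leaf 0)) (.node (.leaf 368) (.leaf 0))))))) (.node (.node (.node (.node (.node (.node (.leaf 17757) (.leaf 9772)) (.node (.leaf 4788) (.leaf 0))) (.node (.node (.leaf 19388) (.leaf 20752)) (.node (.leaf 7303) (.leaf 0)))) (.node (.node (.node (.leaf 20944) (.leaf 14634)) (.node (.leaf 10606) (.leaf 0))) (.node (.node (.leaf 18399) (.leaf 0)) (.node (.leaf 8137) (.leaf 0))))) (.node (.node (.node (.node (.leaf 10315) (.leaf 11742)) (.node (.leaf 15104) (.leaf 0))) (.node (.node (.leaf 3006) (.leaf 0)) (.node (.leaf 4050) (.leaf 0)))) (.node (.node (.node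 (.leaf 13690) (.leaf 10705)) (.node (.leaf 13380) (.leaf 0))) (.node (.node (.leaf 5633) (.leaf 0)) (.node (.leaf 21156) (.leaf 0)))))) (.node (.node (.node (.node (.node (.leaf 3272) (.leaf 8802)) (.node (.leaf 4838) (.leaf 0))) (.node (.node (.leaf 10050) (.leaf 15700)) (.node (.leaf 17465) (.leaf 0)))) (.node (.node (.node (.leaf 1072) (.leaf 18180)) (.node (.leaf 7508) (.leaf 0))) (.node (.node (.leaf 10505) (.leaf 0)) (.node (.leaf 3562) (.leaf 0))))) (.node (.node (.node (.node (.leaf 21323) (.leaf 8315)) (.node (.leaf 19590) (.leaf 0))) (.node (.node (.leaf 13283) (.leaf 0)) (.node (.leaf 14921) (.leaf 0)))) (.node (.node (.node (.leaf 17336) (.leaf 16149)) (.node (.leaf 14948) (.leaf 0))) (.node (.node (.leaf 19357) (.leaf 0)) (.node (.leaf 12173) (.leaf 0)))))))) (.node (.node (.node (.node (.node (.node (.node (.leaf 2147) (.leaf 14092)) (.node (.leaf 12900) (.leaf 0))) (.node (.node (.leaf 14836) (.leaf 16616)) (.node (.leaf 3851) (.leaf 0)))) (.node (.node (.node (.leaf 10753) (.leaf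 21236)) (.node (.leaf 8650) (.leaf 0))) (.node (.node (.leaf 9584) (.leaf 0)) (.node (.leaf 16277) (.leaf 0))))) (.node (.node (.node (.node (.leaf 6604) (.leaf 11599)) (.node (.leaf 10245) (.leaf 0))) (.node (.node (.leaf 14814) (.leaf 0)) (.node (.leaf 13355) (.leaf 0)))) (.node (.node (.node (.leaf 10990) (.leaf 19963)) (.node (.leaf 7010) (.leaf 0))) (.node (.node (.leaf 17384) (.leaf 0)) (.node (.leaf 18807) (.leaf 0)))))) (.node (.node (.node (.node (.node (.leaf 19977) (.leaf 1726)) (.node (.leaf 4408) (.leaf 0))) (.node (.node (.leaf 6719) (.leaf 4011)) (.node (.leaf 16440) (.leaf 0)))) (.node (.node (.node (.leaf 2348) (.leaf 5483)) (.node (.leaf 9513) (.leaf 0))) (.node (.node (.leaf 18825) (.leaf 0)) (.node (.leaf 10188) (.leaf 0))))) (.node (.node (.node (.node (.leaf 3516) (.leaf 11661)) (.node (.leaf 9102) (.leaf 0))) (.node (.node (.leaf 9268) (.leaf 0)) (.node (.leaf 20029) (.leaf 0)))) (.node (.node (.node (.leaf 8575) (.leaf 13278)) (.node (.leaf 5774) (.leaf 0))) (.node (.node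 (.leaf 18259) (.leaf 0)) (.node (.leaf 2772) (.leaf 0))))))) (.node (.node (.node (.node (.node (.node (.leaf 11332) (.leaf 4196)) (.node (.leaf 20828) (.leaf 0))) (.node (.node (.leaf 5458) (.leaf 7115)) (.node (.leaf 16251) (.leaf 0)))) (.node (.node (.node (.leaf 18929) (.leaf 14123)) (.node (.leaf 10698) (.leaf 0))) (.node (.node (.leaf 14561) (.leaf 0)) (.node (.leaf 16815) (.leaf 0))))) (.node (.node (.node (.node (.leaf 19624) (.leaf 8062)) (.node (.leaf 3856) (.leaf 0))) (.node (.node (.leaf 6695) (.leaf 0)) (.node (.leaf 7034) (.leaf 0)))) (.node (.node (.node (.leaf 14083) (.leaf 9041)) (.node (.leaf 1665) (.leaf 0))) (.node (.node (.leaf 18671) (.leaf 0)) (.node (.leaf 421) (.leaf 0)))))) (.node (.node (.node (.node (.node (.leaf 20570) (.leaf 2014)) (.node (.leaf 5107) (.leaf 0))) (.node (.node (.leaf 12639) (.leaf 21186)) (.node (.leaf 20238) (.leaf 0)))) (.node (.node (.node (.leaf 15318) (.leaf 722)) (.node (.leaf 11490) (.leaf 0))) (.node (.node (.leaf 1054) (.leaf 0)) (.node (.leaf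 2596) (.leaf 0))))) (.node (.node (.node (.node (.leaf 19179) (.leaf 14569)) (.node (.leaf 12612) (.leaf 0))) (.node (.node (.leaf 6674) (.leaf 0)) (.node (.leaf 11286) (.leaf 0)))) (.node (.node (.node (.leaf 13289) (.leaf 11170)) (.node (.leaf 4429) (.leaf 0))) (.node (.node (.leaf 5512) (.leaf 0)) (.node (.leaf 11174) (.leaf 0)))))))))

/-- part of a table -/
def ordK96 : Trie := (.node (.node (.node (.node (.node (.node (.node (.node (.leaf 17595) (.leaf 7976)) (.node (.leaf 7738) (.leaf 0))) (.node (.node (.leaf 6535) (.leaf 5476)) (.node (.leaf 21190) (.leaf 0)))) (.node (.node (.node (.leaf 13469) (.leaf 5280)) (.node (.leaf 16262) (.leaf 0))) (.node (.node (.leaf 9930) (.leaf 0)) (.node (.leaf 12356) (.leaf 0))))) (.node (.node (.node (.node (.leaf 11410) (.leaf 1052)) (.node (.leaf 8117) (.leaf 0))) (.node (.node (.leaf 13192) (.leaf 0)) (.node (.leaf 5584) (.leaf 0)))) (.node (.node (.node (.leaf 3165) (.leaf 20116)) (.node (.leaf 677) (.leaf 0))) (.node (.node (.leaf 16031) (.leaf 0))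 (.node (.leaf 5579) (.leaf 0)))))) (.node (.node (.node (.node (.node (.leaf 11683) (.leaf 7223)) (.node (.leaf 4129) (.leaf 0))) (.node (.node (.leaf 20444) (.leaf 21291)) (.node (.leaf 12055) (.leaf 0)))) (.node (.node (.node (.leaf 13042) (.leaf 19142)) (.node (.leaf 1566) (.leaf 0))) (.node (.node (.leaf 11799) (.leaf 0)) (.node (.leaf 1501) (.leaf 0))))) (.node (.node (.node (.node (.leaf 2504) (.leaf 11099)) (.node (.leaf 20956) (.leaf 0))) (.node (.node (.leaf 7548) (.leaf 0)) (.node (.leaf 497) (.leaf 0)))) (.node (.node (.node (.leaf 4323) (.leaf 3572)) (.node (.leaf 19305) (.leaf 0))) (.node (.node (.leaf 18099) (.leaf 0)) (.node (.leaf 4627) (.leaf 0))))))) (.node (.node (.node (.node (.node (.node (.leaf 11519) (.leaf 13432)) (.node (.leaf 10731) (.leaf 0))) (.node (.node (.leaf 5674) (.leaf 12887)) (.node (.leaf 15332) (.leaf 0)))) (.node (.node (.node (.leaf 19002) (.leaf 20558)) (.node (.leaf 13315) (.leaf 0))) (.node (.node (.leaf 15509) (.leaf 0)) (.node (.leaf 10094) (.leaf 0)))))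 (.node (.node (.node (.node (.leaf 14898) (.leaf 3689)) (.node (.leaf 16305) (.leaf 0))) (.node (.node (.leaf 3212) (.leaf 0)) (.node (.leaf 1958) (.leaf 0)))) (.node (.node (.node (.leaf 19589) (.leaf 6366)) (.node (.leaf 20059) (.leaf 0))) (.node (.node (.leaf 13002) (.leaf 0)) (.node (.leaf 6304) (.leaf 0)))))) (.node (.node (.node (.node (.node (.leaf 618) (.leaf 16945)) (.node (.leaf 17100) (.leaf 0))) (.node (.node (.leaf 10726) (.leaf 198)) (.node (.leaf 10840) (.leaf 0)))) (.node (.node (.node (.leaf 9770) (.leaf 21096)) (.node (.leaf 15996) (.leaf 0))) (.node (.node (.leaf 16205) (.leaf 0)) (.node (.leaf 7531) (.leaf 0))))) (.node (.node (.node (.node (.leaf 15595) (.leaf 19875)) (.node (.leaf 11940) (.leaf 0))) (.node (.node (.leaf 447) (.leaf 0)) (.node (.leaf 11733) (.leaf 0)))) (.node (.node (.node (.leaf 7182) (.leaf 4665)) (.node (.leaf 7870) (.leaf 0))) (.node (.node (.leaf 6644) (.leaf 0)) (.node (.leaf 4687) (.leaf 0)))))))) (.node (.node (.node (.node (.node (.node (.node (.leaf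 20651) (.leaf 10571)) (.node (.leaf 13546) (.leaf 0))) (.node (.node (.leaf 19112) (.leaf 13961)) (.node (.leaf 19332) (.leaf 0)))) (.node (.node (.node (.leaf 2967) (.leaf 2734)) (.node (.leaf 20080) (.leaf 0))) (.node (.node (.leaf 6512) (.leaf 0)) (.node (.leaf 4902) (.leaf 0))))) (.node (.node (.node (.node (.leaf 16422) (.leaf 15403)) (.node (.leaf 1734) (.leaf 0))) (.node (.node (.leaf 21446) (.leaf 0)) (.node (.leaf 10248) (.leaf 0)))) (.node (.node (.node (.leaf 17337) (.leaf 6579)) (.node (.leaf 2495) (.leaf 0))) (.node (.node (.leaf 18300) (.leaf 0)) (.node (.leaf 1728) (.leaf 0)))))) (.node (.node (.node (.node (.node (.leaf 20744) (.leaf 21029)) (.node (.leaf 19309) (.leaf 0))) (.node (.node (.leaf 10399) (.leaf 17044)) (.node (.leaf 14015) (.leaf 0)))) (.node (.node (.node (.leaf 9297) (.leaf 20973)) (.node (.leaf 4328) (.leaf 0))) (.node (.node (.leaf 6172) (.leaf 0)) (.node (.leaf 7537) (.leaf 0))))) (.node (.node (.node (.node (.leaf 5547) (.leaf 3713)) (.node (.leaf 6364) (.leaf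 0))) (.node (.node (.leaf 2966) (.leaf 0)) (.node (.leaf 18901) (.leaf 0)))) (.node (.node (.node (.leaf 15029) (.leaf 2867)) (.node (.leaf 3965) (.leaf 0))) (.node (.node (.leaf 18309) (.leaf 0)) (.node (.leaf 601) (.leaf 0))))))) (.node (.node (.node (.node (.node (.node (.leaf 20148) (.leaf 8993)) (.node (.leaf 8420) (.leaf 0))) (.node (.node (.leaf 19870) (.leaf 15931)) (.node (.leaf 9688) (.leaf 0)))) (.node (.node (.node (.leaf 16543) (.leaf 329)) (.node (.leaf 6213) (.leaf 0))) (.node (.node (.leaf 8585) (.leaf 0)) (.node (.leaf 20694) (.leaf 0))))) (.node (.node (.node (.node (.leaf 2612) (.leaf 5032)) (.node (.leaf 310) (.leaf 0))) (.node (.node (.leaf 5319) (.leaf 0)) (.node (.leaf 2802) (.leaf 0)))) (.node (.node (.node (.leaf 8560) (.leaf 11288)) (.node (.leaf 21392) (.leaf 0))) (.node (.node (.leaf 20745) (.leaf 0)) (.node (.leaf 17184) (.leaf 0)))))) (.node (.node (.node (.node (.node (.leaf 11801) (.leaf 5696)) (.node (.leaf 17729) (.leaf 0))) (.node (.node (.leaf 11865) (.leaf 4461))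 (.node (.leaf 7411) (.leaf 0)))) (.node (.node (.node (.leaf 17285) (.leaf 8910)) (.node (.leaf 19615) (.leaf 0))) (.node (.node (.leaf 4953) (.leaf 0)) (.node (.leaf 10899) (.leaf 0))))) (.node (.node (.node (.node (.leaf 12877) (.leaf 15562)) (.node (.leaf 14754) (.leaf 0))) (.node (.node (.leaf 14352) (.leaf 0)) (.node (.leaf 5510) (.leaf 0)))) (.node (.node (.node (.leaf 15424) (.leaf 18328)) (.node (.leaf 6686) (.leaf 0))) (.node (.node (.leaf 15989) (.leaf 0)) (.node (.leaf 9591) (.leaf 0)))))))))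

/-- part of a table -/
def ordK97 : Trie := (.node (.node (.node (.node (.node (.node (.node (.node (.leaf 6656) (.leaf 5328)) (.node (.leaf 13764) (.leaf 0))) (.node (.node (.leaf 7600) (.leaf 13400)) (.node (.leaf 12616) (.leaf 0)))) (.node (.node (.node (.leaf 4644) (.leaf 3269)) (.node (.leaf 3845) (.leaf 0))) (.node (.node (.leaf 13101) (.leaf 0)) (.node (.leaf 2454) (.leaf 0))))) (.node (.node (.node (.node (.leaf 5810) (.leaf 10499)) (.node (.leaf 21454) (.leaf 0))) (.node (.node (.leaf 19133) (.leaf 0)) (.node (.leaf 18542) (.leaf 0)))) (.node (.node (.node (.leaf 9238) (.leaf 12749)) (.node (.leaf 20975) (.leaf 0))) (.node (.node (.leaf 13279) (.leaf 0)) (.node (.leaf 13941) (.leaf 0)))))) (.node (.node (.node (.node (.node (.leaf 225) (.leaf 14899)) (.node (.leaf 2173) (.leaf 0))) (.node (.node (.leaf 18753) (.leaf 12665)) (.node (.leaf 18304) (.leaf 0)))) (.node (.node (.node (.leaf 9463) (.leaf 10490)) (.node (.leaf 20664) (.leaf 0))) (.node (.node (.leaf 12267) (.leaf 0)) (.node (.leaf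 3231) (.leaf 0))))) (.node (.node (.node (.node (.leaf 17344) (.leaf 5824)) (.node (.leaf 16409) (.leaf 0))) (.node (.node (.leaf 18511) (.leaf 0)) (.node (.leaf 12807) (.leaf 0)))) (.node (.node (.node (.leaf 2712) (.leaf 14767)) (.node (.leaf 13485) (.leaf 0))) (.node (.node (.leaf 13007) (.leaf 0)) (.node (.leaf 2980) (.leaf 0))))))) (.node (.node (.node (.node (.node (.node (.leaf 8106) (.leaf 8397)) (.node (.leaf 1156) (.leaf 0))) (.node (.node (.leaf 15465) (.leaf 4773)) (.node (.leaf 12392) (.leaf 0)))) (.node (.node (.node (.leaf 8737) (.leaf 11185)) (.node (.leaf 20098) (.leaf 0))) (.node (.node (.leaf 15798) (.leaf 0)) (.node (.leaf 2342) (.leaf 0))))) (.node (.node (.node (.node (.leaf 18836) (.leaf 12643)) (.node (.leaf 10460) (.leaf 0))) (.node (.node (.leaf 11423) (.leaf 0)) (.node (.leaf 5780) (.leaf 0)))) (.node (.node (.node (.leaf 12826) (.leaf 16593)) (.node (.leaf 14747) (.leaf 0))) (.node (.node (.leaf 17896) (.leaf 0)) (.node (.leaf 1602) (.leaf 0)))))) (.node (.node (.node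 (.node (.node (.leaf 2645) (.leaf 12333)) (.node (.leaf 18366) (.leaf 0))) (.node (.node (.leaf 1479) (.leaf 11125)) (.node (.leaf 982) (.leaf 0)))) (.node (.node (.node (.leaf 767) (.leaf 14510)) (.node (.leaf 8797) (.leaf 0))) (.node (.node (.leaf 9836) (.leaf 0)) (.node (.leaf 14889) (.leaf 0))))) (.node (.node (.node (.node (.leaf 485) (.leaf 12404)) (.node (.leaf 15607) (.leaf 0))) (.node (.node (.leaf 4996) (.leaf 0)) (.node (.leaf 18978) (.leaf 0)))) (.node (.node (.node (.leaf 17843) (.leaf 13821)) (.node (.leaf 2153) (.leaf 0))) (.node (.node (.leaf 21496) (.leaf 0)) (.node (.leaf 3340) (.leaf 0)))))))) (.node (.node (.node (.node (.node (.node (.node (.leaf 14330) (.leaf 938)) (.node (.leaf 10395) (.leaf 0))) (.node (.node (.leaf 19011) (.leaf 4426)) (.node (.leaf 7760) (.leaf 0)))) (.node (.node (.node (.leaf 1988) (.leaf 9659)) (.node (.leaf 5461) (.leaf 0))) (.node (.node (.leaf 7859) (.leaf 0)) (.node (.leaf 1084) (.leaf 0))))) (.node (.node (.node (.node (.leaf 4740) (.leaf 906)) (.node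 (.leaf 11674) (.leaf 0))) (.node (.node (.leaf 10801) (.leaf 0)) (.node (.leaf 14769) (.leaf 0)))) (.node (.node (.node (.leaf 15649) (.leaf 4438)) (.node (.leaf 16200) (.leaf 0))) (.node (.node (.leaf 10727) (.leaf 0)) (.node (.leaf 5013) (.leaf 0)))))) (.node (.node (.node (.node (.node (.leaf 6199) (.leaf 8207)) (.node (.leaf 1493) (.leaf 0))) (.node (.node (.leaf 2523) (.leaf 8607)) (.node (.leaf 8402) (.leaf 0)))) (.node (.node (.node (.leaf 8013) (.leaf 1063)) (.node (.leaf 11260) (.leaf 0))) (.node (.node (.leaf 21293) (.leaf 0)) (.node (.leaf 10125) (.leaf 0))))) (.node (.node (.node (.node (.leaf 11575) (.leaf 212)) (.node (.leaf 10081) (.leaf 0))) (.node (.node (.leaf 7687) (.leaf 0)) (.node (.leaf 2894) (.leaf 0)))) (.node (.node (.node (.leaf 10337) (.leaf 17778)) (.node (.leaf 18456) (.leaf 0))) (.node (.node (.leaf 20533) (.leaf 0)) (.node (.leaf 9241) (.leaf 0))))))) (.node (.node (.node (.node (.node (.node (.leaf 7425) (.leaf 20178)) (.node (.leaf 14305) (.leaf 0))) (.node (.node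 (.leaf 2685) (.leaf 7717)) (.node (.leaf 11714) (.leaf 0)))) (.node (.node (.node (.leaf 6879) (.leaf 18809)) (.node (.leaf 11066) (.leaf 0))) (.node (.node (.leaf 11129) (.leaf 0)) (.node (.leaf 5935) (.leaf 0))))) (.node (.node (.node (.node (.leaf 12175) (.leaf 21097)) (.node (.leaf 4369) (.leaf 0))) (.node (.node (.leaf 7278) (.leaf 0)) (.node (.leaf 5931) (.leaf 0)))) (.node (.node (.node (.leaf 19877) (.leaf 5337)) (.node (.leaf 5522) (.leaf 0))) (.node (.node (.leaf 16401) (.leaf 0)) (.node (.leaf 4713) (.leaf 0)))))) (.node (.node (.node (.node (.node (.leaf 1673) (.leaf 19809)) (.node (.leaf 19834) (.leaf 0))) (.node (.node (.leaf 11303) (.leaf 18885)) (.node (.leaf 11813) (.leaf 0)))) (.node (.node (.node (.leaf 11821) (.leaf 3284)) (.node (.leaf 13836) (.leaf 0))) (.node (.node (.leaf 16817) (.leaf 0)) (.node (.leaf 4334) (.leaf 0))))) (.node (.node (.node (.node (.leaf 12770) (.leaf 5279)) (.node (.leaf 13339) (.leaf 0))) (.node (.node (.leaf 10132) (.leaf 0)) (.node (.leaf 12330) (.leaf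 0)))) (.node (.node (.node (.leaf 7775) (.leaf 19370)) (.node (.leaf 20203) (.leaf 0))) (.node (.node (.leaf 20874) (.leaf 0)) (.node (.leaf 19513) (.leaf 0)))))))))

/-- part of a table -/
def ordK98 : Trie := (.node (.node (.node (.node (.node (.node (.node (.node (.leaf 10494) (.leaf 13540)) (.node (.leaf 19474) (.leaf 0))) (.node (.node (.leaf 8227) (.leaf 73)) (.node (.leaf 8434) (.leaf 0)))) (.node (.node (.node (.leaf 20341) (.leaf 13818)) (.node (.leaf 8410) (.leaf 0))) (.node (.node (.leaf 6232) (.leaf 0)) (.node (.leaf 5255) (.leaf 0))))) (.node (.node (.node (.node (.leaf 19433) (.leaf 10861)) (.node (.leaf 17585) (.leaf 0))) (.node (.node (.leaf 21491) (.leaf 0)) (.node (.leaf 5532) (.leaf 0)))) (.node (.node (.node (.leaf 9330) (.leaf 20134)) (.node (.leaf 1359) (.leaf 0))) (.node (.node (.leaf 16499) (.leaf 0)) (.node (.leaf 4211) (.leaf 0)))))) (.node (.node (.node (.node (.node (.leaf 2911) (.leaf 18134)) (.node (.leaf 21230) (.leaf 0))) (.node (.node (.leaf 8108) (.leaf 13318)) (.node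 (.leaf 12960) (.leaf 0)))) (.node (.node (.node (.leaf 3527) (.leaf 20925)) (.node (.leaf 2851) (.leaf 0))) (.node (.node (.leaf 20117) (.leaf 0)) (.node (.leaf 7369) (.leaf 0))))) (.node (.node (.node (.node (.leaf 12696) (.leaf 18460)) (.node (.leaf 6857) (.leaf 0))) (.node (.node (.leaf 1693) (.leaf 0)) (.node (.leaf 1509) (.leaf 0)))) (.node (.node (.node (.leaf 925) (.leaf 15314)) (.node (.leaf 11675) (.leaf 0))) (.node (.node (.leaf 12510) (.leaf 0)) (.node (.leaf 18064) (.leaf 0))))))) (.node (.node (.node (.node (.node (.node (.leaf 6202) (.leaf 19685)) (.node (.leaf 8482) (.leaf 0))) (.node (.node (.leaf 593) (.leaf 10712)) (.node (.leaf 4994) (.leaf 0)))) (.node (.node (.node (.leaf 11150) (.leaf 2401)) (.node (.leaf 13686) (.leaf 0))) (.node (.node (.leaf 20447) (.leaf 0)) (.node (.leaf 13856) (.leaf 0))))) (.node (.node (.node (.node (.leaf 19374) (.leaf 9220)) (.node (.leaf 3586) (.leaf 0))) (.node (.node (.leaf 8405) (.leaf 0)) (.node (.leaf 11487) (.leaf 0)))) (.node (.node (.node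 (.leaf 20259) (.leaf 10908)) (.node (.leaf 8283) (.leaf 0))) (.node (.node (.leaf 12841) (.leaf 0)) (.node (.leaf 7613) (.leaf 0)))))) (.node (.node (.node (.node (.node (.leaf 6069) (.leaf 4297)) (.node (.leaf 10038) (.leaf 0))) (.node (.node (.leaf 11645) (.leaf 11471)) (.node (.leaf 17788) (.leaf 0)))) (.node (.node (.node (.leaf 3505) (.leaf 13000)) (.node (.leaf 7107) (.leaf 0))) (.node (.node (.leaf 9477) (.leaf 0)) (.node (.leaf 4992) (.leaf 0))))) (.node (.node (.node (.node (.leaf 1664) (.leaf 3663)) (.node (.leaf 7853) (.leaf 0))) (.node (.node (.leaf 7394) (.leaf 0)) (.node (.leaf 18185) (.leaf 0)))) (.node (.node (.node (.leaf 18036) (.leaf 21220)) (.node (.leaf 18567) (.leaf 0))) (.node (.node (.leaf 1897) (.leaf 0)) (.node (.leaf 7511) (.leaf 0)))))))) (.node (.node (.node (.node (.node (.node (.node (.leaf 9850) (.leaf 3644)) (.node (.leaf 9006) (.leaf 0))) (.node (.node (.leaf 10305) (.leaf 718)) (.node (.leaf 20371) (.leaf 0)))) (.node (.node (.node (.leaf 8538) (.leaf 13445)) (.node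 (.leaf 5232) (.leaf 0))) (.node (.node (.leaf 15560) (.leaf 0)) (.node (.leaf 12941) (.leaf 0))))) (.node (.node (.node (.node (.leaf 8904) (.leaf 2978)) (.node (.leaf 21123) (.leaf 0))) (.node (.node (.leaf 10174) (.leaf 0)) (.node (.leaf 8891) (.leaf 0)))) (.node (.node (.node (.leaf 4) (.leaf 2899)) (.node (.leaf 28) (.leaf 0))) (.node (.node (.leaf 6771) (.leaf 0)) (.node (.leaf 18116) (.leaf 0)))))) (.node (.node (.node (.node (.node (.leaf 2543) (.leaf 9321)) (.node (.leaf 14007) (.leaf 0))) (.node (.node (.leaf 6871) (.leaf 9216)) (.node (.leaf 14763) (.leaf 0)))) (.node (.node (.node (.leaf 15686) (.leaf 15265)) (.node (.leaf 15923) (.leaf 0))) (.node (.node (.leaf 11894) (.leaf 0)) (.node (.leaf 12426) (.leaf 0))))) (.node (.node (.node (.node (.leaf 9881) (.leaf 8413)) (.node (.leaf 4656) (.leaf 0))) (.node (.node (.leaf 7800) (.leaf 0)) (.node (.leaf 12975) (.leaf 0)))) (.node (.node (.node (.leaf 9242) (.leaf 21338)) (.node (.leaf 20816) (.leaf 0))) (.node (.node (.leaf 3206) (.leaf 0))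 (.node (.leaf 18782) (.leaf 0))))))) (.node (.node (.node (.node (.node (.node (.leaf 8092) (.leaf 10095)) (.node (.leaf 10013) (.leaf 0))) (.node (.node (.leaf 5754) (.leaf 13198)) (.node (.leaf 13612) (.leaf 0)))) (.node (.node (.node (.leaf 158) (.leaf 5093)) (.node (.leaf 13984) (.leaf 0))) (.node (.node (.leaf 1302) (.leaf 0)) (.node (.leaf 13038) (.leaf 0))))) (.node (.node (.node (.node (.leaf 5289) (.leaf 14745)) (.node (.leaf 951) (.leaf 0))) (.node (.node (.leaf 15928) (.leaf 0)) (.node (.leaf 11810) (.leaf 0)))) (.node (.node (.node (.leaf 4555) (.leaf 15309)) (.node (.leaf 5883) (.leaf 0))) (.node (.node (.leaf 6058) (.leaf 0)) (.node (.leaf 12003) (.leaf 0)))))) (.node (.node (.node (.node (.node (.leaf 181) (.leaf 876)) (.node (.leaf 14243) (.leaf 0))) (.node (.node (.leaf 12950) (.leaf 5460)) (.node (.leaf 10149) (.leaf 0)))) (.node (.node (.node (.leaf 13951) (.leaf 5026)) (.node (.leaf 12962) (.leaf 0))) (.node (.node (.leaf 11662) (.leaf 0)) (.node (.leaf 4579) (.leaf 0))))) (.node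 (.node (.node (.node (.leaf 16852) (.leaf 10882)) (.node (.leaf 7592) (.leaf 0))) (.node (.node (.leaf 9159) (.leaf 0)) (.node (.leaf 3897) (.leaf 0)))) (.node (.node (.node (.leaf 2875) (.leaf 20045)) (.node (.leaf 20675) (.leaf 0))) (.node (.node (.leaf 9401) (.leaf 0)) (.node (.leaf 19353) (.leaf 0)))))))))

/-- part of a table -/
def ordK99 : Trie := (.node (.node (.node (.node (.node (.node (.node (.node (.leaf 20477) (.leaf 12766)) (.node (.leaf 10685) (.leaf 0))) (.node (.node (.leaf 7973) (.leaf 16323)) (.node (.leaf 14774) (.leaf 0)))) (.node (.node (.node (.leaf 17644) (.leaf 5016)) (.node (.leaf 11431) (.leaf 0))) (.node (.node (.leaf 7677) (.leaf 0)) (.node (.leaf 11270) (.leaf 0))))) (.node (.node (.node (.node (.leaf 3164) (.leaf 2420)) (.node (.leaf 19520) (.leaf 0))) (.node (.node (.leaf 11755) (.leaf 0)) (.node (.leaf 7806) (.leaf 0)))) (.node (.node (.node (.leaf 20088) (.leaf 20358)) (.node (.leaf 11739) (.leaf 0))) (.node (.node (.leaf 10501) (.leaf 0)) (.node (.leaf 7042) (.leaf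 0)))))) (.node (.node (.node (.node (.node (.leaf 7340) (.leaf 19892)) (.node (.leaf 1299) (.leaf 0))) (.node (.node (.leaf 8180) (.leaf 13888)) (.node (.leaf 8619) (.leaf 0)))) (.node (.node (.node (.leaf 14091) (.leaf 16124)) (.node (.leaf 10646) (.leaf 0))) (.node (.node (.leaf 409) (.leaf 0)) (.node (.leaf 9724) (.leaf 0))))) (.node (.node (.node (.node (.leaf 18824) (.leaf 20567)) (.node (.leaf 19253) (.leaf 0))) (.node (.node (.leaf 18679) (.leaf 0)) (.node (.leaf 2466) (.leaf 0)))) (.node (.node (.node (.leaf 13165) (.leaf 9523)) (.node (.leaf 10375) (.leaf 0))) (.node (.node (.leaf 9023) (.leaf 0)) (.node (.leaf 13347) (.leaf 0))))))) (.node (.node (.node (.node (.node (.node (.leaf 12438) (.leaf 13330)) (.node (.leaf 17673) (.leaf 0))) (.node (.node (.leaf 18890) (.leaf 6057)) (.node (.leaf 16216) (.leaf 0)))) (.node (.node (.node (.leaf 16786) (.leaf 4502)) (.node (.leaf 22) (.leaf 0))) (.node (.node (.leaf 481) (.leaf 0)) (.node (.leaf 21331) (.leaf 0))))) (.node (.node (.node (.node (.leaf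 19891) (.leaf 4636)) (.node (.leaf 1896) (.leaf 0))) (.node (.node (.leaf 18692) (.leaf 0)) (.node (.leaf 14584) (.leaf 0)))) (.node (.node (.node (.leaf 9603) (.leaf 13074)) (.node (.leaf 14960) (.leaf 0))) (.node (.node (.leaf 10359) (.leaf 0)) (.node (.leaf 4602) (.leaf 0)))))) (.node (.node (.node (.node (.node (.leaf 5340) (.leaf 9001)) (.node (.leaf 886) (.leaf 0))) (.node (.node (.leaf 5097) (.leaf 17571)) (.node (.leaf 4058) (.leaf 0)))) (.node (.node (.node (.leaf 8473) (.leaf 4029)) (.node (.leaf 13168) (.leaf 0))) (.node (.node (.leaf 18359) (.leaf 0)) (.node (.leaf 2609) (.leaf 0))))) (.node (.node (.node (.node (.leaf 6284) (.leaf 4898)) (.node (.leaf 17396) (.leaf 0))) (.node (.node (.leaf 4769) (.leaf 0)) (.node (.leaf 5636) (.leaf 0)))) (.node (.node (.node (.leaf 16779) (.leaf 7125)) (.node (.leaf 362) (.leaf 0))) (.node (.node (.leaf 10461) (.leaf 0)) (.node (.leaf 11450) (.leaf 0)))))))) (.node (.node (.node (.node (.node (.node (.node (.leaf 9715) (.leaf 17265)) (.node (.leaf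 16806) (.leaf 0))) (.node (.node (.leaf 3587) (.leaf 2901)) (.node (.leaf 6179) (.leaf 0)))) (.node (.node (.node (.leaf 17900) (.leaf 10708)) (.node (.leaf 14051) (.leaf 0))) (.node (.node (.leaf 9307) (.leaf 0)) (.node (.leaf 12949) (.leaf 0))))) (.node (.node (.node (.node (.leaf 7160) (.leaf 9387)) (.node (.leaf 94) (.leaf 0))) (.node (.node (.leaf 9274) (.leaf 0)) (.node (.leaf 11559) (.leaf 0)))) (.node (.node (.node (.leaf 7746) (.leaf 6429)) (.node (.leaf 15586) (.leaf 0))) (.node (.node (.leaf 8270) (.leaf 0)) (.node (.leaf 6589) (.leaf 0)))))) (.node (.node (.node (.node (.node (.leaf 1184) (.leaf 10401)) (.node (.leaf 15973) (.leaf 0))) (.node (.node (.leaf 10744) (.leaf 13547)) (.node (.leaf 7611) (.leaf 0)))) (.node (.node (.node (.leaf 18333) (.leaf 17470)) (.node (.leaf 20947) (.leaf 0))) (.node (.node (.leaf 18666) (.leaf 0)) (.node (.leaf 5515) (.leaf 0))))) (.node (.node (.node (.node (.leaf 14992) (.leaf 7900)) (.node (.leaf 39) (.leaf 0))) (.node (.node (.leaf 19537) (.leaf 0))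 (.node (.leaf 13828) (.leaf 0)))) (.node (.node (.node (.leaf 15048) (.leaf 17425)) (.node (.leaf 7426) (.leaf 0))) (.node (.node (.leaf 16643) (.leaf 0)) (.node (.leaf 4856) (.leaf 0))))))) (.node (.node (.node (.node (.node (.node (.leaf 8591) (.leaf 4321)) (.node (.leaf 12786) (.leaf 0))) (.node (.node (.leaf 10632) (.leaf 11811)) (.node (.leaf 61) (.leaf 0)))) (.node (.node (.node (.leaf 10671) (.leaf 12583)) (.node (.leaf 3412) (.leaf 0))) (.node (.node (.leaf 3410) (.leaf 0)) (.node (.leaf 7095) (.leaf 0))))) (.node (.node (.node (.node (.leaf 21152) (.leaf 15758)) (.node (.leaf 3829) (.leaf 0))) (.node (.node (.leaf 16545) (.leaf 0)) (.node (.leaf 9382) (.leaf 0)))) (.node (.node (.node (.leaf 14369) (.leaf 5164)) (.node (.leaf 10323) (.leaf 0))) (.node (.node (.leaf 7521) (.leaf 0)) (.node (.leaf 1361) (.leaf 0)))))) (.node (.node (.node (.node (.node (.leaf 8371) (.leaf 3685)) (.node (.leaf 8750) (.leaf 0))) (.node (.node (.leaf 6133) (.leaf 18618)) (.node (.leaf 3172) (.leaf 0)))) (.node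 (.node (.node (.leaf 18246) (.leaf 1340)) (.node (.leaf 19434) (.leaf 0))) (.node (.node (.leaf 18476) (.leaf 0)) (.node (.leaf 14646) (.leaf 0))))) (.node (.node (.node (.node (.leaf 11508) (.leaf 41)) (.node (.leaf 10163) (.leaf 0))) (.node (.node (.leaf 17948) (.leaf 0)) (.node (.leaf 8774) (.leaf 0)))) (.node (.node (.node (.leaf 14688) (.leaf 9479)) (.node (.leaf 9947) (.leaf 0))) (.node (.node (.leaf 14333) (.leaf 0)) (.node (.leaf 585) (.leaf 0)))))))))

/-- part of a table -/
def ordK100 : Trie := (.node (.node (.node (.node (.node (.node (.node (.node (.leaf 19940) (.leaf 13354)) (.node (.leaf 17858) (.leaf 0))) (.node (.node (.leaf 626) (.leaf 10615)) (.node (.leaf 3912) (.leaf 0)))) (.node (.node (.node (.leaf 20730) (.leaf 15348)) (.node (.leaf 4550) (.leaf 0))) (.node (.node (.leaf 2351) (.leaf 0)) (.node (.leaf 7109) (.leaf 0))))) (.node (.node (.node (.node (.leaf 11465) (.leaf 19340)) (.node (.leaf 8559) (.leaf 0))) (.node (.node (.leaf 11100) (.leaf 0)) (.node (.leaf 16001) (.leaf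 0)))) (.node (.node (.node (.leaf 5530) (.leaf 12106)) (.node (.leaf 10179) (.leaf 0))) (.node (.node (.leaf 2843) (.leaf 0)) (.node (.leaf 14533) (.leaf 0)))))) (.node (.node (.node (.node (.node (.leaf 1286) (.leaf 15246)) (.node (.leaf 19605) (.leaf 0))) (.node (.node (.leaf 18843) (.leaf 14690)) (.node (.leaf 11606) (.leaf 0)))) (.node (.node (.node (.leaf 14982) (.leaf 312)) (.node (.leaf 11630) (.leaf 0))) (.node (.node (.leaf 10151) (.leaf 0)) (.node (.leaf 4857) (.leaf 0))))) (.node (.node (.node (.node (.leaf 17767) (.leaf 21255)) (.node (.leaf 21237) (.leaf 0))) (.node (.node (.leaf 10079) (.leaf 0)) (.node (.leaf 21213) (.leaf 0)))) (.node (.node (.node (.leaf 11484) (.leaf 4100)) (.node (.leaf 21443) (.leaf 0))) (.node (.node (.leaf 15819) (.leaf 0)) (.node (.leaf 15884) (.leaf 0))))))) (.node (.node (.node (.node (.node (.node (.leaf 14595) (.leaf 180)) (.node (.leaf 2719) (.leaf 0))) (.node (.node (.leaf 18984) (.leaf 9525)) (.node (.leaf 5178) (.leaf 0)))) (.node (.node (.node (.leaf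 17218) (.leaf 9987)) (.node (.leaf 12782) (.leaf 0))) (.node (.node (.leaf 5168) (.leaf 0)) (.node (.leaf 16947) (.leaf 0))))) (.node (.node (.node (.node (.leaf 7222) (.leaf 6980)) (.node (.leaf 7590) (.leaf 0))) (.node (.node (.leaf 9272) (.leaf 0)) (.node (.leaf 21072) (.leaf 0)))) (.node (.node (.node (.leaf 9753) (.leaf 16526)) (.node (.leaf 17645) (.leaf 0))) (.node (.node (.leaf 8389) (.leaf 0)) (.node (.leaf 8945) (.leaf 0)))))) (.node (.node (.node (.node (.node (.leaf 14756) (.leaf 20616)) (.node (.leaf 549) (.leaf 0))) (.node (.node (.leaf 20325) (.leaf 6728)) (.node (.leaf 21372) (.leaf 0)))) (.node (.node (.node (.leaf 18726) (.leaf 5978)) (.node (.leaf 7208) (.leaf 0))) (.node (.node (.leaf 5748) (.leaf 0)) (.node (.leaf 19782) (.leaf 0))))) (.node (.node (.node (.node (.leaf 6264) (.leaf 3413)) (.node (.leaf 3665) (.leaf 0))) (.node (.node (.leaf 14892) (.leaf 0)) (.node (.leaf 551) (.leaf 0)))) (.node (.node (.node (.leaf 16922) (.leaf 9864)) (.node (.leaf 13550) (.leaf 0))) (.node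 (.node (.leaf 15974) (.leaf 0)) (.node (.leaf 1011) (.leaf 0)))))))) (.node (.node (.node (.node (.node (.node (.node (.leaf 3844) (.leaf 19820)) (.node (.leaf 14641) (.leaf 0))) (.node (.node (.leaf 9912) (.leaf 5497)) (.node (.leaf 7405) (.leaf 0)))) (.node (.node (.node (.leaf 20100) (.leaf 9347)) (.node (.leaf 20155) (.leaf 0))) (.node (.node (.leaf 18714) (.leaf 0)) (.node (.leaf 21388) (.leaf 0))))) (.node (.node (.node (.node (.leaf 2945) (.leaf 15467)) (.node (.leaf 14509) (.leaf 0))) (.node (.node (.leaf 17012) (.leaf 0)) (.node (.leaf 13443) (.leaf 0)))) (.node (.node (.node (.leaf 12982) (.leaf 17898)) (.node (.leaf 13656) (.leaf 0))) (.node (.node (.leaf 14677) (.leaf 0)) (.node (.leaf 18346) (.leaf 0)))))) (.node (.node (.node (.node (.node (.leaf 16850) (.leaf 7654)) (.node (.leaf 17289) (.leaf 0))) (.node (.node (.leaf 14184) (.leaf 10770)) (.node (.leaf 12592) (.leaf 0)))) (.node (.node (.node (.leaf 13480) (.leaf 13931)) (.node (.leaf 11943) (.leaf 0))) (.node (.node (.leaf 2403)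 (.leaf 0)) (.node (.leaf 5877) (.leaf 0))))) (.node (.node (.node (.node (.leaf 779) (.leaf 9240)) (.node (.leaf 8613) (.leaf 0))) (.node (.node (.leaf 5554) (.leaf 0)) (.node (.leaf 5861) (.leaf 0)))) (.node (.node (.node (.leaf 6055) (.leaf 10478)) (.node (.leaf 13178) (.leaf 0))) (.node (.node (.leaf 19620) (.leaf 0)) (.node (.leaf 16276) (.leaf 0))))))) (.node (.node (.node (.node (.node (.node (.leaf 12983) (.leaf 18979)) (.node (.leaf 14535) (.leaf 0))) (.node (.node (.leaf 10978) (.leaf 1805)) (.node (.leaf 4001) (.leaf 0)))) (.node (.node (.node (.leaf 1717) (.leaf 13019)) (.node (.leaf 1059) (.leaf 0))) (.node (.node (.leaf 17442) (.leaf 0)) (.node (.leaf 13823) (.leaf 0))))) (.node (.node (.node (.node (.leaf 11550) (.leaf 3293)) (.node (.leaf 20692) (.leaf 0))) (.node (.node (.leaf 10777) (.leaf 0)) (.node (.leaf 18479) (.leaf 0)))) (.node (.node (.node (.leaf 19521) (.leaf 1661)) (.node (.leaf 18442) (.leaf 0))) (.node (.node (.leaf 5356) (.leaf 0)) (.node (.leaf 14639) (.leaf 0))))))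 (.node (.node (.node (.node (.node (.leaf 19268) (.leaf 8333)) (.node (.leaf 14432) (.leaf 0))) (.node (.node (.leaf 10180) (.leaf 6116)) (.node (.leaf 681) (.leaf 0)))) (.node (.node (.node (.leaf 1451) (.leaf 3145)) (.node (.leaf 20494) (.leaf 0))) (.node (.node (.leaf 17636) (.leaf 0)) (.node (.leaf 15688) (.leaf 0))))) (.node (.node (.node (.node (.leaf 419) (.leaf 3148)) (.node (.leaf 14663) (.leaf 0))) (.node (.node (.leaf 1871) (.leaf 0)) (.node (.leaf 13439) (.leaf 0)))) (.node (.node (.node (.leaf 5245) (.leaf 6884)) (.node (.leaf 17607) (.leaf 0))) (.node (.node (.leaf 3160) (.leaf 0)) (.node (.leaf 11677) (.leaf 0)))))))))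

/-- part of a table -/
def ordK101 : Trie := (.node (.node (.node (.node (.node (.node (.node (.node (.leaf 16967) (.leaf 8967)) (.node (.leaf 3940) (.leaf 0))) (.node (.node (.leaf 12730) (.leaf 1153)) (.node (.leaf 18627) (.leaf 0)))) (.node (.node (.node (.leaf 3953) (.leaf 9007)) (.node (.leaf 11564) (.leaf 0))) (.node (.node (.leaf 16198) (.leaf 0)) (.node (.leaf 17963) (.leaf 0))))) (.node (.node (.node (.node (.leaf 9396) (.leaf 15226)) (.node (.leaf 19529) (.leaf 0))) (.node (.node (.leaf 21428) (.leaf 0)) (.node (.leaf 10921) (.leaf 0)))) (.node (.node (.node (.leaf 2429) (.leaf 13971)) (.node (.leaf 9721) (.leaf 0))) (.node (.node (.leaf 736) (.leaf 0)) (.node (.leaf 20053) (.leaf 0)))))) (.node (.node (.node (.node (.node (.leaf 3955) (.leaf 17536)) (.node (.leaf 9734) (.leaf 0))) (.node (.node (.leaf 21475) (.leaf 16841)) (.node (.leaf 20978) (.leaf 0)))) (.node (.node (.node (.leaf 5141) (.leaf 1087)) (.node (.leaf 7624) (.leaf 0))) (.node (.node (.leaf 11959) (.leaf 0)) (.node (.leaf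 16429) (.leaf 0))))) (.node (.node (.node (.node (.leaf 18459) (.leaf 3754)) (.node (.leaf 629) (.leaf 0))) (.node (.node (.leaf 14490) (.leaf 0)) (.node (.leaf 2450) (.leaf 0)))) (.node (.node (.node (.leaf 17438) (.leaf 13628)) (.node (.leaf 6529) (.leaf 0))) (.node (.node (.leaf 3872) (.leaf 0)) (.node (.leaf 10818) (.leaf 0))))))) (.node (.node (.node (.node (.node (.node (.leaf 14390) (.leaf 14643)) (.node (.leaf 13501) (.leaf 0))) (.node (.node (.leaf 8511) (.leaf 350)) (.node (.leaf 16480) (.leaf 0)))) (.node (.node (.node (.leaf 7650) (.leaf 1318)) (.node (.leaf 17956) (.leaf 0))) (.node (.node (.leaf 6787) (.leaf 0)) (.node (.leaf 7940) (.leaf 0))))) (.node (.node (.node (.node (.leaf 5008) (.leaf 11459)) (.node (.leaf 10304) (.leaf 0))) (.node (.node (.leaf 4628) (.leaf 0)) (.node (.leaf 10732) (.leaf 0)))) (.node (.node (.node (.leaf 8813) (.leaf 20019)) (.node (.leaf 12921) (.leaf 0))) (.node (.node (.leaf 16016) (.leaf 0)) (.node (.leaf 7933) (.leaf 0)))))) (.node (.node (.node (.node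 (.node (.leaf 9316) (.leaf 2259)) (.node (.leaf 4681) (.leaf 0))) (.node (.node (.leaf 4091) (.leaf 11277)) (.node (.leaf 16288) (.leaf 0)))) (.node (.node (.node (.leaf 762) (.leaf 3161)) (.node (.leaf 20716) (.leaf 0))) (.node (.node (.leaf 12555) (.leaf 0)) (.node (.leaf 13040) (.leaf 0))))) (.node (.node (.node (.node (.leaf 4142) (.leaf 13929)) (.node (.leaf 7647) (.leaf 0))) (.node (.node (.leaf 2129) (.leaf 0)) (.node (.leaf 16763) (.leaf 0)))) (.node (.node (.node (.leaf 13234) (.leaf 16988)) (.node (.leaf 4989) (.leaf 0))) (.node (.node (.leaf 14113) (.leaf 0)) (.node (.leaf 14757) (.leaf 0)))))))) (.node (.node (.node (.node (.node (.node (.node (.leaf 17887) (.leaf 10321)) (.node (.leaf 3695) (.leaf 0))) (.node (.node (.leaf 4295) (.leaf 1854)) (.node (.leaf 6516) (.leaf 0)))) (.node (.node (.node (.leaf 4112) (.leaf 15614)) (.node (.leaf 10398) (.leaf 0))) (.node (.node (.leaf 19363) (.leaf 0)) (.node (.leaf 6283) (.leaf 0))))) (.node (.node (.node (.node (.leaf 13535) (.leaf 8705)) (.node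 (.leaf 5997) (.leaf 0))) (.node (.node (.leaf 6056) (.leaf 0)) (.node (.leaf 524) (.leaf 0)))) (.node (.node (.node (.leaf 4976) (.leaf 14761)) (.node (.leaf 19725) (.leaf 0))) (.node (.node (.leaf 8116) (.leaf 0)) (.node (.leaf 2080) (.leaf 0)))))) (.node (.node (.node (.node (.node (.leaf 17577) (.leaf 19426)) (.node (.leaf 18331) (.leaf 0))) (.node (.node (.leaf 17568) (.leaf 15117)) (.node (.leaf 3892) (.leaf 0)))) (.node (.node (.node (.leaf 19197) (.leaf 19276)) (.node (.leaf 9779) (.leaf 0))) (.node (.node (.leaf 15213) (.leaf 0)) (.node (.leaf 1843) (.leaf 0))))) (.node (.node (.node (.node (.leaf 11126) (.leaf 16275)) (.node (.leaf 20523) (.leaf 0))) (.node (.node (.leaf 5377) (.leaf 0)) (.node (.leaf 18361) (.leaf 0)))) (.node (.node (.node (.leaf 7242) (.leaf 12680)) (.node (.leaf 7121) (.leaf 0))) (.node (.node (.leaf 15167) (.leaf 0)) (.node (.leaf 18522) (.leaf 0))))))) (.node (.node (.node (.node (.node (.node (.leaf 11867) (.leaf 13698)) (.node (.leaf 3482) (.leaf 0))) (.node (.node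 (.leaf 8171) (.leaf 4147)) (.node (.leaf 12033) (.leaf 0)))) (.node (.node (.node (.leaf 20198) (.leaf 5323)) (.node (.leaf 10343) (.leaf 0))) (.node (.node (.leaf 11374) (.leaf 0)) (.node (.leaf 5753) (.leaf 0))))) (.node (.node (.node (.node (.leaf 3311) (.leaf 11255)) (.node (.leaf 10202) (.leaf 0))) (.node (.node (.leaf 15288) (.leaf 0)) (.node (.leaf 19383) (.leaf 0)))) (.node (.node (.node (.leaf 11629) (.leaf 3943)) (.node (.leaf 18735) (.leaf 0))) (.node (.node (.leaf 19504) (.leaf 0)) (.node (.leaf 17187) (.leaf 0)))))) (.node (.node (.node (.node (.node (.leaf 16911) (.leaf 20710)) (.node (.leaf 11234) (.leaf 0))) (.node (.node (.leaf 20284) (.leaf 12747)) (.node (.leaf 10729) (.leaf 0)))) (.node (.node (.node (.leaf 646) (.leaf 15420)) (.node (.leaf 13914) (.leaf 0))) (.node (.node (.leaf 15208) (.leaf 0)) (.node (.leaf 18176) (.leaf 0))))) (.node (.node (.node (.node (.leaf 7984) (.leaf 7944)) (.node (.leaf 5390) (.leaf 0))) (.node (.node (.leaf 264) (.leaf 0)) (.node (.leaf 15027) (.leaf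 0)))) (.node (.node (.node (.leaf 13950) (.leaf 947)) (.node (.leaf 1308) (.leaf 0))) (.node (.node (.leaf 5630) (.leaf 0)) (.node (.leaf 9639) (.leaf 0)))))))))

/-- part of a table -/
def ordK102 : Trie := (.node (.node (.node (.node (.node (.node (.node (.node (.leaf 7506) (.leaf 20886)) (.node (.leaf 5955) (.leaf 0))) (.node (.node (.leaf 13229) (.leaf 21122)) (.node (.leaf 20751) (.leaf 0)))) (.node (.node (.node (.leaf 20766) (.leaf 18369)) (.node (.leaf 10347) (.leaf 0))) (.node (.node (.leaf 16618) (.leaf 0)) (.node (.leaf 7059) (.leaf 0))))) (.node (.node (.node (.node (.leaf 7887) (.leaf 6881)) (.node (.leaf 21235) (.leaf 0))) (.node (.node (.leaf 18590) (.leaf 0)) (.node (.leaf 15616) (.leaf 0)))) (.node (.node (.node (.leaf 16566) (.leaf 9084)) (.node (.leaf 7421) (.leaf 0))) (.node (.node (.leaf 12498) (.leaf 0)) (.node (.leaf 12779) (.leaf 0)))))) (.node (.node (.node (.node (.node (.leaf 16347) (.leaf 9992)) (.node (.leaf 15946) (.leaf 0))) (.node (.node (.leaf 12065) (.leaf 5247))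 (.node (.leaf 17167) (.leaf 0)))) (.node (.node (.node (.leaf 20667) (.leaf 19699)) (.node (.leaf 6655) (.leaf 0))) (.node (.node (.leaf 10463) (.leaf 0)) (.node (.leaf 4430) (.leaf 0))))) (.node (.node (.node (.node (.leaf 2233) (.leaf 17642)) (.node (.leaf 13622) (.leaf 0))) (.node (.node (.leaf 4131) (.leaf 0)) (.node (.leaf 6798) (.leaf 0)))) (.node (.node (.node (.leaf 14456) (.leaf 6688)) (.node (.leaf 6851) (.leaf 0))) (.node (.node (.leaf 19896) (.leaf 0)) (.node (.leaf 156) (.leaf 0))))))) (.node (.node (.node (.node (.node (.node (.leaf 1875) (.leaf 18719)) (.node (.leaf 7833) (.leaf 0))) (.node (.node (.leaf 16382) (.leaf 16075)) (.node (.leaf 21166) (.leaf 0)))) (.node (.node (.node (.leaf 21448) (.leaf 12219)) (.node (.leaf 10278) (.leaf 0))) (.node (.node (.leaf 6) (.leaf 0)) (.node (.leaf 20740) (.leaf 0))))) (.node (.node (.node (.node (.leaf 17535) (.leaf 19687)) (.node (.leaf 14389) (.leaf 0))) (.node (.node (.leaf 14988) (.leaf 0)) (.node (.leaf 10958) (.leaf 0)))) (.node (.node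 (.node (.leaf 1111) (.leaf 19541)) (.node (.leaf 19125) (.leaf 0))) (.node (.node (.leaf 12012) (.leaf 0)) (.node (.leaf 25) (.leaf 0)))))) (.node (.node (.node (.node (.node (.leaf 9372) (.leaf 17926)) (.node (.leaf 12598) (.leaf 0))) (.node (.node (.leaf 18598) (.leaf 9880)) (.node (.leaf 14976) (.leaf 0)))) (.node (.node (.node (.leaf 12575) (.leaf 13413)) (.node (.leaf 9248) (.leaf 0))) (.node (.node (.leaf 5933) (.leaf 0)) (.node (.leaf 8574) (.leaf 0))))) (.node (.node (.node (.node (.leaf 3702) (.leaf 19848)) (.node (.leaf 11376) (.leaf 0))) (.node (.node (.leaf 5919) (.leaf 0)) (.node (.leaf 12606) (.leaf 0)))) (.node (.node (.node (.leaf 13835) (.leaf 5499)) (.node (.leaf 1775) (.leaf 0))) (.node (.node (.leaf 9173) (.leaf 0)) (.node (.leaf 8690) (.leaf 0)))))))) (.node (.node (.node (.node (.node (.node (.node (.leaf 18463) (.leaf 15251)) (.node (.leaf 380) (.leaf 0))) (.node (.node (.leaf 16306) (.leaf 15854)) (.node (.leaf 14514) (.leaf 0)))) (.node (.node (.node (.leaf 8152) (.leaf 5581))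 (.node (.leaf 2521) (.leaf 0))) (.node (.node (.leaf 15526) (.leaf 0)) (.node (.leaf 2541) (.leaf 0))))) (.node (.node (.node (.node (.leaf 16909) (.leaf 10526)) (.node (.leaf 10617) (.leaf 0))) (.node (.node (.leaf 5354) (.leaf 0)) (.node (.leaf 5662) (.leaf 0)))) (.node (.node (.node (.leaf 2061) (.leaf 1529)) (.node (.leaf 850) (.leaf 0))) (.node (.node (.leaf 20709) (.leaf 0)) (.node (.leaf 7731) (.leaf 0)))))) (.node (.node (.node (.node (.node (.leaf 8387) (.leaf 12967)) (.node (.leaf 1895) (.leaf 0))) (.node (.node (.leaf 9752) (.leaf 19259)) (.node (.leaf 15583) (.leaf 0)))) (.node (.node (.node (.leaf 14841) (.leaf 1175)) (.node (.leaf 16118) (.leaf 0))) (.node (.node (.leaf 17717) (.leaf 0)) (.node (.leaf 5301) (.leaf 0))))) (.node (.node (.node (.node (.leaf 1677) (.leaf 1183)) (.node (.leaf 6808) (.leaf 0))) (.node (.node (.leaf 7565) (.leaf 0)) (.node (.leaf 12690) (.leaf 0)))) (.node (.node (.node (.leaf 1546) (.leaf 683)) (.node (.leaf 20346) (.leaf 0))) (.node (.node (.leaf 360) (.leaf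 0)) (.node (.leaf 1363) (.leaf 0))))))) (.node (.node (.node (.node (.node (.node (.leaf 6135) (.leaf 7187)) (.node (.leaf 11036) (.leaf 0))) (.node (.node (.leaf 18710) (.leaf 494)) (.node (.leaf 255) (.leaf 0)))) (.node (.node (.node (.leaf 19844) (.leaf 5698)) (.node (.leaf 11455) (.leaf 0))) (.node (.node (.leaf 12632) (.leaf 0)) (.node (.leaf 17769) (.leaf 0))))) (.node (.node (.node (.node (.leaf 5179) (.leaf 1209)) (.node (.leaf 20747) (.leaf 0))) (.node (.node (.leaf 12383) (.leaf 0)) (.node (.leaf 17748) (.leaf 0)))) (.node (.node (.node (.leaf 20663) (.leaf 12799)) (.node (.leaf 21471) (.leaf 0))) (.node (.node (.leaf 4340) (.leaf 0)) (.node (.leaf 4854) (.leaf 0)))))) (.node (.node (.node (.node (.node (.leaf 14875) (.leaf 5050)) (.node (.leaf 9071) (.leaf 0))) (.node (.node (.leaf 4903) (.leaf 1243)) (.node (.leaf 13766) (.leaf 0)))) (.node (.node (.node (.leaf 4486) (.leaf 566)) (.node (.leaf 7784) (.leaf 0))) (.node (.node (.leaf 15235) (.leaf 0)) (.node (.leaf 21284) (.leaf 0)))))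 (.node (.node (.node (.node (.leaf 11933) (.leaf 6810)) (.node (.leaf 6223) (.leaf 0))) (.node (.node (.leaf 4009) (.leaf 0)) (.node (.leaf 4101) (.leaf 0)))) (.node (.node (.node (.leaf 13131) (.leaf 9288)) (.node (.leaf 11618) (.leaf 0))) (.node (.node (.leaf 5272) (.leaf 0)) (.node (.leaf 17500) (.leaf 0)))))))))

/-- part of a table -/
def ordK103 : Trie := (.node (.node (.node (.node (.node (.node (.node (.node (.leaf 2025) (.leaf 5685)) (.node (.leaf 11595) (.leaf 0))) (.node (.node (.leaf 7931) (.leaf 3988)) (.node (.leaf 8780) (.leaf 0)))) (.node (.node (.node (.leaf 15412) (.leaf 19980)) (.node (.leaf 3100) (.leaf 0))) (.node (.node (.leaf 1991) (.leaf 0)) (.node (.leaf 19906) (.leaf 0))))) (.node (.node (.node (.node (.leaf 674) (.leaf 5430)) (.node (.leaf 14272) (.leaf 0))) (.node (.node (.leaf 14405) (.leaf 0)) (.node (.leaf 19667) (.leaf 0)))) (.node (.node (.node (.leaf 19166) (.leaf 13423)) (.node (.leaf 11069) (.leaf 0))) (.node (.node (.leaf 12478) (.leaf 0)) (.node (.leaf 14364)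 (.leaf 0)))))) (.node (.node (.node (.node (.node (.leaf 16451) (.leaf 19375)) (.node (.leaf 6544) (.leaf 0))) (.node (.node (.leaf 13513) (.leaf 19379)) (.node (.leaf 2623) (.leaf 0)))) (.node (.node (.node (.leaf 19718) (.leaf 10065)) (.node (.leaf 10763) (.leaf 0))) (.node (.node (.leaf 3174) (.leaf 0)) (.node (.leaf 19518) (.leaf 0))))) (.node (.node (.node (.node (.leaf 8212) (.leaf 9538)) (.node (.leaf 3724) (.leaf 0))) (.node (.node (.leaf 8282) (.leaf 0)) (.node (.leaf 15130) (.leaf 0)))) (.node (.node (.node (.leaf 10831) (.leaf 5347)) (.node (.leaf 3735) (.leaf 0))) (.node (.node (.leaf 4047) (.leaf 0)) (.node (.leaf 6754) (.leaf 0))))))) (.node (.node (.node (.node (.node (.node (.leaf 15023) (.leaf 9744)) (.node (.leaf 13757) (.leaf 0))) (.node (.node (.leaf 14723) (.leaf 5733)) (.node (.leaf 1885) (.leaf 0)))) (.node (.node (.node (.leaf 14343) (.leaf 18650)) (.node (.leaf 4018) (.leaf 0))) (.node (.node (.leaf 15778) (.leaf 0)) (.node (.leaf 5268) (.leaf 0))))) (.node (.node (.node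 (.node (.leaf 18190) (.leaf 7502)) (.node (.leaf 17175) (.leaf 0))) (.node (.node (.leaf 196) (.leaf 0)) (.node (.leaf 6359) (.leaf 0)))) (.node (.node (.node (.leaf 4841) (.leaf 19665)) (.node (.leaf 18414) (.leaf 0))) (.node (.node (.leaf 3185) (.leaf 0)) (.node (.leaf 5545) (.leaf 0)))))) (.node (.node (.node (.node (.node (.leaf 8778) (.leaf 14307)) (.node (.leaf 19566) (.leaf 0))) (.node (.node (.leaf 939) (.leaf 19130)) (.node (.leaf 19162) (.leaf 0)))) (.node (.node (.node (.leaf 19508) (.leaf 17378)) (.node (.leaf 16476) (.leaf 0))) (.node (.node (.leaf 11771) (.leaf 0)) (.node (.leaf 11839) (.leaf 0))))) (.node (.node (.node (.node (.leaf 120) (.leaf 2328)) (.node (.leaf 20511) (.leaf 0))) (.node (.node (.leaf 17068) (.leaf 0)) (.node (.leaf 17932) (.leaf 0)))) (.node (.node (.node (.leaf 2038) (.leaf 9998)) (.node (.leaf 16870) (.leaf 0))) (.node (.node (.leaf 16691) (.leaf 0)) (.node (.leaf 11624) (.leaf 0)))))))) (.node (.node (.node (.node (.node (.node (.node (.leaf 7152) (.leaf 13189))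 (.node (.leaf 6800) (.leaf 0))) (.node (.node (.leaf 18034) (.leaf 14348)) (.node (.leaf 20197) (.leaf 0)))) (.node (.node (.node (.leaf 17715) (.leaf 15577)) (.node (.leaf 12748) (.leaf 0))) (.node (.node (.leaf 9506) (.leaf 0)) (.node (.leaf 8385) (.leaf 0))))) (.node (.node (.node (.node (.leaf 13094) (.leaf 20676)) (.node (.leaf 3396) (.leaf 0))) (.node (.node (.leaf 6915) (.leaf 0)) (.node (.leaf 20786) (.leaf 0)))) (.node (.node (.node (.leaf 1260) (.leaf 1878)) (.node (.leaf 1635) (.leaf 0))) (.node (.node (.leaf 3569) (.leaf 0)) (.node (.leaf 17237) (.leaf 0)))))) (.node (.node (.node (.node (.node (.leaf 13965) (.leaf 21248)) (.node (.leaf 10459) (.leaf 0))) (.node (.node (.leaf 3700) (.leaf 5725)) (.node (.leaf 18421) (.leaf 0)))) (.node (.node (.node (.leaf 4914) (.leaf 15984)) (.node (.leaf 16766) (.leaf 0))) (.node (.node (.leaf 14481) (.leaf 0)) (.node (.leaf 11504) (.leaf 0))))) (.node (.node (.node (.node (.leaf 14580) (.leaf 18584)) (.node (.leaf 6822) (.leaf 0))) (.node (.node (.leaf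 13118) (.leaf 0)) (.node (.leaf 5752) (.leaf 0)))) (.node (.node (.node (.leaf 7201) (.leaf 17601)) (.node (.leaf 3541) (.leaf 0))) (.node (.node (.leaf 11734) (.leaf 0)) (.node (.leaf 7346) (.leaf 0))))))) (.node (.node (.node (.node (.node (.node (.leaf 19547) (.leaf 18931)) (.node (.leaf 21364) (.leaf 0))) (.node (.node (.leaf 16048) (.leaf 11898)) (.node (.leaf 7663) (.leaf 0)))) (.node (.node (.node (.leaf 16864) (.leaf 6155)) (.node (.leaf 292) (.leaf 0))) (.node (.node (.leaf 13987) (.leaf 0)) (.node (.leaf 3247) (.leaf 0))))) (.node (.node (.node (.node (.leaf 4844) (.leaf 315)) (.node (.leaf 1447) (.leaf 0))) (.node (.node (.leaf 160) (.leaf 0)) (.node (.leaf 13966) (.leaf 0)))) (.node (.node (.node (.leaf 1565) (.leaf 1333)) (.node (.leaf 9417) (.leaf 0))) (.node (.node (.leaf 4777) (.leaf 0)) (.node (.leaf 4175) (.leaf 0)))))) (.node (.node (.node (.node (.node (.leaf 21174) (.leaf 10825)) (.node (.leaf 8853) (.leaf 0))) (.node (.node (.leaf 4518) (.leaf 14050)) (.node (.leaf 2145) (.leaf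 0)))) (.node (.node (.node (.leaf 17447) (.leaf 15172)) (.node (.leaf 9128) (.leaf 0))) (.node (.node (.leaf 4067) (.leaf 0)) (.node (.leaf 9799) (.leaf 0))))) (.node (.node (.node (.node (.leaf 334) (.leaf 10083)) (.node (.leaf 14374) (.leaf 0))) (.node (.node (.leaf 2373) (.leaf 0)) (.node (.leaf 19623) (.leaf 0)))) (.node (.node (.node (.leaf 1450) (.leaf 11283)) (.node (.leaf 7373) (.leaf 0))) (.node (.node (.leaf 9446) (.leaf 0)) (.node (.leaf 827) (.leaf 0)))))))))

/-- part of a table -/
def ordK104 : Trie := (.node (.node (.node (.node (.node (.node (.node (.node (.leaf 17288) (.leaf 12587)) (.node (.leaf 17801) (.leaf 0))) (.node (.node (.leaf 1767) (.leaf 3395)) (.node (.leaf 20183) (.leaf 0)))) (.node (.node (.node (.leaf 4403) (.leaf 7945)) (.node (.leaf 6084) (.leaf 0))) (.node (.node (.leaf 14773) (.leaf 0)) (.node (.leaf 13746) (.leaf 0))))) (.node (.node (.node (.node (.leaf 20934) (.leaf 2198)) (.node (.leaf 11203) (.leaf 0))) (.node (.node (.leaf 18550) (.leaf 0)) (.node (.leaf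 8795) (.leaf 0)))) (.node (.node (.node (.leaf 19178) (.leaf 5463)) (.node (.leaf 15613) (.leaf 0))) (.node (.node (.leaf 19165) (.leaf 0)) (.node (.leaf 9475) (.leaf 0)))))) (.node (.node (.node (.node (.node (.leaf 7716) (.leaf 18507)) (.node (.leaf 6256) (.leaf 0))) (.node (.node (.leaf 11275) (.leaf 14216)) (.node (.leaf 15756) (.leaf 0)))) (.node (.node (.node (.leaf 11881) (.leaf 20587)) (.node (.leaf 18051) (.leaf 0))) (.node (.node (.leaf 18030) (.leaf 0)) (.node (.leaf 11313) (.leaf 0))))) (.node (.node (.node (.node (.leaf 12627) (.leaf 11634)) (.node (.leaf 5770) (.leaf 0))) (.node (.node (.leaf 1138) (.leaf 0)) (.node (.leaf 16041) (.leaf 0)))) (.node (.node (.node (.leaf 16127) (.leaf 5509)) (.node (.leaf 1737) (.leaf 0))) (.node (.node (.leaf 20755) (.leaf 0)) (.node (.leaf 3657) (.leaf 0))))))) (.node (.node (.node (.node (.node (.node (.leaf 1943) (.leaf 6560)) (.node (.leaf 11909) (.leaf 0))) (.node (.node (.leaf 509) (.leaf 9661)) (.node (.leaf 2611) (.leaf 0)))) (.node (.node (.node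 (.leaf 15161) (.leaf 3372)) (.node (.leaf 15352) (.leaf 0))) (.node (.node (.leaf 12053) (.leaf 0)) (.node (.leaf 1985) (.leaf 0))))) (.node (.node (.node (.node (.leaf 3059) (.leaf 19774)) (.node (.leaf 17290) (.leaf 0))) (.node (.node (.leaf 8086) (.leaf 0)) (.node (.leaf 1455) (.leaf 0)))) (.node (.node (.node (.leaf 19689) (.leaf 18081)) (.node (.leaf 7985) (.leaf 0))) (.node (.node (.leaf 171) (.leaf 0)) (.node (.leaf 19845) (.leaf 0)))))) (.node (.node (.node (.node (.node (.leaf 1611) (.leaf 5275)) (.node (.leaf 15086) (.leaf 0))) (.node (.node (.leaf 1057) (.leaf 15604)) (.node (.leaf 12142) (.leaf 0)))) (.node (.node (.node (.leaf 1151) (.leaf 20000)) (.node (.leaf 18665) (.leaf 0))) (.node (.node (.leaf 18646) (.leaf 0)) (.node (.leaf 20052) (.leaf 0))))) (.node (.node (.node (.node (.leaf 15129) (.leaf 10344)) (.node (.leaf 8377) (.leaf 0))) (.node (.node (.leaf 11356) (.leaf 0)) (.node (.leaf 21008) (.leaf 0)))) (.node (.node (.node (.leaf 6159) (.leaf 17423)) (.node (.leaf 18715) (.leaf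 0))) (.node (.node (.leaf 5622) (.leaf 0)) (.node (.leaf 7326) (.leaf 0)))))))) (.node (.node (.node (.node (.node (.node (.node (.leaf 14032) (.leaf 18540)) (.node (.leaf 501) (.leaf 0))) (.node (.node (.leaf 9000) (.leaf 20067)) (.node (.leaf 6715) (.leaf 0)))) (.node (.node (.node (.leaf 16058) (.leaf 2186)) (.node (.leaf 16134) (.leaf 0))) (.node (.node (.leaf 8046) (.leaf 0)) (.node (.leaf 6985) (.leaf 0))))) (.node (.node (.node (.node (.leaf 4189) (.leaf 9654)) (.node (.leaf 7159) (.leaf 0))) (.node (.node (.leaf 20226) (.leaf 0)) (.node (.leaf 12566) (.leaf 0)))) (.node (.node (.node (.leaf 5081) (.leaf 21080)) (.node (.leaf 7672) (.leaf 0))) (.node (.node (.leaf 12444) (.leaf 0)) (.node (.leaf 13919) (.leaf 0)))))) (.node (.node (.node (.node (.node (.leaf 12460) (.leaf 4483)) (.node (.leaf 20654) (.leaf 0))) (.node (.node (.leaf 11075) (.leaf 4647)) (.node (.leaf 1516) (.leaf 0)))) (.node (.node (.node (.leaf 1923) (.leaf 6500)) (.node (.leaf 8754) (.leaf 0))) (.node (.node (.leaf 1788)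 (.leaf 0)) (.node (.leaf 14720) (.leaf 0))))) (.node (.node (.node (.node (.leaf 19992) (.leaf 20349)) (.node (.leaf 7363) (.leaf 0))) (.node (.node (.leaf 14972) (.leaf 0)) (.node (.leaf 17161) (.leaf 0)))) (.node (.node (.node (.leaf 14596) (.leaf 12310)) (.node (.leaf 11747) (.leaf 0))) (.node (.node (.leaf 14608) (.leaf 0)) (.node (.leaf 19571) (.leaf 0))))))) (.node (.node (.node (.node (.node (.node (.leaf 18701) (.leaf 4933)) (.node (.leaf 20884) (.leaf 0))) (.node (.node (.leaf 5936) (.leaf 2699)) (.node (.leaf 10107) (.leaf 0)))) (.node (.node (.node (.leaf 9835) (.leaf 11643)) (.node (.leaf 12403) (.leaf 0))) (.node (.node (.leaf 3641) (.leaf 0)) (.node (.leaf 16845) (.leaf 0))))) (.node (.node (.node (.node (.leaf 17869) (.leaf 15143)) (.node (.leaf 14965) (.leaf 0))) (.node (.node (.leaf 5761) (.leaf 0)) (.node (.leaf 17683) (.leaf 0)))) (.node (.node (.node (.leaf 7623) (.leaf 13849)) (.node (.leaf 5307) (.leaf 0))) (.node (.node (.leaf 18748) (.leaf 0)) (.node (.leaf 8653) (.leaf 0))))))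 (.node (.node (.node (.node (.node (.leaf 8179) (.leaf 6669)) (.node (.leaf 18110) (.leaf 0))) (.node (.node (.leaf 1085) (.leaf 5231)) (.node (.leaf 378) (.leaf 0)))) (.node (.node (.node (.leaf 5183) (.leaf 12714)) (.node (.leaf 3690) (.leaf 0))) (.node (.node (.leaf 2721) (.leaf 0)) (.node (.leaf 2118) (.leaf 0))))) (.node (.node (.node (.node (.leaf 4786) (.leaf 17519)) (.node (.leaf 7266) (.leaf 0))) (.node (.node (.leaf 5469) (.leaf 0)) (.node (.leaf 12447) (.leaf 0)))) (.node (.node (.node (.leaf 16042) (.leaf 1097)) (.node (.leaf 1594) (.leaf 0))) (.node (.node (.leaf 13425) (.leaf 0)) (.node (.leaf 2207) (.leaf 0)))))))))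

/-- part of a table -/
def ordK105 : Trie := (.node (.node (.node (.node (.node (.node (.node (.node (.leaf 12414) (.leaf 8361)) (.node (.leaf 15592) (.leaf 0))) (.node (.node (.leaf 10880) (.leaf 7157)) (.node (.leaf 1113) (.leaf 0)))) (.node (.node (.node (.leaf 3815) (.leaf 10414)) (.node (.leaf 19278) (.leaf 0))) (.node (.node (.leaf 18296) (.leaf 0)) (.node (.leaf 649) (.leaf 0))))) (.node (.node (.node (.node (.leaf 3570) (.leaf 8335)) (.node (.leaf 4554) (.leaf 0))) (.node (.node (.leaf 5283) (.leaf 0)) (.node (.leaf 10235) (.leaf 0)))) (.node (.node (.node (.leaf 675) (.leaf 390)) (.node (.leaf 1705) (.leaf 0))) (.node (.node (.leaf 11183) (.leaf 0)) (.node (.leaf 21238) (.leaf 0)))))) (.node (.node (.node (.node (.node (.leaf 1749) (.leaf 17854)) (.node (.leaf 18656) (.leaf 0))) (.node (.node (.leaf 19553) (.leaf 9155)) (.node (.leaf 1921) (.leaf 0)))) (.node (.node (.node (.leaf 1271) (.leaf 10559)) (.node (.leaf 10451) (.leaf 0))) (.node (.node (.leaf 623) (.leaf 0)) (.node (.leaf 15387)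 (.leaf 0))))) (.node (.node (.node (.node (.leaf 1307) (.leaf 10814)) (.node (.leaf 8965) (.leaf 0))) (.node (.node (.leaf 17714) (.leaf 0)) (.node (.leaf 413) (.leaf 0)))) (.node (.node (.node (.leaf 12475) (.leaf 5213)) (.node (.leaf 239) (.leaf 0))) (.node (.node (.leaf 4889) (.leaf 0)) (.node (.leaf 13262) (.leaf 0))))))) (.node (.node (.node (.node (.node (.node (.leaf 1525) (.leaf 6150)) (.node (.leaf 3924) (.leaf 0))) (.node (.node (.leaf 18884) (.leaf 14424)) (.node (.leaf 3310) (.leaf 0)))) (.node (.node (.node (.leaf 12796) (.leaf 4661)) (.node (.leaf 19664) (.leaf 0))) (.node (.node (.leaf 2621) (.leaf 0)) (.node (.leaf 4821) (.leaf 0))))) (.node (.node (.node (.node (.leaf 3414) (.leaf 12634)) (.node (.leaf 17419) (.leaf 0))) (.node (.node (.leaf 13791) (.leaf 0)) (.node (.leaf 20858) (.leaf 0)))) (.node (.node (.node (.leaf 18119) (.leaf 12754)) (.node (.leaf 6168) (.leaf 0))) (.node (.node (.leaf 9039) (.leaf 0)) (.node (.leaf 11242) (.leaf 0)))))) (.node (.node (.node (.node (.node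 (.leaf 8432) (.leaf 17721)) (.node (.leaf 18743) (.leaf 0))) (.node (.node (.leaf 16287) (.leaf 18236)) (.node (.leaf 11721) (.leaf 0)))) (.node (.node (.node (.leaf 2917) (.leaf 15534)) (.node (.leaf 18876) (.leaf 0))) (.node (.node (.leaf 19358) (.leaf 0)) (.node (.leaf 14823) (.leaf 0))))) (.node (.node (.node (.node (.leaf 11120) (.leaf 1060)) (.node (.leaf 20461) (.leaf 0))) (.node (.node (.leaf 19456) (.leaf 0)) (.node (.leaf 11975) (.leaf 0)))) (.node (.node (.node (.leaf 9391) (.leaf 10420)) (.node (.leaf 9594) (.leaf 0))) (.node (.node (.leaf 9740) (.leaf 0)) (.node (.leaf 1614) (.leaf 0)))))))) (.node (.node (.node (.node (.node (.node (.node (.leaf 19709) (.leaf 9539)) (.node (.leaf 12892) (.leaf 0))) (.node (.node (.leaf 5273) (.leaf 19448)) (.node (.leaf 17416) (.leaf 0)))) (.node (.node (.node (.leaf 1696) (.leaf 21041)) (.node (.leaf 20625) (.leaf 0))) (.node (.node (.leaf 10012) (.leaf 0)) (.node (.leaf 10745) (.leaf 0))))) (.node (.node (.node (.node (.leaf 7040) (.leaf 538)) (.node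 (.leaf 7921) (.leaf 0))) (.node (.node (.leaf 14383) (.leaf 0)) (.node (.leaf 6932) (.leaf 0)))) (.node (.node (.node (.leaf 19083) (.leaf 15853)) (.node (.leaf 7615) (.leaf 0))) (.node (.node (.leaf 9334) (.leaf 0)) (.node (.leaf 10759) (.leaf 0)))))) (.node (.node (.node (.node (.node (.leaf 17238) (.leaf 9201)) (.node (.leaf 15663) (.leaf 0))) (.node (.node (.leaf 12940) (.leaf 10332)) (.node (.leaf 10483) (.leaf 0)))) (.node (.node (.node (.leaf 6443) (.leaf 9442)) (.node (.leaf 17649) (.leaf 0))) (.node (.node (.leaf 18182) (.leaf 0)) (.node (.leaf 10229) (.leaf 0))))) (.node (.node (.node (.node (.leaf 16775) (.leaf 12543)) (.node (.leaf 10473) (.leaf 0))) (.node (.node (.leaf 19920) (.leaf 0)) (.node (.leaf 4946) (.leaf 0)))) (.node (.node (.node (.leaf 2754) (.leaf 1133)) (.node (.leaf 11829) (.leaf 0))) (.node (.node (.leaf 1773) (.leaf 0)) (.node (.leaf 1162) (.leaf 0))))))) (.node (.node (.node (.node (.node (.node (.leaf 8601) (.leaf 18186)) (.node (.leaf 17412) (.leaf 0))) (.node (.node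 (.leaf 5135) (.leaf 8447)) (.node (.leaf 7011) (.leaf 0)))) (.node (.node (.node (.leaf 18935) (.leaf 5675)) (.node (.leaf 17976) (.leaf 0))) (.node (.node (.leaf 4585) (.leaf 0)) (.node (.leaf 1838) (.leaf 0))))) (.node (.node (.node (.node (.leaf 10588) (.leaf 17747)) (.node (.leaf 7439) (.leaf 0))) (.node (.node (.leaf 7946) (.leaf 0)) (.node (.leaf 5913) (.leaf 0)))) (.node (.node (.node (.leaf 19177) (.leaf 7258)) (.node (.leaf 3775) (.leaf 0))) (.node (.node (.leaf 20311) (.leaf 0)) (.node (.leaf 11395) (.leaf 0)))))) (.node (.node (.node (.node (.node (.leaf 18837) (.leaf 12035)) (.node (.leaf 11719) (.leaf 0))) (.node (.node (.leaf 20506) (.leaf 9469)) (.node (.leaf 15787) (.leaf 0)))) (.node (.node (.node (.leaf 20679) (.leaf 6820)) (.node (.leaf 7140) (.leaf 0))) (.node (.node (.leaf 20369) (.leaf 0)) (.node (.leaf 3711) (.leaf 0))))) (.node (.node (.node (.node (.leaf 11646) (.leaf 15876)) (.node (.leaf 12316) (.leaf 0))) (.node (.node (.leaf 14978) (.leaf 0)) (.node (.leaf 10005) (.leaf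 0)))) (.node (.node (.node (.leaf 19175) (.leaf 13659)) (.node (.leaf 3384) (.leaf 0))) (.node (.node (.leaf 8254) (.leaf 0)) (.node (.leaf 647) (.leaf 0)))))))))

/-- part of a table -/
def ordK106 : Trie := (.node (.node (.node (.node (.node (.node (.node (.node (.leaf 7033) (.leaf 3404)) (.node (.leaf 10772) (.leaf 0))) (.node (.node (.leaf 13287) (.leaf 13533)) (.node (.leaf 9500) (.leaf 0)))) (.node (.node (.node (.leaf 5921) (.leaf 651)) (.node (.leaf 11561) (.leaf 0))) (.node (.node (.leaf 1109) (.leaf 0)) (.node (.leaf 11238) (.leaf 0))))) (.node (.node (.node (.node (.leaf 8276) (.leaf 13498)) (.node (.leaf 16686) (.leaf 0))) (.node (.node (.leaf 7865) (.leaf 0)) (.node (.leaf 16902) (.leaf 0)))) (.node (.node (.node (.leaf 16488) (.leaf 17688)) (.node (.leaf 1312) (.leaf 0))) (.node (.node (.leaf 4500) (.leaf 0)) (.node (.leaf 13377) (.leaf 0)))))) (.node (.node (.node (.node (.node (.leaf 17250) (.leaf 3415)) (.node (.leaf 21192) (.leaf 0))) (.node (.node (.leaf 6151) (.leaf 16099)) (.node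 (.leaf 19322) (.leaf 0)))) (.node (.node (.node (.leaf 14824) (.leaf 2346)) (.node (.leaf 17567) (.leaf 0))) (.node (.node (.leaf 9742) (.leaf 0)) (.node (.leaf 516) (.leaf 0))))) (.node (.node (.node (.node (.leaf 11617) (.leaf 11926)) (.node (.leaf 20323) (.leaf 0))) (.node (.node (.leaf 20836) (.leaf 0)) (.node (.leaf 14575) (.leaf 0)))) (.node (.node (.node (.leaf 20556) (.leaf 8341)) (.node (.leaf 15321) (.leaf 0))) (.node (.node (.leaf 20738) (.leaf 0)) (.node (.leaf 2506) (.leaf 0))))))) (.node (.node (.node (.node (.node (.node (.leaf 7237) (.leaf 10464)) (.node (.leaf 14000) (.leaf 0))) (.node (.node (.leaf 9053) (.leaf 8692)) (.node (.leaf 11793) (.leaf 0)))) (.node (.node (.node (.leaf 3824) (.leaf 18878)) (.node (.leaf 12724) (.leaf 0))) (.node (.node (.leaf 17081) (.leaf 0)) (.node (.leaf 4160) (.leaf 0))))) (.node (.node (.node (.node (.leaf 16760) (.leaf 724)) (.node (.leaf 6382) (.leaf 0))) (.node (.node (.leaf 975) (.leaf 0)) (.node (.leaf 19191) (.leaf 0)))) (.node (.node (.node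 (.leaf 15382) (.leaf 11819)) (.node (.leaf 7549) (.leaf 0))) (.node (.node (.leaf 18717) (.leaf 0)) (.node (.leaf 3241) (.leaf 0)))))) (.node (.node (.node (.node (.node (.leaf 9289) (.leaf 11789)) (.node (.leaf 5790) (.leaf 0))) (.node (.node (.leaf 13023) (.leaf 7992)) (.node (.leaf 14928) (.leaf 0)))) (.node (.node (.node (.leaf 12915) (.leaf 12623)) (.node (.leaf 5222) (.leaf 0))) (.node (.node (.leaf 10424) (.leaf 0)) (.node (.leaf 16921) (.leaf 0))))) (.node (.node (.node (.node (.leaf 12308) (.leaf 8169)) (.node (.leaf 1685) (.leaf 0))) (.node (.node (.leaf 5729) (.leaf 0)) (.node (.leaf 16642) (.leaf 0)))) (.node (.node (.node (.leaf 5829) (.leaf 6905)) (.node (.leaf 12739) (.leaf 0))) (.node (.node (.leaf 9432) (.leaf 0)) (.node (.leaf 7212) (.leaf 0)))))))) (.node (.node (.node (.node (.node (.node (.node (.leaf 19187) (.leaf 15639)) (.node (.leaf 2519) (.leaf 0))) (.node (.node (.leaf 2257) (.leaf 14578)) (.node (.leaf 20776) (.leaf 0)))) (.node (.node (.node (.leaf 9435) (.leaf 6767))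 (.node (.leaf 1244) (.leaf 0))) (.node (.node (.leaf 17565) (.leaf 0)) (.node (.leaf 14185) (.leaf 0))))) (.node (.node (.node (.node (.leaf 808) (.leaf 4685)) (.node (.leaf 21070) (.leaf 0))) (.node (.node (.leaf 15221) (.leaf 0)) (.node (.leaf 14100) (.leaf 0)))) (.node (.node (.node (.leaf 17026) (.leaf 15460)) (.node (.leaf 4337) (.leaf 0))) (.node (.node (.leaf 11202) (.leaf 0)) (.node (.leaf 1997) (.leaf 0)))))) (.node (.node (.node (.node (.node (.leaf 331) (.leaf 12459)) (.node (.leaf 1939) (.leaf 0))) (.node (.node (.leaf 5599) (.leaf 3875)) (.node (.leaf 14120) (.leaf 0)))) (.node (.node (.node (.leaf 16292) (.leaf 17320)) (.node (.leaf 1053) (.leaf 0))) (.node (.node (.leaf 5768) (.leaf 0)) (.node (.leaf 14439) (.leaf 0))))) (.node (.node (.node (.node (.leaf 2377) (.leaf 187)) (.node (.leaf 7175) (.leaf 0))) (.node (.node (.leaf 20622) (.leaf 0)) (.node (.leaf 11144) (.leaf 0)))) (.node (.node (.node (.leaf 19250) (.leaf 11960)) (.node (.leaf 3087) (.leaf 0))) (.node (.node (.leaf 21243)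 (.leaf 0)) (.node (.leaf 11555) (.leaf 0))))))) (.node (.node (.node (.node (.node (.node (.leaf 18168) (.leaf 552)) (.node (.leaf 8789) (.leaf 0))) (.node (.node (.leaf 5276) (.leaf 4250)) (.node (.leaf 7451) (.leaf 0)))) (.node (.node (.node (.leaf 1795) (.leaf 6704)) (.node (.leaf 476) (.leaf 0))) (.node (.node (.leaf 8376) (.leaf 0)) (.node (.leaf 5134) (.leaf 0))))) (.node (.node (.node (.node (.leaf 4995) (.leaf 17590)) (.node (.leaf 3776) (.leaf 0))) (.node (.node (.leaf 12800) (.leaf 0)) (.node (.leaf 8000) (.leaf 0)))) (.node (.node (.node (.leaf 13555) (.leaf 11759)) (.node (.leaf 21306) (.leaf 0))) (.node (.node (.leaf 1631) (.leaf 0)) (.node (.leaf 9723) (.leaf 0)))))) (.node (.node (.node (.node (.node (.leaf 7022) (.leaf 914)) (.node (.leaf 9573) (.leaf 0))) (.node (.node (.leaf 3513) (.leaf 21469)) (.node (.leaf 798) (.leaf 0)))) (.node (.node (.node (.leaf 10157) (.leaf 10472)) (.node (.leaf 21153) (.leaf 0))) (.node (.node (.leaf 10636) (.leaf 0)) (.node (.leaf 2537) (.leaf 0)))))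 (.node (.node (.node (.node (.leaf 12984) (.leaf 5015)) (.node (.leaf 20991) (.leaf 0))) (.node (.node (.leaf 20758) (.leaf 0)) (.node (.leaf 6689) (.leaf 0)))) (.node (.node (.node (.leaf 2569) (.leaf 3868)) (.node (.leaf 15058) (.leaf 0))) (.node (.node (.leaf 18268) (.leaf 0)) (.node (.leaf 15323) (.leaf 0)))))))))

/-- part of a table -/
def ordK107 : Trie := (.node (.node (.node (.node (.node (.node (.node (.node (.leaf 12535) (.leaf 13937)) (.node (.leaf 6260) (.leaf 0))) (.node (.node (.leaf 16667) (.leaf 338)) (.node (.leaf 10704) (.leaf 0)))) (.node (.node (.node (.leaf 11011) (.leaf 2261)) (.node (.leaf 207) (.leaf 0))) (.node (.node (.leaf 16109) (.leaf 0)) (.node (.leaf 15765) (.leaf 0))))) (.node (.node (.node (.node (.leaf 2549) (.leaf 5658)) (.node (.leaf 15637) (.leaf 0))) (.node (.node (.leaf 15093) (.leaf 0)) (.node (.leaf 13447) (.leaf 0)))) (.node (.node (.node (.leaf 8277) (.leaf 1246)) (.node (.leaf 20084) (.leaf 0))) (.node (.node (.leaf 12217) (.leaf 0)) (.node (.leaf 3515)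 (.leaf 0)))))) (.node (.node (.node (.node (.node (.leaf 19936) (.leaf 21191)) (.node (.leaf 587) (.leaf 0))) (.node (.node (.leaf 21231) (.leaf 17946)) (.node (.leaf 5611) (.leaf 0)))) (.node (.node (.node (.leaf 14181) (.leaf 20756)) (.node (.leaf 14158) (.leaf 0))) (.node (.node (.leaf 18718) (.leaf 0)) (.node (.leaf 14175) (.leaf 0))))) (.node (.node (.node (.node (.leaf 20202) (.leaf 1125)) (.node (.leaf 11848) (.leaf 0))) (.node (.node (.leaf 6167) (.leaf 0)) (.node (.leaf 16578) (.leaf 0)))) (.node (.node (.node (.leaf 19710) (.leaf 5671)) (.node (.leaf 583) (.leaf 0))) (.node (.node (.leaf 3356) (.leaf 0)) (.node (.leaf 8951) (.leaf 0))))))) (.node (.node (.node (.node (.node (.node (.leaf 15041) (.leaf 13741)) (.node (.leaf 57) (.leaf 0))) (.node (.node (.leaf 13977) (.leaf 1013)) (.node (.leaf 14890) (.leaf 0)))) (.node (.node (.node (.leaf 15742) (.leaf 10747)) (.node (.leaf 7294) (.leaf 0))) (.node (.node (.leaf 18775) (.leaf 0)) (.node (.leaf 16751) (.leaf 0))))) (.node (.node (.node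 (.node (.leaf 12176) (.leaf 11005)) (.node (.leaf 15664) (.leaf 0))) (.node (.node (.leaf 12596) (.leaf 0)) (.node (.leaf 2995) (.leaf 0)))) (.node (.node (.node (.leaf 8620) (.leaf 19903)) (.node (.leaf 1694) (.leaf 0))) (.node (.node (.leaf 4204) (.leaf 0)) (.node (.leaf 6829) (.leaf 0)))))) (.node (.node (.node (.node (.node (.leaf 17609) (.leaf 18541)) (.node (.leaf 10808) (.leaf 0))) (.node (.node (.leaf 8007) (.leaf 1676)) (.node (.leaf 6685) (.leaf 0)))) (.node (.node (.node (.leaf 3797) (.leaf 9800)) (.node (.leaf 5495) (.leaf 0))) (.node (.node (.leaf 8631) (.leaf 0)) (.node (.leaf 3523) (.leaf 0))))) (.node (.node (.node (.node (.leaf 3152) (.leaf 3127)) (.node (.leaf 11597) (.leaf 0))) (.node (.node (.leaf 11569) (.leaf 0)) (.node (.leaf 4689) (.leaf 0)))) (.node (.node (.node (.leaf 21501) (.leaf 14764)) (.node (.leaf 21163) (.leaf 0))) (.node (.node (.leaf 19310) (.leaf 0)) (.node (.leaf 2761) (.leaf 0)))))))) (.node (.node (.node (.node (.node (.node (.node (.leaf 13793) (.leaf 1056))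 (.node (.leaf 16482) (.leaf 0))) (.node (.node (.leaf 7591) (.leaf 14448)) (.node (.leaf 7719) (.leaf 0)))) (.node (.node (.node (.leaf 16350) (.leaf 1708)) (.node (.leaf 9470) (.leaf 0))) (.node (.node (.leaf 3377) (.leaf 0)) (.node (.leaf 3512) (.leaf 0))))) (.node (.node (.node (.node (.leaf 3398) (.leaf 15750)) (.node (.leaf 8296) (.leaf 0))) (.node (.node (.leaf 349) (.leaf 0)) (.node (.leaf 10314) (.leaf 0)))) (.node (.node (.node (.leaf 15231) (.leaf 7113)) (.node (.leaf 7999) (.leaf 0))) (.node (.node (.leaf 18072) (.leaf 0)) (.node (.leaf 14139) (.leaf 0)))))) (.node (.node (.node (.node (.node (.leaf 7567) (.leaf 8630)) (.node (.leaf 13028) (.leaf 0))) (.node (.node (.leaf 4659) (.leaf 17800)) (.node (.leaf 12683) (.leaf 0)))) (.node (.node (.node (.leaf 16520) (.leaf 3763)) (.node (.leaf 9075) (.leaf 0))) (.node (.node (.leaf 15791) (.leaf 0)) (.node (.leaf 12868) (.leaf 0))))) (.node (.node (.node (.node (.leaf 10665) (.leaf 17923)) (.node (.leaf 16702) (.leaf 0))) (.node (.node (.leaf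 16171) (.leaf 0)) (.node (.leaf 1420) (.leaf 0)))) (.node (.node (.node (.leaf 14621) (.leaf 10870)) (.node (.leaf 3681) (.leaf 0))) (.node (.node (.leaf 5637) (.leaf 0)) (.node (.leaf 1437) (.leaf 0))))))) (.node (.node (.node (.node (.node (.node (.leaf 417) (.leaf 16764)) (.node (.leaf 3518) (.leaf 0))) (.node (.node (.leaf 286) (.leaf 6100)) (.node (.leaf 2353) (.leaf 0)))) (.node (.node (.node (.leaf 15358) (.leaf 879)) (.node (.leaf 14532) (.leaf 0))) (.node (.node (.leaf 9198) (.leaf 0)) (.node (.leaf 3348) (.leaf 0))))) (.node (.node (.node (.node (.leaf 16890) (.leaf 10003)) (.node (.leaf 19266) (.leaf 0))) (.node (.node (.leaf 18936) (.leaf 0)) (.node (.leaf 5020) (.leaf 0)))) (.node (.node (.node (.leaf 14273) (.leaf 6298)) (.node (.leaf 3438) (.leaf 0))) (.node (.node (.leaf 5544) (.leaf 0)) (.node (.leaf 9253) (.leaf 0)))))) (.node (.node (.node (.node (.node (.leaf 8908) (.leaf 15110)) (.node (.leaf 16553) (.leaf 0))) (.node (.node (.leaf 16375) (.leaf 16167)) (.node (.leaf 35) (.leaf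 0)))) (.node (.node (.node (.leaf 15425) (.leaf 10531)) (.node (.leaf 12603) (.leaf 0))) (.node (.node (.leaf 6627) (.leaf 0)) (.node (.leaf 20146) (.leaf 0))))) (.node (.node (.node (.node (.leaf 9910) (.leaf 18354)) (.node (.leaf 13953) (.leaf 0))) (.node (.node (.leaf 8948) (.leaf 0)) (.node (.leaf 18523) (.leaf 0)))) (.node (.node (.node (.leaf 11329) (.leaf 13016)) (.node (.leaf 15538) (.leaf 0))) (.node (.node (.leaf 4166) (.leaf 0)) (.node (.leaf 8823) (.leaf 0)))))))))

/-- part of a table -/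
def ordK108 : Trie := (.node (.node (.node (.node (.node (.node (.node (.node (.leaf 4624) (.leaf 18805)) (.node (.leaf 5161) (.leaf 0))) (.node (.node (.leaf 18283) (.leaf 16548)) (.node (.leaf 2647) (.leaf 0)))) (.node (.node (.node (.leaf 17222) (.leaf 10014)) (.node (.leaf 4863) (.leaf 0))) (.node (.node (.leaf 3009) (.leaf 0)) (.node (.leaf 14176) (.leaf 0))))) (.node (.node (.node (.node (.leaf 21146) (.leaf 19186)) (.node (.leaf 8928) (.leaf 0))) (.node (.node (.leaf 3646) (.leaf 0)) (.node (.leaf 13232) (.leaf 0)))) (.node (.node (.node (.leaf 21208) (.leaf 4494)) (.node (.leaf 14270) (.leaf 0))) (.node (.node (.leaf 10574) (.leaf 0)) (.node (.leaf 4907) (.leaf 0)))))) (.node (.node (.node (.node (.node (.leaf 3563) (.leaf 18561)) (.node (.leaf 17806) (.leaf 0))) (.node (.node (.leaf 12081) (.leaf 13359)) (.node (.leaf 706) (.leaf 0)))) (.node (.node (.node (.leaf 13711) (.leaf 14422)) (.node (.leaf 7030) (.leaf 0))) (.node (.node (.leaf 12699) (.leaf 0)) (.node (.leaf 14572) (.leaf 0)))))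 (.node (.node (.node (.node (.leaf 18465) (.leaf 18934)) (.node (.leaf 21119) (.leaf 0))) (.node (.node (.leaf 12872) (.leaf 0)) (.node (.leaf 19438) (.leaf 0)))) (.node (.node (.node (.leaf 18770) (.leaf 13574)) (.node (.leaf 4527) (.leaf 0))) (.node (.node (.leaf 17002) (.leaf 0)) (.node (.leaf 13238) (.leaf 0))))))) (.node (.node (.node (.node (.node (.node (.leaf 13697) (.leaf 3095)) (.node (.leaf 11814) (.leaf 0))) (.node (.node (.leaf 13420) (.leaf 16834)) (.node (.leaf 19031) (.leaf 0)))) (.node (.node (.node (.leaf 20201) (.leaf 20668)) (.node (.leaf 13073) (.leaf 0))) (.node (.node (.leaf 14612) (.leaf 0)) (.node (.leaf 21477) (.leaf 0))))) (.node (.node (.node (.node (.leaf 10589) (.leaf 18532)) (.node (.leaf 19551) (.leaf 0))) (.node (.node (.leaf 15060) (.leaf 0)) (.node (.leaf 15885) (.leaf 0)))) (.node (.node (.node (.leaf 15800) (.leaf 17957)) (.node (.leaf 14491) (.leaf 0))) (.node (.node (.leaf 15821) (.leaf 0)) (.node (.leaf 13053) (.leaf 0)))))) (.node (.node (.node (.node (.node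 (.leaf 16405) (.leaf 18648)) (.node (.leaf 5334) (.leaf 0))) (.node (.node (.leaf 19827) (.leaf 14661)) (.node (.leaf 940) (.leaf 0)))) (.node (.node (.node (.leaf 2074) (.leaf 4950)) (.node (.leaf 12136) (.leaf 0))) (.node (.node (.leaf 10500) (.leaf 0)) (.node (.leaf 1193) (.leaf 0))))) (.node (.node (.node (.node (.leaf 10475) (.leaf 14198)) (.node (.leaf 17443) (.leaf 0))) (.node (.node (.leaf 18658) (.leaf 0)) (.node (.leaf 4320) (.leaf 0)))) (.node (.node (.node (.leaf 12233) (.leaf 11309)) (.node (.leaf 11194) (.leaf 0))) (.node (.node (.leaf 18207) (.leaf 0)) (.node (.leaf 14614) (.leaf 0)))))))) (.node (.node (.node (.node (.node (.node (.node (.leaf 6978) (.leaf 2443)) (.node (.leaf 9793) (.leaf 0))) (.node (.node (.leaf 19759) (.leaf 2137)) (.node (.leaf 20394) (.leaf 0)))) (.node (.node (.node (.leaf 19018) (.leaf 19987)) (.node (.leaf 14962) (.leaf 0))) (.node (.node (.leaf 2015) (.leaf 0)) (.node (.leaf 2524) (.leaf 0))))) (.node (.node (.node (.node (.leaf 6891) (.leaf 6049)) (.node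 (.leaf 3906) (.leaf 0))) (.node (.node (.leaf 12886) (.leaf 0)) (.node (.leaf 14475) (.leaf 0)))) (.node (.node (.node (.leaf 15777) (.leaf 15581)) (.node (.leaf 13056) (.leaf 0))) (.node (.node (.leaf 8927) (.leaf 0)) (.node (.leaf 9277) (.leaf 0)))))) (.node (.node (.node (.node (.node (.leaf 9194) (.leaf 7872)) (.node (.leaf 9739) (.leaf 0))) (.node (.node (.leaf 21137) (.leaf 5551)) (.node (.leaf 16622) (.leaf 0)))) (.node (.node (.node (.leaf 571) (.leaf 21045)) (.node (.leaf 18461) (.leaf 0))) (.node (.node (.leaf 6217) (.leaf 0)) (.node (.leaf 4447) (.leaf 0))))) (.node (.node (.node (.node (.leaf 9925) (.leaf 8266)) (.node (.leaf 12472) (.leaf 0))) (.node (.node (.leaf 1987) (.leaf 0)) (.node (.leaf 4731) (.leaf 0)))) (.node (.node (.node (.leaf 1374) (.leaf 274)) (.node (.leaf 9459) (.leaf 0))) (.node (.node (.leaf 12590) (.leaf 0)) (.node (.leaf 2731) (.leaf 0))))))) (.node (.node (.node (.node (.node (.node (.leaf 1315) (.leaf 2251)) (.node (.leaf 15347) (.leaf 0))) (.node (.node (.leaf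 18005) (.leaf 2667)) (.node (.leaf 3659) (.leaf 0)))) (.node (.node (.node (.leaf 10433) (.leaf 8350)) (.node (.leaf 19514) (.leaf 0))) (.node (.node (.leaf 16788) (.leaf 0)) (.node (.leaf 5370) (.leaf 0))))) (.node (.node (.node (.node (.leaf 6886) (.leaf 18771)) (.node (.leaf 13491) (.leaf 0))) (.node (.node (.leaf 17037) (.leaf 0)) (.node (.leaf 5488) (.leaf 0)))) (.node (.node (.node (.leaf 10450) (.leaf 15594)) (.node (.leaf 20319) (.leaf 0))) (.node (.node (.leaf 15496) (.leaf 0)) (.node (.leaf 7124) (.leaf 0)))))) (.node (.node (.node (.node (.node (.leaf 21051) (.leaf 12194)) (.node (.leaf 15326) (.leaf 0))) (.node (.node (.leaf 7423) (.leaf 9209)) (.node (.leaf 17656) (.leaf 0)))) (.node (.node (.node (.leaf 20173) (.leaf 12709)) (.node (.leaf 7184) (.leaf 0))) (.node (.node (.leaf 2387) (.leaf 0)) (.node (.leaf 13391) (.leaf 0))))) (.node (.node (.node (.node (.leaf 16176) (.leaf 6823)) (.node (.leaf 316) (.leaf 0))) (.node (.node (.leaf 148) (.leaf 0)) (.node (.leaf 3573) (.leaf 0))))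 (.node (.node (.node (.leaf 12857) (.leaf 14367)) (.node (.leaf 13499) (.leaf 0))) (.node (.node (.leaf 20764) (.leaf 0)) (.node (.leaf 6447) (.leaf 0)))))))))

/-- part of a table -/
def ordK109 : Trie := (.node (.node (.node (.node (.node (.node (.node (.node (.leaf 13345) (.leaf 3725)) (.node (.leaf 19739) (.leaf 0))) (.node (.node (.leaf 11846) (.leaf 14414)) (.node (.leaf 11621) (.leaf 0)))) (.node (.node (.node (.leaf 20372) (.leaf 10883)) (.node (.leaf 18395) (.leaf 0))) (.node (.node (.leaf 4839) (.leaf 0)) (.node (.leaf 8073) (.leaf 0))))) (.node (.node (.node (.node (.leaf 5618) (.leaf 14365)) (.node (.leaf 13807) (.leaf 0))) (.node (.node (.leaf 8933) (.leaf 0)) (.node (.leaf 1711) (.leaf 0)))) (.node (.node (.node (.leaf 2412) (.leaf 18054)) (.node (.leaf 20892) (.leaf 0))) (.node (.node (.leaf 4302) (.leaf 0)) (.node (.leaf 10285) (.leaf 0)))))) (.node (.node (.node (.node (.node (.leaf 430) (.leaf 3060)) (.node (.leaf 15325) (.leaf 0))) (.node (.node (.leaf 15833) (.leaf 3055)) (.node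 (.leaf 7055) (.leaf 0)))) (.node (.node (.node (.leaf 7914) (.leaf 3839)) (.node (.leaf 8189) (.leaf 0))) (.node (.node (.leaf 178) (.leaf 0)) (.node (.leaf 5489) (.leaf 0))))) (.node (.node (.node (.node (.leaf 15537) (.leaf 4892)) (.node (.leaf 11780) (.leaf 0))) (.node (.node (.leaf 4559) (.leaf 0)) (.node (.leaf 21348) (.leaf 0)))) (.node (.node (.node (.leaf 4294) (.leaf 10004)) (.node (.leaf 5172) (.leaf 0))) (.node (.node (.leaf 19392) (.leaf 0)) (.node (.leaf 9137) (.leaf 0))))))) (.node (.node (.node (.node (.node (.node (.leaf 17241) (.leaf 14277)) (.node (.leaf 17680) (.leaf 0))) (.node (.node (.leaf 20560) (.leaf 5355)) (.node (.leaf 17318) (.leaf 0)))) (.node (.node (.node (.leaf 18641) (.leaf 12942)) (.node (.leaf 12907) (.leaf 0))) (.node (.node (.leaf 2598) (.leaf 0)) (.node (.leaf 21140) (.leaf 0))))) (.node (.node (.node (.node (.leaf 1424) (.leaf 20253)) (.node (.leaf 7706) (.leaf 0))) (.node (.node (.leaf 17945) (.leaf 0)) (.node (.leaf 10214) (.leaf 0)))) (.node (.node (.node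 (.leaf 2110) (.leaf 1164)) (.node (.leaf 19617) (.leaf 0))) (.node (.node (.leaf 20513) (.leaf 0)) (.node (.leaf 6537) (.leaf 0)))))) (.node (.node (.node (.node (.node (.leaf 10703) (.leaf 942)) (.node (.leaf 21176) (.leaf 0))) (.node (.node (.leaf 981) (.leaf 793)) (.node (.leaf 8008) (.leaf 0)))) (.node (.node (.node (.leaf 6401) (.leaf 10145)) (.node (.leaf 5385) (.leaf 0))) (.node (.node (.leaf 8809) (.leaf 0)) (.node (.leaf 10116) (.leaf 0))))) (.node (.node (.node (.node (.leaf 16472) (.leaf 18424)) (.node (.leaf 12760) (.leaf 0))) (.node (.node (.leaf 14868) (.leaf 0)) (.node (.leaf 2762) (.leaf 0)))) (.node (.node (.node (.leaf 15456) (.leaf 13854)) (.node (.leaf 3252) (.leaf 0))) (.node (.node (.leaf 19544) (.leaf 0)) (.node (.leaf 12605) (.leaf 0)))))))) (.node (.node (.node (.node (.node (.node (.node (.leaf 16137) (.leaf 9077)) (.node (.leaf 285) (.leaf 0))) (.node (.node (.leaf 3532) (.leaf 20623)) (.node (.leaf 15783) (.leaf 0)))) (.node (.node (.node (.leaf 16172) (.leaf 1612)) (.node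 (.leaf 3698) (.leaf 0))) (.node (.node (.leaf 21302) (.leaf 0)) (.node (.leaf 12470) (.leaf 0))))) (.node (.node (.node (.node (.leaf 12323) (.leaf 10817)) (.node (.leaf 6526) (.leaf 0))) (.node (.node (.leaf 15495) (.leaf 0)) (.node (.leaf 4861) (.leaf 0)))) (.node (.node (.node (.leaf 16695) (.leaf 12965)) (.node (.leaf 12166) (.leaf 0))) (.node (.node (.leaf 20952) (.leaf 0)) (.node (.leaf 10946) (.leaf 0)))))) (.node (.node (.node (.node (.node (.leaf 5085) (.leaf 10737)) (.node (.leaf 21047) (.leaf 0))) (.node (.node (.leaf 15746) (.leaf 10622)) (.node (.leaf 6048) (.leaf 0)))) (.node (.node (.node (.leaf 11023) (.leaf 7816)) (.node (.leaf 14686) (.leaf 0))) (.node (.node (.leaf 17972) (.leaf 0)) (.node (.leaf 9047) (.leaf 0))))) (.node (.node (.node (.node (.leaf 1679) (.leaf 6280)) (.node (.leaf 3147) (.leaf 0))) (.node (.node (.leaf 15100) (.leaf 0)) (.node (.leaf 11400) (.leaf 0)))) (.node (.node (.node (.leaf 21261) (.leaf 14521)) (.node (.leaf 15752) (.leaf 0))) (.node (.node (.leaf 5710)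 (.leaf 0)) (.node (.leaf 12446) (.leaf 0))))))) (.node (.node (.node (.node (.node (.node (.leaf 4594) (.leaf 16754)) (.node (.leaf 6564) (.leaf 0))) (.node (.node (.leaf 3349) (.leaf 11832)) (.node (.leaf 10820) (.leaf 0)))) (.node (.node (.node (.leaf 12398) (.leaf 5742)) (.node (.leaf 8168) (.leaf 0))) (.node (.node (.leaf 18799) (.leaf 0)) (.node (.leaf 10631) (.leaf 0))))) (.node (.node (.node (.node (.leaf 16217) (.leaf 5506)) (.node (.leaf 8900) (.leaf 0))) (.node (.node (.leaf 154) (.leaf 0)) (.node (.leaf 3278) (.leaf 0)))) (.node (.node (.node (.leaf 10645) (.leaf 4392)) (.node (.leaf 10561) (.leaf 0))) (.node (.node (.leaf 23) (.leaf 0)) (.node (.leaf 7496) (.leaf 0)))))) (.node (.node (.node (.node (.node (.leaf 8398) (.leaf 423)) (.node (.leaf 10067) (.leaf 0))) (.node (.node (.leaf 4673) (.leaf 16222)) (.node (.leaf 8514) (.leaf 0)))) (.node (.node (.node (.leaf 2876) (.leaf 1213)) (.node (.leaf 2380) (.leaf 0))) (.node (.node (.leaf 2810) (.leaf 0)) (.node (.leaf 5965) (.leaf 0)))))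 (.node (.node (.node (.node (.leaf 7569) (.leaf 6574)) (.node (.leaf 2882) (.leaf 0))) (.node (.node (.leaf 19216) (.leaf 0)) (.node (.leaf 9749) (.leaf 0)))) (.node (.node (.node (.leaf 10156) (.leaf 12556)) (.node (.leaf 465) (.leaf 0))) (.node (.node (.leaf 10113) (.leaf 0)) (.node (.leaf 14195) (.leaf 0)))))))))

/-- part of a table -/
def ordK110 : Trie := (.node (.node (.node (.node (.node (.node (.node (.node (.leaf 20582) (.leaf 7167)) (.node (.leaf 299) (.leaf 0))) (.node (.node (.leaf 4027) (.leaf 16984)) (.node (.leaf 17791) (.leaf 0)))) (.node (.node (.node (.leaf 16165) (.leaf 3483)) (.node (.leaf 10466) (.leaf 0))) (.node (.node (.leaf 8100) (.leaf 0)) (.node (.leaf 9762) (.leaf 0))))) (.node (.node (.node (.node (.leaf 3021) (.leaf 15843)) (.node (.leaf 12548) (.leaf 0))) (.node (.node (.leaf 11076) (.leaf 0)) (.node (.leaf 17089) (.leaf 0)))) (.node (.node (.node (.leaf 17267) (.leaf 4230)) (.node (.leaf 13172) (.leaf 0))) (.node (.node (.leaf 17512) (.leaf 0)) (.node (.leaf 14555)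 (.leaf 0)))))) (.node (.node (.node (.node (.node (.leaf 20734) (.leaf 5009)) (.node (.leaf 14785) (.leaf 0))) (.node (.node (.leaf 15848) (.leaf 16703)) (.node (.leaf 7259) (.leaf 0)))) (.node (.node (.node (.leaf 14085) (.leaf 18925)) (.node (.leaf 13060) (.leaf 0))) (.node (.node (.leaf 8395) (.leaf 0)) (.node (.leaf 2189) (.leaf 0))))) (.node (.node (.node (.node (.leaf 18482) (.leaf 897)) (.node (.leaf 19823) (.leaf 0))) (.node (.node (.leaf 12985) (.leaf 0)) (.node (.leaf 9765) (.leaf 0)))) (.node (.node (.node (.leaf 14379) (.leaf 3896)) (.node (.leaf 16885) (.leaf 0))) (.node (.node (.leaf 18683) (.leaf 0)) (.node (.leaf 15623) (.leaf 0))))))) (.node (.node (.node (.node (.node (.node (.leaf 12628) (.leaf 8178)) (.node (.leaf 340) (.leaf 0))) (.node (.node (.leaf 8345) (.leaf 1616)) (.node (.leaf 11549) (.leaf 0)))) (.node (.node (.node (.leaf 12762) (.leaf 4304)) (.node (.leaf 11039) (.leaf 0))) (.node (.node (.leaf 17764) (.leaf 0)) (.node (.leaf 3233) (.leaf 0))))) (.node (.node (.node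 (.node (.leaf 17870) (.leaf 3846)) (.node (.leaf 14313) (.leaf 0))) (.node (.node (.leaf 13472) (.leaf 0)) (.node (.leaf 18243) (.leaf 0)))) (.node (.node (.node (.leaf 17723) (.leaf 2001)) (.node (.leaf 4560) (.leaf 0))) (.node (.node (.leaf 8637) (.leaf 0)) (.node (.leaf 17919) (.leaf 0)))))) (.node (.node (.node (.node (.node (.leaf 7075) (.leaf 9304)) (.node (.leaf 1929) (.leaf 0))) (.node (.node (.leaf 21381) (.leaf 4619)) (.node (.leaf 6070) (.leaf 0)))) (.node (.node (.node (.leaf 19670) (.leaf 9447)) (.node (.leaf 9996) (.leaf 0))) (.node (.node (.leaf 6882) (.leaf 0)) (.node (.leaf 13197) (.leaf 0))))) (.node (.node (.node (.node (.leaf 2525) (.leaf 3058)) (.node (.leaf 5957) (.leaf 0))) (.node (.node (.leaf 8543) (.leaf 0)) (.node (.leaf 4932) (.leaf 0)))) (.node (.node (.node (.leaf 9126) (.leaf 8113)) (.node (.leaf 16558) (.leaf 0))) (.node (.node (.leaf 7074) (.leaf 0)) (.node (.leaf 10711) (.leaf 0)))))))) (.node (.node (.node (.node (.node (.node (.node (.leaf 17922) (.leaf 10839))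 (.node (.leaf 14860) (.leaf 0))) (.node (.node (.leaf 7265) (.leaf 512)) (.node (.leaf 855) (.leaf 0)))) (.node (.node (.node (.leaf 6170) (.leaf 4034)) (.node (.leaf 4462) (.leaf 0))) (.node (.node (.leaf 3261) (.leaf 0)) (.node (.leaf 3701) (.leaf 0))))) (.node (.node (.node (.node (.leaf 12717) (.leaf 5765)) (.node (.leaf 5070) (.leaf 0))) (.node (.node (.leaf 17411) (.leaf 0)) (.node (.leaf 20760) (.leaf 0)))) (.node (.node (.node (.leaf 16976) (.leaf 4699)) (.node (.leaf 16132) (.leaf 0))) (.node (.node (.leaf 20060) (.leaf 0)) (.node (.leaf 10980) (.leaf 0)))))) (.node (.node (.node (.node (.node (.leaf 12875) (.leaf 14849)) (.node (.leaf 5110) (.leaf 0))) (.node (.node (.leaf 16027) (.leaf 297)) (.node (.leaf 3208) (.leaf 0)))) (.node (.node (.node (.leaf 1712) (.leaf 16599)) (.node (.leaf 6954) (.leaf 0))) (.node (.node (.leaf 20322) (.leaf 0)) (.node (.leaf 20938) (.leaf 0))))) (.node (.node (.node (.node (.leaf 794) (.leaf 17185)) (.node (.leaf 4676) (.leaf 0))) (.node (.node (.leaf 17550)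 (.leaf 0)) (.node (.leaf 1847) (.leaf 0)))) (.node (.node (.node (.leaf 4357) (.leaf 13541)) (.node (.leaf 4183) (.leaf 0))) (.node (.node (.leaf 12738) (.leaf 0)) (.node (.leaf 13881) (.leaf 0))))))) (.node (.node (.node (.node (.node (.node (.leaf 10257) (.leaf 5943)) (.node (.leaf 2004) (.leaf 0))) (.node (.node (.leaf 8463) (.leaf 4374)) (.node (.leaf 909) (.leaf 0)))) (.node (.node (.node (.leaf 6593) (.leaf 10034)) (.node (.leaf 6782) (.leaf 0))) (.node (.node (.leaf 15605) (.leaf 0)) (.node (.leaf 10914) (.leaf 0))))) (.node (.node (.node (.node (.leaf 14891) (.leaf 12645)) (.node (.leaf 2986) (.leaf 0))) (.node (.node (.leaf 13076) (.leaf 0)) (.node (.leaf 6773) (.leaf 0)))) (.node (.node (.node (.leaf 13808) (.leaf 6314)) (.node (.leaf 10452) (.leaf 0))) (.node (.node (.leaf 17013) (.leaf 0)) (.node (.leaf 1430) (.leaf 0)))))) (.node (.node (.node (.node (.node (.leaf 1596) (.leaf 10030)) (.node (.leaf 5645) (.leaf 0))) (.node (.node (.leaf 6986) (.leaf 12248)) (.node (.leaf 11835) (.leaf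 0)))) (.node (.node (.node (.leaf 17481) (.leaf 10311)) (.node (.leaf 2315) (.leaf 0))) (.node (.node (.leaf 11147) (.leaf 0)) (.node (.leaf 991) (.leaf 0))))) (.node (.node (.node (.node (.leaf 12428) (.leaf 8999)) (.node (.leaf 15469) (.leaf 0))) (.node (.node (.leaf 20303) (.leaf 0)) (.node (.leaf 13629) (.leaf 0)))) (.node (.node (.node (.leaf 2989) (.leaf 19359)) (.node (.leaf 15296) (.leaf 0))) (.node (.node (.leaf 19010) (.leaf 0)) (.node (.leaf 8971) (.leaf 0)))))))))

/-- part of a table -/
def ordK111 : Trie := (.node (.node (.node (.node (.node (.node (.node (.node (.leaf 12050) (.leaf 12337)) (.node (.leaf 4390) (.leaf 0))) (.node (.node (.leaf 6569) (.leaf 764)) (.node (.leaf 14705) (.leaf 0)))) (.node (.node (.node (.leaf 12934) (.leaf 21295)) (.node (.leaf 9786) (.leaf 0))) (.node (.node (.leaf 16613) (.leaf 0)) (.node (.leaf 11085) (.leaf 0))))) (.node (.node (.node (.node (.leaf 14732) (.leaf 15056)) (.node (.leaf 19176) (.leaf 0))) (.node (.node (.leaf 1970) (.leaf 0)) (.node (.leaf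 15476) (.leaf 0)))) (.node (.node (.node (.leaf 17382) (.leaf 8665)) (.node (.leaf 3167) (.leaf 0))) (.node (.node (.leaf 13185) (.leaf 0)) (.node (.leaf 1723) (.leaf 0)))))) (.node (.node (.node (.node (.node (.leaf 15673) (.leaf 8186)) (.node (.leaf 1980) (.leaf 0))) (.node (.node (.leaf 12529) (.leaf 6482)) (.node (.leaf 5189) (.leaf 0)))) (.node (.node (.node (.leaf 12579) (.leaf 6988)) (.node (.leaf 12089) (.leaf 0))) (.node (.node (.leaf 37) (.leaf 0)) (.node (.leaf 2140) (.leaf 0))))) (.node (.node (.node (.node (.leaf 2641) (.leaf 4545)) (.node (.leaf 20601) (.leaf 0))) (.node (.node (.leaf 4454) (.leaf 0)) (.node (.leaf 8070) (.leaf 0)))) (.node (.node (.node (.leaf 771) (.leaf 13438)) (.node (.leaf 751) (.leaf 0))) (.node (.node (.leaf 19785) (.leaf 0)) (.node (.leaf 2234) (.leaf 0))))))) (.node (.node (.node (.node (.node (.node (.leaf 2290) (.leaf 7877)) (.node (.leaf 2929) (.leaf 0))) (.node (.node (.leaf 2191) (.leaf 20779)) (.node (.leaf 4843) (.leaf 0)))) (.node (.node (.node (.leaf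 18011) (.leaf 20083)) (.node (.leaf 6248) (.leaf 0))) (.node (.node (.leaf 6679) (.leaf 0)) (.node (.leaf 4667) (.leaf 0))))) (.node (.node (.node (.node (.leaf 5290) (.leaf 17773)) (.node (.leaf 7264) (.leaf 0))) (.node (.node (.leaf 17247) (.leaf 0)) (.node (.leaf 19509) (.leaf 0)))) (.node (.node (.node (.leaf 2585) (.leaf 17760)) (.node (.leaf 8564) (.leaf 0))) (.node (.node (.leaf 6185) (.leaf 0)) (.node (.leaf 144) (.leaf 0)))))) (.node (.node (.node (.node (.node (.leaf 16577) (.leaf 4167)) (.node (.leaf 12957) (.leaf 0))) (.node (.node (.leaf 14975) (.leaf 12925)) (.node (.leaf 1058) (.leaf 0)))) (.node (.node (.node (.leaf 17633) (.leaf 664)) (.node (.leaf 19986) (.leaf 0))) (.node (.node (.leaf 17709) (.leaf 0)) (.node (.leaf 16569) (.leaf 0))))) (.node (.node (.node (.node (.leaf 11694) (.leaf 17659)) (.node (.leaf 5239) (.leaf 0))) (.node (.node (.leaf 16083) (.leaf 0)) (.node (.leaf 4648) (.leaf 0)))) (.node (.node (.node (.leaf 13913) (.leaf 14692)) (.node (.leaf 1280) (.leaf 0))) (.node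 (.node (.leaf 14168) (.leaf 0)) (.node (.leaf 5708) (.leaf 0)))))))) (.node (.node (.node (.node (.node (.node (.node (.leaf 18721) (.leaf 20042)) (.node (.leaf 18609) (.leaf 0))) (.node (.node (.leaf 19796) (.leaf 6339)) (.node (.leaf 7384) (.leaf 0)))) (.node (.node (.node (.leaf 10009) (.leaf 1008)) (.node (.leaf 9210) (.leaf 0))) (.node (.node (.leaf 6563) (.leaf 0)) (.node (.leaf 11206) (.leaf 0))))) (.node (.node (.node (.node (.leaf 5577) (.leaf 10105)) (.node (.leaf 15771) (.leaf 0))) (.node (.node (.leaf 12742) (.leaf 0)) (.node (.leaf 1293) (.leaf 0)))) (.node (.node (.node (.leaf 16236) (.leaf 15674)) (.node (.leaf 15431) (.leaf 0))) (.node (.node (.leaf 12007) (.leaf 0)) (.node (.leaf 4225) (.leaf 0)))))) (.node (.node (.node (.node (.node (.leaf 214) (.leaf 4705)) (.node (.leaf 10431) (.leaf 0))) (.node (.node (.leaf 383) (.leaf 15563)) (.node (.leaf 193) (.leaf 0)))) (.node (.node (.node (.leaf 15486) (.leaf 16528)) (.node (.leaf 12585) (.leaf 0))) (.node (.node (.leaf 3613) (.leaf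 0)) (.node (.leaf 1350) (.leaf 0))))) (.node (.node (.node (.node (.leaf 12075) (.leaf 11554)) (.node (.leaf 20537) (.leaf 0))) (.node (.node (.leaf 8222) (.leaf 0)) (.node (.leaf 6063) (.leaf 0)))) (.node (.node (.node (.leaf 6144) (.leaf 17814)) (.node (.leaf 15531) (.leaf 0))) (.node (.node (.leaf 4988) (.leaf 0)) (.node (.leaf 17071) (.leaf 0))))))) (.node (.node (.node (.node (.node (.node (.leaf 7747) (.leaf 4649)) (.node (.leaf 11326) (.leaf 0))) (.node (.node (.leaf 6570) (.leaf 3928)) (.node (.leaf 14938) (.leaf 0)))) (.node (.node (.node (.leaf 15624) (.leaf 1472)) (.node (.leaf 15797) (.leaf 0))) (.node (.node (.leaf 1683) (.leaf 0)) (.node (.leaf 9208) (.leaf 0))))) (.node (.node (.node (.node (.leaf 1423) (.leaf 3093)) (.node (.leaf 10557) (.leaf 0))) (.node (.node (.leaf 9342) (.leaf 0)) (.node (.leaf 15203) (.leaf 0)))) (.node (.node (.node (.leaf 15711) (.leaf 6262)) (.node (.leaf 10915) (.leaf 0))) (.node (.node (.leaf 7573) (.leaf 0)) (.node (.leaf 14136) (.leaf 0)))))) (.node (.node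 (.node (.node (.node (.leaf 15602) (.leaf 14214)) (.node (.leaf 4272) (.leaf 0))) (.node (.node (.leaf 10256) (.leaf 17007)) (.node (.leaf 2913) (.leaf 0)))) (.node (.node (.node (.leaf 18900) (.leaf 17373)) (.node (.leaf 540) (.leaf 0))) (.node (.node (.leaf 6920) (.leaf 0)) (.node (.leaf 18112) (.leaf 0))))) (.node (.node (.node (.node (.leaf 14645) (.leaf 2256)) (.node (.leaf 18544) (.leaf 0))) (.node (.node (.leaf 12144) (.leaf 0)) (.node (.leaf 9524) (.leaf 0)))) (.node (.node (.node (.leaf 17072) (.leaf 13012)) (.node (.leaf 9484) (.leaf 0))) (.node (.node (.leaf 663) (.leaf 0)) (.node (.leaf 8232) (.leaf 0)))))))))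

/-- part of a table -/
def ordK112 : Trie := (.node (.node (.node (.node (.node (.node (.node (.node (.leaf 15844) (.leaf 12036)) (.node (.leaf 19866) (.leaf 0))) (.node (.node (.leaf 5621) (.leaf 3026)) (.node (.leaf 11963) (.leaf 0)))) (.node (.node (.node (.leaf 1236) (.leaf 8149)) (.node (.leaf 11953) (.leaf 0))) (.node (.node (.leaf 19164) (.leaf 0)) (.node (.leaf 21209) (.leaf 0))))) (.node (.node (.node (.node (.leaf 9627) (.leaf 19301)) (.node (.leaf 4703) (.leaf 0))) (.node (.node (.leaf 8695) (.leaf 0)) (.node (.leaf 2642) (.leaf 0)))) (.node (.node (.node (.leaf 7977) (.leaf 5142)) (.node (.leaf 10930) (.leaf 0))) (.node (.node (.leaf 5440) (.leaf 0)) (.node (.leaf 2801) (.leaf 0)))))) (.node (.node (.node (.node (.node (.leaf 8253) (.leaf 15988)) (.node (.leaf 13138) (.leaf 0))) (.node (.node (.leaf 21279) (.leaf 1920)) (.node (.leaf 7330) (.leaf 0)))) (.node (.node (.node (.leaf 19415) (.leaf 3546)) (.node (.leaf 14328) (.leaf 0))) (.node (.node (.leaf 17731) (.leaf 0)) (.node (.leaf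 19914) (.leaf 0))))) (.node (.node (.node (.node (.leaf 11857) (.leaf 5940)) (.node (.leaf 8720) (.leaf 0))) (.node (.node (.leaf 14347) (.leaf 0)) (.node (.leaf 12103) (.leaf 0)))) (.node (.node (.node (.leaf 17638) (.leaf 10960)) (.node (.leaf 12953) (.leaf 0))) (.node (.node (.leaf 3064) (.leaf 0)) (.node (.leaf 11908) (.leaf 0))))))) (.node (.node (.node (.node (.node (.node (.leaf 7407) (.leaf 15375)) (.node (.leaf 7503) (.leaf 0))) (.node (.node (.leaf 7881) (.leaf 1671)) (.node (.leaf 17953) (.leaf 0)))) (.node (.node (.node (.leaf 4370) (.leaf 2243)) (.node (.leaf 7343) (.leaf 0))) (.node (.node (.leaf 17629) (.leaf 0)) (.node (.leaf 20665) (.leaf 0))))) (.node (.node (.node (.node (.leaf 8165) (.leaf 550)) (.node (.leaf 16780) (.leaf 0))) (.node (.node (.leaf 18895) (.leaf 0)) (.node (.leaf 20480) (.leaf 0)))) (.node (.node (.node (.leaf 15185) (.leaf 814)) (.node (.leaf 12484) (.leaf 0))) (.node (.node (.leaf 5555) (.leaf 0)) (.node (.leaf 5409) (.leaf 0)))))) (.node (.node (.node (.node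 (.node (.leaf 18988) (.leaf 10442)) (.node (.leaf 486) (.leaf 0))) (.node (.node (.leaf 5480) (.leaf 16733)) (.node (.leaf 2670) (.leaf 0)))) (.node (.node (.node (.leaf 7012) (.leaf 14449)) (.node (.leaf 19833) (.leaf 0))) (.node (.node (.leaf 11401) (.leaf 0)) (.node (.leaf 14733) (.leaf 0))))) (.node (.node (.node (.node (.leaf 10576) (.leaf 16894)) (.node (.leaf 17464) (.leaf 0))) (.node (.node (.leaf 16045) (.leaf 0)) (.node (.leaf 8269) (.leaf 0)))) (.node (.node (.node (.leaf 12128) (.leaf 19328)) (.node (.leaf 5265) (.leaf 0))) (.node (.node (.leaf 13151) (.leaf 0)) (.node (.leaf 9494) (.leaf 0)))))))) (.node (.node (.node (.node (.node (.node (.node (.leaf 15784) (.leaf 656)) (.node (.leaf 16070) (.leaf 0))) (.node (.node (.leaf 6735) (.leaf 2671)) (.node (.leaf 12989) (.leaf 0)))) (.node (.node (.node (.leaf 19026) (.leaf 3814)) (.node (.leaf 6493) (.leaf 0))) (.node (.node (.leaf 20109) (.leaf 0)) (.node (.leaf 11988) (.leaf 0))))) (.node (.node (.node (.node (.leaf 11679) (.leaf 20063))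 (.node (.leaf 10716) (.leaf 0))) (.node (.node (.leaf 2529) (.leaf 0)) (.node (.leaf 3082) (.leaf 0)))) (.node (.node (.node (.leaf 17225) (.leaf 12565)) (.node (.leaf 20681) (.leaf 0))) (.node (.node (.leaf 17439) (.leaf 0)) (.node (.leaf 12448) (.leaf 0)))))) (.node (.node (.node (.node (.node (.leaf 16413) (.leaf 11289)) (.node (.leaf 12160) (.leaf 0))) (.node (.node (.leaf 894) (.leaf 20208)) (.node (.leaf 6562) (.leaf 0)))) (.node (.node (.node (.leaf 3947) (.leaf 12851)) (.node (.leaf 6114) (.leaf 0))) (.node (.node (.leaf 8098) (.leaf 0)) (.node (.leaf 15916) (.leaf 0))))) (.node (.node (.node (.node (.leaf 13556) (.leaf 3640)) (.node (.leaf 20485) (.leaf 0))) (.node (.node (.leaf 7908) (.leaf 0)) (.node (.leaf 13346) (.leaf 0)))) (.node (.node (.node (.leaf 10440) (.leaf 4367)) (.node (.leaf 17710) (.leaf 0))) (.node (.node (.leaf 1672) (.leaf 0)) (.node (.leaf 14813) (.leaf 0))))))) (.node (.node (.node (.node (.node (.node (.leaf 14473) (.leaf 5614)) (.node (.leaf 8727) (.leaf 0))) (.node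 (.node (.leaf 19007) (.leaf 12795)) (.node (.leaf 16037) (.leaf 0)))) (.node (.node (.node (.leaf 12357) (.leaf 8942)) (.node (.leaf 18973) (.leaf 0))) (.node (.node (.leaf 5703) (.leaf 0)) (.node (.leaf 977) (.leaf 0))))) (.node (.node (.node (.node (.leaf 11214) (.leaf 11923)) (.node (.leaf 10607) (.leaf 0))) (.node (.node (.leaf 12618) (.leaf 0)) (.node (.leaf 15731) (.leaf 0)))) (.node (.node (.node (.leaf 2430) (.leaf 15719)) (.node (.leaf 12687) (.leaf 0))) (.node (.node (.leaf 4510) (.leaf 0)) (.node (.leaf 10937) (.leaf 0)))))) (.node (.node (.node (.node (.node (.leaf 8649) (.leaf 21207)) (.node (.leaf 6812) (.leaf 0))) (.node (.node (.leaf 15395) (.leaf 9711)) (.node (.leaf 12124) (.leaf 0)))) (.node (.node (.node (.leaf 3069) (.leaf 18334)) (.node (.leaf 15311) (.leaf 0))) (.node (.node (.leaf 9894) (.leaf 0)) (.node (.leaf 7574) (.leaf 0))))) (.node (.node (.node (.node (.leaf 19114) (.leaf 8326)) (.node (.leaf 18197) (.leaf 0))) (.node (.node (.leaf 20522) (.leaf 0)) (.node (.leaf 17028)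 (.leaf 0)))) (.node (.node (.node (.leaf 1731) (.leaf 8878)) (.node (.leaf 19867) (.leaf 0))) (.node (.node (.leaf 20051) (.leaf 0)) (.node (.leaf 11204) (.leaf 0)))))))))

/-- part of a table -/
def ordK113 : Trie := (.node (.node (.node (.node (.node (.node (.node (.node (.leaf 38) (.leaf 10827)) (.node (.leaf 8042) (.leaf 0))) (.node (.node (.leaf 21132) (.leaf 12092)) (.node (.leaf 2531) (.leaf 0)))) (.node (.node (.node (.leaf 1392) (.leaf 15272)) (.node (.leaf 16918) (.leaf 0))) (.node (.node (.leaf 4039) (.leaf 0)) (.node (.leaf 5741) (.leaf 0))))) (.node (.node (.node (.node (.leaf 8364) (.leaf 19329)) (.node (.leaf 13992) (.leaf 0))) (.node (.node (.leaf 104) (.leaf 0)) (.node (.leaf 1418) (.leaf 0)))) (.node (.node (.node (.leaf 5686) (.leaf 710)) (.node (.leaf 6330) (.leaf 0))) (.node (.node (.leaf 11290) (.leaf 0)) (.node (.leaf 5504) (.leaf 0)))))) (.node (.node (.node (.node (.node (.leaf 5613) (.leaf 20227)) (.node (.leaf 17197) (.leaf 0))) (.node (.node (.leaf 16534) (.leaf 8618))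 (.node (.leaf 4692) (.leaf 0)))) (.node (.node (.node (.leaf 7774) (.leaf 2114)) (.node (.leaf 3617) (.leaf 0))) (.node (.node (.leaf 8636) (.leaf 0)) (.node (.leaf 20932) (.leaf 0))))) (.node (.node (.node (.node (.leaf 18854) (.leaf 17526)) (.node (.leaf 7494) (.leaf 0))) (.node (.node (.leaf 14192) (.leaf 0)) (.node (.leaf 12573) (.leaf 0)))) (.node (.node (.node (.leaf 13033) (.leaf 12375)) (.node (.leaf 136) (.leaf 0))) (.node (.node (.leaf 3421) (.leaf 0)) (.node (.leaf 2928) (.leaf 0))))))) (.node (.node (.node (.node (.node (.node (.leaf 13066) (.leaf 8880)) (.node (.leaf 12161) (.leaf 0))) (.node (.node (.leaf 7772) (.leaf 789)) (.node (.leaf 7830) (.leaf 0)))) (.node (.node (.node (.leaf 16514) (.leaf 697)) (.node (.leaf 9810) (.leaf 0))) (.node (.node (.leaf 3470) (.leaf 0)) (.node (.leaf 5359) (.leaf 0))))) (.node (.node (.node (.node (.leaf 10041) (.leaf 67)) (.node (.leaf 5514) (.leaf 0))) (.node (.node (.leaf 9052) (.leaf 0)) (.node (.leaf 15266) (.leaf 0)))) (.node (.node (.node (.leaf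 13174) (.leaf 2831)) (.node (.leaf 16169) (.leaf 0))) (.node (.node (.leaf 16785) (.leaf 0)) (.node (.leaf 11210) (.leaf 0)))))) (.node (.node (.node (.node (.node (.leaf 60) (.leaf 21063)) (.node (.leaf 16769) (.leaf 0))) (.node (.node (.leaf 16261) (.leaf 13411)) (.node (.leaf 3129) (.leaf 0)))) (.node (.node (.node (.leaf 10821) (.leaf 17551)) (.node (.leaf 19012) (.leaf 0))) (.node (.node (.leaf 18787) (.leaf 0)) (.node (.leaf 7769) (.leaf 0))))) (.node (.node (.node (.node (.leaf 10353) (.leaf 7893)) (.node (.leaf 451) (.leaf 0))) (.node (.node (.leaf 1275) (.leaf 0)) (.node (.leaf 14289) (.leaf 0)))) (.node (.node (.node (.leaf 8394) (.leaf 16142)) (.node (.leaf 20765) (.leaf 0))) (.node (.node (.leaf 1851) (.leaf 0)) (.node (.leaf 16117) (.leaf 0)))))))) (.node (.node (.node (.node (.node (.node (.node (.leaf 13374) (.leaf 7207)) (.node (.leaf 11381) (.leaf 0))) (.node (.node (.leaf 7076) (.leaf 17615)) (.node (.leaf 9189) (.leaf 0)))) (.node (.node (.node (.leaf 8842) (.leaf 13451)) (.node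 (.leaf 15908) (.leaf 0))) (.node (.node (.leaf 3606) (.leaf 0)) (.node (.leaf 20875) (.leaf 0))))) (.node (.node (.node (.node (.leaf 6450) (.leaf 8012)) (.node (.leaf 813) (.leaf 0))) (.node (.node (.leaf 13617) (.leaf 0)) (.node (.leaf 3305) (.leaf 0)))) (.node (.node (.node (.leaf 19211) (.leaf 5822)) (.node (.leaf 14072) (.leaf 0))) (.node (.node (.leaf 10548) (.leaf 0)) (.node (.leaf 12198) (.leaf 0)))))) (.node (.node (.node (.node (.node (.leaf 2258) (.leaf 7598)) (.node (.leaf 596) (.leaf 0))) (.node (.node (.leaf 8550) (.leaf 15564)) (.node (.leaf 18713) (.leaf 0)))) (.node (.node (.node (.leaf 473) (.leaf 3078)) (.node (.leaf 3952) (.leaf 0))) (.node (.node (.leaf 6309) (.leaf 0)) (.node (.leaf 10247) (.leaf 0))))) (.node (.node (.node (.node (.leaf 776) (.leaf 11262)) (.node (.leaf 18016) (.leaf 0))) (.node (.node (.leaf 8127) (.leaf 0)) (.node (.leaf 18917) (.leaf 0)))) (.node (.node (.node (.leaf 4086) (.leaf 1785)) (.node (.leaf 14610) (.leaf 0))) (.node (.node (.leaf 19148) (.leaf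 0)) (.node (.leaf 12197) (.leaf 0))))))) (.node (.node (.node (.node (.node (.node (.leaf 4827) (.leaf 20618)) (.node (.leaf 7882) (.leaf 0))) (.node (.node (.leaf 15733) (.leaf 18870)) (.node (.leaf 6080) (.leaf 0)))) (.node (.node (.node (.leaf 20873) (.leaf 16104)) (.node (.leaf 7948) (.leaf 0))) (.node (.node (.leaf 11970) (.leaf 0)) (.node (.leaf 4571) (.leaf 0))))) (.node (.node (.node (.node (.leaf 18158) (.leaf 9820)) (.node (.leaf 21442) (.leaf 0))) (.node (.node (.leaf 6000) (.leaf 0)) (.node (.leaf 2617) (.leaf 0)))) (.node (.node (.node (.leaf 20838) (.leaf 17357)) (.node (.leaf 17242) (.leaf 0))) (.node (.node (.leaf 18385) (.leaf 0)) (.node (.leaf 3433) (.leaf 0)))))) (.node (.node (.node (.node (.node (.leaf 16185) (.leaf 1298)) (.node (.leaf 17370) (.leaf 0))) (.node (.node (.leaf 1903) (.leaf 1227)) (.node (.leaf 18764) (.leaf 0)))) (.node (.node (.node (.leaf 19041) (.leaf 18708)) (.node (.leaf 10136) (.leaf 0))) (.node (.node (.leaf 9966) (.leaf 0)) (.node (.leaf 6848) (.leaf 0)))))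 (.node (.node (.node (.node (.leaf 19236) (.leaf 5646)) (.node (.leaf 7216) (.leaf 0))) (.node (.node (.leaf 4760) (.leaf 0)) (.node (.leaf 6640) (.leaf 0)))) (.node (.node (.node (.leaf 2000) (.leaf 369)) (.node (.leaf 4735) (.leaf 0))) (.node (.node (.leaf 12797) (.leaf 0)) (.node (.leaf 17088) (.leaf 0)))))))))

/-- part of a table -/
def ordK114 : Trie := (.node (.node (.node (.node (.node (.node (.node (.node (.leaf 2286) (.leaf 6103)) (.node (.leaf 17514) (.leaf 0))) (.node (.node (.leaf 15969) (.leaf 7641)) (.node (.leaf 5987) (.leaf 0)))) (.node (.node (.node (.leaf 6931) (.leaf 18887)) (.node (.leaf 2465) (.leaf 0))) (.node (.node (.leaf 1322) (.leaf 0)) (.node (.leaf 8349) (.leaf 0))))) (.node (.node (.node (.node (.leaf 18336) (.leaf 21352)) (.node (.leaf 15939) (.leaf 0))) (.node (.node (.leaf 10903) (.leaf 0)) (.node (.leaf 8507) (.leaf 0)))) (.node (.node (.node (.leaf 14253) (.leaf 14900)) (.node (.leaf 7783) (.leaf 0))) (.node (.node (.leaf 10775) (.leaf 0)) (.node (.leaf 3585) (.leaf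 0)))))) (.node (.node (.node (.node (.node (.leaf 8940) (.leaf 5556)) (.node (.leaf 16720) (.leaf 0))) (.node (.node (.leaf 570) (.leaf 14788)) (.node (.leaf 5266) (.leaf 0)))) (.node (.node (.node (.leaf 5244) (.leaf 10240)) (.node (.leaf 6221) (.leaf 0))) (.node (.node (.leaf 16672) (.leaf 0)) (.node (.leaf 11870) (.leaf 0))))) (.node (.node (.node (.node (.leaf 7020) (.leaf 3669)) (.node (.leaf 15145) (.leaf 0))) (.node (.node (.leaf 2237) (.leaf 0)) (.node (.leaf 4179) (.leaf 0)))) (.node (.node (.node (.leaf 12305) (.leaf 11169)) (.node (.leaf 3958) (.leaf 0))) (.node (.node (.leaf 4641) (.leaf 0)) (.node (.leaf 4371) (.leaf 0))))))) (.node (.node (.node (.node (.node (.node (.leaf 16676) (.leaf 10053)) (.node (.leaf 5384) (.leaf 0))) (.node (.node (.leaf 2051) (.leaf 8370)) (.node (.leaf 15701) (.leaf 0)))) (.node (.node (.node (.leaf 4265) (.leaf 2973)) (.node (.leaf 15271) (.leaf 0))) (.node (.node (.leaf 14545) (.leaf 0)) (.node (.leaf 7627) (.leaf 0))))) (.node (.node (.node (.node (.leaf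 6541) (.leaf 1126)) (.node (.leaf 5659) (.leaf 0))) (.node (.node (.leaf 16013) (.leaf 0)) (.node (.leaf 12182) (.leaf 0)))) (.node (.node (.node (.leaf 9348) (.leaf 14930)) (.node (.leaf 20793) (.leaf 0))) (.node (.node (.leaf 13222) (.leaf 0)) (.node (.leaf 15985) (.leaf 0)))))) (.node (.node (.node (.node (.node (.leaf 2272) (.leaf 21413)) (.node (.leaf 2539) (.leaf 0))) (.node (.node (.leaf 4512) (.leaf 20877)) (.node (.leaf 10543) (.leaf 0)))) (.node (.node (.node (.leaf 11715) (.leaf 661)) (.node (.leaf 16120) (.leaf 0))) (.node (.node (.leaf 20416) (.leaf 0)) (.node (.leaf 12445) (.leaf 0))))) (.node (.node (.node (.node (.leaf 20505) (.leaf 4563)) (.node (.leaf 5374) (.leaf 0))) (.node (.node (.leaf 6590) (.leaf 0)) (.node (.leaf 12005) (.leaf 0)))) (.node (.node (.node (.leaf 4479) (.leaf 14846)) (.node (.leaf 18269) (.leaf 0))) (.node (.node (.leaf 15852) (.leaf 0)) (.node (.leaf 4326) (.leaf 0)))))))) (.node (.node (.node (.node (.node (.node (.node (.leaf 14516) (.leaf 19985)) (.node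 (.leaf 11442) (.leaf 0))) (.node (.node (.leaf 6480) (.leaf 9224)) (.node (.leaf 14356) (.leaf 0)))) (.node (.node (.node (.leaf 13034) (.leaf 5592)) (.node (.leaf 17428) (.leaf 0))) (.node (.node (.leaf 13442) (.leaf 0)) (.node (.leaf 20748) (.leaf 0))))) (.node (.node (.node (.node (.leaf 7092) (.leaf 4755)) (.node (.leaf 10546) (.leaf 0))) (.node (.node (.leaf 18698) (.leaf 0)) (.node (.leaf 13704) (.leaf 0)))) (.node (.node (.node (.leaf 14110) (.leaf 245)) (.node (.leaf 12721) (.leaf 0))) (.node (.node (.leaf 13048) (.leaf 0)) (.node (.leaf 3576) (.leaf 0)))))) (.node (.node (.node (.node (.node (.leaf 6324) (.leaf 6068)) (.node (.leaf 12870) (.leaf 0))) (.node (.node (.leaf 16620) (.leaf 4581)) (.node (.leaf 2277) (.leaf 0)))) (.node (.node (.node (.leaf 9583) (.leaf 10434)) (.node (.leaf 13516) (.leaf 0))) (.node (.node (.leaf 4084) (.leaf 0)) (.node (.leaf 2768) (.leaf 0))))) (.node (.node (.node (.node (.leaf 6726) (.leaf 11457)) (.node (.leaf 1755) (.leaf 0))) (.node (.node (.leaf 20247)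 (.leaf 0)) (.node (.leaf 18524) (.leaf 0)))) (.node (.node (.node (.leaf 20048) (.leaf 1557)) (.node (.leaf 17968) (.leaf 0))) (.node (.node (.leaf 14752) (.leaf 0)) (.node (.leaf 5799) (.leaf 0))))))) (.node (.node (.node (.node (.node (.node (.leaf 2211) (.leaf 4940)) (.node (.leaf 5561) (.leaf 0))) (.node (.node (.leaf 7939) (.leaf 20772)) (.node (.leaf 19593) (.leaf 0)))) (.node (.node (.node (.leaf 10139) (.leaf 17993)) (.node (.leaf 11666) (.leaf 0))) (.node (.node (.leaf 16576) (.leaf 0)) (.node (.leaf 7916) (.leaf 0))))) (.node (.node (.node (.node (.leaf 14451) (.leaf 20571)) (.node (.leaf 3497) (.leaf 0))) (.node (.node (.leaf 17958) (.leaf 0)) (.node (.leaf 17030) (.leaf 0)))) (.node (.node (.node (.leaf 15679) (.leaf 15344)) (.node (.leaf 14650) (.leaf 0))) (.node (.node (.leaf 18374) (.leaf 0)) (.node (.leaf 10577) (.leaf 0)))))) (.node (.node (.node (.node (.node (.leaf 7495) (.leaf 650)) (.node (.leaf 19138) (.leaf 0))) (.node (.node (.leaf 16377) (.leaf 20727)) (.node (.leaf 11372)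 (.leaf 0)))) (.node (.node (.node (.leaf 18928) (.leaf 15026)) (.node (.leaf 13928) (.leaf 0))) (.node (.node (.leaf 14474) (.leaf 0)) (.node (.leaf 7997) (.leaf 0))))) (.node (.node (.node (.node (.leaf 18257) (.leaf 18351)) (.node (.leaf 5406) (.leaf 0))) (.node (.node (.leaf 18299) (.leaf 0)) (.node (.leaf 6623) (.leaf 0)))) (.node (.node (.node (.leaf 1852) (.leaf 14320)) (.node (.leaf 12937) (.leaf 0))) (.node (.node (.leaf 13366) (.leaf 0)) (.node (.leaf 12810) (.leaf 0)))))))))

/-- part of a table -/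
def ordK115 : Trie := (.node (.node (.node (.node (.node (.node (.node (.node (.leaf 3146) (.leaf 15083)) (.node (.leaf 6845) (.leaf 0))) (.node (.node (.leaf 8718) (.leaf 6992)) (.node (.leaf 2792) (.leaf 0)))) (.node (.node (.node (.leaf 8694) (.leaf 1088)) (.node (.leaf 293) (.leaf 0))) (.node (.node (.leaf 10216) (.leaf 0)) (.node (.leaf 446) (.leaf 0))))) (.node (.node (.node (.node (.leaf 506) (.leaf 9955)) (.node (.leaf 12902) (.leaf 0))) (.node (.node (.leaf 12320) (.leaf 0)) (.node (.leaf 7288) (.leaf 0)))) (.node (.node (.node (.leaf 5329) (.leaf 8477)) (.node (.leaf 2926) (.leaf 0))) (.node (.node (.leaf 18124) (.leaf 0)) (.node (.leaf 16425) (.leaf 0)))))) (.node (.node (.node (.node (.node (.leaf 4239) (.leaf 3110)) (.node (.leaf 1352) (.leaf 0))) (.node (.node (.leaf 10237) (.leaf 18303)) (.node (.leaf 13666) (.leaf 0)))) (.node (.node (.node (.leaf 15653) (.leaf 20703)) (.node (.leaf 13796) (.leaf 0))) (.node (.node (.leaf 9692) (.leaf 0)) (.node (.leaf 12701) (.leaf 0))))) (.node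 (.node (.node (.node (.leaf 10688) (.leaf 6709)) (.node (.leaf 12514) (.leaf 0))) (.node (.node (.leaf 992) (.leaf 0)) (.node (.leaf 16944) (.leaf 0)))) (.node (.node (.node (.leaf 3809) (.leaf 20470)) (.node (.leaf 20669) (.leaf 0))) (.node (.node (.leaf 18853) (.leaf 0)) (.node (.leaf 4746) (.leaf 0))))))) (.node (.node (.node (.node (.node (.node (.leaf 19777) (.leaf 20783)) (.node (.leaf 16965) (.leaf 0))) (.node (.node (.leaf 6467) (.leaf 15600)) (.node (.leaf 19386) (.leaf 0)))) (.node (.node (.node (.leaf 11979) (.leaf 18327)) (.node (.leaf 9211) (.leaf 0))) (.node (.node (.leaf 21016) (.leaf 0)) (.node (.leaf 1577) (.leaf 0))))) (.node (.node (.node (.node (.leaf 9366) (.leaf 20526)) (.node (.leaf 5876) (.leaf 0))) (.node (.node (.leaf 5207) (.leaf 0)) (.node (.leaf 6502) (.leaf 0)))) (.node (.node (.node (.leaf 3067) (.leaf 5373)) (.node (.leaf 19862) (.leaf 0))) (.node (.node (.leaf 15947) (.leaf 0)) (.node (.leaf 6419) (.leaf 0)))))) (.node (.node (.node (.node (.node (.leaf 9885) (.leaf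 19557)) (.node (.leaf 11695) (.leaf 0))) (.node (.node (.leaf 13506) (.leaf 8497)) (.node (.leaf 16950) (.leaf 0)))) (.node (.node (.node (.leaf 7452) (.leaf 12069)) (.node (.leaf 10748) (.leaf 0))) (.node (.node (.leaf 10458) (.leaf 0)) (.node (.leaf 1024) (.leaf 0))))) (.node (.node (.node (.node (.leaf 3419) (.leaf 19416)) (.node (.leaf 10246) (.leaf 0))) (.node (.node (.leaf 7919) (.leaf 0)) (.node (.leaf 19447) (.leaf 0)))) (.node (.node (.node (.leaf 15670) (.leaf 17751)) (.node (.leaf 883) (.leaf 0))) (.node (.node (.leaf 14576) (.leaf 0)) (.node (.leaf 2954) (.leaf 0)))))))) (.node (.node (.node (.node (.node (.node (.node (.leaf 15567) (.leaf 18625)) (.node (.leaf 17131) (.leaf 0))) (.node (.node (.leaf 8448) (.leaf 12792)) (.node (.leaf 13114) (.leaf 0)))) (.node (.node (.node (.leaf 5119) (.leaf 3887)) (.node (.leaf 19677) (.leaf 0))) (.node (.node (.leaf 19292) (.leaf 0)) (.node (.leaf 3937) (.leaf 0))))) (.node (.node (.node (.node (.leaf 16955) (.leaf 5156)) (.node (.leaf 11529) (.leaf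 0))) (.node (.node (.leaf 3706) (.leaf 0)) (.node (.leaf 16055) (.leaf 0)))) (.node (.node (.node (.leaf 12733) (.leaf 7079)) (.node (.leaf 11047) (.leaf 0))) (.node (.node (.leaf 6770) (.leaf 0)) (.node (.leaf 9329) (.leaf 0)))))) (.node (.node (.node (.node (.node (.leaf 19262) (.leaf 6387)) (.node (.leaf 16461) (.leaf 0))) (.node (.node (.leaf 13) (.leaf 895)) (.node (.leaf 5365) (.leaf 0)))) (.node (.node (.node (.leaf 14969) (.leaf 20970)) (.node (.leaf 13891) (.leaf 0))) (.node (.node (.leaf 8784) (.leaf 0)) (.node (.leaf 3388) (.leaf 0))))) (.node (.node (.node (.node (.leaf 8481) (.leaf 14926)) (.node (.leaf 1806) (.leaf 0))) (.node (.node (.leaf 10957) (.leaf 0)) (.node (.leaf 4626) (.leaf 0)))) (.node (.node (.node (.leaf 20840) (.leaf 7659)) (.node (.leaf 20940) (.leaf 0))) (.node (.node (.leaf 1606) (.leaf 0)) (.node (.leaf 1394) (.leaf 0))))))) (.node (.node (.node (.node (.node (.node (.leaf 16332) (.leaf 8960)) (.node (.leaf 6287) (.leaf 0))) (.node (.node (.leaf 11859) (.leaf 17943))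 (.node (.leaf 16812) (.leaf 0)))) (.node (.node (.node (.leaf 12367) (.leaf 12101)) (.node (.leaf 17699) (.leaf 0))) (.node (.node (.leaf 20896) (.leaf 0)) (.node (.leaf 4056) (.leaf 0))))) (.node (.node (.node (.node (.leaf 17074) (.leaf 8838)) (.node (.leaf 3828) (.leaf 0))) (.node (.node (.leaf 20846) (.leaf 0)) (.node (.leaf 16462) (.leaf 0)))) (.node (.node (.node (.leaf 7058) (.leaf 15747)) (.node (.leaf 14131) (.leaf 0))) (.node (.node (.leaf 640) (.leaf 0)) (.node (.leaf 21212) (.leaf 0)))))) (.node (.node (.node (.node (.node (.leaf 14676) (.leaf 7754)) (.node (.leaf 43) (.leaf 0))) (.node (.node (.leaf 13892) (.leaf 8687)) (.node (.leaf 12099) (.leaf 0)))) (.node (.node (.node (.leaf 14599) (.leaf 11161)) (.node (.leaf 7132) (.leaf 0))) (.node (.node (.leaf 8337) (.leaf 0)) (.node (.leaf 21044) (.leaf 0))))) (.node (.node (.node (.node (.leaf 5819) (.leaf 15894)) (.node (.leaf 12193) (.leaf 0))) (.node (.node (.leaf 19080) (.leaf 0)) (.node (.leaf 1916) (.leaf 0)))) (.node (.node (.node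 (.leaf 6190) (.leaf 10888)) (.node (.leaf 1385) (.leaf 0))) (.node (.node (.leaf 10699) (.leaf 0)) (.node (.leaf 9249) (.leaf 0)))))))))

/-- part of a table -/
def ordK116 : Trie := (.node (.node (.node (.node (.node (.node (.node (.node (.leaf 11922) (.leaf 20937)) (.node (.leaf 12791) (.leaf 0))) (.node (.node (.leaf 17750) (.leaf 18707)) (.node (.leaf 7353) (.leaf 0)))) (.node (.node (.node (.leaf 5572) (.leaf 6086)) (.node (.leaf 18527) (.leaf 0))) (.node (.node (.leaf 19489) (.leaf 0)) (.node (.leaf 7393) (.leaf 0))))) (.node (.node (.node (.node (.leaf 15929) (.leaf 20108)) (.node (.leaf 18951) (.leaf 0))) (.node (.node (.leaf 21411) (.leaf 0)) (.node (.leaf 17220) (.leaf 0)))) (.node (.node (.node (.leaf 8362) (.leaf 4217)) (.node (.leaf 20491) (.leaf 0))) (.node (.node (.leaf 17780) (.leaf 0)) (.node (.leaf 6381) (.leaf 0)))))) (.node (.node (.node (.node (.node (.leaf 16987) (.leaf 2175)) (.node (.leaf 11506) (.leaf 0))) (.node (.node (.leaf 505) (.leaf 7296)) (.node (.leaf 18444) (.leaf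 0)))) (.node (.node (.node (.leaf 3918) (.leaf 8803)) (.node (.leaf 9982) (.leaf 0))) (.node (.node (.leaf 11373) (.leaf 0)) (.node (.leaf 2708) (.leaf 0))))) (.node (.node (.node (.node (.leaf 17441) (.leaf 1409)) (.node (.leaf 11987) (.leaf 0))) (.node (.node (.leaf 3691) (.leaf 0)) (.node (.leaf 5538) (.leaf 0)))) (.node (.node (.node (.leaf 6824) (.leaf 13718)) (.node (.leaf 888) (.leaf 0))) (.node (.node (.leaf 16633) (.leaf 0)) (.node (.leaf 6385) (.leaf 0))))))) (.node (.node (.node (.node (.node (.node (.leaf 17885) (.leaf 595)) (.node (.leaf 3643) (.leaf 0))) (.node (.node (.leaf 12595) (.leaf 18642)) (.node (.leaf 13360) (.leaf 0)))) (.node (.node (.node (.leaf 11907) (.leaf 18317)) (.node (.leaf 2779) (.leaf 0))) (.node (.node (.leaf 15871) (.leaf 0)) (.node (.leaf 1264) (.leaf 0))))) (.node (.node (.node (.node (.leaf 4539) (.leaf 21182)) (.node (.leaf 17912) (.leaf 0))) (.node (.node (.leaf 4248) (.leaf 0)) (.node (.leaf 16542) (.leaf 0)))) (.node (.node (.node (.leaf 302) (.leaf 16448))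 (.node (.leaf 2023) (.leaf 0))) (.node (.node (.leaf 11767) (.leaf 0)) (.node (.leaf 3385) (.leaf 0)))))) (.node (.node (.node (.node (.node (.leaf 16307) (.leaf 6161)) (.node (.leaf 4143) (.leaf 0))) (.node (.node (.leaf 18614) (.leaf 10849)) (.node (.leaf 9522) (.leaf 0)))) (.node (.node (.node (.leaf 256) (.leaf 699)) (.node (.leaf 5227) (.leaf 0))) (.node (.node (.leaf 21434) (.leaf 0)) (.node (.leaf 5619) (.leaf 0))))) (.node (.node (.node (.node (.leaf 12839) (.leaf 15634)) (.node (.leaf 16258) (.leaf 0))) (.node (.node (.leaf 13309) (.leaf 0)) (.node (.leaf 972) (.leaf 0)))) (.node (.node (.node (.leaf 177) (.leaf 3610)) (.node (.leaf 5941) (.leaf 0))) (.node (.node (.leaf 6591) (.leaf 0)) (.node (.leaf 13194) (.leaf 0)))))))) (.node (.node (.node (.node (.node (.node (.node (.leaf 17214) (.leaf 15995)) (.node (.leaf 18417) (.leaf 0))) (.node (.node (.leaf 3670) (.leaf 12270)) (.node (.leaf 17786) (.leaf 0)))) (.node (.node (.node (.leaf 10307) (.leaf 2416)) (.node (.leaf 9187) (.leaf 0)))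 (.node (.node (.leaf 6171) (.leaf 0)) (.node (.leaf 11611) (.leaf 0))))) (.node (.node (.node (.node (.leaf 8354) (.leaf 2284)) (.node (.leaf 2830) (.leaf 0))) (.node (.node (.leaf 384) (.leaf 0)) (.node (.leaf 14301) (.leaf 0)))) (.node (.node (.node (.leaf 18233) (.leaf 15436)) (.node (.leaf 5478) (.leaf 0))) (.node (.node (.leaf 4218) (.leaf 0)) (.node (.leaf 6052) (.leaf 0)))))) (.node (.node (.node (.node (.node (.leaf 10211) (.leaf 14312)) (.node (.leaf 3138) (.leaf 0))) (.node (.node (.leaf 12283) (.leaf 15118)) (.node (.leaf 140) (.leaf 0)))) (.node (.node (.node (.leaf 289) (.leaf 17045)) (.node (.leaf 17221) (.leaf 0))) (.node (.node (.leaf 7970) (.leaf 0)) (.node (.leaf 7333) (.leaf 0))))) (.node (.node (.node (.node (.leaf 13125) (.leaf 20958)) (.node (.leaf 2817) (.leaf 0))) (.node (.node (.leaf 18382) (.leaf 0)) (.node (.leaf 9971) (.leaf 0)))) (.node (.node (.node (.leaf 10591) (.leaf 8968)) (.node (.leaf 12467) (.leaf 0))) (.node (.node (.leaf 4808) (.leaf 0)) (.node (.leaf 1421)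 (.leaf 0))))))) (.node (.node (.node (.node (.node (.node (.leaf 4342) (.leaf 8567)) (.node (.leaf 18475) (.leaf 0))) (.node (.node (.leaf 10419) (.leaf 20181)) (.node (.leaf 16798) (.leaf 0)))) (.node (.node (.node (.leaf 16660) (.leaf 984)) (.node (.leaf 5321) (.leaf 0))) (.node (.node (.leaf 16840) (.leaf 0)) (.node (.leaf 1967) (.leaf 0))))) (.node (.node (.node (.node (.leaf 12622) (.leaf 18436)) (.node (.leaf 16942) (.leaf 0))) (.node (.node (.leaf 18449) (.leaf 0)) (.node (.leaf 18326) (.leaf 0)))) (.node (.node (.node (.leaf 2572) (.leaf 5600)) (.node (.leaf 12642) (.leaf 0))) (.node (.node (.leaf 6676) (.leaf 0)) (.node (.leaf 12705) (.leaf 0)))))) (.node (.node (.node (.node (.node (.leaf 6609) (.leaf 17762)) (.node (.leaf 17907) (.leaf 0))) (.node (.node (.leaf 4712) (.leaf 17921)) (.node (.leaf 1211) (.leaf 0)))) (.node (.node (.node (.leaf 11936) (.leaf 9149)) (.node (.leaf 15451) (.leaf 0))) (.node (.node (.leaf 19275) (.leaf 0)) (.node (.leaf 11650) (.leaf 0))))) (.node (.node (.node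 (.node (.leaf 8204) (.leaf 12387)) (.node (.leaf 14616) (.leaf 0))) (.node (.node (.leaf 86) (.leaf 0)) (.node (.leaf 13477) (.leaf 0)))) (.node (.node (.node (.leaf 18920) (.leaf 5304)) (.node (.leaf 531) (.leaf 0))) (.node (.node (.leaf 11616) (.leaf 0)) (.node (.leaf 15219) (.leaf 0)))))))))

/-- part of a table -/
def ordK117 : Trie := (.node (.node (.node (.node (.node (.node (.node (.node (.leaf 8836) (.leaf 11437)) (.node (.leaf 10407) (.leaf 0))) (.node (.node (.leaf 5117) (.leaf 12756)) (.node (.leaf 9514) (.leaf 0)))) (.node (.node (.node (.leaf 17719) (.leaf 5345)) (.node (.leaf 9397) (.leaf 0))) (.node (.node (.leaf 16414) (.leaf 0)) (.node (.leaf 15298) (.leaf 0))))) (.node (.node (.node (.node (.leaf 20156) (.leaf 19362)) (.node (.leaf 6350) (.leaf 0))) (.node (.node (.leaf 5573) (.leaf 0)) (.node (.leaf 17287) (.leaf 0)))) (.node (.node (.node (.leaf 19852) (.leaf 2713)) (.node (.leaf 18488) (.leaf 0))) (.node (.node (.leaf 20180) (.leaf 0)) (.node (.leaf 7190) (.leaf 0)))))) (.node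 (.node (.node (.node (.node (.leaf 15303) (.leaf 19696)) (.node (.leaf 3575) (.leaf 0))) (.node (.node (.leaf 11525) (.leaf 1589)) (.node (.leaf 1578) (.leaf 0)))) (.node (.node (.node (.leaf 205) (.leaf 16052)) (.node (.leaf 10593) (.leaf 0))) (.node (.node (.leaf 20929) (.leaf 0)) (.node (.leaf 6137) (.leaf 0))))) (.node (.node (.node (.node (.leaf 12520) (.leaf 17253)) (.node (.leaf 7847) (.leaf 0))) (.node (.node (.leaf 16912) (.leaf 0)) (.node (.leaf 10130) (.leaf 0)))) (.node (.node (.node (.leaf 20933) (.leaf 1284)) (.node (.leaf 4492) (.leaf 0))) (.node (.node (.leaf 11491) (.leaf 0)) (.node (.leaf 18114) (.leaf 0))))))) (.node (.node (.node (.node (.node (.node (.leaf 15785) (.leaf 7923)) (.node (.leaf 11034) (.leaf 0))) (.node (.node (.leaf 3211) (.leaf 9314)) (.node (.leaf 4063) (.leaf 0)))) (.node (.node (.node (.leaf 18113) (.leaf 12541)) (.node (.leaf 16914) (.leaf 0))) (.node (.node (.leaf 10650) (.leaf 0)) (.node (.leaf 18893) (.leaf 0))))) (.node (.node (.node (.node (.leaf 826)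 (.leaf 1930)) (.node (.leaf 15096) (.leaf 0))) (.node (.node (.leaf 20964) (.leaf 0)) (.node (.leaf 19793) (.leaf 0)))) (.node (.node (.node (.leaf 14027) (.leaf 13563)) (.node (.leaf 11540) (.leaf 0))) (.node (.node (.leaf 21408) (.leaf 0)) (.node (.leaf 466) (.leaf 0)))))) (.node (.node (.node (.node (.node (.leaf 1305) (.leaf 16024)) (.node (.leaf 9750) (.leaf 0))) (.node (.node (.leaf 2820) (.leaf 6478)) (.node (.leaf 18096) (.leaf 0)))) (.node (.node (.node (.leaf 3660) (.leaf 18794)) (.node (.leaf 4298) (.leaf 0))) (.node (.node (.leaf 11145) (.leaf 0)) (.node (.leaf 14821) (.leaf 0))))) (.node (.node (.node (.node (.leaf 21158) (.leaf 20850)) (.node (.leaf 18873) (.leaf 0))) (.node (.node (.leaf 5682) (.leaf 0)) (.node (.leaf 7959) (.leaf 0)))) (.node (.node (.node (.leaf 10227) (.leaf 15962)) (.node (.leaf 11319) (.leaf 0))) (.node (.node (.leaf 11025) (.leaf 0)) (.node (.leaf 5285) (.leaf 0)))))))) (.node (.node (.node (.node (.node (.node (.node (.leaf 7762) (.leaf 14787)) (.node (.leaf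 2475) (.leaf 0))) (.node (.node (.leaf 20400) (.leaf 6494)) (.node (.leaf 9098) (.leaf 0)))) (.node (.node (.node (.leaf 4368) (.leaf 7218)) (.node (.leaf 14294) (.leaf 0))) (.node (.node (.leaf 18879) (.leaf 0)) (.node (.leaf 13044) (.leaf 0))))) (.node (.node (.node (.node (.leaf 20482) (.leaf 14832)) (.node (.leaf 2950) (.leaf 0))) (.node (.node (.leaf 271) (.leaf 0)) (.node (.leaf 5047) (.leaf 0)))) (.node (.node (.node (.leaf 13845) (.leaf 20574)) (.node (.leaf 20800) (.leaf 0))) (.node (.node (.leaf 2714) (.leaf 0)) (.node (.leaf 13182) (.leaf 0)))))) (.node (.node (.node (.node (.node (.leaf 4296) (.leaf 11605)) (.node (.leaf 7443) (.leaf 0))) (.node (.node (.leaf 4805) (.leaf 4543)) (.node (.leaf 20131) (.leaf 0)))) (.node (.node (.node (.leaf 9568) (.leaf 5041)) (.node (.leaf 4643) (.leaf 0))) (.node (.node (.leaf 3224) (.leaf 0)) (.node (.leaf 12608) (.leaf 0))))) (.node (.node (.node (.node (.leaf 2718) (.leaf 3108)) (.node (.leaf 2125) (.leaf 0))) (.node (.node (.leaf 3366) (.leaf 0))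 (.node (.leaf 2027) (.leaf 0)))) (.node (.node (.node (.leaf 9222) (.leaf 6835)) (.node (.leaf 1781) (.leaf 0))) (.node (.node (.leaf 10656) (.leaf 0)) (.node (.leaf 4732) (.leaf 0))))))) (.node (.node (.node (.node (.node (.node (.leaf 21062) (.leaf 4719)) (.node (.leaf 9667) (.leaf 0))) (.node (.node (.leaf 9325) (.leaf 8736)) (.node (.leaf 20928) (.leaf 0)))) (.node (.node (.node (.leaf 17016) (.leaf 9263)) (.node (.leaf 9626) (.leaf 0))) (.node (.node (.leaf 18555) (.leaf 0)) (.node (.leaf 5401) (.leaf 0))))) (.node (.node (.node (.node (.leaf 6002) (.leaf 16752)) (.node (.leaf 9818) (.leaf 0))) (.node (.node (.leaf 9360) (.leaf 0)) (.node (.leaf 9425) (.leaf 0)))) (.node (.node (.node (.leaf 13745) (.leaf 17657)) (.node (.leaf 4944) (.leaf 0))) (.node (.node (.leaf 11189) (.leaf 0)) (.node (.leaf 4054) (.leaf 0)))))) (.node (.node (.node (.node (.node (.leaf 14782) (.leaf 7110)) (.node (.leaf 11919) (.leaf 0))) (.node (.node (.leaf 15870) (.leaf 7730)) (.node (.leaf 1036) (.leaf 0)))) (.node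 (.node (.node (.leaf 15815) (.leaf 7117)) (.node (.leaf 8513) (.leaf 0))) (.node (.node (.leaf 9842) (.leaf 0)) (.node (.leaf 7049) (.leaf 0))))) (.node (.node (.node (.node (.leaf 19288) (.leaf 6498)) (.node (.leaf 19946) (.leaf 0))) (.node (.node (.leaf 20258) (.leaf 0)) (.node (.leaf 9168) (.leaf 0)))) (.node (.node (.node (.leaf 14577) (.leaf 18388)) (.node (.leaf 2388) (.leaf 0))) (.node (.node (.leaf 5145) (.leaf 0)) (.node (.leaf 10621) (.leaf 0)))))))))

/-- part of a table -/
def ordK118 : Trie := (.node (.node (.node (.node (.node (.node (.node (.node (.leaf 21401) (.leaf 17039)) (.node (.leaf 11651) (.leaf 0))) (.node (.node (.leaf 1504) (.leaf 16674)) (.node (.leaf 18654) (.leaf 0)))) (.node (.node (.node (.leaf 2972) (.leaf 8339)) (.node (.leaf 13733) (.leaf 0))) (.node (.node (.leaf 7466) (.leaf 0)) (.node (.leaf 12067) (.leaf 0))))) (.node (.node (.node (.node (.leaf 7949) (.leaf 18393)) (.node (.leaf 1898) (.leaf 0))) (.node (.node (.leaf 4122) (.leaf 0)) (.node (.leaf 7967) (.leaf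 0)))) (.node (.node (.node (.leaf 18806) (.leaf 10694)) (.node (.leaf 15519) (.leaf 0))) (.node (.node (.leaf 5317) (.leaf 0)) (.node (.leaf 7589) (.leaf 0)))))) (.node (.node (.node (.node (.node (.leaf 8579) (.leaf 13223)) (.node (.leaf 11573) (.leaf 0))) (.node (.node (.leaf 528) (.leaf 16183)) (.node (.leaf 6713) (.leaf 0)))) (.node (.node (.node (.leaf 13130) (.leaf 19969)) (.node (.leaf 20891) (.leaf 0))) (.node (.node (.leaf 20521) (.leaf 0)) (.node (.leaf 5441) (.leaf 0))))) (.node (.node (.node (.node (.leaf 13164) (.leaf 13677)) (.node (.leaf 3531) (.leaf 0))) (.node (.node (.leaf 16743) (.leaf 0)) (.node (.leaf 13257) (.leaf 0)))) (.node (.node (.node (.leaf 19565) (.leaf 18068)) (.node (.leaf 1306) (.leaf 0))) (.node (.node (.leaf 17096) (.leaf 0)) (.node (.leaf 10601) (.leaf 0))))))) (.node (.node (.node (.node (.node (.node (.leaf 17229) (.leaf 12429)) (.node (.leaf 13923) (.leaf 0))) (.node (.node (.leaf 15597) (.leaf 12818)) (.node (.leaf 13755) (.leaf 0)))) (.node (.node (.node (.leaf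 7306) (.leaf 959)) (.node (.leaf 13878) (.leaf 0))) (.node (.node (.leaf 16721) (.leaf 0)) (.node (.leaf 281) (.leaf 0))))) (.node (.node (.node (.node (.leaf 15233) (.leaf 18744)) (.node (.leaf 17463) (.leaf 0))) (.node (.node (.leaf 17312) (.leaf 0)) (.node (.leaf 6952) (.leaf 0)))) (.node (.node (.node (.leaf 1369) (.leaf 10518)) (.node (.leaf 11180) (.leaf 0))) (.node (.node (.leaf 6917) (.leaf 0)) (.node (.leaf 12491) (.leaf 0)))))) (.node (.node (.node (.node (.node (.leaf 11713) (.leaf 2040)) (.node (.leaf 18075) (.leaf 0))) (.node (.node (.leaf 19482) (.leaf 20003)) (.node (.leaf 2616) (.leaf 0)))) (.node (.node (.node (.leaf 12034) (.leaf 11140)) (.node (.leaf 397) (.leaf 0))) (.node (.node (.leaf 5862) (.leaf 0)) (.node (.leaf 7283) (.leaf 0))))) (.node (.node (.node (.node (.leaf 4197) (.leaf 8919)) (.node (.leaf 2832) (.leaf 0))) (.node (.node (.leaf 17575) (.leaf 0)) (.node (.leaf 12148) (.leaf 0)))) (.node (.node (.node (.leaf 4513) (.leaf 18006)) (.node (.leaf 2739) (.leaf 0))) (.node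 (.node (.leaf 1999) (.leaf 0)) (.node (.leaf 11341) (.leaf 0)))))))) (.node (.node (.node (.node (.node (.node (.node (.leaf 17394) (.leaf 9247)) (.node (.leaf 15122) (.leaf 0))) (.node (.node (.leaf 2668) (.leaf 4074)) (.node (.leaf 18516) (.leaf 0)))) (.node (.node (.node (.leaf 8899) (.leaf 16507)) (.node (.leaf 14095) (.leaf 0))) (.node (.node (.leaf 19881) (.leaf 0)) (.node (.leaf 6664) (.leaf 0))))) (.node (.node (.node (.node (.leaf 20698) (.leaf 9480)) (.node (.leaf 4815) (.leaf 0))) (.node (.node (.leaf 15579) (.leaf 0)) (.node (.leaf 18138) (.leaf 0)))) (.node (.node (.node (.leaf 2370) (.leaf 15972)) (.node (.leaf 2819) (.leaf 0))) (.node (.node (.leaf 12476) (.leaf 0)) (.node (.leaf 7004) (.leaf 0)))))) (.node (.node (.node (.node (.node (.leaf 13452) (.leaf 15661)) (.node (.leaf 12359) (.leaf 0))) (.node (.node (.leaf 10812) (.leaf 8551)) (.node (.leaf 8419) (.leaf 0)))) (.node (.node (.node (.leaf 6211) (.leaf 16544)) (.node (.leaf 13468) (.leaf 0))) (.node (.node (.leaf 20971) (.leaf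 0)) (.node (.leaf 17978) (.leaf 0))))) (.node (.node (.node (.node (.leaf 11946) (.leaf 11720)) (.node (.leaf 4860) (.leaf 0))) (.node (.node (.leaf 15215) (.leaf 0)) (.node (.leaf 19424) (.leaf 0)))) (.node (.node (.node (.leaf 15976) (.leaf 8898)) (.node (.leaf 373) (.leaf 0))) (.node (.node (.leaf 16771) (.leaf 0)) (.node (.leaf 7178) (.leaf 0))))))) (.node (.node (.node (.node (.node (.node (.leaf 19828) (.leaf 4567)) (.node (.leaf 1026) (.leaf 0))) (.node (.node (.leaf 16708) (.leaf 3801)) (.node (.leaf 9946) (.leaf 0)))) (.node (.node (.node (.leaf 14425) (.leaf 6117)) (.node (.leaf 10287) (.leaf 0))) (.node (.node (.leaf 17093) (.leaf 0)) (.node (.leaf 8576) (.leaf 0))))) (.node (.node (.node (.node (.leaf 9585) (.leaf 19308)) (.node (.leaf 3502) (.leaf 0))) (.node (.node (.leaf 9700) (.leaf 0)) (.node (.leaf 8380) (.leaf 0)))) (.node (.node (.node (.leaf 8858) (.leaf 7375)) (.node (.leaf 20124) (.leaf 0))) (.node (.node (.leaf 4739) (.leaf 0)) (.node (.leaf 14084) (.leaf 0)))))) (.node (.node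 (.node (.node (.node (.leaf 13208) (.leaf 5256)) (.node (.leaf 10074) (.leaf 0))) (.node (.node (.leaf 20833) (.leaf 6831)) (.node (.leaf 17686) (.leaf 0)))) (.node (.node (.node (.leaf 4578) (.leaf 18615)) (.node (.leaf 9679) (.leaf 0))) (.node (.node (.leaf 9285) (.leaf 0)) (.node (.leaf 14246) (.leaf 0))))) (.node (.node (.node (.node (.leaf 14659) (.leaf 16560)) (.node (.leaf 6354) (.leaf 0))) (.node (.node (.leaf 11548) (.leaf 0)) (.node (.leaf 11016) (.leaf 0)))) (.node (.node (.node (.leaf 8202) (.leaf 5537)) (.node (.leaf 11712) (.leaf 0))) (.node (.node (.leaf 14006) (.leaf 0)) (.node (.leaf 19991) (.leaf 0)))))))))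

/-- part of a table -/
def ordK119 : Trie := (.node (.node (.node (.node (.node (.node (.node (.node (.leaf 2828) (.leaf 580)) (.node (.leaf 4266) (.leaf 0))) (.node (.node (.leaf 8241) (.leaf 7481)) (.node (.leaf 9871) (.leaf 0)))) (.node (.node (.node (.leaf 12540) (.leaf 9673)) (.node (.leaf 17613) (.leaf 0))) (.node (.node (.leaf 4168) (.leaf 0)) (.node (.leaf 2128) (.leaf 0))))) (.node (.node (.node (.node (.leaf 5687) (.leaf 9939)) (.node (.leaf 8629) (.leaf 0))) (.node (.node (.leaf 14820) (.leaf 0)) (.node (.leaf 18858) (.leaf 0)))) (.node (.node (.node (.leaf 1724) (.leaf 4324)) (.node (.leaf 11977) (.leaf 0))) (.node (.node (.leaf 2707) (.leaf 0)) (.node (.leaf 7213) (.leaf 0)))))) (.node (.node (.node (.node (.node (.leaf 18091) (.leaf 4669)) (.node (.leaf 1157) (.leaf 0))) (.node (.node (.leaf 4810) (.leaf 4286)) (.node (.leaf 20826) (.leaf 0)))) (.node (.node (.node (.leaf 11945) (.leaf 19499)) (.node (.leaf 16953) (.leaf 0))) (.node (.node (.leaf 8873) (.leaf 0)) (.node (.leaf 15066)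 (.leaf 0))))) (.node (.node (.node (.node (.leaf 9986) (.leaf 10288)) (.node (.leaf 5210) (.leaf 0))) (.node (.node (.leaf 5831) (.leaf 0)) (.node (.leaf 11889) (.leaf 0)))) (.node (.node (.node (.leaf 19850) (.leaf 18529)) (.node (.leaf 2640) (.leaf 0))) (.node (.node (.leaf 3198) (.leaf 0)) (.node (.leaf 19348) (.leaf 0))))))) (.node (.node (.node (.node (.node (.node (.leaf 6717) (.leaf 17077)) (.node (.leaf 1823) (.leaf 0))) (.node (.node (.leaf 8139) (.leaf 6307)) (.node (.leaf 13296) (.leaf 0)))) (.node (.node (.node (.leaf 55) (.leaf 18621)) (.node (.leaf 6739) (.leaf 0))) (.node (.node (.leaf 19633) (.leaf 0)) (.node (.leaf 11080) (.leaf 0))))) (.node (.node (.node (.node (.leaf 100) (.leaf 4893)) (.node (.leaf 7097) (.leaf 0))) (.node (.node (.leaf 8344) (.leaf 0)) (.node (.leaf 15408) (.leaf 0)))) (.node (.node (.node (.leaf 20151) (.leaf 10368)) (.node (.leaf 7937) (.leaf 0))) (.node (.node (.leaf 15987) (.leaf 0)) (.node (.leaf 6577) (.leaf 0)))))) (.node (.node (.node (.node (.node (.leaf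 8325) (.leaf 18536)) (.node (.leaf 11121) (.leaf 0))) (.node (.node (.leaf 19059) (.leaf 17752)) (.node (.leaf 8451) (.leaf 0)))) (.node (.node (.node (.leaf 10384) (.leaf 14956)) (.node (.leaf 18649) (.leaf 0))) (.node (.node (.leaf 19045) (.leaf 0)) (.node (.leaf 14166) (.leaf 0))))) (.node (.node (.node (.node (.leaf 3639) (.leaf 19136)) (.node (.leaf 15120) (.leaf 0))) (.node (.node (.leaf 1729) (.leaf 0)) (.node (.leaf 11808) (.leaf 0)))) (.node (.node (.node (.leaf 17181) (.leaf 9958)) (.node (.leaf 9450) (.leaf 0))) (.node (.node (.leaf 1730) (.leaf 0)) (.node (.leaf 13752) (.leaf 0)))))))) (.node (.node (.node (.node (.node (.node (.node (.leaf 2077) (.leaf 9815)) (.node (.leaf 10226) (.leaf 0))) (.node (.node (.leaf 5061) (.leaf 11217)) (.node (.leaf 11102) (.leaf 0)))) (.node (.node (.node (.leaf 3493) (.leaf 21025)) (.node (.leaf 4876) (.leaf 0))) (.node (.node (.leaf 13652) (.leaf 0)) (.node (.leaf 4384) (.leaf 0))))) (.node (.node (.node (.node (.leaf 13648) (.leaf 967)) (.node (.leaf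 8525) (.leaf 0))) (.node (.node (.leaf 9663) (.leaf 0)) (.node (.leaf 5292) (.leaf 0)))) (.node (.node (.node (.leaf 20094) (.leaf 8912)) (.node (.leaf 2069) (.leaf 0))) (.node (.node (.leaf 18478) (.leaf 0)) (.node (.leaf 4807) (.leaf 0)))))) (.node (.node (.node (.node (.node (.leaf 9913) (.leaf 14544)) (.node (.leaf 19721) (.leaf 0))) (.node (.node (.leaf 11567) (.leaf 5411)) (.node (.leaf 15559) (.leaf 0)))) (.node (.node (.node (.leaf 6779) (.leaf 18379)) (.node (.leaf 12531) (.leaf 0))) (.node (.node (.leaf 12299) (.leaf 0)) (.node (.leaf 18883) (.leaf 0))))) (.node (.node (.node (.node (.leaf 7561) (.leaf 4198)) (.node (.leaf 3929) (.leaf 0))) (.node (.node (.leaf 12676) (.leaf 0)) (.node (.leaf 18306) (.leaf 0)))) (.node (.node (.node (.leaf 14871) (.leaf 5793)) (.node (.leaf 17271) (.leaf 0))) (.node (.node (.leaf 7768) (.leaf 0)) (.node (.leaf 10455) (.leaf 0))))))) (.node (.node (.node (.node (.node (.node (.leaf 11538) (.leaf 14154)) (.node (.leaf 20726) (.leaf 0))) (.node (.node (.leaf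 4664) (.leaf 15741)) (.node (.leaf 10268) (.leaf 0)))) (.node (.node (.node (.leaf 10159) (.leaf 18060)) (.node (.leaf 9905) (.leaf 0))) (.node (.node (.leaf 6360) (.leaf 0)) (.node (.leaf 14186) (.leaf 0))))) (.node (.node (.node (.node (.leaf 21319) (.leaf 18094)) (.node (.leaf 48) (.leaf 0))) (.node (.node (.leaf 19068) (.leaf 0)) (.node (.leaf 15507) (.leaf 0)))) (.node (.node (.node (.leaf 13657) (.leaf 468)) (.node (.leaf 16353) (.leaf 0))) (.node (.node (.leaf 112) (.leaf 0)) (.node (.leaf 20942) (.leaf 0)))))) (.node (.node (.node (.node (.node (.leaf 1586) (.leaf 20680)) (.node (.leaf 8833) (.leaf 0))) (.node (.node (.leaf 5836) (.leaf 8219)) (.node (.leaf 13650) (.leaf 0)))) (.node (.node (.node (.leaf 4333) (.leaf 13075)) (.node (.leaf 5343) (.leaf 0))) (.node (.node (.leaf 20867) (.leaf 0)) (.node (.leaf 12788) (.leaf 0))))) (.node (.node (.node (.node (.leaf 2363) (.leaf 5221)) (.node (.leaf 10824) (.leaf 0))) (.node (.node (.leaf 13875) (.leaf 0)) (.node (.leaf 2043) (.leaf 0)))) (.node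 (.node (.node (.leaf 21438) (.leaf 15238)) (.node (.leaf 7048) (.leaf 0))) (.node (.node (.leaf 20627) (.leaf 0)) (.node (.leaf 10425) (.leaf 0)))))))))

/-- part of a table -/
def ordK120 : Trie := (.node (.node (.node (.node (.node (.node (.node (.node (.leaf 6937) (.leaf 916)) (.node (.leaf 7578) (.leaf 0))) (.node (.node (.leaf 8571) (.leaf 19440)) (.node (.leaf 3182) (.leaf 0)))) (.node (.node (.node (.leaf 1115) (.leaf 16064)) (.node (.leaf 18921) (.leaf 0))) (.node (.node (.leaf 10189) (.leaf 0)) (.node (.leaf 13976) (.leaf 0))))) (.node (.node (.node (.node (.leaf 14256) (.leaf 15763)) (.node (.leaf 20492) (.leaf 0))) (.node (.node (.leaf 18279) (.leaf 0)) (.node (.leaf 1309) (.leaf 0)))) (.node (.node (.node (.leaf 11305) (.leaf 13219)) (.node (.leaf 14874) (.leaf 0))) (.node (.node (.leaf 12700) (.leaf 0)) (.node (.leaf 18569) (.leaf 0)))))) (.node (.node (.node (.node (.node (.leaf 1915) (.leaf 4200)) (.node (.leaf 6948) (.leaf 0))) (.node (.node (.leaf 6804) (.leaf 19321)) (.node (.leaf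 17564) (.leaf 0)))) (.node (.node (.node (.leaf 16833) (.leaf 7300)) (.node (.leaf 20633) (.leaf 0))) (.node (.node (.leaf 7301) (.leaf 0)) (.node (.leaf 10259) (.leaf 0))))) (.node (.node (.node (.node (.leaf 11602) (.leaf 6010)) (.node (.leaf 20022) (.leaf 0))) (.node (.node (.leaf 9078) (.leaf 0)) (.node (.leaf 19543) (.leaf 0)))) (.node (.node (.node (.leaf 16430) (.leaf 16424)) (.node (.leaf 8594) (.leaf 0))) (.node (.node (.leaf 19403) (.leaf 0)) (.node (.leaf 18759) (.leaf 0))))))) (.node (.node (.node (.node (.node (.node (.leaf 19020) (.leaf 4245)) (.node (.leaf 2441) (.leaf 0))) (.node (.node (.leaf 131) (.leaf 14751)) (.node (.leaf 2716) (.leaf 0)))) (.node (.node (.node (.leaf 12386) (.leaf 18080)) (.node (.leaf 12102) (.leaf 0))) (.node (.node (.leaf 8765) (.leaf 0)) (.node (.leaf 13063) (.leaf 0))))) (.node (.node (.node (.node (.leaf 1800) (.leaf 5825)) (.node (.leaf 2861) (.leaf 0))) (.node (.node (.leaf 7131) (.leaf 0)) (.node (.leaf 10580) (.leaf 0)))) (.node (.node (.node (.leaf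 14527) (.leaf 1377)) (.node (.leaf 3733) (.leaf 0))) (.node (.node (.leaf 7735) (.leaf 0)) (.node (.leaf 13500) (.leaf 0)))))) (.node (.node (.node (.node (.node (.leaf 887) (.leaf 14285)) (.node (.leaf 6281) (.leaf 0))) (.node (.node (.leaf 8393) (.leaf 16234)) (.node (.leaf 9495) (.leaf 0)))) (.node (.node (.node (.leaf 910) (.leaf 12686)) (.node (.leaf 18358) (.leaf 0))) (.node (.node (.leaf 16239) (.leaf 0)) (.node (.leaf 3968) (.leaf 0))))) (.node (.node (.node (.node (.leaf 12704) (.leaf 6389)) (.node (.leaf 9952) (.leaf 0))) (.node (.node (.leaf 8875) (.leaf 0)) (.node (.leaf 5896) (.leaf 0)))) (.node (.node (.node (.leaf 13507) (.leaf 168)) (.node (.leaf 18019) (.leaf 0))) (.node (.node (.leaf 7986) (.leaf 0)) (.node (.leaf 818) (.leaf 0)))))))) (.node (.node (.node (.node (.node (.node (.node (.leaf 19395) (.leaf 17502)) (.node (.leaf 1346) (.leaf 0))) (.node (.node (.leaf 11267) (.leaf 4761)) (.node (.leaf 5616) (.leaf 0)))) (.node (.node (.node (.leaf 1446) (.leaf 18663)) (.node (.leaf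 19706) (.leaf 0))) (.node (.node (.leaf 21353) (.leaf 0)) (.node (.leaf 11104) (.leaf 0))))) (.node (.node (.node (.node (.leaf 12064) (.leaf 7432)) (.node (.leaf 20823) (.leaf 0))) (.node (.node (.leaf 1177) (.leaf 0)) (.node (.leaf 19519) (.leaf 0)))) (.node (.node (.node (.leaf 18437) (.leaf 3932)) (.node (.leaf 9530) (.leaf 0))) (.node (.node (.leaf 3568) (.leaf 0)) (.node (.leaf 18797) (.leaf 0)))))) (.node (.node (.node (.node (.node (.leaf 314) (.leaf 18969)) (.node (.leaf 3782) (.leaf 0))) (.node (.node (.leaf 4542) (.leaf 1229)) (.node (.leaf 5714) (.leaf 0)))) (.node (.node (.node (.leaf 15044) (.leaf 3300)) (.node (.leaf 11010) (.leaf 0))) (.node (.node (.leaf 7171) (.leaf 0)) (.node (.leaf 9728) (.leaf 0))))) (.node (.node (.node (.node (.leaf 13061) (.leaf 14445)) (.node (.leaf 7091) (.leaf 0))) (.node (.node (.leaf 3442) (.leaf 0)) (.node (.leaf 17941) (.leaf 0)))) (.node (.node (.node (.leaf 9741) (.leaf 13863)) (.node (.leaf 20446) (.leaf 0))) (.node (.node (.leaf 16487) (.leaf 0))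 (.node (.leaf 931) (.leaf 0))))))) (.node (.node (.node (.node (.node (.node (.leaf 14502) (.leaf 5701)) (.node (.leaf 2275) (.leaf 0))) (.node (.node (.leaf 16025) (.leaf 7988)) (.node (.leaf 9165) (.leaf 0)))) (.node (.node (.node (.leaf 3328) (.leaf 4242)) (.node (.leaf 9354) (.leaf 0))) (.node (.node (.leaf 20353) (.leaf 0)) (.node (.leaf 10263) (.leaf 0))))) (.node (.node (.node (.node (.leaf 2321) (.leaf 1201)) (.node (.leaf 950) (.leaf 0))) (.node (.node (.leaf 9634) (.leaf 0)) (.node (.leaf 3474) (.leaf 0)))) (.node (.node (.node (.leaf 851) (.leaf 20221)) (.node (.leaf 7025) (.leaf 0))) (.node (.node (.leaf 12126) (.leaf 0)) (.node (.leaf 17008) (.leaf 0)))))) (.node (.node (.node (.node (.node (.leaf 15146) (.leaf 14797)) (.node (.leaf 11475) (.leaf 0))) (.node (.node (.leaf 1833) (.leaf 4224)) (.node (.leaf 13739) (.leaf 0)))) (.node (.node (.node (.leaf 20252) (.leaf 3027)) (.node (.leaf 6072) (.leaf 0))) (.node (.node (.leaf 5661) (.leaf 0)) (.node (.leaf 13602) (.leaf 0))))) (.node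 (.node (.node (.node (.leaf 11427) (.leaf 18866)) (.node (.leaf 5049) (.leaf 0))) (.node (.node (.leaf 2054) (.leaf 0)) (.node (.leaf 21121) (.leaf 0)))) (.node (.node (.node (.leaf 6592) (.leaf 5519)) (.node (.leaf 11663) (.leaf 0))) (.node (.node (.leaf 13303) (.leaf 0)) (.node (.leaf 14298) (.leaf 0)))))))))

/-- part of a table -/
def ordK121 : Trie := (.node (.node (.node (.node (.node (.node (.node (.node (.leaf 11526) (.leaf 7014)) (.node (.leaf 7964) (.leaf 0))) (.node (.node (.leaf 7291) (.leaf 20545)) (.node (.leaf 4376) (.leaf 0)))) (.node (.node (.node (.leaf 226) (.leaf 15793)) (.node (.leaf 13750) (.leaf 0))) (.node (.node (.leaf 9003) (.leaf 0)) (.node (.leaf 11355) (.leaf 0))))) (.node (.node (.node (.node (.leaf 17866) (.leaf 3605)) (.node (.leaf 7082) (.leaf 0))) (.node (.node (.leaf 5075) (.leaf 0)) (.node (.leaf 19000) (.leaf 0)))) (.node (.node (.node (.leaf 14005) (.leaf 16086)) (.node (.leaf 14440) (.leaf 0))) (.node (.node (.leaf 9670) (.leaf 0)) (.node (.leaf 15038) (.leaf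 0)))))) (.node (.node (.node (.node (.node (.leaf 4573) (.leaf 12945)) (.node (.leaf 17556) (.leaf 0))) (.node (.node (.leaf 20620) (.leaf 13688)) (.node (.leaf 21124) (.leaf 0)))) (.node (.node (.node (.leaf 13585) (.leaf 9832)) (.node (.leaf 641) (.leaf 0))) (.node (.node (.leaf 14714) (.leaf 0)) (.node (.leaf 5901) (.leaf 0))))) (.node (.node (.node (.node (.leaf 15154) (.leaf 14245)) (.node (.leaf 8049) (.leaf 0))) (.node (.node (.leaf 7141) (.leaf 0)) (.node (.leaf 1001) (.leaf 0)))) (.node (.node (.node (.leaf 10306) (.leaf 8184)) (.node (.leaf 8587) (.leaf 0))) (.node (.node (.leaf 11008) (.leaf 0)) (.node (.leaf 7596) (.leaf 0))))))) (.node (.node (.node (.node (.node (.node (.leaf 18734) (.leaf 17049)) (.node (.leaf 4957) (.leaf 0))) (.node (.node (.leaf 785) (.leaf 16770)) (.node (.leaf 3056) (.leaf 0)))) (.node (.node (.node (.leaf 1558) (.leaf 12570)) (.node (.leaf 1868) (.leaf 0))) (.node (.node (.leaf 21287) (.leaf 0)) (.node (.leaf 2764) (.leaf 0))))) (.node (.node (.node (.node (.leaf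 14069) (.leaf 12041)) (.node (.leaf 2199) (.leaf 0))) (.node (.node (.leaf 8445) (.leaf 0)) (.node (.leaf 12382) (.leaf 0)))) (.node (.node (.node (.leaf 19475) (.leaf 15119)) (.node (.leaf 19126) (.leaf 0))) (.node (.node (.leaf 3589) (.leaf 0)) (.node (.leaf 10669) (.leaf 0)))))) (.node (.node (.node (.node (.node (.leaf 5393) (.leaf 11201)) (.node (.leaf 2526) (.leaf 0))) (.node (.node (.leaf 4478) (.leaf 2091)) (.node (.leaf 12269) (.leaf 0)))) (.node (.node (.node (.leaf 3671) (.leaf 1233)) (.node (.leaf 5932) (.leaf 0))) (.node (.node (.leaf 9789) (.leaf 0)) (.node (.leaf 10446) (.leaf 0))))) (.node (.node (.node (.node (.leaf 16438) (.leaf 2560)) (.node (.leaf 1378) (.leaf 0))) (.node (.node (.leaf 17602) (.leaf 0)) (.node (.leaf 2874) (.leaf 0)))) (.node (.node (.node (.leaf 7417) (.leaf 8628)) (.node (.leaf 3330) (.leaf 0))) (.node (.node (.leaf 15444) (.leaf 0)) (.node (.leaf 18974) (.leaf 0)))))))) (.node (.node (.node (.node (.node (.node (.node (.leaf 18344) (.leaf 13910)) (.node (.leaf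 18908) (.leaf 0))) (.node (.node (.leaf 17742) (.leaf 9188)) (.node (.leaf 7695) (.leaf 0)))) (.node (.node (.node (.leaf 3150) (.leaf 20159)) (.node (.leaf 16849) (.leaf 0))) (.node (.node (.leaf 17716) (.leaf 0)) (.node (.leaf 12656) (.leaf 0))))) (.node (.node (.node (.node (.leaf 1741) (.leaf 10196)) (.node (.leaf 1003) (.leaf 0))) (.node (.node (.leaf 11088) (.leaf 0)) (.node (.leaf 21003) (.leaf 0)))) (.node (.node (.node (.leaf 3045) (.leaf 10534)) (.node (.leaf 15690) (.leaf 0))) (.node (.node (.leaf 8478) (.leaf 0)) (.node (.leaf 7824) (.leaf 0)))))) (.node (.node (.node (.node (.node (.leaf 17589) (.leaf 5338)) (.node (.leaf 10758) (.leaf 0))) (.node (.node (.leaf 20265) (.leaf 19567)) (.node (.leaf 9306) (.leaf 0)))) (.node (.node (.node (.leaf 13983) (.leaf 15625)) (.node (.leaf 21418) (.leaf 0))) (.node (.node (.leaf 1607) (.leaf 0)) (.node (.leaf 4859) (.leaf 0))))) (.node (.node (.node (.node (.leaf 13132) (.leaf 15924)) (.node (.leaf 5838) (.leaf 0))) (.node (.node (.leaf 21092) (.leaf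 0)) (.node (.leaf 18874) (.leaf 0)))) (.node (.node (.node (.leaf 10651) (.leaf 18489)) (.node (.leaf 13907) (.leaf 0))) (.node (.node (.leaf 1022) (.leaf 0)) (.node (.leaf 7053) (.leaf 0))))))) (.node (.node (.node (.node (.node (.node (.leaf 4382) (.leaf 8767)) (.node (.leaf 18219) (.leaf 0))) (.node (.node (.leaf 6904) (.leaf 14047)) (.node (.leaf 12615) (.leaf 0)))) (.node (.node (.node (.leaf 11327) (.leaf 6738)) (.node (.leaf 14606) (.leaf 0))) (.node (.node (.leaf 20249) (.leaf 0)) (.node (.leaf 12943) (.leaf 0))))) (.node (.node (.node (.node (.leaf 17827) (.leaf 12084)) (.node (.leaf 2923) (.leaf 0))) (.node (.node (.leaf 1039) (.leaf 0)) (.node (.leaf 11577) (.leaf 0)))) (.node (.node (.node (.leaf 8072) (.leaf 15953)) (.node (.leaf 21059) (.leaf 0))) (.node (.node (.leaf 8391) (.leaf 0)) (.node (.leaf 19334) (.leaf 0)))))) (.node (.node (.node (.node (.node (.leaf 8721) (.leaf 14177)) (.node (.leaf 2193) (.leaf 0))) (.node (.node (.leaf 19975) (.leaf 9276)) (.node (.leaf 13999) (.leaf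 0)))) (.node (.node (.node (.leaf 17934) (.leaf 9969)) (.node (.leaf 5817) (.leaf 0))) (.node (.node (.leaf 21487) (.leaf 0)) (.node (.leaf 11664) (.leaf 0))))) (.node (.node (.node (.node (.leaf 2445) (.leaf 9620)) (.node (.leaf 422) (.leaf 0))) (.node (.node (.leaf 18101) (.leaf 0)) (.node (.leaf 6946) (.leaf 0)))) (.node (.node (.node (.leaf 2898) (.leaf 18028)) (.node (.leaf 1230) (.leaf 0))) (.node (.node (.leaf 20432) (.leaf 0)) (.node (.leaf 14089) (.leaf 0)))))))))

/-- part of a table -/
def ordK122 : Trie := (.node (.node (.node (.node (.node (.node (.node (.node (.leaf 17518) (.leaf 17961)) (.node (.leaf 6088) (.leaf 0))) (.node (.node (.leaf 1191) (.leaf 2072)) (.node (.leaf 10793) (.leaf 0)))) (.node (.node (.node (.leaf 2515) (.leaf 16010)) (.node (.leaf 2840) (.leaf 0))) (.node (.node (.leaf 16336) (.leaf 0)) (.node (.leaf 8542) (.leaf 0))))) (.node (.node (.node (.node (.leaf 12589) (.leaf 15079)) (.node (.leaf 3042) (.leaf 0))) (.node (.node (.leaf 18668) (.leaf 0)) (.node (.leaf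 7127) (.leaf 0)))) (.node (.node (.node (.leaf 12338) (.leaf 6153)) (.node (.leaf 11905) (.leaf 0))) (.node (.node (.leaf 20274) (.leaf 0)) (.node (.leaf 16304) (.leaf 0)))))) (.node (.node (.node (.node (.node (.leaf 6945) (.leaf 3221)) (.node (.leaf 11884) (.leaf 0))) (.node (.node (.leaf 10317) (.leaf 4154)) (.node (.leaf 7515) (.leaf 0)))) (.node (.node (.node (.leaf 17779) (.leaf 16373)) (.node (.leaf 14656) (.leaf 0))) (.node (.node (.leaf 13883) (.leaf 0)) (.node (.leaf 5318) (.leaf 0))))) (.node (.node (.node (.node (.leaf 13323) (.leaf 881)) (.node (.leaf 20018) (.leaf 0))) (.node (.node (.leaf 2316) (.leaf 0)) (.node (.leaf 11903) (.leaf 0)))) (.node (.node (.node (.leaf 5118) (.leaf 16412)) (.node (.leaf 4537) (.leaf 0))) (.node (.node (.leaf 15037) (.leaf 0)) (.node (.leaf 687) (.leaf 0))))))) (.node (.node (.node (.node (.node (.node (.leaf 9632) (.leaf 14250)) (.node (.leaf 12048) (.leaf 0))) (.node (.node (.leaf 1667) (.leaf 16910)) (.node (.leaf 21221) (.leaf 0)))) (.node (.node (.node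 (.leaf 17775) (.leaf 2516)) (.node (.leaf 15201) (.leaf 0))) (.node (.node (.leaf 17322) (.leaf 0)) (.node (.leaf 12963) (.leaf 0))))) (.node (.node (.node (.node (.leaf 20133) (.leaf 4546)) (.node (.leaf 16371) (.leaf 0))) (.node (.node (.leaf 19871) (.leaf 0)) (.node (.leaf 10738) (.leaf 0)))) (.node (.node (.node (.leaf 16000) (.leaf 8526)) (.node (.leaf 4260) (.leaf 0))) (.node (.node (.leaf 7251) (.leaf 0)) (.node (.leaf 1045) (.leaf 0)))))) (.node (.node (.node (.node (.node (.leaf 135) (.leaf 7866)) (.node (.leaf 121) (.leaf 0))) (.node (.node (.leaf 18150) (.leaf 8651)) (.node (.leaf 7843) (.leaf 0)))) (.node (.node (.node (.leaf 2354) (.leaf 3158)) (.node (.leaf 9002) (.leaf 0))) (.node (.node (.leaf 4947) (.leaf 0)) (.node (.leaf 13594) (.leaf 0))))) (.node (.node (.node (.node (.leaf 18313) (.leaf 2163)) (.node (.leaf 12930) (.leaf 0))) (.node (.node (.leaf 16897) (.leaf 0)) (.node (.leaf 4119) (.leaf 0)))) (.node (.node (.node (.leaf 19886) (.leaf 19602)) (.node (.leaf 3203) (.leaf 0)))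 (.node (.node (.leaf 2897) (.leaf 0)) (.node (.leaf 19847) (.leaf 0)))))))) (.node (.node (.node (.node (.node (.node (.node (.leaf 15016) (.leaf 13428)) (.node (.leaf 10901) (.leaf 0))) (.node (.node (.leaf 2093) (.leaf 19663)) (.node (.leaf 10272) (.leaf 0)))) (.node (.node (.node (.leaf 13091) (.leaf 17643)) (.node (.leaf 18602) (.leaf 0))) (.node (.node (.leaf 19302) (.leaf 0)) (.node (.leaf 11335) (.leaf 0))))) (.node (.node (.node (.node (.leaf 14944) (.leaf 20128)) (.node (.leaf 14929) (.leaf 0))) (.node (.node (.leaf 19314) (.leaf 0)) (.node (.leaf 20162) (.leaf 0)))) (.node (.node (.node (.leaf 14913) (.leaf 17996)) (.node (.leaf 16349) (.leaf 0))) (.node (.node (.leaf 16087) (.leaf 0)) (.node (.leaf 11749) (.leaf 0)))))) (.node (.node (.node (.node (.node (.leaf 19113) (.leaf 14387)) (.node (.leaf 4423) (.leaf 0))) (.node (.node (.leaf 4580) (.leaf 5552)) (.node (.leaf 10011) (.leaf 0)))) (.node (.node (.node (.leaf 11806) (.leaf 12365)) (.node (.leaf 17133) (.leaf 0))) (.node (.node (.leaf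 14625) (.leaf 0)) (.node (.leaf 13775) (.leaf 0))))) (.node (.node (.node (.node (.leaf 14522) (.leaf 9291)) (.node (.leaf 15134) (.leaf 0))) (.node (.node (.leaf 19639) (.leaf 0)) (.node (.leaf 9953) (.leaf 0)))) (.node (.node (.node (.leaf 17292) (.leaf 3492)) (.node (.leaf 3084) (.leaf 0))) (.node (.node (.leaf 18513) (.leaf 0)) (.node (.leaf 5721) (.leaf 0))))))) (.node (.node (.node (.node (.node (.node (.leaf 392) (.leaf 15548)) (.node (.leaf 7773) (.leaf 0))) (.node (.node (.leaf 15979) (.leaf 21145)) (.node (.leaf 17949) (.leaf 0)))) (.node (.node (.node (.leaf 5557) (.leaf 1867)) (.node (.leaf 5560) (.leaf 0))) (.node (.node (.leaf 5781) (.leaf 0)) (.node (.leaf 849) (.leaf 0))))) (.node (.node (.node (.node (.leaf 17820) (.leaf 3487)) (.node (.leaf 11248) (.leaf 0))) (.node (.node (.leaf 6522) (.leaf 0)) (.node (.leaf 16248) (.leaf 0)))) (.node (.node (.node (.leaf 14410) (.leaf 21223)) (.node (.leaf 14957) (.leaf 0))) (.node (.node (.leaf 18192) (.leaf 0)) (.node (.leaf 12708) (.leaf 0))))))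 (.node (.node (.node (.node (.node (.leaf 20588) (.leaf 15399)) (.node (.leaf 5235) (.leaf 0))) (.node (.node (.leaf 16232) (.leaf 19376)) (.node (.leaf 14505) (.leaf 0)))) (.node (.node (.node (.leaf 8581) (.leaf 18896)) (.node (.leaf 4061) (.leaf 0))) (.node (.node (.leaf 2201) (.leaf 0)) (.node (.leaf 13815) (.leaf 0))))) (.node (.node (.node (.node (.leaf 16385) (.leaf 14034)) (.node (.leaf 4052) (.leaf 0))) (.node (.node (.leaf 2460) (.leaf 0)) (.node (.leaf 3633) (.leaf 0)))) (.node (.node (.node (.leaf 20176) (.leaf 10161)) (.node (.leaf 8608) (.leaf 0))) (.node (.node (.leaf 14231) (.leaf 0)) (.node (.leaf 8103) (.leaf 0)))))))))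

/-- part of a table -/
def ordK123 : Trie := (.node (.node (.node (.node (.node (.node (.node (.node (.leaf 17368) (.leaf 19505)) (.node (.leaf 745) (.leaf 0))) (.node (.node (.leaf 18187) (.leaf 3674)) (.node (.leaf 18146) (.leaf 0)))) (.node (.node (.node (.leaf 11779) (.leaf 6074)) (.node (.leaf 2662) (.leaf 0))) (.node (.node (.leaf 282) (.leaf 0)) (.node (.leaf 6698) (.leaf 0))))) (.node (.node (.node (.node (.leaf 13418) (.leaf 16274)) (.node (.leaf 1816) (.leaf 0))) (.node (.node (.leaf 8022) (.leaf 0)) (.node (.leaf 8428) (.leaf 0)))) (.node (.node (.node (.leaf 12153) (.leaf 5091)) (.node (.leaf 6853) (.leaf 0))) (.node (.node (.leaf 9496) (.leaf 0)) (.node (.leaf 14766) (.leaf 0)))))) (.node (.node (.node (.node (.node (.leaf 4663) (.leaf 16439)) (.node (.leaf 8616) (.leaf 0))) (.node (.node (.leaf 18739) (.leaf 12648)) (.node (.leaf 12964) (.leaf 0)))) (.node (.node (.node (.leaf 18644) (.leaf 17648)) (.node (.leaf 17283) (.leaf 0))) (.node (.node (.leaf 11246) (.leaf 0)) (.node (.leaf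 10776) (.leaf 0))))) (.node (.node (.node (.node (.leaf 11492) (.leaf 18365)) (.node (.leaf 16184) (.leaf 0))) (.node (.node (.leaf 9345) (.leaf 0)) (.node (.leaf 12239) (.leaf 0)))) (.node (.node (.node (.leaf 3149) (.leaf 12385)) (.node (.leaf 4504) (.leaf 0))) (.node (.node (.leaf 12519) (.leaf 0)) (.node (.leaf 7307) (.leaf 0))))))) (.node (.node (.node (.node (.node (.node (.leaf 7630) (.leaf 5005)) (.node (.leaf 1217) (.leaf 0))) (.node (.node (.leaf 2268) (.leaf 1605)) (.node (.leaf 6620) (.leaf 0)))) (.node (.node (.node (.leaf 2927) (.leaf 7006)) (.node (.leaf 13142) (.leaf 0))) (.node (.node (.leaf 6692) (.leaf 0)) (.node (.leaf 4691) (.leaf 0))))) (.node (.node (.node (.node (.leaf 8231) (.leaf 7018)) (.node (.leaf 20866) (.leaf 0))) (.node (.node (.leaf 2665) (.leaf 0)) (.node (.leaf 1963) (.leaf 0)))) (.node (.node (.node (.leaf 3201) (.leaf 2951)) (.node (.leaf 1560) (.leaf 0))) (.node (.node (.leaf 10639) (.leaf 0)) (.node (.leaf 1595) (.leaf 0)))))) (.node (.node (.node (.node (.node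 (.leaf 7450) (.leaf 20138)) (.node (.leaf 6265) (.leaf 0))) (.node (.node (.leaf 2297) (.leaf 14795)) (.node (.leaf 5185) (.leaf 0)))) (.node (.node (.node (.leaf 62) (.leaf 3179)) (.node (.leaf 4457) (.leaf 0))) (.node (.node (.leaf 19580) (.leaf 0)) (.node (.leaf 3571) (.leaf 0))))) (.node (.node (.node (.node (.leaf 20712) (.leaf 8286)) (.node (.leaf 11357) (.leaf 0))) (.node (.node (.leaf 13681) (.leaf 0)) (.node (.leaf 14648) (.leaf 0)))) (.node (.node (.node (.leaf 2741) (.leaf 3637)) (.node (.leaf 5849) (.leaf 0))) (.node (.node (.leaf 7111) (.leaf 0)) (.node (.leaf 3607) (.leaf 0)))))))) (.node (.node (.node (.node (.node (.node (.node (.leaf 11938) (.leaf 16475)) (.node (.leaf 20894) (.leaf 0))) (.node (.node (.leaf 12971) (.leaf 17116)) (.node (.leaf 1148) (.leaf 0)))) (.node (.node (.node (.leaf 2985) (.leaf 11928)) (.node (.leaf 19174) (.leaf 0))) (.node (.node (.leaf 2152) (.leaf 0)) (.node (.leaf 1044) (.leaf 0))))) (.node (.node (.node (.node (.leaf 1545) (.leaf 14675)) (.node (.leaf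 11344) (.leaf 0))) (.node (.node (.leaf 1619) (.leaf 0)) (.node (.leaf 5260) (.leaf 0)))) (.node (.node (.node (.leaf 1770) (.leaf 869)) (.node (.leaf 1752) (.leaf 0))) (.node (.node (.leaf 3537) (.leaf 0)) (.node (.leaf 1845) (.leaf 0)))))) (.node (.node (.node (.node (.node (.leaf 4377) (.leaf 20998)) (.node (.leaf 8379) (.leaf 0))) (.node (.node (.leaf 7822) (.leaf 5726)) (.node (.leaf 18266) (.leaf 0)))) (.node (.node (.node (.leaf 9066) (.leaf 8787)) (.node (.leaf 9824) (.leaf 0))) (.node (.node (.leaf 16108) (.leaf 0)) (.node (.leaf 20236) (.leaf 0))))) (.node (.node (.node (.node (.leaf 13107) (.leaf 13780)) (.node (.leaf 17904) (.leaf 0))) (.node (.node (.leaf 7089) (.leaf 0)) (.node (.leaf 3798) (.leaf 0)))) (.node (.node (.node (.leaf 16140) (.leaf 3728)) (.node (.leaf 7741) (.leaf 0))) (.node (.node (.leaf 790) (.leaf 0)) (.node (.leaf 535) (.leaf 0))))))) (.node (.node (.node (.node (.node (.node (.leaf 21039) (.leaf 19806)) (.node (.leaf 6472) (.leaf 0))) (.node (.node (.leaf 21219)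 (.leaf 6174)) (.node (.leaf 21342) (.leaf 0)))) (.node (.node (.node (.leaf 3448) (.leaf 15063)) (.node (.leaf 10779) (.leaf 0))) (.node (.node (.leaf 7072) (.leaf 0)) (.node (.leaf 2493) (.leaf 0))))) (.node (.node (.node (.node (.leaf 3751) (.leaf 14419)) (.node (.leaf 5000) (.leaf 0))) (.node (.node (.leaf 15772) (.leaf 0)) (.node (.leaf 597) (.leaf 0)))) (.node (.node (.node (.leaf 18673) (.leaf 6687)) (.node (.leaf 1234) (.leaf 0))) (.node (.node (.leaf 17914) (.leaf 0)) (.node (.leaf 10973) (.leaf 0)))))) (.node (.node (.node (.node (.node (.leaf 13672) (.leaf 16326)) (.node (.leaf 19789) (.leaf 0))) (.node (.node (.leaf 3817) (.leaf 5012)) (.node (.leaf 19184) (.leaf 0)))) (.node (.node (.node (.leaf 7230) (.leaf 12757)) (.node (.leaf 17429) (.leaf 0))) (.node (.node (.leaf 16801) (.leaf 0)) (.node (.leaf 21377) (.leaf 0))))) (.node (.node (.node (.node (.leaf 866) (.leaf 10798)) (.node (.leaf 15109) (.leaf 0))) (.node (.node (.leaf 17135) (.leaf 0)) (.node (.leaf 4240) (.leaf 0)))) (.node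 (.node (.node (.leaf 3192) (.leaf 5880)) (.node (.leaf 6473) (.leaf 0))) (.node (.node (.leaf 11924) (.leaf 0)) (.node (.leaf 8633) (.leaf 0)))))))))

/-- part of a table -/
def ordK124 : Trie := (.node (.node (.node (.node (.node (.node (.node (.node (.leaf 12303) (.leaf 425)) (.node (.leaf 14910) (.leaf 0))) (.node (.node (.leaf 19611) (.leaf 11820)) (.node (.leaf 1179) (.leaf 0)))) (.node (.node (.node (.leaf 8890) (.leaf 19568)) (.node (.leaf 3464) (.leaf 0))) (.node (.node (.leaf 16865) (.leaf 0)) (.node (.leaf 15270) (.leaf 0))))) (.node (.node (.node (.node (.leaf 19441) (.leaf 2151)) (.node (.leaf 4477) (.leaf 0))) (.node (.node (.leaf 7796) (.leaf 0)) (.node (.leaf 15461) (.leaf 0)))) (.node (.node (.node (.leaf 1857) (.leaf 10547)) (.node (.leaf 53) (.leaf 0))) (.node (.node (.leaf 18528) (.leaf 0)) (.node (.leaf 7263) (.leaf 0)))))) (.node (.node (.node (.node (.node (.leaf 10112) (.leaf 9757)) (.node (.leaf 6643) (.leaf 0))) (.node (.node (.leaf 14255) (.leaf 21068)) (.node (.leaf 18367)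 (.leaf 0)))) (.node (.node (.node (.leaf 2568) (.leaf 19085)) (.node (.leaf 15267) (.leaf 0))) (.node (.node (.leaf 7668) (.leaf 0)) (.node (.leaf 20632) (.leaf 0))))) (.node (.node (.node (.node (.leaf 12045) (.leaf 544)) (.node (.leaf 8648) (.leaf 0))) (.node (.node (.leaf 7958) (.leaf 0)) (.node (.leaf 370) (.leaf 0)))) (.node (.node (.node (.leaf 1506) (.leaf 990)) (.node (.leaf 2273) (.leaf 0))) (.node (.node (.leaf 5503) (.leaf 0)) (.node (.leaf 9091) (.leaf 0))))))) (.node (.node (.node (.node (.node (.node (.leaf 6508) (.leaf 18383)) (.node (.leaf 3836) (.leaf 0))) (.node (.node (.leaf 7603) (.leaf 15162)) (.node (.leaf 12027) (.leaf 0)))) (.node (.node (.node (.leaf 19451) (.leaf 899)) (.node (.leaf 11463) (.leaf 0))) (.node (.node (.leaf 16378) (.leaf 0)) (.node (.leaf 4097) (.leaf 0))))) (.node (.node (.node (.node (.leaf 10811) (.leaf 1254)) (.node (.leaf 7757) (.leaf 0))) (.node (.node (.leaf 2190) (.leaf 0)) (.node (.leaf 4935) (.leaf 0)))) (.node (.node (.node (.leaf 7196) (.leaf 450))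 (.node (.leaf 4309) (.leaf 0))) (.node (.node (.leaf 13348) (.leaf 0)) (.node (.leaf 20343) (.leaf 0)))))) (.node (.node (.node (.node (.node (.leaf 9013) (.leaf 12094)) (.node (.leaf 3703) (.leaf 0))) (.node (.node (.leaf 11481) (.leaf 18889)) (.node (.leaf 15921) (.leaf 0)))) (.node (.node (.node (.leaf 1401) (.leaf 17376)) (.node (.leaf 17707) (.leaf 0))) (.node (.node (.leaf 12691) (.leaf 0)) (.node (.leaf 11348) (.leaf 0))))) (.node (.node (.node (.node (.leaf 3196) (.leaf 9844)) (.node (.leaf 10519) (.leaf 0))) (.node (.node (.leaf 1998) (.leaf 0)) (.node (.leaf 10155) (.leaf 0)))) (.node (.node (.node (.leaf 20167) (.leaf 15262)) (.node (.leaf 6711) (.leaf 0))) (.node (.node (.leaf 17603) (.leaf 0)) (.node (.leaf 13784) (.leaf 0)))))))) (.node (.node (.node (.node (.node (.node (.node (.leaf 5010) (.leaf 19398)) (.node (.leaf 11872) (.leaf 0))) (.node (.node (.leaf 1400) (.leaf 4877)) (.node (.leaf 17505) (.leaf 0)))) (.node (.node (.node (.leaf 6825) (.leaf 12312)) (.node (.leaf 14679) (.leaf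 0))) (.node (.node (.leaf 20977) (.leaf 0)) (.node (.leaf 12380) (.leaf 0))))) (.node (.node (.node (.node (.leaf 8177) (.leaf 3833)) (.node (.leaf 4077) (.leaf 0))) (.node (.node (.leaf 20924) (.leaf 0)) (.node (.leaf 6707) (.leaf 0)))) (.node (.node (.node (.leaf 20700) (.leaf 1907)) (.node (.leaf 17491) (.leaf 0))) (.node (.node (.leaf 773) (.leaf 0)) (.node (.leaf 16206) (.leaf 0)))))) (.node (.node (.node (.node (.node (.leaf 9872) (.leaf 6299)) (.node (.leaf 13825) (.leaf 0))) (.node (.node (.leaf 11379) (.leaf 12936)) (.node (.leaf 15525) (.leaf 0)))) (.node (.node (.node (.leaf 15935) (.leaf 6594)) (.node (.leaf 18842) (.leaf 0))) (.node (.node (.leaf 9737) (.leaf 0)) (.node (.leaf 13528) (.leaf 0))))) (.node (.node (.node (.node (.leaf 4605) (.leaf 19570)) (.node (.leaf 11688) (.leaf 0))) (.node (.node (.leaf 15373) (.leaf 0)) (.node (.leaf 2833) (.leaf 0)))) (.node (.node (.node (.leaf 21498) (.leaf 16906)) (.node (.leaf 16179) (.leaf 0))) (.node (.node (.leaf 15601) (.leaf 0)) (.node (.leaf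 18453) (.leaf 0))))))) (.node (.node (.node (.node (.node (.node (.leaf 14649) (.leaf 8289)) (.node (.leaf 138) (.leaf 0))) (.node (.node (.leaf 13853) (.leaf 14342)) (.node (.leaf 21317) (.leaf 0)))) (.node (.node (.node (.leaf 2878) (.leaf 15200)) (.node (.leaf 15880) (.leaf 0))) (.node (.node (.leaf 11265) (.leaf 0)) (.node (.leaf 13474) (.leaf 0))))) (.node (.node (.node (.node (.leaf 8147) (.leaf 11250)) (.node (.leaf 7438) (.leaf 0))) (.node (.node (.leaf 12784) (.leaf 0)) (.node (.leaf 958) (.leaf 0)))) (.node (.node (.node (.leaf 2453) (.leaf 17360)) (.node (.leaf 12919) (.leaf 0))) (.node (.node (.leaf 8060) (.leaf 0)) (.node (.leaf 12713) (.leaf 0)))))) (.node (.node (.node (.node (.node (.leaf 4289) (.leaf 6254)) (.node (.leaf 16223) (.leaf 0))) (.node (.node (.leaf 15458) (.leaf 2079)) (.node (.leaf 13402) (.leaf 0)))) (.node (.node (.node (.leaf 17646) (.leaf 8158)) (.node (.leaf 16659) (.leaf 0))) (.node (.node (.leaf 21386) (.leaf 0)) (.node (.leaf 12410) (.leaf 0))))) (.node (.node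 (.node (.node (.leaf 10672) (.leaf 20014)) (.node (.leaf 19926) (.leaf 0))) (.node (.node (.leaf 2587) (.leaf 0)) (.node (.leaf 3112) (.leaf 0)))) (.node (.node (.node (.leaf 16161) (.leaf 2725)) (.node (.leaf 5412) (.leaf 0))) (.node (.node (.leaf 12339) (.leaf 0)) (.node (.leaf 18398) (.leaf 0)))))))))

/-- part of a table -/
def ordK125 : Trie := (.node (.node (.node (.node (.node (.node (.node (.node (.leaf 6821) (.leaf 3960)) (.node (.leaf 11710) (.leaf 0))) (.node (.node (.leaf 18042) (.leaf 17493)) (.node (.leaf 273) (.leaf 0)))) (.node (.node (.node (.leaf 898) (.leaf 7803)) (.node (.leaf 14863) (.leaf 0))) (.node (.node (.leaf 20321) (.leaf 0)) (.node (.leaf 6807) (.leaf 0))))) (.node (.node (.node (.node (.leaf 6805) (.leaf 4796)) (.node (.leaf 12265) (.leaf 0))) (.node (.node (.leaf 3521) (.leaf 0)) (.node (.leaf 15307) (.leaf 0)))) (.node (.node (.node (.leaf 2904) (.leaf 1470)) (.node (.leaf 10653) (.leaf 0))) (.node (.node (.leaf 17025) (.leaf 0)) (.node (.leaf 12315) (.leaf 0))))))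 (.node (.node (.node (.node (.node (.leaf 12191) (.leaf 6918)) (.node (.leaf 10522) (.leaf 0))) (.node (.node (.leaf 20685) (.leaf 5610)) (.node (.leaf 6613) (.leaf 0)))) (.node (.node (.node (.leaf 6295) (.leaf 16567)) (.node (.leaf 5380) (.leaf 0))) (.node (.node (.leaf 21038) (.leaf 0)) (.node (.leaf 18125) (.leaf 0))))) (.node (.node (.node (.node (.leaf 9860) (.leaf 5263)) (.node (.leaf 4139) (.leaf 0))) (.node (.node (.leaf 21406) (.leaf 0)) (.node (.leaf 14263) (.leaf 0)))) (.node (.node (.node (.leaf 14149) (.leaf 4195)) (.node (.leaf 4587) (.leaf 0))) (.node (.node (.leaf 13885) (.leaf 0)) (.node (.leaf 56) (.leaf 0))))))) (.node (.node (.node (.node (.node (.node (.leaf 19079) (.leaf 9914)) (.node (.leaf 18469) (.leaf 0))) (.node (.node (.leaf 11131) (.leaf 18012)) (.node (.leaf 775) (.leaf 0)))) (.node (.node (.node (.leaf 7312) (.leaf 7444)) (.node (.leaf 16496) (.leaf 0))) (.node (.node (.leaf 2117) (.leaf 0)) (.node (.leaf 7329) (.leaf 0))))) (.node (.node (.node (.node (.leaf 2206)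 (.leaf 3755)) (.node (.leaf 6229) (.leaf 0))) (.node (.node (.leaf 5809) (.leaf 0)) (.node (.leaf 19277) (.leaf 0)))) (.node (.node (.node (.leaf 10554) (.leaf 10717)) (.node (.leaf 4523) (.leaf 0))) (.node (.node (.leaf 17857) (.leaf 0)) (.node (.leaf 8141) (.leaf 0)))))) (.node (.node (.node (.node (.node (.leaf 16403) (.leaf 11636)) (.node (.leaf 1613) (.leaf 0))) (.node (.node (.leaf 15002) (.leaf 14808)) (.node (.leaf 20402) (.leaf 0)))) (.node (.node (.node (.leaf 13613) (.leaf 20409)) (.node (.leaf 5746) (.leaf 0))) (.node (.node (.leaf 21267) (.leaf 0)) (.node (.leaf 12215) (.leaf 0))))) (.node (.node (.node (.node (.leaf 4640) (.leaf 17877)) (.node (.leaf 18916) (.leaf 0))) (.node (.node (.leaf 2228) (.leaf 0)) (.node (.leaf 14499) (.leaf 0)))) (.node (.node (.node (.leaf 14540) (.leaf 18940)) (.node (.leaf 10037) (.leaf 0))) (.node (.node (.leaf 10609) (.leaf 0)) (.node (.leaf 8530) (.leaf 0)))))))) (.node (.node (.node (.node (.node (.node (.node (.leaf 9898) (.leaf 13311)) (.node (.leaf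 1383) (.leaf 0))) (.node (.node (.leaf 6011) (.leaf 14911)) (.node (.leaf 16648) (.leaf 0)))) (.node (.node (.node (.leaf 10925) (.leaf 10997)) (.node (.leaf 4073) (.leaf 0))) (.node (.node (.leaf 9598) (.leaf 0)) (.node (.leaf 15898) (.leaf 0))))) (.node (.node (.node (.node (.leaf 12744) (.leaf 11115)) (.node (.leaf 10367) (.leaf 0))) (.node (.node (.leaf 3187) (.leaf 0)) (.node (.leaf 5665) (.leaf 0)))) (.node (.node (.node (.leaf 353) (.leaf 4378)) (.node (.leaf 1289) (.leaf 0))) (.node (.node (.leaf 10695) (.leaf 0)) (.node (.leaf 13277) (.leaf 0)))))) (.node (.node (.node (.node (.node (.leaf 5274) (.leaf 15020)) (.node (.leaf 6337) (.leaf 0))) (.node (.node (.leaf 2295) (.leaf 14)) (.node (.leaf 19811) (.leaf 0)))) (.node (.node (.node (.leaf 3461) (.leaf 8159)) (.node (.leaf 10795) (.leaf 0))) (.node (.node (.leaf 14753) (.leaf 0)) (.node (.leaf 2124) (.leaf 0))))) (.node (.node (.node (.node (.leaf 2570) (.leaf 9781)) (.node (.leaf 13529) (.leaf 0))) (.node (.node (.leaf 14428) (.leaf 0))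 (.node (.leaf 18911) (.leaf 0)))) (.node (.node (.node (.leaf 726) (.leaf 17971)) (.node (.leaf 9759) (.leaf 0))) (.node (.node (.leaf 7282) (.leaf 0)) (.node (.leaf 1238) (.leaf 0))))))) (.node (.node (.node (.node (.node (.node (.leaf 2331) (.leaf 2562)) (.node (.leaf 5586) (.leaf 0))) (.node (.node (.leaf 8112) (.leaf 21136)) (.node (.leaf 11385) (.leaf 0)))) (.node (.node (.node (.leaf 2736) (.leaf 11018)) (.node (.leaf 6009) (.leaf 0))) (.node (.node (.leaf 10959) (.leaf 0)) (.node (.leaf 18195) (.leaf 0))))) (.node (.node (.node (.node (.leaf 7926) (.leaf 2343)) (.node (.leaf 4751) (.leaf 0))) (.node (.node (.leaf 15376) (.leaf 0)) (.node (.leaf 11444) (.leaf 0)))) (.node (.node (.node (.leaf 14966) (.leaf 3813)) (.node (.leaf 11141) (.leaf 0))) (.node (.node (.leaf 16202) (.leaf 0)) (.node (.leaf 11191) (.leaf 0)))))) (.node (.node (.node (.node (.node (.leaf 18038) (.leaf 12018)) (.node (.leaf 10085) (.leaf 0))) (.node (.node (.leaf 16091) (.leaf 17293)) (.node (.leaf 17929) (.leaf 0))))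 (.node (.node (.node (.leaf 5964) (.leaf 6028)) (.node (.leaf 17010) (.leaf 0))) (.node (.node (.leaf 12833) (.leaf 0)) (.node (.leaf 6897) (.leaf 0))))) (.node (.node (.node (.node (.leaf 19423) (.leaf 4871)) (.node (.leaf 17006) (.leaf 0))) (.node (.node (.leaf 19168) (.leaf 0)) (.node (.leaf 19287) (.leaf 0)))) (.node (.node (.node (.leaf 10024) (.leaf 14427)) (.node (.leaf 12177) (.leaf 0))) (.node (.node (.leaf 12767) (.leaf 0)) (.node (.leaf 13802) (.leaf 0)))))))))

/-- part of a table -/
def ordK126 : Trie := (.node (.node (.node (.node (.node (.node (.node (.node (.leaf 20137) (.leaf 4799)) (.node (.leaf 11403) (.leaf 0))) (.node (.node (.leaf 6177) (.leaf 14605)) (.node (.leaf 19069) (.leaf 0)))) (.node (.node (.node (.leaf 15978) (.leaf 17151)) (.node (.leaf 12030) (.leaf 0))) (.node (.node (.leaf 19055) (.leaf 0)) (.node (.leaf 15546) (.leaf 0))))) (.node (.node (.node (.node (.leaf 17794) (.leaf 13441)) (.node (.leaf 405) (.leaf 0))) (.node (.node (.leaf 15422) (.leaf 0)) (.node (.leaf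 12973) (.leaf 0)))) (.node (.node (.node (.leaf 5884) (.leaf 772)) (.node (.leaf 9175) (.leaf 0))) (.node (.node (.leaf 3258) (.leaf 0)) (.node (.leaf 14064) (.leaf 0)))))) (.node (.node (.node (.node (.node (.leaf 10679) (.leaf 12465)) (.node (.leaf 16590) (.leaf 0))) (.node (.node (.leaf 7807) (.leaf 4961)) (.node (.leaf 2765) (.leaf 0)))) (.node (.node (.node (.leaf 8850) (.leaf 6079)) (.node (.leaf 14030) (.leaf 0))) (.node (.node (.leaf 5311) (.leaf 0)) (.node (.leaf 18922) (.leaf 0))))) (.node (.node (.node (.node (.leaf 17422) (.leaf 16555)) (.node (.leaf 12650) (.leaf 0))) (.node (.node (.leaf 1700) (.leaf 0)) (.node (.leaf 6496) (.leaf 0)))) (.node (.node (.node (.leaf 17176) (.leaf 20888)) (.node (.leaf 8604) (.leaf 0))) (.node (.node (.leaf 17440) (.leaf 0)) (.node (.leaf 11980) (.leaf 0))))))) (.node (.node (.node (.node (.node (.node (.leaf 3677) (.leaf 11509)) (.node (.leaf 4758) (.leaf 0))) (.node (.node (.leaf 8905) (.leaf 10655)) (.node (.leaf 9086) (.leaf 0)))) (.node (.node (.node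 (.leaf 12463) (.leaf 11578)) (.node (.leaf 10054) (.leaf 0))) (.node (.node (.leaf 17080) (.leaf 0)) (.node (.leaf 13545) (.leaf 0))))) (.node (.node (.node (.node (.leaf 4531) (.leaf 3789)) (.node (.leaf 15187) (.leaf 0))) (.node (.node (.leaf 592) (.leaf 0)) (.node (.leaf 13350) (.leaf 0)))) (.node (.node (.node (.leaf 11741) (.leaf 11778)) (.node (.leaf 13433) (.leaf 0))) (.node (.node (.leaf 2174) (.leaf 0)) (.node (.leaf 15059) (.leaf 0)))))) (.node (.node (.node (.node (.node (.leaf 13720) (.leaf 17836)) (.node (.leaf 17486) (.leaf 0))) (.node (.node (.leaf 176) (.leaf 85)) (.node (.leaf 10364) (.leaf 0)))) (.node (.node (.node (.leaf 2094) (.leaf 1388)) (.node (.leaf 11769) (.leaf 0))) (.node (.node (.leaf 17702) (.leaf 0)) (.node (.leaf 10515) (.leaf 0))))) (.node (.node (.node (.node (.leaf 13986) (.leaf 11337)) (.node (.leaf 4625) (.leaf 0))) (.node (.node (.leaf 13714) (.leaf 0)) (.node (.leaf 190) (.leaf 0)))) (.node (.node (.node (.leaf 2477) (.leaf 16794)) (.node (.leaf 546) (.leaf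 0))) (.node (.node (.leaf 19222) (.leaf 0)) (.node (.leaf 13565) (.leaf 0)))))))) (.node (.node (.node (.node (.node (.node (.node (.leaf 7728) (.leaf 8828)) (.node (.leaf 9050) (.leaf 0))) (.node (.node (.leaf 9520) (.leaf 7579)) (.node (.leaf 17812) (.leaf 0)))) (.node (.node (.node (.leaf 12306) (.leaf 21078)) (.node (.leaf 17403) (.leaf 0))) (.node (.node (.leaf 17901) (.leaf 0)) (.node (.leaf 1956) (.leaf 0))))) (.node (.node (.node (.node (.leaf 20817) (.leaf 1652)) (.node (.leaf 13562) (.leaf 0))) (.node (.node (.leaf 9876) (.leaf 0)) (.node (.leaf 20868) (.leaf 0)))) (.node (.node (.node (.leaf 18645) (.leaf 10313)) (.node (.leaf 6989) (.leaf 0))) (.node (.node (.leaf 18325) (.leaf 0)) (.node (.leaf 2892) (.leaf 0)))))) (.node (.node (.node (.node (.node (.leaf 7463) (.leaf 4332)) (.node (.leaf 4254) (.leaf 0))) (.node (.node (.leaf 16256) (.leaf 4734)) (.node (.leaf 17605) (.leaf 0)))) (.node (.node (.node (.leaf 3039) (.leaf 9301)) (.node (.leaf 4402) (.leaf 0))) (.node (.node (.leaf 17262)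 (.leaf 0)) (.node (.leaf 17785) (.leaf 0))))) (.node (.node (.node (.node (.leaf 7680) (.leaf 10354)) (.node (.leaf 5492) (.leaf 0))) (.node (.node (.leaf 2682) (.leaf 0)) (.node (.leaf 15473) (.leaf 0)))) (.node (.node (.node (.leaf 6407) (.leaf 17549)) (.node (.leaf 15034) (.leaf 0))) (.node (.node (.leaf 6308) (.leaf 0)) (.node (.leaf 12976) (.leaf 0))))))) (.node (.node (.node (.node (.node (.node (.leaf 8977) (.leaf 18996)) (.node (.leaf 13449) (.leaf 0))) (.node (.node (.leaf 10234) (.leaf 7134)) (.node (.leaf 4234) (.leaf 0)))) (.node (.node (.node (.leaf 12522) (.leaf 4910)) (.node (.leaf 14459) (.leaf 0))) (.node (.node (.leaf 16189) (.leaf 0)) (.node (.leaf 5362) (.leaf 0))))) (.node (.node (.node (.node (.leaf 20863) (.leaf 18930)) (.node (.leaf 10998) (.leaf 0))) (.node (.node (.leaf 11211) (.leaf 0)) (.node (.leaf 14953) (.leaf 0)))) (.node (.node (.node (.leaf 18816) (.leaf 16941)) (.node (.leaf 20678) (.leaf 0))) (.node (.node (.leaf 174) (.leaf 0)) (.node (.leaf 3249) (.leaf 0))))))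 (.node (.node (.node (.node (.node (.leaf 7848) (.leaf 19465)) (.node (.leaf 18509) (.leaf 0))) (.node (.node (.leaf 17799) (.leaf 5456)) (.node (.leaf 16032) (.leaf 0)))) (.node (.node (.node (.leaf 14964) (.leaf 7642)) (.node (.leaf 8134) (.leaf 0))) (.node (.node (.leaf 1292) (.leaf 0)) (.node (.leaf 532) (.leaf 0))))) (.node (.node (.node (.node (.leaf 2856) (.leaf 19204)) (.node (.leaf 913) (.leaf 0))) (.node (.node (.leaf 8078) (.leaf 0)) (.node (.leaf 10680) (.leaf 0)))) (.node (.node (.node (.leaf 19563) (.leaf 17270)) (.node (.leaf 14955) (.leaf 0))) (.node (.node (.leaf 6291) (.leaf 0)) (.node (.leaf 3369) (.leaf 0)))))))))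

/-- part of a table -/
def ordK127 : Trie := (.node (.node (.node (.node (.node (.node (.node (.node (.leaf 4812) (.leaf 13247)) (.node (.leaf 16310) (.leaf 0))) (.node (.node (.leaf 5812) (.leaf 9968)) (.node (.leaf 21310) (.leaf 0)))) (.node (.node (.node (.leaf 20102) (.leaf 5669)) (.node (.leaf 16175) (.leaf 0))) (.node (.node (.leaf 7429) (.leaf 0)) (.node (.leaf 11568) (.leaf 0))))) (.node (.node (.node (.node (.leaf 18980) (.leaf 13217)) (.node (.leaf 357) (.leaf 0))) (.node (.node (.leaf 12113) (.leaf 0)) (.node (.leaf 4729) (.leaf 0)))) (.node (.node (.node (.leaf 4908) (.leaf 13047)) (.node (.leaf 17547) (.leaf 0))) (.node (.node (.leaf 2844) (.leaf 0)) (.node (.leaf 19622) (.leaf 0)))))) (.node (.node (.node (.node (.node (.leaf 5404) (.leaf 12512)) (.node (.leaf 7003) (.leaf 0))) (.node (.node (.leaf 8363) (.leaf 19757)) (.node (.leaf 1935) (.leaf 0)))) (.node (.node (.node (.leaf 16791) (.leaf 11883)) (.node (.leaf 8820) (.leaf 0))) (.node (.node (.leaf 9038) (.leaf 0)) (.node (.leaf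 2845) (.leaf 0))))) (.node (.node (.node (.node (.leaf 14536) (.leaf 5060)) (.node (.leaf 2018) (.leaf 0))) (.node (.node (.leaf 1850) (.leaf 0)) (.node (.leaf 19722) (.leaf 0)))) (.node (.node (.node (.leaf 17141) (.leaf 15245)) (.node (.leaf 9014) (.leaf 0))) (.node (.node (.leaf 10002) (.leaf 0)) (.node (.leaf 16887) (.leaf 0))))))) (.node (.node (.node (.node (.node (.node (.leaf 20520) (.leaf 8298)) (.node (.leaf 15102) (.leaf 0))) (.node (.node (.leaf 17097) (.leaf 19147)) (.node (.leaf 19380) (.leaf 0)))) (.node (.node (.node (.leaf 9378) (.leaf 227)) (.node (.leaf 598) (.leaf 0))) (.node (.node (.leaf 1904) (.leaf 0)) (.node (.leaf 20507) (.leaf 0))))) (.node (.node (.node (.node (.leaf 5072) (.leaf 16562)) (.node (.leaf 464) (.leaf 0))) (.node (.node (.leaf 5673) (.leaf 0)) (.node (.leaf 1065) (.leaf 0)))) (.node (.node (.node (.leaf 10939) (.leaf 15099)) (.node (.leaf 19047) (.leaf 0))) (.node (.node (.leaf 17217) (.leaf 0)) (.node (.leaf 15224) (.leaf 0)))))) (.node (.node (.node (.node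 (.node (.leaf 2639) (.leaf 15178)) (.node (.leaf 6285) (.leaf 0))) (.node (.node (.leaf 7416) (.leaf 17624)) (.node (.leaf 3257) (.leaf 0)))) (.node (.node (.node (.leaf 12864) (.leaf 19092)) (.node (.leaf 2260) (.leaf 0))) (.node (.node (.leaf 5310) (.leaf 0)) (.node (.leaf 9665) (.leaf 0))))) (.node (.node (.node (.node (.leaf 244) (.leaf 14399)) (.node (.leaf 20160) (.leaf 0))) (.node (.node (.leaf 10392) (.leaf 0)) (.node (.leaf 9635) (.leaf 0)))) (.node (.node (.node (.leaf 20953) (.leaf 18620)) (.node (.leaf 14262) (.leaf 0))) (.node (.node (.leaf 17314) (.leaf 0)) (.node (.leaf 14934) (.leaf 0)))))))) (.node (.node (.node (.node (.node (.node (.node (.leaf 20047) (.leaf 14909)) (.node (.leaf 456) (.leaf 0))) (.node (.node (.leaf 1410) (.leaf 6089)) (.node (.leaf 695) (.leaf 0)))) (.node (.node (.node (.leaf 17177) (.leaf 21354)) (.node (.leaf 13299) (.leaf 0))) (.node (.node (.leaf 18394) (.leaf 0)) (.node (.leaf 18942) (.leaf 0))))) (.node (.node (.node (.node (.leaf 2392) (.leaf 439)) (.node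 (.leaf 11292) (.leaf 0))) (.node (.node (.leaf 1017) (.leaf 0)) (.node (.leaf 9580) (.leaf 0)))) (.node (.node (.node (.leaf 5795) (.leaf 17234)) (.node (.leaf 13087) (.leaf 0))) (.node (.node (.leaf 4325) (.leaf 0)) (.node (.leaf 11380) (.leaf 0)))))) (.node (.node (.node (.node (.node (.leaf 15136) (.leaf 3547)) (.node (.leaf 957) (.leaf 0))) (.node (.node (.leaf 10664) (.leaf 19407)) (.node (.leaf 9551) (.leaf 0)))) (.node (.node (.node (.leaf 4396) (.leaf 159)) (.node (.leaf 20702) (.leaf 0))) (.node (.node (.leaf 14372) (.leaf 0)) (.node (.leaf 5491) (.leaf 0))))) (.node (.node (.node (.node (.leaf 11330) (.leaf 6006)) (.node (.leaf 2187) (.leaf 0))) (.node (.node (.leaf 8461) (.leaf 0)) (.node (.leaf 14727) (.leaf 0)))) (.node (.node (.node (.leaf 12571) (.leaf 12288)) (.node (.leaf 12947) (.leaf 0))) (.node (.node (.leaf 7826) (.leaf 0)) (.node (.leaf 13605) (.leaf 0))))))) (.node (.node (.node (.node (.node (.node (.leaf 3718) (.leaf 8058)) (.node (.leaf 11702) (.leaf 0))) (.node (.node (.leaf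 9863) (.leaf 9555)) (.node (.leaf 17338) (.leaf 0)))) (.node (.node (.node (.leaf 17126) (.leaf 16930)) (.node (.leaf 4276) (.leaf 0))) (.node (.node (.leaf 16847) (.leaf 0)) (.node (.leaf 12189) (.leaf 0))))) (.node (.node (.node (.node (.leaf 18419) (.leaf 8680)) (.node (.leaf 19399) (.leaf 0))) (.node (.node (.leaf 10885) (.leaf 0)) (.node (.leaf 21179) (.leaf 0)))) (.node (.node (.node (.leaf 11269) (.leaf 18448)) (.node (.leaf 1389) (.leaf 0))) (.node (.node (.leaf 12981) (.leaf 0)) (.node (.leaf 12710) (.leaf 0)))))) (.node (.node (.node (.node (.node (.leaf 21404) (.leaf 9732)) (.node (.leaf 17510) (.leaf 0))) (.node (.node (.leaf 12968) (.leaf 14104)) (.node (.leaf 17212) (.leaf 0)))) (.node (.node (.node (.leaf 6036) (.leaf 14135)) (.node (.leaf 16361) (.leaf 0))) (.node (.node (.leaf 17111) (.leaf 0)) (.node (.leaf 2389) (.leaf 0))))) (.node (.node (.node (.node (.leaf 9547) (.leaf 9645)) (.node (.leaf 19657) (.leaf 0))) (.node (.node (.leaf 16321) (.leaf 0)) (.node (.leaf 980) (.leaf 0))))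 (.node (.node (.node (.leaf 7112) (.leaf 18803)) (.node (.leaf 20152) (.leaf 0))) (.node (.node (.leaf 4220) (.leaf 0)) (.node (.leaf 9215) (.leaf 0)))))))))

/-- a table -/
def ordK : Trie := (.node (.node (.node (.node (.node (.node (.node ordK0 ordK64) (.node ordK32 ordK96)) (.node (.node ordK16 ordK80) (.node ordK48 ordK112))) (.node (.node (.node ordK8 ordK72) (.node ordK40 ordK104)) (.node (.node ordK24 ordK88) (.node ordK56 ordK120)))) (.node (.node (.node (.node ordK4 ordK68) (.node ordK36 ordK100)) (.node (.node ordK20 ordK84) (.node ordK52 ordK116))) (.node (.node (.node ordK12 ordK76) (.node ordK44 ordK108)) (.node (.node ordK28 ordK92) (.node ordK60 ordK124))))) (.node (.node (.node (.node (.node ordK2 ordK66) (.node ordK34 ordK98)) (.node (.node ordK18 ordK82) (.node ordK50 ordK114))) (.node (.node (.node ordK10 ordK74) (.node ordK42 ordK106)) (.node (.node ordK26 ordK90) (.node ordK58 ordK122)))) (.node (.node (.node (.node ordK6 ordK70) (.node ordK38 ordK102)) (.node (.node ordK22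 ordK86) (.node ordK54 ordK118))) (.node (.node (.node ordK14 ordK78) (.node ordK46 ordK110)) (.node (.node ordK30 ordK94) (.node ordK62 ordK126)))))) (.node (.node (.node (.node (.node (.node ordK1 ordK65) (.node ordK33 ordK97)) (.node (.node ordK17 ordK81) (.node ordK49 ordK113))) (.node (.node (.node ordK9 ordK73) (.node ordK41 ordK105)) (.node (.node ordK25 ordK89) (.node ordK57 ordK121)))) (.node (.node (.node (.node ordK5 ordK69) (.node ordK37 ordK101)) (.node (.node ordK21 ordK85) (.node ordK53 ordK117))) (.node (.node (.node ordK13 ordK77) (.node ordK45 ordK109)) (.node (.node ordK29 ordK93) (.node ordK61 ordK125))))) (.node (.node (.node (.node (.node ordK3 ordK67) (.node ordK35 ordK99)) (.node (.node ordK19 ordK83) (.node ordK51 ordK115))) (.node (.node (.node ordK11 ordK75) (.node ordK43 ordK107)) (.node (.node ordK27 ordK91) (.node ordK59 ordK123)))) (.node (.node (.node (.node ordK7 ordK71) (.node ordK39 ordK103)) (.node (.node ordK23 ordK87) (.node ordK55 ordK119))) (.node (.node (.node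 ordK15 ordK79) (.node ordK47 ordK111)) (.node (.node ordK31 ordK95) (.node ordK63 ordK127)))))))

/-- part of a table -/
def ordM0 : Trie := (.node (.node (.node (.node (.node (.node (.node (.node (.leaf 8986) (.leaf 17830)) (.node (.leaf 11292) (.leaf 0))) (.node (.node (.leaf 3405) (.leaf 19362)) (.node (.leaf 19894) (.leaf 0)))) (.node (.node (.node (.leaf 18814) (.leaf 6715)) (.node (.leaf 14755) (.leaf 0))) (.node (.node (.leaf 11635) (.leaf 0)) (.node (.leaf 6766) (.leaf 0))))) (.node (.node (.node (.node (.leaf 12068) (.leaf 20592)) (.node (.leaf 10184) (.leaf 0))) (.node (.node (.leaf 20388) (.leaf 0)) (.node (.leaf 2466) (.leaf 0)))) (.node (.node (.node (.leaf 20400) (.leaf 16187)) (.node (.leaf 2434) (.leaf 0))) (.node (.node (.leaf 17259) (.leaf 0)) (.node (.leaf 20863) (.leaf 0)))))) (.node (.node (.node (.node (.node (.leaf 17691) (.leaf 9306)) (.node (.leaf 7419) (.leaf 0))) (.node (.node (.leaf 1285) (.leaf 1344)) (.node (.leaf 11724) (.leaf 0)))) (.node (.node (.node (.leaf 3149)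 (.leaf 1550)) (.node (.leaf 13067) (.leaf 0))) (.node (.node (.leaf 18639) (.leaf 0)) (.node (.leaf 16367) (.leaf 0))))) (.node (.node (.node (.node (.leaf 11372) (.leaf 20510)) (.node (.leaf 18825) (.leaf 0))) (.node (.node (.leaf 13947) (.leaf 0)) (.node (.leaf 8096) (.leaf 0)))) (.node (.node (.node (.leaf 9513) (.leaf 12169)) (.node (.leaf 16868) (.leaf 0))) (.node (.node (.leaf 4637) (.leaf 0)) (.node (.leaf 10750) (.leaf 0))))))) (.node (.node (.node (.node (.node (.node (.leaf 20967) (.leaf 10145)) (.node (.leaf 9862) (.leaf 0))) (.node (.node (.leaf 5954) (.leaf 2166)) (.node (.leaf 10649) (.leaf 0)))) (.node (.node (.node (.leaf 793) (.leaf 21085)) (.node (.leaf 18279) (.leaf 0))) (.node (.node (.leaf 10685) (.leaf 0)) (.node (.leaf 16037) (.leaf 0))))) (.node (.node (.node (.node (.leaf 18934) (.leaf 7321)) (.node (.leaf 0) (.leaf 0))) (.node (.node (.leaf 9267) (.leaf 0)) (.node (.leaf 1901) (.leaf 0)))) (.node (.node (.node (.leaf 9403) (.leaf 13438)) (.node (.leaf 4782) (.leaf 0))) (.node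 (.node (.leaf 20793) (.leaf 0)) (.node (.leaf 8419) (.leaf 0)))))) (.node (.node (.node (.node (.node (.leaf 13659) (.leaf 7926)) (.node (.leaf 19727) (.leaf 0))) (.node (.node (.leaf 11189) (.leaf 19282)) (.node (.leaf 16218) (.leaf 0)))) (.node (.node (.node (.leaf 17436) (.leaf 12402)) (.node (.leaf 17416) (.leaf 0))) (.node (.node (.leaf 11157) (.leaf 0)) (.node (.leaf 9763) (.leaf 0))))) (.node (.node (.node (.node (.leaf 10894) (.leaf 17135)) (.node (.leaf 21115) (.leaf 0))) (.node (.node (.leaf 4640) (.leaf 0)) (.node (.leaf 5308) (.leaf 0)))) (.node (.node (.node (.leaf 21442) (.leaf 6849)) (.node (.leaf 11231) (.leaf 0))) (.node (.node (.leaf 8865) (.leaf 0)) (.node (.leaf 6459) (.leaf 0)))))))) (.node (.node (.node (.node (.node (.node (.node (.leaf 583) (.leaf 4716)) (.node (.leaf 15657) (.leaf 0))) (.node (.node (.leaf 960) (.leaf 10276)) (.node (.leaf 9009) (.leaf 0)))) (.node (.node (.node (.leaf 244) (.leaf 19971)) (.node (.leaf 14057) (.leaf 0))) (.node (.node (.leaf 1615) (.leaf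 0)) (.node (.leaf 6591) (.leaf 0))))) (.node (.node (.node (.node (.leaf 12561) (.leaf 5479)) (.node (.leaf 20930) (.leaf 0))) (.node (.node (.leaf 14394) (.leaf 0)) (.node (.leaf 18775) (.leaf 0)))) (.node (.node (.node (.leaf 19042) (.leaf 15297)) (.node (.leaf 144) (.leaf 0))) (.node (.node (.leaf 5945) (.leaf 0)) (.node (.leaf 6045) (.leaf 0)))))) (.node (.node (.node (.node (.node (.leaf 3381) (.leaf 15229)) (.node (.leaf 1111) (.leaf 0))) (.node (.node (.leaf 1261) (.leaf 12158)) (.node (.leaf 15375) (.leaf 0)))) (.node (.node (.node (.leaf 5136) (.leaf 19518)) (.node (.leaf 4804) (.leaf 0))) (.node (.node (.leaf 17131) (.leaf 0)) (.node (.leaf 15373) (.leaf 0))))) (.node (.node (.node (.node (.leaf 16518) (.leaf 14618)) (.node (.leaf 18772) (.leaf 0))) (.node (.node (.leaf 19565) (.leaf 0)) (.node (.leaf 16027) (.leaf 0)))) (.node (.node (.node (.leaf 10814) (.leaf 18624)) (.node (.leaf 6688) (.leaf 0))) (.node (.node (.leaf 9291) (.leaf 0)) (.node (.leaf 8652) (.leaf 0))))))) (.node (.node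 (.node (.node (.node (.node (.leaf 17884) (.leaf 5251)) (.node (.leaf 20153) (.leaf 0))) (.node (.node (.leaf 11637) (.leaf 7687)) (.node (.leaf 9752) (.leaf 0)))) (.node (.node (.node (.leaf 10064) (.leaf 9067)) (.node (.leaf 15453) (.leaf 0))) (.node (.node (.leaf 11957) (.leaf 0)) (.node (.leaf 8903) (.leaf 0))))) (.node (.node (.node (.node (.leaf 1178) (.leaf 13413)) (.node (.leaf 17160) (.leaf 0))) (.node (.node (.leaf 6728) (.leaf 0)) (.node (.leaf 6080) (.leaf 0)))) (.node (.node (.node (.leaf 17322) (.leaf 12728)) (.node (.leaf 14210) (.leaf 0))) (.node (.node (.leaf 9990) (.leaf 0)) (.node (.leaf 11527) (.leaf 0)))))) (.node (.node (.node (.node (.node (.leaf 5000) (.leaf 10762)) (.node (.leaf 12004) (.leaf 0))) (.node (.node (.leaf 2732) (.leaf 14386)) (.node (.leaf 16379) (.leaf 0)))) (.node (.node (.node (.leaf 11935) (.leaf 682)) (.node (.leaf 18432) (.leaf 0))) (.node (.node (.leaf 5654) (.leaf 0)) (.node (.leaf 2081) (.leaf 0))))) (.node (.node (.node (.node (.leaf 21472) (.leaf 10194))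 (.node (.leaf 13990) (.leaf 0))) (.node (.node (.leaf 5190) (.leaf 0)) (.node (.leaf 6899) (.leaf 0)))) (.node (.node (.node (.leaf 20045) (.leaf 19014)) (.node (.leaf 5913) (.leaf 0))) (.node (.node (.leaf 13860) (.leaf 0)) (.node (.leaf 11548) (.leaf 0)))))))))

/-- part of a table -/
def ordM1 : Trie := (.node (.node (.node (.node (.node (.node (.node (.node (.leaf 7076) (.leaf 14428)) (.node (.leaf 11807) (.leaf 0))) (.node (.node (.leaf 947) (.leaf 15779)) (.node (.leaf 5714) (.leaf 0)))) (.node (.node (.node (.leaf 19194) (.leaf 12697)) (.node (.leaf 1937) (.leaf 0))) (.node (.node (.leaf 4390) (.leaf 0)) (.node (.leaf 3908) (.leaf 0))))) (.node (.node (.node (.node (.leaf 950) (.leaf 20399)) (.node (.leaf 7895) (.leaf 0))) (.node (.node (.leaf 12056) (.leaf 0)) (.node (.leaf 18681) (.leaf 0)))) (.node (.node (.node (.leaf 16805) (.leaf 13574)) (.node (.leaf 627) (.leaf 0))) (.node (.node (.leaf 13427) (.leaf 0)) (.node (.leaf 16107) (.leaf 0)))))) (.node (.node (.node (.node (.node (.leaf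 19315) (.leaf 18323)) (.node (.leaf 9689) (.leaf 0))) (.node (.node (.leaf 12099) (.leaf 14493)) (.node (.leaf 13530) (.leaf 0)))) (.node (.node (.node (.leaf 9643) (.leaf 16999)) (.node (.leaf 7719) (.leaf 0))) (.node (.node (.leaf 17718) (.leaf 0)) (.node (.leaf 6509) (.leaf 0))))) (.node (.node (.node (.node (.leaf 18560) (.leaf 20447)) (.node (.leaf 9955) (.leaf 0))) (.node (.node (.leaf 19130) (.leaf 0)) (.node (.leaf 17074) (.leaf 0)))) (.node (.node (.node (.leaf 8548) (.leaf 9101)) (.node (.leaf 8346) (.leaf 0))) (.node (.node (.leaf 13394) (.leaf 0)) (.node (.leaf 4033) (.leaf 0))))))) (.node (.node (.node (.node (.node (.node (.leaf 8708) (.leaf 14842)) (.node (.leaf 8620) (.leaf 0))) (.node (.node (.leaf 17642) (.leaf 6599)) (.node (.leaf 18419) (.leaf 0)))) (.node (.node (.node (.leaf 3796) (.leaf 20197)) (.node (.leaf 7800) (.leaf 0))) (.node (.node (.leaf 19556) (.leaf 0)) (.node (.leaf 15696) (.leaf 0))))) (.node (.node (.node (.node (.leaf 19738) (.leaf 11385)) (.node (.leaf 478)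 (.leaf 0))) (.node (.node (.leaf 17638) (.leaf 0)) (.node (.leaf 14510) (.leaf 0)))) (.node (.node (.node (.leaf 1294) (.leaf 11466)) (.node (.leaf 19) (.leaf 0))) (.node (.node (.leaf 9050) (.leaf 0)) (.node (.leaf 6615) (.leaf 0)))))) (.node (.node (.node (.node (.node (.leaf 20046) (.leaf 1890)) (.node (.leaf 19179) (.leaf 0))) (.node (.node (.leaf 4358) (.leaf 18493)) (.node (.leaf 11173) (.leaf 0)))) (.node (.node (.node (.leaf 20505) (.leaf 6773)) (.node (.leaf 18556) (.leaf 0))) (.node (.node (.leaf 5291) (.leaf 0)) (.node (.leaf 18101) (.leaf 0))))) (.node (.node (.node (.node (.leaf 8060) (.leaf 17466)) (.node (.leaf 10701) (.leaf 0))) (.node (.node (.leaf 7499) (.leaf 0)) (.node (.leaf 9551) (.leaf 0)))) (.node (.node (.node (.leaf 20918) (.leaf 9115)) (.node (.leaf 16383) (.leaf 0))) (.node (.node (.leaf 12644) (.leaf 0)) (.node (.leaf 12023) (.leaf 0)))))))) (.node (.node (.node (.node (.node (.node (.node (.leaf 2502) (.leaf 241)) (.node (.leaf 10979) (.leaf 0))) (.node (.node (.leaf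 10998) (.leaf 9519)) (.node (.leaf 18120) (.leaf 0)))) (.node (.node (.node (.leaf 922) (.leaf 15997)) (.node (.leaf 12346) (.leaf 0))) (.node (.node (.leaf 2247) (.leaf 0)) (.node (.leaf 21091) (.leaf 0))))) (.node (.node (.node (.node (.leaf 19370) (.leaf 12429)) (.node (.leaf 11426) (.leaf 0))) (.node (.node (.leaf 21158) (.leaf 0)) (.node (.leaf 5681) (.leaf 0)))) (.node (.node (.node (.leaf 15321) (.leaf 6533)) (.node (.leaf 7369) (.leaf 0))) (.node (.node (.leaf 9125) (.leaf 0)) (.node (.leaf 383) (.leaf 0)))))) (.node (.node (.node (.node (.node (.leaf 1125) (.leaf 9252)) (.node (.leaf 12352) (.leaf 0))) (.node (.node (.leaf 15396) (.leaf 8776)) (.node (.leaf 20310) (.leaf 0)))) (.node (.node (.node (.leaf 12925) (.leaf 3241)) (.node (.leaf 9443) (.leaf 0))) (.node (.node (.leaf 19862) (.leaf 0)) (.node (.leaf 16855) (.leaf 0))))) (.node (.node (.node (.node (.leaf 17027) (.leaf 15130)) (.node (.leaf 8314) (.leaf 0))) (.node (.node (.leaf 7455) (.leaf 0)) (.node (.leaf 21339) (.leaf 0))))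 (.node (.node (.node (.leaf 18864) (.leaf 16196)) (.node (.leaf 9855) (.leaf 0))) (.node (.node (.leaf 15335) (.leaf 0)) (.node (.leaf 11025) (.leaf 0))))))) (.node (.node (.node (.node (.node (.node (.leaf 21287) (.leaf 4234)) (.node (.leaf 12057) (.leaf 0))) (.node (.node (.leaf 7462) (.leaf 12320)) (.node (.leaf 8238) (.leaf 0)))) (.node (.node (.node (.leaf 3809) (.leaf 12631)) (.node (.leaf 18552) (.leaf 0))) (.node (.node (.leaf 1012) (.leaf 0)) (.node (.leaf 17378) (.leaf 0))))) (.node (.node (.node (.node (.leaf 2632) (.leaf 10929)) (.node (.leaf 18059) (.leaf 0))) (.node (.node (.leaf 14737) (.leaf 0)) (.node (.leaf 1534) (.leaf 0)))) (.node (.node (.node (.leaf 7629) (.leaf 6865)) (.node (.leaf 5347) (.leaf 0))) (.node (.node (.leaf 17070) (.leaf 0)) (.node (.leaf 13634) (.leaf 0)))))) (.node (.node (.node (.node (.node (.leaf 10911) (.leaf 17568)) (.node (.leaf 813) (.leaf 0))) (.node (.node (.leaf 15181) (.leaf 19970)) (.node (.leaf 19168) (.leaf 0)))) (.node (.node (.node (.leaf 17168)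 (.leaf 10062)) (.node (.leaf 20995) (.leaf 0))) (.node (.node (.leaf 21326) (.leaf 0)) (.node (.leaf 7431) (.leaf 0))))) (.node (.node (.node (.node (.leaf 7085) (.leaf 5180)) (.node (.leaf 16538) (.leaf 0))) (.node (.node (.leaf 12956) (.leaf 0)) (.node (.leaf 903) (.leaf 0)))) (.node (.node (.node (.leaf 11477) (.leaf 17728)) (.node (.leaf 14936) (.leaf 0))) (.node (.node (.leaf 9781) (.leaf 0)) (.node (.leaf 14021) (.leaf 0)))))))))

/-- part of a table -/
def ordM2 : Trie := (.node (.node (.node (.node (.node (.node (.node (.node (.leaf 2311) (.leaf 5488)) (.node (.leaf 17723) (.leaf 0))) (.node (.node (.leaf 4545) (.leaf 14339)) (.node (.leaf 2225) (.leaf 0)))) (.node (.node (.node (.leaf 13196) (.leaf 14463)) (.node (.leaf 13000) (.leaf 0))) (.node (.node (.leaf 3498) (.leaf 0)) (.node (.leaf 17579) (.leaf 0))))) (.node (.node (.node (.node (.leaf 11594) (.leaf 15635)) (.node (.leaf 10011) (.leaf 0))) (.node (.node (.leaf 6824) (.leaf 0)) (.node (.leaf 15100) (.leaf 0)))) (.node (.node (.node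 (.leaf 13664) (.leaf 7732)) (.node (.leaf 3272) (.leaf 0))) (.node (.node (.leaf 18908) (.leaf 0)) (.node (.leaf 20606) (.leaf 0)))))) (.node (.node (.node (.node (.node (.leaf 10301) (.leaf 8818)) (.node (.leaf 18792) (.leaf 0))) (.node (.node (.leaf 9884) (.leaf 20928)) (.node (.leaf 4796) (.leaf 0)))) (.node (.node (.node (.leaf 10576) (.leaf 2185)) (.node (.leaf 14451) (.leaf 0))) (.node (.node (.leaf 3227) (.leaf 0)) (.node (.leaf 17632) (.leaf 0))))) (.node (.node (.node (.node (.leaf 13753) (.leaf 5776)) (.node (.leaf 9205) (.leaf 0))) (.node (.node (.leaf 11397) (.leaf 0)) (.node (.leaf 20776) (.leaf 0)))) (.node (.node (.node (.leaf 14362) (.leaf 12031)) (.node (.leaf 2054) (.leaf 0))) (.node (.node (.leaf 17786) (.leaf 0)) (.node (.leaf 12898) (.leaf 0))))))) (.node (.node (.node (.node (.node (.node (.leaf 18840) (.leaf 7626)) (.node (.leaf 10417) (.leaf 0))) (.node (.node (.leaf 13012) (.leaf 14612)) (.node (.leaf 7050) (.leaf 0)))) (.node (.node (.node (.leaf 4680) (.leaf 18736)) (.node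 (.leaf 9344) (.leaf 0))) (.node (.node (.leaf 1098) (.leaf 0)) (.node (.leaf 6245) (.leaf 0))))) (.node (.node (.node (.node (.leaf 3828) (.leaf 19455)) (.node (.leaf 17827) (.leaf 0))) (.node (.node (.leaf 10339) (.leaf 0)) (.node (.leaf 16973) (.leaf 0)))) (.node (.node (.node (.leaf 14504) (.leaf 13534)) (.node (.leaf 13297) (.leaf 0))) (.node (.node (.leaf 19327) (.leaf 0)) (.node (.leaf 855) (.leaf 0)))))) (.node (.node (.node (.node (.node (.leaf 4375) (.leaf 19437)) (.node (.leaf 17706) (.leaf 0))) (.node (.node (.leaf 21295) (.leaf 10893)) (.node (.leaf 18871) (.leaf 0)))) (.node (.node (.node (.leaf 9566) (.leaf 10957)) (.node (.leaf 18266) (.leaf 0))) (.node (.node (.leaf 19581) (.leaf 0)) (.node (.leaf 1223) (.leaf 0))))) (.node (.node (.node (.node (.leaf 9674) (.leaf 9498)) (.node (.leaf 993) (.leaf 0))) (.node (.node (.leaf 4619) (.leaf 0)) (.node (.leaf 2158) (.leaf 0)))) (.node (.node (.node (.leaf 4630) (.leaf 2194)) (.node (.leaf 19106) (.leaf 0))) (.node (.node (.leaf 8942) (.leaf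 0)) (.node (.leaf 4100) (.leaf 0)))))))) (.node (.node (.node (.node (.node (.node (.node (.leaf 16402) (.leaf 14466)) (.node (.leaf 9977) (.leaf 0))) (.node (.node (.leaf 21309) (.leaf 4245)) (.node (.leaf 15608) (.leaf 0)))) (.node (.node (.node (.leaf 20933) (.leaf 3700)) (.node (.leaf 17427) (.leaf 0))) (.node (.node (.leaf 18073) (.leaf 0)) (.node (.leaf 16429) (.leaf 0))))) (.node (.node (.node (.node (.leaf 10722) (.leaf 9170)) (.node (.leaf 231) (.leaf 0))) (.node (.node (.leaf 16588) (.leaf 0)) (.node (.leaf 17340) (.leaf 0)))) (.node (.node (.node (.leaf 21221) (.leaf 12496)) (.node (.leaf 17822) (.leaf 0))) (.node (.node (.leaf 17286) (.leaf 0)) (.node (.leaf 12423) (.leaf 0)))))) (.node (.node (.node (.node (.node (.leaf 7445) (.leaf 3012)) (.node (.leaf 4077) (.leaf 0))) (.node (.node (.leaf 20019) (.leaf 3397)) (.node (.leaf 7638) (.leaf 0)))) (.node (.node (.node (.leaf 308) (.leaf 15852)) (.node (.leaf 13436) (.leaf 0))) (.node (.node (.leaf 19976) (.leaf 0)) (.node (.leaf 1720) (.leaf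 0))))) (.node (.node (.node (.node (.leaf 7700) (.leaf 21411)) (.node (.leaf 2296) (.leaf 0))) (.node (.node (.leaf 17842) (.leaf 0)) (.node (.leaf 7662) (.leaf 0)))) (.node (.node (.node (.leaf 11983) (.leaf 4491)) (.node (.leaf 2511) (.leaf 0))) (.node (.node (.leaf 12306) (.leaf 0)) (.node (.leaf 4602) (.leaf 0))))))) (.node (.node (.node (.node (.node (.node (.leaf 8663) (.leaf 21043)) (.node (.leaf 1317) (.leaf 0))) (.node (.node (.leaf 3502) (.leaf 16578)) (.node (.leaf 9772) (.leaf 0)))) (.node (.node (.node (.leaf 20701) (.leaf 2264)) (.node (.leaf 164) (.leaf 0))) (.node (.node (.leaf 13141) (.leaf 0)) (.node (.leaf 13628) (.leaf 0))))) (.node (.node (.node (.node (.leaf 11283) (.leaf 9949)) (.node (.leaf 16859) (.leaf 0))) (.node (.node (.leaf 16438) (.leaf 0)) (.node (.leaf 13692) (.leaf 0)))) (.node (.node (.node (.leaf 14173) (.leaf 16798)) (.node (.leaf 15534) (.leaf 0))) (.node (.node (.leaf 5100) (.leaf 0)) (.node (.leaf 19050) (.leaf 0)))))) (.node (.node (.node (.node (.node (.leaf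 21255) (.leaf 19761)) (.node (.leaf 10073) (.leaf 0))) (.node (.node (.leaf 13749) (.leaf 469)) (.node (.leaf 4566) (.leaf 0)))) (.node (.node (.node (.leaf 18236) (.leaf 18126)) (.node (.leaf 6333) (.leaf 0))) (.node (.node (.leaf 12484) (.leaf 0)) (.node (.leaf 19825) (.leaf 0))))) (.node (.node (.node (.node (.leaf 450) (.leaf 17890)) (.node (.leaf 2587) (.leaf 0))) (.node (.node (.leaf 21457) (.leaf 0)) (.node (.leaf 9183) (.leaf 0)))) (.node (.node (.node (.leaf 3089) (.leaf 10399)) (.node (.leaf 18472) (.leaf 0))) (.node (.node (.leaf 2609) (.leaf 0)) (.node (.leaf 7927) (.leaf 0)))))))))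

/-- part of a table -/
def ordM3 : Trie := (.node (.node (.node (.node (.node (.node (.node (.node (.leaf 435) (.leaf 14140)) (.node (.leaf 8205) (.leaf 0))) (.node (.node (.leaf 15139) (.leaf 4256)) (.node (.leaf 6214) (.leaf 0)))) (.node (.node (.node (.leaf 7992) (.leaf 6002)) (.node (.leaf 16908) (.leaf 0))) (.node (.node (.leaf 19559) (.leaf 0)) (.node (.leaf 15010) (.leaf 0))))) (.node (.node (.node (.node (.leaf 20567) (.leaf 16274)) (.node (.leaf 11361) (.leaf 0))) (.node (.node (.leaf 12086) (.leaf 0)) (.node (.leaf 18668) (.leaf 0)))) (.node (.node (.node (.leaf 1355) (.leaf 14830)) (.node (.leaf 7809) (.leaf 0))) (.node (.node (.leaf 13433) (.leaf 0)) (.node (.leaf 15783) (.leaf 0)))))) (.node (.node (.node (.node (.node (.leaf 3868) (.leaf 2653)) (.node (.leaf 5277) (.leaf 0))) (.node (.node (.leaf 16985) (.leaf 21187)) (.node (.leaf 14547) (.leaf 0)))) (.node (.node (.node (.leaf 19107) (.leaf 19116)) (.node (.leaf 16178) (.leaf 0))) (.node (.node (.leaf 1953) (.leaf 0)) (.node (.leaf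 9563) (.leaf 0))))) (.node (.node (.node (.node (.leaf 15637) (.leaf 2727)) (.node (.leaf 14940) (.leaf 0))) (.node (.node (.leaf 18313) (.leaf 0)) (.node (.leaf 15964) (.leaf 0)))) (.node (.node (.node (.leaf 7438) (.leaf 5365)) (.node (.leaf 732) (.leaf 0))) (.node (.node (.leaf 13373) (.leaf 0)) (.node (.leaf 4361) (.leaf 0))))))) (.node (.node (.node (.node (.node (.node (.leaf 4729) (.leaf 3896)) (.node (.leaf 20823) (.leaf 0))) (.node (.node (.leaf 19454) (.leaf 15675)) (.node (.leaf 16286) (.leaf 0)))) (.node (.node (.node (.leaf 15736) (.leaf 2277)) (.node (.leaf 8070) (.leaf 0))) (.node (.node (.leaf 4133) (.leaf 0)) (.node (.leaf 7045) (.leaf 0))))) (.node (.node (.node (.node (.leaf 3175) (.leaf 18605)) (.node (.leaf 18373) (.leaf 0))) (.node (.node (.leaf 5692) (.leaf 0)) (.node (.leaf 9315) (.leaf 0)))) (.node (.node (.node (.leaf 1384) (.leaf 5978)) (.node (.leaf 17338) (.leaf 0))) (.node (.node (.leaf 10982) (.leaf 0)) (.node (.leaf 12226) (.leaf 0)))))) (.node (.node (.node (.node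 (.node (.leaf 892) (.leaf 19868)) (.node (.leaf 3552) (.leaf 0))) (.node (.node (.leaf 10237) (.leaf 20258)) (.node (.leaf 19241) (.leaf 0)))) (.node (.node (.node (.leaf 16430) (.leaf 12607)) (.node (.leaf 5523) (.leaf 0))) (.node (.node (.leaf 18857) (.leaf 0)) (.node (.leaf 4015) (.leaf 0))))) (.node (.node (.node (.node (.leaf 2197) (.leaf 1824)) (.node (.leaf 12393) (.leaf 0))) (.node (.node (.leaf 12673) (.leaf 0)) (.node (.leaf 7384) (.leaf 0)))) (.node (.node (.node (.leaf 272) (.leaf 3751)) (.node (.leaf 8301) (.leaf 0))) (.node (.node (.leaf 7297) (.leaf 0)) (.node (.leaf 3023) (.leaf 0)))))))) (.node (.node (.node (.node (.node (.node (.node (.leaf 4974) (.leaf 17524)) (.node (.leaf 3583) (.leaf 0))) (.node (.node (.leaf 18193) (.leaf 11480)) (.node (.leaf 6234) (.leaf 0)))) (.node (.node (.node (.leaf 19882) (.leaf 2577)) (.node (.leaf 21317) (.leaf 0))) (.node (.node (.leaf 13694) (.leaf 0)) (.node (.leaf 6304) (.leaf 0))))) (.node (.node (.node (.node (.leaf 14199) (.leaf 20641)) (.node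 (.leaf 4596) (.leaf 0))) (.node (.node (.leaf 1676) (.leaf 0)) (.node (.leaf 3915) (.leaf 0)))) (.node (.node (.node (.leaf 6412) (.leaf 4760)) (.node (.leaf 15444) (.leaf 0))) (.node (.node (.leaf 21424) (.leaf 0)) (.node (.leaf 13932) (.leaf 0)))))) (.node (.node (.node (.node (.node (.leaf 9818) (.leaf 20439)) (.node (.leaf 18899) (.leaf 0))) (.node (.node (.leaf 16083) (.leaf 12623)) (.node (.leaf 561) (.leaf 0)))) (.node (.node (.node (.leaf 2522) (.leaf 19578)) (.node (.leaf 14184) (.leaf 0))) (.node (.node (.leaf 12994) (.leaf 0)) (.node (.leaf 5020) (.leaf 0))))) (.node (.node (.node (.node (.leaf 3780) (.leaf 16171)) (.node (.leaf 8298) (.leaf 0))) (.node (.node (.leaf 7056) (.leaf 0)) (.node (.leaf 13307) (.leaf 0)))) (.node (.node (.node (.leaf 14367) (.leaf 3435)) (.node (.leaf 523) (.leaf 0))) (.node (.node (.leaf 11507) (.leaf 0)) (.node (.leaf 2140) (.leaf 0))))))) (.node (.node (.node (.node (.node (.node (.leaf 20964) (.leaf 20437)) (.node (.leaf 13587) (.leaf 0))) (.node (.node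 (.leaf 6958) (.leaf 19958)) (.node (.leaf 7287) (.leaf 0)))) (.node (.node (.node (.leaf 3196) (.leaf 4813)) (.node (.leaf 6) (.leaf 0))) (.node (.node (.leaf 11657) (.leaf 0)) (.node (.leaf 15091) (.leaf 0))))) (.node (.node (.node (.node (.leaf 19697) (.leaf 10429)) (.node (.leaf 15746) (.leaf 0))) (.node (.node (.leaf 21298) (.leaf 0)) (.node (.leaf 8535) (.leaf 0)))) (.node (.node (.node (.leaf 5880) (.leaf 6486)) (.node (.leaf 13093) (.leaf 0))) (.node (.node (.leaf 5259) (.leaf 0)) (.node (.leaf 8744) (.leaf 0)))))) (.node (.node (.node (.node (.node (.leaf 9296) (.leaf 20968)) (.node (.leaf 19689) (.leaf 0))) (.node (.node (.leaf 4502) (.leaf 1650)) (.node (.leaf 3289) (.leaf 0)))) (.node (.node (.node (.leaf 20415) (.leaf 15786)) (.node (.leaf 2871) (.leaf 0))) (.node (.node (.leaf 20894) (.leaf 0)) (.node (.leaf 15314) (.leaf 0))))) (.node (.node (.node (.node (.leaf 190) (.leaf 17608)) (.node (.leaf 1373) (.leaf 0))) (.node (.node (.leaf 13033) (.leaf 0)) (.node (.leaf 8524) (.leaf 0))))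 (.node (.node (.node (.leaf 9538) (.leaf 2627)) (.node (.leaf 20247) (.leaf 0))) (.node (.node (.leaf 2028) (.leaf 0)) (.node (.leaf 14101) (.leaf 0)))))))))

/-- part of a table -/
def ordM4 : Trie := (.node (.node (.node (.node (.node (.node (.node (.node (.leaf 17703) (.leaf 19537)) (.node (.leaf 15180) (.leaf 0))) (.node (.node (.leaf 12296) (.leaf 13897)) (.node (.leaf 21184) (.leaf 0)))) (.node (.node (.node (.leaf 16559) (.leaf 6562)) (.node (.leaf 2613) (.leaf 0))) (.node (.node (.leaf 19202) (.leaf 0)) (.node (.leaf 7752) (.leaf 0))))) (.node (.node (.node (.node (.leaf 9870) (.leaf 11847)) (.node (.leaf 5483) (.leaf 0))) (.node (.node (.leaf 14661) (.leaf 0)) (.node (.leaf 9382) (.leaf 0)))) (.node (.node (.node (.leaf 5152) (.leaf 9800)) (.node (.leaf 8494) (.leaf 0))) (.node (.node (.leaf 12420) (.leaf 0)) (.node (.leaf 1637) (.leaf 0)))))) (.node (.node (.node (.node (.node (.leaf 3497) (.leaf 14514)) (.node (.leaf 971) (.leaf 0))) (.node (.node (.leaf 19529) (.leaf 8078)) (.node (.leaf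 16581) (.leaf 0)))) (.node (.node (.node (.leaf 8369) (.leaf 2087)) (.node (.leaf 7837) (.leaf 0))) (.node (.node (.leaf 9402) (.leaf 0)) (.node (.leaf 17966) (.leaf 0))))) (.node (.node (.node (.node (.leaf 5349) (.leaf 18985)) (.node (.leaf 5434) (.leaf 0))) (.node (.node (.leaf 7260) (.leaf 0)) (.node (.leaf 12024) (.leaf 0)))) (.node (.node (.node (.leaf 1097) (.leaf 9585)) (.node (.leaf 12615) (.leaf 0))) (.node (.node (.leaf 3986) (.leaf 0)) (.node (.leaf 21352) (.leaf 0))))))) (.node (.node (.node (.node (.node (.node (.leaf 6626) (.leaf 1609)) (.node (.leaf 7000) (.leaf 0))) (.node (.node (.leaf 17180) (.leaf 8952)) (.node (.leaf 7405) (.leaf 0)))) (.node (.node (.node (.leaf 4197) (.leaf 8147)) (.node (.leaf 8461) (.leaf 0))) (.node (.node (.leaf 14363) (.leaf 0)) (.node (.leaf 4079) (.leaf 0))))) (.node (.node (.node (.node (.leaf 3625) (.leaf 15071)) (.node (.leaf 17736) (.leaf 0))) (.node (.node (.leaf 3848) (.leaf 0)) (.node (.leaf 9523) (.leaf 0)))) (.node (.node (.node (.leaf 8428)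 (.leaf 6586)) (.node (.leaf 16467) (.leaf 0))) (.node (.node (.leaf 18137) (.leaf 0)) (.node (.leaf 6783) (.leaf 0)))))) (.node (.node (.node (.node (.node (.leaf 12293) (.leaf 17230)) (.node (.leaf 2585) (.leaf 0))) (.node (.node (.leaf 13364) (.leaf 6131)) (.node (.leaf 8088) (.leaf 0)))) (.node (.node (.node (.leaf 13039) (.leaf 7209)) (.node (.leaf 11052) (.leaf 0))) (.node (.node (.leaf 456) (.leaf 0)) (.node (.leaf 8288) (.leaf 0))))) (.node (.node (.node (.node (.leaf 6804) (.leaf 16836)) (.node (.leaf 18953) (.leaf 0))) (.node (.node (.leaf 17141) (.leaf 0)) (.node (.leaf 9353) (.leaf 0)))) (.node (.node (.node (.leaf 5824) (.leaf 19811)) (.node (.leaf 2621) (.leaf 0))) (.node (.node (.leaf 557) (.leaf 0)) (.node (.leaf 18002) (.leaf 0)))))))) (.node (.node (.node (.node (.node (.node (.node (.leaf 10843) (.leaf 20050)) (.node (.leaf 5233) (.leaf 0))) (.node (.node (.leaf 2306) (.leaf 20471)) (.node (.leaf 7418) (.leaf 0)))) (.node (.node (.node (.leaf 9880) (.leaf 19157)) (.node (.leaf 18682)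 (.leaf 0))) (.node (.node (.leaf 13110) (.leaf 0)) (.node (.leaf 7391) (.leaf 0))))) (.node (.node (.node (.node (.leaf 11926) (.leaf 4430)) (.node (.leaf 5599) (.leaf 0))) (.node (.node (.leaf 10797) (.leaf 0)) (.node (.leaf 864) (.leaf 0)))) (.node (.node (.node (.leaf 5597) (.leaf 20990)) (.node (.leaf 17049) (.leaf 0))) (.node (.node (.leaf 3733) (.leaf 0)) (.node (.leaf 9546) (.leaf 0)))))) (.node (.node (.node (.node (.node (.leaf 13016) (.leaf 812)) (.node (.leaf 16028) (.leaf 0))) (.node (.node (.leaf 11763) (.leaf 7892)) (.node (.leaf 5545) (.leaf 0)))) (.node (.node (.node (.leaf 1188) (.leaf 18502)) (.node (.leaf 8603) (.leaf 0))) (.node (.node (.leaf 12202) (.leaf 0)) (.node (.leaf 15422) (.leaf 0))))) (.node (.node (.node (.node (.leaf 5729) (.leaf 7046)) (.node (.leaf 1851) (.leaf 0))) (.node (.node (.leaf 12704) (.leaf 0)) (.node (.leaf 12141) (.leaf 0)))) (.node (.node (.node (.leaf 48) (.leaf 15656)) (.node (.leaf 11029) (.leaf 0))) (.node (.node (.leaf 9138) (.leaf 0)) (.node (.leaf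 19540) (.leaf 0))))))) (.node (.node (.node (.node (.node (.node (.leaf 14320) (.leaf 16315)) (.node (.leaf 1003) (.leaf 0))) (.node (.node (.leaf 9474) (.leaf 21269)) (.node (.leaf 17471) (.leaf 0)))) (.node (.node (.node (.leaf 20479) (.leaf 5200)) (.node (.leaf 18923) (.leaf 0))) (.node (.node (.leaf 10967) (.leaf 0)) (.node (.leaf 20941) (.leaf 0))))) (.node (.node (.node (.node (.leaf 18318) (.leaf 20831)) (.node (.leaf 18628) (.leaf 0))) (.node (.node (.leaf 3699) (.leaf 0)) (.node (.leaf 18285) (.leaf 0)))) (.node (.node (.node (.leaf 17312) (.leaf 19080)) (.node (.leaf 13112) (.leaf 0))) (.node (.node (.leaf 2212) (.leaf 0)) (.node (.leaf 14331) (.leaf 0)))))) (.node (.node (.node (.node (.node (.leaf 3099) (.leaf 9569)) (.node (.leaf 20607) (.leaf 0))) (.node (.node (.leaf 11808) (.leaf 664)) (.node (.leaf 12183) (.leaf 0)))) (.node (.node (.node (.leaf 1506) (.leaf 12996)) (.node (.leaf 4659) (.leaf 0))) (.node (.node (.leaf 11535) (.leaf 0)) (.node (.leaf 2006) (.leaf 0))))) (.node (.node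 (.node (.node (.leaf 12219) (.leaf 5509)) (.node (.leaf 9946) (.leaf 0))) (.node (.node (.leaf 7478) (.leaf 0)) (.node (.leaf 2444) (.leaf 0)))) (.node (.node (.node (.leaf 4899) (.leaf 10127)) (.node (.leaf 413) (.leaf 0))) (.node (.node (.leaf 15506) (.leaf 0)) (.node (.leaf 1813) (.leaf 0)))))))))

/-- part of a table -/
def ordM5 : Trie := (.node (.node (.node (.node (.node (.node (.node (.node (.leaf 14417) (.leaf 7796)) (.node (.leaf 6484) (.leaf 0))) (.node (.node (.leaf 9294) (.leaf 13137)) (.node (.leaf 20394) (.leaf 0)))) (.node (.node (.node (.leaf 12305) (.leaf 19965)) (.node (.leaf 9453) (.leaf 0))) (.node (.node (.leaf 3869) (.leaf 0)) (.node (.leaf 9939) (.leaf 0))))) (.node (.node (.node (.node (.leaf 10663) (.leaf 4835)) (.node (.leaf 12622) (.leaf 0))) (.node (.node (.leaf 11998) (.leaf 0)) (.node (.leaf 13939) (.leaf 0)))) (.node (.node (.node (.leaf 5604) (.leaf 716)) (.node (.leaf 20469) (.leaf 0))) (.node (.node (.leaf 17219) (.leaf 0)) (.node (.leaf 5165) (.leaf 0)))))) (.node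 (.node (.node (.node (.node (.leaf 698) (.leaf 19485)) (.node (.leaf 13562) (.leaf 0))) (.node (.node (.leaf 4386) (.leaf 19320)) (.node (.leaf 9245) (.leaf 0)))) (.node (.node (.node (.leaf 2624) (.leaf 13282)) (.node (.leaf 20131) (.leaf 0))) (.node (.node (.leaf 11058) (.leaf 0)) (.node (.leaf 6923) (.leaf 0))))) (.node (.node (.node (.node (.leaf 1477) (.leaf 5567)) (.node (.leaf 14018) (.leaf 0))) (.node (.node (.leaf 14259) (.leaf 0)) (.node (.leaf 5127) (.leaf 0)))) (.node (.node (.node (.leaf 4132) (.leaf 18213)) (.node (.leaf 20705) (.leaf 0))) (.node (.node (.leaf 4242) (.leaf 0)) (.node (.leaf 21419) (.leaf 0))))))) (.node (.node (.node (.node (.node (.node (.leaf 12489) (.leaf 6426)) (.node (.leaf 8172) (.leaf 0))) (.node (.node (.leaf 10607) (.leaf 7151)) (.node (.leaf 7631) (.leaf 0)))) (.node (.node (.node (.leaf 8955) (.leaf 3469)) (.node (.leaf 11855) (.leaf 0))) (.node (.node (.leaf 20352) (.leaf 0)) (.node (.leaf 5699) (.leaf 0))))) (.node (.node (.node (.node (.leaf 9479) (.leaf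 12904)) (.node (.leaf 17605) (.leaf 0))) (.node (.node (.leaf 10353) (.leaf 0)) (.node (.leaf 6240) (.leaf 0)))) (.node (.node (.node (.leaf 3013) (.leaf 15652)) (.node (.leaf 13875) (.leaf 0))) (.node (.node (.leaf 15474) (.leaf 0)) (.node (.leaf 8883) (.leaf 0)))))) (.node (.node (.node (.node (.node (.leaf 4892) (.leaf 20371)) (.node (.leaf 1371) (.leaf 0))) (.node (.node (.leaf 1089) (.leaf 9165)) (.node (.leaf 3572) (.leaf 0)))) (.node (.node (.node (.leaf 17571) (.leaf 14575)) (.node (.leaf 17820) (.leaf 0))) (.node (.node (.leaf 7937) (.leaf 0)) (.node (.leaf 3038) (.leaf 0))))) (.node (.node (.node (.node (.leaf 10414) (.leaf 15959)) (.node (.leaf 9447) (.leaf 0))) (.node (.node (.leaf 6889) (.leaf 0)) (.node (.leaf 16830) (.leaf 0)))) (.node (.node (.node (.leaf 4890) (.leaf 19195)) (.node (.leaf 4440) (.leaf 0))) (.node (.node (.leaf 9189) (.leaf 0)) (.node (.leaf 11619) (.leaf 0)))))))) (.node (.node (.node (.node (.node (.node (.node (.leaf 19380) (.leaf 21375)) (.node (.leaf 9603) (.leaf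 0))) (.node (.node (.leaf 897) (.leaf 13151)) (.node (.leaf 1064) (.leaf 0)))) (.node (.node (.node (.leaf 11838) (.leaf 11962)) (.node (.leaf 20522) (.leaf 0))) (.node (.node (.leaf 6400) (.leaf 0)) (.node (.leaf 8985) (.leaf 0))))) (.node (.node (.node (.node (.leaf 13453) (.leaf 6537)) (.node (.leaf 13731) (.leaf 0))) (.node (.node (.leaf 14149) (.leaf 0)) (.node (.leaf 36) (.leaf 0)))) (.node (.node (.node (.leaf 10171) (.leaf 17949)) (.node (.leaf 15001) (.leaf 0))) (.node (.node (.leaf 1346) (.leaf 0)) (.node (.leaf 12204) (.leaf 0)))))) (.node (.node (.node (.node (.node (.leaf 10080) (.leaf 4069)) (.node (.leaf 17268) (.leaf 0))) (.node (.node (.leaf 9727) (.leaf 3307)) (.node (.leaf 1501) (.leaf 0)))) (.node (.node (.node (.leaf 3639) (.leaf 14250)) (.node (.leaf 4420) (.leaf 0))) (.node (.node (.leaf 13786) (.leaf 0)) (.node (.leaf 19920) (.leaf 0))))) (.node (.node (.node (.node (.leaf 19541) (.leaf 15203)) (.node (.leaf 5423) (.leaf 0))) (.node (.node (.leaf 19814) (.leaf 0)) (.node (.leaf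 7240) (.leaf 0)))) (.node (.node (.node (.leaf 1170) (.leaf 6871)) (.node (.leaf 4029) (.leaf 0))) (.node (.node (.leaf 13197) (.leaf 0)) (.node (.leaf 12066) (.leaf 0))))))) (.node (.node (.node (.node (.node (.node (.leaf 5425) (.leaf 20175)) (.node (.leaf 3346) (.leaf 0))) (.node (.node (.leaf 19359) (.leaf 19639)) (.node (.leaf 8306) (.leaf 0)))) (.node (.node (.node (.leaf 12998) (.leaf 2523)) (.node (.leaf 10426) (.leaf 0))) (.node (.node (.leaf 2486) (.leaf 0)) (.node (.leaf 20749) (.leaf 0))))) (.node (.node (.node (.node (.leaf 11248) (.leaf 10004)) (.node (.leaf 2977) (.leaf 0))) (.node (.node (.leaf 8773) (.leaf 0)) (.node (.leaf 9332) (.leaf 0)))) (.node (.node (.node (.leaf 15840) (.leaf 21479)) (.node (.leaf 11113) (.leaf 0))) (.node (.node (.leaf 15991) (.leaf 0)) (.node (.leaf 20312) (.leaf 0)))))) (.node (.node (.node (.node (.node (.leaf 15135) (.leaf 16951)) (.node (.leaf 11063) (.leaf 0))) (.node (.node (.leaf 16448) (.leaf 7789)) (.node (.leaf 4024) (.leaf 0)))) (.node (.node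 (.node (.leaf 65) (.leaf 5168)) (.node (.leaf 2850) (.leaf 0))) (.node (.node (.leaf 19642) (.leaf 0)) (.node (.leaf 14098) (.leaf 0))))) (.node (.node (.node (.node (.leaf 19911) (.leaf 393)) (.node (.leaf 6435) (.leaf 0))) (.node (.node (.leaf 11125) (.leaf 0)) (.node (.leaf 11861) (.leaf 0)))) (.node (.node (.node (.leaf 17098) (.leaf 3957)) (.node (.leaf 5054) (.leaf 0))) (.node (.node (.leaf 6825) (.leaf 0)) (.node (.leaf 17091) (.leaf 0)))))))))

/-- part of a table -/
def ordM6 : Trie := (.node (.node (.node (.node (.node (.node (.node (.node (.leaf 6305) (.leaf 19438)) (.node (.leaf 15708) (.leaf 0))) (.node (.node (.leaf 16942) (.leaf 11544)) (.node (.leaf 18158) (.leaf 0)))) (.node (.node (.node (.leaf 17802) (.leaf 17985)) (.node (.leaf 5357) (.leaf 0))) (.node (.node (.leaf 11033) (.leaf 0)) (.node (.leaf 8689) (.leaf 0))))) (.node (.node (.node (.node (.leaf 18328) (.leaf 11333)) (.node (.leaf 7760) (.leaf 0))) (.node (.node (.leaf 12839) (.leaf 0)) (.node (.leaf 13625) (.leaf 0))))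 (.node (.node (.node (.leaf 17564) (.leaf 6311)) (.node (.leaf 20108) (.leaf 0))) (.node (.node (.leaf 13024) (.leaf 0)) (.node (.leaf 13904) (.leaf 0)))))) (.node (.node (.node (.node (.node (.leaf 11634) (.leaf 12772)) (.node (.leaf 15156) (.leaf 0))) (.node (.node (.leaf 3067) (.leaf 12722)) (.node (.leaf 3317) (.leaf 0)))) (.node (.node (.node (.leaf 11277) (.leaf 21253)) (.node (.leaf 6925) (.leaf 0))) (.node (.node (.leaf 4260) (.leaf 0)) (.node (.leaf 20564) (.leaf 0))))) (.node (.node (.node (.node (.leaf 5689) (.leaf 16079)) (.node (.leaf 16473) (.leaf 0))) (.node (.node (.leaf 3788) (.leaf 0)) (.node (.leaf 15559) (.leaf 0)))) (.node (.node (.node (.leaf 10684) (.leaf 9471)) (.node (.leaf 19766) (.leaf 0))) (.node (.node (.leaf 12984) (.leaf 0)) (.node (.leaf 8922) (.leaf 0))))))) (.node (.node (.node (.node (.node (.node (.leaf 5319) (.leaf 19684)) (.node (.leaf 4336) (.leaf 0))) (.node (.node (.leaf 2914) (.leaf 19290)) (.node (.leaf 140) (.leaf 0)))) (.node (.node (.node (.leaf 10306)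 (.leaf 13058)) (.node (.leaf 8532) (.leaf 0))) (.node (.node (.leaf 9514) (.leaf 0)) (.node (.leaf 86) (.leaf 0))))) (.node (.node (.node (.node (.leaf 3534) (.leaf 5257)) (.node (.leaf 18237) (.leaf 0))) (.node (.node (.leaf 19781) (.leaf 0)) (.node (.leaf 437) (.leaf 0)))) (.node (.node (.node (.leaf 3082) (.leaf 6517)) (.node (.leaf 6860) (.leaf 0))) (.node (.node (.leaf 11151) (.leaf 0)) (.node (.leaf 18173) (.leaf 0)))))) (.node (.node (.node (.node (.node (.leaf 20658) (.leaf 2469)) (.node (.leaf 2830) (.leaf 0))) (.node (.node (.leaf 871) (.leaf 15300)) (.node (.leaf 21096) (.leaf 0)))) (.node (.node (.node (.leaf 2756) (.leaf 5075)) (.node (.leaf 1407) (.leaf 0))) (.node (.node (.leaf 16995) (.leaf 0)) (.node (.leaf 10254) (.leaf 0))))) (.node (.node (.node (.node (.leaf 9981) (.leaf 19593)) (.node (.leaf 8341) (.leaf 0))) (.node (.node (.leaf 20081) (.leaf 0)) (.node (.leaf 2321) (.leaf 0)))) (.node (.node (.node (.leaf 2937) (.leaf 6179)) (.node (.leaf 12150) (.leaf 0))) (.node (.node (.leaf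 11565) (.leaf 0)) (.node (.leaf 15446) (.leaf 0)))))))) (.node (.node (.node (.node (.node (.node (.node (.leaf 8517) (.leaf 17764)) (.node (.leaf 13960) (.leaf 0))) (.node (.node (.leaf 12556) (.leaf 7933)) (.node (.leaf 5193) (.leaf 0)))) (.node (.node (.node (.leaf 16135) (.leaf 12577)) (.node (.leaf 5738) (.leaf 0))) (.node (.node (.leaf 4488) (.leaf 0)) (.node (.leaf 7961) (.leaf 0))))) (.node (.node (.node (.node (.leaf 2923) (.leaf 17314)) (.node (.leaf 15543) (.leaf 0))) (.node (.node (.leaf 19476) (.leaf 0)) (.node (.leaf 7763) (.leaf 0)))) (.node (.node (.node (.leaf 12051) (.leaf 19805)) (.node (.leaf 10875) (.leaf 0))) (.node (.node (.leaf 12660) (.leaf 0)) (.node (.leaf 9501) (.leaf 0)))))) (.node (.node (.node (.node (.node (.leaf 9017) (.leaf 11075)) (.node (.leaf 3436) (.leaf 0))) (.node (.node (.leaf 6682) (.leaf 5213)) (.node (.leaf 2059) (.leaf 0)))) (.node (.node (.node (.leaf 9064) (.leaf 2385)) (.node (.leaf 15903) (.leaf 0))) (.node (.node (.leaf 10058) (.leaf 0)) (.node (.leaf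 16580) (.leaf 0))))) (.node (.node (.node (.node (.leaf 15583) (.leaf 8127)) (.node (.leaf 15387) (.leaf 0))) (.node (.node (.leaf 15604) (.leaf 0)) (.node (.leaf 5443) (.leaf 0)))) (.node (.node (.node (.leaf 19311) (.leaf 8018)) (.node (.leaf 20383) (.leaf 0))) (.node (.node (.leaf 10808) (.leaf 0)) (.node (.leaf 9914) (.leaf 0))))))) (.node (.node (.node (.node (.node (.node (.leaf 7250) (.leaf 6356)) (.node (.leaf 19589) (.leaf 0))) (.node (.node (.leaf 11099) (.leaf 8000)) (.node (.leaf 16452) (.leaf 0)))) (.node (.node (.node (.leaf 761) (.leaf 20591)) (.node (.leaf 8512) (.leaf 0))) (.node (.node (.leaf 10815) (.leaf 0)) (.node (.leaf 2239) (.leaf 0))))) (.node (.node (.node (.node (.leaf 10550) (.leaf 6207)) (.node (.leaf 4514) (.leaf 0))) (.node (.node (.leaf 17176) (.leaf 0)) (.node (.leaf 18299) (.leaf 0)))) (.node (.node (.node (.leaf 8356) (.leaf 1335)) (.node (.leaf 16146) (.leaf 0))) (.node (.node (.leaf 10901) (.leaf 0)) (.node (.leaf 10744) (.leaf 0)))))) (.node (.node (.node (.node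 (.node (.leaf 13203) (.leaf 8593)) (.node (.leaf 5531) (.leaf 0))) (.node (.node (.leaf 8206) (.leaf 7888)) (.node (.leaf 19539) (.leaf 0)))) (.node (.node (.node (.leaf 20712) (.leaf 1073)) (.node (.leaf 3507) (.leaf 0))) (.node (.node (.leaf 6706) (.leaf 0)) (.node (.leaf 3161) (.leaf 0))))) (.node (.node (.node (.node (.leaf 20122) (.leaf 12716)) (.node (.leaf 11966) (.leaf 0))) (.node (.node (.leaf 10784) (.leaf 0)) (.node (.leaf 14163) (.leaf 0)))) (.node (.node (.node (.leaf 9418) (.leaf 20327)) (.node (.leaf 8222) (.leaf 0))) (.node (.node (.leaf 4485) (.leaf 0)) (.node (.leaf 21342) (.leaf 0)))))))))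

/-- part of a table -/
def ordM7 : Trie := (.node (.node (.node (.node (.node (.node (.node (.node (.leaf 21124) (.leaf 12812)) (.node (.leaf 3166) (.leaf 0))) (.node (.node (.leaf 1571) (.leaf 16269)) (.node (.leaf 17908) (.leaf 0)))) (.node (.node (.node (.leaf 3419) (.leaf 17190)) (.node (.leaf 5671) (.leaf 0))) (.node (.node (.leaf 19069) (.leaf 0)) (.node (.leaf 17405) (.leaf 0))))) (.node (.node (.node (.node (.leaf 17664) (.leaf 19747)) (.node (.leaf 13084) (.leaf 0))) (.node (.node (.leaf 18831) (.leaf 0)) (.node (.leaf 18382) (.leaf 0)))) (.node (.node (.node (.leaf 4071) (.leaf 15006)) (.node (.leaf 5500) (.leaf 0))) (.node (.node (.leaf 13703) (.leaf 0)) (.node (.leaf 15525) (.leaf 0)))))) (.node (.node (.node (.node (.node (.leaf 17367) (.leaf 11214)) (.node (.leaf 15800) (.leaf 0))) (.node (.node (.leaf 8366) (.leaf 20219)) (.node (.leaf 9235) (.leaf 0)))) (.node (.node (.node (.leaf 12152) (.leaf 18393)) (.node (.leaf 2098) (.leaf 0))) (.node (.node (.leaf 1383) (.leaf 0)) (.node (.leaf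 17081) (.leaf 0))))) (.node (.node (.node (.node (.leaf 14027) (.leaf 19280)) (.node (.leaf 11175) (.leaf 0))) (.node (.node (.leaf 5118) (.leaf 0)) (.node (.leaf 4107) (.leaf 0)))) (.node (.node (.node (.leaf 18460) (.leaf 6516)) (.node (.leaf 2963) (.leaf 0))) (.node (.node (.leaf 10271) (.leaf 0)) (.node (.leaf 5564) (.leaf 0))))))) (.node (.node (.node (.node (.node (.node (.leaf 5665) (.leaf 5154)) (.node (.leaf 7587) (.leaf 0))) (.node (.node (.leaf 11) (.leaf 18891)) (.node (.leaf 567) (.leaf 0)))) (.node (.node (.node (.leaf 3881) (.leaf 18664)) (.node (.leaf 19383) (.leaf 0))) (.node (.node (.leaf 8549) (.leaf 0)) (.node (.leaf 1527) (.leaf 0))))) (.node (.node (.node (.node (.leaf 2530) (.leaf 16321)) (.node (.leaf 19332) (.leaf 0))) (.node (.node (.leaf 11471) (.leaf 0)) (.node (.leaf 7692) (.leaf 0)))) (.node (.node (.node (.leaf 160) (.leaf 8430)) (.node (.leaf 20087) (.leaf 0))) (.node (.node (.leaf 17076) (.leaf 0)) (.node (.leaf 21319) (.leaf 0)))))) (.node (.node (.node (.node (.node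 (.leaf 19399) (.leaf 18713)) (.node (.leaf 15877) (.leaf 0))) (.node (.node (.leaf 11918) (.leaf 21098)) (.node (.leaf 17509) (.leaf 0)))) (.node (.node (.node (.leaf 5789) (.leaf 13118)) (.node (.leaf 7673) (.leaf 0))) (.node (.node (.leaf 6647) (.leaf 0)) (.node (.leaf 16812) (.leaf 0))))) (.node (.node (.node (.node (.leaf 18008) (.leaf 20649)) (.node (.leaf 16333) (.leaf 0))) (.node (.node (.leaf 20979) (.leaf 0)) (.node (.leaf 16573) (.leaf 0)))) (.node (.node (.node (.leaf 6884) (.leaf 13518)) (.node (.leaf 4111) (.leaf 0))) (.node (.node (.leaf 12877) (.leaf 0)) (.node (.leaf 20000) (.leaf 0)))))))) (.node (.node (.node (.node (.node (.node (.node (.leaf 10410) (.leaf 8874)) (.node (.leaf 10367) (.leaf 0))) (.node (.node (.leaf 14147) (.leaf 14572)) (.node (.leaf 12940) (.leaf 0)))) (.node (.node (.node (.leaf 12328) (.leaf 1692)) (.node (.leaf 1763) (.leaf 0))) (.node (.node (.leaf 13734) (.leaf 0)) (.node (.leaf 595) (.leaf 0))))) (.node (.node (.node (.node (.leaf 11579) (.leaf 15842))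 (.node (.leaf 18766) (.leaf 0))) (.node (.node (.leaf 16483) (.leaf 0)) (.node (.leaf 13086) (.leaf 0)))) (.node (.node (.node (.leaf 801) (.leaf 3972)) (.node (.leaf 8540) (.leaf 0))) (.node (.node (.leaf 3363) (.leaf 0)) (.node (.leaf 10103) (.leaf 0)))))) (.node (.node (.node (.node (.node (.leaf 3214) (.leaf 8188)) (.node (.leaf 13181) (.leaf 0))) (.node (.node (.leaf 14763) (.leaf 12896)) (.node (.leaf 7111) (.leaf 0)))) (.node (.node (.node (.leaf 19850) (.leaf 7137)) (.node (.leaf 19463) (.leaf 0))) (.node (.node (.leaf 4823) (.leaf 0)) (.node (.leaf 1509) (.leaf 0))))) (.node (.node (.node (.node (.leaf 3132) (.leaf 6438)) (.node (.leaf 7613) (.leaf 0))) (.node (.node (.leaf 1150) (.leaf 0)) (.node (.leaf 13588) (.leaf 0)))) (.node (.node (.node (.leaf 16072) (.leaf 6501)) (.node (.leaf 17831) (.leaf 0))) (.node (.node (.leaf 20246) (.leaf 0)) (.node (.leaf 19048) (.leaf 0))))))) (.node (.node (.node (.node (.node (.node (.leaf 5679) (.leaf 2460)) (.node (.leaf 21281) (.leaf 0))) (.node (.node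 (.leaf 3543) (.leaf 3980)) (.node (.leaf 18399) (.leaf 0)))) (.node (.node (.node (.leaf 198) (.leaf 16129)) (.node (.leaf 9061) (.leaf 0))) (.node (.node (.leaf 6361) (.leaf 0)) (.node (.leaf 99) (.leaf 0))))) (.node (.node (.node (.node (.leaf 3754) (.leaf 2557)) (.node (.leaf 2949) (.leaf 0))) (.node (.node (.leaf 4967) (.leaf 0)) (.node (.leaf 20985) (.leaf 0)))) (.node (.node (.node (.leaf 9163) (.leaf 8056)) (.node (.leaf 2135) (.leaf 0))) (.node (.node (.leaf 1560) (.leaf 0)) (.node (.leaf 18779) (.leaf 0)))))) (.node (.node (.node (.node (.node (.leaf 9288) (.leaf 7008)) (.node (.leaf 287) (.leaf 0))) (.node (.node (.leaf 17724) (.leaf 14767)) (.node (.leaf 10268) (.leaf 0)))) (.node (.node (.node (.leaf 14454) (.leaf 7427)) (.node (.leaf 1417) (.leaf 0))) (.node (.node (.leaf 15434) (.leaf 0)) (.node (.leaf 9200) (.leaf 0))))) (.node (.node (.node (.node (.leaf 5286) (.leaf 4950)) (.node (.leaf 11704) (.leaf 0))) (.node (.node (.leaf 13986) (.leaf 0)) (.node (.leaf 21137) (.leaf 0)))) (.node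 (.node (.node (.leaf 4751) (.leaf 19662)) (.node (.leaf 12113) (.leaf 0))) (.node (.node (.leaf 10038) (.leaf 0)) (.node (.leaf 17138) (.leaf 0)))))))))

/-- part of a table -/
def ordM8 : Trie := (.node (.node (.node (.node (.node (.node (.node (.node (.leaf 2224) (.leaf 8144)) (.node (.leaf 14871) (.leaf 0))) (.node (.node (.leaf 2892) (.leaf 1099)) (.node (.leaf 7727) (.leaf 0)))) (.node (.node (.node (.leaf 621) (.leaf 6969)) (.node (.leaf 9666) (.leaf 0))) (.node (.node (.leaf 13854) (.leaf 0)) (.node (.leaf 15593) (.leaf 0))))) (.node (.node (.node (.node (.leaf 9002) (.leaf 7361)) (.node (.leaf 21473) (.leaf 0))) (.node (.node (.leaf 580) (.leaf 0)) (.node (.leaf 21274) (.leaf 0)))) (.node (.node (.node (.leaf 5473) (.leaf 3210)) (.node (.leaf 15749) (.leaf 0))) (.node (.node (.leaf 10600) (.leaf 0)) (.node (.leaf 15141) (.leaf 0)))))) (.node (.node (.node (.node (.node (.leaf 12448) (.leaf 11411)) (.node (.leaf 17002) (.leaf 0))) (.node (.node (.leaf 1175) (.leaf 18386)) (.node (.leaf 13416)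 (.leaf 0)))) (.node (.node (.node (.leaf 916) (.leaf 11034)) (.node (.leaf 13162) (.leaf 0))) (.node (.node (.leaf 6192) (.leaf 0)) (.node (.leaf 11176) (.leaf 0))))) (.node (.node (.node (.node (.leaf 13306) (.leaf 3409)) (.node (.leaf 3836) (.leaf 0))) (.node (.node (.leaf 17496) (.leaf 0)) (.node (.leaf 16931) (.leaf 0)))) (.node (.node (.node (.leaf 2260) (.leaf 15313)) (.node (.leaf 17056) (.leaf 0))) (.node (.node (.leaf 16972) (.leaf 0)) (.node (.leaf 10832) (.leaf 0))))))) (.node (.node (.node (.node (.node (.node (.leaf 9571) (.leaf 8148)) (.node (.leaf 12510) (.leaf 0))) (.node (.node (.leaf 19833) (.leaf 8646)) (.node (.leaf 21114) (.leaf 0)))) (.node (.node (.node (.leaf 7014) (.leaf 12787)) (.node (.leaf 10801) (.leaf 0))) (.node (.node (.leaf 6545) (.leaf 0)) (.node (.leaf 4528) (.leaf 0))))) (.node (.node (.node (.node (.leaf 13182) (.leaf 6576)) (.node (.leaf 20754) (.leaf 0))) (.node (.node (.leaf 8421) (.leaf 0)) (.node (.leaf 8441) (.leaf 0)))) (.node (.node (.node (.leaf 9944)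 (.leaf 3219)) (.node (.leaf 10668) (.leaf 0))) (.node (.node (.leaf 1339) (.leaf 0)) (.node (.leaf 9592) (.leaf 0)))))) (.node (.node (.node (.node (.node (.leaf 5746) (.leaf 10611)) (.node (.leaf 9222) (.leaf 0))) (.node (.node (.leaf 19637) (.leaf 6418)) (.node (.leaf 7771) (.leaf 0)))) (.node (.node (.node (.leaf 10016) (.leaf 14383)) (.node (.leaf 17811) (.leaf 0))) (.node (.node (.leaf 8556) (.leaf 0)) (.node (.leaf 14172) (.leaf 0))))) (.node (.node (.node (.node (.leaf 6014) (.leaf 11365)) (.node (.leaf 16960) (.leaf 0))) (.node (.node (.leaf 19505) (.leaf 0)) (.node (.leaf 5346) (.leaf 0)))) (.node (.node (.node (.leaf 6052) (.leaf 2550)) (.node (.leaf 16933) (.leaf 0))) (.node (.node (.leaf 1601) (.leaf 0)) (.node (.leaf 16917) (.leaf 0)))))))) (.node (.node (.node (.node (.node (.node (.node (.leaf 15039) (.leaf 1280)) (.node (.leaf 8416) (.leaf 0))) (.node (.node (.leaf 19007) (.leaf 17199)) (.node (.leaf 16403) (.leaf 0)))) (.node (.node (.node (.leaf 15096) (.leaf 17680)) (.node (.leaf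 20380) (.leaf 0))) (.node (.node (.leaf 12853) (.leaf 0)) (.node (.leaf 4688) (.leaf 0))))) (.node (.node (.node (.node (.leaf 11534) (.leaf 5709)) (.node (.leaf 8482) (.leaf 0))) (.node (.node (.leaf 18961) (.leaf 0)) (.node (.leaf 21163) (.leaf 0)))) (.node (.node (.node (.leaf 9762) (.leaf 6278)) (.node (.leaf 14977) (.leaf 0))) (.node (.node (.leaf 10034) (.leaf 0)) (.node (.leaf 7450) (.leaf 0)))))) (.node (.node (.node (.node (.node (.leaf 9863) (.leaf 20663)) (.node (.leaf 5034) (.leaf 0))) (.node (.node (.leaf 14890) (.leaf 10624)) (.node (.leaf 20554) (.leaf 0)))) (.node (.node (.node (.leaf 11756) (.leaf 13234)) (.node (.leaf 467) (.leaf 0))) (.node (.node (.leaf 1757) (.leaf 0)) (.node (.leaf 19162) (.leaf 0))))) (.node (.node (.node (.node (.leaf 21406) (.leaf 940)) (.node (.leaf 21501) (.leaf 0))) (.node (.node (.leaf 5876) (.leaf 0)) (.node (.leaf 10645) (.leaf 0)))) (.node (.node (.node (.leaf 19425) (.leaf 4616)) (.node (.leaf 16819) (.leaf 0))) (.node (.node (.leaf 15371) (.leaf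 0)) (.node (.leaf 12993) (.leaf 0))))))) (.node (.node (.node (.node (.node (.node (.leaf 11295) (.leaf 10539)) (.node (.leaf 9335) (.leaf 0))) (.node (.node (.leaf 13857) (.leaf 13608)) (.node (.leaf 17673) (.leaf 0)))) (.node (.node (.node (.leaf 12454) (.leaf 60)) (.node (.leaf 7755) (.leaf 0))) (.node (.node (.leaf 10137) (.leaf 0)) (.node (.leaf 5524) (.leaf 0))))) (.node (.node (.node (.node (.leaf 7939) (.leaf 17565)) (.node (.leaf 2639) (.leaf 0))) (.node (.node (.leaf 15187) (.leaf 0)) (.node (.leaf 12214) (.leaf 0)))) (.node (.node (.node (.leaf 1225) (.leaf 6066)) (.node (.leaf 9506) (.leaf 0))) (.node (.node (.leaf 5388) (.leaf 0)) (.node (.leaf 14000) (.leaf 0)))))) (.node (.node (.node (.node (.node (.leaf 4161) (.leaf 4387)) (.node (.leaf 2279) (.leaf 0))) (.node (.node (.leaf 3710) (.leaf 18714)) (.node (.leaf 3337) (.leaf 0)))) (.node (.node (.node (.leaf 5659) (.leaf 13029)) (.node (.leaf 15711) (.leaf 0))) (.node (.node (.leaf 329) (.leaf 0)) (.node (.leaf 8046) (.leaf 0))))) (.node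 (.node (.node (.node (.leaf 10382) (.leaf 19196)) (.node (.leaf 17139) (.leaf 0))) (.node (.node (.leaf 13552) (.leaf 0)) (.node (.leaf 16940) (.leaf 0)))) (.node (.node (.node (.leaf 15733) (.leaf 14273)) (.node (.leaf 12001) (.leaf 0))) (.node (.node (.leaf 14067) (.leaf 0)) (.node (.leaf 15463) (.leaf 0)))))))))

/-- part of a table -/
def ordM9 : Trie := (.node (.node (.node (.node (.node (.node (.node (.node (.leaf 708) (.leaf 21446)) (.node (.leaf 19785) (.leaf 0))) (.node (.node (.leaf 19012) (.leaf 235)) (.node (.leaf 16869) (.leaf 0)))) (.node (.node (.node (.leaf 10827) (.leaf 17853)) (.node (.leaf 10370) (.leaf 0))) (.node (.node (.leaf 19590) (.leaf 0)) (.node (.leaf 15957) (.leaf 0))))) (.node (.node (.node (.node (.leaf 18797) (.leaf 13207)) (.node (.leaf 18802) (.leaf 0))) (.node (.node (.leaf 407) (.leaf 0)) (.node (.leaf 20226) (.leaf 0)))) (.node (.node (.node (.leaf 8913) (.leaf 17909)) (.node (.leaf 7739) (.leaf 0))) (.node (.node (.leaf 3935) (.leaf 0)) (.node (.leaf 1936) (.leaf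 0)))))) (.node (.node (.node (.node (.node (.leaf 4457) (.leaf 11026)) (.node (.leaf 15976) (.leaf 0))) (.node (.node (.leaf 13943) (.leaf 13640)) (.node (.leaf 4758) (.leaf 0)))) (.node (.node (.node (.leaf 11843) (.leaf 13661)) (.node (.leaf 4939) (.leaf 0))) (.node (.node (.leaf 10918) (.leaf 0)) (.node (.leaf 2249) (.leaf 0))))) (.node (.node (.node (.node (.leaf 17320) (.leaf 6326)) (.node (.leaf 928) (.leaf 0))) (.node (.node (.leaf 17039) (.leaf 0)) (.node (.leaf 5212) (.leaf 0)))) (.node (.node (.node (.leaf 4807) (.leaf 7253)) (.node (.leaf 2019) (.leaf 0))) (.node (.node (.leaf 6536) (.leaf 0)) (.node (.leaf 3643) (.leaf 0))))))) (.node (.node (.node (.node (.node (.node (.leaf 18559) (.leaf 10791)) (.node (.leaf 10591) (.leaf 0))) (.node (.node (.leaf 11380) (.leaf 12668)) (.node (.leaf 19837) (.leaf 0)))) (.node (.node (.node (.leaf 4451) (.leaf 6425)) (.node (.leaf 9389) (.leaf 0))) (.node (.node (.leaf 16988) (.leaf 0)) (.node (.leaf 2480) (.leaf 0))))) (.node (.node (.node (.node (.leaf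 11769) (.leaf 367)) (.node (.leaf 17208) (.leaf 0))) (.node (.node (.leaf 6103) (.leaf 0)) (.node (.leaf 13790) (.leaf 0)))) (.node (.node (.node (.leaf 10725) (.leaf 7602)) (.node (.leaf 17128) (.leaf 0))) (.node (.node (.leaf 14492) (.leaf 0)) (.node (.leaf 17015) (.leaf 0)))))) (.node (.node (.node (.node (.node (.leaf 1845) (.leaf 7553)) (.node (.leaf 20755) (.leaf 0))) (.node (.node (.leaf 15554) (.leaf 12888)) (.node (.leaf 3325) (.leaf 0)))) (.node (.node (.node (.leaf 3960) (.leaf 5868)) (.node (.leaf 21034) (.leaf 0))) (.node (.node (.leaf 18225) (.leaf 0)) (.node (.leaf 19933) (.leaf 0))))) (.node (.node (.node (.node (.leaf 2552) (.leaf 3729)) (.node (.leaf 7612) (.leaf 0))) (.node (.node (.leaf 17146) (.leaf 0)) (.node (.leaf 14209) (.leaf 0)))) (.node (.node (.node (.leaf 397) (.leaf 6012)) (.node (.leaf 8584) (.leaf 0))) (.node (.node (.leaf 5115) (.leaf 0)) (.node (.leaf 12594) (.leaf 0)))))))) (.node (.node (.node (.node (.node (.node (.node (.leaf 8073) (.leaf 12096)) (.node (.leaf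 10329) (.leaf 0))) (.node (.node (.leaf 10230) (.leaf 11974)) (.node (.leaf 11909) (.leaf 0)))) (.node (.node (.node (.leaf 6556) (.leaf 8325)) (.node (.leaf 21500) (.leaf 0))) (.node (.node (.leaf 18519) (.leaf 0)) (.node (.leaf 16619) (.leaf 0))))) (.node (.node (.node (.node (.leaf 16025) (.leaf 6348)) (.node (.leaf 13720) (.leaf 0))) (.node (.node (.leaf 2199) (.leaf 0)) (.node (.leaf 9423) (.leaf 0)))) (.node (.node (.node (.leaf 526) (.leaf 10444)) (.node (.leaf 7749) (.leaf 0))) (.node (.node (.leaf 4481) (.leaf 0)) (.node (.leaf 13757) (.leaf 0)))))) (.node (.node (.node (.node (.node (.leaf 3234) (.leaf 20861)) (.node (.leaf 18315) (.leaf 0))) (.node (.node (.leaf 16743) (.leaf 15560)) (.node (.leaf 7182) (.leaf 0)))) (.node (.node (.node (.leaf 7757) (.leaf 18729)) (.node (.leaf 7623) (.leaf 0))) (.node (.node (.leaf 5675) (.leaf 0)) (.node (.leaf 7617) (.leaf 0))))) (.node (.node (.node (.node (.leaf 5178) (.leaf 9485)) (.node (.leaf 21395) (.leaf 0))) (.node (.node (.leaf 17974) (.leaf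 0)) (.node (.leaf 19422) (.leaf 0)))) (.node (.node (.node (.leaf 11859) (.leaf 8560)) (.node (.leaf 9307) (.leaf 0))) (.node (.node (.leaf 16781) (.leaf 0)) (.node (.leaf 6159) (.leaf 0))))))) (.node (.node (.node (.node (.node (.node (.leaf 6320) (.leaf 5807)) (.node (.leaf 8259) (.leaf 0))) (.node (.node (.leaf 15979) (.leaf 982)) (.node (.leaf 5393) (.leaf 0)))) (.node (.node (.node (.leaf 17463) (.leaf 340)) (.node (.leaf 16870) (.leaf 0))) (.node (.node (.leaf 9305) (.leaf 0)) (.node (.leaf 3261) (.leaf 0))))) (.node (.node (.node (.node (.leaf 2834) (.leaf 13994)) (.node (.leaf 7833) (.leaf 0))) (.node (.node (.leaf 16665) (.leaf 0)) (.node (.leaf 16486) (.leaf 0)))) (.node (.node (.node (.leaf 5962) (.leaf 15860)) (.node (.leaf 5309) (.leaf 0))) (.node (.node (.leaf 5698) (.leaf 0)) (.node (.leaf 11713) (.leaf 0)))))) (.node (.node (.node (.node (.node (.leaf 10419) (.leaf 11629)) (.node (.leaf 10513) (.leaf 0))) (.node (.node (.leaf 11003) (.leaf 2470)) (.node (.leaf 19735) (.leaf 0))))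 (.node (.node (.node (.leaf 16152) (.leaf 4989)) (.node (.leaf 20573) (.leaf 0))) (.node (.node (.leaf 6249) (.leaf 0)) (.node (.leaf 16491) (.leaf 0))))) (.node (.node (.node (.node (.leaf 2536) (.leaf 19363)) (.node (.leaf 21483) (.leaf 0))) (.node (.node (.leaf 7097) (.leaf 0)) (.node (.leaf 1565) (.leaf 0)))) (.node (.node (.node (.leaf 4668) (.leaf 19574)) (.node (.leaf 10840) (.leaf 0))) (.node (.node (.leaf 21099) (.leaf 0)) (.node (.leaf 10404) (.leaf 0)))))))))

/-- part of a table -/
def ordM10 : Trie := (.node (.node (.node (.node (.node (.node (.node (.node (.leaf 15090) (.leaf 19936)) (.node (.leaf 17643) (.leaf 0))) (.node (.node (.leaf 12132) (.leaf 13584)) (.node (.leaf 8987) (.leaf 0)))) (.node (.node (.node (.leaf 20309) (.leaf 1900)) (.node (.leaf 21349) (.leaf 0))) (.node (.node (.leaf 10760) (.leaf 0)) (.node (.leaf 14181) (.leaf 0))))) (.node (.node (.node (.node (.leaf 7666) (.leaf 1271)) (.node (.leaf 15920) (.leaf 0))) (.node (.node (.leaf 8498) (.leaf 0)) (.node (.leaf 1749)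 (.leaf 0)))) (.node (.node (.node (.leaf 19478) (.leaf 10078)) (.node (.leaf 6128) (.leaf 0))) (.node (.node (.leaf 5888) (.leaf 0)) (.node (.leaf 12999) (.leaf 0)))))) (.node (.node (.node (.node (.node (.leaf 20084) (.leaf 522)) (.node (.leaf 16325) (.leaf 0))) (.node (.node (.leaf 7007) (.leaf 80)) (.node (.leaf 19802) (.leaf 0)))) (.node (.node (.node (.leaf 21379) (.leaf 12680)) (.node (.leaf 11687) (.leaf 0))) (.node (.node (.leaf 1422) (.leaf 0)) (.node (.leaf 20588) (.leaf 0))))) (.node (.node (.node (.node (.leaf 15655) (.leaf 7848)) (.node (.leaf 21338) (.leaf 0))) (.node (.node (.leaf 12482) (.leaf 0)) (.node (.leaf 6492) (.leaf 0)))) (.node (.node (.node (.leaf 12115) (.leaf 1579)) (.node (.leaf 9356) (.leaf 0))) (.node (.node (.leaf 13150) (.leaf 0)) (.node (.leaf 19167) (.leaf 0))))))) (.node (.node (.node (.node (.node (.node (.leaf 4745) (.leaf 20105)) (.node (.leaf 20662) (.leaf 0))) (.node (.node (.leaf 17054) (.leaf 14443)) (.node (.leaf 6714) (.leaf 0)))) (.node (.node (.node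 (.leaf 12396) (.leaf 1604)) (.node (.leaf 6003) (.leaf 0))) (.node (.node (.leaf 2915) (.leaf 0)) (.node (.leaf 17763) (.leaf 0))))) (.node (.node (.node (.node (.leaf 14270) (.leaf 19974)) (.node (.leaf 18404) (.leaf 0))) (.node (.node (.leaf 10984) (.leaf 0)) (.node (.leaf 11046) (.leaf 0)))) (.node (.node (.node (.leaf 16062) (.leaf 1166)) (.node (.leaf 16508) (.leaf 0))) (.node (.node (.leaf 3738) (.leaf 0)) (.node (.leaf 6585) (.leaf 0)))))) (.node (.node (.node (.node (.node (.leaf 17698) (.leaf 14921)) (.node (.leaf 3887) (.leaf 0))) (.node (.node (.leaf 13123) (.leaf 2394)) (.node (.leaf 115) (.leaf 0)))) (.node (.node (.node (.leaf 21196) (.leaf 92)) (.node (.leaf 17667) (.leaf 0))) (.node (.node (.leaf 1862) (.leaf 0)) (.node (.leaf 7069) (.leaf 0))))) (.node (.node (.node (.node (.leaf 7783) (.leaf 13870)) (.node (.leaf 7051) (.leaf 0))) (.node (.node (.leaf 1399) (.leaf 0)) (.node (.leaf 6736) (.leaf 0)))) (.node (.node (.node (.leaf 13558) (.leaf 4949)) (.node (.leaf 20326) (.leaf 0)))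 (.node (.node (.leaf 11443) (.leaf 0)) (.node (.leaf 9284) (.leaf 0)))))))) (.node (.node (.node (.node (.node (.node (.node (.leaf 5549) (.leaf 14993)) (.node (.leaf 12259) (.leaf 0))) (.node (.node (.leaf 1312) (.leaf 13878)) (.node (.leaf 5043) (.leaf 0)))) (.node (.node (.node (.leaf 4307) (.leaf 6197)) (.node (.leaf 3034) (.leaf 0))) (.node (.node (.leaf 2600) (.leaf 0)) (.node (.leaf 7487) (.leaf 0))))) (.node (.node (.node (.node (.leaf 11072) (.leaf 5723)) (.node (.leaf 3853) (.leaf 0))) (.node (.node (.leaf 14323) (.leaf 0)) (.node (.leaf 15922) (.leaf 0)))) (.node (.node (.node (.leaf 12186) (.leaf 20190)) (.node (.leaf 7343) (.leaf 0))) (.node (.node (.leaf 16752) (.leaf 0)) (.node (.leaf 16875) (.leaf 0)))))) (.node (.node (.node (.node (.node (.leaf 8209) (.leaf 12469)) (.node (.leaf 3765) (.leaf 0))) (.node (.node (.leaf 11711) (.leaf 5128)) (.node (.leaf 20731) (.leaf 0)))) (.node (.node (.node (.leaf 17332) (.leaf 18027)) (.node (.leaf 8798) (.leaf 0))) (.node (.node (.leaf 10680)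 (.leaf 0)) (.node (.leaf 4884) (.leaf 0))))) (.node (.node (.node (.node (.leaf 8180) (.leaf 10944)) (.node (.leaf 15171) (.leaf 0))) (.node (.node (.leaf 12803) (.leaf 0)) (.node (.leaf 14786) (.leaf 0)))) (.node (.node (.node (.leaf 4274) (.leaf 5224)) (.node (.leaf 2654) (.leaf 0))) (.node (.node (.leaf 1718) (.leaf 0)) (.node (.leaf 4923) (.leaf 0))))))) (.node (.node (.node (.node (.node (.node (.leaf 19594) (.leaf 7951)) (.node (.leaf 10039) (.leaf 0))) (.node (.node (.leaf 1538) (.leaf 12687)) (.node (.leaf 12301) (.leaf 0)))) (.node (.node (.node (.leaf 16734) (.leaf 14225)) (.node (.leaf 19509) (.leaf 0))) (.node (.node (.leaf 4185) (.leaf 0)) (.node (.leaf 3598) (.leaf 0))))) (.node (.node (.node (.node (.leaf 19755) (.leaf 2099)) (.node (.leaf 4901) (.leaf 0))) (.node (.node (.leaf 13264) (.leaf 0)) (.node (.leaf 9653) (.leaf 0)))) (.node (.node (.node (.leaf 18690) (.leaf 14019)) (.node (.leaf 7385) (.leaf 0))) (.node (.node (.leaf 9168) (.leaf 0)) (.node (.leaf 18927) (.leaf 0))))))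 (.node (.node (.node (.node (.node (.leaf 12122) (.leaf 4934)) (.node (.leaf 17371) (.leaf 0))) (.node (.node (.leaf 20431) (.leaf 9841)) (.node (.leaf 3977) (.leaf 0)))) (.node (.node (.node (.leaf 14907) (.leaf 5780)) (.node (.leaf 4011) (.leaf 0))) (.node (.node (.leaf 14419) (.leaf 0)) (.node (.leaf 13655) (.leaf 0))))) (.node (.node (.node (.node (.leaf 14317) (.leaf 13519)) (.node (.leaf 17395) (.leaf 0))) (.node (.node (.leaf 6611) (.leaf 0)) (.node (.leaf 10579) (.leaf 0)))) (.node (.node (.node (.leaf 10179) (.leaf 3202)) (.node (.leaf 20678) (.leaf 0))) (.node (.node (.leaf 17771) (.leaf 0)) (.node (.leaf 10071) (.leaf 0)))))))))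

/-- part of a table -/
def ordM11 : Trie := (.node (.node (.node (.node (.node (.node (.node (.node (.leaf 4909) (.leaf 20425)) (.node (.leaf 12043) (.leaf 0))) (.node (.node (.leaf 18140) (.leaf 13042)) (.node (.leaf 715) (.leaf 0)))) (.node (.node (.node (.leaf 8245) (.leaf 16673)) (.node (.leaf 21499) (.leaf 0))) (.node (.node (.leaf 9458) (.leaf 0)) (.node (.leaf 20071) (.leaf 0))))) (.node (.node (.node (.node (.leaf 1359) (.leaf 15295)) (.node (.leaf 10877) (.leaf 0))) (.node (.node (.leaf 17533) (.leaf 0)) (.node (.leaf 16802) (.leaf 0)))) (.node (.node (.node (.leaf 20001) (.leaf 19690)) (.node (.leaf 12579) (.leaf 0))) (.node (.node (.leaf 5415) (.leaf 0)) (.node (.leaf 11268) (.leaf 0)))))) (.node (.node (.node (.node (.node (.leaf 2686) (.leaf 8963)) (.node (.leaf 21025) (.leaf 0))) (.node (.node (.leaf 8592) (.leaf 1829)) (.node (.leaf 17778) (.leaf 0)))) (.node (.node (.node (.leaf 9704) (.leaf 2694)) (.node (.leaf 7538) (.leaf 0))) (.node (.node (.leaf 3627) (.leaf 0)) (.node (.leaf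 3457) (.leaf 0))))) (.node (.node (.node (.node (.leaf 13043) (.leaf 17325)) (.node (.leaf 19150) (.leaf 0))) (.node (.node (.leaf 7636) (.leaf 0)) (.node (.leaf 18368) (.leaf 0)))) (.node (.node (.node (.leaf 10661) (.leaf 13121)) (.node (.leaf 6908) (.leaf 0))) (.node (.node (.leaf 4157) (.leaf 0)) (.node (.leaf 11960) (.leaf 0))))))) (.node (.node (.node (.node (.node (.node (.leaf 10472) (.leaf 18572)) (.node (.leaf 13451) (.leaf 0))) (.node (.node (.leaf 21270) (.leaf 7495)) (.node (.leaf 15575) (.leaf 0)))) (.node (.node (.node (.leaf 6762) (.leaf 5153)) (.node (.leaf 7716) (.leaf 0))) (.node (.node (.leaf 1706) (.leaf 0)) (.node (.leaf 19713) (.leaf 0))))) (.node (.node (.node (.node (.leaf 3315) (.leaf 14803)) (.node (.leaf 16815) (.leaf 0))) (.node (.node (.leaf 11383) (.leaf 0)) (.node (.leaf 19597) (.leaf 0)))) (.node (.node (.node (.leaf 18686) (.leaf 8884)) (.node (.leaf 4258) (.leaf 0))) (.node (.node (.leaf 1146) (.leaf 0)) (.node (.leaf 4072) (.leaf 0)))))) (.node (.node (.node (.node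 (.node (.leaf 20975) (.leaf 6670)) (.node (.leaf 8080) (.leaf 0))) (.node (.node (.leaf 7432) (.leaf 6255)) (.node (.leaf 533) (.leaf 0)))) (.node (.node (.node (.leaf 11699) (.leaf 225)) (.node (.leaf 18617) (.leaf 0))) (.node (.node (.leaf 4733) (.leaf 0)) (.node (.leaf 10529) (.leaf 0))))) (.node (.node (.node (.node (.leaf 4952) (.leaf 5678)) (.node (.leaf 15944) (.leaf 0))) (.node (.node (.leaf 377) (.leaf 0)) (.node (.leaf 15533) (.leaf 0)))) (.node (.node (.node (.leaf 18580) (.leaf 17743)) (.node (.leaf 8721) (.leaf 0))) (.node (.node (.leaf 11697) (.leaf 0)) (.node (.leaf 8024) (.leaf 0)))))))) (.node (.node (.node (.node (.node (.node (.node (.leaf 172) (.leaf 18243)) (.node (.leaf 12837) (.leaf 0))) (.node (.node (.leaf 4350) (.leaf 11239)) (.node (.leaf 20386) (.leaf 0)))) (.node (.node (.node (.leaf 10223) (.leaf 15438)) (.node (.leaf 8704) (.leaf 0))) (.node (.node (.leaf 10393) (.leaf 0)) (.node (.leaf 2779) (.leaf 0))))) (.node (.node (.node (.node (.leaf 15878) (.leaf 12102)) (.node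 (.leaf 8843) (.leaf 0))) (.node (.node (.leaf 5437) (.leaf 0)) (.node (.leaf 21072) (.leaf 0)))) (.node (.node (.node (.leaf 8226) (.leaf 12602)) (.node (.leaf 9377) (.leaf 0))) (.node (.node (.leaf 2043) (.leaf 0)) (.node (.leaf 6951) (.leaf 0)))))) (.node (.node (.node (.node (.node (.leaf 17725) (.leaf 20466)) (.node (.leaf 2930) (.leaf 0))) (.node (.node (.leaf 9241) (.leaf 8101)) (.node (.leaf 14565) (.leaf 0)))) (.node (.node (.node (.leaf 7726) (.leaf 9099)) (.node (.leaf 588) (.leaf 0))) (.node (.node (.leaf 19308) (.leaf 0)) (.node (.leaf 12642) (.leaf 0))))) (.node (.node (.node (.node (.leaf 20181) (.leaf 1389)) (.node (.leaf 18608) (.leaf 0))) (.node (.node (.leaf 17612) (.leaf 0)) (.node (.leaf 11059) (.leaf 0)))) (.node (.node (.node (.leaf 20892) (.leaf 9021)) (.node (.leaf 8819) (.leaf 0))) (.node (.node (.leaf 4173) (.leaf 0)) (.node (.leaf 9043) (.leaf 0))))))) (.node (.node (.node (.node (.node (.node (.leaf 14294) (.leaf 20488)) (.node (.leaf 3926) (.leaf 0))) (.node (.node (.leaf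 677) (.leaf 14529)) (.node (.leaf 18426) (.leaf 0)))) (.node (.node (.node (.leaf 18834) (.leaf 12137)) (.node (.leaf 13777) (.leaf 0))) (.node (.node (.leaf 7954) (.leaf 0)) (.node (.leaf 8761) (.leaf 0))))) (.node (.node (.node (.node (.leaf 11828) (.leaf 6926)) (.node (.leaf 6405) (.leaf 0))) (.node (.node (.leaf 1926) (.leaf 0)) (.node (.leaf 20642) (.leaf 0)))) (.node (.node (.node (.leaf 16254) (.leaf 5435)) (.node (.leaf 18574) (.leaf 0))) (.node (.node (.leaf 9820) (.leaf 0)) (.node (.leaf 15829) (.leaf 0)))))) (.node (.node (.node (.node (.node (.leaf 18838) (.leaf 266)) (.node (.leaf 18356) (.leaf 0))) (.node (.node (.leaf 11260) (.leaf 17231)) (.node (.leaf 9088) (.leaf 0)))) (.node (.node (.node (.leaf 13071) (.leaf 12271)) (.node (.leaf 20082) (.leaf 0))) (.node (.node (.leaf 4240) (.leaf 0)) (.node (.leaf 12170) (.leaf 0))))) (.node (.node (.node (.node (.leaf 2335) (.leaf 6180)) (.node (.leaf 9629) (.leaf 0))) (.node (.node (.leaf 15050) (.leaf 0)) (.node (.leaf 19139) (.leaf 0))))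 (.node (.node (.node (.leaf 8329) (.leaf 9625)) (.node (.leaf 14699) (.leaf 0))) (.node (.node (.leaf 1793) (.leaf 0)) (.node (.leaf 5462) (.leaf 0)))))))))

/-- part of a table -/
def ordM12 : Trie := (.node (.node (.node (.node (.node (.node (.node (.node (.leaf 17553) (.leaf 1448)) (.node (.leaf 11002) (.leaf 0))) (.node (.node (.leaf 15613) (.leaf 1133)) (.node (.leaf 6306) (.leaf 0)))) (.node (.node (.node (.leaf 4172) (.leaf 436)) (.node (.leaf 7248) (.leaf 0))) (.node (.node (.leaf 15227) (.leaf 0)) (.node (.leaf 11087) (.leaf 0))))) (.node (.node (.node (.node (.leaf 4181) (.leaf 1016)) (.node (.leaf 6458) (.leaf 0))) (.node (.node (.leaf 1792) (.leaf 0)) (.node (.leaf 16136) (.leaf 0)))) (.node (.node (.node (.leaf 15092) (.leaf 11690)) (.node (.leaf 12310) (.leaf 0))) (.node (.node (.leaf 1201) (.leaf 0)) (.node (.leaf 14750) (.leaf 0)))))) (.node (.node (.node (.node (.node (.leaf 1543) (.leaf 19494)) (.node (.leaf 13390) (.leaf 0))) (.node (.node (.leaf 17582) (.leaf 9733)) (.node (.leaf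 3527) (.leaf 0)))) (.node (.node (.node (.leaf 11727) (.leaf 14548)) (.node (.leaf 10928) (.leaf 0))) (.node (.node (.leaf 13477) (.leaf 0)) (.node (.leaf 2089) (.leaf 0))))) (.node (.node (.node (.node (.leaf 277) (.leaf 2378)) (.node (.leaf 8037) (.leaf 0))) (.node (.node (.leaf 20646) (.leaf 0)) (.node (.leaf 4137) (.leaf 0)))) (.node (.node (.node (.leaf 17306) (.leaf 16074)) (.node (.leaf 12019) (.leaf 0))) (.node (.node (.leaf 14946) (.leaf 0)) (.node (.leaf 5141) (.leaf 0))))))) (.node (.node (.node (.node (.node (.node (.leaf 5743) (.leaf 13272)) (.node (.leaf 10693) (.leaf 0))) (.node (.node (.leaf 13429) (.leaf 2995)) (.node (.leaf 17983) (.leaf 0)))) (.node (.node (.node (.leaf 17879) (.leaf 2223)) (.node (.leaf 14131) (.leaf 0))) (.node (.node (.leaf 12116) (.leaf 0)) (.node (.leaf 3767) (.leaf 0))))) (.node (.node (.node (.node (.leaf 9145) (.leaf 12682)) (.node (.leaf 21333) (.leaf 0))) (.node (.node (.leaf 2706) (.leaf 0)) (.node (.leaf 20218) (.leaf 0)))) (.node (.node (.node (.leaf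 17373) (.leaf 4150)) (.node (.leaf 20302) (.leaf 0))) (.node (.node (.leaf 17028) (.leaf 0)) (.node (.leaf 20401) (.leaf 0)))))) (.node (.node (.node (.node (.node (.leaf 7119) (.leaf 1649)) (.node (.leaf 15810) (.leaf 0))) (.node (.node (.leaf 5159) (.leaf 16837)) (.node (.leaf 16938) (.leaf 0)))) (.node (.node (.node (.leaf 19016) (.leaf 21059)) (.node (.leaf 98) (.leaf 0))) (.node (.node (.leaf 18094) (.leaf 0)) (.node (.leaf 537) (.leaf 0))))) (.node (.node (.node (.node (.leaf 10196) (.leaf 10845)) (.node (.leaf 9965) (.leaf 0))) (.node (.node (.leaf 8438) (.leaf 0)) (.node (.leaf 7331) (.leaf 0)))) (.node (.node (.node (.leaf 11069) (.leaf 18512)) (.node (.leaf 15885) (.leaf 0))) (.node (.node (.leaf 16900) (.leaf 0)) (.node (.leaf 10910) (.leaf 0)))))))) (.node (.node (.node (.node (.node (.node (.node (.leaf 12212) (.leaf 4289)) (.node (.leaf 7218) (.leaf 0))) (.node (.node (.leaf 20396) (.leaf 7792)) (.node (.leaf 17408) (.leaf 0)))) (.node (.node (.node (.leaf 18888) (.leaf 17835)) (.node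 (.leaf 13599) (.leaf 0))) (.node (.node (.leaf 8225) (.leaf 0)) (.node (.leaf 18547) (.leaf 0))))) (.node (.node (.node (.node (.leaf 5652) (.leaf 17506)) (.node (.leaf 19005) (.leaf 0))) (.node (.node (.leaf 16874) (.leaf 0)) (.node (.leaf 18038) (.leaf 0)))) (.node (.node (.node (.leaf 14083) (.leaf 11614)) (.node (.leaf 18250) (.leaf 0))) (.node (.node (.leaf 14003) (.leaf 0)) (.node (.leaf 12508) (.leaf 0)))))) (.node (.node (.node (.node (.node (.leaf 13172) (.leaf 8161)) (.node (.leaf 18086) (.leaf 0))) (.node (.node (.leaf 8736) (.leaf 15965)) (.node (.leaf 19797) (.leaf 0)))) (.node (.node (.node (.leaf 10953) (.leaf 1868)) (.node (.leaf 21305) (.leaf 0))) (.node (.node (.leaf 13368) (.leaf 0)) (.node (.leaf 17250) (.leaf 0))))) (.node (.node (.node (.node (.leaf 1162) (.leaf 3563)) (.node (.leaf 6739) (.leaf 0))) (.node (.node (.leaf 7389) (.leaf 0)) (.node (.leaf 17871) (.leaf 0)))) (.node (.node (.node (.leaf 14271) (.leaf 21360)) (.node (.leaf 19486) (.leaf 0))) (.node (.node (.leaf 6189)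 (.leaf 0)) (.node (.leaf 4264) (.leaf 0))))))) (.node (.node (.node (.node (.node (.node (.leaf 5361) (.leaf 14798)) (.node (.leaf 19526) (.leaf 0))) (.node (.node (.leaf 9451) (.leaf 215)) (.node (.leaf 5084) (.leaf 0)))) (.node (.node (.node (.leaf 2657) (.leaf 21000)) (.node (.leaf 18865) (.leaf 0))) (.node (.node (.leaf 7920) (.leaf 0)) (.node (.leaf 12861) (.leaf 0))))) (.node (.node (.node (.node (.leaf 11739) (.leaf 7720)) (.node (.leaf 14528) (.leaf 0))) (.node (.node (.leaf 14636) (.leaf 0)) (.node (.leaf 2115) (.leaf 0)))) (.node (.node (.node (.leaf 15908) (.leaf 5764)) (.node (.leaf 9933) (.leaf 0))) (.node (.node (.leaf 12174) (.leaf 0)) (.node (.leaf 5330) (.leaf 0)))))) (.node (.node (.node (.node (.node (.leaf 9904) (.leaf 13882)) (.node (.leaf 16507) (.leaf 0))) (.node (.node (.leaf 14987) (.leaf 19869)) (.node (.leaf 16327) (.leaf 0)))) (.node (.node (.node (.leaf 2179) (.leaf 19956)) (.node (.leaf 5950) (.leaf 0))) (.node (.node (.leaf 1530) (.leaf 0)) (.node (.leaf 6695) (.leaf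 0))))) (.node (.node (.node (.node (.leaf 9075) (.leaf 10993)) (.node (.leaf 3889) (.leaf 0))) (.node (.node (.leaf 6479) (.leaf 0)) (.node (.leaf 19680) (.leaf 0)))) (.node (.node (.node (.leaf 18474) (.leaf 13291)) (.node (.leaf 12461) (.leaf 0))) (.node (.node (.leaf 9707) (.leaf 0)) (.node (.leaf 16053) (.leaf 0)))))))))

/-- part of a table -/
def ordM13 : Trie := (.node (.node (.node (.node (.node (.node (.node (.node (.leaf 19700) (.leaf 4944)) (.node (.leaf 3709) (.leaf 0))) (.node (.node (.leaf 19391) (.leaf 4209)) (.node (.leaf 14829) (.leaf 0)))) (.node (.node (.node (.leaf 13322) (.leaf 7691)) (.node (.leaf 13603) (.leaf 0))) (.node (.node (.leaf 2687) (.leaf 0)) (.node (.leaf 10478) (.leaf 0))))) (.node (.node (.node (.node (.leaf 9203) (.leaf 274)) (.node (.leaf 9323) (.leaf 0))) (.node (.node (.leaf 18070) (.leaf 0)) (.node (.leaf 7025) (.leaf 0)))) (.node (.node (.node (.leaf 6614) (.leaf 19904)) (.node (.leaf 11775) (.leaf 0))) (.node (.node (.leaf 6946) (.leaf 0)) (.node (.leaf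 7516) (.leaf 0)))))) (.node (.node (.node (.node (.node (.leaf 9457) (.leaf 8449)) (.node (.leaf 4633) (.leaf 0))) (.node (.node (.leaf 10761) (.leaf 4684)) (.node (.leaf 204) (.leaf 0)))) (.node (.node (.node (.leaf 15886) (.leaf 9463)) (.node (.leaf 19110) (.leaf 0))) (.node (.node (.leaf 8838) (.leaf 0)) (.node (.leaf 6359) (.leaf 0))))) (.node (.node (.node (.node (.leaf 5442) (.leaf 10732)) (.node (.leaf 14091) (.leaf 0))) (.node (.node (.leaf 21268) (.leaf 0)) (.node (.leaf 11216) (.leaf 0)))) (.node (.node (.node (.leaf 1705) (.leaf 17935)) (.node (.leaf 6452) (.leaf 0))) (.node (.node (.leaf 17852) (.leaf 0)) (.node (.leaf 12343) (.leaf 0))))))) (.node (.node (.node (.node (.node (.node (.leaf 6744) (.leaf 9893)) (.node (.leaf 8483) (.leaf 0))) (.node (.node (.leaf 9721) (.leaf 780)) (.node (.leaf 19791) (.leaf 0)))) (.node (.node (.node (.leaf 2998) (.leaf 2669)) (.node (.leaf 10413) (.leaf 0))) (.node (.node (.leaf 4226) (.leaf 0)) (.node (.leaf 16097) (.leaf 0))))) (.node (.node (.node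 (.node (.leaf 18762) (.leaf 19994)) (.node (.leaf 17508) (.leaf 0))) (.node (.node (.leaf 127) (.leaf 0)) (.node (.leaf 2798) (.leaf 0)))) (.node (.node (.node (.leaf 10919) (.leaf 12533)) (.node (.leaf 8709) (.leaf 0))) (.node (.node (.leaf 12084) (.leaf 0)) (.node (.leaf 12693) (.leaf 0)))))) (.node (.node (.node (.node (.node (.leaf 4355) (.leaf 4982)) (.node (.leaf 13721) (.leaf 0))) (.node (.node (.leaf 18488) (.leaf 8317)) (.node (.leaf 12832) (.leaf 0)))) (.node (.node (.node (.leaf 2092) (.leaf 18396)) (.node (.leaf 2766) (.leaf 0))) (.node (.node (.leaf 1916) (.leaf 0)) (.node (.leaf 9083) (.leaf 0))))) (.node (.node (.node (.node (.leaf 4984) (.leaf 16568)) (.node (.leaf 7632) (.leaf 0))) (.node (.node (.leaf 642) (.leaf 0)) (.node (.leaf 13111) (.leaf 0)))) (.node (.node (.node (.leaf 9909) (.leaf 10193)) (.node (.leaf 11218) (.leaf 0))) (.node (.node (.leaf 14845) (.leaf 0)) (.node (.leaf 4998) (.leaf 0)))))))) (.node (.node (.node (.node (.node (.node (.node (.leaf 15900) (.leaf 11449))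 (.node (.leaf 9031) (.leaf 0))) (.node (.node (.leaf 19181) (.leaf 7987)) (.node (.leaf 15975) (.leaf 0)))) (.node (.node (.node (.leaf 13902) (.leaf 19760)) (.node (.leaf 10241) (.leaf 0))) (.node (.node (.leaf 21126) (.leaf 0)) (.node (.leaf 15074) (.leaf 0))))) (.node (.node (.node (.node (.leaf 7421) (.leaf 13128)) (.node (.leaf 11020) (.leaf 0))) (.node (.node (.leaf 16039) (.leaf 0)) (.node (.leaf 15263) (.leaf 0)))) (.node (.node (.node (.leaf 11128) (.leaf 19729)) (.node (.leaf 14281) (.leaf 0))) (.node (.node (.leaf 14524) (.leaf 0)) (.node (.leaf 13403) (.leaf 0)))))) (.node (.node (.node (.node (.node (.leaf 8173) (.leaf 10788)) (.node (.leaf 21354) (.leaf 0))) (.node (.node (.leaf 15848) (.leaf 19274)) (.node (.leaf 15271) (.leaf 0)))) (.node (.node (.node (.leaf 14657) (.leaf 18305)) (.node (.leaf 16459) (.leaf 0))) (.node (.node (.leaf 9917) (.leaf 0)) (.node (.leaf 12876) (.leaf 0))))) (.node (.node (.node (.node (.leaf 391) (.leaf 7902)) (.node (.leaf 15366) (.leaf 0))) (.node (.node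 (.leaf 17753) (.leaf 0)) (.node (.leaf 1962) (.leaf 0)))) (.node (.node (.node (.leaf 7874) (.leaf 21027)) (.node (.leaf 17110) (.leaf 0))) (.node (.node (.leaf 19918) (.leaf 0)) (.node (.leaf 10054) (.leaf 0))))))) (.node (.node (.node (.node (.node (.node (.leaf 8033) (.leaf 1744)) (.node (.leaf 18663) (.leaf 0))) (.node (.node (.leaf 17036) (.leaf 2911)) (.node (.leaf 9578) (.leaf 0)))) (.node (.node (.node (.leaf 8822) (.leaf 16541)) (.node (.leaf 21404) (.leaf 0))) (.node (.node (.leaf 2816) (.leaf 0)) (.node (.leaf 1408) (.leaf 0))))) (.node (.node (.node (.node (.leaf 18289) (.leaf 13068)) (.node (.leaf 21168) (.leaf 0))) (.node (.node (.leaf 17625) (.leaf 0)) (.node (.leaf 18997) (.leaf 0)))) (.node (.node (.node (.leaf 10705) (.leaf 13970)) (.node (.leaf 14591) (.leaf 0))) (.node (.node (.leaf 13344) (.leaf 0)) (.node (.leaf 303) (.leaf 0)))))) (.node (.node (.node (.node (.node (.leaf 3167) (.leaf 4672)) (.node (.leaf 10718) (.leaf 0))) (.node (.node (.leaf 16437) (.leaf 19704)) (.node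 (.leaf 10525) (.leaf 0)))) (.node (.node (.node (.leaf 6465) (.leaf 14676)) (.node (.leaf 1212) (.leaf 0))) (.node (.node (.leaf 6076) (.leaf 0)) (.node (.leaf 20056) (.leaf 0))))) (.node (.node (.node (.node (.leaf 11615) (.leaf 6850)) (.node (.leaf 1245) (.leaf 0))) (.node (.node (.leaf 1458) (.leaf 0)) (.node (.leaf 11302) (.leaf 0)))) (.node (.node (.node (.leaf 11432) (.leaf 19939)) (.node (.leaf 15673) (.leaf 0))) (.node (.node (.leaf 16247) (.leaf 0)) (.node (.leaf 10865) (.leaf 0)))))))))

/-- part of a table -/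
def ordM14 : Trie := (.node (.node (.node (.node (.node (.node (.node (.node (.leaf 19036) (.leaf 1058)) (.node (.leaf 12073) (.leaf 0))) (.node (.node (.leaf 6904) (.leaf 12161)) (.node (.leaf 21082) (.leaf 0)))) (.node (.node (.node (.leaf 16780) (.leaf 16011)) (.node (.leaf 15316) (.leaf 0))) (.node (.node (.leaf 1549) (.leaf 0)) (.node (.leaf 17712) (.leaf 0))))) (.node (.node (.node (.node (.leaf 9954) (.leaf 11964)) (.node (.leaf 15445) (.leaf 0))) (.node (.node (.leaf 2155) (.leaf 0)) (.node (.leaf 4058) (.leaf 0)))) (.node (.node (.node (.leaf 854) (.leaf 9256)) (.node (.leaf 15102) (.leaf 0))) (.node (.node (.leaf 18809) (.leaf 0)) (.node (.leaf 13523) (.leaf 0)))))) (.node (.node (.node (.node (.node (.leaf 13853) (.leaf 4411)) (.node (.leaf 3335) (.leaf 0))) (.node (.node (.leaf 3091) (.leaf 10135)) (.node (.leaf 19625) (.leaf 0)))) (.node (.node (.node (.leaf 10765) (.leaf 20456)) (.node (.leaf 10428) (.leaf 0))) (.node (.node (.leaf 7649) (.leaf 0)) (.node (.leaf 18715) (.leaf 0)))))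 (.node (.node (.node (.node (.leaf 7239) (.leaf 12739)) (.node (.leaf 14996) (.leaf 0))) (.node (.node (.leaf 464) (.leaf 0)) (.node (.leaf 8031) (.leaf 0)))) (.node (.node (.node (.leaf 7941) (.leaf 14097)) (.node (.leaf 17744) (.leaf 0))) (.node (.node (.leaf 9518) (.leaf 0)) (.node (.leaf 5162) (.leaf 0))))))) (.node (.node (.node (.node (.node (.node (.leaf 20629) (.leaf 18737)) (.node (.leaf 10537) (.leaf 0))) (.node (.node (.leaf 16948) (.leaf 13996)) (.node (.leaf 8340) (.leaf 0)))) (.node (.node (.node (.leaf 14165) (.leaf 19953)) (.node (.leaf 15863) (.leaf 0))) (.node (.node (.leaf 21367) (.leaf 0)) (.node (.leaf 5036) (.leaf 0))))) (.node (.node (.node (.node (.leaf 21219) (.leaf 964)) (.node (.leaf 19487) (.leaf 0))) (.node (.node (.leaf 16371) (.leaf 0)) (.node (.leaf 6563) (.leaf 0)))) (.node (.node (.node (.leaf 20290) (.leaf 7859)) (.node (.leaf 2281) (.leaf 0))) (.node (.node (.leaf 14542) (.leaf 0)) (.node (.leaf 13665) (.leaf 0)))))) (.node (.node (.node (.node (.node (.leaf 9604)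 (.leaf 19406)) (.node (.leaf 16765) (.leaf 0))) (.node (.node (.leaf 838) (.leaf 8510)) (.node (.leaf 17737) (.leaf 0)))) (.node (.node (.node (.leaf 2861) (.leaf 15587)) (.node (.leaf 19373) (.leaf 0))) (.node (.node (.leaf 5323) (.leaf 0)) (.node (.leaf 18954) (.leaf 0))))) (.node (.node (.node (.node (.leaf 20654) (.leaf 8661)) (.node (.leaf 2015) (.leaf 0))) (.node (.node (.leaf 18517) (.leaf 0)) (.node (.leaf 2134) (.leaf 0)))) (.node (.node (.node (.leaf 16708) (.leaf 2582)) (.node (.leaf 840) (.leaf 0))) (.node (.node (.leaf 2220) (.leaf 0)) (.node (.leaf 10012) (.leaf 0)))))))) (.node (.node (.node (.node (.node (.node (.node (.leaf 18749) (.leaf 13145)) (.node (.leaf 17292) (.leaf 0))) (.node (.node (.leaf 3576) (.leaf 13835)) (.node (.leaf 13555) (.leaf 0)))) (.node (.node (.node (.leaf 9311) (.leaf 20976)) (.node (.leaf 6629) (.leaf 0))) (.node (.node (.leaf 18077) (.leaf 0)) (.node (.leaf 14112) (.leaf 0))))) (.node (.node (.node (.node (.leaf 17707) (.leaf 20405)) (.node (.leaf 7374)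 (.leaf 0))) (.node (.node (.leaf 425) (.leaf 0)) (.node (.leaf 11435) (.leaf 0)))) (.node (.node (.node (.leaf 10252) (.leaf 14559)) (.node (.leaf 9126) (.leaf 0))) (.node (.node (.leaf 3101) (.leaf 0)) (.node (.leaf 19521) (.leaf 0)))))) (.node (.node (.node (.node (.node (.leaf 9329) (.leaf 1305)) (.node (.leaf 18099) (.leaf 0))) (.node (.node (.leaf 3159) (.leaf 17075)) (.node (.leaf 8094) (.leaf 0)))) (.node (.node (.node (.leaf 20937) (.leaf 11654)) (.node (.leaf 10731) (.leaf 0))) (.node (.node (.leaf 2330) (.leaf 0)) (.node (.leaf 5766) (.leaf 0))))) (.node (.node (.node (.node (.leaf 12146) (.leaf 5399)) (.node (.leaf 5468) (.leaf 0))) (.node (.node (.leaf 13826) (.leaf 0)) (.node (.leaf 135) (.leaf 0)))) (.node (.node (.node (.leaf 18649) (.leaf 1156)) (.node (.leaf 18239) (.leaf 0))) (.node (.node (.leaf 10828) (.leaf 0)) (.node (.leaf 5635) (.leaf 0))))))) (.node (.node (.node (.node (.node (.node (.leaf 18234) (.leaf 5535)) (.node (.leaf 19392) (.leaf 0))) (.node (.node (.leaf 5227) (.leaf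 12742)) (.node (.leaf 2362) (.leaf 0)))) (.node (.node (.node (.leaf 13247) (.leaf 13808)) (.node (.leaf 21335) (.leaf 0))) (.node (.node (.leaf 17968) (.leaf 0)) (.node (.leaf 7880) (.leaf 0))))) (.node (.node (.node (.node (.leaf 7824) (.leaf 5204)) (.node (.leaf 19177) (.leaf 0))) (.node (.node (.leaf 9438) (.leaf 0)) (.node (.leaf 728) (.leaf 0)))) (.node (.node (.node (.leaf 8289) (.leaf 14873)) (.node (.leaf 2661) (.leaf 0))) (.node (.node (.leaf 565) (.leaf 0)) (.node (.leaf 3812) (.leaf 0)))))) (.node (.node (.node (.node (.node (.leaf 4298) (.leaf 2719)) (.node (.leaf 9741) (.leaf 0))) (.node (.node (.leaf 12044) (.leaf 1891)) (.node (.leaf 2723) (.leaf 0)))) (.node (.node (.node (.leaf 18543) (.leaf 7786)) (.node (.leaf 18988) (.leaf 0))) (.node (.node (.leaf 19666) (.leaf 0)) (.node (.leaf 6684) (.leaf 0))))) (.node (.node (.node (.node (.leaf 20730) (.leaf 6286)) (.node (.leaf 9223) (.leaf 0))) (.node (.node (.leaf 12036) (.leaf 0)) (.node (.leaf 13501) (.leaf 0)))) (.node (.node (.node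 (.leaf 12198) (.leaf 887)) (.node (.leaf 349) (.leaf 0))) (.node (.node (.leaf 408) (.leaf 0)) (.node (.leaf 13876) (.leaf 0)))))))))

/-- part of a table -/
def ordM15 : Trie := (.node (.node (.node (.node (.node (.node (.node (.node (.leaf 17979) (.leaf 8712)) (.node (.leaf 20635) (.leaf 0))) (.node (.node (.leaf 21275) (.leaf 18655)) (.node (.leaf 16919) (.leaf 0)))) (.node (.node (.node (.leaf 15796) (.leaf 6239)) (.node (.leaf 15526) (.leaf 0))) (.node (.node (.leaf 4458) (.leaf 0)) (.node (.leaf 1823) (.leaf 0))))) (.node (.node (.node (.node (.leaf 4664) (.leaf 4957)) (.node (.leaf 3022) (.leaf 0))) (.node (.node (.leaf 6229) (.leaf 0)) (.node (.leaf 1638) (.leaf 0)))) (.node (.node (.node (.leaf 12225) (.leaf 3377)) (.node (.leaf 17005) (.leaf 0))) (.node (.node (.leaf 18062) (.leaf 0)) (.node (.leaf 5670) (.leaf 0)))))) (.node (.node (.node (.node (.node (.leaf 15981) (.leaf 5961)) (.node (.leaf 19552) (.leaf 0))) (.node (.node (.leaf 9540) (.leaf 3651)) (.node (.leaf 6394) (.leaf 0))))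 (.node (.node (.node (.leaf 17912) (.leaf 4391)) (.node (.leaf 11236) (.leaf 0))) (.node (.node (.leaf 6155) (.leaf 0)) (.node (.leaf 2484) (.leaf 0))))) (.node (.node (.node (.node (.leaf 12140) (.leaf 5114)) (.node (.leaf 7192) (.leaf 0))) (.node (.node (.leaf 1687) (.leaf 0)) (.node (.leaf 12157) (.leaf 0)))) (.node (.node (.node (.leaf 9325) (.leaf 2005)) (.node (.leaf 19707) (.leaf 0))) (.node (.node (.leaf 16714) (.leaf 0)) (.node (.leaf 16616) (.leaf 0))))))) (.node (.node (.node (.node (.node (.node (.leaf 9922) (.leaf 21302)) (.node (.leaf 6953) (.leaf 0))) (.node (.node (.leaf 8112) (.leaf 18567)) (.node (.leaf 17164) (.leaf 0)))) (.node (.node (.node (.leaf 20866) (.leaf 17850)) (.node (.leaf 6070) (.leaf 0))) (.node (.node (.leaf 17198) (.leaf 0)) (.node (.leaf 13228) (.leaf 0))))) (.node (.node (.node (.node (.leaf 5269) (.leaf 322)) (.node (.leaf 17073) (.leaf 0))) (.node (.node (.leaf 18676) (.leaf 0)) (.node (.leaf 21169) (.leaf 0)))) (.node (.node (.node (.leaf 12434) (.leaf 12814))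 (.node (.leaf 19325) (.leaf 0))) (.node (.node (.leaf 1472) (.leaf 0)) (.node (.leaf 1356) (.leaf 0)))))) (.node (.node (.node (.node (.node (.leaf 10234) (.leaf 5007)) (.node (.leaf 8845) (.leaf 0))) (.node (.node (.leaf 1895) (.leaf 6227)) (.node (.leaf 6512) (.leaf 0)))) (.node (.node (.node (.leaf 19247) (.leaf 21372)) (.node (.leaf 21210) (.leaf 0))) (.node (.node (.leaf 15196) (.leaf 0)) (.node (.leaf 18846) (.leaf 0))))) (.node (.node (.node (.node (.leaf 21314) (.leaf 8260)) (.node (.leaf 568) (.leaf 0))) (.node (.node (.leaf 5514) (.leaf 0)) (.node (.leaf 6319) (.leaf 0)))) (.node (.node (.node (.leaf 20770) (.leaf 8580)) (.node (.leaf 362) (.leaf 0))) (.node (.node (.leaf 16059) (.leaf 0)) (.node (.leaf 11362) (.leaf 0)))))))) (.node (.node (.node (.node (.node (.node (.node (.leaf 7975) (.leaf 14704)) (.node (.leaf 9023) (.leaf 0))) (.node (.node (.leaf 5932) (.leaf 7073)) (.node (.leaf 20898) (.leaf 0)))) (.node (.node (.node (.leaf 15083) (.leaf 19877)) (.node (.leaf 2775) (.leaf 0)))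 (.node (.node (.leaf 9759) (.leaf 0)) (.node (.leaf 15456) (.leaf 0))))) (.node (.node (.node (.node (.leaf 16206) (.leaf 16779)) (.node (.leaf 10450) (.leaf 0))) (.node (.node (.leaf 2148) (.leaf 0)) (.node (.leaf 19044) (.leaf 0)))) (.node (.node (.node (.leaf 19498) (.leaf 15081)) (.node (.leaf 10855) (.leaf 0))) (.node (.node (.leaf 8909) (.leaf 0)) (.node (.leaf 17351) (.leaf 0)))))) (.node (.node (.node (.node (.node (.leaf 18358) (.leaf 3924)) (.node (.leaf 16140) (.leaf 0))) (.node (.node (.leaf 150) (.leaf 15917)) (.node (.leaf 12282) (.leaf 0)))) (.node (.node (.node (.leaf 20347) (.leaf 6651)) (.node (.leaf 16307) (.leaf 0))) (.node (.node (.leaf 685) (.leaf 0)) (.node (.leaf 17012) (.leaf 0))))) (.node (.node (.node (.node (.leaf 5638) (.leaf 6915)) (.node (.leaf 16177) (.leaf 0))) (.node (.node (.leaf 17961) (.leaf 0)) (.node (.leaf 2929) (.leaf 0)))) (.node (.node (.node (.leaf 11749) (.leaf 2272)) (.node (.leaf 16126) (.leaf 0))) (.node (.node (.leaf 622) (.leaf 0)) (.node (.leaf 12143)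 (.leaf 0))))))) (.node (.node (.node (.node (.node (.node (.leaf 14154) (.leaf 4797)) (.node (.leaf 10651) (.leaf 0))) (.node (.node (.leaf 13277) (.leaf 5293)) (.node (.leaf 14369) (.leaf 0)))) (.node (.node (.node (.leaf 21393) (.leaf 20853)) (.node (.leaf 20243) (.leaf 0))) (.node (.node (.leaf 18047) (.leaf 0)) (.node (.leaf 20332) (.leaf 0))))) (.node (.node (.node (.node (.leaf 16120) (.leaf 8404)) (.node (.leaf 18447) (.leaf 0))) (.node (.node (.leaf 4799) (.leaf 0)) (.node (.leaf 2471) (.leaf 0)))) (.node (.node (.node (.leaf 3040) (.leaf 16604)) (.node (.leaf 195) (.leaf 0))) (.node (.node (.leaf 9027) (.leaf 0)) (.node (.leaf 4555) (.leaf 0)))))) (.node (.node (.node (.node (.node (.leaf 7004) (.leaf 9885)) (.node (.leaf 18683) (.leaf 0))) (.node (.node (.leaf 17644) (.leaf 16063)) (.node (.leaf 8050) (.leaf 0)))) (.node (.node (.node (.leaf 11437) (.leaf 6675)) (.node (.leaf 11814) (.leaf 0))) (.node (.node (.leaf 8976) (.leaf 0)) (.node (.leaf 9586) (.leaf 0))))) (.node (.node (.node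 (.node (.leaf 18310) (.leaf 2195)) (.node (.leaf 15236) (.leaf 0))) (.node (.node (.leaf 7813) (.leaf 0)) (.node (.leaf 9013) (.leaf 0)))) (.node (.node (.node (.leaf 10748) (.leaf 57)) (.node (.leaf 6269) (.leaf 0))) (.node (.node (.leaf 918) (.leaf 0)) (.node (.leaf 3736) (.leaf 0)))))))))

/-- part of a table -/
def ordM16 : Trie := (.node (.node (.node (.node (.node (.node (.node (.node (.leaf 18367) (.leaf 10026)) (.node (.leaf 18955) (.leaf 0))) (.node (.node (.leaf 983) (.leaf 581)) (.node (.leaf 3650) (.leaf 0)))) (.node (.node (.node (.leaf 16189) (.leaf 17528)) (.node (.leaf 3958) (.leaf 0))) (.node (.node (.leaf 18654) (.leaf 0)) (.node (.leaf 9685) (.leaf 0))))) (.node (.node (.node (.node (.leaf 10504) (.leaf 17656)) (.node (.leaf 15399) (.leaf 0))) (.node (.node (.leaf 19466) (.leaf 0)) (.node (.leaf 9735) (.leaf 0)))) (.node (.node (.node (.leaf 17228) (.leaf 2851)) (.node (.leaf 12948) (.leaf 0))) (.node (.node (.leaf 97) (.leaf 0)) (.node (.leaf 5408) (.leaf 0)))))) (.node (.node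 (.node (.node (.node (.leaf 10270) (.leaf 20414)) (.node (.leaf 8788) (.leaf 0))) (.node (.node (.leaf 1107) (.leaf 17061)) (.node (.leaf 15882) (.leaf 0)))) (.node (.node (.node (.leaf 19676) (.leaf 16211)) (.node (.leaf 19969) (.leaf 0))) (.node (.node (.leaf 1088) (.leaf 0)) (.node (.leaf 5849) (.leaf 0))))) (.node (.node (.node (.node (.leaf 10554) (.leaf 12395)) (.node (.leaf 7814) (.leaf 0))) (.node (.node (.leaf 20820) (.leaf 0)) (.node (.leaf 18452) (.leaf 0)))) (.node (.node (.node (.leaf 5794) (.leaf 12313)) (.node (.leaf 12363) (.leaf 0))) (.node (.node (.leaf 16607) (.leaf 0)) (.node (.leaf 2500) (.leaf 0))))))) (.node (.node (.node (.node (.node (.node (.leaf 3305) (.leaf 13308)) (.node (.leaf 2173) (.leaf 0))) (.node (.node (.leaf 18532) (.leaf 16208)) (.node (.leaf 18906) (.leaf 0)))) (.node (.node (.node (.leaf 16357) (.leaf 16567)) (.node (.leaf 15843) (.leaf 0))) (.node (.node (.leaf 7105) (.leaf 0)) (.node (.leaf 5130) (.leaf 0))))) (.node (.node (.node (.node (.leaf 18829) (.leaf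 1484)) (.node (.leaf 21205) (.leaf 0))) (.node (.node (.leaf 841) (.leaf 0)) (.node (.leaf 12182) (.leaf 0)))) (.node (.node (.node (.leaf 12800) (.leaf 3813)) (.node (.leaf 21005) (.leaf 0))) (.node (.node (.leaf 2133) (.leaf 0)) (.node (.leaf 16678) (.leaf 0)))))) (.node (.node (.node (.node (.node (.leaf 14265) (.leaf 14872)) (.node (.leaf 6577) (.leaf 0))) (.node (.node (.leaf 15207) (.leaf 11015)) (.node (.leaf 18971) (.leaf 0)))) (.node (.node (.node (.leaf 7326) (.leaf 596)) (.node (.leaf 18981) (.leaf 0))) (.node (.node (.leaf 10826) (.leaf 0)) (.node (.leaf 20561) (.leaf 0))))) (.node (.node (.node (.node (.leaf 10023) (.leaf 8252)) (.node (.leaf 20458) (.leaf 0))) (.node (.node (.leaf 5467) (.leaf 0)) (.node (.leaf 20158) (.leaf 0)))) (.node (.node (.node (.leaf 6963) (.leaf 14797)) (.node (.leaf 10522) (.leaf 0))) (.node (.node (.leaf 11933) (.leaf 0)) (.node (.leaf 4848) (.leaf 0)))))))) (.node (.node (.node (.node (.node (.node (.node (.leaf 8287) (.leaf 4484)) (.node (.leaf 11888) (.leaf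 0))) (.node (.node (.leaf 203) (.leaf 1508)) (.node (.leaf 7594) (.leaf 0)))) (.node (.node (.node (.leaf 15835) (.leaf 6886)) (.node (.leaf 16141) (.leaf 0))) (.node (.node (.leaf 9421) (.leaf 0)) (.node (.leaf 9892) (.leaf 0))))) (.node (.node (.node (.node (.leaf 1029) (.leaf 16636)) (.node (.leaf 15989) (.leaf 0))) (.node (.node (.leaf 11624) (.leaf 0)) (.node (.leaf 1704) (.leaf 0)))) (.node (.node (.node (.leaf 19767) (.leaf 15004)) (.node (.leaf 11143) (.leaf 0))) (.node (.node (.leaf 20493) (.leaf 0)) (.node (.leaf 13020) (.leaf 0)))))) (.node (.node (.node (.node (.node (.leaf 9220) (.leaf 2211)) (.node (.leaf 17457) (.leaf 0))) (.node (.node (.leaf 10483) (.leaf 2889)) (.node (.leaf 10992) (.leaf 0)))) (.node (.node (.node (.leaf 18711) (.leaf 13176)) (.node (.leaf 1701) (.leaf 0))) (.node (.node (.leaf 6564) (.leaf 0)) (.node (.leaf 7138) (.leaf 0))))) (.node (.node (.node (.node (.leaf 8083) (.leaf 20044)) (.node (.leaf 10767) (.leaf 0))) (.node (.node (.leaf 18275) (.leaf 0)) (.node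 (.leaf 17218) (.leaf 0)))) (.node (.node (.node (.leaf 10049) (.leaf 11057)) (.node (.leaf 20221) (.leaf 0))) (.node (.node (.leaf 12329) (.leaf 0)) (.node (.leaf 5994) (.leaf 0))))))) (.node (.node (.node (.node (.node (.node (.leaf 141) (.leaf 2226)) (.node (.leaf 8764) (.leaf 0))) (.node (.node (.leaf 7191) (.leaf 9055)) (.node (.leaf 16786) (.leaf 0)))) (.node (.node (.node (.leaf 12322) (.leaf 151)) (.node (.leaf 18306) (.leaf 0))) (.node (.node (.leaf 18531) (.leaf 0)) (.node (.leaf 10738) (.leaf 0))))) (.node (.node (.node (.node (.leaf 13864) (.leaf 16460)) (.node (.leaf 17232) (.leaf 0))) (.node (.node (.leaf 11031) (.leaf 0)) (.node (.leaf 6784) (.leaf 0)))) (.node (.node (.node (.leaf 14589) (.leaf 4825)) (.node (.leaf 1566) (.leaf 0))) (.node (.node (.leaf 15065) (.leaf 0)) (.node (.leaf 19828) (.leaf 0)))))) (.node (.node (.node (.node (.node (.leaf 10199) (.leaf 7399)) (.node (.leaf 9012) (.leaf 0))) (.node (.node (.leaf 4472) (.leaf 4504)) (.node (.leaf 3143) (.leaf 0)))) (.node (.node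 (.node (.leaf 2673) (.leaf 16308)) (.node (.leaf 16890) (.leaf 0))) (.node (.node (.leaf 13636) (.leaf 0)) (.node (.leaf 9022) (.leaf 0))))) (.node (.node (.node (.node (.leaf 21149) (.leaf 14634)) (.node (.leaf 14464) (.leaf 0))) (.node (.node (.leaf 11265) (.leaf 0)) (.node (.leaf 10467) (.leaf 0)))) (.node (.node (.node (.leaf 11887) (.leaf 4166)) (.node (.leaf 8831) (.leaf 0))) (.node (.node (.leaf 18366) (.leaf 0)) (.node (.leaf 7406) (.leaf 0)))))))))

/-- part of a table -/
def ordM17 : Trie := (.node (.node (.node (.node (.node (.node (.node (.node (.leaf 5833) (.leaf 16418)) (.node (.leaf 2068) (.leaf 0))) (.node (.node (.leaf 10477) (.leaf 8796)) (.node (.leaf 173) (.leaf 0)))) (.node (.node (.node (.leaf 20778) (.leaf 19085)) (.node (.leaf 10128) (.leaf 0))) (.node (.node (.leaf 3215) (.leaf 0)) (.node (.leaf 12554) (.leaf 0))))) (.node (.node (.node (.node (.leaf 9655) (.leaf 8284)) (.node (.leaf 12568) (.leaf 0))) (.node (.node (.leaf 6360) (.leaf 0)) (.node (.leaf 2326) (.leaf 0))))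 (.node (.node (.node (.leaf 12964) (.leaf 15344)) (.node (.leaf 16021) (.leaf 0))) (.node (.node (.leaf 2357) (.leaf 0)) (.node (.leaf 15713) (.leaf 0)))))) (.node (.node (.node (.node (.node (.leaf 15648) (.leaf 13596)) (.node (.leaf 6398) (.leaf 0))) (.node (.node (.leaf 302) (.leaf 2042)) (.node (.leaf 13766) (.leaf 0)))) (.node (.node (.node (.leaf 18280) (.leaf 9760)) (.node (.leaf 8039) (.leaf 0))) (.node (.node (.leaf 13363) (.leaf 0)) (.node (.leaf 7873) (.leaf 0))))) (.node (.node (.node (.node (.leaf 10753) (.leaf 996)) (.node (.leaf 6618) (.leaf 0))) (.node (.node (.leaf 13969) (.leaf 0)) (.node (.leaf 13900) (.leaf 0)))) (.node (.node (.node (.leaf 234) (.leaf 7754)) (.node (.leaf 20955) (.leaf 0))) (.node (.node (.leaf 14645) (.leaf 0)) (.node (.leaf 5990) (.leaf 0))))))) (.node (.node (.node (.node (.node (.node (.leaf 154) (.leaf 16542)) (.node (.leaf 6453) (.leaf 0))) (.node (.node (.leaf 14061) (.leaf 18874)) (.node (.leaf 10667) (.leaf 0)))) (.node (.node (.node (.leaf 5985) (.leaf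 16670)) (.node (.leaf 12559) (.leaf 0))) (.node (.node (.leaf 3182) (.leaf 0)) (.node (.leaf 3559) (.leaf 0))))) (.node (.node (.node (.node (.leaf 7502) (.leaf 1413)) (.node (.leaf 17762) (.leaf 0))) (.node (.node (.leaf 12319) (.leaf 0)) (.node (.leaf 13944) (.leaf 0)))) (.node (.node (.node (.leaf 5047) (.leaf 13060)) (.node (.leaf 5366) (.leaf 0))) (.node (.node (.leaf 14535) (.leaf 0)) (.node (.leaf 8509) (.leaf 0)))))) (.node (.node (.node (.node (.node (.leaf 10924) (.leaf 17269)) (.node (.leaf 368) (.leaf 0))) (.node (.node (.leaf 11585) (.leaf 8679)) (.node (.leaf 6406) (.leaf 0)))) (.node (.node (.node (.leaf 2371) (.leaf 7962)) (.node (.leaf 17648) (.leaf 0))) (.node (.node (.leaf 6351) (.leaf 0)) (.node (.leaf 6844) (.leaf 0))))) (.node (.node (.node (.node (.leaf 6489) (.leaf 16996)) (.node (.leaf 4492) (.leaf 0))) (.node (.node (.leaf 14614) (.leaf 0)) (.node (.leaf 12014) (.leaf 0)))) (.node (.node (.node (.leaf 11101) (.leaf 1743)) (.node (.leaf 8840) (.leaf 0))) (.node (.node (.leaf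 3748) (.leaf 0)) (.node (.leaf 14242) (.leaf 0)))))))) (.node (.node (.node (.node (.node (.node (.node (.leaf 17413) (.leaf 10037)) (.node (.leaf 1045) (.leaf 0))) (.node (.node (.leaf 3526) (.leaf 16579)) (.node (.leaf 4342) (.leaf 0)))) (.node (.node (.node (.leaf 3340) (.leaf 249)) (.node (.leaf 17261) (.leaf 0))) (.node (.node (.leaf 21200) (.leaf 0)) (.node (.leaf 13270) (.leaf 0))))) (.node (.node (.node (.node (.leaf 1205) (.leaf 9120)) (.node (.leaf 7185) (.leaf 0))) (.node (.node (.leaf 2452) (.leaf 0)) (.node (.leaf 17305) (.leaf 0)))) (.node (.node (.node (.leaf 20815) (.leaf 21040)) (.node (.leaf 7857) (.leaf 0))) (.node (.node (.leaf 15305) (.leaf 0)) (.node (.leaf 15161) (.leaf 0)))))) (.node (.node (.node (.node (.node (.leaf 13510) (.leaf 454)) (.node (.leaf 15325) (.leaf 0))) (.node (.node (.leaf 5627) (.leaf 136)) (.node (.leaf 10286) (.leaf 0)))) (.node (.node (.node (.leaf 2438) (.leaf 15189)) (.node (.leaf 4995) (.leaf 0))) (.node (.node (.leaf 13417) (.leaf 0)) (.node (.leaf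 16093) (.leaf 0))))) (.node (.node (.node (.node (.leaf 3892) (.leaf 15388)) (.node (.leaf 16978) (.leaf 0))) (.node (.node (.leaf 16114) (.leaf 0)) (.node (.leaf 8181) (.leaf 0)))) (.node (.node (.node (.leaf 19687) (.leaf 9401)) (.node (.leaf 20664) (.leaf 0))) (.node (.node (.leaf 18743) (.leaf 0)) (.node (.leaf 18581) (.leaf 0))))))) (.node (.node (.node (.node (.node (.node (.leaf 2650) (.leaf 6215)) (.node (.leaf 18538) (.leaf 0))) (.node (.node (.leaf 14995) (.leaf 5430)) (.node (.leaf 1473) (.leaf 0)))) (.node (.node (.node (.leaf 13962) (.leaf 2612)) (.node (.leaf 5938) (.leaf 0))) (.node (.node (.leaf 2368) (.leaf 0)) (.node (.leaf 4012) (.leaf 0))))) (.node (.node (.node (.node (.leaf 5852) (.leaf 15408)) (.node (.leaf 20874) (.leaf 0))) (.node (.node (.leaf 8642) (.leaf 0)) (.node (.leaf 8914) (.leaf 0)))) (.node (.node (.node (.leaf 20209) (.leaf 12442)) (.node (.leaf 16941) (.leaf 0))) (.node (.node (.leaf 8339) (.leaf 0)) (.node (.leaf 17125) (.leaf 0)))))) (.node (.node (.node (.node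 (.node (.leaf 20777) (.leaf 8737)) (.node (.leaf 15464) (.leaf 0))) (.node (.node (.leaf 5234) (.leaf 232)) (.node (.leaf 9642) (.leaf 0)))) (.node (.node (.node (.leaf 10959) (.leaf 8616)) (.node (.leaf 20550) (.leaf 0))) (.node (.node (.leaf 16649) (.leaf 0)) (.node (.leaf 5225) (.leaf 0))))) (.node (.node (.node (.node (.leaf 20260) (.leaf 20459)) (.node (.leaf 17200) (.leaf 0))) (.node (.node (.leaf 7335) (.leaf 0)) (.node (.leaf 11538) (.leaf 0)))) (.node (.node (.node (.leaf 7325) (.leaf 18827)) (.node (.leaf 10758) (.leaf 0))) (.node (.node (.leaf 19477) (.leaf 0)) (.node (.leaf 9212) (.leaf 0)))))))))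

/-- part of a table -/
def ordM18 : Trie := (.node (.node (.node (.node (.node (.node (.node (.node (.leaf 14295) (.leaf 9816)) (.node (.leaf 8355) (.leaf 0))) (.node (.node (.leaf 15363) (.leaf 2161)) (.node (.leaf 13387) (.leaf 0)))) (.node (.node (.node (.leaf 15522) (.leaf 5486)) (.node (.leaf 16876) (.leaf 0))) (.node (.node (.leaf 4208) (.leaf 0)) (.node (.leaf 5371) (.leaf 0))))) (.node (.node (.node (.node (.leaf 11005) (.leaf 21299)) (.node (.leaf 3294) (.leaf 0))) (.node (.node (.leaf 10966) (.leaf 0)) (.node (.leaf 18810) (.leaf 0)))) (.node (.node (.node (.leaf 5006) (.leaf 13320)) (.node (.leaf 14948) (.leaf 0))) (.node (.node (.leaf 3518) (.leaf 0)) (.node (.leaf 9832) (.leaf 0)))))) (.node (.node (.node (.node (.node (.leaf 4241) (.leaf 650)) (.node (.leaf 18387) (.leaf 0))) (.node (.node (.leaf 12658) (.leaf 2595)) (.node (.leaf 18423) (.leaf 0)))) (.node (.node (.node (.leaf 1250) (.leaf 5438)) (.node (.leaf 12727) (.leaf 0))) (.node (.node (.leaf 358) (.leaf 0)) (.node (.leaf 19214)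 (.leaf 0))))) (.node (.node (.node (.node (.leaf 18048) (.leaf 9971)) (.node (.leaf 10729) (.leaf 0))) (.node (.node (.leaf 12605) (.leaf 0)) (.node (.leaf 11613) (.leaf 0)))) (.node (.node (.node (.leaf 20762) (.leaf 12213)) (.node (.leaf 17964) (.leaf 0))) (.node (.node (.leaf 1867) (.leaf 0)) (.node (.leaf 12468) (.leaf 0))))))) (.node (.node (.node (.node (.node (.node (.leaf 2024) (.leaf 18051)) (.node (.leaf 6470) (.leaf 0))) (.node (.node (.leaf 12278) (.leaf 1311)) (.node (.leaf 5256) (.leaf 0)))) (.node (.node (.node (.leaf 12232) (.leaf 2010)) (.node (.leaf 17284) (.leaf 0))) (.node (.node (.leaf 3825) (.leaf 0)) (.node (.leaf 15223) (.leaf 0))))) (.node (.node (.node (.node (.leaf 20637) (.leaf 7606)) (.node (.leaf 16272) (.leaf 0))) (.node (.node (.leaf 16576) (.leaf 0)) (.node (.leaf 7009) (.leaf 0)))) (.node (.node (.node (.leaf 10059) (.leaf 19793)) (.node (.leaf 15888) (.leaf 0))) (.node (.node (.leaf 4004) (.leaf 0)) (.node (.leaf 10253) (.leaf 0)))))) (.node (.node (.node (.node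 (.node (.leaf 333) (.leaf 13649)) (.node (.leaf 17847) (.leaf 0))) (.node (.node (.leaf 15794) (.leaf 19672)) (.node (.leaf 2640) (.leaf 0)))) (.node (.node (.node (.leaf 14665) (.leaf 12481)) (.node (.leaf 3336) (.leaf 0))) (.node (.node (.leaf 4283) (.leaf 0)) (.node (.leaf 3566) (.leaf 0))))) (.node (.node (.node (.node (.leaf 13818) (.leaf 8097)) (.node (.leaf 12302) (.leaf 0))) (.node (.node (.leaf 9807) (.leaf 0)) (.node (.leaf 16052) (.leaf 0)))) (.node (.node (.node (.leaf 3205) (.leaf 5534)) (.node (.leaf 15812) (.leaf 0))) (.node (.node (.leaf 12989) (.leaf 0)) (.node (.leaf 7375) (.leaf 0)))))))) (.node (.node (.node (.node (.node (.node (.node (.leaf 3056) (.leaf 16590)) (.node (.leaf 3079) (.leaf 0))) (.node (.node (.leaf 4530) (.leaf 19919)) (.node (.leaf 3361) (.leaf 0)))) (.node (.node (.node (.leaf 15168) (.leaf 18641)) (.node (.leaf 16468) (.leaf 0))) (.node (.node (.leaf 11109) (.leaf 0)) (.node (.leaf 19638) (.leaf 0))))) (.node (.node (.node (.node (.leaf 14543) (.leaf 432))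 (.node (.leaf 21062) (.leaf 0))) (.node (.node (.leaf 12500) (.leaf 0)) (.node (.leaf 12078) (.leaf 0)))) (.node (.node (.node (.leaf 6061) (.leaf 6819)) (.node (.leaf 20255) (.leaf 0))) (.node (.node (.leaf 15272) (.leaf 0)) (.node (.leaf 11172) (.leaf 0)))))) (.node (.node (.node (.node (.node (.leaf 17738) (.leaf 10113)) (.node (.leaf 10445) (.leaf 0))) (.node (.node (.leaf 703) (.leaf 1963)) (.node (.leaf 7535) (.leaf 0)))) (.node (.node (.node (.leaf 20249) (.leaf 13938)) (.node (.leaf 6705) (.leaf 0))) (.node (.node (.leaf 12980) (.leaf 0)) (.node (.leaf 12160) (.leaf 0))))) (.node (.node (.node (.node (.leaf 6366) (.leaf 8335)) (.node (.leaf 18972) (.leaf 0))) (.node (.node (.leaf 2770) (.leaf 0)) (.node (.leaf 5179) (.leaf 0)))) (.node (.node (.node (.leaf 4873) (.leaf 1381)) (.node (.leaf 5105) (.leaf 0))) (.node (.node (.leaf 11839) (.leaf 0)) (.node (.leaf 5860) (.leaf 0))))))) (.node (.node (.node (.node (.node (.node (.leaf 18634) (.leaf 19856)) (.node (.leaf 12491) (.leaf 0))) (.node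 (.node (.leaf 7180) (.leaf 8399)) (.node (.leaf 5272) (.leaf 0)))) (.node (.node (.node (.leaf 10711) (.leaf 8557)) (.node (.leaf 21157) (.leaf 0))) (.node (.node (.leaf 18820) (.leaf 0)) (.node (.leaf 15953) (.leaf 0))))) (.node (.node (.node (.node (.leaf 2288) (.leaf 20669)) (.node (.leaf 21222) (.leaf 0))) (.node (.node (.leaf 18554) (.leaf 0)) (.node (.leaf 4083) (.leaf 0)))) (.node (.node (.node (.leaf 2545) (.leaf 16730)) (.node (.leaf 18695) (.leaf 0))) (.node (.node (.leaf 20711) (.leaf 0)) (.node (.leaf 1423) (.leaf 0)))))) (.node (.node (.node (.node (.node (.leaf 6193) (.leaf 9199)) (.node (.leaf 6544) (.leaf 0))) (.node (.node (.leaf 10368) (.leaf 15416)) (.node (.leaf 14436) (.leaf 0)))) (.node (.node (.node (.leaf 5021) (.leaf 546)) (.node (.leaf 4827) (.leaf 0))) (.node (.node (.leaf 6424) (.leaf 0)) (.node (.leaf 12089) (.leaf 0))))) (.node (.node (.node (.node (.leaf 17043) (.leaf 58)) (.node (.leaf 6716) (.leaf 0))) (.node (.node (.leaf 14280) (.leaf 0)) (.node (.leaf 14193) (.leaf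 0)))) (.node (.node (.node (.leaf 724) (.leaf 20201)) (.node (.leaf 19480) (.leaf 0))) (.node (.node (.leaf 10925) (.leaf 0)) (.node (.leaf 1969) (.leaf 0)))))))))

/-- part of a table -/
def ordM19 : Trie := (.node (.node (.node (.node (.node (.node (.node (.node (.leaf 5863) (.leaf 7443)) (.node (.leaf 15946) (.leaf 0))) (.node (.node (.leaf 6980) (.leaf 35)) (.node (.leaf 9732) (.leaf 0)))) (.node (.node (.node (.leaf 16913) (.leaf 301)) (.node (.leaf 6952) (.leaf 0))) (.node (.node (.leaf 1132) (.leaf 0)) (.node (.leaf 1688) (.leaf 0))))) (.node (.node (.node (.node (.leaf 19159) (.leaf 17815)) (.node (.leaf 963) (.leaf 0))) (.node (.node (.leaf 2485) (.leaf 0)) (.node (.leaf 19186) (.leaf 0)))) (.node (.node (.node (.leaf 13431) (.leaf 3508)) (.node (.leaf 13483) (.leaf 0))) (.node (.node (.leaf 12588) (.leaf 0)) (.node (.leaf 9355) (.leaf 0)))))) (.node (.node (.node (.node (.node (.leaf 3985) (.leaf 10316)) (.node (.leaf 3385) (.leaf 0))) (.node (.node (.leaf 4554) (.leaf 10388)) (.node (.leaf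 7150) (.leaf 0)))) (.node (.node (.node (.leaf 2761) (.leaf 14324)) (.node (.leaf 6864) (.leaf 0))) (.node (.node (.leaf 870) (.leaf 0)) (.node (.leaf 13138) (.leaf 0))))) (.node (.node (.node (.node (.leaf 9004) (.leaf 17825)) (.node (.leaf 5566) (.leaf 0))) (.node (.node (.leaf 17145) (.leaf 0)) (.node (.leaf 7300) (.leaf 0)))) (.node (.node (.node (.leaf 5767) (.leaf 16485)) (.node (.leaf 2701) (.leaf 0))) (.node (.node (.leaf 5634) (.leaf 0)) (.node (.leaf 20041) (.leaf 0))))))) (.node (.node (.node (.node (.node (.node (.leaf 17058) (.leaf 17360)) (.node (.leaf 11947) (.leaf 0))) (.node (.node (.leaf 832) (.leaf 9940)) (.node (.leaf 6935) (.leaf 0)))) (.node (.node (.node (.leaf 18555) (.leaf 2962)) (.node (.leaf 8887) (.leaf 0))) (.node (.node (.leaf 1171) (.leaf 0)) (.node (.leaf 9333) (.leaf 0))))) (.node (.node (.node (.node (.leaf 12080) (.leaf 3223)) (.node (.leaf 20025) (.leaf 0))) (.node (.node (.leaf 11219) (.leaf 0)) (.node (.leaf 8594) (.leaf 0)))) (.node (.node (.node (.leaf 7127)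 (.leaf 3302)) (.node (.leaf 9102) (.leaf 0))) (.node (.node (.leaf 2100) (.leaf 0)) (.node (.leaf 19499) (.leaf 0)))))) (.node (.node (.node (.node (.node (.leaf 7257) (.leaf 20680)) (.node (.leaf 9577) (.leaf 0))) (.node (.node (.leaf 6318) (.leaf 15566)) (.node (.leaf 7834) (.leaf 0)))) (.node (.node (.node (.leaf 14314) (.leaf 7635)) (.node (.leaf 3971) (.leaf 0))) (.node (.node (.leaf 6074) (.leaf 0)) (.node (.leaf 5282) (.leaf 0))))) (.node (.node (.node (.node (.leaf 18739) (.leaf 9792)) (.node (.leaf 18427) (.leaf 0))) (.node (.node (.leaf 738) (.leaf 0)) (.node (.leaf 9628) (.leaf 0)))) (.node (.node (.node (.leaf 7983) (.leaf 1762)) (.node (.leaf 20765) (.leaf 0))) (.node (.node (.leaf 9113) (.leaf 0)) (.node (.leaf 10451) (.leaf 0)))))))) (.node (.node (.node (.node (.node (.node (.node (.leaf 20377) (.leaf 8040)) (.node (.leaf 2116) (.leaf 0))) (.node (.node (.leaf 2482) (.leaf 4275)) (.node (.leaf 20764) (.leaf 0)))) (.node (.node (.node (.leaf 17539) (.leaf 10056)) (.node (.leaf 9415)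 (.leaf 0))) (.node (.node (.leaf 4215) (.leaf 0)) (.node (.leaf 5751) (.leaf 0))))) (.node (.node (.node (.node (.leaf 4785) (.leaf 412)) (.node (.leaf 10900) (.leaf 0))) (.node (.node (.leaf 6120) (.leaf 0)) (.node (.leaf 4626) (.leaf 0)))) (.node (.node (.node (.leaf 9651) (.leaf 18009)) (.node (.leaf 18329) (.leaf 0))) (.node (.node (.leaf 17910) (.leaf 0)) (.node (.leaf 16217) (.leaf 0)))))) (.node (.node (.node (.node (.node (.leaf 7475) (.leaf 8902)) (.node (.leaf 614) (.leaf 0))) (.node (.node (.leaf 2204) (.leaf 17872)) (.node (.leaf 12040) (.leaf 0)))) (.node (.node (.node (.leaf 21321) (.leaf 20454)) (.node (.leaf 11150) (.leaf 0))) (.node (.node (.leaf 6584) (.leaf 0)) (.node (.leaf 4598) (.leaf 0))))) (.node (.node (.node (.node (.leaf 11356) (.leaf 10299)) (.node (.leaf 9722) (.leaf 0))) (.node (.node (.leaf 5781) (.leaf 0)) (.node (.leaf 20229) (.leaf 0)))) (.node (.node (.node (.leaf 8320) (.leaf 14502)) (.node (.leaf 18109) (.leaf 0))) (.node (.node (.leaf 13470) (.leaf 0)) (.node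 (.leaf 14607) (.leaf 0))))))) (.node (.node (.node (.node (.node (.node (.leaf 5537) (.leaf 11537)) (.node (.leaf 1274) (.leaf 0))) (.node (.node (.leaf 17462) (.leaf 5381)) (.node (.leaf 14904) (.leaf 0)))) (.node (.node (.node (.leaf 3047) (.leaf 14649)) (.node (.leaf 21420) (.leaf 0))) (.node (.node (.leaf 19387) (.leaf 0)) (.node (.leaf 7030) (.leaf 0))))) (.node (.node (.node (.node (.leaf 19261) (.leaf 16453)) (.node (.leaf 14343) (.leaf 0))) (.node (.node (.leaf 5708) (.leaf 0)) (.node (.leaf 13476) (.leaf 0)))) (.node (.node (.node (.leaf 2665) (.leaf 7896)) (.node (.leaf 10580) (.leaf 0))) (.node (.node (.leaf 18952) (.leaf 0)) (.node (.leaf 3628) (.leaf 0)))))) (.node (.node (.node (.node (.node (.leaf 3689) (.leaf 3160)) (.node (.leaf 15104) (.leaf 0))) (.node (.node (.leaf 5896) (.leaf 20839)) (.node (.leaf 4301) (.leaf 0)))) (.node (.node (.node (.leaf 19954) (.leaf 3726)) (.node (.leaf 3102) (.leaf 0))) (.node (.node (.leaf 12786) (.leaf 0)) (.node (.leaf 17657) (.leaf 0))))) (.node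 (.node (.node (.node (.leaf 20083) (.leaf 888)) (.node (.leaf 12698) (.leaf 0))) (.node (.node (.leaf 6973) (.leaf 0)) (.node (.leaf 12175) (.leaf 0)))) (.node (.node (.node (.leaf 1185) (.leaf 18839)) (.node (.leaf 14635) (.leaf 0))) (.node (.node (.leaf 6950) (.leaf 0)) (.node (.leaf 14878) (.leaf 0)))))))))

/-- part of a table -/
def ordM20 : Trie := (.node (.node (.node (.node (.node (.node (.node (.node (.leaf 15557) (.leaf 17936)) (.node (.leaf 18986) (.leaf 0))) (.node (.node (.leaf 3453) (.leaf 20141)) (.node (.leaf 3546) (.leaf 0)))) (.node (.node (.node (.leaf 7798) (.leaf 12162)) (.node (.leaf 12509) (.leaf 0))) (.node (.node (.leaf 17179) (.leaf 0)) (.node (.leaf 20385) (.leaf 0))))) (.node (.node (.node (.node (.leaf 15952) (.leaf 163)) (.node (.leaf 366) (.leaf 0))) (.node (.node (.leaf 13140) (.leaf 0)) (.node (.leaf 7115) (.leaf 0)))) (.node (.node (.node (.leaf 4948) (.leaf 5044)) (.node (.leaf 6041) (.leaf 0))) (.node (.node (.leaf 19233) (.leaf 0)) (.node (.leaf 1123) (.leaf 0))))))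 (.node (.node (.node (.node (.node (.leaf 13372) (.leaf 16113)) (.node (.leaf 2638) (.leaf 0))) (.node (.node (.leaf 4169) (.leaf 9897)) (.node (.leaf 14611) (.leaf 0)))) (.node (.node (.node (.leaf 4763) (.leaf 7411)) (.node (.leaf 11300) (.leaf 0))) (.node (.node (.leaf 1754) (.leaf 0)) (.node (.leaf 19424) (.leaf 0))))) (.node (.node (.node (.node (.leaf 21454) (.leaf 3273)) (.node (.leaf 15051) (.leaf 0))) (.node (.node (.leaf 20353) (.leaf 0)) (.node (.leaf 14177) (.leaf 0)))) (.node (.node (.node (.leaf 17817) (.leaf 727)) (.node (.leaf 328) (.leaf 0))) (.node (.node (.leaf 7476) (.leaf 0)) (.node (.leaf 4800) (.leaf 0))))))) (.node (.node (.node (.node (.node (.node (.leaf 7288) (.leaf 4537)) (.node (.leaf 19449) (.leaf 0))) (.node (.node (.leaf 6916) (.leaf 3854)) (.node (.leaf 7320) (.leaf 0)))) (.node (.node (.node (.leaf 21463) (.leaf 10652)) (.node (.leaf 14853) (.leaf 0))) (.node (.node (.leaf 11984) (.leaf 0)) (.node (.leaf 11249) (.leaf 0))))) (.node (.node (.node (.node (.leaf 19076)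 (.leaf 20450)) (.node (.leaf 1343) (.leaf 0))) (.node (.node (.leaf 14757) (.leaf 0)) (.node (.leaf 21223) (.leaf 0)))) (.node (.node (.node (.leaf 17132) (.leaf 19229)) (.node (.leaf 9472) (.leaf 0))) (.node (.node (.leaf 12903) (.leaf 0)) (.node (.leaf 6254) (.leaf 0)))))) (.node (.node (.node (.node (.node (.leaf 3846) (.leaf 6079)) (.node (.leaf 9997) (.leaf 0))) (.node (.node (.leaf 10317) (.leaf 3008)) (.node (.leaf 8189) (.leaf 0)))) (.node (.node (.node (.leaf 9647) (.leaf 6222)) (.node (.leaf 2722) (.leaf 0))) (.node (.node (.leaf 3482) (.leaf 0)) (.node (.leaf 9613) (.leaf 0))))) (.node (.node (.node (.node (.leaf 10292) (.leaf 20761)) (.node (.leaf 6502) (.leaf 0))) (.node (.node (.leaf 15170) (.leaf 0)) (.node (.leaf 3888) (.leaf 0)))) (.node (.node (.node (.leaf 13153) (.leaf 10538)) (.node (.leaf 10178) (.leaf 0))) (.node (.node (.leaf 8321) (.leaf 0)) (.node (.leaf 904) (.leaf 0)))))))) (.node (.node (.node (.node (.node (.node (.node (.leaf 6272) (.leaf 8111)) (.node (.leaf 18656)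 (.leaf 0))) (.node (.node (.leaf 17773) (.leaf 8176)) (.node (.leaf 3995) (.leaf 0)))) (.node (.node (.node (.leaf 9809) (.leaf 16332)) (.node (.leaf 11472) (.leaf 0))) (.node (.node (.leaf 15169) (.leaf 0)) (.node (.leaf 14075) (.leaf 0))))) (.node (.node (.node (.node (.leaf 19030) (.leaf 1912)) (.node (.leaf 18011) (.leaf 0))) (.node (.node (.leaf 14669) (.leaf 0)) (.node (.leaf 17197) (.leaf 0)))) (.node (.node (.node (.leaf 15527) (.leaf 2497)) (.node (.leaf 4853) (.leaf 0))) (.node (.node (.leaf 19583) (.leaf 0)) (.node (.leaf 15247) (.leaf 0)))))) (.node (.node (.node (.node (.node (.leaf 5633) (.leaf 5289)) (.node (.leaf 15985) (.leaf 0))) (.node (.node (.leaf 5919) (.leaf 11060)) (.node (.leaf 2893) (.leaf 0)))) (.node (.node (.node (.leaf 7511) (.leaf 5559)) (.node (.leaf 16277) (.leaf 0))) (.node (.node (.leaf 11584) (.leaf 0)) (.node (.leaf 2198) (.leaf 0))))) (.node (.node (.node (.node (.leaf 6539) (.leaf 3782)) (.node (.leaf 12600) (.leaf 0))) (.node (.node (.leaf 12229) (.leaf 0))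 (.node (.leaf 13425) (.leaf 0)))) (.node (.node (.node (.leaf 3031) (.leaf 5094)) (.node (.leaf 15266) (.leaf 0))) (.node (.node (.leaf 18970) (.leaf 0)) (.node (.leaf 16709) (.leaf 0))))))) (.node (.node (.node (.node (.node (.node (.leaf 5809) (.leaf 18576)) (.node (.leaf 777) (.leaf 0))) (.node (.node (.leaf 12173) (.leaf 16689)) (.node (.leaf 4844) (.leaf 0)))) (.node (.node (.node (.leaf 16840) (.leaf 5324)) (.node (.leaf 14262) (.leaf 0))) (.node (.node (.leaf 12501) (.leaf 0)) (.node (.leaf 10104) (.leaf 0))))) (.node (.node (.node (.node (.leaf 3265) (.leaf 7624)) (.node (.leaf 1364) (.leaf 0))) (.node (.node (.leaf 1817) (.leaf 0)) (.node (.leaf 12433) (.leaf 0)))) (.node (.node (.node (.leaf 5304) (.leaf 7761)) (.node (.leaf 16713) (.leaf 0))) (.node (.node (.leaf 18024) (.leaf 0)) (.node (.leaf 5630) (.leaf 0)))))) (.node (.node (.node (.node (.node (.leaf 3333) (.leaf 9340)) (.node (.leaf 14627) (.leaf 0))) (.node (.node (.leaf 18878) (.leaf 267)) (.node (.leaf 13905) (.leaf 0)))) (.node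 (.node (.node (.leaf 10970) (.leaf 16181)) (.node (.leaf 19002) (.leaf 0))) (.node (.node (.leaf 18887) (.leaf 0)) (.node (.leaf 2273) (.leaf 0))))) (.node (.node (.node (.node (.leaf 12148) (.leaf 15719)) (.node (.leaf 13035) (.leaf 0))) (.node (.node (.leaf 9376) (.leaf 0)) (.node (.leaf 9821) (.leaf 0)))) (.node (.node (.node (.leaf 16851) (.leaf 8977)) (.node (.leaf 12773) (.leaf 0))) (.node (.node (.leaf 2508) (.leaf 0)) (.node (.leaf 11182) (.leaf 0)))))))))

/-- part of a table -/
def ordM21 : Trie := (.node (.node (.node (.node (.node (.node (.node (.node (.leaf 8030) (.leaf 15056)) (.node (.leaf 3301) (.leaf 0))) (.node (.node (.leaf 8969) (.leaf 3914)) (.node (.leaf 835) (.leaf 0)))) (.node (.node (.node (.leaf 13693) (.leaf 3118)) (.node (.leaf 19015) (.leaf 0))) (.node (.node (.leaf 10603) (.leaf 0)) (.node (.leaf 17040) (.leaf 0))))) (.node (.node (.node (.node (.leaf 7341) (.leaf 3085)) (.node (.leaf 6575) (.leaf 0))) (.node (.node (.leaf 20517) (.leaf 0)) (.node (.leaf 4423) (.leaf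 0)))) (.node (.node (.node (.leaf 10610) (.leaf 20480)) (.node (.leaf 378) (.leaf 0))) (.node (.node (.leaf 17151) (.leaf 0)) (.node (.leaf 12018) (.leaf 0)))))) (.node (.node (.node (.node (.node (.leaf 16506) (.leaf 10240)) (.node (.leaf 7776) (.leaf 0))) (.node (.node (.leaf 11524) (.leaf 13274)) (.node (.leaf 11371) (.leaf 0)))) (.node (.node (.node (.leaf 5703) (.leaf 14937)) (.node (.leaf 17795) (.leaf 0))) (.node (.node (.leaf 4981) (.leaf 0)) (.node (.leaf 18270) (.leaf 0))))) (.node (.node (.node (.node (.leaf 21355) (.leaf 6948)) (.node (.leaf 17768) (.leaf 0))) (.node (.node (.leaf 3043) (.leaf 0)) (.node (.leaf 11388) (.leaf 0)))) (.node (.node (.node (.leaf 8941) (.leaf 9804)) (.node (.leaf 987) (.leaf 0))) (.node (.node (.leaf 9098) (.leaf 0)) (.node (.leaf 8300) (.leaf 0))))))) (.node (.node (.node (.node (.node (.node (.leaf 21405) (.leaf 11948)) (.node (.leaf 5409) (.leaf 0))) (.node (.node (.leaf 12578) (.leaf 3330)) (.node (.leaf 11883) (.leaf 0)))) (.node (.node (.node (.leaf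 7212) (.leaf 17299)) (.node (.leaf 9171) (.leaf 0))) (.node (.node (.leaf 14779) (.leaf 0)) (.node (.leaf 3632) (.leaf 0))))) (.node (.node (.node (.node (.leaf 6827) (.leaf 7864)) (.node (.leaf 5035) (.leaf 0))) (.node (.node (.leaf 7525) (.leaf 0)) (.node (.leaf 10763) (.leaf 0)))) (.node (.node (.node (.leaf 13557) (.leaf 11718)) (.node (.leaf 16904) (.leaf 0))) (.node (.node (.leaf 915) (.leaf 0)) (.node (.leaf 527) (.leaf 0)))))) (.node (.node (.node (.node (.node (.leaf 18589) (.leaf 1533)) (.node (.leaf 21192) (.leaf 0))) (.node (.node (.leaf 651) (.leaf 17244)) (.node (.leaf 18448) (.leaf 0)))) (.node (.node (.node (.leaf 6124) (.leaf 3096)) (.node (.leaf 6532) (.leaf 0))) (.node (.node (.leaf 17734) (.leaf 0)) (.node (.leaf 16019) (.leaf 0))))) (.node (.node (.node (.node (.leaf 5755) (.leaf 4108)) (.node (.leaf 9579) (.leaf 0))) (.node (.node (.leaf 7038) (.leaf 0)) (.node (.leaf 1298) (.leaf 0)))) (.node (.node (.node (.leaf 11459) (.leaf 5806)) (.node (.leaf 16056) (.leaf 0))) (.node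 (.node (.leaf 16930) (.leaf 0)) (.node (.leaf 12953) (.leaf 0)))))))) (.node (.node (.node (.node (.node (.node (.node (.leaf 9747) (.leaf 2027)) (.node (.leaf 20634) (.leaf 0))) (.node (.node (.leaf 13005) (.leaf 1719)) (.node (.leaf 21152) (.leaf 0)))) (.node (.node (.node (.leaf 743) (.leaf 18141)) (.node (.leaf 20981) (.leaf 0))) (.node (.node (.leaf 17540) (.leaf 0)) (.node (.leaf 21018) (.leaf 0))))) (.node (.node (.node (.node (.leaf 19774) (.leaf 13237)) (.node (.leaf 9988) (.leaf 0))) (.node (.node (.leaf 7791) (.leaf 0)) (.node (.leaf 19074) (.leaf 0)))) (.node (.node (.node (.leaf 7830) (.leaf 479)) (.node (.leaf 10297) (.leaf 0))) (.node (.node (.leaf 11036) (.leaf 0)) (.node (.leaf 8254) (.leaf 0)))))) (.node (.node (.node (.node (.node (.leaf 1917) (.leaf 2238)) (.node (.leaf 20514) (.leaf 0))) (.node (.node (.leaf 12754) (.leaf 13675)) (.node (.leaf 3961) (.leaf 0)))) (.node (.node (.node (.leaf 14409) (.leaf 1429)) (.node (.leaf 14473) (.leaf 0))) (.node (.node (.leaf 15206) (.leaf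 0)) (.node (.leaf 3623) (.leaf 0))))) (.node (.node (.node (.node (.leaf 1698) (.leaf 7310)) (.node (.leaf 16954) (.leaf 0))) (.node (.node (.leaf 4687) (.leaf 0)) (.node (.leaf 17257) (.leaf 0)))) (.node (.node (.node (.leaf 12988) (.leaf 3824)) (.node (.leaf 8162) (.leaf 0))) (.node (.node (.leaf 13091) (.leaf 0)) (.node (.leaf 16640) (.leaf 0))))))) (.node (.node (.node (.node (.node (.node (.leaf 8487) (.leaf 21239)) (.node (.leaf 7884) (.leaf 0))) (.node (.node (.leaf 8713) (.leaf 7388)) (.node (.leaf 10302) (.leaf 0)))) (.node (.node (.node (.leaf 9226) (.leaf 15742)) (.node (.leaf 4362) (.leaf 0))) (.node (.node (.leaf 6121) (.leaf 0)) (.node (.leaf 8587) (.leaf 0))))) (.node (.node (.node (.node (.leaf 5416) (.leaf 468)) (.node (.leaf 3718) (.leaf 0))) (.node (.node (.leaf 17093) (.leaf 0)) (.node (.leaf 6616) (.leaf 0)))) (.node (.node (.node (.leaf 1046) (.leaf 10572)) (.node (.leaf 11447) (.leaf 0))) (.node (.node (.leaf 9136) (.leaf 0)) (.node (.leaf 7661) (.leaf 0)))))) (.node (.node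 (.node (.node (.node (.leaf 3856) (.leaf 14891)) (.node (.leaf 17875) (.leaf 0))) (.node (.node (.leaf 11382) (.leaf 4935)) (.node (.leaf 16150) (.leaf 0)))) (.node (.node (.node (.leaf 19153) (.leaf 15612)) (.node (.leaf 15834) (.leaf 0))) (.node (.node (.leaf 19675) (.leaf 0)) (.node (.leaf 12258) (.leaf 0))))) (.node (.node (.node (.node (.leaf 5373) (.leaf 14158)) (.node (.leaf 5102) (.leaf 0))) (.node (.node (.leaf 3281) (.leaf 0)) (.node (.leaf 14333) (.leaf 0)))) (.node (.node (.node (.leaf 14354) (.leaf 17186)) (.node (.leaf 19516) (.leaf 0))) (.node (.node (.leaf 7531) (.leaf 0)) (.node (.leaf 3352) (.leaf 0)))))))))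

/-- part of a table -/
def ordM22 : Trie := (.node (.node (.node (.node (.node (.node (.node (.node (.leaf 1410) (.leaf 8437)) (.node (.leaf 11210) (.leaf 0))) (.node (.node (.leaf 16879) (.leaf 4115)) (.node (.leaf 13639) (.leaf 0)))) (.node (.node (.node (.leaf 1614) (.leaf 21207)) (.node (.leaf 6655) (.leaf 0))) (.node (.node (.leaf 299) (.leaf 0)) (.node (.leaf 681) (.leaf 0))))) (.node (.node (.node (.node (.leaf 1160) (.leaf 2601)) (.node (.leaf 6130) (.leaf 0))) (.node (.node (.leaf 11653) (.leaf 0)) (.node (.leaf 15873) (.leaf 0)))) (.node (.node (.node (.leaf 9550) (.leaf 4587)) (.node (.leaf 10346) (.leaf 0))) (.node (.node (.leaf 5407) (.leaf 0)) (.node (.leaf 11816) (.leaf 0)))))) (.node (.node (.node (.node (.node (.leaf 13393) (.leaf 6628)) (.node (.leaf 9734) (.leaf 0))) (.node (.node (.leaf 16032) (.leaf 13191)) (.node (.leaf 16267) (.leaf 0)))) (.node (.node (.node (.leaf 16266) (.leaf 1621)) (.node (.leaf 8894) (.leaf 0))) (.node (.node (.leaf 19930) (.leaf 0)) (.node (.leaf 16478)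 (.leaf 0))))) (.node (.node (.node (.node (.leaf 20075) (.leaf 9450)) (.node (.leaf 7098) (.leaf 0))) (.node (.node (.leaf 5576) (.leaf 0)) (.node (.leaf 6277) (.leaf 0)))) (.node (.node (.node (.leaf 12643) (.leaf 2114)) (.node (.leaf 11228) (.leaf 0))) (.node (.node (.leaf 18226) (.leaf 0)) (.node (.leaf 2959) (.leaf 0))))))) (.node (.node (.node (.node (.node (.node (.leaf 6448) (.leaf 5644)) (.node (.leaf 9357) (.leaf 0))) (.node (.node (.leaf 20250) (.leaf 3575)) (.node (.leaf 16018) (.leaf 0)))) (.node (.node (.node (.leaf 12348) (.leaf 2053)) (.node (.leaf 4254) (.leaf 0))) (.node (.node (.leaf 14311) (.leaf 0)) (.node (.leaf 14515) (.leaf 0))))) (.node (.node (.node (.node (.leaf 2777) (.leaf 564)) (.node (.leaf 20703) (.leaf 0))) (.node (.node (.leaf 16934) (.leaf 0)) (.node (.leaf 13026) (.leaf 0)))) (.node (.node (.node (.leaf 15268) (.leaf 4421)) (.node (.leaf 979) (.leaf 0))) (.node (.node (.leaf 5345) (.leaf 0)) (.node (.leaf 12187) (.leaf 0)))))) (.node (.node (.node (.node (.node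 (.leaf 19342) (.leaf 6065)) (.node (.leaf 2571) (.leaf 0))) (.node (.node (.leaf 18159) (.leaf 16623)) (.node (.leaf 21266) (.leaf 0)))) (.node (.node (.node (.leaf 11970) (.leaf 19340)) (.node (.leaf 16326) (.leaf 0))) (.node (.node (.leaf 5079) (.leaf 0)) (.node (.leaf 11168) (.leaf 0))))) (.node (.node (.node (.node (.leaf 12126) (.leaf 12874)) (.node (.leaf 6687) (.leaf 0))) (.node (.node (.leaf 18180) (.leaf 0)) (.node (.leaf 6608) (.leaf 0)))) (.node (.node (.node (.leaf 1067) (.leaf 7950)) (.node (.leaf 10168) (.leaf 0))) (.node (.node (.leaf 4878) (.leaf 0)) (.node (.leaf 12382) (.leaf 0)))))))) (.node (.node (.node (.node (.node (.node (.node (.leaf 1221) (.leaf 13859)) (.node (.leaf 2544) (.leaf 0))) (.node (.node (.leaf 17777) (.leaf 11773)) (.node (.leaf 18201) (.leaf 0)))) (.node (.node (.node (.leaf 18035) (.leaf 9446)) (.node (.leaf 11482) (.leaf 0))) (.node (.node (.leaf 18966) (.leaf 0)) (.node (.leaf 15879) (.leaf 0))))) (.node (.node (.node (.node (.leaf 14729) (.leaf 21257)) (.node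 (.leaf 10588) (.leaf 0))) (.node (.node (.leaf 7072) (.leaf 0)) (.node (.leaf 1551) (.leaf 0)))) (.node (.node (.node (.leaf 6529) (.leaf 13748)) (.node (.leaf 1142) (.leaf 0))) (.node (.node (.leaf 11691) (.leaf 0)) (.node (.leaf 1079) (.leaf 0)))))) (.node (.node (.node (.node (.node (.leaf 6836) (.leaf 12762)) (.node (.leaf 20007) (.leaf 0))) (.node (.node (.leaf 21186) (.leaf 15747)) (.node (.leaf 20289) (.leaf 0)))) (.node (.node (.node (.leaf 4918) (.leaf 7366)) (.node (.leaf 7788) (.leaf 0))) (.node (.node (.leaf 21031) (.leaf 0)) (.node (.leaf 10594) (.leaf 0))))) (.node (.node (.node (.node (.leaf 21426) (.leaf 8315)) (.node (.leaf 19818) (.leaf 0))) (.node (.node (.leaf 17137) (.leaf 0)) (.node (.leaf 392) (.leaf 0)))) (.node (.node (.node (.leaf 17166) (.leaf 1951)) (.node (.leaf 3925) (.leaf 0))) (.node (.node (.leaf 923) (.leaf 0)) (.node (.leaf 4174) (.leaf 0))))))) (.node (.node (.node (.node (.node (.node (.leaf 10650) (.leaf 10471)) (.node (.leaf 3612) (.leaf 0))) (.node (.node (.leaf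 927) (.leaf 19265)) (.node (.leaf 21039) (.leaf 0)))) (.node (.node (.node (.leaf 2788) (.leaf 16907)) (.node (.leaf 396) (.leaf 0))) (.node (.node (.leaf 11625) (.leaf 0)) (.node (.leaf 19907) (.leaf 0))))) (.node (.node (.node (.node (.leaf 20253) (.leaf 589)) (.node (.leaf 5889) (.leaf 0))) (.node (.node (.leaf 16871) (.leaf 0)) (.node (.leaf 8332) (.leaf 0)))) (.node (.node (.node (.leaf 18575) (.leaf 8783)) (.node (.leaf 9014) (.leaf 0))) (.node (.node (.leaf 10013) (.leaf 0)) (.node (.leaf 7650) (.leaf 0)))))) (.node (.node (.node (.node (.node (.leaf 17992) (.leaf 6383)) (.node (.leaf 10887) (.leaf 0))) (.node (.node (.leaf 18471) (.leaf 11630)) (.node (.leaf 13129) (.leaf 0)))) (.node (.node (.node (.leaf 15147) (.leaf 13346)) (.node (.leaf 19010) (.leaf 0))) (.node (.node (.leaf 18033) (.leaf 0)) (.node (.leaf 12663) (.leaf 0))))) (.node (.node (.node (.node (.leaf 9147) (.leaf 1065)) (.node (.leaf 2750) (.leaf 0))) (.node (.node (.leaf 11450) (.leaf 0)) (.node (.leaf 21249) (.leaf 0))))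 (.node (.node (.node (.leaf 20073) (.leaf 3311)) (.node (.leaf 7911) (.leaf 0))) (.node (.node (.leaf 13780) (.leaf 0)) (.node (.leaf 16958) (.leaf 0)))))))))

/-- part of a table -/
def ordM23 : Trie := (.node (.node (.node (.node (.node (.node (.node (.node (.leaf 4136) (.leaf 145)) (.node (.leaf 13059) (.leaf 0))) (.node (.node (.leaf 7694) (.leaf 6230)) (.node (.leaf 15958) (.leaf 0)))) (.node (.node (.node (.leaf 14915) (.leaf 5593)) (.node (.leaf 17357) (.leaf 0))) (.node (.node (.leaf 4558) (.leaf 0)) (.node (.leaf 10714) (.leaf 0))))) (.node (.node (.node (.node (.leaf 9262) (.leaf 128)) (.node (.leaf 8803) (.leaf 0))) (.node (.node (.leaf 1011) (.leaf 0)) (.node (.leaf 10549) (.leaf 0)))) (.node (.node (.node (.leaf 6011) (.leaf 6334)) (.node (.leaf 2825) (.leaf 0))) (.node (.node (.leaf 12737) (.leaf 0)) (.node (.leaf 19966) (.leaf 0)))))) (.node (.node (.node (.node (.node (.leaf 4636) (.leaf 4023)) (.node (.leaf 13388) (.leaf 0))) (.node (.node (.leaf 15828) (.leaf 5316)) (.node (.leaf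 17024) (.leaf 0)))) (.node (.node (.node (.leaf 7558) (.leaf 17385)) (.node (.leaf 19465) (.leaf 0))) (.node (.node (.leaf 21364) (.leaf 0)) (.node (.leaf 20901) (.leaf 0))))) (.node (.node (.node (.node (.leaf 19184) (.leaf 6834)) (.node (.leaf 14817) (.leaf 0))) (.node (.node (.leaf 14564) (.leaf 0)) (.node (.leaf 10443) (.leaf 0)))) (.node (.node (.node (.leaf 8864) (.leaf 6434)) (.node (.leaf 3752) (.leaf 0))) (.node (.node (.leaf 12920) (.leaf 0)) (.node (.leaf 8514) (.leaf 0))))))) (.node (.node (.node (.node (.node (.node (.leaf 11164) (.leaf 1489)) (.node (.leaf 16540) (.leaf 0))) (.node (.node (.leaf 3564) (.leaf 8091)) (.node (.leaf 2280) (.leaf 0)))) (.node (.node (.node (.leaf 19831) (.leaf 7110)) (.node (.leaf 2920) (.leaf 0))) (.node (.node (.leaf 13764) (.leaf 0)) (.node (.leaf 20434) (.leaf 0))))) (.node (.node (.node (.node (.leaf 7568) (.leaf 9026)) (.node (.leaf 3766) (.leaf 0))) (.node (.node (.leaf 12168) (.leaf 0)) (.node (.leaf 4271) (.leaf 0)))) (.node (.node (.node (.leaf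 12995) (.leaf 8604)) (.node (.leaf 14453) (.leaf 0))) (.node (.node (.leaf 8639) (.leaf 0)) (.node (.leaf 6417) (.leaf 0)))))) (.node (.node (.node (.node (.node (.leaf 15517) (.leaf 8534)) (.node (.leaf 16962) (.leaf 0))) (.node (.node (.leaf 12981) (.leaf 11511)) (.node (.leaf 13350) (.leaf 0)))) (.node (.node (.node (.leaf 20729) (.leaf 8191)) (.node (.leaf 19640) (.leaf 0))) (.node (.node (.leaf 259) (.leaf 0)) (.node (.leaf 19842) (.leaf 0))))) (.node (.node (.node (.node (.leaf 4612) (.leaf 2423)) (.node (.leaf 17567) (.leaf 0))) (.node (.node (.leaf 16847) (.leaf 0)) (.node (.leaf 10022) (.leaf 0)))) (.node (.node (.node (.leaf 3154) (.leaf 16373)) (.node (.leaf 14727) (.leaf 0))) (.node (.node (.leaf 10050) (.leaf 0)) (.node (.leaf 8844) (.leaf 0)))))))) (.node (.node (.node (.node (.node (.node (.node (.leaf 239) (.leaf 16706)) (.node (.leaf 2664) (.leaf 0))) (.node (.node (.leaf 19801) (.leaf 15372)) (.node (.leaf 12796) (.leaf 0)))) (.node (.node (.node (.leaf 20896) (.leaf 15410)) (.node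 (.leaf 13782) (.leaf 0))) (.node (.node (.leaf 3341) (.leaf 0)) (.node (.leaf 7123) (.leaf 0))))) (.node (.node (.node (.node (.leaf 1147) (.leaf 5912)) (.node (.leaf 7276) (.leaf 0))) (.node (.node (.leaf 2367) (.leaf 0)) (.node (.leaf 11319) (.leaf 0)))) (.node (.node (.node (.leaf 7338) (.leaf 1200)) (.node (.leaf 3218) (.leaf 0))) (.node (.node (.leaf 18191) (.leaf 0)) (.node (.leaf 4382) (.leaf 0)))))) (.node (.node (.node (.node (.node (.leaf 15726) (.leaf 20421)) (.node (.leaf 9302) (.leaf 0))) (.node (.node (.leaf 17693) (.leaf 10646)) (.node (.leaf 15355) (.leaf 0)))) (.node (.node (.node (.leaf 9595) (.leaf 1630)) (.node (.leaf 663) (.leaf 0))) (.node (.node (.leaf 15793) (.leaf 0)) (.node (.leaf 4126) (.leaf 0))))) (.node (.node (.node (.node (.leaf 17397) (.leaf 4793)) (.node (.leaf 18360) (.leaf 0))) (.node (.node (.leaf 7486) (.leaf 0)) (.node (.leaf 6050) (.leaf 0)))) (.node (.node (.node (.leaf 11932) (.leaf 17869)) (.node (.leaf 1306) (.leaf 0))) (.node (.node (.leaf 3108) (.leaf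 0)) (.node (.leaf 9411) (.leaf 0))))))) (.node (.node (.node (.node (.node (.node (.leaf 7953) (.leaf 5656)) (.node (.leaf 17806) (.leaf 0))) (.node (.node (.leaf 12634) (.leaf 13825)) (.node (.leaf 19279) (.leaf 0)))) (.node (.node (.node (.leaf 8003) (.leaf 18268)) (.node (.leaf 1157) (.leaf 0))) (.node (.node (.leaf 13959) (.leaf 0)) (.node (.leaf 5951) (.leaf 0))))) (.node (.node (.node (.node (.leaf 3602) (.leaf 8799)) (.node (.leaf 11550) (.leaf 0))) (.node (.node (.leaf 8697) (.leaf 0)) (.node (.leaf 10735) (.leaf 0)))) (.node (.node (.node (.leaf 2117) (.leaf 19910)) (.node (.leaf 10123) (.leaf 0))) (.node (.node (.leaf 19351) (.leaf 0)) (.node (.leaf 602) (.leaf 0)))))) (.node (.node (.node (.node (.node (.leaf 12360) (.leaf 2331)) (.node (.leaf 13500) (.leaf 0))) (.node (.node (.leaf 20036) (.leaf 5600)) (.node (.leaf 5166) (.leaf 0)))) (.node (.node (.node (.leaf 8690) (.leaf 6903)) (.node (.leaf 7142) (.leaf 0))) (.node (.node (.leaf 10144) (.leaf 0)) (.node (.leaf 19277) (.leaf 0)))))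 (.node (.node (.node (.node (.leaf 20329) (.leaf 13358)) (.node (.leaf 9848) (.leaf 0))) (.node (.node (.leaf 13159) (.leaf 0)) (.node (.leaf 21448) (.leaf 0)))) (.node (.node (.node (.leaf 5140) (.leaf 2510)) (.node (.leaf 15226) (.leaf 0))) (.node (.node (.leaf 9853) (.leaf 0)) (.node (.leaf 21282) (.leaf 0)))))))))

/-- part of a table -/
def ordM24 : Trie := (.node (.node (.node (.node (.node (.node (.node (.node (.leaf 18565) (.leaf 4618)) (.node (.leaf 12711) (.leaf 0))) (.node (.node (.leaf 7751) (.leaf 11479)) (.node (.leaf 20408) (.leaf 0)))) (.node (.node (.node (.leaf 18076) (.leaf 11230)) (.node (.leaf 6999) (.leaf 0))) (.node (.node (.leaf 17172) (.leaf 0)) (.node (.leaf 7261) (.leaf 0))))) (.node (.node (.node (.node (.leaf 8538) (.leaf 19003)) (.node (.leaf 8496) (.leaf 0))) (.node (.node (.leaf 17967) (.leaf 0)) (.node (.leaf 4819) (.leaf 0)))) (.node (.node (.node (.leaf 12970) (.leaf 5194)) (.node (.leaf 13144) (.leaf 0))) (.node (.node (.leaf 12624) (.leaf 0)) (.node (.leaf 1894)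 (.leaf 0)))))) (.node (.node (.node (.node (.node (.leaf 16214) (.leaf 17023)) (.node (.leaf 18627) (.leaf 0))) (.node (.node (.leaf 5030) (.leaf 12818)) (.node (.leaf 13995) (.leaf 0)))) (.node (.node (.node (.leaf 11706) (.leaf 4489)) (.node (.leaf 1812) (.leaf 0))) (.node (.node (.leaf 15735) (.leaf 0)) (.node (.leaf 14895) (.leaf 0))))) (.node (.node (.node (.node (.leaf 8932) (.leaf 18610)) (.node (.leaf 17095) (.leaf 0))) (.node (.node (.leaf 2167) (.leaf 0)) (.node (.leaf 19804) (.leaf 0)))) (.node (.node (.node (.leaf 16058) (.leaf 13691)) (.node (.leaf 15162) (.leaf 0))) (.node (.node (.leaf 1989) (.leaf 0)) (.node (.leaf 6751) (.leaf 0))))))) (.node (.node (.node (.node (.node (.node (.leaf 6431) (.leaf 5201)) (.node (.leaf 12616) (.leaf 0))) (.node (.node (.leaf 16172) (.leaf 16597)) (.node (.leaf 288) (.leaf 0)))) (.node (.node (.node (.leaf 12495) (.leaf 16489)) (.node (.leaf 16023) (.leaf 0))) (.node (.node (.leaf 18671) (.leaf 0)) (.node (.leaf 19147) (.leaf 0))))) (.node (.node (.node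 (.node (.leaf 10904) (.leaf 9989)) (.node (.leaf 7044) (.leaf 0))) (.node (.node (.leaf 4601) (.leaf 0)) (.node (.leaf 3701) (.leaf 0)))) (.node (.node (.node (.leaf 13369) (.leaf 10745)) (.node (.leaf 1474) (.leaf 0))) (.node (.node (.leaf 2320) (.leaf 0)) (.node (.leaf 5598) (.leaf 0)))))) (.node (.node (.node (.node (.node (.leaf 8152) (.leaf 11293)) (.node (.leaf 6521) (.leaf 0))) (.node (.node (.leaf 20961) (.leaf 603)) (.node (.leaf 11245) (.leaf 0)))) (.node (.node (.node (.leaf 20746) (.leaf 11200)) (.node (.leaf 4565) (.leaf 0))) (.node (.node (.leaf 15333) (.leaf 0)) (.node (.leaf 10057) (.leaf 0))))) (.node (.node (.node (.node (.leaf 5110) (.leaf 16910)) (.node (.leaf 1084) (.leaf 0))) (.node (.node (.leaf 7740) (.leaf 0)) (.node (.leaf 13989) (.leaf 0)))) (.node (.node (.node (.leaf 11761) (.leaf 16314)) (.node (.leaf 8936) (.leaf 0))) (.node (.node (.leaf 14402) (.leaf 0)) (.node (.leaf 6283) (.leaf 0)))))))) (.node (.node (.node (.node (.node (.node (.node (.leaf 7299) (.leaf 17714))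 (.node (.leaf 10710) (.leaf 0))) (.node (.node (.leaf 10880) (.leaf 15483)) (.node (.leaf 5315) (.leaf 0)))) (.node (.node (.node (.leaf 9488) (.leaf 9916)) (.node (.leaf 185) (.leaf 0))) (.node (.node (.leaf 18938) (.leaf 0)) (.node (.leaf 67) (.leaf 0))))) (.node (.node (.node (.node (.leaf 2803) (.leaf 7018)) (.node (.leaf 14297) (.leaf 0))) (.node (.node (.leaf 16361) (.leaf 0)) (.node (.leaf 4131) (.leaf 0)))) (.node (.node (.node (.leaf 1532) (.leaf 16122)) (.node (.leaf 19538) (.leaf 0))) (.node (.node (.leaf 14159) (.leaf 0)) (.node (.leaf 16594) (.leaf 0)))))) (.node (.node (.node (.node (.node (.leaf 13229) (.leaf 8817)) (.node (.leaf 1965) (.leaf 0))) (.node (.node (.leaf 18445) (.leaf 18898)) (.node (.leaf 10341) (.leaf 0)))) (.node (.node (.node (.leaf 9679) (.leaf 12917)) (.node (.leaf 11181) (.leaf 0))) (.node (.node (.leaf 438) (.leaf 0)) (.node (.leaf 7591) (.leaf 0))))) (.node (.node (.node (.node (.leaf 8949) (.leaf 16306)) (.node (.leaf 3664) (.leaf 0))) (.node (.node (.leaf 16399)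 (.leaf 0)) (.node (.leaf 3781) (.leaf 0)))) (.node (.node (.node (.leaf 14054) (.leaf 19546)) (.node (.leaf 10154) (.leaf 0))) (.node (.node (.leaf 7365) (.leaf 0)) (.node (.leaf 11263) (.leaf 0))))))) (.node (.node (.node (.node (.node (.node (.leaf 9584) (.leaf 969)) (.node (.leaf 2626) (.leaf 0))) (.node (.node (.leaf 554) (.leaf 7454)) (.node (.leaf 4997) (.leaf 0)))) (.node (.node (.node (.leaf 15451) (.leaf 19582)) (.node (.leaf 5163) (.leaf 0))) (.node (.node (.leaf 17710) (.leaf 0)) (.node (.leaf 2872) (.leaf 0))))) (.node (.node (.node (.node (.leaf 7600) (.leaf 5683)) (.node (.leaf 19596) (.leaf 0))) (.node (.node (.leaf 16680) (.leaf 0)) (.node (.leaf 1382) (.leaf 0)))) (.node (.node (.node (.leaf 5614) (.leaf 6384)) (.node (.leaf 20244) (.leaf 0))) (.node (.node (.leaf 3053) (.leaf 0)) (.node (.leaf 5920) (.leaf 0)))))) (.node (.node (.node (.node (.node (.leaf 20305) (.leaf 15851)) (.node (.leaf 18129) (.leaf 0))) (.node (.node (.leaf 12090) (.leaf 10715)) (.node (.leaf 4828) (.leaf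 0)))) (.node (.node (.node (.leaf 7619) (.leaf 7174)) (.node (.leaf 3297) (.leaf 0))) (.node (.node (.leaf 13609) (.leaf 0)) (.node (.leaf 304) (.leaf 0))))) (.node (.node (.node (.node (.leaf 20766) (.leaf 19298)) (.node (.leaf 9521) (.leaf 0))) (.node (.node (.leaf 17010) (.leaf 0)) (.node (.leaf 3655) (.leaf 0)))) (.node (.node (.node (.leaf 18283) (.leaf 19609)) (.node (.leaf 10597) (.leaf 0))) (.node (.node (.leaf 2149) (.leaf 0)) (.node (.leaf 3128) (.leaf 0)))))))))

/-- part of a table -/
def ordM25 : Trie := (.node (.node (.node (.node (.node (.node (.node (.node (.leaf 19109) (.leaf 18856)) (.node (.leaf 10704) (.leaf 0))) (.node (.node (.leaf 17900) (.leaf 19779)) (.node (.leaf 9386) (.leaf 0)))) (.node (.node (.node (.leaf 8146) (.leaf 1222)) (.node (.leaf 2541) (.leaf 0))) (.node (.node (.leaf 16203) (.leaf 0)) (.node (.leaf 14963) (.leaf 0))))) (.node (.node (.node (.node (.leaf 19257) (.leaf 7029)) (.node (.leaf 20570) (.leaf 0))) (.node (.node (.leaf 15497) (.leaf 0)) (.node (.leaf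 1119) (.leaf 0)))) (.node (.node (.node (.leaf 3933) (.leaf 12941)) (.node (.leaf 9730) (.leaf 0))) (.node (.node (.leaf 15838) (.leaf 0)) (.node (.leaf 16867) (.leaf 0)))))) (.node (.node (.node (.node (.node (.leaf 17715) (.leaf 9087)) (.node (.leaf 17402) (.leaf 0))) (.node (.node (.leaf 21400) (.leaf 3232)) (.node (.leaf 10001) (.leaf 0)))) (.node (.node (.node (.leaf 4424) (.leaf 13735)) (.node (.leaf 1072) (.leaf 0))) (.node (.node (.leaf 1889) (.leaf 0)) (.node (.leaf 1169) (.leaf 0))))) (.node (.node (.node (.node (.leaf 3291) (.leaf 14730)) (.node (.leaf 10785) (.leaf 0))) (.node (.node (.leaf 13621) (.leaf 0)) (.node (.leaf 3057) (.leaf 0)))) (.node (.node (.node (.leaf 15423) (.leaf 12324)) (.node (.leaf 13021) (.leaf 0))) (.node (.node (.leaf 106) (.leaf 0)) (.node (.leaf 12262) (.leaf 0))))))) (.node (.node (.node (.node (.node (.node (.leaf 10121) (.leaf 2524)) (.node (.leaf 20278) (.leaf 0))) (.node (.node (.leaf 6554) (.leaf 13457)) (.node (.leaf 5453) (.leaf 0)))) (.node (.node (.node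 (.leaf 6632) (.leaf 16835)) (.node (.leaf 11470) (.leaf 0))) (.node (.node (.leaf 11750) (.leaf 0)) (.node (.leaf 11215) (.leaf 0))))) (.node (.node (.node (.node (.leaf 4112) (.leaf 18012)) (.node (.leaf 15694) (.leaf 0))) (.node (.node (.leaf 372) (.leaf 0)) (.node (.leaf 2578) (.leaf 0)))) (.node (.node (.node (.leaf 9918) (.leaf 8635)) (.node (.leaf 16770) (.leaf 0))) (.node (.node (.leaf 16824) (.leaf 0)) (.node (.leaf 10172) (.leaf 0)))))) (.node (.node (.node (.node (.node (.leaf 5367) (.leaf 8055)) (.node (.leaf 8434) (.leaf 0))) (.node (.node (.leaf 15663) (.leaf 789)) (.node (.leaf 12470) (.leaf 0)))) (.node (.node (.node (.leaf 20650) (.leaf 18261)) (.node (.leaf 3288) (.leaf 0))) (.node (.node (.leaf 19226) (.leaf 0)) (.node (.leaf 18642) (.leaf 0))))) (.node (.node (.node (.node (.leaf 7575) (.leaf 5325)) (.node (.leaf 13362) (.leaf 0))) (.node (.node (.leaf 510) (.leaf 0)) (.node (.leaf 5718) (.leaf 0)))) (.node (.node (.node (.leaf 20100) (.leaf 15702)) (.node (.leaf 4958) (.leaf 0)))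 (.node (.node (.leaf 13503) (.leaf 0)) (.node (.leaf 13732) (.leaf 0)))))))) (.node (.node (.node (.node (.node (.node (.node (.leaf 11864) (.leaf 8612)) (.node (.leaf 8458) (.leaf 0))) (.node (.node (.leaf 15714) (.leaf 1254)) (.node (.leaf 17281) (.leaf 0)))) (.node (.node (.node (.leaf 8134) (.leaf 13367)) (.node (.leaf 455) (.leaf 0))) (.node (.node (.leaf 17271) (.leaf 0)) (.node (.leaf 2307) (.leaf 0))))) (.node (.node (.node (.node (.leaf 8227) (.leaf 3886)) (.node (.leaf 1165) (.leaf 0))) (.node (.node (.leaf 8664) (.leaf 0)) (.node (.leaf 1096) (.leaf 0)))) (.node (.node (.node (.leaf 6078) (.leaf 5184)) (.node (.leaf 20526) (.leaf 0))) (.node (.node (.leaf 14831) (.leaf 0)) (.node (.leaf 9121) (.leaf 0)))))) (.node (.node (.node (.node (.node (.leaf 16209) (.leaf 5996)) (.node (.leaf 7378) (.leaf 0))) (.node (.node (.leaf 7660) (.leaf 11777)) (.node (.leaf 4292) (.leaf 0)))) (.node (.node (.node (.leaf 20519) (.leaf 19527)) (.node (.leaf 5039) (.leaf 0))) (.node (.node (.leaf 7693) (.leaf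 0)) (.node (.leaf 4339) (.leaf 0))))) (.node (.node (.node (.node (.leaf 18389) (.leaf 8412)) (.node (.leaf 6007) (.leaf 0))) (.node (.node (.leaf 7132) (.leaf 0)) (.node (.leaf 1199) (.leaf 0)))) (.node (.node (.node (.leaf 7973) (.leaf 13475)) (.node (.leaf 13353) (.leaf 0))) (.node (.node (.leaf 1629) (.leaf 0)) (.node (.leaf 11729) (.leaf 0))))))) (.node (.node (.node (.node (.node (.node (.leaf 8960) (.leaf 13776)) (.node (.leaf 7313) (.leaf 0))) (.node (.node (.leaf 6569) (.leaf 7265)) (.node (.leaf 10909) (.leaf 0)))) (.node (.node (.node (.leaf 5813) (.leaf 14869)) (.node (.leaf 12985) (.leaf 0))) (.node (.node (.leaf 17341) (.leaf 0)) (.node (.leaf 8359) (.leaf 0))))) (.node (.node (.node (.node (.leaf 4349) (.leaf 13949)) (.node (.leaf 4770) (.leaf 0))) (.node (.node (.leaf 8513) (.leaf 0)) (.node (.leaf 14503) (.leaf 0)))) (.node (.node (.node (.leaf 11454) (.leaf 2332)) (.node (.leaf 6900) (.leaf 0))) (.node (.node (.leaf 2014) (.leaf 0)) (.node (.leaf 13566) (.leaf 0)))))) (.node (.node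 (.node (.node (.node (.leaf 16667) (.leaf 19909)) (.node (.leaf 17653) (.leaf 0))) (.node (.node (.leaf 17222) (.leaf 19445)) (.node (.leaf 3103) (.leaf 0)))) (.node (.node (.node (.leaf 16659) (.leaf 18511)) (.node (.leaf 4300) (.leaf 0))) (.node (.node (.leaf 8656) (.leaf 0)) (.node (.leaf 5331) (.leaf 0))))) (.node (.node (.node (.node (.leaf 20672) (.leaf 10555)) (.node (.leaf 11539) (.leaf 0))) (.node (.node (.leaf 8137) (.leaf 0)) (.node (.leaf 1326) (.leaf 0)))) (.node (.node (.node (.leaf 9529) (.leaf 13212)) (.node (.leaf 9000) (.leaf 0))) (.node (.node (.leaf 426) (.leaf 0)) (.node (.leaf 8264) (.leaf 0)))))))))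

/-- part of a table -/
def ordM26 : Trie := (.node (.node (.node (.node (.node (.node (.node (.node (.leaf 18946) (.leaf 13804)) (.node (.leaf 5984) (.leaf 0))) (.node (.node (.leaf 4468) (.leaf 15730)) (.node (.leaf 18647) (.leaf 0)))) (.node (.node (.node (.leaf 7922) (.leaf 19105)) (.node (.leaf 12424) (.leaf 0))) (.node (.node (.leaf 13136) (.leaf 0)) (.node (.leaf 1062) (.leaf 0))))) (.node (.node (.node (.node (.leaf 122) (.leaf 9268)) (.node (.leaf 16320) (.leaf 0))) (.node (.node (.leaf 7919) (.leaf 0)) (.node (.leaf 1007) (.leaf 0)))) (.node (.node (.node (.leaf 5885) (.leaf 1425)) (.node (.leaf 17142) (.leaf 0))) (.node (.node (.leaf 6897) (.leaf 0)) (.node (.leaf 731) (.leaf 0)))))) (.node (.node (.node (.node (.node (.leaf 5446) (.leaf 17426)) (.node (.leaf 3947) (.leaf 0))) (.node (.node (.leaf 14826) (.leaf 19374)) (.node (.leaf 1151) (.leaf 0)))) (.node (.node (.node (.leaf 11047) (.leaf 1677)) (.node (.leaf 20478) (.leaf 0))) (.node (.node (.leaf 14099) (.leaf 0)) (.node (.leaf 1134)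 (.leaf 0))))) (.node (.node (.node (.node (.leaf 11742) (.leaf 8502)) (.node (.leaf 2377) (.leaf 0))) (.node (.node (.leaf 14800) (.leaf 0)) (.node (.leaf 20677) (.leaf 0)))) (.node (.node (.node (.leaf 14338) (.leaf 7035)) (.node (.leaf 17535) (.leaf 0))) (.node (.node (.leaf 19510) (.leaf 0)) (.node (.leaf 2074) (.leaf 0))))))) (.node (.node (.node (.node (.node (.node (.leaf 8351) (.leaf 19423)) (.node (.leaf 9066) (.leaf 0))) (.node (.node (.leaf 15131) (.leaf 11088)) (.node (.leaf 4780) (.leaf 0)))) (.node (.node (.node (.leaf 2069) (.leaf 19669)) (.node (.leaf 15927) (.leaf 0))) (.node (.node (.leaf 17203) (.leaf 0)) (.node (.leaf 15257) (.leaf 0))))) (.node (.node (.node (.node (.leaf 15216) (.leaf 7277)) (.node (.leaf 21015) (.leaf 0))) (.node (.node (.leaf 15128) (.leaf 0)) (.node (.leaf 13612) (.leaf 0)))) (.node (.node (.node (.leaf 10531) (.leaf 14332)) (.node (.leaf 14905) (.leaf 0))) (.node (.node (.leaf 10430) (.leaf 0)) (.node (.leaf 12052) (.leaf 0)))))) (.node (.node (.node (.node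 (.node (.leaf 13537) (.leaf 7339)) (.node (.leaf 7683) (.leaf 0))) (.node (.node (.leaf 18167) (.leaf 9559)) (.node (.leaf 19114) (.leaf 0)))) (.node (.node (.node (.leaf 7777) (.leaf 15075)) (.node (.leaf 17149) (.leaf 0))) (.node (.node (.leaf 6848) (.leaf 0)) (.node (.leaf 250) (.leaf 0))))) (.node (.node (.node (.node (.leaf 5156) (.leaf 16932)) (.node (.leaf 11915) (.leaf 0))) (.node (.node (.leaf 13714) (.leaf 0)) (.node (.leaf 2586) (.leaf 0)))) (.node (.node (.node (.leaf 11390) (.leaf 6355)) (.node (.leaf 1017) (.leaf 0))) (.node (.node (.leaf 19812) (.leaf 0)) (.node (.leaf 12033) (.leaf 0)))))))) (.node (.node (.node (.node (.node (.node (.node (.leaf 13899) (.leaf 1942)) (.node (.leaf 19679) (.leaf 0))) (.node (.node (.leaf 9234) (.leaf 20443)) (.node (.leaf 8084) (.leaf 0)))) (.node (.node (.node (.leaf 482) (.leaf 6843)) (.node (.leaf 6031) (.leaf 0))) (.node (.node (.leaf 3913) (.leaf 0)) (.node (.leaf 4406) (.leaf 0))))) (.node (.node (.node (.node (.leaf 9766) (.leaf 4906)) (.node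 (.leaf 7601) (.leaf 0))) (.node (.node (.leaf 13087) (.leaf 0)) (.node (.leaf 12768) (.leaf 0)))) (.node (.node (.node (.leaf 8533) (.leaf 13426)) (.node (.leaf 20771) (.leaf 0))) (.node (.node (.leaf 1505) (.leaf 0)) (.node (.leaf 11227) (.leaf 0)))))) (.node (.node (.node (.node (.node (.leaf 17598) (.leaf 14901)) (.node (.leaf 17347) (.leaf 0))) (.node (.node (.leaf 9555) (.leaf 19288)) (.node (.leaf 4369) (.leaf 0)))) (.node (.node (.node (.leaf 17602) (.leaf 18794)) (.node (.leaf 14685) (.leaf 0))) (.node (.node (.leaf 12532) (.leaf 0)) (.node (.leaf 18353) (.leaf 0))))) (.node (.node (.node (.node (.leaf 18782) (.leaf 15367)) (.node (.leaf 661) (.leaf 0))) (.node (.node (.leaf 5998) (.leaf 0)) (.node (.leaf 16344) (.leaf 0)))) (.node (.node (.node (.leaf 1877) (.leaf 16551)) (.node (.leaf 5819) (.leaf 0))) (.node (.node (.leaf 20092) (.leaf 0)) (.node (.leaf 8900) (.leaf 0))))))) (.node (.node (.node (.node (.node (.node (.leaf 208) (.leaf 3059)) (.node (.leaf 5783) (.leaf 0))) (.node (.node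 (.leaf 20613) (.leaf 19653)) (.node (.leaf 11096) (.leaf 0)))) (.node (.node (.node (.leaf 1998) (.leaf 2422)) (.node (.leaf 15418) (.leaf 0))) (.node (.node (.leaf 823) (.leaf 0)) (.node (.leaf 18730) (.leaf 0))))) (.node (.node (.node (.node (.leaf 387) (.leaf 14370)) (.node (.leaf 3376) (.leaf 0))) (.node (.node (.leaf 6527) (.leaf 0)) (.node (.leaf 3772) (.leaf 0)))) (.node (.node (.node (.leaf 16849) (.leaf 9341)) (.node (.leaf 909) (.leaf 0))) (.node (.node (.leaf 17254) (.leaf 0)) (.node (.leaf 19695) (.leaf 0)))))) (.node (.node (.node (.node (.node (.leaf 498) (.leaf 14742)) (.node (.leaf 14102) (.leaf 0))) (.node (.node (.leaf 974) (.leaf 7011)) (.node (.leaf 18836) (.leaf 0)))) (.node (.node (.node (.leaf 5857) (.leaf 19717)) (.node (.leaf 3142) (.leaf 0))) (.node (.node (.leaf 8719) (.leaf 0)) (.node (.leaf 6876) (.leaf 0))))) (.node (.node (.node (.node (.leaf 11943) (.leaf 17689)) (.node (.leaf 6970) (.leaf 0))) (.node (.node (.leaf 9530) (.leaf 0)) (.node (.leaf 8403) (.leaf 0))))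 (.node (.node (.node (.leaf 4032) (.leaf 10470)) (.node (.leaf 8772) (.leaf 0))) (.node (.node (.leaf 12422) (.leaf 0)) (.node (.leaf 10981) (.leaf 0)))))))))

/-- part of a table -/
def ordM27 : Trie := (.node (.node (.node (.node (.node (.node (.node (.node (.leaf 8095) (.leaf 13243)) (.node (.leaf 3039) (.leaf 0))) (.node (.node (.leaf 17882) (.leaf 19967)) (.node (.leaf 8077) (.leaf 0)))) (.node (.node (.node (.leaf 14072) (.leaf 6852)) (.node (.leaf 10107) (.leaf 0))) (.node (.node (.leaf 8174) (.leaf 0)) (.node (.leaf 13357) (.leaf 0))))) (.node (.node (.node (.node (.leaf 3367) (.leaf 20814)) (.node (.leaf 12441) (.leaf 0))) (.node (.node (.leaf 2815) (.leaf 0)) (.node (.leaf 13578) (.leaf 0)))) (.node (.node (.node (.leaf 13758) (.leaf 9688)) (.node (.leaf 19880) (.leaf 0))) (.node (.node (.leaf 1492) (.leaf 0)) (.node (.leaf 2111) (.leaf 0)))))) (.node (.node (.node (.node (.node (.leaf 1945) (.leaf 12537)) (.node (.leaf 2948) (.leaf 0))) (.node (.node (.leaf 19200) (.leaf 3996)) (.node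 (.leaf 779) (.leaf 0)))) (.node (.node (.node (.leaf 6005) (.leaf 6401)) (.node (.leaf 13156) (.leaf 0))) (.node (.node (.leaf 7997) (.leaf 0)) (.node (.leaf 384) (.leaf 0))))) (.node (.node (.node (.node (.leaf 19316) (.leaf 20924)) (.node (.leaf 767) (.leaf 0))) (.node (.node (.leaf 16897) (.leaf 0)) (.node (.leaf 14697) (.leaf 0)))) (.node (.node (.node (.leaf 15261) (.leaf 12377)) (.node (.leaf 15211) (.leaf 0))) (.node (.node (.leaf 14897) (.leaf 0)) (.node (.leaf 5547) (.leaf 0))))))) (.node (.node (.node (.node (.node (.node (.leaf 2425) (.leaf 20222)) (.node (.leaf 8566) (.leaf 0))) (.node (.node (.leaf 12250) (.leaf 5248)) (.node (.leaf 321) (.leaf 0)))) (.node (.node (.node (.leaf 95) (.leaf 19592)) (.node (.leaf 10352) (.leaf 0))) (.node (.node (.leaf 7875) (.leaf 0)) (.node (.leaf 11027) (.leaf 0))))) (.node (.node (.node (.node (.leaf 1797) (.leaf 10589)) (.node (.leaf 16036) (.leaf 0))) (.node (.node (.leaf 16045) (.leaf 0)) (.node (.leaf 15998) (.leaf 0)))) (.node (.node (.node (.leaf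 686) (.leaf 14659)) (.node (.leaf 7254) (.leaf 0))) (.node (.node (.leaf 12410) (.leaf 0)) (.node (.leaf 9978) (.leaf 0)))))) (.node (.node (.node (.node (.node (.leaf 20597) (.leaf 11310)) (.node (.leaf 3461) (.leaf 0))) (.node (.node (.leaf 9175) (.leaf 5631)) (.node (.leaf 15413) (.leaf 0)))) (.node (.node (.node (.leaf 1752) (.leaf 12120)) (.node (.leaf 15080) (.leaf 0))) (.node (.node (.leaf 11969) (.leaf 0)) (.node (.leaf 5008) (.leaf 0))))) (.node (.node (.node (.node (.leaf 20913) (.leaf 10905)) (.node (.leaf 866) (.leaf 0))) (.node (.node (.leaf 17757) (.leaf 0)) (.node (.leaf 1372) (.leaf 0)))) (.node (.node (.node (.leaf 19171) (.leaf 2459)) (.node (.leaf 11424) (.leaf 0))) (.node (.node (.leaf 20647) (.leaf 0)) (.node (.leaf 4736) (.leaf 0)))))))) (.node (.node (.node (.node (.node (.node (.node (.leaf 20822) (.leaf 5444)) (.node (.leaf 11345) (.leaf 0))) (.node (.node (.leaf 3402) (.leaf 9139)) (.node (.leaf 3893) (.leaf 0)))) (.node (.node (.node (.leaf 1275) (.leaf 19161)) (.node (.leaf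 14435) (.leaf 0))) (.node (.node (.leaf 20140) (.leaf 0)) (.node (.leaf 9709) (.leaf 0))))) (.node (.node (.node (.node (.leaf 18103) (.leaf 15088)) (.node (.leaf 563) (.leaf 0))) (.node (.node (.leaf 1735) (.leaf 0)) (.node (.leaf 10683) (.leaf 0)))) (.node (.node (.node (.leaf 2944) (.leaf 17258)) (.node (.leaf 5147) (.leaf 0))) (.node (.node (.leaf 16741) (.leaf 0)) (.node (.leaf 19635) (.leaf 0)))))) (.node (.node (.node (.node (.node (.leaf 8505) (.leaf 6290)) (.node (.leaf 12718) (.leaf 0))) (.node (.node (.leaf 6151) (.leaf 14033)) (.node (.leaf 14449) (.leaf 0)))) (.node (.node (.node (.leaf 6788) (.leaf 7439)) (.node (.leaf 14828) (.leaf 0))) (.node (.node (.leaf 14153) (.leaf 0)) (.node (.leaf 1869) (.leaf 0))))) (.node (.node (.node (.node (.leaf 15940) (.leaf 6740)) (.node (.leaf 1447) (.leaf 0))) (.node (.node (.leaf 1289) (.leaf 0)) (.node (.leaf 5063) (.leaf 0)))) (.node (.node (.node (.leaf 2184) (.leaf 16061)) (.node (.leaf 13809) (.leaf 0))) (.node (.node (.leaf 3842) (.leaf 0))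 (.node (.leaf 17376) (.leaf 0))))))) (.node (.node (.node (.node (.node (.node (.leaf 3530) (.leaf 9857)) (.node (.leaf 17538) (.leaf 0))) (.node (.node (.leaf 6141) (.leaf 21106)) (.node (.leaf 3539) (.leaf 0)))) (.node (.node (.node (.leaf 6994) (.leaf 12873)) (.node (.leaf 1524) (.leaf 0))) (.node (.node (.leaf 11834) (.leaf 0)) (.node (.leaf 7451) (.leaf 0))))) (.node (.node (.node (.node (.leaf 6047) (.leaf 2363)) (.node (.leaf 5129) (.leaf 0))) (.node (.node (.leaf 5478) (.leaf 0)) (.node (.leaf 1357) (.leaf 0)))) (.node (.node (.node (.leaf 6156) (.leaf 16760)) (.node (.leaf 9184) (.leaf 0))) (.node (.node (.leaf 3024) (.leaf 0)) (.node (.leaf 3007) (.leaf 0)))))) (.node (.node (.node (.node (.node (.leaf 8195) (.leaf 6683)) (.node (.leaf 16157) (.leaf 0))) (.node (.node (.leaf 10350) (.leaf 9570)) (.node (.leaf 20057) (.leaf 0)))) (.node (.node (.node (.leaf 1729) (.leaf 6292)) (.node (.leaf 9641) (.leaf 0))) (.node (.node (.leaf 6115) (.leaf 0)) (.node (.leaf 10672) (.leaf 0))))) (.node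 (.node (.node (.node (.leaf 5144) (.leaf 10820)) (.node (.leaf 12176) (.leaf 0))) (.node (.node (.leaf 6718) (.leaf 0)) (.node (.leaf 3759) (.leaf 0)))) (.node (.node (.node (.leaf 10948) (.leaf 5655)) (.node (.leaf 8869) (.leaf 0))) (.node (.node (.leaf 17475) (.leaf 0)) (.node (.leaf 17165) (.leaf 0)))))))))

/-- part of a table -/
def ordM28 : Trie := (.node (.node (.node (.node (.node (.node (.node (.node (.leaf 4106) (.leaf 18976)) (.node (.leaf 1224) (.leaf 0))) (.node (.node (.leaf 6765) (.leaf 16775)) (.node (.leaf 21135) (.leaf 0)))) (.node (.node (.node (.leaf 2599) (.leaf 13522)) (.node (.leaf 9547) (.leaf 0))) (.node (.node (.leaf 4255) (.leaf 0)) (.node (.leaf 2917) (.leaf 0))))) (.node (.node (.node (.node (.leaf 17255) (.leaf 19508)) (.node (.leaf 12525) (.leaf 0))) (.node (.node (.leaf 16349) (.leaf 0)) (.node (.leaf 11240) (.leaf 0)))) (.node (.node (.node (.leaf 14074) (.leaf 19236)) (.node (.leaf 14992) (.leaf 0))) (.node (.node (.leaf 7292) (.leaf 0)) (.node (.leaf 20563) (.leaf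 0)))))) (.node (.node (.node (.node (.node (.leaf 4156) (.leaf 19656)) (.node (.leaf 13486) (.leaf 0))) (.node (.node (.leaf 5570) (.leaf 17420)) (.node (.leaf 20111) (.leaf 0)))) (.node (.node (.node (.leaf 13681) (.leaf 15540)) (.node (.leaf 9814) (.leaf 0))) (.node (.node (.leaf 20795) (.leaf 0)) (.node (.leaf 7978) (.leaf 0))))) (.node (.node (.node (.node (.leaf 8501) (.leaf 11518)) (.node (.leaf 3391) (.leaf 0))) (.node (.node (.leaf 1993) (.leaf 0)) (.node (.leaf 240) (.leaf 0)))) (.node (.node (.node (.leaf 11696) (.leaf 18298)) (.node (.leaf 8255) (.leaf 0))) (.node (.node (.leaf 18869) (.leaf 0)) (.node (.leaf 4968) (.leaf 0))))))) (.node (.node (.node (.node (.node (.node (.leaf 20215) (.leaf 9068)) (.node (.leaf 20354) (.leaf 0))) (.node (.node (.leaf 6439) (.leaf 14203)) (.node (.leaf 13874) (.leaf 0)))) (.node (.node (.node (.leaf 17575) (.leaf 10376)) (.node (.leaf 296) (.leaf 0))) (.node (.node (.leaf 11900) (.leaf 0)) (.node (.leaf 19891) (.leaf 0))))) (.node (.node (.node (.node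 (.leaf 7280) (.leaf 7186)) (.node (.leaf 12353) (.leaf 0))) (.node (.node (.leaf 13133) (.leaf 0)) (.node (.leaf 15943) (.leaf 0)))) (.node (.node (.node (.leaf 1758) (.leaf 4001)) (.node (.leaf 10303) (.leaf 0))) (.node (.node (.leaf 19794) (.leaf 0)) (.node (.leaf 20257) (.leaf 0)))))) (.node (.node (.node (.node (.node (.leaf 9409) (.leaf 16797)) (.node (.leaf 14055) (.leaf 0))) (.node (.node (.leaf 1561) (.leaf 3629)) (.node (.leaf 4515) (.leaf 0)))) (.node (.node (.node (.leaf 3386) (.leaf 9400)) (.node (.leaf 14674) (.leaf 0))) (.node (.node (.leaf 6178) (.leaf 0)) (.node (.leaf 10612) (.leaf 0))))) (.node (.node (.node (.node (.leaf 14874) (.leaf 3414)) (.node (.leaf 14938) (.leaf 0))) (.node (.node (.leaf 15690) (.leaf 0)) (.node (.leaf 7508) (.leaf 0)))) (.node (.node (.node (.leaf 10869) (.leaf 18600)) (.node (.leaf 21181) (.leaf 0))) (.node (.node (.leaf 12025) (.leaf 0)) (.node (.leaf 20931) (.leaf 0)))))))) (.node (.node (.node (.node (.node (.node (.node (.leaf 15542) (.leaf 197)) (.node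 (.leaf 2787) (.leaf 0))) (.node (.node (.leaf 17059) (.leaf 3179)) (.node (.leaf 16564) (.leaf 0)))) (.node (.node (.node (.leaf 13917) (.leaf 18791)) (.node (.leaf 5290) (.leaf 0))) (.node (.node (.leaf 34) (.leaf 0)) (.node (.leaf 20747) (.leaf 0))))) (.node (.node (.node (.node (.leaf 16354) (.leaf 19266)) (.node (.leaf 1412) (.leaf 0))) (.node (.node (.leaf 5682) (.leaf 0)) (.node (.leaf 20713) (.leaf 0)))) (.node (.node (.node (.leaf 19099) (.leaf 7222)) (.node (.leaf 1388) (.leaf 0))) (.node (.node (.leaf 532) (.leaf 0)) (.node (.leaf 6511) (.leaf 0)))))) (.node (.node (.node (.node (.node (.leaf 15047) (.leaf 9034)) (.node (.leaf 15935) (.leaf 0))) (.node (.node (.leaf 746) (.leaf 16682)) (.node (.leaf 1643) (.leaf 0)))) (.node (.node (.node (.leaf 17491) (.leaf 20365)) (.node (.leaf 14212) (.leaf 0))) (.node (.node (.leaf 18706) (.leaf 0)) (.node (.leaf 18760) (.leaf 0))))) (.node (.node (.node (.node (.leaf 20444) (.leaf 17031)) (.node (.leaf 4993) (.leaf 0))) (.node (.node (.leaf 2122)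 (.leaf 0)) (.node (.leaf 3133) (.leaf 0)))) (.node (.node (.node (.leaf 18882) (.leaf 194)) (.node (.leaf 4070) (.leaf 0))) (.node (.node (.leaf 10224) (.leaf 0)) (.node (.leaf 2236) (.leaf 0))))))) (.node (.node (.node (.node (.node (.node (.leaf 18429) (.leaf 15967)) (.node (.leaf 6779) (.leaf 0))) (.node (.node (.leaf 14939) (.leaf 11298)) (.node (.leaf 12593) (.leaf 0)))) (.node (.node (.node (.leaf 12721) (.leaf 4896)) (.node (.leaf 271) (.leaf 0))) (.node (.node (.leaf 13088) (.leaf 0)) (.node (.leaf 2856) (.leaf 0))))) (.node (.node (.node (.node (.leaf 18631) (.leaf 3659)) (.node (.leaf 20433) (.leaf 0))) (.node (.node (.leaf 608) (.leaf 0)) (.node (.leaf 1952) (.leaf 0)))) (.node (.node (.node (.leaf 20792) (.leaf 8741)) (.node (.leaf 18118) (.leaf 0))) (.node (.node (.leaf 16285) (.leaf 0)) (.node (.leaf 10484) (.leaf 0)))))) (.node (.node (.node (.node (.node (.leaf 4261) (.leaf 16748)) (.node (.leaf 8523) (.leaf 0))) (.node (.node (.leaf 14731) (.leaf 12289)) (.node (.leaf 16081) (.leaf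 0)))) (.node (.node (.node (.leaf 20193) (.leaf 18698)) (.node (.leaf 19885) (.leaf 0))) (.node (.node (.leaf 11650) (.leaf 0)) (.node (.leaf 11714) (.leaf 0))))) (.node (.node (.node (.node (.leaf 14268) (.leaf 18257)) (.node (.leaf 9822) (.leaf 0))) (.node (.node (.leaf 8875) (.leaf 0)) (.node (.leaf 11942) (.leaf 0)))) (.node (.node (.node (.leaf 5625) (.leaf 6742)) (.node (.leaf 11153) (.leaf 0))) (.node (.node (.leaf 14446) (.leaf 0)) (.node (.leaf 14148) (.leaf 0)))))))))

/-- part of a table -/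
def ordM29 : Trie := (.node (.node (.node (.node (.node (.node (.node (.node (.leaf 12154) (.leaf 16105)) (.node (.leaf 12117) (.leaf 0))) (.node (.node (.leaf 7164) (.leaf 12575)) (.node (.leaf 10411) (.leaf 0)))) (.node (.node (.node (.leaf 10392) (.leaf 6183)) (.node (.leaf 14274) (.leaf 0))) (.node (.node (.leaf 17726) (.leaf 0)) (.node (.leaf 11575) (.leaf 0))))) (.node (.node (.node (.node (.leaf 10988) (.leaf 19992)) (.node (.leaf 6226) (.leaf 0))) (.node (.node (.leaf 5071) (.leaf 0)) (.node (.leaf 11736) (.leaf 0)))) (.node (.node (.node (.leaf 7925) (.leaf 2301)) (.node (.leaf 19670) (.leaf 0))) (.node (.node (.leaf 5214) (.leaf 0)) (.node (.leaf 12614) (.leaf 0)))))) (.node (.node (.node (.node (.node (.leaf 11055) (.leaf 11369)) (.node (.leaf 14843) (.leaf 0))) (.node (.node (.leaf 13543) (.leaf 3362)) (.node (.leaf 17478) (.leaf 0)))) (.node (.node (.node (.leaf 14133) (.leaf 15893)) (.node (.leaf 752) (.leaf 0))) (.node (.node (.leaf 18218) (.leaf 0)) (.node (.leaf 18751) (.leaf 0)))))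 (.node (.node (.node (.node (.leaf 15718) (.leaf 16627)) (.node (.leaf 20013) (.leaf 0))) (.node (.node (.leaf 6989) (.leaf 0)) (.node (.leaf 4759) (.leaf 0)))) (.node (.node (.node (.leaf 2108) (.leaf 19035)) (.node (.leaf 19899) (.leaf 0))) (.node (.node (.leaf 17599) (.leaf 0)) (.node (.leaf 12209) (.leaf 0))))))) (.node (.node (.node (.node (.node (.node (.leaf 12714) (.leaf 2353)) (.node (.leaf 17927) (.leaf 0))) (.node (.node (.leaf 18548) (.leaf 8105)) (.node (.leaf 16466) (.leaf 0)))) (.node (.node (.node (.leaf 16717) (.leaf 11414)) (.node (.leaf 5649) (.leaf 0))) (.node (.node (.leaf 17155) (.leaf 0)) (.node (.leaf 5890) (.leaf 0))))) (.node (.node (.node (.node (.leaf 8625) (.leaf 15990)) (.node (.leaf 1112) (.leaf 0))) (.node (.node (.leaf 20800) (.leaf 0)) (.node (.leaf 8204) (.leaf 0)))) (.node (.node (.node (.leaf 5197) (.leaf 8745)) (.node (.leaf 14898) (.leaf 0))) (.node (.node (.leaf 18043) (.leaf 0)) (.node (.leaf 10892) (.leaf 0)))))) (.node (.node (.node (.node (.node (.leaf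 21380) (.leaf 6485)) (.node (.leaf 8216) (.leaf 0))) (.node (.node (.leaf 439) (.leaf 1424)) (.node (.leaf 255) (.leaf 0)))) (.node (.node (.node (.leaf 13309) (.leaf 14258)) (.node (.leaf 16969) (.leaf 0))) (.node (.node (.leaf 13517) (.leaf 0)) (.node (.leaf 7554) (.leaf 0))))) (.node (.node (.node (.node (.leaf 6258) (.leaf 152)) (.node (.leaf 8307) (.leaf 0))) (.node (.node (.leaf 8297) (.leaf 0)) (.node (.leaf 14228) (.leaf 0)))) (.node (.node (.node (.leaf 21050) (.leaf 17213)) (.node (.leaf 15665) (.leaf 0))) (.node (.node (.leaf 6461) (.leaf 0)) (.node (.leaf 11427) (.leaf 0)))))))) (.node (.node (.node (.node (.node (.node (.node (.leaf 18595) (.leaf 3706)) (.node (.leaf 9568) (.leaf 0))) (.node (.node (.leaf 2034) (.leaf 3776)) (.node (.leaf 4725) (.leaf 0)))) (.node (.node (.node (.leaf 20681) (.leaf 10697)) (.node (.leaf 21390) (.leaf 0))) (.node (.node (.leaf 1276) (.leaf 0)) (.node (.leaf 12686) (.leaf 0))))) (.node (.node (.node (.node (.leaf 13268) (.leaf 17551)) (.node (.leaf 1483)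 (.leaf 0))) (.node (.node (.leaf 20008) (.leaf 0)) (.node (.leaf 3187) (.leaf 0)))) (.node (.node (.node (.leaf 17448) (.leaf 9838)) (.node (.leaf 310) (.leaf 0))) (.node (.node (.leaf 1441) (.leaf 0)) (.node (.leaf 327) (.leaf 0)))))) (.node (.node (.node (.node (.node (.leaf 11521) (.leaf 14016)) (.node (.leaf 19682) (.leaf 0))) (.node (.node (.leaf 1437) (.leaf 7663)) (.node (.leaf 1194) (.leaf 0)))) (.node (.node (.node (.leaf 15379) (.leaf 11304)) (.node (.leaf 9511) (.leaf 0))) (.node (.node (.leaf 2389) (.leaf 0)) (.node (.leaf 9142) (.leaf 0))))) (.node (.node (.node (.node (.leaf 12795) (.leaf 8182)) (.node (.leaf 12778) (.leaf 0))) (.node (.node (.leaf 6590) (.leaf 0)) (.node (.leaf 15584) (.leaf 0)))) (.node (.node (.node (.leaf 2086) (.leaf 3861)) (.node (.leaf 61) (.leaf 0))) (.node (.node (.leaf 4308) (.leaf 0)) (.node (.leaf 19345) (.leaf 0))))))) (.node (.node (.node (.node (.node (.node (.leaf 18602) (.leaf 20242)) (.node (.leaf 7350) (.leaf 0))) (.node (.node (.leaf 16228) (.leaf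 18133)) (.node (.leaf 12679) (.leaf 0)))) (.node (.node (.node (.leaf 7409) (.leaf 1517)) (.node (.leaf 4629) (.leaf 0))) (.node (.node (.leaf 7764) (.leaf 0)) (.node (.leaf 16493) (.leaf 0))))) (.node (.node (.node (.node (.leaf 9669) (.leaf 17674)) (.node (.leaf 3209) (.leaf 0))) (.node (.node (.leaf 2228) (.leaf 0)) (.node (.leaf 17870) (.leaf 0)))) (.node (.node (.node (.leaf 15678) (.leaf 3549)) (.node (.leaf 2445) (.leaf 0))) (.node (.node (.leaf 7049) (.leaf 0)) (.node (.leaf 21410) (.leaf 0)))))) (.node (.node (.node (.node (.node (.leaf 10261) (.leaf 4219)) (.node (.leaf 473) (.leaf 0))) (.node (.node (.leaf 16118) (.leaf 16385)) (.node (.leaf 7143) (.leaf 0)))) (.node (.node (.node (.leaf 2819) (.leaf 17627)) (.node (.leaf 5242) (.leaf 0))) (.node (.node (.leaf 1938) (.leaf 0)) (.node (.leaf 4497) (.leaf 0))))) (.node (.node (.node (.node (.leaf 18691) (.leaf 21369)) (.node (.leaf 14334) (.leaf 0))) (.node (.node (.leaf 13527) (.leaf 0)) (.node (.leaf 5101) (.leaf 0)))) (.node (.node (.node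 (.leaf 8921) (.leaf 12972)) (.node (.leaf 5617) (.leaf 0))) (.node (.node (.leaf 21217) (.leaf 0)) (.node (.leaf 18190) (.leaf 0)))))))))

/-- part of a table -/
def ordM30 : Trie := (.node (.node (.node (.node (.node (.node (.node (.node (.leaf 9131) (.leaf 19796)) (.node (.leaf 18689) (.leaf 0))) (.node (.node (.leaf 4027) (.leaf 19402)) (.node (.leaf 10844) (.leaf 0)))) (.node (.node (.node (.leaf 14207) (.leaf 3037)) (.node (.leaf 9502) (.leaf 0))) (.node (.node (.leaf 9864) (.leaf 0)) (.node (.leaf 6548) (.leaf 0))))) (.node (.node (.node (.node (.leaf 6108) (.leaf 3849)) (.node (.leaf 9156) (.leaf 0))) (.node (.node (.leaf 10136) (.leaf 0)) (.node (.leaf 19112) (.leaf 0)))) (.node (.node (.node (.leaf 16563) (.leaf 9010)) (.node (.leaf 1279) (.leaf 0))) (.node (.node (.leaf 13886) (.leaf 0)) (.node (.leaf 8565) (.leaf 0)))))) (.node (.node (.node (.node (.node (.leaf 6535) (.leaf 12582)) (.node (.leaf 847) (.leaf 0))) (.node (.node (.leaf 19276) (.leaf 4343)) (.node (.leaf 7057) (.leaf 0))))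 (.node (.node (.node (.leaf 6072) (.leaf 14598)) (.node (.leaf 5763) (.leaf 0))) (.node (.node (.leaf 2468) (.leaf 0)) (.node (.leaf 4559) (.leaf 0))))) (.node (.node (.node (.node (.leaf 12777) (.leaf 14490)) (.node (.leaf 3408) (.leaf 0))) (.node (.node (.leaf 2048) (.leaf 0)) (.node (.leaf 20782) (.leaf 0)))) (.node (.node (.node (.leaf 6867) (.leaf 15402)) (.node (.leaf 4383) (.leaf 0))) (.node (.node (.leaf 16210) (.leaf 0)) (.node (.leaf 21035) (.leaf 0))))))) (.node (.node (.node (.node (.node (.node (.leaf 5394) (.leaf 2265)) (.node (.leaf 5199) (.leaf 0))) (.node (.node (.leaf 11434) (.leaf 12834)) (.node (.leaf 19683) (.leaf 0)))) (.node (.node (.node (.leaf 17429) (.leaf 3347)) (.node (.leaf 16255) (.leaf 0))) (.node (.node (.leaf 14633) (.leaf 0)) (.node (.leaf 3936) (.leaf 0))))) (.node (.node (.node (.node (.leaf 1767) (.leaf 10542)) (.node (.leaf 79) (.leaf 0))) (.node (.node (.leaf 6411) (.leaf 0)) (.node (.leaf 20829) (.leaf 0)))) (.node (.node (.node (.leaf 12237) (.leaf 11528))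 (.node (.leaf 10363) (.leaf 0))) (.node (.node (.leaf 5900) (.leaf 0)) (.node (.leaf 18492) (.leaf 0)))))) (.node (.node (.node (.node (.node (.leaf 445) (.leaf 9652)) (.node (.leaf 9751) (.leaf 0))) (.node (.node (.leaf 6020) (.leaf 7842)) (.node (.leaf 3478) (.leaf 0)))) (.node (.node (.node (.leaf 1641) (.leaf 3787)) (.node (.leaf 18793) (.leaf 0))) (.node (.node (.leaf 18056) (.leaf 0)) (.node (.leaf 13762) (.leaf 0))))) (.node (.node (.node (.node (.leaf 5719) (.leaf 9455)) (.node (.leaf 17473) (.leaf 0))) (.node (.node (.leaf 13928) (.leaf 0)) (.node (.leaf 11965) (.leaf 0)))) (.node (.node (.node (.leaf 11846) (.leaf 4229)) (.node (.leaf 17302) (.leaf 0))) (.node (.node (.leaf 6828) (.leaf 0)) (.node (.leaf 2829) (.leaf 0)))))))) (.node (.node (.node (.node (.node (.node (.node (.leaf 11387) (.leaf 3837)) (.node (.leaf 20666) (.leaf 0))) (.node (.node (.leaf 1835) (.leaf 15336)) (.node (.leaf 2041) (.leaf 0)))) (.node (.node (.node (.leaf 7743) (.leaf 16030)) (.node (.leaf 1605) (.leaf 0)))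 (.node (.node (.leaf 18848) (.leaf 0)) (.node (.leaf 6658) (.leaf 0))))) (.node (.node (.node (.node (.leaf 1696) (.leaf 16103)) (.node (.leaf 18179) (.leaf 0))) (.node (.node (.leaf 14571) (.leaf 0)) (.node (.leaf 5926) (.leaf 0)))) (.node (.node (.node (.leaf 11238) (.leaf 15600)) (.node (.leaf 2865) (.leaf 0))) (.node (.node (.leaf 9801) (.leaf 0)) (.node (.leaf 12831) (.leaf 0)))))) (.node (.node (.node (.node (.node (.leaf 105) (.leaf 9412)) (.node (.leaf 3912) (.leaf 0))) (.node (.node (.leaf 11793) (.leaf 16860)) (.node (.leaf 4546) (.leaf 0)))) (.node (.node (.node (.leaf 1780) (.leaf 16145)) (.node (.leaf 10334) (.leaf 0))) (.node (.node (.leaf 1810) (.leaf 0)) (.node (.leaf 2554) (.leaf 0))))) (.node (.node (.node (.node (.leaf 7958) (.leaf 19366)) (.node (.leaf 5123) (.leaf 0))) (.node (.node (.leaf 7108) (.leaf 0)) (.node (.leaf 15003) (.leaf 0)))) (.node (.node (.node (.leaf 19018) (.leaf 12432)) (.node (.leaf 13586) (.leaf 0))) (.node (.node (.leaf 9589) (.leaf 0)) (.node (.leaf 5825)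 (.leaf 0))))))) (.node (.node (.node (.node (.node (.node (.leaf 20342) (.leaf 6307)) (.node (.leaf 20751) (.leaf 0))) (.node (.node (.leaf 10009) (.leaf 10115)) (.node (.leaf 14452) (.leaf 0)))) (.node (.node (.node (.leaf 5542) (.leaf 9791)) (.node (.leaf 20660) (.leaf 0))) (.node (.node (.leaf 12639) (.leaf 0)) (.node (.leaf 3921) (.leaf 0))))) (.node (.node (.node (.node (.leaf 20497) (.leaf 14185)) (.node (.leaf 956) (.leaf 0))) (.node (.node (.leaf 6059) (.leaf 0)) (.node (.leaf 5095) (.leaf 0)))) (.node (.node (.node (.leaf 15142) (.leaf 757)) (.node (.leaf 21388) (.leaf 0))) (.node (.node (.leaf 6329) (.leaf 0)) (.node (.leaf 704) (.leaf 0)))))) (.node (.node (.node (.node (.node (.leaf 9435) (.leaf 4824)) (.node (.leaf 20921) (.leaf 0))) (.node (.node (.leaf 14920) (.leaf 12949)) (.node (.leaf 14751) (.leaf 0)))) (.node (.node (.node (.leaf 17014) (.leaf 1570)) (.node (.leaf 19883) (.leaf 0))) (.node (.node (.leaf 8589) (.leaf 0)) (.node (.leaf 8385) (.leaf 0))))) (.node (.node (.node (.node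 (.leaf 2) (.leaf 2628)) (.node (.leaf 13157) (.leaf 0))) (.node (.node (.leaf 7368) (.leaf 0)) (.node (.leaf 2749) (.leaf 0)))) (.node (.node (.node (.leaf 18235) (.leaf 18082)) (.node (.leaf 6160) (.leaf 0))) (.node (.node (.leaf 2200) (.leaf 0)) (.node (.leaf 670) (.leaf 0)))))))))

/-- part of a table -/
def ordM31 : Trie := (.node (.node (.node (.node (.node (.node (.node (.node (.leaf 15126) (.leaf 6888)) (.node (.leaf 18778) (.leaf 0))) (.node (.node (.leaf 15009) (.leaf 9422)) (.node (.leaf 3946) (.leaf 0)))) (.node (.node (.node (.leaf 5343) (.leaf 4317)) (.node (.leaf 13935) (.leaf 0))) (.node (.node (.leaf 20575) (.leaf 0)) (.node (.leaf 11823) (.leaf 0))))) (.node (.node (.node (.node (.leaf 13287) (.leaf 11007)) (.node (.leaf 8316) (.leaf 0))) (.node (.node (.leaf 16661) (.leaf 0)) (.node (.leaf 7821) (.leaf 0)))) (.node (.node (.node (.leaf 19436) (.leaf 15186)) (.node (.leaf 229) (.leaf 0))) (.node (.node (.leaf 9153) (.leaf 0)) (.node (.leaf 20269) (.leaf 0)))))) (.node (.node (.node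 (.node (.node (.leaf 5529) (.leaf 8852)) (.node (.leaf 3900) (.leaf 0))) (.node (.node (.leaf 16271) (.leaf 7595)) (.node (.leaf 3068) (.leaf 0)))) (.node (.node (.node (.leaf 15865) (.leaf 2248)) (.node (.leaf 6966) (.leaf 0))) (.node (.node (.leaf 13122) (.leaf 0)) (.node (.leaf 1660) (.leaf 0))))) (.node (.node (.node (.node (.leaf 1063) (.leaf 1332)) (.node (.leaf 9617) (.leaf 0))) (.node (.node (.leaf 5817) (.leaf 0)) (.node (.leaf 6572) (.leaf 0)))) (.node (.node (.node (.leaf 12730) (.leaf 6913)) (.node (.leaf 1080) (.leaf 0))) (.node (.node (.leaf 13230) (.leaf 0)) (.node (.leaf 6035) (.leaf 0))))))) (.node (.node (.node (.node (.node (.node (.leaf 12612) (.leaf 4814)) (.node (.leaf 733) (.leaf 0))) (.node (.node (.leaf 626) (.leaf 18679)) (.node (.leaf 14802) (.leaf 0)))) (.node (.node (.node (.leaf 15590) (.leaf 9497)) (.node (.leaf 3587) (.leaf 0))) (.node (.node (.leaf 9998) (.leaf 0)) (.node (.leaf 8450) (.leaf 0))))) (.node (.node (.node (.node (.leaf 575) (.leaf 19492)) (.node (.leaf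 4078) (.leaf 0))) (.node (.node (.leaf 15311) (.leaf 0)) (.node (.leaf 8367) (.leaf 0)))) (.node (.node (.node (.leaf 19326) (.leaf 20213)) (.node (.leaf 16755) (.leaf 0))) (.node (.node (.leaf 7539) (.leaf 0)) (.node (.leaf 10528) (.leaf 0)))))) (.node (.node (.node (.node (.node (.leaf 7931) (.leaf 8383)) (.node (.leaf 2491) (.leaf 0))) (.node (.node (.leaf 13643) (.leaf 18162)) (.node (.leaf 17066) (.leaf 0)))) (.node (.node (.node (.leaf 4061) (.leaf 4295)) (.node (.leaf 5278) (.leaf 0))) (.node (.node (.leaf 8964) (.leaf 0)) (.node (.leaf 20390) (.leaf 0))))) (.node (.node (.node (.node (.leaf 12846) (.leaf 2615)) (.node (.leaf 20340) (.leaf 0))) (.node (.node (.leaf 18214) (.leaf 0)) (.node (.leaf 18206) (.leaf 0)))) (.node (.node (.node (.leaf 4834) (.leaf 20436)) (.node (.leaf 1693) (.leaf 0))) (.node (.node (.leaf 2188) (.leaf 0)) (.node (.leaf 19089) (.leaf 0)))))))) (.node (.node (.node (.node (.node (.node (.node (.leaf 14176) (.leaf 20865)) (.node (.leaf 14705) (.leaf 0))) (.node (.node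 (.leaf 16350) (.leaf 9431)) (.node (.leaf 13271) (.leaf 0)))) (.node (.node (.node (.leaf 515) (.leaf 17248)) (.node (.leaf 5267) (.leaf 0))) (.node (.node (.leaf 5977) (.leaf 0)) (.node (.leaf 15427) (.leaf 0))))) (.node (.node (.node (.node (.leaf 17303) (.leaf 12000)) (.node (.leaf 18607) (.leaf 0))) (.node (.node (.leaf 15430) (.leaf 0)) (.node (.leaf 13569) (.leaf 0)))) (.node (.node (.node (.leaf 18948) (.leaf 10219)) (.node (.leaf 11638) (.leaf 0))) (.node (.node (.leaf 717) (.leaf 0)) (.node (.leaf 12477) (.leaf 0)))))) (.node (.node (.node (.node (.node (.leaf 1988) (.leaf 16608)) (.node (.leaf 19173) (.leaf 0))) (.node (.node (.leaf 9345) (.leaf 4902)) (.node (.leaf 14382) (.leaf 0)))) (.node (.node (.node (.leaf 24) (.leaf 18744)) (.node (.leaf 14877) (.leaf 0))) (.node (.node (.leaf 4536) (.leaf 0)) (.node (.leaf 17485) (.leaf 0))))) (.node (.node (.node (.node (.leaf 19031) (.leaf 15160)) (.node (.leaf 21182) (.leaf 0))) (.node (.node (.leaf 13906) (.leaf 0)) (.node (.leaf 5730) (.leaf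 0)))) (.node (.node (.node (.leaf 21165) (.leaf 21128)) (.node (.leaf 11206) (.leaf 0))) (.node (.node (.leaf 15188) (.leaf 0)) (.node (.leaf 9129) (.leaf 0))))))) (.node (.node (.node (.node (.node (.node (.leaf 20908) (.leaf 16982)) (.node (.leaf 10578) (.leaf 0))) (.node (.node (.leaf 6316) (.leaf 19270)) (.node (.leaf 978) (.leaf 0)))) (.node (.node (.node (.leaf 1973) (.leaf 20656)) (.node (.leaf 5447) (.leaf 0))) (.node (.node (.leaf 943) (.leaf 0)) (.node (.leaf 3512) (.leaf 0))))) (.node (.node (.node (.node (.leaf 2967) (.leaf 20769)) (.node (.leaf 10077) (.leaf 0))) (.node (.node (.leaf 4429) (.leaf 0)) (.node (.leaf 1671) (.leaf 0)))) (.node (.node (.node (.leaf 4576) (.leaf 8370)) (.node (.leaf 8872) (.leaf 0))) (.node (.node (.leaf 4507) (.leaf 0)) (.node (.leaf 10205) (.leaf 0)))))) (.node (.node (.node (.node (.node (.leaf 13920) (.leaf 19715)) (.node (.leaf 14774) (.leaf 0))) (.node (.node (.leaf 3999) (.leaf 19349)) (.node (.leaf 7517) (.leaf 0)))) (.node (.node (.node (.leaf 13926)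 (.leaf 442)) (.node (.leaf 18659) (.leaf 0))) (.node (.node (.leaf 15933) (.leaf 0)) (.node (.leaf 14713) (.leaf 0))))) (.node (.node (.node (.node (.leaf 889) (.leaf 6985)) (.node (.leaf 9314) (.leaf 0))) (.node (.node (.leaf 1632) (.leaf 0)) (.node (.leaf 9847) (.leaf 0)))) (.node (.node (.node (.leaf 6170) (.leaf 11536)) (.node (.leaf 7890) (.leaf 0))) (.node (.node (.leaf 12675) (.leaf 0)) (.node (.leaf 10655) (.leaf 0)))))))))

/-- part of a table -/
def ordM32 : Trie := (.node (.node (.node (.node (.node (.node (.node (.node (.leaf 10496) (.leaf 4707)) (.node (.leaf 189) (.leaf 0))) (.node (.node (.leaf 13903) (.leaf 8925)) (.node (.leaf 11931) (.leaf 0)))) (.node (.node (.node (.leaf 9726) (.leaf 15032)) (.node (.leaf 19693) (.leaf 0))) (.node (.node (.leaf 10266) (.leaf 0)) (.node (.leaf 12097) (.leaf 0))))) (.node (.node (.node (.node (.leaf 1459) (.leaf 7483)) (.node (.leaf 17848) (.leaf 0))) (.node (.node (.leaf 19144) (.leaf 0)) (.node (.leaf 3442) (.leaf 0)))) (.node (.node (.node (.leaf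 12692) (.leaf 6395)) (.node (.leaf 16408) (.leaf 0))) (.node (.node (.leaf 14053) (.leaf 0)) (.node (.leaf 13465) (.leaf 0)))))) (.node (.node (.node (.node (.node (.leaf 5151) (.leaf 12641)) (.node (.leaf 15382) (.leaf 0))) (.node (.node (.leaf 766) (.leaf 4413)) (.node (.leaf 1707) (.leaf 0)))) (.node (.node (.node (.leaf 4976) (.leaf 19070)) (.node (.leaf 11486) (.leaf 0))) (.node (.node (.leaf 5314) (.leaf 0)) (.node (.leaf 12053) (.leaf 0))))) (.node (.node (.node (.node (.leaf 16686) (.leaf 14252)) (.node (.leaf 15079) (.leaf 0))) (.node (.node (.leaf 2298) (.leaf 0)) (.node (.leaf 5085) (.leaf 0)))) (.node (.node (.node (.leaf 1843) (.leaf 5097)) (.node (.leaf 20576) (.leaf 0))) (.node (.node (.leaf 13127) (.leaf 0)) (.node (.leaf 17581) (.leaf 0))))))) (.node (.node (.node (.node (.node (.node (.leaf 1418) (.leaf 5244)) (.node (.leaf 3774) (.leaf 0))) (.node (.node (.leaf 16239) (.leaf 12494)) (.node (.leaf 20744) (.leaf 0)))) (.node (.node (.node (.leaf 11386) (.leaf 8562)) (.node (.leaf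 5554) (.leaf 0))) (.node (.node (.leaf 14125) (.leaf 0)) (.node (.leaf 768) (.leaf 0))))) (.node (.node (.node (.node (.leaf 20912) (.leaf 14581)) (.node (.leaf 18598) (.leaf 0))) (.node (.node (.leaf 15853) (.leaf 0)) (.node (.leaf 2065) (.leaf 0)))) (.node (.node (.node (.leaf 32) (.leaf 9609)) (.node (.leaf 10002) (.leaf 0))) (.node (.node (.leaf 10226) (.leaf 0)) (.node (.leaf 20467) (.leaf 0)))))) (.node (.node (.node (.node (.node (.leaf 2217) (.leaf 493)) (.node (.leaf 8217) (.leaf 0))) (.node (.node (.leaf 20620) (.leaf 6036)) (.node (.leaf 21144) (.leaf 0)))) (.node (.node (.node (.leaf 8349) (.leaf 13966)) (.node (.leaf 2375) (.leaf 0))) (.node (.node (.leaf 16700) (.leaf 0)) (.node (.leaf 12274) (.leaf 0))))) (.node (.node (.node (.node (.leaf 18230) (.leaf 19413)) (.node (.leaf 19033) (.leaf 0))) (.node (.node (.leaf 22) (.leaf 0)) (.node (.leaf 9505) (.leaf 0)))) (.node (.node (.node (.leaf 5060) (.leaf 20949)) (.node (.leaf 19772) (.leaf 0))) (.node (.node (.leaf 15165) (.leaf 0)) (.node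 (.leaf 4055) (.leaf 0)))))))) (.node (.node (.node (.node (.node (.node (.node (.leaf 8495) (.leaf 2499)) (.node (.leaf 19390) (.leaf 0))) (.node (.node (.leaf 9108) (.leaf 6696)) (.node (.leaf 21458) (.leaf 0)))) (.node (.node (.node (.leaf 11039) (.leaf 16458)) (.node (.leaf 18928) (.leaf 0))) (.node (.node (.leaf 8170) (.leaf 0)) (.node (.leaf 20783) (.leaf 0))))) (.node (.node (.node (.node (.leaf 17103) (.leaf 1354)) (.node (.leaf 3786) (.leaf 0))) (.node (.node (.leaf 11355) (.leaf 0)) (.node (.leaf 21468) (.leaf 0)))) (.node (.node (.node (.leaf 3427) (.leaf 18853)) (.node (.leaf 11313) (.leaf 0))) (.node (.node (.leaf 10734) (.leaf 0)) (.node (.leaf 1006) (.leaf 0)))))) (.node (.node (.node (.node (.node (.leaf 4947) (.leaf 13985)) (.node (.leaf 16121) (.leaf 0))) (.node (.node (.leaf 2129) (.leaf 15105)) (.node (.leaf 7986) (.leaf 0)))) (.node (.node (.node (.leaf 12488) (.leaf 6829)) (.node (.leaf 12181) (.leaf 0))) (.node (.node (.leaf 2023) (.leaf 0)) (.node (.leaf 2450) (.leaf 0)))))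 (.node (.node (.node (.node (.leaf 3244) (.leaf 7332)) (.node (.leaf 15194) (.leaf 0))) (.node (.node (.leaf 16695) (.leaf 0)) (.node (.leaf 16767) (.leaf 0)))) (.node (.node (.node (.leaf 2026) (.leaf 17175)) (.node (.leaf 6367) (.leaf 0))) (.node (.node (.leaf 20796) (.leaf 0)) (.node (.leaf 2127) (.leaf 0))))))) (.node (.node (.node (.node (.node (.node (.leaf 8445) (.leaf 16776)) (.node (.leaf 12440) (.leaf 0))) (.node (.node (.leaf 18169) (.leaf 3521)) (.node (.leaf 5788) (.leaf 0)))) (.node (.node (.node (.leaf 1878) (.leaf 1131)) (.node (.leaf 15094) (.leaf 0))) (.node (.node (.leaf 13120) (.leaf 0)) (.node (.leaf 11122) (.leaf 0))))) (.node (.node (.node (.node (.leaf 5301) (.leaf 17779)) (.node (.leaf 10304) (.leaf 0))) (.node (.node (.leaf 388) (.leaf 0)) (.node (.leaf 8474) (.leaf 0)))) (.node (.node (.node (.leaf 18803) (.leaf 3850)) (.node (.leaf 5922) (.leaf 0))) (.node (.node (.leaf 19170) (.leaf 0)) (.node (.leaf 1562) (.leaf 0)))))) (.node (.node (.node (.node (.node (.leaf 14245)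 (.leaf 15286)) (.node (.leaf 8525) (.leaf 0))) (.node (.node (.leaf 11185) (.leaf 11460)) (.node (.leaf 12408) (.leaf 0)))) (.node (.node (.node (.leaf 16782) (.leaf 11774)) (.node (.leaf 9158) (.leaf 0))) (.node (.node (.leaf 12243) (.leaf 0)) (.node (.leaf 9482) (.leaf 0))))) (.node (.node (.node (.node (.leaf 14499) (.leaf 13473)) (.node (.leaf 6377) (.leaf 0))) (.node (.node (.leaf 17597) (.leaf 0)) (.node (.leaf 4756) (.leaf 0)))) (.node (.node (.node (.leaf 20455) (.leaf 2496)) (.node (.leaf 11669) (.leaf 0))) (.node (.node (.leaf 11013) (.leaf 0)) (.node (.leaf 4178) (.leaf 0)))))))))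

/-- part of a table -/
def ordM33 : Trie := (.node (.node (.node (.node (.node (.node (.node (.node (.leaf 16571) (.leaf 16041)) (.node (.leaf 4815) (.leaf 0))) (.node (.node (.leaf 10741) (.leaf 3605)) (.node (.leaf 10435) (.leaf 0)))) (.node (.node (.node (.leaf 11762) (.leaf 9388)) (.node (.leaf 15243) (.leaf 0))) (.node (.node (.leaf 12342) (.leaf 0)) (.node (.leaf 1282) (.leaf 0))))) (.node (.node (.node (.node (.leaf 5940) (.leaf 7780)) (.node (.leaf 21381) (.leaf 0))) (.node (.node (.leaf 20220) (.leaf 0)) (.node (.leaf 9668) (.leaf 0)))) (.node (.node (.node (.leaf 11746) (.leaf 8786)) (.node (.leaf 7465) (.leaf 0))) (.node (.node (.leaf 12456) (.leaf 0)) (.node (.leaf 9194) (.leaf 0)))))) (.node (.node (.node (.node (.node (.leaf 1350) (.leaf 4883)) (.node (.leaf 11825) (.leaf 0))) (.node (.node (.leaf 8375) (.leaf 5964)) (.node (.leaf 9901) (.leaf 0)))) (.node (.node (.node (.leaf 12965) (.leaf 20144)) (.node (.leaf 16610) (.leaf 0))) (.node (.node (.leaf 2033) (.leaf 0)) (.node (.leaf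 17916) (.leaf 0))))) (.node (.node (.node (.node (.leaf 3939) (.leaf 18998)) (.node (.leaf 18832) (.leaf 0))) (.node (.node (.leaf 19263) (.leaf 0)) (.node (.leaf 3562) (.leaf 0)))) (.node (.node (.node (.leaf 434) (.leaf 342)) (.node (.leaf 3198) (.leaf 0))) (.node (.node (.leaf 17505) (.leaf 0)) (.node (.leaf 13737) (.leaf 0))))))) (.node (.node (.node (.node (.node (.node (.leaf 12862) (.leaf 9464)) (.node (.leaf 10175) (.leaf 0))) (.node (.node (.leaf 21256) (.leaf 6631)) (.node (.leaf 8699) (.leaf 0)))) (.node (.node (.node (.leaf 13638) (.leaf 10173)) (.node (.leaf 8022) (.leaf 0))) (.node (.node (.leaf 15241) (.leaf 0)) (.node (.leaf 3020) (.leaf 0))))) (.node (.node (.node (.node (.leaf 20416) (.leaf 17580)) (.node (.leaf 14735) (.leaf 0))) (.node (.node (.leaf 15231) (.leaf 0)) (.node (.leaf 6295) (.leaf 0)))) (.node (.node (.node (.leaf 7625) (.leaf 5970)) (.node (.leaf 17354) (.leaf 0))) (.node (.node (.leaf 4309) (.leaf 0)) (.node (.leaf 16536) (.leaf 0)))))) (.node (.node (.node (.node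 (.node (.leaf 16842) (.leaf 7567)) (.node (.leaf 8464) (.leaf 0))) (.node (.node (.leaf 3483) (.leaf 6322)) (.node (.leaf 19151) (.leaf 0)))) (.node (.node (.node (.leaf 17956) (.leaf 20644)) (.node (.leaf 8760) (.leaf 0))) (.node (.node (.leaf 5837) (.leaf 0)) (.node (.leaf 4971) (.leaf 0))))) (.node (.node (.node (.node (.leaf 3350) (.leaf 2254)) (.node (.leaf 17593) (.leaf 0))) (.node (.node (.leaf 446) (.leaf 0)) (.node (.leaf 18490) (.leaf 0)))) (.node (.node (.node (.leaf 9320) (.leaf 14975)) (.node (.leaf 2692) (.leaf 0))) (.node (.node (.leaf 11018) (.leaf 0)) (.node (.leaf 13397) (.leaf 0)))))))) (.node (.node (.node (.node (.node (.node (.node (.leaf 10641) (.leaf 481)) (.node (.leaf 20799) (.leaf 0))) (.node (.node (.leaf 3669) (.leaf 2221)) (.node (.leaf 19258) (.leaf 0)))) (.node (.node (.node (.leaf 15298) (.leaf 11469)) (.node (.leaf 17114) (.leaf 0))) (.node (.node (.leaf 12238) (.leaf 0)) (.node (.leaf 19058) (.leaf 0))))) (.node (.node (.node (.node (.leaf 10802) (.leaf 1999)) (.node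 (.leaf 7706) (.leaf 0))) (.node (.node (.leaf 7294) (.leaf 0)) (.node (.leaf 20508) (.leaf 0)))) (.node (.node (.node (.leaf 17953) (.leaf 9928)) (.node (.leaf 19845) (.leaf 0))) (.node (.node (.leaf 8331) (.leaf 0)) (.node (.leaf 11581) (.leaf 0)))))) (.node (.node (.node (.node (.node (.leaf 20307) (.leaf 2285)) (.node (.leaf 6380) (.leaf 0))) (.node (.node (.leaf 18081) (.leaf 16966)) (.node (.leaf 10857) (.leaf 0)))) (.node (.node (.node (.leaf 6622) (.leaf 2189)) (.node (.leaf 10114) (.leaf 0))) (.node (.node (.leaf 11872) (.leaf 0)) (.node (.leaf 7017) (.leaf 0))))) (.node (.node (.node (.node (.leaf 19614) (.leaf 2682)) (.node (.leaf 10099) (.leaf 0))) (.node (.node (.leaf 4438) (.leaf 0)) (.node (.leaf 16886) (.leaf 0)))) (.node (.node (.node (.leaf 5862) (.leaf 3771)) (.node (.leaf 14741) (.leaf 0))) (.node (.node (.leaf 10307) (.leaf 0)) (.node (.leaf 5005) (.leaf 0))))))) (.node (.node (.node (.node (.node (.node (.leaf 7674) (.leaf 19388)) (.node (.leaf 12826) (.leaf 0))) (.node (.node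 (.leaf 7537) (.leaf 20622)) (.node (.leaf 9290) (.leaf 0)))) (.node (.node (.node (.leaf 15777) (.leaf 4008)) (.node (.leaf 1779) (.leaf 0))) (.node (.node (.leaf 7430) (.leaf 0)) (.node (.leaf 8850) (.leaf 0))))) (.node (.node (.node (.node (.leaf 3489) (.leaf 10700)) (.node (.leaf 15680) (.leaf 0))) (.node (.node (.leaf 5253) (.leaf 0)) (.node (.leaf 2548) (.leaf 0)))) (.node (.node (.node (.leaf 5410) (.leaf 11008)) (.node (.leaf 13567) (.leaf 0))) (.node (.node (.leaf 20361) (.leaf 0)) (.node (.leaf 4956) (.leaf 0)))))) (.node (.node (.node (.node (.node (.leaf 4851) (.leaf 5160)) (.node (.leaf 2873) (.leaf 0))) (.node (.node (.leaf 7001) (.leaf 6025)) (.node (.leaf 19898) (.leaf 0)))) (.node (.node (.node (.leaf 19312) (.leaf 4436)) (.node (.leaf 2365) (.leaf 0))) (.node (.node (.leaf 16688) (.leaf 0)) (.node (.leaf 16329) (.leaf 0))))) (.node (.node (.node (.node (.leaf 1377) (.leaf 10152)) (.node (.leaf 14964) (.leaf 0))) (.node (.node (.leaf 6921) (.leaf 0)) (.node (.leaf 12326) (.leaf 0))))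 (.node (.node (.node (.leaf 21341) (.leaf 10460)) (.node (.leaf 17683) (.leaf 0))) (.node (.node (.leaf 19782) (.leaf 0)) (.node (.leaf 11221) (.leaf 0)))))))))

/-- part of a table -/
def ordM34 : Trie := (.node (.node (.node (.node (.node (.node (.node (.node (.leaf 5061) (.leaf 7245)) (.node (.leaf 21148) (.leaf 0))) (.node (.node (.leaf 20583) (.leaf 17156)) (.node (.leaf 1057) (.leaf 0)))) (.node (.node (.node (.leaf 21188) (.leaf 16850)) (.node (.leaf 18644) (.leaf 0))) (.node (.node (.leaf 5161) (.leaf 0)) (.node (.leaf 4779) (.leaf 0))))) (.node (.node (.node (.node (.leaf 10458) (.leaf 13441)) (.node (.leaf 1214) (.leaf 0))) (.node (.node (.leaf 17026) (.leaf 0)) (.node (.leaf 14820) (.leaf 0)))) (.node (.node (.node (.leaf 2222) (.leaf 3382)) (.node (.leaf 12009) (.leaf 0))) (.node (.node (.leaf 11540) (.leaf 0)) (.node (.leaf 19530) (.leaf 0)))))) (.node (.node (.node (.node (.node (.leaf 19632) (.leaf 17933)) (.node (.leaf 18284) (.leaf 0))) (.node (.node (.leaf 17212) (.leaf 18727))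 (.node (.leaf 17962) (.leaf 0)))) (.node (.node (.node (.leaf 4018) (.leaf 14045)) (.node (.leaf 2910) (.leaf 0))) (.node (.node (.leaf 1834) (.leaf 0)) (.node (.leaf 11041) (.leaf 0))))) (.node (.node (.node (.node (.leaf 5891) (.leaf 4187)) (.node (.leaf 18603) (.leaf 0))) (.node (.node (.leaf 11568) (.leaf 0)) (.node (.leaf 6914) (.leaf 0)))) (.node (.node (.node (.leaf 19066) (.leaf 14227)) (.node (.leaf 6495) (.leaf 0))) (.node (.node (.leaf 16778) (.leaf 0)) (.node (.leaf 7203) (.leaf 0))))))) (.node (.node (.node (.node (.node (.node (.leaf 16701) (.leaf 6841)) (.node (.leaf 11529) (.leaf 0))) (.node (.node (.leaf 19535) (.leaf 2160)) (.node (.leaf 5351) (.leaf 0)))) (.node (.node (.node (.leaf 20200) (.leaf 14984)) (.node (.leaf 21246) (.leaf 0))) (.node (.node (.leaf 10720) (.leaf 0)) (.node (.leaf 10786) (.leaf 0))))) (.node (.node (.node (.node (.leaf 6709) (.leaf 11936)) (.node (.leaf 17391) (.leaf 0))) (.node (.node (.leaf 8132) (.leaf 0)) (.node (.leaf 5040) (.leaf 0)))) (.node (.node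 (.node (.leaf 9795) (.leaf 487)) (.node (.leaf 14922) (.leaf 0))) (.node (.node (.leaf 9110) (.leaf 0)) (.node (.leaf 20291) (.leaf 0)))))) (.node (.node (.node (.node (.node (.leaf 20938) (.leaf 20325)) (.node (.leaf 4463) (.leaf 0))) (.node (.node (.leaf 260) (.leaf 12210)) (.node (.leaf 12635) (.leaf 0)))) (.node (.node (.node (.leaf 6429) (.leaf 497)) (.node (.leaf 12047) (.leaf 0))) (.node (.node (.leaf 11768) (.leaf 0)) (.node (.leaf 3064) (.leaf 0))))) (.node (.node (.node (.node (.leaf 8391) (.leaf 17804)) (.node (.leaf 7915) (.leaf 0))) (.node (.node (.leaf 16663) (.leaf 0)) (.node (.leaf 13370) (.leaf 0)))) (.node (.node (.node (.leaf 10495) (.leaf 6199)) (.node (.leaf 6344) (.leaf 0))) (.node (.node (.leaf 5419) (.leaf 0)) (.node (.leaf 21462) (.leaf 0)))))))) (.node (.node (.node (.node (.node (.node (.node (.leaf 17342) (.leaf 13948)) (.node (.leaf 20259) (.leaf 0))) (.node (.node (.leaf 10229) (.leaf 19222)) (.node (.leaf 17419) (.leaf 0)))) (.node (.node (.node (.leaf 12982) (.leaf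 15926)) (.node (.leaf 795) (.leaf 0))) (.node (.node (.leaf 21492) (.leaf 0)) (.node (.leaf 25) (.leaf 0))))) (.node (.node (.node (.node (.leaf 8192) (.leaf 12670)) (.node (.leaf 9399) (.leaf 0))) (.node (.node (.leaf 15329) (.leaf 0)) (.node (.leaf 13103) (.leaf 0)))) (.node (.node (.node (.leaf 10375) (.leaf 19131)) (.node (.leaf 634) (.leaf 0))) (.node (.node (.leaf 14695) (.leaf 0)) (.node (.leaf 12355) (.leaf 0)))))) (.node (.node (.node (.node (.node (.leaf 11553) (.leaf 4338)) (.node (.leaf 6901) (.leaf 0))) (.node (.node (.leaf 2900) (.leaf 6266)) (.node (.leaf 19972) (.leaf 0)))) (.node (.node (.node (.leaf 17977) (.leaf 7923)) (.node (.leaf 10654) (.leaf 0))) (.node (.node (.leaf 4651) (.leaf 0)) (.node (.leaf 5931) (.leaf 0))))) (.node (.node (.node (.node (.leaf 14827) (.leaf 14972)) (.node (.leaf 20428) (.leaf 0))) (.node (.node (.leaf 6235) (.leaf 0)) (.node (.leaf 15159) (.leaf 0)))) (.node (.node (.node (.leaf 16704) (.leaf 9275)) (.node (.leaf 1272) (.leaf 0))) (.node (.node (.leaf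 10092) (.leaf 0)) (.node (.leaf 5489) (.leaf 0))))))) (.node (.node (.node (.node (.node (.node (.leaf 14545) (.leaf 19403)) (.node (.leaf 21260) (.leaf 0))) (.node (.node (.leaf 10288) (.leaf 7908)) (.node (.leaf 2431) (.leaf 0)))) (.node (.node (.node (.leaf 15546) (.leaf 8368)) (.node (.leaf 20338) (.leaf 0))) (.node (.node (.leaf 14758) (.leaf 0)) (.node (.leaf 11324) (.leaf 0))))) (.node (.node (.node (.node (.leaf 16991) (.leaf 7504)) (.node (.leaf 54) (.leaf 0))) (.node (.node (.leaf 10278) (.leaf 0)) (.node (.leaf 3581) (.leaf 0)))) (.node (.node (.node (.leaf 9358) (.leaf 19628)) (.node (.leaf 19415) (.leaf 0))) (.node (.node (.leaf 20135) (.leaf 0)) (.node (.leaf 6021) (.leaf 0)))))) (.node (.node (.node (.node (.node (.leaf 13591) (.leaf 1896)) (.node (.leaf 10322) (.leaf 0))) (.node (.node (.leaf 16877) (.leaf 275)) (.node (.leaf 7230) (.leaf 0)))) (.node (.node (.node (.leaf 10141) (.leaf 15509)) (.node (.leaf 20238) (.leaf 0))) (.node (.node (.leaf 18417) (.leaf 0)) (.node (.leaf 13459)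 (.leaf 0))))) (.node (.node (.node (.node (.leaf 10176) (.leaf 14822)) (.node (.leaf 4075) (.leaf 0))) (.node (.node (.leaf 4699) (.leaf 0)) (.node (.leaf 20337) (.leaf 0)))) (.node (.node (.node (.leaf 5310) (.leaf 2336)) (.node (.leaf 10829) (.leaf 0))) (.node (.node (.leaf 10354) (.leaf 0)) (.node (.leaf 9116) (.leaf 0)))))))))

/-- part of a table -/
def ordM35 : Trie := (.node (.node (.node (.node (.node (.node (.node (.node (.leaf 10876) (.leaf 18479)) (.node (.leaf 17893) (.leaf 0))) (.node (.node (.leaf 11145) (.leaf 11901)) (.node (.leaf 8711) (.leaf 0)))) (.node (.node (.node (.leaf 18384) (.leaf 7715)) (.node (.leaf 17997) (.leaf 0))) (.node (.node (.leaf 18993) (.leaf 0)) (.node (.leaf 319) (.leaf 0))))) (.node (.node (.node (.node (.leaf 12929) (.leaf 17311)) (.node (.leaf 14840) (.leaf 0))) (.node (.node (.leaf 15581) (.leaf 0)) (.node (.leaf 2966) (.leaf 0)))) (.node (.node (.node (.leaf 2668) (.leaf 976)) (.node (.leaf 15692) (.leaf 0))) (.node (.node (.leaf 16070) (.leaf 0)) (.node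 (.leaf 4389) (.leaf 0)))))) (.node (.node (.node (.node (.node (.leaf 15982) (.leaf 19827)) (.node (.leaf 9331) (.leaf 0))) (.node (.node (.leaf 13290) (.leaf 11127)) (.node (.leaf 15763) (.leaf 0)))) (.node (.node (.node (.leaf 15270) (.leaf 4227)) (.node (.leaf 214) (.leaf 0))) (.node (.node (.leaf 8707) (.leaf 0)) (.node (.leaf 11958) (.leaf 0))))) (.node (.node (.node (.node (.leaf 14505) (.leaf 19864)) (.node (.leaf 20065) (.leaf 0))) (.node (.node (.leaf 6248) (.leaf 0)) (.node (.leaf 7215) (.leaf 0)))) (.node (.node (.node (.leaf 18365) (.leaf 18604)) (.node (.leaf 21409) (.leaf 0))) (.node (.node (.leaf 3847) (.leaf 0)) (.node (.leaf 6402) (.leaf 0))))))) (.node (.node (.node (.node (.node (.node (.leaf 20752) (.leaf 17406)) (.node (.leaf 17675) (.leaf 0))) (.node (.node (.leaf 18696) (.leaf 17544)) (.node (.leaf 1479) (.leaf 0)))) (.node (.node (.node (.leaf 13627) (.leaf 3285)) (.node (.leaf 7089) (.leaf 0))) (.node (.node (.leaf 3940) (.leaf 0)) (.node (.leaf 17096) (.leaf 0))))) (.node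 (.node (.node (.node (.leaf 5108) (.leaf 17170)) (.node (.leaf 8387) (.leaf 0))) (.node (.node (.leaf 3243) (.leaf 0)) (.node (.leaf 12049) (.leaf 0)))) (.node (.node (.node (.leaf 10527) (.leaf 11945)) (.node (.leaf 1152) (.leaf 0))) (.node (.node (.leaf 3673) (.leaf 0)) (.node (.leaf 14879) (.leaf 0)))))) (.node (.node (.node (.node (.node (.leaf 15999) (.leaf 5974)) (.node (.leaf 9753) (.leaf 0))) (.node (.node (.leaf 4510) (.leaf 4969)) (.node (.leaf 929) (.leaf 0)))) (.node (.node (.node (.leaf 5081) (.leaf 8194)) (.node (.leaf 11022) (.leaf 0))) (.node (.node (.leaf 18518) (.leaf 0)) (.node (.leaf 4942) (.leaf 0))))) (.node (.node (.node (.node (.leaf 13615) (.leaf 14599)) (.node (.leaf 17245) (.leaf 0))) (.node (.node (.leaf 16395) (.leaf 0)) (.node (.leaf 7582) (.leaf 0)))) (.node (.node (.node (.leaf 4447) (.leaf 2246)) (.node (.leaf 15778) (.leaf 0))) (.node (.node (.leaf 2037) (.leaf 0)) (.node (.leaf 17845) (.leaf 0)))))))) (.node (.node (.node (.node (.node (.node (.node (.leaf 21443)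 (.leaf 18847)) (.node (.leaf 19855) (.leaf 0))) (.node (.node (.leaf 4313) (.leaf 16964)) (.node (.leaf 6887) (.leaf 0)))) (.node (.node (.node (.leaf 15460) (.leaf 10351)) (.node (.leaf 2683) (.leaf 0))) (.node (.node (.leaf 13980) (.leaf 0)) (.node (.leaf 4857) (.leaf 0))))) (.node (.node (.node (.node (.leaf 5515) (.leaf 15452)) (.node (.leaf 14257) (.leaf 0))) (.node (.node (.leaf 12431) (.leaf 0)) (.node (.leaf 17902) (.leaf 0)))) (.node (.node (.node (.leaf 2231) (.leaf 12822)) (.node (.leaf 10053) (.leaf 0))) (.node (.node (.leaf 16787) (.leaf 0)) (.node (.leaf 1118) (.leaf 0)))))) (.node (.node (.node (.node (.node (.leaf 6010) (.leaf 7590)) (.node (.leaf 10546) (.leaf 0))) (.node (.node (.leaf 19737) (.leaf 16791)) (.node (.leaf 21441) (.leaf 0)))) (.node (.node (.node (.leaf 8871) (.leaf 14073)) (.node (.leaf 11297) (.leaf 0))) (.node (.node (.leaf 153) (.leaf 0)) (.node (.leaf 1766) (.leaf 0))))) (.node (.node (.node (.node (.leaf 14684) (.leaf 4122)) (.node (.leaf 2897) (.leaf 0))) (.node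 (.node (.leaf 15609) (.leaf 0)) (.node (.leaf 7221) (.leaf 0)))) (.node (.node (.node (.leaf 5832) (.leaf 8771)) (.node (.leaf 2868) (.leaf 0))) (.node (.node (.leaf 4198) (.leaf 0)) (.node (.leaf 11242) (.leaf 0))))))) (.node (.node (.node (.node (.node (.node (.leaf 4789) (.leaf 15764)) (.node (.leaf 19736) (.leaf 0))) (.node (.node (.leaf 2999) (.leaf 2767)) (.node (.leaf 6382) (.leaf 0)))) (.node (.node (.node (.leaf 13073) (.leaf 17432)) (.node (.leaf 9868) (.leaf 0))) (.node (.node (.leaf 7526) (.leaf 0)) (.node (.leaf 20965) (.leaf 0))))) (.node (.node (.node (.node (.leaf 8249) (.leaf 6542)) (.node (.leaf 1092) (.leaf 0))) (.node (.node (.leaf 21209) (.leaf 0)) (.node (.leaf 20252) (.leaf 0)))) (.node (.node (.node (.leaf 15871) (.leaf 11409)) (.node (.leaf 14182) (.leaf 0))) (.node (.node (.leaf 19945) (.leaf 0)) (.node (.leaf 13644) (.leaf 0)))))) (.node (.node (.node (.node (.node (.leaf 21434) (.leaf 63)) (.node (.leaf 7232) (.leaf 0))) (.node (.node (.leaf 12425) (.leaf 1068)) (.node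 (.leaf 9731) (.leaf 0)))) (.node (.node (.node (.leaf 18950) (.leaf 19915)) (.node (.leaf 3834) (.leaf 0))) (.node (.node (.leaf 11180) (.leaf 0)) (.node (.leaf 16598) (.leaf 0))))) (.node (.node (.node (.node (.leaf 3719) (.leaf 7106)) (.node (.leaf 10660) (.leaf 0))) (.node (.node (.leaf 17337) (.leaf 0)) (.node (.leaf 21167) (.leaf 0)))) (.node (.node (.node (.leaf 11177) (.leaf 6854)) (.node (.leaf 21213) (.leaf 0))) (.node (.node (.leaf 16749) (.leaf 0)) (.node (.leaf 16633) (.leaf 0)))))))))

/-- part of a table -/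
def ordM36 : Trie := (.node (.node (.node (.node (.node (.node (.node (.node (.leaf 1935) (.leaf 104)) (.node (.leaf 19006) (.leaf 0))) (.node (.node (.leaf 6557) (.leaf 15868)) (.node (.leaf 20630) (.leaf 0)))) (.node (.node (.node (.leaf 14761) (.leaf 5027)) (.node (.leaf 10871) (.leaf 0))) (.node (.node (.leaf 4376) (.leaf 0)) (.node (.leaf 19329) (.leaf 0))))) (.node (.node (.node (.node (.leaf 14439) (.leaf 16335)) (.node (.leaf 1184) (.leaf 0))) (.node (.node (.leaf 9167) (.leaf 0)) (.node (.leaf 20551) (.leaf 0)))) (.node (.node (.node (.leaf 1603) (.leaf 7774)) (.node (.leaf 77) (.leaf 0))) (.node (.node (.leaf 20118) (.leaf 0)) (.node (.leaf 13023) (.leaf 0)))))) (.node (.node (.node (.node (.node (.leaf 13677) (.leaf 8076)) (.node (.leaf 2950) (.leaf 0))) (.node (.node (.leaf 13842) (.leaf 20732)) (.node (.leaf 17118) (.leaf 0)))) (.node (.node (.node (.leaf 14430) (.leaf 2916)) (.node (.leaf 20890) (.leaf 0))) (.node (.node (.leaf 7651) (.leaf 0)) (.node (.leaf 21363) (.leaf 0))))) (.node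 (.node (.node (.node (.leaf 11741) (.leaf 19038)) (.node (.leaf 11671) (.leaf 0))) (.node (.node (.leaf 16698) (.leaf 0)) (.node (.leaf 12325) (.leaf 0)))) (.node (.node (.node (.leaf 8981) (.leaf 15672)) (.node (.leaf 763) (.leaf 0))) (.node (.node (.leaf 6347) (.leaf 0)) (.node (.leaf 8114) (.leaf 0))))))) (.node (.node (.node (.node (.node (.node (.leaf 14301) (.leaf 5493)) (.node (.leaf 10746) (.leaf 0))) (.node (.node (.leaf 11448) (.leaf 13187)) (.node (.leaf 18653) (.leaf 0)))) (.node (.node (.node (.leaf 12907) (.leaf 19778)) (.node (.leaf 9765) (.leaf 0))) (.node (.node (.leaf 4631) (.leaf 0)) (.node (.leaf 2583) (.leaf 0))))) (.node (.node (.node (.node (.leaf 17981) (.leaf 11491)) (.node (.leaf 5893) (.leaf 0))) (.node (.node (.leaf 6807) (.leaf 0)) (.node (.leaf 15727) (.leaf 0)))) (.node (.node (.node (.leaf 18936) (.leaf 13712)) (.node (.leaf 17329) (.leaf 0))) (.node (.node (.leaf 7144) (.leaf 0)) (.node (.leaf 9945) (.leaf 0)))))) (.node (.node (.node (.node (.node (.leaf 12691) (.leaf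 19522)) (.node (.leaf 4516) (.leaf 0))) (.node (.node (.leaf 15415) (.leaf 673)) (.node (.leaf 14997) (.leaf 0)))) (.node (.node (.node (.leaf 18434) (.leaf 17784)) (.node (.leaf 331) (.leaf 0))) (.node (.node (.leaf 4523) (.leaf 0)) (.node (.leaf 15815) (.leaf 0))))) (.node (.node (.node (.node (.leaf 8200) (.leaf 4721)) (.node (.leaf 3528) (.leaf 0))) (.node (.node (.leaf 2061) (.leaf 0)) (.node (.leaf 8007) (.leaf 0)))) (.node (.node (.node (.leaf 11438) (.leaf 1598)) (.node (.leaf 10377) (.leaf 0))) (.node (.node (.leaf 7984) (.leaf 0)) (.node (.leaf 3557) (.leaf 0)))))))) (.node (.node (.node (.node (.node (.node (.node (.leaf 14400) (.leaf 16364)) (.node (.leaf 20328) (.leaf 0))) (.node (.node (.leaf 9789) (.leaf 11782)) (.node (.leaf 4617) (.leaf 0)))) (.node (.node (.node (.leaf 5626) (.leaf 295)) (.node (.leaf 13701) (.leaf 0))) (.node (.node (.leaf 6750) (.leaf 0)) (.node (.leaf 12752) (.leaf 0))))) (.node (.node (.node (.node (.leaf 18636) (.leaf 13053)) (.node (.leaf 14919) (.leaf 0)))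 (.node (.node (.leaf 21080) (.leaf 0)) (.node (.leaf 3173) (.leaf 0)))) (.node (.node (.node (.leaf 19668) (.leaf 16773)) (.node (.leaf 1730) (.leaf 0))) (.node (.node (.leaf 11442) (.leaf 0)) (.node (.leaf 17290) (.leaf 0)))))) (.node (.node (.node (.node (.node (.leaf 17227) (.leaf 15240)) (.node (.leaf 8278) (.leaf 0))) (.node (.node (.leaf 16622) (.leaf 14989)) (.node (.leaf 9724) (.leaf 0)))) (.node (.node (.node (.leaf 6698) (.leaf 16238)) (.node (.leaf 8263) (.leaf 0))) (.node (.node (.leaf 14171) (.leaf 0)) (.node (.leaf 17550) (.leaf 0))))) (.node (.node (.node (.node (.leaf 9510) (.leaf 3278)) (.node (.leaf 11509) (.leaf 0))) (.node (.node (.leaf 13686) (.leaf 0)) (.node (.leaf 19726) (.leaf 0)))) (.node (.node (.node (.leaf 1409) (.leaf 13260)) (.node (.leaf 19714) (.leaf 0))) (.node (.node (.leaf 3885) (.leaf 0)) (.node (.leaf 18198) (.leaf 0))))))) (.node (.node (.node (.node (.node (.node (.leaf 2396) (.leaf 17934)) (.node (.leaf 19446) (.leaf 0))) (.node (.node (.leaf 19629) (.leaf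 20163)) (.node (.leaf 263) (.leaf 0)))) (.node (.node (.node (.leaf 11557) (.leaf 17588)) (.node (.leaf 6787) (.leaf 0))) (.node (.node (.leaf 18130) (.leaf 0)) (.node (.leaf 20379) (.leaf 0))))) (.node (.node (.node (.node (.leaf 14587) (.leaf 16615)) (.node (.leaf 8685) (.leaf 0))) (.node (.node (.leaf 7935) (.leaf 0)) (.node (.leaf 9600) (.leaf 0)))) (.node (.node (.node (.leaf 1463) (.leaf 9269)) (.node (.leaf 1197) (.leaf 0))) (.node (.node (.leaf 14156) (.leaf 0)) (.node (.leaf 11588) (.leaf 0)))))) (.node (.node (.node (.node (.node (.leaf 1647) (.leaf 15555)) (.node (.leaf 2110) (.leaf 0))) (.node (.node (.leaf 8621) (.leaf 15653)) (.node (.leaf 4641) (.leaf 0)))) (.node (.node (.node (.leaf 7746) (.leaf 7408)) (.node (.leaf 15755) (.leaf 0))) (.node (.node (.leaf 604) (.leaf 0)) (.node (.leaf 2442) (.leaf 0))))) (.node (.node (.node (.node (.leaf 17808) (.leaf 236)) (.node (.leaf 2918) (.leaf 0))) (.node (.node (.leaf 14119) (.leaf 0)) (.node (.leaf 19551) (.leaf 0)))) (.node (.node (.node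 (.leaf 14720) (.leaf 306)) (.node (.leaf 3366) (.leaf 0))) (.node (.node (.leaf 549) (.leaf 0)) (.node (.leaf 11608) (.leaf 0)))))))))

/-- part of a table -/
def ordM37 : Trie := (.node (.node (.node (.node (.node (.node (.node (.node (.leaf 9322) (.leaf 1987)) (.node (.leaf 4841) (.leaf 0))) (.node (.node (.leaf 12426) (.leaf 10565)) (.node (.leaf 9923) (.leaf 0)))) (.node (.node (.node (.leaf 1260) (.leaf 10412)) (.node (.leaf 3863) (.leaf 0))) (.node (.node (.leaf 893) (.leaf 0)) (.node (.leaf 7126) (.leaf 0))))) (.node (.node (.node (.node (.leaf 4364) (.leaf 17497)) (.node (.leaf 224) (.leaf 0))) (.node (.node (.leaf 2813) (.leaf 0)) (.node (.leaf 17748) (.leaf 0)))) (.node (.node (.node (.leaf 5266) (.leaf 7479)) (.node (.leaf 1798) (.leaf 0))) (.node (.node (.leaf 10408) (.leaf 0)) (.node (.leaf 8319) (.leaf 0)))))) (.node (.node (.node (.node (.node (.leaf 13078) (.leaf 4557)) (.node (.leaf 8268) (.leaf 0))) (.node (.node (.leaf 3201) (.leaf 8997)) (.node (.leaf 8062) (.leaf 0)))) (.node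 (.node (.node (.leaf 15716) (.leaf 11572)) (.node (.leaf 15173) (.leaf 0))) (.node (.node (.leaf 4724) (.leaf 0)) (.node (.leaf 17195) (.leaf 0))))) (.node (.node (.node (.node (.leaf 4837) (.leaf 18335)) (.node (.leaf 15011) (.leaf 0))) (.node (.node (.leaf 8229) (.leaf 0)) (.node (.leaf 939) (.leaf 0)))) (.node (.node (.node (.leaf 13319) (.leaf 12460)) (.node (.leaf 1680) (.leaf 0))) (.node (.node (.leaf 334) (.leaf 0)) (.node (.leaf 13217) (.leaf 0))))))) (.node (.node (.node (.node (.node (.node (.leaf 9342) (.leaf 1978)) (.node (.leaf 676) (.leaf 0))) (.node (.node (.leaf 17253) (.leaf 15798)) (.node (.leaf 16158) (.leaf 0)))) (.node (.node (.node (.leaf 2128) (.leaf 17577)) (.node (.leaf 17756) (.leaf 0))) (.node (.node (.leaf 273) (.leaf 0)) (.node (.leaf 8581) (.leaf 0))))) (.node (.node (.node (.node (.leaf 18963) (.leaf 8857)) (.node (.leaf 10974) (.leaf 0))) (.node (.node (.leaf 19664) (.leaf 0)) (.node (.leaf 8303) (.leaf 0)))) (.node (.node (.node (.leaf 5292) (.leaf 11961)) (.node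 (.leaf 17562) (.leaf 0))) (.node (.node (.leaf 19409) (.leaf 0)) (.node (.leaf 10726) (.leaf 0)))))) (.node (.node (.node (.node (.node (.leaf 11745) (.leaf 13871)) (.node (.leaf 13095) (.leaf 0))) (.node (.node (.leaf 19952) (.leaf 2075)) (.node (.leaf 5854) (.leaf 0)))) (.node (.node (.node (.leaf 19086) (.leaf 21092)) (.node (.leaf 6796) (.leaf 0))) (.node (.node (.leaf 2475) (.leaf 0)) (.node (.leaf 15757) (.leaf 0))))) (.node (.node (.node (.node (.leaf 2809) (.leaf 12519)) (.node (.leaf 205) (.leaf 0))) (.node (.node (.leaf 7113) (.leaf 0)) (.node (.leaf 3983) (.leaf 0)))) (.node (.node (.node (.leaf 19045) (.leaf 15274)) (.node (.leaf 12969) (.leaf 0))) (.node (.node (.leaf 2292) (.leaf 0)) (.node (.leaf 9994) (.leaf 0)))))))) (.node (.node (.node (.node (.node (.node (.node (.leaf 6225) (.leaf 14179)) (.node (.leaf 20295) (.leaf 0))) (.node (.node (.leaf 21478) (.leaf 17077)) (.node (.leaf 12847) (.leaf 0)))) (.node (.node (.node (.leaf 19060) (.leaf 5691)) (.node (.leaf 1000) (.leaf 0)))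 (.node (.node (.leaf 12261) (.leaf 0)) (.node (.leaf 9680) (.leaf 0))))) (.node (.node (.node (.node (.leaf 21267) (.leaf 14175)) (.node (.leaf 19450) (.leaf 0))) (.node (.node (.leaf 19083) (.leaf 0)) (.node (.leaf 11627) (.leaf 0)))) (.node (.node (.node (.leaf 19997) (.leaf 18788)) (.node (.leaf 5858) (.leaf 0))) (.node (.node (.leaf 19047) (.leaf 0)) (.node (.leaf 21300) (.leaf 0)))))) (.node (.node (.node (.node (.node (.leaf 9428) (.leaf 2553)) (.node (.leaf 15561) (.leaf 0))) (.node (.node (.leaf 11510) (.leaf 18321)) (.node (.leaf 17919) (.leaf 0)))) (.node (.node (.node (.leaf 20098) (.leaf 14576)) (.node (.leaf 4051) (.leaf 0))) (.node (.node (.leaf 11163) (.leaf 0)) (.node (.leaf 10903) (.leaf 0))))) (.node (.node (.node (.node (.leaf 18421) (.leaf 6534)) (.node (.leaf 16621) (.leaf 0))) (.node (.node (.leaf 8542) (.leaf 0)) (.node (.leaf 16305) (.leaf 0)))) (.node (.node (.node (.leaf 4176) (.leaf 11416)) (.node (.leaf 3918) (.leaf 0))) (.node (.node (.leaf 4681) (.leaf 0)) (.node (.leaf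 3679) (.leaf 0))))))) (.node (.node (.node (.node (.node (.node (.leaf 6257) (.leaf 20445)) (.node (.leaf 10716) (.leaf 0))) (.node (.node (.leaf 13252) (.leaf 21348)) (.node (.leaf 4931) (.leaf 0)))) (.node (.node (.node (.leaf 18982) (.leaf 1659)) (.node (.leaf 3697) (.leaf 0))) (.node (.node (.leaf 4928) (.leaf 0)) (.node (.leaf 19599) (.leaf 0))))) (.node (.node (.node (.node (.leaf 17526) (.leaf 11497)) (.node (.leaf 11456) (.leaf 0))) (.node (.node (.leaf 6598) (.leaf 0)) (.node (.leaf 3421) (.leaf 0)))) (.node (.node (.node (.leaf 635) (.leaf 18430)) (.node (.leaf 15061) (.leaf 0))) (.node (.node (.leaf 5760) (.leaf 0)) (.node (.leaf 15664) (.leaf 0)))))) (.node (.node (.node (.node (.node (.leaf 9047) (.leaf 20270)) (.node (.leaf 7200) (.leaf 0))) (.node (.node (.leaf 20187) (.leaf 6964)) (.node (.leaf 12133) (.leaf 0)))) (.node (.node (.node (.leaf 17898) (.leaf 12702)) (.node (.leaf 11978) (.leaf 0))) (.node (.node (.leaf 7966) (.leaf 0)) (.node (.leaf 18117) (.leaf 0))))) (.node (.node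 (.node (.node (.leaf 1948) (.leaf 1100)) (.node (.leaf 8275) (.leaf 0))) (.node (.node (.leaf 6507) (.leaf 0)) (.node (.leaf 19731) (.leaf 0)))) (.node (.node (.node (.leaf 17640) (.leaf 968)) (.node (.leaf 1537) (.leaf 0))) (.node (.node (.leaf 9273) (.leaf 0)) (.node (.leaf 19041) (.leaf 0)))))))))

/-- part of a table -/
def ordM38 : Trie := (.node (.node (.node (.node (.node (.node (.node (.node (.leaf 11439) (.leaf 12676)) (.node (.leaf 20531) (.leaf 0))) (.node (.node (.leaf 16555) (.leaf 12372)) (.node (.leaf 7489) (.leaf 0)))) (.node (.node (.node (.leaf 13976) (.leaf 18248)) (.node (.leaf 5731) (.leaf 0))) (.node (.node (.leaf 13660) (.leaf 0)) (.node (.leaf 8163) (.leaf 0))))) (.node (.node (.node (.node (.leaf 18410) (.leaf 1033)) (.node (.leaf 20149) (.leaf 0))) (.node (.node (.leaf 15352) (.leaf 0)) (.node (.leaf 2057) (.leaf 0)))) (.node (.node (.node (.leaf 20212) (.leaf 19816)) (.node (.leaf 11083) (.leaf 0))) (.node (.node (.leaf 14038) (.leaf 0)) (.node (.leaf 13478) (.leaf 0))))))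 (.node (.node (.node (.node (.node (.leaf 16374) (.leaf 12875)) (.node (.leaf 18670) (.leaf 0))) (.node (.node (.leaf 20392) (.leaf 1189)) (.node (.leaf 9279) (.leaf 0)))) (.node (.node (.node (.leaf 6666) (.leaf 2151)) (.node (.leaf 981) (.leaf 0))) (.node (.node (.leaf 11381) (.leaf 0)) (.node (.leaf 9608) (.leaf 0))))) (.node (.node (.node (.node (.leaf 7825) (.leaf 2598)) (.node (.leaf 399) (.leaf 0))) (.node (.node (.leaf 1529) (.leaf 0)) (.node (.leaf 11604) (.leaf 0)))) (.node (.node (.node (.leaf 17702) (.leaf 14361)) (.node (.leaf 7584) (.leaf 0))) (.node (.node (.leaf 12101) (.leaf 0)) (.node (.leaf 12805) (.leaf 0))))))) (.node (.node (.node (.node (.node (.node (.leaf 4524) (.leaf 1592)) (.node (.leaf 8813) (.leaf 0))) (.node (.node (.leaf 10125) (.leaf 2146)) (.node (.leaf 12918) (.leaf 0)))) (.node (.node (.node (.leaf 16976) (.leaf 4091)) (.node (.leaf 2802) (.leaf 0))) (.node (.node (.leaf 12378) (.leaf 0)) (.node (.leaf 20708) (.leaf 0))))) (.node (.node (.node (.node (.leaf 1553)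 (.leaf 1582)) (.node (.leaf 6353) (.leaf 0))) (.node (.node (.leaf 18486) (.leaf 0)) (.node (.leaf 17620) (.leaf 0)))) (.node (.node (.node (.leaf 17399) (.leaf 1327)) (.node (.leaf 3069) (.leaf 0))) (.node (.node (.leaf 20904) (.leaf 0)) (.node (.leaf 17238) (.leaf 0)))))) (.node (.node (.node (.node (.node (.leaf 9720) (.leaf 6749)) (.node (.leaf 18355) (.leaf 0))) (.node (.node (.leaf 18926) (.leaf 15037)) (.node (.leaf 13130) (.leaf 0)))) (.node (.node (.node (.leaf 5490) (.leaf 7565)) (.node (.leaf 20824) (.leaf 0))) (.node (.node (.leaf 553) (.leaf 0)) (.node (.leaf 3163) (.leaf 0))))) (.node (.node (.node (.node (.leaf 15348) (.leaf 16589)) (.node (.leaf 17263) (.leaf 0))) (.node (.node (.leaf 16882) (.leaf 0)) (.node (.leaf 4146) (.leaf 0)))) (.node (.node (.node (.leaf 1934) (.leaf 14918)) (.node (.leaf 16192) (.leaf 0))) (.node (.node (.leaf 11102) (.leaf 0)) (.node (.leaf 16961) (.leaf 0)))))))) (.node (.node (.node (.node (.node (.node (.node (.leaf 4063) (.leaf 19442)) (.node (.leaf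 11344) (.leaf 0))) (.node (.node (.leaf 16926) (.leaf 516)) (.node (.leaf 13803) (.leaf 0)))) (.node (.node (.node (.leaf 2203) (.leaf 17864)) (.node (.leaf 17440) (.leaf 0))) (.node (.node (.leaf 14857) (.leaf 0)) (.node (.leaf 10498) (.leaf 0))))) (.node (.node (.node (.node (.leaf 881) (.leaf 8880)) (.node (.leaf 17947) (.leaf 0))) (.node (.node (.leaf 1697) (.leaf 0)) (.node (.leaf 6094) (.leaf 0)))) (.node (.node (.node (.leaf 12551) (.leaf 4578)) (.node (.leaf 12991) (.leaf 0))) (.node (.node (.leaf 10134) (.leaf 0)) (.node (.leaf 20638) (.leaf 0)))))) (.node (.node (.node (.node (.node (.leaf 11504) (.leaf 19372)) (.node (.leaf 2446) (.leaf 0))) (.node (.node (.leaf 13211) (.leaf 1173)) (.node (.leaf 11048) (.leaf 0)))) (.node (.node (.node (.leaf 6579) (.leaf 11818)) (.node (.leaf 7264) (.leaf 0))) (.node (.node (.leaf 19708) (.leaf 0)) (.node (.leaf 15915) (.leaf 0))))) (.node (.node (.node (.node (.leaf 19665) (.leaf 12807)) (.node (.leaf 8945) (.leaf 0))) (.node (.node (.leaf 15770) (.leaf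 0)) (.node (.leaf 12415) (.leaf 0)))) (.node (.node (.node (.leaf 15556) (.leaf 7889)) (.node (.leaf 18964) (.leaf 0))) (.node (.node (.leaf 20052) (.leaf 0)) (.node (.leaf 10609) (.leaf 0))))))) (.node (.node (.node (.node (.node (.node (.leaf 631) (.leaf 7996)) (.node (.leaf 21271) (.leaf 0))) (.node (.node (.leaf 3963) (.leaf 7930)) (.node (.leaf 17651) (.leaf 0)))) (.node (.node (.node (.leaf 12284) (.leaf 14389)) (.node (.leaf 19119) (.leaf 0))) (.node (.node (.leaf 842) (.leaf 0)) (.node (.leaf 11776) (.leaf 0))))) (.node (.node (.node (.node (.leaf 19580) (.leaf 684)) (.node (.leaf 13008) (.leaf 0))) (.node (.node (.leaf 16236) (.leaf 0)) (.node (.leaf 18308) (.leaf 0)))) (.node (.node (.node (.leaf 8388) (.leaf 19004)) (.node (.leaf 7031) (.leaf 0))) (.node (.node (.leaf 16169) (.leaf 0)) (.node (.leaf 18202) (.leaf 0)))))) (.node (.node (.node (.node (.node (.leaf 16100) (.leaf 8728)) (.node (.leaf 4660) (.leaf 0))) (.node (.node (.leaf 15099) (.leaf 19210)) (.node (.leaf 15738) (.leaf 0))))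 (.node (.node (.node (.leaf 12782) (.leaf 1972)) (.node (.leaf 10206) (.leaf 0))) (.node (.node (.leaf 8978) (.leaf 0)) (.node (.leaf 16833) (.leaf 0))))) (.node (.node (.node (.node (.leaf 19418) (.leaf 1665)) (.node (.leaf 6549) (.leaf 0))) (.node (.node (.leaf 7393) (.leaf 0)) (.node (.leaf 3106) (.leaf 0)))) (.node (.node (.node (.leaf 1431) (.leaf 5216)) (.node (.leaf 8695) (.leaf 0))) (.node (.node (.leaf 2985) (.leaf 0)) (.node (.leaf 3255) (.leaf 0)))))))))

/-- part of a table -/
def ordM39 : Trie := (.node (.node (.node (.node (.node (.node (.node (.node (.leaf 17746) (.leaf 20034)) (.node (.leaf 6571) (.leaf 0))) (.node (.node (.leaf 21313) (.leaf 4037)) (.node (.leaf 13965) (.leaf 0)))) (.node (.node (.node (.leaf 12724) (.leaf 11645)) (.node (.leaf 10372) (.leaf 0))) (.node (.node (.leaf 13293) (.leaf 0)) (.node (.leaf 14801) (.leaf 0))))) (.node (.node (.node (.node (.leaf 6612) (.leaf 3390)) (.node (.leaf 19702) (.leaf 0))) (.node (.node (.leaf 12067) (.leaf 0)) (.node (.leaf 6798)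 (.leaf 0)))) (.node (.node (.node (.leaf 14081) (.leaf 19922)) (.node (.leaf 19301) (.leaf 0))) (.node (.node (.leaf 12866) (.leaf 0)) (.node (.leaf 7024) (.leaf 0)))))) (.node (.node (.node (.node (.node (.leaf 11401) (.leaf 13376)) (.node (.leaf 8308) (.leaf 0))) (.node (.node (.leaf 14272) (.leaf 5503)) (.node (.leaf 11339) (.leaf 0)))) (.node (.node (.node (.leaf 15491) (.leaf 17541)) (.node (.leaf 13607) (.leaf 0))) (.node (.node (.leaf 19126) (.leaf 0)) (.node (.leaf 15728) (.leaf 0))))) (.node (.node (.node (.node (.leaf 10730) (.leaf 10391)) (.node (.leaf 782) (.leaf 0))) (.node (.node (.leaf 4) (.leaf 0)) (.node (.leaf 19895) (.leaf 0)))) (.node (.node (.node (.leaf 14416) (.leaf 3878)) (.node (.leaf 4333) (.leaf 0))) (.node (.node (.leaf 5722) (.leaf 0)) (.node (.leaf 20186) (.leaf 0))))))) (.node (.node (.node (.node (.node (.node (.leaf 2476) (.leaf 2695)) (.node (.leaf 18508) (.leaf 0))) (.node (.node (.leaf 14077) (.leaf 4608)) (.node (.leaf 8054) (.leaf 0)))) (.node (.node (.node (.leaf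 2899) (.leaf 1203)) (.node (.leaf 820) (.leaf 0))) (.node (.node (.leaf 13710) (.leaf 0)) (.node (.leaf 3392) (.leaf 0))))) (.node (.node (.node (.node (.leaf 5877) (.leaf 16943)) (.node (.leaf 2458) (.leaf 0))) (.node (.node (.leaf 21332) (.leaf 0)) (.node (.leaf 18497) (.leaf 0)))) (.node (.node (.node (.leaf 18858) (.leaf 325)) (.node (.leaf 713) (.leaf 0))) (.node (.node (.leaf 20333) (.leaf 0)) (.node (.leaf 18687) (.leaf 0)))))) (.node (.node (.node (.node (.node (.leaf 5263) (.leaf 13404)) (.node (.leaf 14929) (.leaf 0))) (.node (.node (.leaf 13280) (.leaf 21225)) (.node (.leaf 6790) (.leaf 0)))) (.node (.node (.node (.leaf 4279) (.leaf 5573)) (.node (.leaf 16287) (.leaf 0))) (.node (.node (.leaf 1482) (.leaf 0)) (.node (.leaf 12916) (.leaf 0))))) (.node (.node (.node (.node (.leaf 20685) (.leaf 1678)) (.node (.leaf 18999) (.leaf 0))) (.node (.node (.leaf 6863) (.leaf 0)) (.node (.leaf 2543) (.leaf 0)))) (.node (.node (.node (.leaf 6149) (.leaf 1983)) (.node (.leaf 9461) (.leaf 0))) (.node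 (.node (.leaf 6600) (.leaf 0)) (.node (.leaf 2568) (.leaf 0)))))))) (.node (.node (.node (.node (.node (.node (.node (.leaf 130) (.leaf 13313)) (.node (.leaf 20834) (.leaf 0))) (.node (.node (.leaf 8246) (.leaf 1602)) (.node (.leaf 6259) (.leaf 0)))) (.node (.node (.node (.leaf 4858) (.leaf 3586)) (.node (.leaf 8769) (.leaf 0))) (.node (.node (.leaf 5986) (.leaf 0)) (.node (.leaf 17603) (.leaf 0))))) (.node (.node (.node (.node (.leaf 3003) (.leaf 11853)) (.node (.leaf 19783) (.leaf 0))) (.node (.node (.leaf 1338) (.leaf 0)) (.node (.leaf 6679) (.leaf 0)))) (.node (.node (.node (.leaf 18501) (.leaf 12369)) (.node (.leaf 10140) (.leaf 0))) (.node (.node (.leaf 16550) (.leaf 0)) (.node (.leaf 10934) (.leaf 0)))))) (.node (.node (.node (.node (.node (.leaf 4590) (.leaf 11906)) (.node (.leaf 18119) (.leaf 0))) (.node (.node (.leaf 19608) (.leaf 14771)) (.node (.leaf 18383) (.leaf 0)))) (.node (.node (.node (.leaf 15649) (.leaf 13504)) (.node (.leaf 7453) (.leaf 0))) (.node (.node (.leaf 19960) (.leaf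 0)) (.node (.leaf 15215) (.leaf 0))))) (.node (.node (.node (.node (.leaf 19456) (.leaf 920)) (.node (.leaf 3231) (.leaf 0))) (.node (.node (.leaf 8506) (.leaf 0)) (.node (.leaf 18467) (.leaf 0)))) (.node (.node (.node (.leaf 12868) (.leaf 10386)) (.node (.leaf 16747) (.leaf 0))) (.node (.node (.leaf 13009) (.leaf 0)) (.node (.leaf 16654) (.leaf 0))))))) (.node (.node (.node (.node (.node (.node (.leaf 10161) (.leaf 14096)) (.node (.leaf 21172) (.leaf 0))) (.node (.node (.leaf 18787) (.leaf 11810)) (.node (.leaf 20129) (.leaf 0)))) (.node (.node (.node (.leaf 11406) (.leaf 5947)) (.node (.leaf 10150) (.leaf 0))) (.node (.node (.leaf 12405) (.leaf 0)) (.node (.leaf 1519) (.leaf 0))))) (.node (.node (.node (.node (.leaf 6657) (.leaf 10628)) (.node (.leaf 14709) (.leaf 0))) (.node (.node (.leaf 15674) (.leaf 0)) (.node (.leaf 20049) (.leaf 0)))) (.node (.node (.node (.leaf 19871) (.leaf 17646)) (.node (.leaf 11091) (.leaf 0))) (.node (.node (.leaf 15122) (.leaf 0)) (.node (.leaf 13205) (.leaf 0))))))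 (.node (.node (.node (.node (.node (.leaf 14384) (.leaf 20659)) (.node (.leaf 3922) (.leaf 0))) (.node (.node (.leaf 9635) (.leaf 7362)) (.node (.leaf 19269) (.leaf 0)))) (.node (.node (.node (.leaf 5741) (.leaf 15790)) (.node (.leaf 14313) (.leaf 0))) (.node (.node (.leaf 541) (.leaf 0)) (.node (.leaf 7711) (.leaf 0))))) (.node (.node (.node (.node (.leaf 10747) (.leaf 13585)) (.node (.leaf 13885) (.leaf 0))) (.node (.node (.leaf 13315) (.leaf 0)) (.node (.leaf 4904) (.leaf 0)))) (.node (.node (.node (.leaf 544) (.leaf 4319)) (.node (.leaf 5377) (.leaf 0))) (.node (.node (.leaf 11139) (.leaf 0)) (.node (.leaf 9395) (.leaf 0)))))))))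

/-- part of a table -/
def ordM40 : Trie := (.node (.node (.node (.node (.node (.node (.node (.node (.leaf 1257) (.leaf 5354)) (.node (.leaf 15819) (.leaf 0))) (.node (.node (.leaf 8362) (.leaf 13765)) (.node (.leaf 19941) (.leaf 0)))) (.node (.node (.node (.leaf 15847) (.leaf 15462)) (.node (.leaf 8669) (.leaf 0))) (.node (.node (.leaf 9605) (.leaf 0)) (.node (.leaf 14770) (.leaf 0))))) (.node (.node (.node (.node (.leaf 5916) (.leaf 7547)) (.node (.leaf 1419) (.leaf 0))) (.node (.node (.leaf 4288) (.leaf 0)) (.node (.leaf 15495) (.leaf 0)))) (.node (.node (.node (.leaf 13057) (.leaf 19744)) (.node (.leaf 11496) (.leaf 0))) (.node (.node (.leaf 10048) (.leaf 0)) (.node (.leaf 6274) (.leaf 0)))))) (.node (.node (.node (.node (.node (.leaf 14005) (.leaf 2143)) (.node (.leaf 726) (.leaf 0))) (.node (.node (.leaf 21449) (.leaf 13089)) (.node (.leaf 18469) (.leaf 0)))) (.node (.node (.node (.leaf 14793) (.leaf 15380)) (.node (.leaf 4026) (.leaf 0))) (.node (.node (.leaf 4744) (.leaf 0)) (.node (.leaf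 4415) (.leaf 0))))) (.node (.node (.node (.node (.leaf 9442) (.leaf 14128)) (.node (.leaf 2793) (.leaf 0))) (.node (.node (.leaf 19484) (.leaf 0)) (.node (.leaf 15202) (.leaf 0)))) (.node (.node (.node (.leaf 15089) (.leaf 14935)) (.node (.leaf 4562) (.leaf 0))) (.node (.node (.leaf 7932) (.leaf 0)) (.node (.leaf 5384) (.leaf 0))))))) (.node (.node (.node (.node (.node (.node (.leaf 6624) (.leaf 2088)) (.node (.leaf 4086) (.leaf 0))) (.node (.node (.leaf 1076) (.leaf 16510)) (.node (.leaf 103) (.leaf 0)))) (.node (.node (.node (.leaf 8647) (.leaf 17400)) (.node (.leaf 4098) (.leaf 0))) (.node (.node (.leaf 11309) (.leaf 0)) (.node (.leaf 16723) (.leaf 0))))) (.node (.node (.node (.node (.leaf 1724) (.leaf 20812)) (.node (.leaf 7564) (.leaf 0))) (.node (.node (.leaf 3732) (.leaf 0)) (.node (.leaf 1882) (.leaf 0)))) (.node (.node (.node (.leaf 4090) (.leaf 8923)) (.node (.leaf 8676) (.leaf 0))) (.node (.node (.leaf 1078) (.leaf 0)) (.node (.leaf 8429) (.leaf 0)))))) (.node (.node (.node (.node (.node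 (.leaf 21026) (.leaf 1765)) (.node (.leaf 3872) (.leaf 0))) (.node (.node (.leaf 4318) (.leaf 8515)) (.node (.leaf 9206) (.leaf 0)))) (.node (.node (.node (.leaf 2022) (.leaf 12599)) (.node (.leaf 11809) (.leaf 0))) (.node (.node (.leaf 10573) (.leaf 0)) (.node (.leaf 15788) (.leaf 0))))) (.node (.node (.node (.node (.leaf 4285) (.leaf 10438)) (.node (.leaf 11725) (.leaf 0))) (.node (.node (.leaf 17130) (.leaf 0)) (.node (.leaf 6414) (.leaf 0)))) (.node (.node (.node (.leaf 19852) (.leaf 7377)) (.node (.leaf 18184) (.leaf 0))) (.node (.node (.leaf 17107) (.leaf 0)) (.node (.leaf 7136) (.leaf 0)))))))) (.node (.node (.node (.node (.node (.node (.node (.leaf 11270) (.leaf 16523)) (.node (.leaf 11256) (.leaf 0))) (.node (.node (.leaf 18925) (.leaf 19751)) (.node (.leaf 13819) (.leaf 0)))) (.node (.node (.node (.leaf 1436) (.leaf 7828)) (.node (.leaf 9016) (.leaf 0))) (.node (.node (.leaf 17430) (.leaf 0)) (.node (.leaf 4444) (.leaf 0))))) (.node (.node (.node (.node (.leaf 7801) (.leaf 2293)) (.node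 (.leaf 19339) (.leaf 0))) (.node (.node (.leaf 12791) (.leaf 0)) (.node (.leaf 15341) (.leaf 0)))) (.node (.node (.node (.leaf 2052) (.leaf 20206)) (.node (.leaf 9911) (.leaf 0))) (.node (.node (.leaf 3823) (.leaf 0)) (.node (.leaf 21130) (.leaf 0)))))) (.node (.node (.node (.node (.node (.leaf 20587) (.leaf 4597)) (.node (.leaf 10581) (.leaf 0))) (.node (.node (.leaf 2316) (.leaf 2734)) (.node (.leaf 16922) (.leaf 0)))) (.node (.node (.node (.leaf 6088) (.leaf 4879)) (.node (.leaf 3351) (.leaf 0))) (.node (.node (.leaf 8350) (.leaf 0)) (.node (.leaf 5975) (.leaf 0))))) (.node (.node (.node (.node (.leaf 4994) (.leaf 3984)) (.node (.leaf 16664) (.leaf 0))) (.node (.node (.leaf 7345) (.leaf 0)) (.node (.leaf 6996) (.leaf 0)))) (.node (.node (.node (.leaf 8638) (.leaf 10633)) (.node (.leaf 9659) (.leaf 0))) (.node (.node (.leaf 18092) (.leaf 0)) (.node (.leaf 12233) (.leaf 0))))))) (.node (.node (.node (.node (.node (.node (.leaf 18593) (.leaf 18941)) (.node (.leaf 10) (.leaf 0))) (.node (.node (.leaf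 3186) (.leaf 16288)) (.node (.leaf 13497) (.leaf 0)))) (.node (.node (.node (.leaf 10407) (.leaf 1266)) (.node (.leaf 9594) (.leaf 0))) (.node (.node (.leaf 9677) (.leaf 0)) (.node (.leaf 9347) (.leaf 0))))) (.node (.node (.node (.node (.leaf 19142) (.leaf 1799)) (.node (.leaf 3270) (.leaf 0))) (.node (.node (.leaf 13880) (.leaf 0)) (.node (.leaf 10326) (.leaf 0)))) (.node (.node (.node (.leaf 13868) (.leaf 2602)) (.node (.leaf 7165) (.leaf 0))) (.node (.node (.leaf 879) (.leaf 0)) (.node (.leaf 10318) (.leaf 0)))))) (.node (.node (.node (.node (.node (.leaf 16503) (.leaf 5937)) (.node (.leaf 4013) (.leaf 0))) (.node (.node (.leaf 8484) (.leaf 19748)) (.node (.leaf 2097) (.leaf 0)))) (.node (.node (.node (.leaf 14376) (.leaf 11194)) (.node (.leaf 13245) (.leaf 0))) (.node (.node (.leaf 4019) (.leaf 0)) (.node (.leaf 8455) (.leaf 0))))) (.node (.node (.node (.node (.leaf 20132) (.leaf 21041)) (.node (.leaf 15500) (.leaf 0))) (.node (.node (.leaf 14910) (.leaf 0)) (.node (.leaf 10743) (.leaf 0))))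 (.node (.node (.node (.leaf 16124) (.leaf 13281)) (.node (.leaf 14976) (.leaf 0))) (.node (.node (.leaf 7906) (.leaf 0)) (.node (.leaf 12860) (.leaf 0)))))))))

/-- part of a table -/
def ordM41 : Trie := (.node (.node (.node (.node (.node (.node (.node (.node (.leaf 7894) (.leaf 20316)) (.node (.leaf 10440) (.leaf 0))) (.node (.node (.leaf 20594) (.leaf 13458)) (.node (.leaf 4730) (.leaf 0)))) (.node (.node (.node (.leaf 21129) (.leaf 10097)) (.node (.leaf 13738) (.leaf 0))) (.node (.node (.leaf 13821) (.leaf 0)) (.node (.leaf 1172) (.leaf 0))))) (.node (.node (.node (.node (.leaf 14253) (.leaf 16455)) (.node (.leaf 12863) (.leaf 0))) (.node (.node (.leaf 9044) (.leaf 0)) (.node (.leaf 14880) (.leaf 0)))) (.node (.node (.node (.leaf 14881) (.leaf 11340)) (.node (.leaf 16614) (.leaf 0))) (.node (.node (.leaf 19686) (.leaf 0)) (.node (.leaf 15308) (.leaf 0)))))) (.node (.node (.node (.node (.node (.leaf 19979) (.leaf 2955)) (.node (.leaf 3356) (.leaf 0))) (.node (.node (.leaf 21045) (.leaf 799)) (.node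 (.leaf 7354) (.leaf 0)))) (.node (.node (.node (.leaf 20378) (.leaf 12048)) (.node (.leaf 10728) (.leaf 0))) (.node (.node (.leaf 9025) (.leaf 0)) (.node (.leaf 1301) (.leaf 0))))) (.node (.node (.node (.node (.leaf 1102) (.leaf 20797)) (.node (.leaf 1217) (.leaf 0))) (.node (.node (.leaf 19838) (.leaf 0)) (.node (.leaf 13062) (.leaf 0)))) (.node (.node (.node (.leaf 4908) (.leaf 4065)) (.node (.leaf 3593) (.leaf 0))) (.node (.node (.leaf 7514) (.leaf 0)) (.node (.leaf 13481) (.leaf 0))))))) (.node (.node (.node (.node (.node (.node (.leaf 2344) (.leaf 17789)) (.node (.leaf 13007) (.leaf 0))) (.node (.node (.leaf 7977) (.leaf 19764)) (.node (.leaf 1986) (.leaf 0)))) (.node (.node (.node (.leaf 11274) (.leaf 13805)) (.node (.leaf 10174) (.leaf 0))) (.node (.node (.leaf 13216) (.leaf 0)) (.node (.leaf 17600) (.leaf 0))))) (.node (.node (.node (.node (.leaf 10284) (.leaf 19996)) (.node (.leaf 10190) (.leaf 0))) (.node (.node (.leaf 11367) (.leaf 0)) (.node (.leaf 18302) (.leaf 0)))) (.node (.node (.node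 (.leaf 10511) (.leaf 17678)) (.node (.leaf 7155) (.leaf 0))) (.node (.node (.leaf 3144) (.leaf 0)) (.node (.leaf 2965) (.leaf 0)))))) (.node (.node (.node (.node (.node (.leaf 5686) (.leaf 5930)) (.node (.leaf 6407) (.leaf 0))) (.node (.node (.leaf 11412) (.leaf 17626)) (.node (.leaf 7274) (.leaf 0)))) (.node (.node (.node (.leaf 6173) (.leaf 15221)) (.node (.leaf 7929) (.leaf 0))) (.node (.node (.leaf 14743) (.leaf 0)) (.node (.leaf 21259) (.leaf 0))))) (.node (.node (.node (.node (.leaf 12180) (.leaf 7412)) (.node (.leaf 13717) (.leaf 0))) (.node (.node (.leaf 17452) (.leaf 0)) (.node (.leaf 18301) (.leaf 0)))) (.node (.node (.node (.leaf 19300) (.leaf 11668)) (.node (.leaf 7557) (.leaf 0))) (.node (.node (.leaf 13082) (.leaf 0)) (.node (.leaf 10402) (.leaf 0)))))))) (.node (.node (.node (.node (.node (.node (.node (.leaf 12567) (.leaf 13550)) (.node (.leaf 3649) (.leaf 0))) (.node (.node (.leaf 3116) (.leaf 11566)) (.node (.leaf 15055) (.leaf 0)))) (.node (.node (.node (.leaf 745) (.leaf 5281))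 (.node (.leaf 15705) (.leaf 0))) (.node (.node (.leaf 8299) (.leaf 0)) (.node (.leaf 17931) (.leaf 0))))) (.node (.node (.node (.node (.leaf 10490) (.leaf 5058)) (.node (.leaf 5017) (.leaf 0))) (.node (.node (.leaf 19938) (.leaf 0)) (.node (.leaf 3252) (.leaf 0)))) (.node (.node (.node (.leaf 7109) (.leaf 14590)) (.node (.leaf 15642) (.leaf 0))) (.node (.node (.leaf 5093) (.leaf 0)) (.node (.leaf 19185) (.leaf 0)))))) (.node (.node (.node (.node (.node (.leaf 6186) (.leaf 12159)) (.node (.leaf 12911) (.leaf 0))) (.node (.node (.leaf 3310) (.leaf 8164)) (.node (.leaf 14108) (.leaf 0)))) (.node (.node (.node (.leaf 11370) (.leaf 5829)) (.node (.leaf 18231) (.leaf 0))) (.node (.node (.leaf 2424) (.leaf 0)) (.node (.leaf 17788) (.leaf 0))))) (.node (.node (.node (.node (.leaf 1700) (.leaf 8008)) (.node (.leaf 9391) (.leaf 0))) (.node (.node (.leaf 17514) (.leaf 0)) (.node (.leaf 14519) (.leaf 0)))) (.node (.node (.node (.leaf 2346) (.leaf 4082)) (.node (.leaf 13538) (.leaf 0))) (.node (.node (.leaf 1911)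 (.leaf 0)) (.node (.leaf 20324) (.leaf 0))))))) (.node (.node (.node (.node (.node (.node (.leaf 14513) (.leaf 7356)) (.node (.leaf 268) (.leaf 0))) (.node (.node (.leaf 1087) (.leaf 19770)) (.node (.leaf 14178) (.leaf 0)))) (.node (.node (.node (.leaf 19190) (.leaf 15292)) (.node (.leaf 15114) (.leaf 0))) (.node (.node (.leaf 16384) (.leaf 0)) (.node (.leaf 16826) (.leaf 0))))) (.node (.node (.node (.node (.leaf 20449) (.leaf 5581)) (.node (.leaf 1051) (.leaf 0))) (.node (.node (.leaf 7578) (.leaf 0)) (.node (.leaf 5450) (.leaf 0)))) (.node (.node (.node (.leaf 17507) (.leaf 7)) (.node (.leaf 6767) (.leaf 0))) (.node (.node (.leaf 3560) (.leaf 0)) (.node (.leaf 652) (.leaf 0)))))) (.node (.node (.node (.node (.node (.leaf 20925) (.leaf 14219)) (.node (.leaf 20231) (.leaf 0))) (.node (.node (.leaf 16758) (.leaf 19987)) (.node (.leaf 6924) (.leaf 0)))) (.node (.node (.node (.leaf 11651) (.leaf 1497)) (.node (.leaf 8805) (.leaf 0))) (.node (.node (.leaf 6704) (.leaf 0)) (.node (.leaf 10708) (.leaf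 0))))) (.node (.node (.node (.node (.leaf 12563) (.leaf 3721)) (.node (.leaf 20395) (.leaf 0))) (.node (.node (.leaf 2781) (.leaf 0)) (.node (.leaf 20411) (.leaf 0)))) (.node (.node (.node (.leaf 18697) (.leaf 19720)) (.node (.leaf 21013) (.leaf 0))) (.node (.node (.leaf 2863) (.leaf 0)) (.node (.leaf 1405) (.leaf 0)))))))))

/-- part of a table -/
def ordM42 : Trie := (.node (.node (.node (.node (.node (.node (.node (.node (.leaf 18989) (.leaf 12919)) (.node (.leaf 2535) (.leaf 0))) (.node (.node (.leaf 13201) (.leaf 14780)) (.node (.leaf 19929) (.leaf 0)))) (.node (.node (.node (.leaf 149) (.leaf 9343)) (.node (.leaf 16668) (.leaf 0))) (.node (.node (.leaf 7120) (.leaf 0)) (.node (.leaf 17425) (.leaf 0))))) (.node (.node (.node (.node (.leaf 10534) (.leaf 2867)) (.node (.leaf 19414) (.leaf 0))) (.node (.node (.leaf 12750) (.leaf 0)) (.node (.leaf 17242) (.leaf 0)))) (.node (.node (.node (.leaf 16421) (.leaf 17119)) (.node (.leaf 10627) (.leaf 0))) (.node (.node (.leaf 6640) (.leaf 0)) (.node (.leaf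 16227) (.leaf 0)))))) (.node (.node (.node (.node (.node (.leaf 8130) (.leaf 18245)) (.node (.leaf 15019) (.leaf 0))) (.node (.node (.leaf 50) (.leaf 11758)) (.node (.leaf 7235) (.leaf 0)))) (.node (.node (.node (.leaf 11734) (.leaf 14824)) (.node (.leaf 19674) (.leaf 0))) (.node (.node (.leaf 18436) (.leaf 0)) (.node (.leaf 11487) (.leaf 0))))) (.node (.node (.node (.node (.leaf 11609) (.leaf 1958)) (.node (.leaf 14982) (.leaf 0))) (.node (.node (.leaf 21153) (.leaf 0)) (.node (.leaf 6437) (.leaf 0)))) (.node (.node (.node (.leaf 9797) (.leaf 21304)) (.node (.leaf 8417) (.leaf 0))) (.node (.node (.leaf 15841) (.leaf 0)) (.node (.leaf 12379) (.leaf 0))))))) (.node (.node (.node (.node (.node (.node (.leaf 1213) (.leaf 7734)) (.node (.leaf 14001) (.leaf 0))) (.node (.node (.leaf 3820) (.leaf 6090)) (.node (.leaf 20810) (.leaf 0)))) (.node (.node (.node (.leaf 12590) (.leaf 18937)) (.node (.leaf 16044) (.leaf 0))) (.node (.node (.leaf 11070) (.leaf 0)) (.node (.leaf 6619) (.leaf 0))))) (.node (.node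 (.node (.node (.leaf 19878) (.leaf 20318)) (.node (.leaf 7947) (.leaf 0))) (.node (.node (.leaf 7784) (.leaf 0)) (.node (.leaf 16356) (.leaf 0)))) (.node (.node (.node (.leaf 10119) (.leaf 21353)) (.node (.leaf 15580) (.leaf 0))) (.node (.node (.leaf 18930) (.leaf 0)) (.node (.leaf 3083) (.leaf 0)))))) (.node (.node (.node (.node (.node (.leaf 15972) (.leaf 7279)) (.node (.leaf 10897) (.leaf 0))) (.node (.node (.leaf 967) (.leaf 9439)) (.node (.leaf 3588) (.leaf 0)))) (.node (.node (.node (.leaf 6910) (.leaf 17606)) (.node (.leaf 17108) (.leaf 0))) (.node (.node (.leaf 6623) (.leaf 0)) (.node (.leaf 15098) (.leaf 0))))) (.node (.node (.node (.node (.leaf 18481) (.leaf 17386)) (.node (.leaf 13652) (.leaf 0))) (.node (.node (.leaf 18597) (.leaf 0)) (.node (.leaf 2391) (.leaf 0)))) (.node (.node (.node (.leaf 1256) (.leaf 13771)) (.node (.leaf 4762) (.leaf 0))) (.node (.node (.leaf 11852) (.leaf 0)) (.node (.leaf 400) (.leaf 0)))))))) (.node (.node (.node (.node (.node (.node (.node (.leaf 17679) (.leaf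 3339)) (.node (.leaf 10917) (.leaf 0))) (.node (.node (.leaf 9094) (.leaf 9190)) (.node (.leaf 8436) (.leaf 0)))) (.node (.node (.node (.leaf 12603) (.leaf 17283)) (.node (.leaf 6811) (.leaf 0))) (.node (.node (.leaf 2958) (.leaf 0)) (.node (.leaf 12528) (.leaf 0))))) (.node (.node (.node (.node (.leaf 7644) (.leaf 6601)) (.node (.leaf 6221) (.leaf 0))) (.node (.node (.leaf 12738) (.leaf 0)) (.node (.leaf 11286) (.leaf 0)))) (.node (.node (.node (.leaf 17434) (.leaf 17520)) (.node (.leaf 696) (.leaf 0))) (.node (.node (.leaf 18454) (.leaf 0)) (.node (.leaf 13225) (.leaf 0)))))) (.node (.node (.node (.node (.node (.leaf 12245) (.leaf 7415)) (.node (.leaf 5592) (.leaf 0))) (.node (.node (.leaf 601) (.leaf 15248)) (.node (.leaf 15201) (.leaf 0)))) (.node (.node (.node (.leaf 18172) (.leaf 15523)) (.node (.leaf 7387) (.leaf 0))) (.node (.node (.leaf 6430) (.leaf 0)) (.node (.leaf 1732) (.leaf 0))))) (.node (.node (.node (.node (.leaf 14047) (.leaf 8242)) (.node (.leaf 935) (.leaf 0))) (.node (.node (.leaf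 6837) (.leaf 0)) (.node (.leaf 4792) (.leaf 0)))) (.node (.node (.node (.leaf 20574) (.leaf 2012)) (.node (.leaf 11766) (.leaf 0))) (.node (.node (.leaf 5911) (.leaf 0)) (.node (.leaf 16496) (.leaf 0))))))) (.node (.node (.node (.node (.node (.node (.leaf 19677) (.leaf 4116)) (.node (.leaf 11928) (.leaf 0))) (.node (.node (.leaf 869) (.leaf 1286)) (.node (.leaf 4171) (.leaf 0)))) (.node (.node (.node (.leaf 5465) (.leaf 14631)) (.node (.leaf 8649) (.leaf 0))) (.node (.node (.leaf 13134) (.leaf 0)) (.node (.leaf 628) (.leaf 0))))) (.node (.node (.node (.node (.leaf 1136) (.leaf 19302)) (.node (.leaf 20530) (.leaf 0))) (.node (.node (.leaf 13865) (.leaf 0)) (.node (.leaf 12835) (.leaf 0)))) (.node (.node (.node (.leaf 9806) (.leaf 9745)) (.node (.leaf 7469) (.leaf 0))) (.node (.node (.leaf 19901) (.leaf 0)) (.node (.leaf 9845) (.leaf 0)))))) (.node (.node (.node (.node (.node (.leaf 4653) (.leaf 15267)) (.node (.leaf 21351) (.leaf 0))) (.node (.node (.leaf 6954) (.leaf 452)) (.node (.leaf 20536) (.leaf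 0)))) (.node (.node (.node (.leaf 7140) (.leaf 13208)) (.node (.leaf 2655) (.leaf 0))) (.node (.node (.leaf 15530) (.leaf 0)) (.node (.leaf 3606) (.leaf 0))))) (.node (.node (.node (.node (.leaf 13471) (.leaf 14500)) (.node (.leaf 5372) (.leaf 0))) (.node (.node (.leaf 20533) (.leaf 0)) (.node (.leaf 14328) (.leaf 0)))) (.node (.node (.node (.leaf 4749) (.leaf 15502)) (.node (.leaf 7340) (.leaf 0))) (.node (.node (.leaf 1715) (.leaf 0)) (.node (.leaf 17819) (.leaf 0)))))))))

/-- part of a table -/
def ordM43 : Trie := (.node (.node (.node (.node (.node (.node (.node (.node (.leaf 20240) (.leaf 10926)) (.node (.leaf 11981) (.leaf 0))) (.node (.node (.leaf 12758) (.leaf 17601)) (.node (.leaf 11678) (.leaf 0)))) (.node (.node (.node (.leaf 3206) (.leaf 17468)) (.node (.leaf 6403) (.leaf 0))) (.node (.node (.leaf 5563) (.leaf 0)) (.node (.leaf 1618) (.leaf 0))))) (.node (.node (.node (.node (.leaf 690) (.leaf 8467)) (.node (.leaf 14574) (.leaf 0))) (.node (.node (.leaf 19434) (.leaf 0)) (.node (.leaf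 20628) (.leaf 0)))) (.node (.node (.node (.leaf 3468) (.leaf 19382)) (.node (.leaf 683) (.leaf 0))) (.node (.node (.leaf 11923) (.leaf 0)) (.node (.leaf 13684) (.leaf 0)))))) (.node (.node (.node (.node (.node (.leaf 8912) (.leaf 9581)) (.node (.leaf 21283) (.leaf 0))) (.node (.node (.leaf 8079) (.leaf 5882)) (.node (.leaf 7914) (.leaf 0)))) (.node (.node (.node (.leaf 1495) (.leaf 6294)) (.node (.leaf 16546) (.leaf 0))) (.node (.node (.leaf 21121) (.leaf 0)) (.node (.leaf 16611) (.leaf 0))))) (.node (.node (.node (.node (.leaf 13435) (.leaf 1397)) (.node (.leaf 3266) (.leaf 0))) (.node (.node (.leaf 21396) (.leaf 0)) (.node (.leaf 3306) (.leaf 0)))) (.node (.node (.node (.leaf 707) (.leaf 21497)) (.node (.leaf 14468) (.leaf 0))) (.node (.node (.leaf 17313) (.leaf 0)) (.node (.leaf 13711) (.leaf 0))))))) (.node (.node (.node (.node (.node (.node (.leaf 14744) (.leaf 18394)) (.node (.leaf 13046) (.leaf 0))) (.node (.node (.leaf 69) (.leaf 14584)) (.node (.leaf 20285) (.leaf 0)))) (.node (.node (.node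 (.leaf 15113) (.leaf 19500)) (.node (.leaf 16353) (.leaf 0))) (.node (.node (.leaf 19248) (.leaf 0)) (.node (.leaf 7815) (.leaf 0))))) (.node (.node (.node (.node (.leaf 5822) (.leaf 16154)) (.node (.leaf 19472) (.leaf 0))) (.node (.node (.leaf 6673) (.leaf 0)) (.node (.leaf 5981) (.leaf 0)))) (.node (.node (.node (.leaf 15197) (.leaf 21301)) (.node (.leaf 17906) (.leaf 0))) (.node (.node (.leaf 3112) (.leaf 0)) (.node (.leaf 161) (.leaf 0)))))) (.node (.node (.node (.node (.node (.leaf 17635) (.leaf 15269)) (.node (.leaf 11476) (.leaf 0))) (.node (.node (.leaf 3455) (.leaf 4801)) (.node (.leaf 9598) (.leaf 0)))) (.node (.node (.node (.leaf 16643) (.leaf 14650)) (.node (.leaf 5677) (.leaf 0))) (.node (.node (.leaf 2343) (.leaf 0)) (.node (.leaf 19156) (.leaf 0))))) (.node (.node (.node (.node (.leaf 10653) (.leaf 1622)) (.node (.leaf 17527) (.leaf 0))) (.node (.node (.leaf 7184) (.leaf 0)) (.node (.leaf 6251) (.leaf 0)))) (.node (.node (.node (.leaf 15485) (.leaf 19430)) (.node (.leaf 19191) (.leaf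 0))) (.node (.node (.leaf 8879) (.leaf 0)) (.node (.leaf 783) (.leaf 0)))))))) (.node (.node (.node (.node (.node (.node (.node (.leaf 8924) (.leaf 6609)) (.node (.leaf 20159) (.leaf 0))) (.node (.node (.leaf 4378) (.leaf 558)) (.node (.leaf 641) (.leaf 0)))) (.node (.node (.node (.leaf 11107) (.leaf 8886)) (.node (.leaf 18413) (.leaf 0))) (.node (.node (.leaf 20089) (.leaf 0)) (.node (.leaf 16957) (.leaf 0))))) (.node (.node (.node (.node (.leaf 3791) (.leaf 10491)) (.node (.leaf 16009) (.leaf 0))) (.node (.node (.leaf 5112) (.leaf 0)) (.node (.leaf 15146) (.leaf 0)))) (.node (.node (.node (.leaf 16156) (.leaf 13099)) (.node (.leaf 7767) (.leaf 0))) (.node (.node (.leaf 11914) (.leaf 0)) (.node (.leaf 14030) (.leaf 0)))))) (.node (.node (.node (.node (.node (.leaf 1428) (.leaf 7202)) (.node (.leaf 1567) (.leaf 0))) (.node (.node (.leaf 7965) (.leaf 19881)) (.node (.leaf 8643) (.leaf 0)))) (.node (.node (.node (.leaf 20494) (.leaf 16914)) (.node (.leaf 8392) (.leaf 0))) (.node (.node (.leaf 21251)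 (.leaf 0)) (.node (.leaf 430) (.leaf 0))))) (.node (.node (.node (.node (.leaf 12081) (.leaf 3955)) (.node (.leaf 598) (.leaf 0))) (.node (.node (.leaf 360) (.leaf 0)) (.node (.leaf 10895) (.leaf 0)))) (.node (.node (.node (.leaf 19108) (.leaf 17055)) (.node (.leaf 13442) (.leaf 0))) (.node (.node (.leaf 17880) (.leaf 0)) (.node (.leaf 10836) (.leaf 0))))))) (.node (.node (.node (.node (.node (.node (.leaf 15544) (.leaf 6231)) (.node (.leaf 11631) (.leaf 0))) (.node (.node (.leaf 8956) (.leaf 332)) (.node (.leaf 13321) (.leaf 0)))) (.node (.node (.node (.leaf 13914) (.leaf 17878)) (.node (.leaf 7510) (.leaf 0))) (.node (.node (.leaf 20801) (.leaf 0)) (.node (.leaf 3275) (.leaf 0))))) (.node (.node (.node (.node (.leaf 15199) (.leaf 11084)) (.node (.leaf 11862) (.leaf 0))) (.node (.node (.leaf 5710) (.leaf 0)) (.node (.leaf 2192) (.leaf 0)))) (.node (.node (.node (.leaf 734) (.leaf 18520)) (.node (.leaf 15951) (.leaf 0))) (.node (.node (.leaf 12977) (.leaf 0)) (.node (.leaf 2747) (.leaf 0)))))) (.node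 (.node (.node (.node (.node (.leaf 1467) (.leaf 6927)) (.node (.leaf 21078) (.leaf 0))) (.node (.node (.leaf 10698) (.leaf 10774)) (.node (.leaf 16022) (.leaf 0)))) (.node (.node (.node (.leaf 18405) (.leaf 20107)) (.node (.leaf 8820) (.leaf 0))) (.node (.node (.leaf 11512) (.leaf 0)) (.node (.leaf 8926) (.leaf 0))))) (.node (.node (.node (.node (.leaf 4087) (.leaf 1379)) (.node (.leaf 858) (.leaf 0))) (.node (.node (.leaf 3857) (.leaf 0)) (.node (.leaf 2178) (.leaf 0)))) (.node (.node (.node (.leaf 12565) (.leaf 14656)) (.node (.leaf 6524) (.leaf 0))) (.node (.node (.leaf 17038) (.leaf 0)) (.node (.leaf 17369) (.leaf 0)))))))))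

/-- part of a table -/
def ordM44 : Trie := (.node (.node (.node (.node (.node (.node (.node (.node (.leaf 5482) (.leaf 7533)) (.node (.leaf 20424) (.leaf 0))) (.node (.node (.leaf 4547) (.leaf 14085)) (.node (.leaf 5320) (.leaf 0)))) (.node (.node (.node (.leaf 2380) (.leaf 8460)) (.node (.leaf 8115) (.leaf 0))) (.node (.node (.leaf 18905) (.leaf 0)) (.node (.leaf 7318) (.leaf 0))))) (.node (.node (.node (.node (.leaf 416) (.leaf 3917)) (.node (.leaf 14302) (.leaf 0))) (.node (.node (.leaf 5637) (.leaf 0)) (.node (.leaf 5068) (.leaf 0)))) (.node (.node (.node (.leaf 18747) (.leaf 16784)) (.node (.leaf 20667) (.leaf 0))) (.node (.node (.leaf 6885) (.leaf 0)) (.node (.leaf 13624) (.leaf 0)))))) (.node (.node (.node (.node (.node (.leaf 5472) (.leaf 7227)) (.node (.leaf 12312) (.leaf 0))) (.node (.node (.leaf 16735) (.leaf 20120)) (.node (.leaf 13541) (.leaf 0)))) (.node (.node (.node (.leaf 1884) (.leaf 17619)) (.node (.leaf 8353) (.leaf 0))) (.node (.node (.leaf 3994) (.leaf 0)) (.node (.leaf 13148)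 (.leaf 0))))) (.node (.node (.node (.node (.leaf 4419) (.leaf 6497)) (.node (.leaf 19524) (.leaf 0))) (.node (.node (.leaf 16089) (.leaf 0)) (.node (.leaf 12015) (.leaf 0)))) (.node (.node (.node (.leaf 15436) (.leaf 9756)) (.node (.leaf 7530) (.leaf 0))) (.node (.node (.leaf 18835) (.leaf 0)) (.node (.leaf 10870) (.leaf 0))))))) (.node (.node (.node (.node (.node (.node (.leaf 7817) (.leaf 7974)) (.node (.leaf 3814) (.leaf 0))) (.node (.node (.leaf 10313) (.leaf 16185)) (.node (.leaf 13647) (.leaf 0)))) (.node (.node (.node (.leaf 16822) (.leaf 9764)) (.node (.leaf 20734) (.leaf 0))) (.node (.node (.leaf 13559) (.leaf 0)) (.node (.leaf 2413) (.leaf 0))))) (.node (.node (.node (.node (.leaf 4610) (.leaf 3425)) (.node (.leaf 496) (.leaf 0))) (.node (.node (.leaf 10789) (.leaf 0)) (.node (.leaf 2152) (.leaf 0)))) (.node (.node (.node (.leaf 14983) (.leaf 12899)) (.node (.leaf 10560) (.leaf 0))) (.node (.node (.leaf 12334) (.leaf 0)) (.node (.leaf 2056) (.leaf 0)))))) (.node (.node (.node (.node (.node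 (.leaf 21017) (.leaf 5048)) (.node (.leaf 3033) (.leaf 0))) (.node (.node (.leaf 6853) (.leaf 21199)) (.node (.leaf 9363) (.leaf 0)))) (.node (.node (.node (.leaf 19615) (.leaf 11683)) (.node (.leaf 17104) (.leaf 0))) (.node (.node (.leaf 7179) (.leaf 0)) (.node (.leaf 1020) (.leaf 0))))) (.node (.node (.node (.node (.leaf 4050) (.leaf 6561)) (.node (.leaf 11358) (.leaf 0))) (.node (.node (.leaf 18309) (.leaf 0)) (.node (.leaf 2681) (.leaf 0)))) (.node (.node (.node (.leaf 13893) (.leaf 1536)) (.node (.leaf 1586) (.leaf 0))) (.node (.node (.leaf 13663) (.leaf 0)) (.node (.leaf 19292) (.leaf 0)))))))) (.node (.node (.node (.node (.node (.node (.node (.leaf 4036) (.leaf 1455)) (.node (.leaf 834) (.leaf 0))) (.node (.node (.leaf 258) (.leaf 744)) (.node (.leaf 12127) (.leaf 0)))) (.node (.node (.node (.leaf 21327) (.leaf 14852)) (.node (.leaf 14550) (.leaf 0))) (.node (.node (.leaf 2070) (.leaf 0)) (.node (.leaf 9211) (.leaf 0))))) (.node (.node (.node (.node (.leaf 17996) (.leaf 11463)) (.node (.leaf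 12480) (.leaf 0))) (.node (.node (.leaf 13973) (.leaf 0)) (.node (.leaf 10958) (.leaf 0)))) (.node (.node (.node (.leaf 2009) (.leaf 20857)) (.node (.leaf 12462) (.leaf 0))) (.node (.node (.leaf 980) (.leaf 0)) (.node (.leaf 2590) (.leaf 0)))))) (.node (.node (.node (.node (.node (.leaf 2304) (.leaf 4125)) (.node (.leaf 13463) (.leaf 0))) (.node (.node (.leaf 11275) (.leaf 14619)) (.node (.leaf 9351) (.leaf 0)))) (.node (.node (.node (.leaf 19620) (.leaf 16632)) (.node (.leaf 5380) (.leaf 0))) (.node (.node (.leaf 20571) (.leaf 0)) (.node (.leaf 14957) (.leaf 0))))) (.node (.node (.node (.node (.leaf 14472) (.leaf 20124)) (.node (.leaf 14970) (.leaf 0))) (.node (.node (.leaf 9128) (.leaf 0)) (.node (.leaf 16407) (.leaf 0)))) (.node (.node (.node (.leaf 8610) (.leaf 20891)) (.node (.leaf 7348) (.leaf 0))) (.node (.node (.leaf 6763) (.leaf 0)) (.node (.leaf 14716) (.leaf 0))))))) (.node (.node (.node (.node (.node (.node (.leaf 16302) (.leaf 42)) (.node (.leaf 10087) (.leaf 0))) (.node (.node (.leaf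 9831) (.leaf 2987)) (.node (.leaf 3617) (.leaf 0)))) (.node (.node (.node (.leaf 14608) (.leaf 21134)) (.node (.leaf 9926) (.leaf 0))) (.node (.node (.leaf 2144) (.leaf 0)) (.node (.leaf 6555) (.leaf 0))))) (.node (.node (.node (.node (.leaf 8552) (.leaf 2435)) (.node (.leaf 8425) (.leaf 0))) (.node (.node (.leaf 12962) (.leaf 0)) (.node (.leaf 19649) (.leaf 0)))) (.node (.node (.node (.leaf 1580) (.leaf 19691)) (.node (.leaf 17901) (.leaf 0))) (.node (.node (.leaf 11250) (.leaf 0)) (.node (.leaf 20633) (.leaf 0)))))) (.node (.node (.node (.node (.node (.leaf 1907) (.leaf 4359)) (.node (.leaf 16799) (.leaf 0))) (.node (.node (.leaf 20261) (.leaf 20977)) (.node (.leaf 15571) (.leaf 0)))) (.node (.node (.node (.leaf 16342) (.leaf 9225)) (.node (.leaf 15076) (.leaf 0))) (.node (.node (.leaf 11016) (.leaf 0)) (.node (.leaf 4038) (.leaf 0))))) (.node (.node (.node (.node (.leaf 13049) (.leaf 15780)) (.node (.leaf 10841) (.leaf 0))) (.node (.node (.leaf 1248) (.leaf 0)) (.node (.leaf 4305) (.leaf 0))))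 (.node (.node (.node (.leaf 2356) (.leaf 4511)) (.node (.leaf 14138) (.leaf 0))) (.node (.node (.leaf 11044) (.leaf 0)) (.node (.leaf 5521) (.leaf 0)))))))))

/-- part of a table -/
def ordM45 : Trie := (.node (.node (.node (.node (.node (.node (.node (.node (.leaf 3017) (.leaf 16451)) (.node (.leaf 10997) (.leaf 0))) (.node (.node (.leaf 245) (.leaf 15021)) (.node (.leaf 10239) (.leaf 0)))) (.node (.node (.node (.leaf 18055) (.leaf 10778)) (.node (.leaf 6171) (.leaf 0))) (.node (.node (.leaf 10238) (.leaf 0)) (.node (.leaf 11881) (.leaf 0))))) (.node (.node (.node (.node (.leaf 5056) (.leaf 19718)) (.node (.leaf 15626) (.leaf 0))) (.node (.node (.leaf 12145) (.leaf 0)) (.node (.leaf 16347) (.leaf 0)))) (.node (.node (.node (.leaf 2276) (.leaf 18879)) (.node (.leaf 14009) (.leaf 0))) (.node (.node (.leaf 248) (.leaf 0)) (.node (.leaf 18381) (.leaf 0)))))) (.node (.node (.node (.node (.node (.leaf 16390) (.leaf 16899)) (.node (.leaf 10562) (.leaf 0))) (.node (.node (.leaf 14368) (.leaf 19135)) (.node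 (.leaf 1030) (.leaf 0)))) (.node (.node (.node (.leaf 540) (.leaf 14521)) (.node (.leaf 17521) (.leaf 0))) (.node (.node (.leaf 10853) (.leaf 0)) (.node (.leaf 13672) (.leaf 0))))) (.node (.node (.node (.node (.leaf 8602) (.leaf 14782)) (.node (.leaf 17814) (.leaf 0))) (.node (.node (.leaf 21243) (.leaf 0)) (.node (.leaf 6449) (.leaf 0)))) (.node (.node (.node (.leaf 12292) (.leaf 4467)) (.node (.leaf 14760) (.leaf 0))) (.node (.node (.leaf 17498) (.leaf 0)) (.node (.leaf 3862) (.leaf 0))))))) (.node (.node (.node (.node (.node (.node (.leaf 2630) (.leaf 17000)) (.node (.leaf 11600) (.leaf 0))) (.node (.node (.leaf 6660) (.leaf 13979)) (.node (.leaf 18515) (.leaf 0)))) (.node (.node (.node (.leaf 2315) (.leaf 18102)) (.node (.leaf 16006) (.leaf 0))) (.node (.node (.leaf 18867) (.leaf 0)) (.node (.leaf 7099) (.leaf 0))))) (.node (.node (.node (.node (.leaf 1513) (.leaf 15808)) (.node (.leaf 1740) (.leaf 0))) (.node (.node (.leaf 4988) (.leaf 0)) (.node (.leaf 10638) (.leaf 0)))) (.node (.node (.node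 (.leaf 3284) (.leaf 7268)) (.node (.leaf 15035) (.leaf 0))) (.node (.node (.leaf 10456) (.leaf 0)) (.node (.leaf 1295) (.leaf 0)))))) (.node (.node (.node (.node (.node (.leaf 3662) (.leaf 16173)) (.node (.leaf 2416) (.leaf 0))) (.node (.node (.leaf 15825) (.leaf 17829)) (.node (.leaf 10520) (.leaf 0)))) (.node (.node (.node (.leaf 15331) (.leaf 14507)) (.node (.leaf 15183) (.leaf 0))) (.node (.node (.leaf 14308) (.leaf 0)) (.node (.leaf 13909) (.leaf 0))))) (.node (.node (.node (.node (.leaf 1652) (.leaf 16212)) (.node (.leaf 17793) (.leaf 0))) (.node (.node (.leaf 15489) (.leaf 0)) (.node (.leaf 10961) (.leaf 0)))) (.node (.node (.node (.leaf 17234) (.leaf 3365)) (.node (.leaf 5220) (.leaf 0))) (.node (.node (.leaf 1353) (.leaf 0)) (.node (.leaf 20500) (.leaf 0)))))))) (.node (.node (.node (.node (.node (.node (.node (.leaf 19234) (.leaf 6476)) (.node (.leaf 1) (.leaf 0))) (.node (.node (.leaf 5125) (.leaf 9810)) (.node (.leaf 16417) (.leaf 0)))) (.node (.node (.node (.leaf 15167) (.leaf 10331))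 (.node (.leaf 18216) (.leaf 0))) (.node (.node (.leaf 6587) (.leaf 0)) (.node (.leaf 3238) (.leaf 0))))) (.node (.node (.node (.node (.leaf 15644) (.leaf 20595)) (.node (.leaf 7634) (.leaf 0))) (.node (.node (.leaf 13836) (.leaf 0)) (.node (.leaf 2672) (.leaf 0)))) (.node (.node (.node (.leaf 2961) (.leaf 5306)) (.node (.leaf 13142) (.leaf 0))) (.node (.node (.leaf 3487) (.leaf 0)) (.node (.leaf 1376) (.leaf 0)))))) (.node (.node (.node (.node (.node (.leaf 3932) (.leaf 10593)) (.node (.leaf 10809) (.leaf 0))) (.node (.node (.leaf 21136) (.leaf 6109)) (.node (.leaf 10273) (.leaf 0)))) (.node (.node (.node (.leaf 4916) (.leaf 9114)) (.node (.leaf 8201) (.leaf 0))) (.node (.node (.leaf 19287) (.leaf 0)) (.node (.leaf 19335) (.leaf 0))))) (.node (.node (.node (.node (.leaf 16276) (.leaf 13492)) (.node (.leaf 11272) (.leaf 0))) (.node (.node (.leaf 13511) (.leaf 0)) (.node (.leaf 9982) (.leaf 0)))) (.node (.node (.node (.leaf 4003) (.leaf 14249)) (.node (.leaf 16259) (.leaf 0))) (.node (.node (.leaf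 12397) (.leaf 0)) (.node (.leaf 14357) (.leaf 0))))))) (.node (.node (.node (.node (.node (.node (.leaf 15222) (.leaf 945)) (.node (.leaf 11170) (.leaf 0))) (.node (.node (.leaf 11639) (.leaf 11141)) (.node (.leaf 9937) (.leaf 0)))) (.node (.node (.node (.leaf 3048) (.leaf 16953)) (.node (.leaf 20858) (.leaf 0))) (.node (.node (.leaf 4607) (.leaf 0)) (.node (.leaf 20109) (.leaf 0))))) (.node (.node (.node (.node (.leaf 7079) (.leaf 9637)) (.node (.leaf 13796) (.leaf 0))) (.node (.node (.leaf 12667) (.leaf 0)) (.node (.leaf 18767) (.leaf 0)))) (.node (.node (.node (.leaf 14679) (.leaf 10084)) (.node (.leaf 7753) (.leaf 0))) (.node (.node (.leaf 3633) (.leaf 0)) (.node (.leaf 16160) (.leaf 0)))))) (.node (.node (.node (.node (.node (.leaf 16630) (.leaf 11190)) (.node (.leaf 17634) (.leaf 0))) (.node (.node (.leaf 12511) (.leaf 15636)) (.node (.leaf 20275) (.leaf 0)))) (.node (.node (.node (.leaf 1773) (.leaf 10214)) (.node (.leaf 6390) (.leaf 0))) (.node (.node (.leaf 8680) (.leaf 0)) (.node (.leaf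 2784) (.leaf 0))))) (.node (.node (.node (.node (.leaf 8754) (.leaf 17716)) (.node (.leaf 17041) (.leaf 0))) (.node (.node (.leaf 3690) (.leaf 0)) (.node (.leaf 175) (.leaf 0)))) (.node (.node (.node (.leaf 7173) (.leaf 1548)) (.node (.leaf 1234) (.leaf 0))) (.node (.node (.leaf 10985) (.leaf 0)) (.node (.leaf 16586) (.leaf 0)))))))))

/-- part of a table -/
def ordM46 : Trie := (.node (.node (.node (.node (.node (.node (.node (.node (.leaf 7759) (.leaf 5632)) (.node (.leaf 7839) (.leaf 0))) (.node (.node (.leaf 312) (.leaf 3183)) (.node (.leaf 5487) (.leaf 0)))) (.node (.node (.node (.leaf 19902) (.leaf 8531)) (.node (.leaf 1612) (.leaf 0))) (.node (.node (.leaf 5747) (.leaf 0)) (.node (.leaf 16965) (.leaf 0))))) (.node (.node (.node (.node (.leaf 14715) (.leaf 13923)) (.node (.leaf 9491) (.leaf 0))) (.node (.node (.leaf 4266) (.leaf 0)) (.node (.leaf 15660) (.leaf 0)))) (.node (.node (.node (.leaf 21194) (.leaf 1708)) (.node (.leaf 5988) (.leaf 0))) (.node (.node (.leaf 9827) (.leaf 0)) (.node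 (.leaf 4435) (.leaf 0)))))) (.node (.node (.node (.node (.node (.leaf 3839) (.leaf 20442)) (.node (.leaf 4327) (.leaf 0))) (.node (.node (.leaf 15252) (.leaf 10954)) (.node (.leaf 8563) (.leaf 0)))) (.node (.node (.node (.leaf 19866) (.leaf 13548)) (.node (.leaf 9948) (.leaf 0))) (.node (.node (.leaf 5742) (.leaf 0)) (.node (.leaf 17542) (.leaf 0))))) (.node (.node (.node (.node (.leaf 10552) (.leaf 5511)) (.node (.leaf 17781) (.leaf 0))) (.node (.node (.leaf 16592) (.leaf 0)) (.node (.leaf 16170) (.leaf 0)))) (.node (.node (.node (.leaf 17552) (.leaf 2643)) (.node (.leaf 19405) (.leaf 0))) (.node (.node (.leaf 5368) (.leaf 0)) (.node (.leaf 16759) (.leaf 0))))))) (.node (.node (.node (.node (.node (.node (.leaf 19716) (.leaf 2186)) (.node (.leaf 8753) (.leaf 0))) (.node (.node (.leaf 4205) (.leaf 7870)) (.node (.leaf 15775) (.leaf 0)))) (.node (.node (.node (.leaf 7964) (.leaf 33)) (.node (.leaf 14928) (.leaf 0))) (.node (.node (.leaf 6053) (.leaf 0)) (.node (.leaf 21052) (.leaf 0))))) (.node (.node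 (.node (.node (.leaf 14422) (.leaf 1465)) (.node (.leaf 18046) (.leaf 0))) (.node (.node (.leaf 15067) (.leaf 0)) (.node (.leaf 20026) (.leaf 0)))) (.node (.node (.node (.leaf 8561) (.leaf 10751)) (.node (.leaf 13761) (.leaf 0))) (.node (.node (.leaf 13019) (.leaf 0)) (.node (.leaf 16295) (.leaf 0)))))) (.node (.node (.node (.node (.node (.leaf 12842) (.leaf 7128)) (.node (.leaf 21264) (.leaf 0))) (.node (.node (.leaf 10459) (.leaf 5991)) (.node (.leaf 13445) (.leaf 0)))) (.node (.node (.node (.leaf 5902) (.leaf 6685)) (.node (.leaf 8658) (.leaf 0))) (.node (.node (.leaf 21075) (.leaf 0)) (.node (.leaf 5170) (.leaf 0))))) (.node (.node (.node (.node (.leaf 13816) (.leaf 14325)) (.node (.leaf 2678) (.leaf 0))) (.node (.node (.leaf 16310) (.leaf 0)) (.node (.leaf 8508) (.leaf 0)))) (.node (.node (.node (.leaf 6988) (.leaf 8537)) (.node (.leaf 16558) (.leaf 0))) (.node (.node (.leaf 20101) (.leaf 0)) (.node (.leaf 16317) (.leaf 0)))))))) (.node (.node (.node (.node (.node (.node (.node (.leaf 6129)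 (.leaf 4214)) (.node (.leaf 19896) (.leaf 0))) (.node (.node (.leaf 12338) (.leaf 14814)) (.node (.leaf 16718) (.leaf 0)))) (.node (.node (.node (.leaf 13146) (.leaf 4253)) (.node (.leaf 11798) (.leaf 0))) (.node (.node (.leaf 12467) (.leaf 0)) (.node (.leaf 17843) (.leaf 0))))) (.node (.node (.node (.node (.leaf 11794) (.leaf 2038)) (.node (.leaf 6102) (.leaf 0))) (.node (.node (.leaf 14670) (.leaf 0)) (.node (.leaf 2382) (.leaf 0)))) (.node (.node (.node (.leaf 15837) (.leaf 7382)) (.node (.leaf 16690) (.leaf 0))) (.node (.node (.leaf 8863) (.leaf 0)) (.node (.leaf 7114) (.leaf 0)))))) (.node (.node (.node (.node (.node (.leaf 5884) (.leaf 9008)) (.node (.leaf 21498) (.leaf 0))) (.node (.node (.leaf 18826) (.leaf 1283)) (.node (.leaf 147) (.leaf 0)))) (.node (.node (.node (.leaf 2474) (.leaf 11732)) (.node (.leaf 5429) (.leaf 0))) (.node (.node (.leaf 6979) (.leaf 0)) (.node (.leaf 17411) (.leaf 0))))) (.node (.node (.node (.node (.leaf 662) (.leaf 12886)) (.node (.leaf 7327) (.leaf 0))) (.node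 (.node (.leaf 8052) (.leaf 0)) (.node (.leaf 10415) (.leaf 0)))) (.node (.node (.node (.leaf 10585) (.leaf 2826)) (.node (.leaf 13822) (.leaf 0))) (.node (.node (.leaf 411) (.leaf 0)) (.node (.leaf 15000) (.leaf 0))))))) (.node (.node (.node (.node (.node (.node (.leaf 4719) (.leaf 2162)) (.node (.leaf 20840) (.leaf 0))) (.node (.node (.leaf 19515) (.leaf 15516)) (.node (.leaf 6336) (.leaf 0)))) (.node (.node (.node (.leaf 12649) (.leaf 8595)) (.node (.leaf 16133) (.leaf 0))) (.node (.node (.leaf 6338) (.leaf 0)) (.node (.leaf 17839) (.leaf 0))))) (.node (.node (.node (.node (.leaf 1857) (.leaf 20157)) (.node (.leaf 13175) (.leaf 0))) (.node (.node (.leaf 14441) (.leaf 0)) (.node (.leaf 12254) (.leaf 0)))) (.node (.node (.node (.leaf 13847) (.leaf 17783)) (.node (.leaf 9941) (.leaf 0))) (.node (.node (.leaf 4551) (.leaf 0)) (.node (.leaf 10015) (.leaf 0)))))) (.node (.node (.node (.node (.node (.leaf 3743) (.leaf 5657)) (.node (.leaf 4889) (.leaf 0))) (.node (.node (.leaf 13469) (.leaf 15514)) (.node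 (.leaf 3472) (.leaf 0)))) (.node (.node (.node (.leaf 19569) (.leaf 9197)) (.node (.leaf 2262) (.leaf 0))) (.node (.node (.leaf 15435) (.leaf 0)) (.node (.leaf 10566) (.leaf 0))))) (.node (.node (.node (.node (.leaf 11601) (.leaf 17868)) (.node (.leaf 17965) (.leaf 0))) (.node (.node (.leaf 20830) (.leaf 0)) (.node (.leaf 10860) (.leaf 0)))) (.node (.node (.node (.leaf 11305) (.leaf 15699)) (.node (.leaf 1931) (.leaf 0))) (.node (.node (.leaf 6104) (.leaf 0)) (.node (.leaf 19021) (.leaf 0)))))))))

/-- part of a table -/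
def ordM47 : Trie := (.node (.node (.node (.node (.node (.node (.node (.node (.leaf 13083) (.leaf 12142)) (.node (.leaf 9074) (.leaf 0))) (.node (.node (.leaf 5335) (.leaf 2441)) (.node (.leaf 12490) (.leaf 0)))) (.node (.node (.node (.leaf 11710) (.leaf 21466)) (.node (.leaf 13728) (.leaf 0))) (.node (.node (.leaf 4360) (.leaf 0)) (.node (.leaf 17894) (.leaf 0))))) (.node (.node (.node (.node (.leaf 20756) (.leaf 10935)) (.node (.leaf 6772) (.leaf 0))) (.node (.node (.leaf 1161) (.leaf 0)) (.node (.leaf 11721) (.leaf 0)))) (.node (.node (.node (.leaf 18052) (.leaf 8067)) (.node (.leaf 7503) (.leaf 0))) (.node (.node (.leaf 11643) (.leaf 0)) (.node (.leaf 18841) (.leaf 0)))))) (.node (.node (.node (.node (.node (.leaf 10360) (.leaf 15421)) (.node (.leaf 19507) (.leaf 0))) (.node (.node (.leaf 19013) (.leaf 10209)) (.node (.leaf 10773) (.leaf 0)))) (.node (.node (.node (.leaf 15830) (.leaf 8302)) (.node (.leaf 7686) (.leaf 0))) (.node (.node (.leaf 6743) (.leaf 0)) (.node (.leaf 2153) (.leaf 0)))))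 (.node (.node (.node (.node (.leaf 16246) (.leaf 1775)) (.node (.leaf 8281) (.leaf 0))) (.node (.node (.leaf 8042) (.leaf 0)) (.node (.leaf 7289) (.leaf 0)))) (.node (.node (.node (.leaf 19699) (.leaf 8221)) (.node (.leaf 8881) (.leaf 0))) (.node (.node (.leaf 8153) (.leaf 0)) (.node (.leaf 3941) (.leaf 0))))))) (.node (.node (.node (.node (.node (.node (.leaf 14309) (.leaf 17144)) (.node (.leaf 7461) (.leaf 0))) (.node (.node (.leaf 10065) (.leaf 461)) (.node (.leaf 6342) (.leaf 0)))) (.node (.node (.node (.leaf 600) (.leaf 819)) (.node (.leaf 1204) (.leaf 0))) (.node (.node (.leaf 398) (.leaf 0)) (.node (.leaf 15052) (.leaf 0))))) (.node (.node (.node (.node (.leaf 17897) (.leaf 637)) (.node (.leaf 20753) (.leaf 0))) (.node (.node (.leaf 11403) (.leaf 0)) (.node (.leaf 15614) (.leaf 0)))) (.node (.node (.node (.leaf 11483) (.leaf 4034)) (.node (.leaf 16268) (.leaf 0))) (.node (.node (.leaf 9465) (.leaf 0)) (.node (.leaf 15234) (.leaf 0)))))) (.node (.node (.node (.node (.node (.leaf 10559) (.leaf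 12205)) (.node (.leaf 21053) (.leaf 0))) (.node (.node (.leaf 16341) (.leaf 2501)) (.node (.leaf 7524) (.leaf 0)))) (.node (.node (.node (.leaf 6845) (.leaf 2045)) (.node (.leaf 15710) (.leaf 0))) (.node (.node (.leaf 12583) (.leaf 0)) (.node (.leaf 12072) (.leaf 0))))) (.node (.node (.node (.node (.leaf 13028) (.leaf 5439)) (.node (.leaf 1008) (.leaf 0))) (.node (.node (.leaf 19836) (.leaf 0)) (.node (.leaf 16677) (.leaf 0)))) (.node (.node (.node (.leaf 3016) (.leaf 12974)) (.node (.leaf 19927) (.leaf 0))) (.node (.node (.leaf 12669) (.leaf 0)) (.node (.leaf 15577) (.leaf 0)))))))) (.node (.node (.node (.node (.node (.node (.node (.leaf 8802) (.leaf 20498)) (.node (.leaf 20048) (.leaf 0))) (.node (.node (.leaf 3481) (.leaf 18036)) (.node (.leaf 5756) (.leaf 0)))) (.node (.node (.node (.leaf 14562) (.leaf 12838)) (.node (.leaf 4393) (.leaf 0))) (.node (.node (.leaf 6633) (.leaf 0)) (.node (.leaf 9961) (.leaf 0))))) (.node (.node (.node (.node (.leaf 18806) (.leaf 5420)) (.node (.leaf 8490) (.leaf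 0))) (.node (.node (.leaf 19313) (.leaf 0)) (.node (.leaf 4584) (.leaf 0)))) (.node (.node (.node (.leaf 16669) (.leaf 18098)) (.node (.leaf 13913) (.leaf 0))) (.node (.node (.leaf 11562) (.leaf 0)) (.node (.leaf 4422) (.leaf 0)))))) (.node (.node (.node (.node (.node (.leaf 13327) (.leaf 529)) (.node (.leaf 20738) (.leaf 0))) (.node (.node (.leaf 4165) (.leaf 3909)) (.node (.leaf 420) (.leaf 0)))) (.node (.node (.node (.leaf 4522) (.leaf 3749)) (.node (.leaf 13707) (.leaf 0))) (.node (.node (.leaf 15362) (.leaf 0)) (.node (.leaf 15087) (.leaf 0))))) (.node (.node (.node (.node (.leaf 7787) (.leaf 13371)) (.node (.leaf 2372) (.leaf 0))) (.node (.node (.leaf 21032) (.leaf 0)) (.node (.leaf 6936) (.leaf 0)))) (.node (.node (.node (.leaf 12153) (.leaf 7910)) (.node (.leaf 1034) (.leaf 0))) (.node (.node (.leaf 4658) (.leaf 0)) (.node (.leaf 16641) (.leaf 0))))))) (.node (.node (.node (.node (.node (.node (.leaf 12517) (.leaf 2938)) (.node (.leaf 4047) (.leaf 0))) (.node (.node (.leaf 2904) (.leaf 9274))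 (.node (.leaf 18264) (.leaf 0)))) (.node (.node (.node (.leaf 20552) (.leaf 3137)) (.node (.leaf 7492) (.leaf 0))) (.node (.node (.leaf 373) (.leaf 0)) (.node (.leaf 13579) (.leaf 0))))) (.node (.node (.node (.node (.leaf 18319) (.leaf 12010)) (.node (.leaf 4450) (.leaf 0))) (.node (.node (.leaf 7493) (.leaf 0)) (.node (.leaf 18994) (.leaf 0)))) (.node (.node (.node (.leaf 8567) (.leaf 8285)) (.node (.leaf 18514) (.leaf 0))) (.node (.node (.leaf 2210) (.leaf 0)) (.node (.leaf 620) (.leaf 0)))))) (.node (.node (.node (.node (.node (.leaf 5329) (.leaf 19061)) (.node (.leaf 12571) (.leaf 0))) (.node (.node (.leaf 18022) (.leaf 5287)) (.node (.leaf 379) (.leaf 0)))) (.node (.node (.node (.leaf 3800) (.leaf 5802)) (.node (.leaf 2419) (.leaf 0))) (.node (.node (.leaf 17980) (.leaf 0)) (.node (.leaf 15869) (.leaf 0))))) (.node (.node (.node (.node (.leaf 3815) (.leaf 1949)) (.node (.leaf 16583) (.leaf 0))) (.node (.node (.leaf 13384) (.leaf 0)) (.node (.leaf 9587) (.leaf 0)))) (.node (.node (.node (.leaf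 20842) (.leaf 20406)) (.node (.leaf 6056) (.leaf 0))) (.node (.node (.leaf 8422) (.leaf 0)) (.node (.leaf 14847) (.leaf 0)))))))))

/-- part of a table -/
def ordM48 : Trie := (.node (.node (.node (.node (.node (.node (.node (.node (.leaf 4938) (.leaf 3618)) (.node (.leaf 8662) (.leaf 0))) (.node (.node (.leaf 9755) (.leaf 944)) (.node (.leaf 20737) (.leaf 0)))) (.node (.node (.node (.leaf 13575) (.leaf 21294)) (.node (.leaf 12234) (.leaf 0))) (.node (.node (.leaf 3141) (.leaf 0)) (.node (.leaf 18949) (.leaf 0))))) (.node (.node (.node (.node (.leaf 15245) (.leaf 11035)) (.node (.leaf 18566) (.leaf 0))) (.node (.node (.leaf 16330) (.leaf 0)) (.node (.leaf 9846) (.leaf 0)))) (.node (.node (.node (.leaf 1648) (.leaf 148)) (.node (.leaf 15627) (.leaf 0))) (.node (.node (.leaf 406) (.leaf 0)) (.node (.leaf 3456) (.leaf 0)))))) (.node (.node (.node (.node (.node (.leaf 13565) (.leaf 4074)) (.node (.leaf 20943) (.leaf 0))) (.node (.node (.leaf 13807) (.leaf 15304)) (.node (.leaf 17296) (.leaf 0)))) (.node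 (.node (.node (.leaf 5171) (.leaf 20091)) (.node (.leaf 7785) (.leaf 0))) (.node (.node (.leaf 2196) (.leaf 0)) (.node (.leaf 14693) (.leaf 0))))) (.node (.node (.node (.node (.leaf 17001) (.leaf 8208)) (.node (.leaf 9607) (.leaf 0))) (.node (.node (.leaf 19136) (.leaf 0)) (.node (.leaf 3531) (.leaf 0)))) (.node (.node (.node (.leaf 12444) (.leaf 8854)) (.node (.leaf 12341) (.leaf 0))) (.node (.node (.leaf 8868) (.leaf 0)) (.node (.leaf 2145) (.leaf 0))))))) (.node (.node (.node (.node (.node (.node (.leaf 19934) (.leaf 11871)) (.node (.leaf 5973) (.leaf 0))) (.node (.node (.leaf 16712) (.leaf 3798)) (.node (.leaf 4139) (.leaf 0)))) (.node (.node (.node (.leaf 14630) (.leaf 7556)) (.node (.leaf 1267) (.leaf 0))) (.node (.node (.leaf 9419) (.leaf 0)) (.node (.leaf 1922) (.leaf 0))))) (.node (.node (.node (.node (.leaf 16336) (.leaf 14010)) (.node (.leaf 4917) (.leaf 0))) (.node (.node (.leaf 6220) (.leaf 0)) (.node (.leaf 11979) (.leaf 0)))) (.node (.node (.node (.leaf 12973) (.leaf 5636)) (.node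 (.leaf 20174) (.leaf 0))) (.node (.node (.leaf 14305) (.leaf 0)) (.node (.leaf 17116) (.leaf 0)))))) (.node (.node (.node (.node (.node (.leaf 5582) (.leaf 11285)) (.node (.leaf 9259) (.leaf 0))) (.node (.node (.leaf 19347) (.leaf 9130)) (.node (.leaf 10448) (.leaf 0)))) (.node (.node (.node (.leaf 774) (.leaf 11854)) (.node (.leaf 20279) (.leaf 0))) (.node (.node (.leaf 11686) (.leaf 0)) (.node (.leaf 15040) (.leaf 0))))) (.node (.node (.node (.node (.leaf 14255) (.leaf 4211)) (.node (.leaf 15974) (.leaf 0))) (.node (.node (.leaf 2266) (.leaf 0)) (.node (.leaf 5903) (.leaf 0)))) (.node (.node (.node (.leaf 19123) (.leaf 9593)) (.node (.leaf 7322) (.leaf 0))) (.node (.node (.leaf 9390) (.leaf 0)) (.node (.leaf 6184) (.leaf 0)))))))) (.node (.node (.node (.node (.node (.node (.node (.leaf 1071) (.leaf 6546)) (.node (.leaf 15059) (.leaf 0))) (.node (.node (.leaf 8184) (.leaf 919)) (.node (.leaf 11944) (.leaf 0)))) (.node (.node (.node (.leaf 8779) (.leaf 5387)) (.node (.leaf 1512) (.leaf 0))) (.node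 (.node (.leaf 2789) (.leaf 0)) (.node (.leaf 5376) (.leaf 0))))) (.node (.node (.node (.node (.leaf 19949) (.leaf 20974)) (.node (.leaf 8573) (.leaf 0))) (.node (.node (.leaf 8479) (.leaf 0)) (.node (.leaf 2739) (.leaf 0)))) (.node (.node (.node (.leaf 16587) (.leaf 2859)) (.node (.leaf 11743) (.leaf 0))) (.node (.node (.leaf 13726) (.leaf 0)) (.node (.leaf 4206) (.leaf 0)))))) (.node (.node (.node (.node (.node (.leaf 11523) (.leaf 12767)) (.node (.leaf 9630) (.leaf 0))) (.node (.node (.leaf 20856) (.leaf 21496)) (.node (.leaf 20805) (.leaf 0)))) (.node (.node (.node (.leaf 6389) (.leaf 16818)) (.node (.leaf 1569) (.leaf 0))) (.node (.node (.leaf 18738) (.leaf 0)) (.node (.leaf 5841) (.leaf 0))))) (.node (.node (.node (.node (.leaf 14892) (.leaf 10222)) (.node (.leaf 14603) (.leaf 0))) (.node (.node (.leaf 13484) (.leaf 0)) (.node (.leaf 196) (.leaf 0)))) (.node (.node (.node (.leaf 9003) (.leaf 9468)) (.node (.leaf 4932) (.leaf 0))) (.node (.node (.leaf 199) (.leaf 0)) (.node (.leaf 14291) (.leaf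 0))))))) (.node (.node (.node (.node (.node (.node (.leaf 17270) (.leaf 1215)) (.node (.leaf 587) (.leaf 0))) (.node (.node (.leaf 16117) (.leaf 2420)) (.node (.leaf 3212) (.leaf 0)))) (.node (.node (.node (.leaf 16800) (.leaf 15892)) (.node (.leaf 15846) (.leaf 0))) (.node (.node (.leaf 16872) (.leaf 0)) (.node (.leaf 9378) (.leaf 0))))) (.node (.node (.node (.node (.leaf 8116) (.leaf 13143)) (.node (.leaf 9286) (.leaf 0))) (.node (.node (.leaf 2939) (.leaf 0)) (.node (.leaf 5894) (.leaf 0)))) (.node (.node (.node (.leaf 18895) (.leaf 21384)) (.node (.leaf 19216) (.leaf 0))) (.node (.node (.leaf 5669) (.leaf 0)) (.node (.leaf 14006) (.leaf 0)))))) (.node (.node (.node (.node (.node (.leaf 13998) (.leaf 2528)) (.node (.leaf 4247) (.leaf 0))) (.node (.node (.leaf 10155) (.leaf 20862)) (.node (.leaf 20725) (.leaf 0)))) (.node (.node (.node (.leaf 15374) (.leaf 16720)) (.node (.leaf 6475) (.leaf 0))) (.node (.node (.leaf 4151) (.leaf 0)) (.node (.leaf 16069) (.leaf 0))))) (.node (.node (.node (.node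 (.leaf 20668) (.leaf 2030)) (.node (.leaf 68) (.leaf 0))) (.node (.node (.leaf 15339) (.leaf 0)) (.node (.leaf 17398) (.leaf 0)))) (.node (.node (.node (.leaf 21262) (.leaf 4453)) (.node (.leaf 19721) (.leaf 0))) (.node (.node (.leaf 3157) (.leaf 0)) (.node (.leaf 14533) (.leaf 0)))))))))

/-- part of a table -/
def ordM49 : Trie := (.node (.node (.node (.node (.node (.node (.node (.node (.leaf 11178) (.leaf 16434)) (.node (.leaf 14523) (.leaf 0))) (.node (.node (.leaf 4466) (.leaf 12640)) (.node (.leaf 12792) (.leaf 0)))) (.node (.node (.node (.leaf 20579) (.leaf 5798)) (.node (.leaf 19544) (.leaf 0))) (.node (.node (.leaf 1015) (.leaf 0)) (.node (.leaf 10149) (.leaf 0))))) (.node (.node (.node (.node (.leaf 10567) (.leaf 15704)) (.node (.leaf 18175) (.leaf 0))) (.node (.node (.leaf 4973) (.leaf 0)) (.node (.leaf 2748) (.leaf 0)))) (.node (.node (.node (.leaf 2581) (.leaf 2762)) (.node (.leaf 16585) (.leaf 0))) (.node (.node (.leaf 5051) (.leaf 0)) (.node (.leaf 2018) (.leaf 0)))))) (.node (.node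 (.node (.node (.node (.leaf 20060) (.leaf 19849)) (.node (.leaf 19605) (.leaf 0))) (.node (.node (.leaf 20179) (.leaf 13872)) (.node (.leaf 9460) (.leaf 0)))) (.node (.node (.node (.leaf 13795) (.leaf 15097)) (.node (.leaf 6674) (.leaf 0))) (.node (.node (.leaf 9673) (.leaf 0)) (.node (.leaf 16095) (.leaf 0))))) (.node (.node (.node (.node (.leaf 12507) (.leaf 6711)) (.node (.leaf 3424) (.leaf 0))) (.node (.node (.leaf 8156) (.leaf 0)) (.node (.leaf 209) (.leaf 0)))) (.node (.node (.node (.leaf 13752) (.leaf 14482)) (.node (.leaf 7078) (.leaf 0))) (.node (.node (.leaf 17993) (.leaf 0)) (.node (.leaf 4561) (.leaf 0))))))) (.node (.node (.node (.node (.node (.node (.leaf 17959) (.leaf 7306)) (.node (.leaf 4788) (.leaf 0))) (.node (.node (.leaf 20321) (.leaf 2407)) (.node (.leaf 11464) (.leaf 0)))) (.node (.node (.node (.leaf 17877) (.leaf 18183)) (.node (.leaf 10499) (.leaf 0))) (.node (.node (.leaf 4752) (.leaf 0)) (.node (.leaf 17150) (.leaf 0))))) (.node (.node (.node (.node (.leaf 17295) (.leaf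 3830)) (.node (.leaf 12347) (.leaf 0))) (.node (.node (.leaf 16008) (.leaf 0)) (.node (.leaf 16463) (.leaf 0)))) (.node (.node (.node (.leaf 21414) (.leaf 12144)) (.node (.leaf 12678) (.leaf 0))) (.node (.node (.leaf 5525) (.leaf 0)) (.node (.leaf 13667) (.leaf 0)))))) (.node (.node (.node (.node (.node (.leaf 13841) (.leaf 15145)) (.node (.leaf 15224) (.leaf 0))) (.node (.node (.leaf 10148) (.leaf 5826)) (.node (.leaf 19169) (.leaf 0)))) (.node (.node (.node (.leaf 2049) (.leaf 957)) (.node (.leaf 5801) (.leaf 0))) (.node (.node (.leaf 15232) (.leaf 0)) (.node (.leaf 14364) (.leaf 0))))) (.node (.node (.node (.node (.leaf 5016) (.leaf 20841)) (.node (.leaf 7183) (.leaf 0))) (.node (.node (.leaf 6815) (.leaf 0)) (.node (.leaf 9188) (.leaf 0)))) (.node (.node (.node (.leaf 20888) (.leaf 1866)) (.node (.leaf 11884) (.leaf 0))) (.node (.node (.leaf 14356) (.leaf 0)) (.node (.leaf 11273) (.leaf 0)))))))) (.node (.node (.node (.node (.node (.node (.node (.leaf 13360) (.leaf 17366)) (.node (.leaf 5536)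 (.leaf 0))) (.node (.node (.leaf 8459) (.leaf 12806)) (.node (.leaf 5145) (.leaf 0)))) (.node (.node (.node (.leaf 7829) (.leaf 8935)) (.node (.leaf 10823) (.leaf 0))) (.node (.node (.leaf 10619) (.leaf 0)) (.node (.leaf 10045) (.leaf 0))))) (.node (.node (.node (.node (.leaf 5238) (.leaf 11045)) (.node (.leaf 4645) (.leaf 0))) (.node (.node (.leaf 16406) (.leaf 0)) (.node (.leaf 19427) (.leaf 0)))) (.node (.node (.node (.leaf 4228) (.leaf 1239)) (.node (.leaf 12689) (.leaf 0))) (.node (.node (.leaf 4702) (.leaf 0)) (.node (.leaf 9272) (.leaf 0)))))) (.node (.node (.node (.node (.node (.leaf 4168) (.leaf 10682)) (.node (.leaf 18044) (.leaf 0))) (.node (.node (.leaf 11558) (.leaf 20495)) (.node (.leaf 12221) (.leaf 0)))) (.node (.node (.node (.leaf 2084) (.leaf 11790)) (.node (.leaf 4750) (.leaf 0))) (.node (.node (.leaf 20884) (.leaf 0)) (.node (.leaf 8946) (.leaf 0))))) (.node (.node (.node (.node (.leaf 1164) (.leaf 4306)) (.node (.leaf 1645) (.leaf 0))) (.node (.node (.leaf 20407) (.leaf 0)) (.node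 (.leaf 3705) (.leaf 0)))) (.node (.node (.node (.leaf 19784) (.leaf 11323)) (.node (.leaf 264) (.leaf 0))) (.node (.node (.leaf 3523) (.leaf 0)) (.node (.leaf 16419) (.leaf 0))))))) (.node (.node (.node (.node (.node (.node (.leaf 17336) (.leaf 3777)) (.node (.leaf 1786) (.leaf 0))) (.node (.node (.leaf 20952) (.leaf 12453)) (.node (.leaf 1083) (.leaf 0)))) (.node (.node (.node (.leaf 1736) (.leaf 3556)) (.node (.leaf 9953) (.leaf 0))) (.node (.node (.leaf 8855) (.leaf 0)) (.node (.leaf 7344) (.leaf 0))))) (.node (.node (.node (.node (.leaf 9494) (.leaf 12463)) (.node (.leaf 18014) (.leaf 0))) (.node (.node (.leaf 2163) (.leaf 0)) (.node (.leaf 9787) (.leaf 0)))) (.node (.node (.node (.leaf 7885) (.leaf 21480)) (.node (.leaf 4689) (.leaf 0))) (.node (.node (.leaf 1925) (.leaf 0)) (.node (.leaf 19616) (.leaf 0)))))) (.node (.node (.node (.node (.node (.leaf 4195) (.leaf 14988)) (.node (.leaf 1304) (.leaf 0))) (.node (.node (.leaf 15119) (.leaf 18207)) (.node (.leaf 9475) (.leaf 0)))) (.node (.node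 (.node (.leaf 6690) (.leaf 9080)) (.node (.leaf 1445) (.leaf 0))) (.node (.node (.leaf 18221) (.leaf 0)) (.node (.leaf 17766) (.leaf 0))))) (.node (.node (.node (.node (.leaf 18798) (.leaf 7793)) (.node (.leaf 403) (.leaf 0))) (.node (.node (.leaf 18894) (.leaf 0)) (.node (.leaf 12797) (.leaf 0)))) (.node (.node (.node (.leaf 19245) (.leaf 4654)) (.node (.leaf 20936) (.leaf 0))) (.node (.node (.leaf 17177) (.leaf 0)) (.node (.leaf 11284) (.leaf 0)))))))))

/-- part of a table -/
def ordM50 : Trie := (.node (.node (.node (.node (.node (.node (.node (.node (.leaf 7657) (.leaf 6337)) (.node (.leaf 5042) (.leaf 0))) (.node (.node (.leaf 10216) (.leaf 16363)) (.node (.leaf 5113) (.leaf 0)))) (.node (.node (.node (.leaf 9844) (.leaf 8720)) (.node (.leaf 16497) (.leaf 0))) (.node (.node (.leaf 4541) (.leaf 0)) (.node (.leaf 20451) (.leaf 0))))) (.node (.node (.node (.node (.leaf 8381) (.leaf 3446)) (.node (.leaf 7579) (.leaf 0))) (.node (.node (.leaf 582) (.leaf 0)) (.node (.leaf 14365) (.leaf 0)))) (.node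 (.node (.node (.leaf 20826) (.leaf 18852)) (.node (.leaf 3172) (.leaf 0))) (.node (.node (.leaf 504) (.leaf 0)) (.node (.leaf 15521) (.leaf 0)))))) (.node (.node (.node (.node (.node (.leaf 17700) (.leaf 10834)) (.node (.leaf 10669) (.leaf 0))) (.node (.node (.leaf 13174) (.leaf 952)) (.node (.leaf 19134) (.leaf 0)))) (.node (.node (.node (.leaf 1021) (.leaf 11670)) (.node (.leaf 20267) (.leaf 0))) (.node (.node (.leaf 8123) (.leaf 0)) (.node (.leaf 1352) (.leaf 0))))) (.node (.node (.node (.node (.leaf 3852) (.leaf 20418)) (.node (.leaf 2229) (.leaf 0))) (.node (.node (.leaf 4252) (.leaf 0)) (.node (.leaf 8961) (.leaf 0)))) (.node (.node (.node (.leaf 18529) (.leaf 12407)) (.node (.leaf 13941) (.leaf 0))) (.node (.node (.leaf 12770) (.leaf 0)) (.node (.leaf 13186) (.leaf 0))))))) (.node (.node (.node (.node (.node (.node (.leaf 16545) (.leaf 1871)) (.node (.leaf 8444) (.leaf 0))) (.node (.node (.leaf 7226) (.leaf 5941)) (.node (.leaf 1774) (.leaf 0)))) (.node (.node (.node (.leaf 1265) (.leaf 1581))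 (.node (.leaf 9535) (.leaf 0))) (.node (.node (.leaf 10793) (.leaf 0)) (.node (.leaf 5098) (.leaf 0))))) (.node (.node (.node (.node (.leaf 1035) (.leaf 4694)) (.node (.leaf 13978) (.leaf 0))) (.node (.node (.leaf 3899) (.leaf 0)) (.node (.leaf 9173) (.leaf 0)))) (.node (.node (.node (.leaf 6707) (.leaf 4265)) (.node (.leaf 14450) (.leaf 0))) (.node (.node (.leaf 19493) (.leaf 0)) (.node (.leaf 11108) (.leaf 0)))))) (.node (.node (.node (.node (.node (.leaf 14677) (.leaf 4577)) (.node (.leaf 4129) (.leaf 0))) (.node (.node (.leaf 21460) (.leaf 5086)) (.node (.leaf 20143) (.leaf 0)))) (.node (.node (.node (.leaf 3616) (.leaf 21481)) (.node (.leaf 9224) (.leaf 0))) (.node (.node (.leaf 16064) (.leaf 0)) (.node (.leaf 21110) (.leaf 0))))) (.node (.node (.node (.node (.leaf 14691) (.leaf 15108)) (.node (.leaf 21425) (.leaf 0))) (.node (.node (.leaf 13767) (.leaf 0)) (.node (.leaf 4213) (.leaf 0)))) (.node (.node (.node (.leaf 18974) (.leaf 8648)) (.node (.leaf 9691) (.leaf 0))) (.node (.node (.leaf 14999)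 (.leaf 0)) (.node (.leaf 4320) (.leaf 0)))))))) (.node (.node (.node (.node (.node (.node (.node (.leaf 2940) (.leaf 829)) (.node (.leaf 1745) (.leaf 0))) (.node (.node (.leaf 9334) (.leaf 18578)) (.node (.leaf 11281) (.leaf 0)))) (.node (.node (.node (.leaf 6528) (.leaf 11423)) (.node (.leaf 20544) (.leaf 0))) (.node (.node (.leaf 18164) (.leaf 0)) (.node (.leaf 11399) (.leaf 0))))) (.node (.node (.node (.node (.leaf 5285) (.leaf 20462)) (.node (.leaf 13366) (.leaf 0))) (.node (.node (.leaf 8286) (.leaf 0)) (.node (.leaf 18524) (.leaf 0)))) (.node (.node (.node (.leaf 18563) (.leaf 17239)) (.node (.leaf 3191) (.leaf 0))) (.node (.node (.leaf 6238) (.leaf 0)) (.node (.leaf 1168) (.leaf 0)))))) (.node (.node (.node (.node (.node (.leaf 16412) (.leaf 4130)) (.node (.leaf 2271) (.leaf 0))) (.node (.node (.leaf 4895) (.leaf 7312)) (.node (.leaf 17755) (.leaf 0)))) (.node (.node (.node (.leaf 2418) (.leaf 14447)) (.node (.leaf 13572) (.leaf 0))) (.node (.node (.leaf 7083) (.leaf 0)) (.node (.leaf 14850)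 (.leaf 0))))) (.node (.node (.node (.node (.leaf 6048) (.leaf 9588)) (.node (.leaf 7982) (.leaf 0))) (.node (.node (.leaf 7909) (.leaf 0)) (.node (.leaf 16761) (.leaf 0)))) (.node (.node (.node (.leaf 10752) (.leaf 13779)) (.node (.leaf 10492) (.leaf 0))) (.node (.node (.leaf 17100) (.leaf 0)) (.node (.leaf 16692) (.leaf 0))))))) (.node (.node (.node (.node (.node (.node (.leaf 18122) (.leaf 17233)) (.node (.leaf 7622) (.leaf 0))) (.node (.node (.leaf 18287) (.leaf 3680)) (.node (.leaf 8257) (.leaf 0)))) (.node (.node (.node (.leaf 11952) (.leaf 12586)) (.node (.leaf 9202) (.leaf 0))) (.node (.node (.leaf 1818) (.leaf 0)) (.node (.leaf 18978) (.leaf 0))))) (.node (.node (.node (.node (.leaf 2704) (.leaf 5948)) (.node (.leaf 18496) (.leaf 0))) (.node (.node (.leaf 7620) (.leaf 0)) (.node (.leaf 1127) (.leaf 0)))) (.node (.node (.node (.leaf 1403) (.leaf 15617)) (.node (.leaf 2780) (.leaf 0))) (.node (.node (.leaf 116) (.leaf 0)) (.node (.leaf 19921) (.leaf 0)))))) (.node (.node (.node (.node (.node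 (.leaf 282) (.leaf 20999)) (.node (.leaf 19137) (.leaf 0))) (.node (.node (.leaf 10400) (.leaf 21391)) (.node (.leaf 12264) (.leaf 0)))) (.node (.node (.node (.leaf 4394) (.leaf 14062)) (.node (.leaf 14231) (.leaf 0))) (.node (.node (.leaf 8420) (.leaf 0)) (.node (.leaf 14352) (.leaf 0))))) (.node (.node (.node (.node (.leaf 12827) (.leaf 7074)) (.node (.leaf 14555) (.leaf 0))) (.node (.node (.leaf 10592) (.leaf 0)) (.node (.leaf 16746) (.leaf 0)))) (.node (.node (.node (.leaf 12506) (.leaf 17945)) (.node (.leaf 3125) (.leaf 0))) (.node (.node (.leaf 8734) (.leaf 0)) (.node (.leaf 4092) (.leaf 0)))))))))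

/-- part of a table -/
def ordM51 : Trie := (.node (.node (.node (.node (.node (.node (.node (.node (.leaf 18444) (.leaf 11783)) (.node (.leaf 21183) (.leaf 0))) (.node (.node (.leaf 8220) (.leaf 5449)) (.node (.leaf 6321) (.leaf 0)))) (.node (.node (.node (.leaf 800) (.leaf 3019)) (.node (.leaf 18113) (.leaf 0))) (.node (.node (.leaf 11963) (.leaf 0)) (.node (.leaf 6596) (.leaf 0))))) (.node (.node (.node (.node (.leaf 4039) (.leaf 20617)) (.node (.leaf 15545) (.leaf 0))) (.node (.node (.leaf 1791) (.leaf 0)) (.node (.leaf 19246) (.leaf 0)))) (.node (.node (.node (.leaf 14385) (.leaf 21421)) (.node (.leaf 11626) (.leaf 0))) (.node (.node (.leaf 2004) (.leaf 0)) (.node (.leaf 17353) (.leaf 0)))))) (.node (.node (.node (.node (.node (.leaf 9984) (.leaf 15490)) (.node (.leaf 7918) (.leaf 0))) (.node (.node (.leaf 19203) (.leaf 12070)) (.node (.leaf 20612) (.leaf 0)))) (.node (.node (.node (.leaf 2715) (.leaf 15787)) (.node (.leaf 12514) (.leaf 0))) (.node (.node (.leaf 20963) (.leaf 0)) (.node (.leaf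 2073) (.leaf 0))))) (.node (.node (.node (.node (.leaf 19475) (.leaf 18911)) (.node (.leaf 8472) (.leaf 0))) (.node (.node (.leaf 11130) (.leaf 0)) (.node (.leaf 14703) (.leaf 0)))) (.node (.node (.node (.leaf 16732) (.leaf 4877)) (.node (.leaf 14866) (.leaf 0))) (.node (.node (.leaf 7054) (.leaf 0)) (.node (.leaf 4671) (.leaf 0))))))) (.node (.node (.node (.node (.node (.node (.leaf 21003) (.leaf 4648)) (.node (.leaf 490) (.leaf 0))) (.node (.node (.leaf 17384) (.leaf 20028)) (.node (.leaf 18040) (.leaf 0)))) (.node (.node (.node (.leaf 4102) (.leaf 4761)) (.node (.leaf 3086) (.leaf 0))) (.node (.node (.leaf 13922) (.leaf 0)) (.node (.leaf 343) (.leaf 0))))) (.node (.node (.node (.node (.leaf 10960) (.leaf 12042)) (.node (.leaf 16184) (.leaf 0))) (.node (.node (.leaf 7628) (.leaf 0)) (.node (.leaf 5830) (.leaf 0)))) (.node (.node (.node (.leaf 12383) (.leaf 10055)) (.node (.leaf 15685) (.leaf 0))) (.node (.node (.leaf 12266) (.leaf 0)) (.node (.leaf 15177) (.leaf 0)))))) (.node (.node (.node (.node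 (.node (.leaf 4326) (.leaf 14887)) (.node (.leaf 13169) (.leaf 0))) (.node (.node (.leaf 17886) (.leaf 10285)) (.node (.leaf 19310) (.leaf 0)))) (.node (.node (.node (.leaf 17986) (.leaf 13797)) (.node (.leaf 15831) (.leaf 0))) (.node (.node (.leaf 15618) (.leaf 0)) (.node (.leaf 17692) (.leaf 0))))) (.node (.node (.node (.node (.leaf 4152) (.leaf 18132)) (.node (.leaf 14566) (.leaf 0))) (.node (.node (.leaf 19416) (.leaf 0)) (.node (.leaf 8768) (.leaf 0)))) (.node (.node (.node (.leaf 10727) (.leaf 7509)) (.node (.leaf 721) (.leaf 0))) (.node (.node (.leaf 16852) (.leaf 0)) (.node (.leaf 2373) (.leaf 0)))))))) (.node (.node (.node (.node (.node (.node (.node (.leaf 2164) (.leaf 11573)) (.node (.leaf 14785) (.leaf 0))) (.node (.node (.leaf 8530) (.leaf 9708)) (.node (.leaf 20673) (.leaf 0)))) (.node (.node (.node (.leaf 3400) (.leaf 9293)) (.node (.leaf 6442) (.leaf 0))) (.node (.node (.leaf 9227) (.leaf 0)) (.node (.leaf 17722) (.leaf 0))))) (.node (.node (.node (.node (.leaf 3569) (.leaf 4162))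 (.node (.leaf 5243) (.leaf 0))) (.node (.node (.leaf 472) (.leaf 0)) (.node (.leaf 18363) (.leaf 0)))) (.node (.node (.node (.leaf 18965) (.leaf 3515)) (.node (.leaf 14638) (.leaf 0))) (.node (.node (.leaf 16010) (.leaf 0)) (.node (.leaf 14894) (.leaf 0)))))) (.node (.node (.node (.node (.node (.leaf 3441) (.leaf 1095)) (.node (.leaf 5206) (.leaf 0))) (.node (.node (.leaf 1516) (.leaf 11875)) (.node (.leaf 13052) (.leaf 0)))) (.node (.node (.node (.leaf 17046) (.leaf 11665)) (.node (.leaf 13472) (.leaf 0))) (.node (.node (.leaf 15111) (.leaf 0)) (.node (.leaf 16461) (.leaf 0))))) (.node (.node (.node (.node (.leaf 389) (.leaf 10861)) (.node (.leaf 18752) (.leaf 0))) (.node (.node (.leaf 13630) (.leaf 0)) (.node (.leaf 10383) (.leaf 0)))) (.node (.node (.node (.leaf 19303) (.leaf 12339)) (.node (.leaf 20211) (.leaf 0))) (.node (.node (.leaf 10800) (.leaf 0)) (.node (.leaf 1846) (.leaf 0))))))) (.node (.node (.node (.node (.node (.node (.leaf 1787) (.leaf 8120)) (.node (.leaf 466) (.leaf 0))) (.node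 (.node (.leaf 13718) (.leaf 15077)) (.node (.leaf 4404) (.leaf 0)))) (.node (.node (.node (.leaf 9951) (.leaf 11924)) (.node (.leaf 3203) (.leaf 0))) (.node (.node (.leaf 11192) (.leaf 0)) (.node (.leaf 14978) (.leaf 0))))) (.node (.node (.node (.node (.leaf 20086) (.leaf 16691)) (.node (.leaf 12596) (.leaf 0))) (.node (.node (.leaf 14123) (.leaf 0)) (.node (.leaf 355) (.leaf 0)))) (.node (.node (.node (.leaf 12859) (.leaf 12344)) (.node (.leaf 2927) (.leaf 0))) (.node (.node (.leaf 639) (.leaf 0)) (.node (.leaf 4000) (.leaf 0)))))) (.node (.node (.node (.node (.node (.leaf 784) (.leaf 12246)) (.node (.leaf 8160) (.leaf 0))) (.node (.node (.leaf 7135) (.leaf 20882)) (.node (.leaf 20527) (.leaf 0)))) (.node (.node (.node (.leaf 8919) (.leaf 15822)) (.node (.leaf 17650) (.leaf 0))) (.node (.node (.leaf 14254) (.leaf 0)) (.node (.leaf 18185) (.leaf 0))))) (.node (.node (.node (.node (.leaf 13785) (.leaf 1831)) (.node (.leaf 5298) (.leaf 0))) (.node (.node (.leaf 4124) (.leaf 0)) (.node (.leaf 12979)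 (.leaf 0)))) (.node (.node (.node (.leaf 7429) (.leaf 20464)) (.node (.leaf 15503) (.leaf 0))) (.node (.node (.leaf 12598) (.leaf 0)) (.node (.leaf 19461) (.leaf 0)))))))))

/-- part of a table -/
def ordM52 : Trie := (.node (.node (.node (.node (.node (.node (.node (.node (.leaf 1432) (.leaf 13498)) (.node (.leaf 1980) (.leaf 0))) (.node (.node (.leaf 14934) (.leaf 11835)) (.node (.leaf 7256) (.leaf 0)))) (.node (.node (.node (.leaf 7162) (.leaf 11217)) (.node (.leaf 14717) (.leaf 0))) (.node (.node (.leaf 13206) (.leaf 0)) (.node (.leaf 19410) (.leaf 0))))) (.node (.node (.node (.node (.leaf 8927) (.leaf 14549)) (.node (.leaf 7494) (.leaf 0))) (.node (.node (.leaf 8516) (.leaf 0)) (.node (.leaf 8379) (.leaf 0)))) (.node (.node (.node (.leaf 17742) (.leaf 11352)) (.node (.leaf 4887) (.leaf 0))) (.node (.node (.leaf 7803) (.leaf 0)) (.node (.leaf 2483) (.leaf 0)))))) (.node (.node (.node (.node (.node (.leaf 12098) (.leaf 14355)) (.node (.leaf 7130) (.leaf 0))) (.node (.node (.leaf 14224) (.leaf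 5579)) (.node (.leaf 18672) (.leaf 0)))) (.node (.node (.node (.leaf 13632) (.leaf 4186)) (.node (.leaf 5779) (.leaf 0))) (.node (.node (.leaf 19077) (.leaf 0)) (.node (.leaf 12207) (.leaf 0))))) (.node (.node (.node (.node (.leaf 18764) (.leaf 6643)) (.node (.leaf 17960) (.leaf 0))) (.node (.node (.leaf 16736) (.leaf 0)) (.node (.leaf 6972) (.leaf 0)))) (.node (.node (.node (.leaf 14026) (.leaf 16264)) (.node (.leaf 20195) (.leaf 0))) (.node (.node (.leaf 14651) (.leaf 0)) (.node (.leaf 14759) (.leaf 0))))))) (.node (.node (.node (.node (.node (.node (.leaf 8979) (.leaf 13235)) (.node (.leaf 6419) (.leaf 0))) (.node (.node (.leaf 12375) (.leaf 13003)) (.node (.leaf 20718) (.leaf 0)))) (.node (.node (.node (.leaf 3426) (.leaf 11364)) (.node (.leaf 6650) (.leaf 0))) (.node (.node (.leaf 19474) (.leaf 0)) (.node (.leaf 12192) (.leaf 0))))) (.node (.node (.node (.node (.leaf 8624) (.leaf 11094)) (.node (.leaf 20847) (.leaf 0))) (.node (.node (.leaf 4062) (.leaf 0)) (.node (.leaf 11733) (.leaf 0))))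 (.node (.node (.node (.leaf 14040) (.leaf 4924)) (.node (.leaf 5871) (.leaf 0))) (.node (.node (.leaf 111) (.leaf 0)) (.node (.leaf 4412) (.leaf 0)))))) (.node (.node (.node (.node (.node (.leaf 3355) (.leaf 2381)) (.node (.leaf 16299) (.leaf 0))) (.node (.node (.leaf 16202) (.leaf 21402)) (.node (.leaf 5469) (.leaf 0)))) (.node (.node (.node (.leaf 4563) (.leaf 8426)) (.node (.leaf 8049) (.leaf 0))) (.node (.node (.leaf 6605) (.leaf 0)) (.node (.leaf 7708) (.leaf 0))))) (.node (.node (.node (.node (.leaf 8885) (.leaf 18406)) (.node (.leaf 11907) (.leaf 0))) (.node (.node (.leaf 6445) (.leaf 0)) (.node (.leaf 16522) (.leaf 0)))) (.node (.node (.node (.leaf 19164) (.leaf 19663)) (.node (.leaf 5265) (.leaf 0))) (.node (.node (.leaf 1186) (.leaf 0)) (.node (.leaf 10461) (.leaf 0)))))))) (.node (.node (.node (.node (.node (.node (.node (.leaf 751) (.leaf 17941)) (.node (.leaf 1961) (.leaf 0))) (.node (.node (.leaf 9236) (.leaf 4121)) (.node (.leaf 324) (.leaf 0)))) (.node (.node (.node (.leaf 3309) (.leaf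 20627)) (.node (.leaf 17309) (.leaf 0))) (.node (.node (.leaf 7028) (.leaf 0)) (.node (.leaf 5602) (.leaf 0))))) (.node (.node (.node (.node (.leaf 10189) (.leaf 2864)) (.node (.leaf 17247) (.leaf 0))) (.node (.node (.leaf 1220) (.leaf 0)) (.node (.leaf 9886) (.leaf 0)))) (.node (.node (.node (.leaf 2774) (.leaf 19786)) (.node (.leaf 20357) (.leaf 0))) (.node (.node (.leaf 8789) (.leaf 0)) (.node (.leaf 11012) (.leaf 0)))))) (.node (.node (.node (.node (.node (.leaf 1709) (.leaf 12178)) (.node (.leaf 15237) (.leaf 0))) (.node (.node (.leaf 16088) (.leaf 16939)) (.node (.leaf 7088) (.leaf 0)))) (.node (.node (.node (.leaf 13295) (.leaf 1544)) (.node (.leaf 20811) (.leaf 0))) (.node (.node (.leaf 4611) (.leaf 0)) (.node (.leaf 19062) (.leaf 0))))) (.node (.node (.node (.node (.leaf 11731) (.leaf 20412)) (.node (.leaf 7102) (.leaf 0))) (.node (.node (.leaf 9373) (.leaf 0)) (.node (.leaf 18311) (.leaf 0)))) (.node (.node (.node (.leaf 19183) (.leaf 270)) (.node (.leaf 12386) (.leaf 0))) (.node (.node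 (.leaf 11262) (.leaf 0)) (.node (.leaf 6681) (.leaf 0))))))) (.node (.node (.node (.node (.node (.node (.leaf 8291) (.leaf 15484)) (.node (.leaf 15861) (.leaf 0))) (.node (.node (.leaf 3318) (.leaf 8821)) (.node (.leaf 16433) (.leaf 0)))) (.node (.node (.node (.leaf 10007) (.leaf 12843)) (.node (.leaf 16742) (.leaf 0))) (.node (.node (.leaf 18408) (.leaf 0)) (.node (.leaf 9740) (.leaf 0))))) (.node (.node (.node (.node (.leaf 990) (.leaf 4009)) (.node (.leaf 14687) (.leaf 0))) (.node (.node (.leaf 1964) (.leaf 0)) (.node (.leaf 18599) (.leaf 0)))) (.node (.node (.node (.leaf 8765) (.leaf 4907)) (.node (.leaf 18276) (.leaf 0))) (.node (.node (.leaf 18238) (.leaf 0)) (.node (.leaf 12871) (.leaf 0)))))) (.node (.node (.node (.node (.node (.leaf 818) (.leaf 17178)) (.node (.leaf 14479) (.leaf 0))) (.node (.node (.leaf 1487) (.leaf 6138)) (.node (.leaf 2866) (.leaf 0)))) (.node (.node (.node (.leaf 2177) (.leaf 7204)) (.node (.leaf 8405) (.leaf 0))) (.node (.node (.leaf 17018) (.leaf 0)) (.node (.leaf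 18037) (.leaf 0))))) (.node (.node (.node (.node (.leaf 19252) (.leaf 11975)) (.node (.leaf 13479) (.leaf 0))) (.node (.node (.leaf 11337) (.leaf 0)) (.node (.leaf 3866) (.leaf 0)))) (.node (.node (.node (.leaf 6771) (.leaf 10699)) (.node (.leaf 20345) (.leaf 0))) (.node (.node (.leaf 14740) (.leaf 0)) (.node (.leaf 912) (.leaf 0)))))))))

/-- part of a table -/
def ordM53 : Trie := (.node (.node (.node (.node (.node (.node (.node (.node (.leaf 2093) (.leaf 15795)) (.node (.leaf 5496) (.leaf 0))) (.node (.node (.leaf 8270) (.leaf 824)) (.node (.leaf 14155) (.leaf 0)))) (.node (.node (.node (.leaf 15320) (.leaf 20827)) (.node (.leaf 18811) (.leaf 0))) (.node (.node (.leaf 17858) (.leaf 0)) (.node (.leaf 9867) (.leaf 0))))) (.node (.node (.node (.node (.leaf 3607) (.leaf 18215)) (.node (.leaf 14442) (.leaf 0))) (.node (.node (.leaf 20850) (.leaf 0)) (.node (.leaf 45) (.leaf 0)))) (.node (.node (.node (.leaf 14403) (.leaf 4370)) (.node (.leaf 11700) (.leaf 0))) (.node (.node (.leaf 13690) (.leaf 0))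 (.node (.leaf 712) (.leaf 0)))))) (.node (.node (.node (.node (.node (.leaf 1284) (.leaf 13884)) (.node (.leaf 4145) (.leaf 0))) (.node (.node (.leaf 13999) (.leaf 14284)) (.node (.leaf 11757) (.leaf 0)))) (.node (.node (.node (.leaf 1050) (.leaf 5169)) (.node (.leaf 12270) (.leaf 0))) (.node (.node (.leaf 18487) (.leaf 0)) (.node (.leaf 2833) (.leaf 0))))) (.node (.node (.node (.node (.leaf 11019) (.leaf 1555)) (.node (.leaf 11813) (.leaf 0))) (.node (.node (.leaf 11081) (.leaf 0)) (.node (.leaf 15275) (.leaf 0)))) (.node (.node (.node (.leaf 11545) (.leaf 20022)) (.node (.leaf 18491) (.leaf 0))) (.node (.node (.leaf 6158) (.leaf 0)) (.node (.leaf 7529) (.leaf 0))))))) (.node (.node (.node (.node (.node (.node (.leaf 542) (.leaf 14168)) (.node (.leaf 12889) (.leaf 0))) (.node (.node (.leaf 12123) (.leaf 18069)) (.node (.leaf 17548) (.leaf 0)))) (.node (.node (.node (.leaf 3136) (.leaf 12650)) (.node (.leaf 4897) (.leaf 0))) (.node (.node (.leaf 7546) (.leaf 0)) (.node (.leaf 5124) (.leaf 0)))))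 (.node (.node (.node (.node (.leaf 1368) (.leaf 3536)) (.node (.leaf 6089) (.leaf 0))) (.node (.node (.leaf 129) (.leaf 0)) (.node (.leaf 9159) (.leaf 0)))) (.node (.node (.node (.leaf 13770) (.leaf 6164)) (.node (.leaf 13377) (.leaf 0))) (.node (.node (.leaf 1623) (.leaf 0)) (.node (.leaf 5963) (.leaf 0)))))) (.node (.node (.node (.node (.node (.leaf 7466) (.leaf 5615)) (.node (.leaf 15357) (.leaf 0))) (.node (.node (.leaf 18431) (.leaf 21376)) (.node (.leaf 16763) (.leaf 0)))) (.node (.node (.node (.leaf 3594) (.leaf 11863)) (.node (.leaf 2547) (.leaf 0))) (.node (.node (.leaf 15347) (.leaf 0)) (.node (.leaf 3790) (.leaf 0))))) (.node (.node (.node (.node (.leaf 17914) (.leaf 11135)) (.node (.leaf 11440) (.leaf 0))) (.node (.node (.leaf 5484) (.leaf 0)) (.node (.leaf 18822) (.leaf 0)))) (.node (.node (.node (.leaf 7685) (.leaf 14237)) (.node (.leaf 12765) (.leaf 0))) (.node (.node (.leaf 12931) (.leaf 0)) (.node (.leaf 9392) (.leaf 0)))))))) (.node (.node (.node (.node (.node (.node (.node (.leaf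 9813) (.leaf 10634)) (.node (.leaf 7952) (.leaf 0))) (.node (.node (.leaf 16865) (.leaf 12002)) (.node (.leaf 1231) (.leaf 0)))) (.node (.node (.node (.leaf 7893) (.leaf 9780)) (.node (.leaf 1723) (.leaf 0))) (.node (.node (.leaf 12651) (.leaf 0)) (.node (.leaf 5149) (.leaf 0))))) (.node (.node (.node (.node (.leaf 7563) (.leaf 7907)) (.node (.leaf 12685) (.leaf 0))) (.node (.node (.leaf 2603) (.leaf 0)) (.node (.leaf 11506) (.leaf 0)))) (.node (.node (.node (.leaf 1737) (.leaf 16537)) (.node (.leaf 12743) (.leaf 0))) (.node (.node (.leaf 569) (.leaf 0)) (.node (.leaf 11982) (.leaf 0)))))) (.node (.node (.node (.node (.node (.leaf 1106) (.leaf 19585)) (.node (.leaf 20343) (.leaf 0))) (.node (.node (.leaf 1879) (.leaf 1563)) (.node (.leaf 4945) (.leaf 0)))) (.node (.node (.node (.leaf 2646) (.leaf 17102)) (.node (.leaf 6291) (.leaf 0))) (.node (.node (.leaf 9161) (.leaf 0)) (.node (.leaf 5658) (.leaf 0))))) (.node (.node (.node (.node (.leaf 7858) (.leaf 12870)) (.node (.leaf 14819) (.leaf 0))) (.node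 (.node (.leaf 10757) (.leaf 0)) (.node (.leaf 8611) (.leaf 0)))) (.node (.node (.node (.leaf 16424) (.leaf 4628)) (.node (.leaf 4869) (.leaf 0))) (.node (.node (.leaf 17682) (.leaf 0)) (.node (.leaf 5121) (.leaf 0))))))) (.node (.node (.node (.node (.node (.node (.leaf 6692) (.leaf 1255)) (.node (.leaf 6067) (.leaf 0))) (.node (.node (.leaf 16226) (.leaf 2656)) (.node (.leaf 18100) (.leaf 0)))) (.node (.node (.node (.leaf 15698) (.leaf 13791)) (.node (.leaf 7665) (.leaf 0))) (.node (.node (.leaf 9195) (.leaf 0)) (.node (.leaf 9127) (.leaf 0))))) (.node (.node (.node (.node (.leaf 2593) (.leaf 21008)) (.node (.leaf 13303) (.leaf 0))) (.node (.node (.leaf 5428) (.leaf 0)) (.node (.leaf 13494) (.leaf 0)))) (.node (.node (.node (.leaf 19019) (.leaf 6602)) (.node (.leaf 21201) (.leaf 0))) (.node (.node (.leaf 12195) (.leaf 0)) (.node (.leaf 17223) (.leaf 0)))))) (.node (.node (.node (.node (.node (.leaf 12007) (.leaf 9070)) (.node (.leaf 21230) (.leaf 0))) (.node (.node (.leaf 6895) (.leaf 16514)) (.node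 (.leaf 1395) (.leaf 0)))) (.node (.node (.node (.leaf 1290) (.leaf 883)) (.node (.leaf 13616) (.leaf 0))) (.node (.node (.leaf 19568) (.leaf 0)) (.node (.leaf 9432) (.leaf 0))))) (.node (.node (.node (.node (.leaf 11160) (.leaf 17948)) (.node (.leaf 20360) (.leaf 0))) (.node (.node (.leaf 16066) (.leaf 0)) (.node (.leaf 1137) (.leaf 0)))) (.node (.node (.node (.leaf 11341) (.leaf 3744)) (.node (.leaf 17123) (.leaf 0))) (.node (.node (.leaf 15924) (.leaf 0)) (.node (.leaf 12901) (.leaf 0)))))))))

/-- part of a table -/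
def ordM54 : Trie := (.node (.node (.node (.node (.node (.node (.node (.node (.leaf 11235) (.leaf 3540)) (.node (.leaf 13554) (.leaf 0))) (.node (.node (.leaf 17685) (.leaf 19648)) (.node (.leaf 6737) (.leaf 0)))) (.node (.node (.node (.leaf 10089) (.leaf 361)) (.node (.leaf 20303) (.leaf 0))) (.node (.node (.leaf 5001) (.leaf 0)) (.node (.leaf 20775) (.leaf 0))))) (.node (.node (.node (.node (.leaf 20691) (.leaf 219)) (.node (.leaf 4720) (.leaf 0))) (.node (.node (.leaf 8433) (.leaf 0)) (.node (.leaf 19846) (.leaf 0)))) (.node (.node (.node (.leaf 13592) (.leaf 16923)) (.node (.leaf 21197) (.leaf 0))) (.node (.node (.leaf 14592) (.leaf 0)) (.node (.leaf 6358) (.leaf 0)))))) (.node (.node (.node (.node (.node (.leaf 19489) (.leaf 5210)) (.node (.leaf 21236) (.leaf 0))) (.node (.node (.leaf 59) (.leaf 18455)) (.node (.leaf 798) (.leaf 0)))) (.node (.node (.node (.leaf 3075) (.leaf 13908)) (.node (.leaf 12637) (.leaf 0))) (.node (.node (.leaf 11326) (.leaf 0)) (.node (.leaf 13079) (.leaf 0))))) (.node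 (.node (.node (.node (.leaf 11342) (.leaf 9999)) (.node (.leaf 16153) (.leaf 0))) (.node (.node (.leaf 20487) (.leaf 0)) (.node (.leaf 17615) (.leaf 0)))) (.node (.node (.node (.leaf 12077) (.leaf 21312)) (.node (.leaf 4894) (.leaf 0))) (.node (.node (.leaf 5616) (.leaf 0)) (.node (.leaf 10866) (.leaf 0))))))) (.node (.node (.node (.node (.node (.node (.leaf 605) (.leaf 18907)) (.node (.leaf 2395) (.leaf 0))) (.node (.node (.leaf 11202) (.leaf 4365)) (.node (.leaf 6494) (.leaf 0)))) (.node (.node (.node (.leaf 19046) (.leaf 13869)) (.node (.leaf 8596) (.leaf 0))) (.node (.node (.leaf 9875) (.leaf 0)) (.node (.leaf 12779) (.leaf 0))))) (.node (.node (.node (.node (.leaf 13784) (.leaf 6200)) (.node (.leaf 13163) (.leaf 0))) (.node (.node (.leaf 14399) (.leaf 0)) (.node (.leaf 18177) (.leaf 0)))) (.node (.node (.node (.leaf 12485) (.leaf 5622)) (.node (.leaf 2147) (.leaf 0))) (.node (.node (.leaf 1714) (.leaf 0)) (.node (.leaf 20018) (.leaf 0)))))) (.node (.node (.node (.node (.node (.leaf 12385) (.leaf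 6157)) (.node (.leaf 6793) (.leaf 0))) (.node (.node (.leaf 10883) (.leaf 11730)) (.node (.leaf 11112) (.leaf 0)))) (.node (.node (.node (.leaf 13496) (.leaf 13633)) (.node (.leaf 16740) (.leaf 0))) (.node (.node (.leaf 2808) (.leaf 0)) (.node (.leaf 700) (.leaf 0))))) (.node (.node (.node (.node (.leaf 19947) (.leaf 7440)) (.node (.leaf 12606) (.leaf 0))) (.node (.node (.leaf 14087) (.leaf 0)) (.node (.leaf 3338) (.leaf 0)))) (.node (.node (.node (.leaf 4836) (.leaf 15549)) (.node (.leaf 15473) (.leaf 0))) (.node (.node (.leaf 18060) (.leaf 0)) (.node (.leaf 1558) (.leaf 0)))))))) (.node (.node (.node (.node (.node (.node (.node (.leaf 6965) (.leaf 18019)) (.node (.leaf 5808) (.leaf 0))) (.node (.node (.leaf 7195) (.leaf 20835)) (.node (.leaf 14269) (.leaf 0)))) (.node (.node (.node (.leaf 6060) (.leaf 5853)) (.node (.leaf 2992) (.leaf 0))) (.node (.node (.leaf 20813) (.leaf 0)) (.node (.leaf 19249) (.leaf 0))))) (.node (.node (.node (.node (.leaf 18877) (.leaf 17183)) (.node (.leaf 3299) (.leaf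 0))) (.node (.node (.leaf 6271) (.leaf 0)) (.node (.leaf 3314) (.leaf 0)))) (.node (.node (.node (.leaf 15701) (.leaf 12735)) (.node (.leaf 7016) (.leaf 0))) (.node (.node (.leaf 424) (.leaf 0)) (.node (.leaf 18750) (.leaf 0)))))) (.node (.node (.node (.node (.node (.leaf 18072) (.leaf 15060)) (.node (.leaf 1299) (.leaf 0))) (.node (.node (.leaf 13074) (.leaf 17932)) (.node (.leaf 6008) (.leaf 0)))) (.node (.node (.node (.leaf 5451) (.leaf 16040)) (.node (.leaf 4771) (.leaf 0))) (.node (.node (.leaf 8149) (.leaf 0)) (.node (.leaf 13070) (.leaf 0))))) (.node (.node (.node (.node (.leaf 17924) (.leaf 182)) (.node (.leaf 15054) (.leaf 0))) (.node (.node (.leaf 3944) (.leaf 0)) (.node (.leaf 11616) (.leaf 0)))) (.node (.node (.node (.leaf 19847) (.leaf 20917)) (.node (.leaf 6644) (.leaf 0))) (.node (.node (.leaf 8899) (.leaf 0)) (.node (.leaf 15740) (.leaf 0))))))) (.node (.node (.node (.node (.node (.node (.leaf 2347) (.leaf 20068)) (.node (.leaf 8290) (.leaf 0))) (.node (.node (.leaf 16414) (.leaf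 12359)) (.node (.leaf 20051) (.leaf 0)))) (.node (.node (.node (.leaf 2560) (.leaf 20373)) (.node (.leaf 17556) (.leaf 0))) (.node (.node (.leaf 10213) (.leaf 0)) (.node (.leaf 14282) (.leaf 0))))) (.node (.node (.node (.node (.leaf 14488) (.leaf 10971)) (.node (.leaf 254) (.leaf 0))) (.node (.node (.leaf 7357) (.leaf 0)) (.node (.leaf 20053) (.leaf 0)))) (.node (.node (.node (.leaf 12492) (.leaf 7019)) (.node (.leaf 15532) (.leaf 0))) (.node (.node (.leaf 6856) (.leaf 0)) (.node (.leaf 975) (.leaf 0)))))) (.node (.node (.node (.node (.node (.leaf 17215) (.leaf 11261)) (.node (.leaf 8141) (.leaf 0))) (.node (.node (.leaf 13336) (.leaf 8948)) (.node (.leaf 5028) (.leaf 0)))) (.node (.node (.node (.leaf 6466) (.leaf 13820)) (.node (.leaf 19491) (.leaf 0))) (.node (.node (.leaf 12022) (.leaf 0)) (.node (.leaf 1093) (.leaf 0))))) (.node (.node (.node (.node (.leaf 10717) (.leaf 19451)) (.node (.leaf 6659) (.leaf 0))) (.node (.node (.leaf 19769) (.leaf 0)) (.node (.leaf 3895) (.leaf 0)))) (.node (.node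 (.node (.leaf 18068) (.leaf 8748)) (.node (.leaf 6881) (.leaf 0))) (.node (.node (.leaf 14889) (.leaf 0)) (.node (.leaf 10558) (.leaf 0)))))))))

/-- part of a table -/
def ordM55 : Trie := (.node (.node (.node (.node (.node (.node (.node (.node (.leaf 16530) (.leaf 11097)) (.node (.leaf 1595) (.leaf 0))) (.node (.node (.leaf 20470) (.leaf 17711)) (.node (.leaf 7847) (.leaf 0)))) (.node (.node (.node (.leaf 619) (.leaf 839)) (.node (.leaf 16642) (.leaf 0))) (.node (.node (.leaf 1270) (.leaf 0)) (.node (.leaf 13582) (.leaf 0))))) (.node (.node (.node (.node (.leaf 16220) (.leaf 2913)) (.node (.leaf 12518) (.leaf 0))) (.node (.node (.leaf 6520) (.leaf 0)) (.node (.leaf 11314) (.leaf 0)))) (.node (.node (.node (.leaf 15948) (.leaf 1897)) (.node (.leaf 19294) (.leaf 0))) (.node (.node (.leaf 4738) (.leaf 0)) (.node (.leaf 14911) (.leaf 0)))))) (.node (.node (.node (.node (.node (.leaf 14620) (.leaf 17453)) (.node (.leaf 8026) (.leaf 0))) (.node (.node (.leaf 283) (.leaf 16549)) (.node (.leaf 2691) (.leaf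 0)))) (.node (.node (.node (.leaf 16894) (.leaf 1019)) (.node (.leaf 933) (.leaf 0))) (.node (.node (.leaf 6803) (.leaf 0)) (.node (.leaf 18269) (.leaf 0))))) (.node (.node (.node (.node (.leaf 21235) (.leaf 8673)) (.node (.leaf 17915) (.leaf 0))) (.node (.node (.leaf 21108) (.leaf 0)) (.node (.leaf 18242) (.leaf 0)))) (.node (.node (.node (.leaf 19055) (.leaf 20230)) (.node (.leaf 12294) (.leaf 0))) (.node (.node (.leaf 10200) (.leaf 0)) (.node (.leaf 19404) (.leaf 0))))))) (.node (.node (.node (.node (.node (.node (.leaf 7967) (.leaf 14652)) (.node (.leaf 6256) (.leaf 0))) (.node (.node (.leaf 2954) (.leaf 7003)) (.node (.leaf 14377) (.leaf 0)))) (.node (.node (.node (.leaf 2230) (.leaf 16557)) (.node (.leaf 3138) (.leaf 0))) (.node (.node (.leaf 11478) (.leaf 0)) (.node (.leaf 14790) (.leaf 0))))) (.node (.node (.node (.node (.leaf 18300) (.leaf 7042)) (.node (.leaf 4941) (.leaf 0))) (.node (.node (.leaf 7413) (.leaf 0)) (.node (.leaf 20422) (.leaf 0)))) (.node (.node (.node (.leaf 7376) (.leaf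 17797)) (.node (.leaf 421) (.leaf 0))) (.node (.node (.leaf 6086) (.leaf 0)) (.node (.leaf 13147) (.leaf 0)))))) (.node (.node (.node (.node (.node (.leaf 17211) (.leaf 2671)) (.node (.leaf 10756) (.leaf 0))) (.node (.node (.leaf 8363) (.leaf 5395)) (.node (.leaf 17775) (.leaf 0)))) (.node (.node (.node (.leaf 5360) (.leaf 1052)) (.node (.leaf 1496) (.leaf 0))) (.node (.node (.leaf 20192) (.leaf 0)) (.node (.leaf 10203) (.leaf 0))))) (.node (.node (.node (.node (.leaf 17019) (.leaf 17525)) (.node (.leaf 10132) (.leaf 0))) (.node (.node (.leaf 19284) (.leaf 0)) (.node (.leaf 11987) (.leaf 0)))) (.node (.node (.node (.leaf 11740) (.leaf 20268)) (.node (.leaf 5758) (.leaf 0))) (.node (.node (.leaf 10835) (.leaf 0)) (.node (.leaf 599) (.leaf 0)))))))) (.node (.node (.node (.node (.node (.node (.node (.leaf 5762) (.leaf 21263)) (.node (.leaf 134) (.leaf 0))) (.node (.node (.leaf 14772) (.leaf 13827)) (.node (.leaf 18692) (.leaf 0)))) (.node (.node (.node (.leaf 15858) (.leaf 3954)) (.node (.leaf 1480)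 (.leaf 0))) (.node (.node (.leaf 13930) (.leaf 0)) (.node (.leaf 11073) (.leaf 0))))) (.node (.node (.node (.node (.leaf 11169) (.leaf 3520)) (.node (.leaf 16596) (.leaf 0))) (.node (.node (.leaf 9746) (.leaf 0)) (.node (.leaf 15759) (.leaf 0)))) (.node (.node (.node (.leaf 19993) (.leaf 5405)) (.node (.leaf 9427) (.leaf 0))) (.node (.node (.leaf 1899) (.leaf 0)) (.node (.leaf 4220) (.leaf 0)))))) (.node (.node (.node (.node (.node (.leaf 13194) (.leaf 1196)) (.node (.leaf 5223) (.leaf 0))) (.node (.node (.leaf 14868) (.leaf 20758)) (.node (.leaf 1360) (.leaf 0)))) (.node (.node (.node (.leaf 16814) (.leaf 4706)) (.node (.leaf 15970) (.leaf 0))) (.node (.node (.leaf 10291) (.leaf 0)) (.node (.leaf 16245) (.leaf 0))))) (.node (.node (.node (.node (.leaf 7936) (.leaf 3760)) (.node (.leaf 13589) (.leaf 0))) (.node (.node (.leaf 15634) (.leaf 0)) (.node (.leaf 5953) (.leaf 0)))) (.node (.node (.node (.leaf 20709) (.leaf 9095)) (.node (.leaf 7139) (.leaf 0))) (.node (.node (.leaf 10208) (.leaf 0)) (.node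 (.leaf 4356) (.leaf 0))))))) (.node (.node (.node (.node (.node (.node (.leaf 592) (.leaf 21238)) (.node (.leaf 15687) (.leaf 0))) (.node (.node (.leaf 10630) (.leaf 13246)) (.node (.leaf 3379) (.leaf 0)))) (.node (.node (.node (.leaf 6210) (.leaf 19598)) (.node (.leaf 9640) (.leaf 0))) (.node (.node (.leaf 7690) (.leaf 0)) (.node (.leaf 18251) (.leaf 0))))) (.node (.node (.node (.node (.leaf 1322) (.leaf 19545)) (.node (.leaf 691) (.leaf 0))) (.node (.node (.leaf 5379) (.leaf 0)) (.node (.leaf 5915) (.leaf 0)))) (.node (.node (.node (.leaf 5519) (.leaf 9873)) (.node (.leaf 14113) (.leaf 0))) (.node (.node (.leaf 17412) (.leaf 0)) (.node (.leaf 1176) (.leaf 0)))))) (.node (.node (.node (.node (.node (.leaf 13173) (.leaf 20432)) (.node (.leaf 2724) (.leaf 0))) (.node (.node (.leaf 1318) (.leaf 551)) (.node (.leaf 311) (.leaf 0)))) (.node (.node (.node (.leaf 12026) (.leaf 18917)) (.node (.leaf 13658) (.leaf 0))) (.node (.node (.leaf 6457) (.leaf 0)) (.node (.leaf 55) (.leaf 0))))) (.node (.node (.node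 (.node (.leaf 19447) (.leaf 13879)) (.node (.leaf 21346) (.leaf 0))) (.node (.node (.leaf 17260) (.leaf 0)) (.node (.leaf 8086) (.leaf 0)))) (.node (.node (.node (.leaf 18763) (.leaf 1908)) (.node (.leaf 2935) (.leaf 0))) (.node (.node (.leaf 7891) (.leaf 0)) (.node (.leaf 3286) (.leaf 0)))))))))

/-- part of a table -/
def ordM56 : Trie := (.node (.node (.node (.node (.node (.node (.node (.node (.leaf 19155) (.leaf 13195)) (.node (.leaf 17791) (.leaf 0))) (.node (.node (.leaf 21433) (.leaf 18815)) (.node (.leaf 7295) (.leaf 0)))) (.node (.node (.node (.leaf 14082) (.leaf 16382)) (.node (.leaf 176) (.leaf 0))) (.node (.node (.leaf 13226) (.leaf 0)) (.node (.leaf 8236) (.leaf 0))))) (.node (.node (.node (.node (.leaf 3714) (.leaf 9196)) (.node (.leaf 18890) (.leaf 0))) (.node (.node (.leaf 5548) (.leaf 0)) (.node (.leaf 21361) (.leaf 0)))) (.node (.node (.node (.leaf 14115) (.leaf 4478)) (.node (.leaf 11607) (.leaf 0))) (.node (.node (.leaf 20490) (.leaf 0)) (.node (.leaf 13316) (.leaf 0)))))) (.node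 (.node (.node (.node (.node (.leaf 492) (.leaf 12227)) (.node (.leaf 13298) (.leaf 0))) (.node (.node (.leaf 15640) (.leaf 1361)) (.node (.leaf 5502) (.leaf 0)))) (.node (.node (.node (.leaf 7039) (.leaf 10816)) (.node (.leaf 9676) (.leaf 0))) (.node (.node (.leaf 4951) (.leaf 0)) (.node (.leaf 5989) (.leaf 0))))) (.node (.node (.node (.node (.leaf 11253) (.leaf 3184)) (.node (.leaf 8856) (.leaf 0))) (.node (.node (.leaf 294) (.leaf 0)) (.node (.leaf 21365) (.leaf 0)))) (.node (.node (.node (.leaf 7901) (.leaf 20939)) (.node (.leaf 8653) (.leaf 0))) (.node (.node (.leaf 13921) (.leaf 0)) (.node (.leaf 3197) (.leaf 0))))))) (.node (.node (.node (.node (.node (.node (.leaf 16609) (.leaf 8393)) (.node (.leaf 12706) (.leaf 0))) (.node (.node (.leaf 14183) (.leaf 692)) (.node (.leaf 5674) (.leaf 0)))) (.node (.node (.node (.leaf 8520) (.leaf 16020)) (.node (.leaf 11276) (.leaf 0))) (.node (.node (.leaf 12199) (.leaf 0)) (.node (.leaf 9723) (.leaf 0))))) (.node (.node (.node (.node (.leaf 3919) (.leaf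 14606)) (.node (.leaf 6244) (.leaf 0))) (.node (.node (.leaf 9398) (.leaf 0)) (.node (.leaf 7924) (.leaf 0)))) (.node (.node (.node (.leaf 1531) (.leaf 9915)) (.node (.leaf 10287) (.leaf 0))) (.node (.node (.leaf 4591) (.leaf 0)) (.node (.leaf 15465) (.leaf 0)))))) (.node (.node (.node (.node (.node (.leaf 8267) (.leaf 19824)) (.node (.leaf 9500) (.leaf 0))) (.node (.node (.leaf 1939) (.leaf 9354)) (.node (.leaf 2297) (.leaf 0)))) (.node (.node (.node (.leaf 13751) (.leaf 5421)) (.node (.leaf 1971) (.leaf 0))) (.node (.node (.leaf 21407) (.leaf 0)) (.node (.leaf 11666) (.leaf 0))))) (.node (.node (.node (.node (.leaf 9020) (.leaf 1430)) (.node (.leaf 9686) (.leaf 0))) (.node (.node (.leaf 19998) (.leaf 0)) (.node (.leaf 20039) (.leaf 0)))) (.node (.node (.node (.leaf 2909) (.leaf 5520)) (.node (.leaf 9527) (.leaf 0))) (.node (.node (.leaf 10098) (.leaf 0)) (.node (.leaf 3119) (.leaf 0)))))))) (.node (.node (.node (.node (.node (.node (.node (.leaf 8038) (.leaf 3867)) (.node (.leaf 2461) (.leaf 0)))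 (.node (.node (.leaf 7702) (.leaf 1126)) (.node (.leaf 6947) (.leaf 0)))) (.node (.node (.node (.leaf 19111) (.leaf 8839)) (.node (.leaf 13648) (.leaf 0))) (.node (.node (.leaf 3084) (.leaf 0)) (.node (.leaf 13454) (.leaf 0))))) (.node (.node (.node (.node (.leaf 9030) (.leaf 1511)) (.node (.leaf 8090) (.leaf 0))) (.node (.node (.leaf 18402) (.leaf 0)) (.node (.leaf 17782) (.leaf 0)))) (.node (.node (.node (.leaf 16372) (.leaf 14944)) (.node (.leaf 3755) (.leaf 0))) (.node (.node (.leaf 16291) (.leaf 0)) (.node (.leaf 19853) (.leaf 0)))))) (.node (.node (.node (.node (.node (.leaf 13542) (.leaf 14290)) (.node (.leaf 8384) (.leaf 0))) (.node (.node (.leaf 3049) (.leaf 16161)) (.node (.leaf 11842) (.leaf 0)))) (.node (.node (.node (.leaf 20061) (.leaf 13781)) (.node (.leaf 1378) (.leaf 0))) (.node (.node (.leaf 5713) (.leaf 0)) (.node (.leaf 64) (.leaf 0))))) (.node (.node (.node (.node (.leaf 5711) (.leaf 11378)) (.node (.leaf 3535) (.leaf 0))) (.node (.node (.leaf 3264) (.leaf 0)) (.node (.leaf 8110)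 (.leaf 0)))) (.node (.node (.node (.leaf 791) (.leaf 10246)) (.node (.leaf 2000) (.leaf 0))) (.node (.node (.leaf 21324) (.leaf 0)) (.node (.leaf 7077) (.leaf 0))))))) (.node (.node (.node (.node (.node (.node (.leaf 8058) (.leaf 8177)) (.node (.leaf 19989) (.leaf 0))) (.node (.node (.leaf 7023) (.leaf 19011)) (.node (.leaf 1554) (.leaf 0)))) (.node (.node (.node (.leaf 11222) (.leaf 13337)) (.node (.leaf 4454) (.leaf 0))) (.node (.node (.leaf 18553) (.leaf 0)) (.node (.leaf 3192) (.leaf 0))))) (.node (.node (.node (.node (.leaf 10872) (.leaf 5859)) (.node (.leaf 7002) (.leaf 0))) (.node (.node (.leaf 5022) (.leaf 0)) (.node (.leaf 4678) (.leaf 0)))) (.node (.node (.node (.leaf 6780) (.leaf 21258)) (.node (.leaf 14031) (.leaf 0))) (.node (.node (.leaf 3989) (.leaf 0)) (.node (.leaf 14495) (.leaf 0)))))) (.node (.node (.node (.node (.node (.leaf 14412) (.leaf 17464)) (.node (.leaf 13064) (.leaf 0))) (.node (.node (.leaf 20372) (.leaf 18462)) (.node (.leaf 20817) (.leaf 0)))) (.node (.node (.node (.leaf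 20127) (.leaf 20836)) (.node (.leaf 9079) (.leaf 0))) (.node (.node (.leaf 11360) (.leaf 0)) (.node (.leaf 15722) (.leaf 0))))) (.node (.node (.node (.node (.leaf 8572) (.leaf 19563)) (.node (.leaf 19182) (.leaf 0))) (.node (.node (.leaf 17739) (.leaf 0)) (.node (.leaf 16258) (.leaf 0)))) (.node (.node (.node (.leaf 9105) (.leaf 9636)) (.node (.leaf 3532) (.leaf 0))) (.node (.node (.leaf 6680) (.leaf 0)) (.node (.leaf 9796) (.leaf 0)))))))))

/-- part of a table -/
def ordM57 : Trie := (.node (.node (.node (.node (.node (.node (.node (.node (.leaf 19671) (.leaf 14815)) (.node (.leaf 21030) (.leaf 0))) (.node (.node (.leaf 12544) (.leaf 21131)) (.node (.leaf 18984) (.leaf 0)))) (.node (.node (.node (.leaf 10706) (.leaf 13687)) (.node (.leaf 3686) (.leaf 0))) (.node (.node (.leaf 7005) (.leaf 0)) (.node (.leaf 7491) (.leaf 0))))) (.node (.node (.node (.node (.leaf 6795) (.leaf 17113)) (.node (.leaf 7675) (.leaf 0))) (.node (.node (.leaf 2076) (.leaf 0)) (.node (.leaf 17570) (.leaf 0)))) (.node (.node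 (.node (.leaf 16068) (.leaf 10031)) (.node (.leaf 7229) (.leaf 0))) (.node (.node (.leaf 15535) (.leaf 0)) (.node (.leaf 8345) (.leaf 0)))))) (.node (.node (.node (.node (.node (.leaf 8414) (.leaf 857)) (.node (.leaf 11621) (.leaf 0))) (.node (.node (.leaf 12374) (.leaf 6009)) (.node (.leaf 901) (.leaf 0)))) (.node (.node (.node (.leaf 8443) (.leaf 3063)) (.node (.leaf 17252) (.leaf 0))) (.node (.node (.leaf 7782) (.leaf 0)) (.node (.leaf 16359) (.leaf 0))))) (.node (.node (.node (.node (.leaf 3645) (.leaf 5735)) (.node (.leaf 14765) (.leaf 0))) (.node (.node (.leaf 806) (.leaf 0)) (.node (.leaf 18635) (.leaf 0)))) (.node (.node (.node (.leaf 15654) (.leaf 18551)) (.node (.leaf 17699) (.leaf 0))) (.node (.node (.leaf 9436) (.leaf 0)) (.node (.leaf 4929) (.leaf 0))))))) (.node (.node (.node (.node (.node (.node (.leaf 11485) (.leaf 14251)) (.node (.leaf 20183) (.leaf 0))) (.node (.node (.leaf 15015) (.leaf 10535)) (.node (.leaf 13526) (.leaf 0)))) (.node (.node (.node (.leaf 9180) (.leaf 20560)) (.node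 (.leaf 14777) (.leaf 0))) (.node (.node (.leaf 10749) (.leaf 0)) (.node (.leaf 18973) (.leaf 0))))) (.node (.node (.node (.node (.leaf 188) (.leaf 17187)) (.node (.leaf 13420) (.leaf 0))) (.node (.node (.leaf 18428) (.leaf 0)) (.node (.leaf 13506) (.leaf 0)))) (.node (.node (.node (.leaf 6077) (.leaf 19482)) (.node (.leaf 14136) (.leaf 0))) (.node (.node (.leaf 15144) (.leaf 0)) (.node (.leaf 11040) (.leaf 0)))))) (.node (.node (.node (.node (.node (.leaf 3131) (.leaf 5305)) (.node (.leaf 20066) (.leaf 0))) (.node (.node (.leaf 5946) (.leaf 4175)) (.node (.leaf 877) (.leaf 0)))) (.node (.node (.node (.leaf 1681) (.leaf 2039)) (.node (.leaf 15789) (.leaf 0))) (.node (.node (.leaf 18480) (.leaf 0)) (.node (.leaf 4713) (.leaf 0))))) (.node (.node (.node (.node (.leaf 14007) (.leaf 5560)) (.node (.leaf 7416) (.leaf 0))) (.node (.node (.leaf 2709) (.leaf 0)) (.node (.leaf 20869) (.leaf 0)))) (.node (.node (.node (.leaf 213) (.leaf 1778)) (.node (.leaf 18281) (.leaf 0))) (.node (.node (.leaf 3678) (.leaf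 0)) (.node (.leaf 4512) (.leaf 0)))))))) (.node (.node (.node (.node (.node (.node (.node (.leaf 19297) (.leaf 1138)) (.node (.leaf 6357) (.leaf 0))) (.node (.node (.leaf 3783) (.leaf 415)) (.node (.leaf 5226) (.leaf 0)))) (.node (.node (.node (.leaf 10626) (.leaf 12427)) (.node (.leaf 19192) (.leaf 0))) (.node (.node (.leaf 162) (.leaf 0)) (.node (.leaf 1930) (.leaf 0))))) (.node (.node (.node (.node (.leaf 16003) (.leaf 550)) (.node (.leaf 3574) (.leaf 0))) (.node (.node (.leaf 17487) (.leaf 0)) (.node (.leaf 8282) (.leaf 0)))) (.node (.node (.node (.leaf 16936) (.leaf 1296)) (.node (.leaf 21019) (.leaf 0))) (.node (.node (.leaf 18095) (.leaf 0)) (.node (.leaf 13651) (.leaf 0)))))) (.node (.node (.node (.node (.node (.leaf 5569) (.leaf 4625)) (.node (.leaf 13958) (.leaf 0))) (.node (.node (.leaf 14609) (.leaf 20593)) (.node (.leaf 14927) (.leaf 0)))) (.node (.node (.node (.leaf 3282) (.leaf 9854)) (.node (.leaf 6902) (.leaf 0))) (.node (.node (.leaf 5155) (.leaf 0)) (.node (.leaf 2257) (.leaf 0)))))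 (.node (.node (.node (.node (.leaf 13866) (.leaf 19759)) (.node (.leaf 11093) (.leaf 0))) (.node (.node (.leaf 13259) (.leaf 0)) (.node (.leaf 451) (.leaf 0)))) (.node (.node (.node (.leaf 3371) (.leaf 20906)) (.node (.leaf 6995) (.leaf 0))) (.node (.node (.leaf 13248) (.leaf 0)) (.node (.leaf 12340) (.leaf 0))))))) (.node (.node (.node (.node (.node (.node (.leaf 15045) (.leaf 1933)) (.node (.leaf 21117) (.leaf 0))) (.node (.node (.leaf 5587) (.leaf 10207)) (.node (.leaf 6642) (.leaf 0)))) (.node (.node (.node (.leaf 8213) (.leaf 16500)) (.node (.leaf 4655) (.leaf 0))) (.node (.node (.leaf 20940) (.leaf 0)) (.node (.leaf 9714) (.leaf 0))))) (.node (.node (.node (.node (.leaf 3864) (.leaf 1731)) (.node (.leaf 2402) (.leaf 0))) (.node (.node (.leaf 6729) (.leaf 0)) (.node (.leaf 1741) (.leaf 0)))) (.node (.node (.node (.leaf 15548) (.leaf 11679)) (.node (.leaf 6592) (.leaf 0))) (.node (.node (.leaf 8011) (.leaf 0)) (.node (.leaf 1351) (.leaf 0)))))) (.node (.node (.node (.node (.node (.leaf 19206)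 (.leaf 20429)) (.node (.leaf 18823) (.leaf 0))) (.node (.node (.leaf 21394) (.leaf 10024)) (.node (.leaf 18330) (.leaf 0)))) (.node (.node (.node (.leaf 16535) (.leaf 3942)) (.node (.leaf 18916) (.leaf 0))) (.node (.node (.leaf 18915) (.leaf 0)) (.node (.leaf 6190) (.leaf 0))))) (.node (.node (.node (.node (.leaf 4644) (.leaf 17772)) (.node (.leaf 20482) (.leaf 0))) (.node (.node (.leaf 9509) (.leaf 0)) (.node (.leaf 7960) (.leaf 0)))) (.node (.node (.node (.leaf 2696) (.leaf 9952)) (.node (.leaf 211) (.leaf 0))) (.node (.node (.leaf 5120) (.leaf 0)) (.node (.leaf 12744) (.leaf 0)))))))))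

/-- part of a table -/
def ordM58 : Trie := (.node (.node (.node (.node (.node (.node (.node (.node (.leaf 16125) (.leaf 6760)) (.node (.leaf 11294) (.leaf 0))) (.node (.node (.leaf 14360) (.leaf 8473)) (.node (.leaf 17885) (.leaf 0)))) (.node (.node (.node (.leaf 17388) (.leaf 16722)) (.node (.leaf 4237) (.leaf 0))) (.node (.node (.leaf 20690) (.leaf 0)) (.node (.leaf 9925) (.leaf 0))))) (.node (.node (.node (.node (.leaf 3544) (.leaf 794)) (.node (.leaf 14701) (.leaf 0))) (.node (.node (.leaf 15038) (.leaf 0)) (.node (.leaf 17084) (.leaf 0)))) (.node (.node (.node (.leaf 21430) (.leaf 9725)) (.node (.leaf 17633) (.leaf 0))) (.node (.node (.leaf 15505) (.leaf 0)) (.node (.leaf 6508) (.leaf 0)))))) (.node (.node (.node (.node (.node (.leaf 9539) (.leaf 15499)) (.node (.leaf 5454) (.leaf 0))) (.node (.node (.leaf 20535) (.leaf 4946)) (.node (.leaf 9697) (.leaf 0)))) (.node (.node (.node (.leaf 15816) (.leaf 4970)) (.node (.leaf 5840) (.leaf 0))) (.node (.node (.leaf 2551) (.leaf 0)) (.node (.leaf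 15282) (.leaf 0))))) (.node (.node (.node (.node (.leaf 230) (.leaf 3380)) (.node (.leaf 18758) (.leaf 0))) (.node (.node (.leaf 13745) (.leaf 0)) (.node (.leaf 2651) (.leaf 0)))) (.node (.node (.node (.leaf 18136) (.leaf 1627)) (.node (.leaf 1847) (.leaf 0))) (.node (.node (.leaf 10262) (.leaf 0)) (.node (.leaf 6776) (.leaf 0))))))) (.node (.node (.node (.node (.node (.node (.leaf 2527) (.leaf 18232)) (.node (.leaf 18592) (.leaf 0))) (.node (.node (.leaf 16240) (.leaf 18499)) (.node (.leaf 10390) (.leaf 0)))) (.node (.node (.node (.leaf 8025) (.leaf 1464)) (.node (.leaf 3239) (.leaf 0))) (.node (.node (.leaf 3389) (.leaf 0)) (.node (.leaf 16979) (.leaf 0))))) (.node (.node (.node (.node (.leaf 17265) (.leaf 13590)) (.node (.leaf 1803) (.leaf 0))) (.node (.node (.leaf 11269) (.leaf 0)) (.node (.leaf 4811) (.leaf 0)))) (.node (.node (.node (.leaf 15273) (.leaf 14023)) (.node (.leaf 11661) (.leaf 0))) (.node (.node (.leaf 18188) (.leaf 0)) (.node (.leaf 20097) (.leaf 0)))))) (.node (.node (.node (.node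 (.node (.leaf 20501) (.leaf 7381)) (.node (.leaf 9545) (.leaf 0))) (.node (.node (.leaf 17547) (.leaf 21020)) (.node (.leaf 18728) (.leaf 0)))) (.node (.node (.node (.leaf 14398) (.leaf 8686)) (.node (.leaf 7407) (.leaf 0))) (.node (.node (.leaf 12740) (.leaf 0)) (.node (.leaf 8659) (.leaf 0))))) (.node (.node (.node (.node (.leaf 10541) (.leaf 9326)) (.node (.leaf 7639) (.leaf 0))) (.node (.node (.leaf 7213) (.leaf 0)) (.node (.leaf 17630) (.leaf 0)))) (.node (.node (.node (.leaf 1101) (.leaf 19020)) (.node (.leaf 11925) (.leaf 0))) (.node (.node (.leaf 10608) (.leaf 0)) (.node (.leaf 17639) (.leaf 0)))))))) (.node (.node (.node (.node (.node (.node (.node (.leaf 5023) (.leaf 19314)) (.node (.leaf 9583) (.leaf 0))) (.node (.node (.leaf 13189) (.leaf 13491)) (.node (.leaf 21029) (.leaf 0)))) (.node (.node (.node (.leaf 851) (.leaf 7273)) (.node (.leaf 20883) (.leaf 0))) (.node (.node (.leaf 1600) (.leaf 0)) (.node (.leaf 1233) (.leaf 0))))) (.node (.node (.node (.node (.leaf 3762) (.leaf 11140))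 (.node (.leaf 7401) (.leaf 0))) (.node (.node (.leaf 17275) (.leaf 0)) (.node (.leaf 2529) (.leaf 0)))) (.node (.node (.node (.leaf 20565) (.leaf 5603)) (.node (.leaf 10557) (.leaf 0))) (.node (.node (.leaf 17189) (.leaf 0)) (.node (.leaf 7872) (.leaf 0)))))) (.node (.node (.node (.node (.node (.leaf 16270) (.leaf 1703)) (.node (.leaf 2561) (.leaf 0))) (.node (.node (.leaf 18843) (.leaf 5413)) (.node (.leaf 14283) (.leaf 0)))) (.node (.node (.node (.leaf 18569) (.leaf 2509)) (.node (.leaf 3720) (.leaf 0))) (.node (.node (.leaf 7574) (.leaf 0)) (.node (.leaf 14484) (.leaf 0))))) (.node (.node (.node (.node (.leaf 19999) (.leaf 4905)) (.node (.leaf 19355) (.leaf 0))) (.node (.node (.leaf 8763) (.leaf 0)) (.node (.leaf 7086) (.leaf 0)))) (.node (.node (.node (.leaf 3290) (.leaf 20033)) (.node (.leaf 13455) (.leaf 0))) (.node (.node (.leaf 7799) (.leaf 0)) (.node (.leaf 14865) (.leaf 0))))))) (.node (.node (.node (.node (.node (.node (.leaf 12513) (.leaf 1420)) (.node (.leaf 8057) (.leaf 0))) (.node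 (.node (.leaf 12914) (.leaf 14358)) (.node (.leaf 13727) (.leaf 0)))) (.node (.node (.node (.leaf 7190) (.leaf 1488)) (.node (.leaf 18780) (.leaf 0))) (.node (.node (.leaf 609) (.leaf 0)) (.node (.leaf 7370) (.leaf 0))))) (.node (.node (.node (.node (.leaf 12297) (.leaf 1143)) (.node (.leaf 16279) (.leaf 0))) (.node (.node (.leaf 21370) (.leaf 0)) (.node (.leaf 3235) (.leaf 0)))) (.node (.node (.node (.leaf 14236) (.leaf 19025)) (.node (.leaf 11921) (.leaf 0))) (.node (.node (.leaf 13602) (.leaf 0)) (.node (.leaf 18288) (.leaf 0)))))) (.node (.node (.node (.node (.node (.leaf 15818) (.leaf 10806)) (.node (.leaf 289) (.leaf 0))) (.node (.node (.leaf 13396) (.leaf 6538)) (.node (.leaf 11144) (.leaf 0)))) (.node (.node (.node (.leaf 18673) (.leaf 8406)) (.node (.leaf 10737) (.leaf 0))) (.node (.node (.leaf 13867) (.leaf 0)) (.node (.leaf 15494) (.leaf 0))))) (.node (.node (.node (.node (.leaf 269) (.leaf 14573)) (.node (.leaf 6275) (.leaf 0))) (.node (.node (.leaf 16513) (.leaf 0)) (.node (.leaf 9338)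 (.leaf 0)))) (.node (.node (.node (.leaf 3644) (.leaf 9201)) (.node (.leaf 10274) (.leaf 0))) (.node (.node (.leaf 20643) (.leaf 0)) (.node (.leaf 2720) (.leaf 0)))))))))

/-- part of a table -/
def ordM59 : Trie := (.node (.node (.node (.node (.node (.node (.node (.node (.leaf 18450) (.leaf 12390)) (.node (.leaf 6733) (.leaf 0))) (.node (.node (.leaf 3877) (.leaf 10665)) (.node (.leaf 16078) (.leaf 0)))) (.node (.node (.node (.leaf 16298) (.leaf 18734)) (.node (.leaf 11243) (.leaf 0))) (.node (.node (.leaf 3168) (.leaf 0)) (.node (.leaf 9770) (.leaf 0))))) (.node (.node (.node (.node (.leaf 2443) (.leaf 3797)) (.node (.leaf 9632) (.leaf 0))) (.node (.node (.leaf 8072) (.leaf 0)) (.node (.leaf 10707) (.leaf 0)))) (.node (.node (.node (.leaf 21074) (.leaf 17563)) (.node (.leaf 12075) (.leaf 0))) (.node (.node (.leaf 21023) (.leaf 0)) (.node (.leaf 16366) (.leaf 0)))))) (.node (.node (.node (.node (.node (.leaf 3090) (.leaf 5680)) (.node (.leaf 8757) (.leaf 0))) (.node (.node (.leaf 12894) (.leaf 1502))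 (.node (.leaf 20555) (.leaf 0)))) (.node (.node (.node (.leaf 14708) (.leaf 12273)) (.node (.leaf 5167) (.leaf 0))) (.node (.node (.leaf 6013) (.leaf 0)) (.node (.leaf 1874) (.leaf 0))))) (.node (.node (.node (.node (.leaf 4595) (.leaf 15022)) (.node (.leaf 12545) (.leaf 0))) (.node (.node (.leaf 3585) (.leaf 0)) (.node (.leaf 142) (.leaf 0)))) (.node (.node (.node (.leaf 12139) (.leaf 5)) (.node (.leaf 8717) (.leaf 0))) (.node (.node (.leaf 4262) (.leaf 0)) (.node (.leaf 12406) (.leaf 0))))))) (.node (.node (.node (.node (.node (.node (.leaf 4210) (.leaf 16662)) (.node (.leaf 14478) (.leaf 0))) (.node (.node (.leaf 7169) (.leaf 19745)) (.node (.leaf 2597) (.leaf 0)))) (.node (.node (.node (.leaf 14776) (.leaf 636)) (.node (.leaf 17433) (.leaf 0))) (.node (.node (.leaf 5596) (.leaf 0)) (.node (.leaf 4066) (.leaf 0))))) (.node (.node (.node (.node (.leaf 6034) (.leaf 12975)) (.node (.leaf 17574) (.leaf 0))) (.node (.node (.leaf 19622) (.leaf 0)) (.node (.leaf 2263) (.leaf 0)))) (.node (.node (.node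 (.leaf 12709) (.leaf 6997)) (.node (.leaf 7536) (.leaf 0))) (.node (.node (.leaf 17134) (.leaf 0)) (.node (.leaf 9164) (.leaf 0)))))) (.node (.node (.node (.node (.node (.leaf 15251) (.leaf 19079)) (.node (.leaf 3590) (.leaf 0))) (.node (.node (.leaf 1658) (.leaf 16710)) (.node (.leaf 17759) (.leaf 0)))) (.node (.node (.node (.leaf 20367) (.leaf 1365)) (.node (.leaf 12720) (.leaf 0))) (.node (.node (.leaf 4284) (.leaf 0)) (.node (.leaf 18901) (.leaf 0))))) (.node (.node (.node (.node (.leaf 14675) (.leaf 7942)) (.node (.leaf 562) (.leaf 0))) (.node (.node (.leaf 20838) (.leaf 0)) (.node (.leaf 17229) (.leaf 0)))) (.node (.node (.node (.leaf 3062) (.leaf 16092)) (.node (.leaf 19495) (.leaf 0))) (.node (.node (.leaf 7722) (.leaf 0)) (.node (.leaf 21444) (.leaf 0)))))))) (.node (.node (.node (.node (.node (.node (.node (.leaf 6730) (.leaf 19768)) (.node (.leaf 16316) (.leaf 0))) (.node (.node (.leaf 15799) (.leaf 20409)) (.node (.leaf 9449) (.leaf 0)))) (.node (.node (.node (.leaf 12315) (.leaf 8630))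 (.node (.leaf 4163) (.leaf 0))) (.node (.node (.leaf 7410) (.leaf 0)) (.node (.leaf 14965) (.leaf 0))))) (.node (.node (.node (.node (.leaf 8304) (.leaf 2986)) (.node (.leaf 9321) (.leaf 0))) (.node (.node (.leaf 15158) (.leaf 0)) (.node (.leaf 17482) (.leaf 0)))) (.node (.node (.node (.leaf 14056) (.leaf 5150)) (.node (.leaf 14956) (.leaf 0))) (.node (.node (.leaf 11664) (.leaf 0)) (.node (.leaf 17202) (.leaf 0)))))) (.node (.node (.node (.node (.node (.leaf 20024) (.leaf 17256)) (.node (.leaf 6211) (.leaf 0))) (.node (.node (.leaf 15741) (.leaf 12753)) (.node (.leaf 16525) (.leaf 0)))) (.node (.node (.node (.leaf 13657) (.leaf 7532)) (.node (.leaf 15611) (.leaf 0))) (.node (.node (.leaf 5109) (.leaf 0)) (.node (.leaf 15287) (.leaf 0))))) (.node (.node (.node (.node (.leaf 13881) (.leaf 3107)) (.node (.leaf 18341) (.leaf 0))) (.node (.node (.leaf 3600) (.leaf 0)) (.node (.leaf 16705) (.leaf 0)))) (.node (.node (.node (.leaf 1056) (.leaf 13747)) (.node (.leaf 13954) (.leaf 0))) (.node (.node (.leaf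 2658) (.leaf 0)) (.node (.leaf 13940) (.leaf 0))))))) (.node (.node (.node (.node (.node (.node (.leaf 20266) (.leaf 5116)) (.node (.leaf 15044) (.leaf 0))) (.node (.node (.leaf 18540) (.leaf 12130)) (.node (.leaf 5629) (.leaf 0)))) (.node (.node (.node (.leaf 2453) (.leaf 6896)) (.node (.leaf 9663) (.leaf 0))) (.node (.node (.leaf 218) (.leaf 0)) (.node (.leaf 1633) (.leaf 0))))) (.node (.node (.node (.node (.leaf 18425) (.leaf 14811)) (.node (.leaf 19587) (.leaf 0))) (.node (.node (.leaf 19296) (.leaf 0)) (.node (.leaf 15954) (.leaf 0)))) (.node (.node (.node (.leaf 17428) (.leaf 4731)) (.node (.leaf 6638) (.leaf 0))) (.node (.node (.leaf 17301) (.leaf 0)) (.node (.leaf 20037) (.leaf 0)))))) (.node (.node (.node (.node (.node (.leaf 19564) (.leaf 19426)) (.node (.leaf 811) (.leaf 0))) (.node (.node (.leaf 18913) (.leaf 4431)) (.node (.leaf 17317) (.leaf 0)))) (.node (.node (.node (.leaf 16425) (.leaf 13617)) (.node (.leaf 882) (.leaf 0))) (.node (.node (.leaf 12788) (.leaf 0)) (.node (.leaf 6697)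 (.leaf 0))))) (.node (.node (.node (.node (.leaf 1053) (.leaf 7934)) (.node (.leaf 5752) (.leaf 0))) (.node (.node (.leaf 20879) (.leaf 0)) (.node (.leaf 21248) (.leaf 0)))) (.node (.node (.node (.leaf 11252) (.leaf 14215)) (.node (.leaf 2337) (.leaf 0))) (.node (.node (.leaf 14637) (.leaf 0)) (.node (.leaf 8019) (.leaf 0)))))))))

/-- part of a table -/
def ordM60 : Trie := (.node (.node (.node (.node (.node (.node (.node (.node (.leaf 11306) (.leaf 559)) (.node (.leaf 11806) (.leaf 0))) (.node (.node (.leaf 10839) (.leaf 18307)) (.node (.leaf 12400) (.leaf 0)))) (.node (.node (.node (.leaf 18816) (.leaf 4439)) (.node (.leaf 18199) (.leaf 0))) (.node (.node (.leaf 20398) (.leaf 0)) (.node (.leaf 8274) (.leaf 0))))) (.node (.node (.node (.node (.leaf 13171) (.leaf 17333)) (.node (.leaf 11311) (.leaf 0))) (.node (.node (.leaf 20115) (.leaf 0)) (.node (.leaf 18203) (.leaf 0)))) (.node (.node (.node (.leaf 3750) (.leaf 14220)) (.node (.leaf 15897) (.leaf 0))) (.node (.node (.leaf 11997) (.leaf 0)) (.node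 (.leaf 13760) (.leaf 0)))))) (.node (.node (.node (.node (.node (.leaf 9840) (.leaf 3677)) (.node (.leaf 18995) (.leaf 0))) (.node (.node (.leaf 15570) (.leaf 11896)) (.node (.leaf 11126) (.leaf 0)))) (.node (.node (.node (.leaf 2801) (.leaf 12915)) (.node (.leaf 6693) (.leaf 0))) (.node (.node (.leaf 21377) (.leaf 0)) (.node (.leaf 1177) (.leaf 0))))) (.node (.node (.node (.node (.leaf 1042) (.leaf 15579)) (.node (.leaf 3505) (.leaf 0))) (.node (.node (.leaf 9618) (.leaf 0)) (.node (.leaf 6717) (.leaf 0)))) (.node (.node (.node (.leaf 3551) (.leaf 3471)) (.node (.leaf 6415) (.leaf 0))) (.node (.node (.leaf 8196) (.leaf 0)) (.node (.leaf 1679) (.leaf 0))))))) (.node (.node (.node (.node (.node (.node (.leaf 15172) (.leaf 19285)) (.node (.leaf 7271) (.leaf 0))) (.node (.node (.leaf 17713) (.leaf 12597)) (.node (.leaf 19634) (.leaf 0)))) (.node (.node (.node (.leaf 14766) (.leaf 20520)) (.node (.leaf 15743) (.leaf 0))) (.node (.node (.leaf 7779) (.leaf 0)) (.node (.leaf 18361) (.leaf 0))))) (.node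 (.node (.node (.node (.leaf 20263) (.leaf 1646)) (.node (.leaf 16676) (.leaf 0))) (.node (.node (.leaf 17805) (.leaf 0)) (.node (.leaf 8806) (.leaf 0)))) (.node (.node (.node (.leaf 330) (.leaf 4603)) (.node (.leaf 3962) (.leaf 0))) (.node (.node (.leaf 21044) (.leaf 0)) (.node (.leaf 17323) (.leaf 0)))))) (.node (.node (.node (.node (.node (.leaf 17873) (.leaf 6093)) (.node (.leaf 4396) (.leaf 0))) (.node (.node (.leaf 20063) (.leaf 13031)) (.node (.leaf 8825) (.leaf 0)))) (.node (.node (.node (.leaf 2430) (.leaf 4196)) (.node (.leaf 20043) (.leaf 0))) (.node (.node (.leaf 12672) (.leaf 0)) (.node (.leaf 2386) (.leaf 0))))) (.node (.node (.node (.node (.leaf 12695) (.leaf 17161)) (.node (.leaf 530) (.leaf 0))) (.node (.node (.leaf 3070) (.leaf 0)) (.node (.leaf 2498) (.leaf 0)))) (.node (.node (.node (.leaf 9077) (.leaf 6786)) (.node (.leaf 13792) (.leaf 0))) (.node (.node (.leaf 10949) (.leaf 0)) (.node (.leaf 13342) (.leaf 0)))))))) (.node (.node (.node (.node (.node (.node (.node (.leaf 11803)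 (.leaf 18332)) (.node (.leaf 19822) (.leaf 0))) (.node (.node (.leaf 12574) (.leaf 2029)) (.node (.leaf 995) (.leaf 0)))) (.node (.node (.node (.leaf 12370) (.leaf 13814)) (.node (.leaf 6063) (.leaf 0))) (.node (.node (.leaf 19916) (.leaf 0)) (.node (.leaf 16570) (.leaf 0))))) (.node (.node (.node (.node (.leaf 14734) (.leaf 17308)) (.node (.leaf 14485) (.leaf 0))) (.node (.node (.leaf 16304) (.leaf 0)) (.node (.leaf 2105) (.leaf 0)))) (.node (.node (.node (.leaf 1761) (.leaf 11400)) (.node (.leaf 429) (.leaf 0))) (.node (.node (.leaf 10796) (.leaf 0)) (.node (.leaf 7905) (.leaf 0)))))) (.node (.node (.node (.node (.node (.leaf 10321) (.leaf 12459)) (.node (.leaf 9228) (.leaf 0))) (.node (.node (.leaf 18522) (.leaf 653)) (.node (.leaf 12069) (.leaf 0)))) (.node (.node (.node (.leaf 15910) (.leaf 10202)) (.node (.leaf 545) (.leaf 0))) (.node (.node (.leaf 19756) (.leaf 0)) (.node (.leaf 12638) (.leaf 0))))) (.node (.node (.node (.node (.leaf 7988) (.leaf 12327)) (.node (.leaf 3829) (.leaf 0))) (.node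 (.node (.leaf 7058) (.leaf 0)) (.node (.leaf 4483) (.leaf 0)))) (.node (.node (.node (.leaf 4043) (.leaf 12662)) (.node (.leaf 1913) (.leaf 0))) (.node (.node (.leaf 5993) (.leaf 0)) (.node (.leaf 3158) (.leaf 0))))))) (.node (.node (.node (.node (.node (.node (.leaf 14095) (.leaf 9492)) (.node (.leaf 8701) (.leaf 0))) (.node (.node (.leaf 20225) (.leaf 10837)) (.node (.leaf 6710) (.leaf 0)))) (.node (.node (.node (.leaf 20919) (.leaf 10401)) (.node (.leaf 7236) (.leaf 0))) (.node (.node (.leaf 16043) (.leaf 0)) (.node (.leaf 8541) (.leaf 0))))) (.node (.node (.node (.node (.leaf 19820) (.leaf 20855)) (.node (.leaf 14849) (.leaf 0))) (.node (.node (.leaf 14966) (.leaf 0)) (.node (.leaf 18217) (.leaf 0)))) (.node (.node (.node (.leaf 11876) (.leaf 433)) (.node (.leaf 2885) (.leaf 0))) (.node (.node (.leaf 21273) (.leaf 0)) (.node (.leaf 4473) (.leaf 0)))))) (.node (.node (.node (.node (.node (.leaf 10516) (.leaf 3313)) (.node (.leaf 20171) (.leaf 0))) (.node (.node (.leaf 12585) (.leaf 11205)) (.node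 (.leaf 20736) (.leaf 0)))) (.node (.node (.node (.leaf 2771) (.leaf 12437)) (.node (.leaf 18265) (.leaf 0))) (.node (.node (.leaf 13975) (.leaf 0)) (.node (.leaf 7744) (.leaf 0))))) (.node (.node (.node (.node (.leaf 15417) (.leaf 10851)) (.node (.leaf 14076) (.leaf 0))) (.node (.node (.leaf 7589) (.leaf 0)) (.node (.leaf 16891) (.leaf 0)))) (.node (.node (.node (.leaf 9281) (.leaf 18142)) (.node (.leaf 5333) (.leaf 0))) (.node (.node (.leaf 1927) (.leaf 0)) (.node (.leaf 11744) (.leaf 0)))))))))

/-- part of a table -/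
def ordM61 : Trie := (.node (.node (.node (.node (.node (.node (.node (.node (.leaf 7836) (.leaf 9191)) (.node (.leaf 20165) (.leaf 0))) (.node (.node (.leaf 16082) (.leaf 18821)) (.node (.leaf 6769) (.leaf 0)))) (.node (.node (.node (.leaf 5504) (.leaf 15127)) (.node (.leaf 4621) (.leaf 0))) (.node (.node (.leaf 21427) (.leaf 0)) (.node (.leaf 12821) (.leaf 0))))) (.node (.node (.node (.node (.leaf 8812) (.leaf 3882)) (.node (.leaf 18174) (.leaf 0))) (.node (.node (.leaf 18855) (.leaf 0)) (.node (.leaf 17209) (.leaf 0)))) (.node (.node (.node (.leaf 15330) (.leaf 9833)) (.node (.leaf 11220) (.leaf 0))) (.node (.node (.leaf 14246) (.leaf 0)) (.node (.leaf 19984) (.leaf 0)))))) (.node (.node (.node (.node (.node (.leaf 1174) (.leaf 13085)) (.node (.leaf 13983) (.leaf 0))) (.node (.node (.leaf 14413) (.leaf 5558)) (.node (.leaf 18726) (.leaf 0)))) (.node (.node (.node (.leaf 15679) (.leaf 9881)) (.node (.leaf 15785) (.leaf 0))) (.node (.node (.leaf 20069) (.leaf 0)) (.node (.leaf 2631) (.leaf 0)))))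 (.node (.node (.node (.node (.leaf 11937) (.leaf 3213)) (.node (.leaf 14580) (.leaf 0))) (.node (.node (.leaf 21233) (.leaf 0)) (.node (.leaf 2814) (.leaf 0)))) (.node (.node (.node (.leaf 938) (.leaf 13066)) (.node (.leaf 14925) (.leaf 0))) (.node (.node (.leaf 499) (.leaf 0)) (.node (.leaf 762) (.leaf 0))))))) (.node (.node (.node (.node (.node (.node (.leaf 21004) (.leaf 3242)) (.node (.leaf 14969) (.leaf 0))) (.node (.node (.leaf 10571) (.leaf 9876)) (.node (.leaf 19777) (.leaf 0)))) (.node (.node (.node (.leaf 8858) (.leaf 15872)) (.node (.leaf 19243) (.leaf 0))) (.node (.node (.leaf 7482) (.leaf 0)) (.node (.leaf 16130) (.leaf 0))))) (.node (.node (.node (.node (.leaf 16527) (.leaf 16601)) (.node (.leaf 1905) (.leaf 0))) (.node (.node (.leaf 14600) (.leaf 0)) (.node (.leaf 18504) (.leaf 0)))) (.node (.node (.node (.leaf 6198) (.leaf 2141)) (.node (.leaf 2894) (.leaf 0))) (.node (.node (.leaf 16808) (.leaf 0)) (.node (.leaf 7630) (.leaf 0)))))) (.node (.node (.node (.node (.node (.leaf 1982)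 (.leaf 6678)) (.node (.leaf 5700) (.leaf 0))) (.node (.node (.leaf 13610) (.leaf 5861)) (.node (.leaf 2827) (.leaf 0)))) (.node (.node (.node (.leaf 6381) (.leaf 3904)) (.node (.leaf 15385) (.leaf 0))) (.node (.node (.leaf 13815) (.leaf 0)) (.node (.leaf 18704) (.leaf 0))))) (.node (.node (.node (.node (.leaf 14440) (.leaf 13177)) (.node (.leaf 8939) (.leaf 0))) (.node (.node (.leaf 1117) (.leaf 0)) (.node (.leaf 480) (.leaf 0)))) (.node (.node (.node (.leaf 10551) (.leaf 1404)) (.node (.leaf 1619) (.leaf 0))) (.node (.node (.leaf 5004) (.leaf 0)) (.node (.leaf 10100) (.leaf 0)))))))) (.node (.node (.node (.node (.node (.node (.node (.leaf 11299) (.leaf 12798)) (.node (.leaf 21459) (.leaf 0))) (.node (.node (.leaf 15031) (.leaf 2610)) (.node (.leaf 12394) (.leaf 0)))) (.node (.node (.node (.leaf 20957) (.leaf 10177)) (.node (.leaf 14276) (.leaf 0))) (.node (.node (.leaf 17655) (.leaf 0)) (.node (.leaf 18685) (.leaf 0))))) (.node (.node (.node (.node (.leaf 20042) (.leaf 1722)) (.node (.leaf 1310)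 (.leaf 0))) (.node (.node (.leaf 14410) (.leaf 0)) (.node (.leaf 18688) (.leaf 0)))) (.node (.node (.node (.leaf 5929) (.leaf 3014)) (.node (.leaf 8575) (.leaf 0))) (.node (.node (.leaf 16096) (.leaf 0)) (.node (.leaf 3360) (.leaf 0)))))) (.node (.node (.node (.node (.node (.leaf 5029) (.leaf 19101)) (.node (.leaf 11967) (.leaf 0))) (.node (.node (.leaf 12464) (.leaf 26)) (.node (.leaf 951) (.leaf 0)))) (.node (.node (.node (.leaf 7336) (.leaf 699)) (.node (.leaf 7654) (.leaf 0))) (.node (.node (.leaf 20696) (.leaf 0)) (.node (.leaf 936) (.leaf 0))))) (.node (.node (.node (.node (.leaf 18753) (.leaf 18147)) (.node (.leaf 19092) (.leaf 0))) (.node (.node (.leaf 14064) (.leaf 0)) (.node (.leaf 10036) (.leaf 0)))) (.node (.node (.node (.leaf 12776) (.leaf 4705)) (.node (.leaf 13054) (.leaf 0))) (.node (.node (.leaf 19773) (.leaf 0)) (.node (.leaf 20692) (.leaf 0))))))) (.node (.node (.node (.node (.node (.node (.leaf 2648) (.leaf 20603)) (.node (.leaf 15902) (.leaf 0))) (.node (.node (.leaf 18534) (.leaf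 18061)) (.node (.leaf 8207) (.leaf 0)))) (.node (.node (.node (.leaf 16935) (.leaf 5264)) (.node (.leaf 3745) (.leaf 0))) (.node (.node (.leaf 21185) (.leaf 0)) (.node (.leaf 12928) (.leaf 0))))) (.node (.node (.node (.node (.leaf 15807) (.leaf 11556)) (.node (.leaf 1881) (.leaf 0))) (.node (.node (.leaf 7263) (.leaf 0)) (.node (.leaf 13828) (.leaf 0)))) (.node (.node (.node (.leaf 7314) (.leaf 2310)) (.node (.leaf 7392) (.leaf 0))) (.node (.node (.leaf 19762) (.leaf 0)) (.node (.leaf 12967) (.leaf 0)))))) (.node (.node (.node (.node (.node (.leaf 15639) (.leaf 2733)) (.node (.leaf 18652) (.leaf 0))) (.node (.node (.leaf 9336) (.leaf 7176)) (.node (.leaf 13858) (.leaf 0)))) (.node (.node (.node (.leaf 20277) (.leaf 20005)) (.node (.leaf 16552) (.leaf 0))) (.node (.node (.leaf 11467) (.leaf 0)) (.node (.leaf 517) (.leaf 0))))) (.node (.node (.node (.node (.leaf 12684) (.leaf 10277)) (.node (.leaf 11994) (.leaf 0))) (.node (.node (.leaf 2572) (.leaf 0)) (.node (.leaf 10955) (.leaf 0)))) (.node (.node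 (.node (.leaf 3417) (.leaf 7664)) (.node (.leaf 307) (.leaf 0))) (.node (.node (.leaf 13265) (.leaf 0)) (.node (.leaf 12690) (.leaf 0)))))))))

/-- part of a table -/
def ordM62 : Trie := (.node (.node (.node (.node (.node (.node (.node (.node (.leaf 14952) (.leaf 2432)) (.node (.leaf 5192) (.leaf 0))) (.node (.node (.leaf 10479) (.leaf 15883)) (.node (.leaf 2726) (.leaf 0)))) (.node (.node (.node (.leaf 17345) (.leaf 4110)) (.node (.leaf 18920) (.leaf 0))) (.node (.node (.leaf 16273) (.leaf 0)) (.node (.leaf 18947) (.leaf 0))))) (.node (.node (.node (.node (.leaf 1674) (.leaf 11193)) (.node (.leaf 632) (.leaf 0))) (.node (.node (.leaf 12211) (.leaf 0)) (.node (.leaf 11589) (.leaf 0)))) (.node (.node (.node (.leaf 4695) (.leaf 20176)) (.node (.leaf 2975) (.leaf 0))) (.node (.node (.leaf 11114) (.leaf 0)) (.node (.leaf 6922) (.leaf 0)))))) (.node (.node (.node (.node (.node (.leaf 10221) (.leaf 1919)) (.node (.leaf 1010) (.leaf 0))) (.node (.node (.leaf 20362) (.leaf 7092)) (.node (.leaf 20909) (.leaf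 0)))) (.node (.node (.node (.leaf 12275) (.leaf 14127)) (.node (.leaf 593) (.leaf 0))) (.node (.node (.leaf 4983) (.leaf 0)) (.node (.leaf 21265) (.leaf 0))))) (.node (.node (.node (.node (.leaf 15984) (.leaf 6313)) (.node (.leaf 17169) (.leaf 0))) (.node (.node (.leaf 15925) (.leaf 0)) (.node (.leaf 14465) (.leaf 0)))) (.node (.node (.node (.leaf 8372) (.leaf 8511)) (.node (.leaf 2392) (.leaf 0))) (.node (.node (.leaf 20096) (.leaf 0)) (.node (.leaf 19826) (.leaf 0))))))) (.node (.node (.node (.node (.node (.node (.leaf 11017) (.leaf 8202)) (.node (.leaf 6282) (.leaf 0))) (.node (.node (.leaf 18768) (.leaf 7548)) (.node (.leaf 6859) (.leaf 0)))) (.node (.node (.node (.leaf 17587) (.leaf 18804)) (.node (.leaf 18034) (.leaf 0))) (.node (.node (.leaf 17423) (.leaf 0)) (.node (.leaf 16955) (.leaf 0))))) (.node (.node (.node (.node (.leaf 2869) (.leaf 5907)) (.node (.leaf 6630) (.leaf 0))) (.node (.node (.leaf 9384) (.leaf 0)) (.node (.leaf 3843) (.leaf 0)))) (.node (.node (.node (.leaf 14420) (.leaf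 21229)) (.node (.leaf 13723) (.leaf 0))) (.node (.node (.leaf 6721) (.leaf 0)) (.node (.leaf 17194) (.leaf 0)))))) (.node (.node (.node (.node (.node (.leaf 1597) (.leaf 13977)) (.node (.leaf 7063) (.leaf 0))) (.node (.node (.leaf 1130) (.leaf 12016)) (.node (.leaf 1852) (.leaf 0)))) (.node (.node (.node (.leaf 5787) (.leaf 10305)) (.node (.leaf 18960) (.leaf 0))) (.node (.node (.leaf 1651) (.leaf 0)) (.node (.leaf 4533) (.leaf 0))))) (.node (.node (.node (.node (.leaf 11468) (.leaf 8354)) (.node (.leaf 2060) (.leaf 0))) (.node (.node (.leaf 1005) (.leaf 0)) (.node (.leaf 9053) (.leaf 0)))) (.node (.node (.node (.leaf 10153) (.leaf 17818)) (.node (.leaf 6167) (.leaf 0))) (.node (.node (.leaf 13030) (.leaf 0)) (.node (.leaf 20344) (.leaf 0)))))))) (.node (.node (.node (.node (.node (.node (.node (.leaf 15765) (.leaf 6371)) (.node (.leaf 21190) (.leaf 0))) (.node (.node (.leaf 7714) (.leaf 9782)) (.node (.leaf 12149) (.leaf 0)))) (.node (.node (.node (.leaf 15919) (.leaf 10519)) (.node (.leaf 17184)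 (.leaf 0))) (.node (.node (.leaf 19517) (.leaf 0)) (.node (.leaf 14200) (.leaf 0))))) (.node (.node (.node (.node (.leaf 20686) (.leaf 17660)) (.node (.leaf 18873) (.leaf 0))) (.node (.node (.leaf 15541) (.leaf 0)) (.node (.leaf 2794) (.leaf 0)))) (.node (.node (.node (.leaf 9748) (.leaf 9253)) (.node (.leaf 17787) (.leaf 0))) (.node (.node (.leaf 15518) (.leaf 0)) (.node (.leaf 17792) (.leaf 0)))))) (.node (.node (.node (.node (.node (.leaf 18097) (.leaf 17196)) (.node (.leaf 3434) (.leaf 0))) (.node (.node (.leaf 1850) (.leaf 19059)) (.node (.leaf 18152) (.leaf 0)))) (.node (.node (.node (.leaf 10666) (.leaf 3789)) (.node (.leaf 17641) (.leaf 0))) (.node (.node (.leaf 20147) (.leaf 0)) (.node (.leaf 18443) (.leaf 0))))) (.node (.node (.node (.node (.leaf 16480) (.leaf 18968)) (.node (.leaf 12041) (.leaf 0))) (.node (.node (.leaf 11954) (.leaf 0)) (.node (.leaf 19912) (.leaf 0)))) (.node (.node (.node (.leaf 18163) (.leaf 395)) (.node (.leaf 18614) (.leaf 0))) (.node (.node (.leaf 16398) (.leaf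 0)) (.node (.leaf 8735) (.leaf 0))))))) (.node (.node (.node (.node (.node (.node (.leaf 932) (.leaf 11395)) (.node (.leaf 18314) (.leaf 0))) (.node (.node (.leaf 4188) (.leaf 2366)) (.node (.leaf 20160) (.leaf 0)))) (.node (.node (.node (.leaf 5562) (.leaf 16168)) (.node (.leaf 8749) (.leaf 0))) (.node (.node (.leaf 16681) (.leaf 0)) (.node (.leaf 15002) (.leaf 0))))) (.node (.node (.node (.node (.leaf 16450) (.leaf 4783)) (.node (.leaf 10418) (.leaf 0))) (.node (.node (.leaf 11802) (.leaf 0)) (.node (.leaf 7948) (.leaf 0)))) (.node (.node (.node (.leaf 1865) (.leaf 5321)) (.node (.leaf 5999) (.leaf 0))) (.node (.node (.leaf 8598) (.leaf 0)) (.node (.leaf 2832) (.leaf 0)))))) (.node (.node (.node (.node (.node (.leaf 17576) (.leaf 4503)) (.node (.leaf 8780) (.leaf 0))) (.node (.node (.leaf 3927) (.leaf 12430)) (.node (.leaf 4854) (.leaf 0)))) (.node (.node (.node (.leaf 17614) (.leaf 15666)) (.node (.leaf 16719) (.leaf 0))) (.node (.node (.leaf 12621) (.leaf 0)) (.node (.leaf 17078) (.leaf 0)))))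 (.node (.node (.node (.node (.leaf 3298) (.leaf 11481)) (.node (.leaf 15880) (.leaf 0))) (.node (.node (.leaf 1027) (.leaf 0)) (.node (.leaf 3490) (.leaf 0)))) (.node (.node (.node (.leaf 223) (.leaf 18376)) (.node (.leaf 12924) (.leaf 0))) (.node (.node (.leaf 16666) (.leaf 0)) (.node (.leaf 14459) (.leaf 0)))))))))

/-- part of a table -/
def ordM63 : Trie := (.node (.node (.node (.node (.node (.node (.node (.node (.leaf 19152) (.leaf 5273)) (.node (.leaf 8032) (.leaf 0))) (.node (.node (.leaf 7446) (.leaf 3420)) (.node (.leaf 5775) (.leaf 0)))) (.node (.node (.node (.leaf 9258) (.leaf 18029)) (.node (.leaf 14329) (.leaf 0))) (.node (.node (.leaf 10420) (.leaf 0)) (.node (.leaf 11237) (.leaf 0))))) (.node (.node (.node (.node (.leaf 17517) (.leaf 17684)) (.node (.leaf 2165) (.leaf 0))) (.node (.node (.leaf 15510) (.leaf 0)) (.node (.leaf 9912) (.leaf 0)))) (.node (.node (.node (.leaf 1468) (.leaf 10858)) (.node (.leaf 3251) (.leaf 0))) (.node (.node (.leaf 8045) (.leaf 0)) (.node (.leaf 11851)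 (.leaf 0)))))) (.node (.node (.node (.node (.node (.leaf 15603) (.leaf 509)) (.node (.leaf 2576) (.leaf 0))) (.node (.node (.leaf 15265) (.leaf 15911)) (.node (.leaf 8991) (.leaf 0)))) (.node (.node (.node (.leaf 3903) (.leaf 15814)) (.node (.leaf 2348) (.leaf 0))) (.node (.node (.leaf 10195) (.leaf 0)) (.node (.leaf 12872) (.leaf 0))))) (.node (.node (.node (.node (.leaf 19088) (.leaf 10079)) (.node (.leaf 2848) (.leaf 0))) (.node (.node (.leaf 3393) (.leaf 0)) (.node (.leaf 14723) (.leaf 0)))) (.node (.node (.node (.leaf 276) (.leaf 16679)) (.node (.leaf 6252) (.leaf 0))) (.node (.node (.leaf 15115) (.leaf 0)) (.node (.leaf 14397) (.leaf 0))))))) (.node (.node (.node (.node (.node (.node (.leaf 8681) (.leaf 6977)) (.node (.leaf 13730) (.leaf 0))) (.node (.node (.leaf 4882) (.leaf 9287)) (.node (.leaf 2880) (.leaf 0)))) (.node (.node (.node (.leaf 16155) (.leaf 19064)) (.node (.leaf 20072) (.leaf 0))) (.node (.node (.leaf 13744) (.leaf 0)) (.node (.leaf 12601) (.leaf 0))))) (.node (.node (.node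 (.node (.leaf 961) (.leaf 12064)) (.node (.leaf 12493) (.leaf 0))) (.node (.node (.leaf 21214) (.leaf 0)) (.node (.leaf 14577) (.leaf 0)))) (.node (.node (.node (.leaf 17895) (.leaf 21438)) (.node (.leaf 20698) (.leaf 0))) (.node (.node (.leaf 14858) (.leaf 0)) (.node (.leaf 5881) (.leaf 0)))))) (.node (.node (.node (.node (.node (.leaf 49) (.leaf 13098)) (.node (.leaf 2540) (.leaf 0))) (.node (.node (.leaf 4007) (.leaf 6450)) (.node (.leaf 5424) (.leaf 0)))) (.node (.node (.node (.leaf 17324) (.leaf 2294)) (.node (.leaf 2191) (.leaf 0))) (.node (.node (.leaf 10962) (.leaf 0)) (.node (.leaf 1545) (.leaf 0))))) (.node (.node (.node (.node (.leaf 14460) (.leaf 20789)) (.node (.leaf 7112) (.leaf 0))) (.node (.node (.leaf 13577) (.leaf 0)) (.node (.leaf 18412) (.leaf 0)))) (.node (.node (.node (.leaf 19913) (.leaf 18884)) (.node (.leaf 6261) (.leaf 0))) (.node (.node (.leaf 20228) (.leaf 0)) (.node (.leaf 2898) (.leaf 0)))))))) (.node (.node (.node (.node (.node (.node (.node (.leaf 8893) (.leaf 18660))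 (.node (.leaf 18601) (.leaf 0))) (.node (.node (.leaf 13789) (.leaf 13861)) (.node (.leaf 5374) (.leaf 0)))) (.node (.node (.node (.leaf 2943) (.leaf 4120)) (.node (.leaf 9905) (.leaf 0))) (.node (.node (.leaf 5814) (.leaf 0)) (.node (.leaf 8129) (.leaf 0))))) (.node (.node (.node (.node (.leaf 6296) (.leaf 12095)) (.node (.leaf 21232) (.leaf 0))) (.node (.node (.leaf 17143) (.leaf 0)) (.node (.leaf 1218) (.leaf 0)))) (.node (.node (.node (.leaf 2454) (.leaf 9626)) (.node (.leaf 16186) (.leaf 0))) (.node (.node (.leaf 20960) (.leaf 0)) (.node (.leaf 11357) (.leaf 0)))))) (.node (.node (.node (.node (.node (.leaf 14825) (.leaf 21366)) (.node (.leaf 1113) (.leaf 0))) (.node (.node (.leaf 2611) (.leaf 18807)) (.node (.leaf 16562) (.leaf 0)))) (.node (.node (.node (.leaf 8475) (.leaf 7707)) (.node (.leaf 8615) (.leaf 0))) (.node (.node (.leaf 18157) (.leaf 0)) (.node (.leaf 20984) (.leaf 0))))) (.node (.node (.node (.node (.leaf 9078) (.leaf 4880)) (.node (.leaf 4693) (.leaf 0))) (.node (.node (.leaf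 7883) (.leaf 0)) (.node (.leaf 12220) (.leaf 0)))) (.node (.node (.node (.leaf 7845) (.leaf 6051)) (.node (.leaf 20608) (.leaf 0))) (.node (.node (.leaf 12455) (.leaf 0)) (.node (.leaf 4893) (.leaf 0))))))) (.node (.node (.node (.node (.node (.node (.leaf 12636) (.leaf 4276)) (.node (.leaf 2647) (.leaf 0))) (.node (.node (.leaf 10366) (.leaf 14371)) (.node (.leaf 20417) (.leaf 0)))) (.node (.node (.node (.leaf 3465) (.leaf 15120)) (.node (.leaf 1909) (.leaf 0))) (.node (.node (.leaf 3445) (.leaf 0)) (.node (.leaf 17050) (.leaf 0))))) (.node (.node (.node (.node (.leaf 17998) (.leaf 2820)) (.node (.leaf 12930) (.leaf 0))) (.node (.node (.leaf 6288) (.leaf 0)) (.node (.leaf 12003) (.leaf 0)))) (.node (.node (.node (.leaf 18026) (.leaf 7496)) (.node (.leaf 16261) (.leaf 0))) (.node (.node (.leaf 4417) (.leaf 0)) (.node (.leaf 5897) (.leaf 0)))))) (.node (.node (.node (.node (.node (.leaf 10545) (.leaf 11505)) (.node (.leaf 17840) (.leaf 0))) (.node (.node (.leaf 3555) (.leaf 5480)) (.node (.leaf 10779)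 (.leaf 0)))) (.node (.node (.node (.leaf 7850) (.leaf 13482)) (.node (.leaf 12247) (.leaf 0))) (.node (.node (.leaf 12694) (.leaf 0)) (.node (.leaf 18150) (.leaf 0))))) (.node (.node (.node (.node (.leaf 19458) (.leaf 4246)) (.node (.leaf 7124) (.leaf 0))) (.node (.node (.leaf 2663) (.leaf 0)) (.node (.leaf 11591) (.leaf 0)))) (.node (.node (.node (.leaf 1041) (.leaf 11186)) (.node (.leaf 5217) (.leaf 0))) (.node (.node (.leaf 13896) (.leaf 0)) (.node (.leaf 14639) (.leaf 0)))))))))

/-- part of a table -/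
def ordM64 : Trie := (.node (.node (.node (.node (.node (.node (.node (.node (.leaf 20296) (.leaf 9364)) (.node (.leaf 17958) (.leaf 0))) (.node (.node (.leaf 18724) (.leaf 6506)) (.node (.leaf 16377) (.leaf 0)))) (.node (.node (.node (.leaf 4142) (.leaf 20410)) (.node (.leaf 5355) (.leaf 0))) (.node (.node (.leaf 18357) (.leaf 0)) (.node (.leaf 16804) (.leaf 0))))) (.node (.node (.node (.node (.leaf 14913) (.leaf 12185)) (.node (.leaf 9837) (.leaf 0))) (.node (.node (.leaf 8988) (.leaf 0)) (.node (.leaf 15121) (.leaf 0)))) (.node (.node (.node (.leaf 15955) (.leaf 8439)) (.node (.leaf 797) (.leaf 0))) (.node (.node (.leaf 9557) (.leaf 0)) (.node (.leaf 12295) (.leaf 0)))))) (.node (.node (.node (.node (.node (.leaf 5640) (.leaf 16631)) (.node (.leaf 2170) (.leaf 0))) (.node (.node (.leaf 3608) (.leaf 15558)) (.node (.leaf 17515) (.leaf 0)))) (.node (.node (.node (.leaf 771) (.leaf 2104)) (.node (.leaf 15539) (.leaf 0))) (.node (.node (.leaf 13898) (.leaf 0)) (.node (.leaf 19121) (.leaf 0))))) (.node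 (.node (.node (.node (.leaf 4089) (.leaf 2828)) (.node (.leaf 21291) (.leaf 0))) (.node (.node (.leaf 3905) (.leaf 0)) (.node (.leaf 20389) (.leaf 0)))) (.node (.node (.node (.leaf 206) (.leaf 286)) (.node (.leaf 14816) (.leaf 0))) (.node (.node (.leaf 9263) (.leaf 0)) (.node (.leaf 6756) (.leaf 0))))))) (.node (.node (.node (.node (.node (.node (.leaf 11541) (.leaf 7351)) (.node (.leaf 2300) (.leaf 0))) (.node (.node (.leaf 1789) (.leaf 8861)) (.node (.leaf 19875) (.leaf 0)))) (.node (.node (.node (.leaf 10028) (.leaf 10584)) (.node (.leaf 14604) (.leaf 0))) (.node (.node (.leaf 7234) (.leaf 0)) (.node (.leaf 1401) (.leaf 0))))) (.node (.node (.node (.node (.leaf 15988) (.leaf 11990)) (.node (.leaf 7027) (.leaf 0))) (.node (.node (.leaf 15606) (.leaf 0)) (.node (.leaf 6122) (.leaf 0)))) (.node (.node (.node (.leaf 19464) (.leaf 15859)) (.node (.leaf 14285) (.leaf 0))) (.node (.node (.leaf 12011) (.leaf 0)) (.node (.leaf 14037) (.leaf 0)))))) (.node (.node (.node (.node (.node (.leaf 1048) (.leaf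 15030)) (.node (.leaf 21077) (.leaf 0))) (.node (.node (.leaf 8804) (.leaf 16250)) (.node (.leaf 21350) (.leaf 0)))) (.node (.node (.node (.leaf 11649) (.leaf 2679)) (.node (.leaf 17109) (.leaf 0))) (.node (.node (.leaf 18334) (.leaf 0)) (.node (.leaf 1366) (.leaf 0))))) (.node (.node (.node (.node (.leaf 7945) (.leaf 3792)) (.node (.leaf 17654) (.leaf 0))) (.node (.node (.leaf 6223) (.leaf 0)) (.node (.leaf 3195) (.leaf 0)))) (.node (.node (.node (.leaf 4662) (.leaf 9238)) (.node (.leaf 10032) (.leaf 0))) (.node (.node (.leaf 7695) (.leaf 0)) (.node (.leaf 9966) (.leaf 0)))))))) (.node (.node (.node (.node (.node (.node (.node (.leaf 6620) (.leaf 12179)) (.node (.leaf 8178) (.leaf 0))) (.node (.node (.leaf 3871) (.leaf 16346)) (.node (.leaf 20078) (.leaf 0)))) (.node (.node (.node (.leaf 9132) (.leaf 5344)) (.node (.leaf 278) (.leaf 0))) (.node (.node (.leaf 3226) (.leaf 0)) (.node (.leaf 6069) (.leaf 0))))) (.node (.node (.node (.node (.leaf 15906) (.leaf 4135)) (.node (.leaf 16057) (.leaf 0)))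 (.node (.node (.leaf 16693) (.leaf 0)) (.node (.leaf 17557) (.leaf 0)))) (.node (.node (.node (.leaf 16821) (.leaf 13788)) (.node (.leaf 3399) (.leaf 0))) (.node (.node (.leaf 21142) (.leaf 0)) (.node (.leaf 3452) (.leaf 0)))))) (.node (.node (.node (.node (.node (.leaf 5157) (.leaf 4686)) (.node (.leaf 18657) (.leaf 0))) (.node (.node (.leaf 15717) (.leaf 1699)) (.node (.leaf 17439) (.leaf 0)))) (.node (.node (.node (.leaf 1442) (.leaf 18244)) (.node (.leaf 7790) (.leaf 0))) (.node (.node (.leaf 20743) (.leaf 0)) (.node (.leaf 16387) (.leaf 0))))) (.node (.node (.node (.node (.leaf 17760) (.leaf 9417)) (.node (.leaf 14867) (.leaf 0))) (.node (.node (.leaf 2742) (.leaf 0)) (.node (.leaf 19240) (.leaf 0)))) (.node (.node (.node (.leaf 19932) (.leaf 13499)) (.node (.leaf 17442) (.leaf 0))) (.node (.node (.leaf 16921) (.leaf 0)) (.node (.leaf 14933) (.leaf 0))))))) (.node (.node (.node (.node (.node (.node (.leaf 10010) (.leaf 1918)) (.node (.leaf 20276) (.leaf 0))) (.node (.node (.leaf 7402) (.leaf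 17092)) (.node (.leaf 3728) (.leaf 0)))) (.node (.node (.node (.leaf 11042) (.leaf 1713)) (.node (.leaf 20859) (.leaf 0))) (.node (.node (.leaf 7736) (.leaf 0)) (.node (.leaf 6581) (.leaf 0))))) (.node (.node (.node (.node (.leaf 2360) (.leaf 8710)) (.node (.leaf 8041) (.leaf 0))) (.node (.node (.leaf 15118) (.leaf 0)) (.node (.leaf 12628) (.leaf 0)))) (.node (.node (.node (.leaf 6243) (.leaf 10543)) (.node (.leaf 2250) (.leaf 0))) (.node (.node (.leaf 5317) (.leaf 0)) (.node (.leaf 11159) (.leaf 0)))))) (.node (.node (.node (.node (.node (.leaf 1727) (.leaf 5222)) (.node (.leaf 13097) (.leaf 0))) (.node (.node (.leaf 13563) (.leaf 323)) (.node (.leaf 17536) (.leaf 0)))) (.node (.node (.node (.leaf 5133) (.leaf 13724)) (.node (.leaf 15220) (.leaf 0))) (.node (.node (.leaf 9440) (.leaf 0)) (.node (.leaf 14585) (.leaf 0))))) (.node (.node (.node (.node (.leaf 10657) (.leaf 781)) (.node (.leaf 16073) (.leaf 0))) (.node (.node (.leaf 7854) (.leaf 0)) (.node (.leaf 3046) (.leaf 0)))) (.node (.node (.node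 (.leaf 19401) (.leaf 17009)) (.node (.leaf 1319) (.leaf 0))) (.node (.node (.leaf 5119) (.leaf 0)) (.node (.leaf 18765) (.leaf 0)))))))))

/-- part of a table -/
def ordM65 : Trie := (.node (.node (.node (.node (.node (.node (.node (.node (.leaf 11146) (.leaf 10521)) (.node (.leaf 20009) (.leaf 0))) (.node (.node (.leaf 20126) (.leaf 16365)) (.node (.leaf 6646) (.leaf 0)))) (.node (.node (.node (.leaf 5195) (.leaf 19851)) (.node (.leaf 10879) (.leaf 0))) (.node (.node (.leaf 17665) (.leaf 0)) (.node (.leaf 17249) (.leaf 0))))) (.node (.node (.node (.node (.leaf 14188) (.leaf 13685)) (.node (.leaf 8234) (.leaf 0))) (.node (.node (.leaf 3152) (.leaf 0)) (.node (.leaf 7681) (.leaf 0)))) (.node (.node (.node (.leaf 17207) (.leaf 644)) (.node (.leaf 339) (.leaf 0))) (.node (.node (.leaf 13075) (.leaf 0)) (.node (.leaf 18424) (.leaf 0)))))) (.node (.node (.node (.node (.node (.leaf 11032) (.leaf 9112)) (.node (.leaf 17414) (.leaf 0))) (.node (.node (.leaf 8928) (.leaf 3479)) (.node (.leaf 20684) (.leaf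 0)))) (.node (.node (.node (.leaf 1976) (.leaf 19049)) (.node (.leaf 20640) (.leaf 0))) (.node (.node (.leaf 18143) (.leaf 0)) (.node (.leaf 17518) (.leaf 0))))) (.node (.node (.node (.node (.leaf 1155) (.leaf 8826)) (.node (.leaf 20645) (.leaf 0))) (.node (.node (.leaf 192) (.leaf 0)) (.node (.leaf 19588) (.leaf 0)))) (.node (.node (.node (.leaf 3529) (.leaf 5530)) (.node (.leaf 20138) (.leaf 0))) (.node (.node (.leaf 19160) (.leaf 0)) (.node (.leaf 238) (.leaf 0))))))) (.node (.node (.node (.node (.node (.node (.leaf 16071) (.leaf 11110)) (.node (.leaf 4979) (.leaf 0))) (.node (.node (.leaf 12945) (.leaf 19187)) (.node (.leaf 8401) (.leaf 0)))) (.node (.node (.node (.leaf 4475) (.leaf 19140)) (.node (.leaf 17809) (.leaf 0))) (.node (.node (.leaf 1572) (.leaf 0)) (.node (.leaf 3005) (.leaf 0))))) (.node (.node (.node (.node (.leaf 6408) (.leaf 2094)) (.node (.leaf 1670) (.leaf 0))) (.node (.node (.leaf 11484) (.leaf 0)) (.node (.leaf 12502) (.leaf 0)))) (.node (.node (.node (.leaf 17220) (.leaf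 6062)) (.node (.leaf 4820) (.leaf 0))) (.node (.node (.leaf 8480) (.leaf 0)) (.node (.leaf 16232) (.leaf 0)))))) (.node (.node (.node (.node (.node (.leaf 13631) (.leaf 16159)) (.node (.leaf 18526) (.leaf 0))) (.node (.node (.leaf 18503) (.leaf 5327)) (.node (.leaf 20867) (.leaf 0)))) (.node (.node (.node (.leaf 14374) (.leaf 1009)) (.node (.leaf 16252) (.leaf 0))) (.node (.node (.leaf 8545) (.leaf 0)) (.node (.leaf 14496) (.leaf 0))))) (.node (.node (.node (.node (.leaf 505) (.leaf 7709)) (.node (.leaf 20779) (.leaf 0))) (.node (.node (.leaf 337) (.leaf 0)) (.node (.leaf 9097) (.leaf 0)))) (.node (.node (.node (.leaf 353) (.leaf 5754)) (.node (.leaf 4479) (.leaf 0))) (.node (.node (.leaf 16880) (.leaf 0)) (.node (.leaf 17844) (.leaf 0)))))))) (.node (.node (.node (.node (.node (.node (.node (.leaf 4316) (.leaf 4613)) (.node (.leaf 3123) (.leaf 0))) (.node (.node (.leaf 17460) (.leaf 5067)) (.node (.leaf 2994) (.leaf 0)))) (.node (.node (.node (.leaf 16436) (.leaf 14208)) (.node (.leaf 5736) (.leaf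 0))) (.node (.node (.leaf 778) (.leaf 0)) (.node (.leaf 9549) (.leaf 0))))) (.node (.node (.node (.node (.leaf 17409) (.leaf 9372)) (.node (.leaf 9888) (.leaf 0))) (.node (.node (.leaf 2333) (.leaf 0)) (.node (.leaf 1653) (.leaf 0)))) (.node (.node (.node (.leaf 15693) (.leaf 8451)) (.node (.leaf 17236) (.leaf 0))) (.node (.node (.leaf 20784) (.leaf 0)) (.node (.leaf 8968) (.leaf 0)))))) (.node (.node (.node (.node (.node (.leaf 6455) (.leaf 15057)) (.node (.leaf 6939) (.leaf 0))) (.node (.node (.leaf 3296) (.leaf 17304)) (.node (.leaf 1686) (.leaf 0)))) (.node (.node (.node (.leaf 4581) (.leaf 17331)) (.node (.leaf 10333) (.leaf 0))) (.node (.node (.leaf 18609) (.leaf 0)) (.node (.leaf 20319) (.leaf 0))))) (.node (.node (.node (.node (.leaf 11569) (.leaf 2414)) (.node (.leaf 9983) (.leaf 0))) (.node (.node (.leaf 167) (.leaf 0)) (.node (.leaf 18876) (.leaf 0)))) (.node (.node (.node (.leaf 14336) (.leaf 12552)) (.node (.leaf 14129) (.leaf 0))) (.node (.node (.leaf 4405) (.leaf 0)) (.node (.leaf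 2714) (.leaf 0))))))) (.node (.node (.node (.node (.node (.node (.leaf 18028) (.leaf 8106)) (.node (.leaf 10422) (.leaf 0))) (.node (.node (.leaf 1776) (.leaf 1814)) (.node (.leaf 16454) (.leaf 0)))) (.node (.node (.node (.leaf 8682) (.leaf 6085)) (.node (.leaf 8364) (.leaf 0))) (.node (.node (.leaf 18568) (.leaf 0)) (.node (.leaf 15650) (.leaf 0))))) (.node (.node (.node (.node (.leaf 6677) (.leaf 12285)) (.node (.leaf 16591) (.leaf 0))) (.node (.node (.leaf 10212) (.leaf 0)) (.node (.leaf 19746) (.leaf 0)))) (.node (.node (.node (.leaf 16013) (.leaf 15218)) (.node (.leaf 3641) (.leaf 0))) (.node (.node (.leaf 12810) (.leaf 0)) (.node (.leaf 6833) (.leaf 0)))))) (.node (.node (.node (.node (.node (.leaf 84) (.leaf 11092)) (.node (.leaf 4519) (.leaf 0))) (.node (.node (.leaf 972) (.leaf 4781)) (.node (.leaf 15212) (.leaf 0)))) (.node (.node (.node (.leaf 18457) (.leaf 17020)) (.node (.leaf 19323) (.leaf 0))) (.node (.node (.leaf 4802) (.leaf 0)) (.node (.leaf 8407) (.leaf 0))))) (.node (.node (.node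 (.node (.leaf 4304) (.leaf 2996)) (.node (.leaf 20170) (.leaf 0))) (.node (.node (.leaf 10913) (.leaf 0)) (.node (.leaf 7360) (.leaf 0)))) (.node (.node (.node (.leaf 5398) (.leaf 15538)) (.node (.leaf 14486) (.leaf 0))) (.node (.node (.leaf 1232) (.leaf 0)) (.node (.leaf 14899) (.leaf 0)))))))))

/-- part of a table -/
def ordM66 : Trie := (.node (.node (.node (.node (.node (.node (.node (.node (.leaf 4692) (.leaf 8488)) (.node (.leaf 14143) (.leaf 0))) (.node (.node (.leaf 3110) (.leaf 13314)) (.node (.leaf 4870) (.leaf 0)))) (.node (.node (.node (.leaf 12235) (.leaf 10042)) (.node (.leaf 5639) (.leaf 0))) (.node (.node (.leaf 9871) (.leaf 0)) (.node (.leaf 15776) (.leaf 0))))) (.node (.node (.node (.node (.leaf 14903) (.leaf 21398)) (.node (.leaf 9768) (.leaf 0))) (.node (.node (.leaf 4294) (.leaf 0)) (.node (.leaf 1047) (.leaf 0)))) (.node (.node (.node (.leaf 18403) (.leaf 3411)) (.node (.leaf 14223) (.leaf 0))) (.node (.node (.leaf 3794) (.leaf 0)) (.node (.leaf 18530) (.leaf 0)))))) (.node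 (.node (.node (.node (.node (.leaf 14106) (.leaf 1149)) (.node (.leaf 11149) (.leaf 0))) (.node (.node (.leaf 16221) (.leaf 256)) (.node (.leaf 2216) (.leaf 0)))) (.node (.node (.node (.leaf 1590) (.leaf 750)) (.node (.leaf 5232) (.leaf 0))) (.node (.node (.leaf 7395) (.leaf 0)) (.node (.leaf 4513) (.leaf 0))))) (.node (.node (.node (.node (.leaf 9348) (.leaf 19709)) (.node (.leaf 5925) (.leaf 0))) (.node (.node (.leaf 18001) (.leaf 0)) (.node (.leaf 41) (.leaf 0)))) (.node (.node (.node (.leaf 18437) (.leaf 19601)) (.node (.leaf 12391) (.leaf 0))) (.node (.node (.leaf 7342) (.leaf 0)) (.node (.leaf 16554) (.leaf 0))))))) (.node (.node (.node (.node (.node (.node (.leaf 16055) (.leaf 15588)) (.node (.leaf 10242) (.leaf 0))) (.node (.node (.leaf 10995) (.leaf 7969)) (.node (.leaf 8907) (.leaf 0)))) (.node (.node (.node (.leaf 11078) (.leaf 15458)) (.node (.leaf 17559) (.leaf 0))) (.node (.node (.leaf 18468) (.leaf 0)) (.node (.leaf 11865) (.leaf 0))))) (.node (.node (.node (.node (.leaf 617) (.leaf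 14721)) (.node (.leaf 5664) (.leaf 0))) (.node (.node (.leaf 2525) (.leaf 0)) (.node (.leaf 6565) (.leaf 0)))) (.node (.node (.node (.leaf 7946) (.leaf 10017)) (.node (.leaf 13848) (.leaf 0))) (.node (.node (.leaf 12757) (.leaf 0)) (.node (.leaf 15867) (.leaf 0)))))) (.node (.node (.node (.node (.node (.leaf 20615) (.leaf 5135)) (.node (.leaf 16519) (.leaf 0))) (.node (.node (.leaf 19235) (.leaf 2836)) (.node (.leaf 8139) (.leaf 0)))) (.node (.node (.node (.leaf 15691) (.leaf 11359)) (.node (.leaf 4718) (.leaf 0))) (.node (.node (.leaf 2737) (.leaf 0)) (.node (.leaf 2040) (.leaf 0))))) (.node (.node (.node (.node (.leaf 7386) (.leaf 4296)) (.node (.leaf 1750) (.leaf 0))) (.node (.node (.leaf 16289) (.leaf 0)) (.node (.leaf 3808) (.leaf 0)))) (.node (.node (.node (.leaf 11515) (.leaf 7199)) (.node (.leaf 17368) (.leaf 0))) (.node (.node (.leaf 11646) (.leaf 0)) (.node (.leaf 20585) (.leaf 0)))))))) (.node (.node (.node (.node (.node (.node (.node (.leaf 13521) (.leaf 10293)) (.node (.leaf 8251) (.leaf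 0))) (.node (.node (.leaf 6301) (.leaf 16577)) (.node (.leaf 13382) (.leaf 0)))) (.node (.node (.node (.leaf 19631) (.leaf 12902)) (.node (.leaf 14086) (.leaf 0))) (.node (.node (.leaf 4764) (.leaf 0)) (.node (.leaf 13414) (.leaf 0))))) (.node (.node (.node (.node (.leaf 3831) (.leaf 15633)) (.node (.leaf 15761) (.leaf 0))) (.node (.node (.leaf 10380) (.leaf 0)) (.node (.leaf 13418) (.leaf 0)))) (.node (.node (.node (.leaf 3076) (.leaf 19892)) (.node (.leaf 12923) (.leaf 0))) (.node (.node (.leaf 14298) (.leaf 0)) (.node (.leaf 18104) (.leaf 0)))))) (.node (.node (.node (.node (.node (.leaf 836) (.leaf 7485)) (.node (.leaf 1314) (.leaf 0))) (.node (.node (.leaf 12683) (.leaf 16098)) (.node (.leaf 5648) (.leaf 0)))) (.node (.node (.node (.leaf 6961) (.leaf 773)) (.node (.leaf 13834) (.leaf 0))) (.node (.node (.leaf 14078) (.leaf 0)) (.node (.leaf 20653) (.leaf 0))))) (.node (.node (.node (.node (.leaf 3860) (.leaf 15937)) (.node (.leaf 13564) (.leaf 0))) (.node (.node (.leaf 9318) (.leaf 0)) (.node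 (.leaf 8378) (.leaf 0)))) (.node (.node (.node (.leaf 7219) (.leaf 5046)) (.node (.leaf 1398) (.leaf 0))) (.node (.node (.leaf 12741) (.leaf 0)) (.node (.leaf 21330) (.leaf 0))))))) (.node (.node (.node (.node (.node (.node (.leaf 18651) (.leaf 15594)) (.node (.leaf 5518) (.leaf 0))) (.node (.node (.leaf 15442) (.leaf 15036)) (.node (.leaf 13934) (.leaf 0)))) (.node (.node (.node (.leaf 7175) (.leaf 521)) (.node (.leaf 7129) (.leaf 0))) (.node (.node (.leaf 11856) (.leaf 0)) (.node (.leaf 2020) (.leaf 0))))) (.node (.node (.node (.node (.leaf 1575) (.leaf 19479)) (.node (.leaf 17375) (.leaf 0))) (.node (.node (.leaf 4697) (.leaf 0)) (.node (.leaf 5352) (.leaf 0)))) (.node (.node (.node (.leaf 1802) (.leaf 1108)) (.node (.leaf 15894) (.leaf 0))) (.node (.node (.leaf 5606) (.leaf 0)) (.node (.leaf 15312) (.leaf 0)))))) (.node (.node (.node (.node (.node (.leaf 873) (.leaf 9947)) (.node (.leaf 5835) (.leaf 0))) (.node (.node (.leaf 8334) (.leaf 4494)) (.node (.leaf 18513) (.leaf 0)))) (.node (.node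 (.node (.leaf 20610) (.leaf 7541)) (.node (.leaf 1269) (.leaf 0))) (.node (.node (.leaf 501) (.leaf 0)) (.node (.leaf 18769) (.leaf 0))))) (.node (.node (.node (.node (.leaf 4704) (.leaf 18633)) (.node (.leaf 88) (.leaf 0))) (.node (.node (.leaf 18292) (.leaf 0)) (.node (.leaf 5608) (.leaf 0)))) (.node (.node (.node (.leaf 13256) (.leaf 17617)) (.node (.leaf 5883) (.leaf 0))) (.node (.node (.leaf 1929) (.leaf 0)) (.node (.leaf 10364) (.leaf 0)))))))))

/-- part of a table -/
def ordM67 : Trie := (.node (.node (.node (.node (.node (.node (.node (.node (.leaf 9313) (.leaf 6099)) (.node (.leaf 8021) (.leaf 0))) (.node (.node (.leaf 6218) (.leaf 4583)) (.node (.leaf 14426) (.leaf 0)))) (.node (.node (.node (.leaf 9308) (.leaf 3930)) (.node (.leaf 10927) (.leaf 0))) (.node (.node (.leaf 4757) (.leaf 0)) (.node (.leaf 6343) (.leaf 0))))) (.node (.node (.node (.node (.leaf 11067) (.leaf 15769)) (.node (.leaf 10659) (.leaf 0))) (.node (.node (.leaf 7805) (.leaf 0)) (.node (.leaf 10403) (.leaf 0)))) (.node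 (.node (.node (.leaf 6613) (.leaf 12833)) (.node (.leaf 11038) (.leaf 0))) (.node (.node (.leaf 786) (.leaf 0)) (.node (.leaf 12570) (.leaf 0)))))) (.node (.node (.node (.node (.node (.leaf 10158) (.leaf 3747)) (.node (.leaf 5585) (.leaf 0))) (.node (.node (.leaf 15185) (.leaf 5229)) (.node (.leaf 16841) (.leaf 0)))) (.node (.node (.node (.leaf 16652) (.leaf 9812)) (.node (.leaf 12960) (.leaf 0))) (.node (.node (.leaf 18615) (.leaf 0)) (.node (.leaf 3120) (.leaf 0))))) (.node (.node (.node (.node (.leaf 16827) (.leaf 15390)) (.node (.leaf 1349) (.leaf 0))) (.node (.node (.leaf 18544) (.leaf 0)) (.node (.leaf 1002) (.leaf 0)))) (.node (.node (.node (.leaf 19740) (.leaf 16795)) (.node (.leaf 6761) (.leaf 0))) (.node (.node (.leaf 11508) (.leaf 0)) (.node (.leaf 20946) (.leaf 0))))))) (.node (.node (.node (.node (.node (.node (.leaf 10777) (.leaf 20699)) (.node (.leaf 18449) (.leaf 0))) (.node (.node (.leaf 20169) (.leaf 38)) (.node (.leaf 17381) (.leaf 0)))) (.node (.node (.node (.leaf 12646) (.leaf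 19408)) (.node (.leaf 8766) (.leaf 0))) (.node (.node (.leaf 7353) (.leaf 0)) (.node (.leaf 7301) (.leaf 0))))) (.node (.node (.node (.node (.leaf 1805) (.leaf 17474)) (.node (.leaf 13929) (.leaf 0))) (.node (.node (.leaf 5202) (.leaf 0)) (.node (.leaf 5733) (.leaf 0)))) (.node (.node (.node (.leaf 13704) (.leaf 4999)) (.node (.leaf 20320) (.leaf 0))) (.node (.node (.leaf 16049) (.leaf 0)) (.node (.leaf 6075) (.leaf 0)))))) (.node (.node (.node (.node (.node (.leaf 3443) (.leaf 8277)) (.node (.leaf 2729) (.leaf 0))) (.node (.node (.leaf 16813) (.leaf 20194)) (.node (.leaf 10371) (.leaf 0)))) (.node (.node (.node (.leaf 6831) (.leaf 8847)) (.node (.leaf 243) (.leaf 0))) (.node (.node (.leaf 11209) (.leaf 0)) (.node (.leaf 5422) (.leaf 0))))) (.node (.node (.node (.node (.leaf 16393) (.leaf 16620)) (.node (.leaf 4920) (.leaf 0))) (.node (.node (.leaf 7158) (.leaf 0)) (.node (.leaf 10063) (.leaf 0)))) (.node (.node (.node (.leaf 9785) (.leaf 2109)) (.node (.leaf 14726) (.leaf 0))) (.node (.node (.leaf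 4443) (.leaf 0)) (.node (.leaf 9218) (.leaf 0)))))))) (.node (.node (.node (.node (.node (.node (.node (.leaf 6182) (.leaf 21022)) (.node (.leaf 16994) (.leaf 0))) (.node (.node (.leaf 14834) (.leaf 13800)) (.node (.leaf 17733) (.leaf 0)))) (.node (.node (.node (.leaf 19730) (.leaf 914)) (.node (.leaf 15023) (.leaf 0))) (.node (.node (.leaf 5704) (.leaf 0)) (.node (.leaf 16916) (.leaf 0))))) (.node (.node (.node (.node (.leaf 12280) (.leaf 6778)) (.node (.leaf 19711) (.leaf 0))) (.node (.node (.leaf 12936) (.leaf 0)) (.node (.leaf 17083) (.leaf 0)))) (.node (.node (.node (.leaf 19817) (.leaf 15204)) (.node (.leaf 8778) (.leaf 0))) (.node (.node (.leaf 18528) (.leaf 0)) (.node (.leaf 9776) (.leaf 0)))))) (.node (.node (.node (.node (.node (.leaf 3547) (.leaf 7104)) (.node (.leaf 5312) (.leaf 0))) (.node (.node (.leaf 6667) (.leaf 20475)) (.node (.leaf 5918) (.leaf 0)))) (.node (.node (.node (.leaf 14229) (.leaf 2953)) (.node (.leaf 7071) (.leaf 0))) (.node (.node (.leaf 19724) (.leaf 0)) (.node (.leaf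 19352) (.leaf 0))))) (.node (.node (.node (.node (.leaf 193) (.leaf 19807)) (.node (.leaf 16087) (.leaf 0))) (.node (.node (.leaf 3344) (.leaf 0)) (.node (.leaf 776) (.leaf 0)))) (.node (.node (.node (.leaf 9515) (.leaf 18379)) (.node (.leaf 1959) (.leaf 0))) (.node (.node (.leaf 886) (.leaf 0)) (.node (.leaf 7442) (.leaf 0))))))) (.node (.node (.node (.node (.node (.node (.leaf 19606) (.leaf 12921)) (.node (.leaf 9744) (.leaf 0))) (.node (.node (.leaf 10848) (.leaf 10561)) (.node (.leaf 10923) (.leaf 0)))) (.node (.node (.node (.leaf 19122) (.leaf 9146)) (.node (.leaf 1503) (.leaf 0))) (.node (.node (.leaf 900) (.leaf 0)) (.node (.leaf 9359) (.leaf 0))))) (.node (.node (.node (.node (.leaf 6444) (.leaf 21037)) (.node (.leaf 8898) (.leaf 0))) (.node (.node (.leaf 21252) (.leaf 0)) (.node (.leaf 10051) (.leaf 0)))) (.node (.node (.node (.leaf 13389) (.leaf 2796)) (.node (.leaf 21340) (.leaf 0))) (.node (.node (.leaf 18562) (.leaf 0)) (.node (.leaf 13689) (.leaf 0)))))) (.node (.node (.node (.node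 (.node (.leaf 10686) (.leaf 11950)) (.node (.leaf 14190) (.leaf 0))) (.node (.node (.leaf 10736) (.leaf 15750)) (.node (.leaf 21374) (.leaf 0)))) (.node (.node (.node (.leaf 3188) (.leaf 10794)) (.node (.leaf 15294) (.leaf 0))) (.node (.node (.leaf 8197) (.leaf 0)) (.node (.leaf 11374) (.leaf 0))))) (.node (.node (.node (.node (.leaf 12661) (.leaf 13997)) (.node (.leaf 385) (.leaf 0))) (.node (.node (.leaf 19935) (.leaf 0)) (.node (.leaf 298) (.leaf 0)))) (.node (.node (.node (.leaf 7146) (.leaf 7208)) (.node (.leaf 10162) (.leaf 0))) (.node (.node (.leaf 17865) (.leaf 0)) (.node (.leaf 16756) (.leaf 0)))))))))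

/-- part of a table -/
def ordM68 : Trie := (.node (.node (.node (.node (.node (.node (.node (.node (.leaf 9520) (.leaf 18723)) (.node (.leaf 12165) (.leaf 0))) (.node (.node (.leaf 19215) (.leaf 3851)) (.node (.leaf 15315) (.leaf 0)))) (.node (.node (.node (.leaf 18800) (.leaf 19078)) (.node (.leaf 7534) (.leaf 0))) (.node (.node (.leaf 11595) (.leaf 0)) (.node (.leaf 12657) (.leaf 0))))) (.node (.node (.node (.node (.leaf 8409) (.leaf 4437)) (.node (.leaf 3058) (.leaf 0))) (.node (.node (.leaf 8746) (.leaf 0)) (.node (.leaf 2666) (.leaf 0)))) (.node (.node (.node (.leaf 1460) (.leaf 7552)) (.node (.leaf 17193) (.leaf 0))) (.node (.node (.leaf 15646) (.leaf 0)) (.node (.leaf 18506) (.leaf 0)))))) (.node (.node (.node (.node (.node (.leaf 5612) (.leaf 20110)) (.node (.leaf 9634) (.leaf 0))) (.node (.node (.leaf 1211) (.leaf 15414)) (.node (.leaf 9719) (.leaf 0)))) (.node (.node (.node (.leaf 9621) (.leaf 13155)) (.node (.leaf 9350) (.leaf 0))) (.node (.node (.leaf 1293) (.leaf 0)) (.node (.leaf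 5847) (.leaf 0))))) (.node (.node (.node (.node (.leaf 9761) (.leaf 166)) (.node (.leaf 17288) (.leaf 0))) (.node (.node (.leaf 18088) (.leaf 0)) (.node (.leaf 16488) (.leaf 0)))) (.node (.node (.node (.leaf 2990) (.leaf 21292)) (.node (.leaf 9192) (.leaf 0))) (.node (.node (.leaf 15455) (.leaf 0)) (.node (.leaf 3055) (.leaf 0))))))) (.node (.node (.node (.node (.node (.node (.leaf 13312) (.leaf 9661)) (.node (.leaf 9255) (.leaf 0))) (.node (.node (.leaf 4147) (.leaf 10912)) (.node (.leaf 2243) (.leaf 0)))) (.node (.node (.node (.leaf 14663) (.leaf 1756)) (.node (.leaf 16785) (.leaf 0))) (.node (.node (.leaf 6293) (.leaf 0)) (.node (.leaf 13936) (.leaf 0))))) (.node (.node (.node (.node (.leaf 16728) (.leaf 5311)) (.node (.leaf 16149) (.leaf 0))) (.node (.node (.leaf 13242) (.leaf 0)) (.node (.leaf 2369) (.leaf 0)))) (.node (.node (.node (.leaf 2823) (.leaf 9285)) (.node (.leaf 11737) (.leaf 0))) (.node (.node (.leaf 2207) (.leaf 0)) (.node (.leaf 16029) (.leaf 0)))))) (.node (.node (.node (.node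 (.node (.leaf 11895) (.leaf 12114)) (.node (.leaf 14622) (.leaf 0))) (.node (.node (.leaf 2358) (.leaf 4737)) (.node (.leaf 17048) (.leaf 0)))) (.node (.node (.node (.leaf 4399) (.leaf 1788)) (.node (.leaf 15756) (.leaf 0))) (.node (.node (.leaf 8140) (.leaf 0)) (.node (.leaf 2295) (.leaf 0))))) (.node (.node (.node (.node (.leaf 4739) (.leaf 3818)) (.node (.leaf 2440) (.leaf 0))) (.node (.node (.leaf 7730) (.leaf 0)) (.node (.leaf 1075) (.leaf 0)))) (.node (.node (.node (.leaf 19377) (.leaf 7231)) (.node (.leaf 2426) (.leaf 0))) (.node (.node (.leaf 6981) (.leaf 0)) (.node (.leaf 3793) (.leaf 0)))))))) (.node (.node (.node (.node (.node (.node (.node (.leaf 19104) (.leaf 17861)) (.node (.leaf 2933) (.leaf 0))) (.node (.node (.leaf 8982) (.leaf 18893)) (.node (.leaf 4282) (.leaf 0)))) (.node (.node (.node (.leaf 15564) (.leaf 17365)) (.node (.leaf 11681) (.leaf 0))) (.node (.node (.leaf 8645) (.leaf 0)) (.node (.leaf 6209) (.leaf 0))))) (.node (.node (.node (.node (.leaf 2252) (.leaf 20717)) (.node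 (.leaf 5793) (.leaf 0))) (.node (.node (.leaf 19534) (.leaf 0)) (.node (.leaf 5908) (.leaf 0)))) (.node (.node (.node (.leaf 5172) (.leaf 15258)) (.node (.leaf 20759) (.leaf 0))) (.node (.node (.leaf 7827) (.leaf 0)) (.node (.leaf 9082) (.leaf 0)))))) (.node (.node (.node (.node (.node (.leaf 18859) (.leaf 9217)) (.node (.leaf 19685) (.leaf 0))) (.node (.node (.leaf 5241) (.leaf 10817)) (.node (.leaf 10204) (.leaf 0)))) (.node (.node (.node (.leaf 19890) (.leaf 5828)) (.node (.leaf 2451) (.leaf 0))) (.node (.node (.leaf 108) (.leaf 0)) (.node (.leaf 638) (.leaf 0))))) (.node (.node (.node (.node (.leaf 518) (.leaf 19281)) (.node (.leaf 1515) (.leaf 0))) (.node (.node (.leaf 11165) (.leaf 0)) (.node (.leaf 1273) (.leaf 0)))) (.node (.node (.node (.leaf 4332) (.leaf 9248)) (.node (.leaf 14783) (.leaf 0))) (.node (.node (.leaf 15426) (.leaf 0)) (.node (.leaf 3074) (.leaf 0))))))) (.node (.node (.node (.node (.node (.node (.leaf 16721) (.leaf 18227)) (.node (.leaf 7302) (.leaf 0))) (.node (.node (.leaf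 15350) (.leaf 17907)) (.node (.leaf 18742) (.leaf 0)))) (.node (.node (.node (.leaf 20581) (.leaf 3685)) (.node (.leaf 11897) (.leaf 0))) (.node (.node (.leaf 21060) (.leaf 0)) (.node (.leaf 19223) (.leaf 0))))) (.node (.node (.node (.node (.leaf 20715) (.leaf 17129)) (.node (.leaf 19344) (.leaf 0))) (.node (.node (.leaf 14117) (.leaf 0)) (.node (.leaf 7549) (.leaf 0)))) (.node (.node (.node (.leaf 16675) (.leaf 16033)) (.node (.leaf 5137) (.leaf 0))) (.node (.node (.leaf 7677) (.leaf 0)) (.node (.leaf 5300) (.leaf 0)))))) (.node (.node (.node (.node (.node (.leaf 19024) (.leaf 6726)) (.node (.leaf 5230) (.leaf 0))) (.node (.node (.leaf 9690) (.leaf 14804)) (.node (.leaf 14404) (.leaf 0)))) (.node (.node (.node (.leaf 1348) (.leaf 11662)) (.node (.leaf 1121) (.leaf 0))) (.node (.node (.leaf 11290) (.leaf 0)) (.node (.leaf 462) (.leaf 0))))) (.node (.node (.node (.node (.leaf 8309) (.leaf 12632)) (.node (.leaf 14390) (.leaf 0))) (.node (.node (.leaf 9975) (.leaf 0)) (.node (.leaf 8002) (.leaf 0))))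 (.node (.node (.node (.leaf 4048) (.leaf 8159)) (.node (.leaf 18049) (.leaf 0))) (.node (.node (.leaf 19570) (.leaf 0)) (.node (.leaf 7846) (.leaf 0)))))))))

/-- part of a table -/
def ordM69 : Trie := (.node (.node (.node (.node (.node (.node (.node (.node (.leaf 18240) (.leaf 7275)) (.node (.leaf 12032) (.leaf 0))) (.node (.node (.leaf 12332) (.leaf 17596)) (.node (.leaf 16501) (.leaf 0)))) (.node (.node (.node (.leaf 16127) (.leaf 13892)) (.node (.leaf 20600) (.leaf 0))) (.node (.node (.leaf 6393) (.leaf 0)) (.node (.leaf 4553) (.leaf 0))))) (.node (.node (.node (.node (.leaf 8047) (.leaf 12881)) (.node (.leaf 8272) (.leaf 0))) (.node (.node (.leaf 12654) (.leaf 0)) (.node (.leaf 2546) (.leaf 0)))) (.node (.node (.node (.leaf 6480) (.leaf 16595)) (.node (.leaf 15361) (.leaf 0))) (.node (.node (.leaf 11408) (.leaf 0)) (.node (.leaf 8810) (.leaf 0)))))) (.node (.node (.node (.node (.node (.leaf 1770) (.leaf 11134)) (.node (.leaf 11049) (.leaf 0))) (.node (.node (.leaf 14839) (.leaf 5834)) (.node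 (.leaf 1523) (.leaf 0)))) (.node (.node (.node (.leaf 3702) (.leaf 20477)) (.node (.leaf 14393) (.leaf 0))) (.node (.node (.leaf 9639) (.leaf 0)) (.node (.leaf 16137) (.leaf 0))))) (.node (.node (.node (.node (.leaf 17686) (.leaf 2741)) (.node (.leaf 18416) (.leaf 0))) (.node (.node (.leaf 6551) (.leaf 0)) (.node (.leaf 2685) (.leaf 0)))) (.node (.node (.node (.leaf 20473) (.leaf 16465)) (.node (.leaf 560) (.leaf 0))) (.node (.node (.leaf 11006) (.leaf 0)) (.node (.leaf 10740) (.leaf 0))))))) (.node (.node (.node (.node (.node (.node (.leaf 12867) (.leaf 5869)) (.node (.leaf 7835) (.leaf 0))) (.node (.node (.leaf 9826) (.leaf 20504)) (.node (.leaf 4965) (.leaf 0)))) (.node (.node (.node (.leaf 12880) (.leaf 3672)) (.node (.leaf 3613) (.leaf 0))) (.node (.node (.leaf 10772) (.leaf 0)) (.node (.leaf 5517) (.leaf 0))))) (.node (.node (.node (.node (.leaf 4710) (.leaf 1085)) (.node (.leaf 18745) (.leaf 0))) (.node (.node (.leaf 8860) (.leaf 0)) (.node (.leaf 2046) (.leaf 0)))) (.node (.node (.node (.leaf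 1739) (.leaf 6530)) (.node (.leaf 11241) (.leaf 0))) (.node (.node (.leaf 4861) (.leaf 0)) (.node (.leaf 21120) (.leaf 0)))))) (.node (.node (.node (.node (.node (.leaf 5556) (.leaf 5015)) (.node (.leaf 13424) (.leaf 0))) (.node (.node (.leaf 6676) (.leaf 12034)) (.node (.leaf 11208) (.leaf 0)))) (.node (.node (.node (.leaf 74) (.leaf 17857)) (.node (.leaf 16134) (.leaf 0))) (.node (.node (.leaf 17011) (.leaf 0)) (.node (.leaf 19262) (.leaf 0))))) (.node (.node (.node (.node (.leaf 2011) (.leaf 11201)) (.node (.leaf 3668) (.leaf 0))) (.node (.node (.leaf 8491) (.leaf 0)) (.node (.leaf 760) (.leaf 0)))) (.node (.node (.node (.leaf 9394) (.leaf 6488)) (.node (.leaf 14221) (.leaf 0))) (.node (.node (.leaf 15364) (.leaf 0)) (.node (.leaf 785) (.leaf 0)))))))) (.node (.node (.node (.node (.node (.node (.node (.leaf 6851) (.leaf 19441)) (.node (.leaf 5459) (.leaf 0))) (.node (.node (.leaf 18259) (.leaf 15338)) (.node (.leaf 6073) (.leaf 0)))) (.node (.node (.node (.leaf 20273) (.leaf 14959)) (.node (.leaf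 14506) (.leaf 0))) (.node (.node (.leaf 15578) (.leaf 0)) (.node (.leaf 2559) (.leaf 0))))) (.node (.node (.node (.node (.leaf 13407) (.leaf 20543)) (.node (.leaf 233) (.leaf 0))) (.node (.node (.leaf 14286) (.leaf 0)) (.node (.leaf 8063) (.leaf 0)))) (.node (.node (.node (.leaf 9935) (.leaf 11028)) (.node (.leaf 13063) (.leaf 0))) (.node (.node (.leaf 14641) (.leaf 0)) (.node (.leaf 10476) (.leaf 0)))))) (.node (.node (.node (.node (.node (.leaf 16005) (.leaf 18274)) (.node (.leaf 14722) (.leaf 0))) (.node (.node (.leaf 4977) (.leaf 17688)) (.node (.leaf 702) (.leaf 0)))) (.node (.node (.node (.leaf 14681) (.leaf 17834)) (.node (.leaf 11879) (.leaf 0))) (.node (.node (.leaf 1991) (.leaf 0)) (.node (.leaf 1466) (.leaf 0))))) (.node (.node (.node (.node (.leaf 1853) (.leaf 16724)) (.node (.leaf 4818) (.leaf 0))) (.node (.node (.leaf 10081) (.leaf 0)) (.node (.leaf 15296) (.leaf 0)))) (.node (.node (.node (.leaf 7583) (.leaf 2677)) (.node (.leaf 6498) (.leaf 0))) (.node (.node (.leaf 11457) (.leaf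 0)) (.node (.leaf 4465) (.leaf 0))))))) (.node (.node (.node (.node (.node (.node (.leaf 8027) (.leaf 15447)) (.node (.leaf 11866) (.leaf 0))) (.node (.node (.leaf 20926) (.leaf 12828)) (.node (.leaf 16144) (.leaf 0)))) (.node (.node (.node (.leaf 17361) (.leaf 12265)) (.node (.leaf 4953) (.leaf 0))) (.node (.node (.leaf 8990) (.leaf 0)) (.node (.leaf 17745) (.leaf 0))))) (.node (.node (.node (.node (.leaf 8453) (.leaf 20355)) (.node (.leaf 2235) (.leaf 0))) (.node (.node (.leaf 11421) (.leaf 0)) (.node (.leaf 13849) (.leaf 0)))) (.node (.node (.node (.leaf 1904) (.leaf 9992)) (.node (.leaf 2090) (.leaf 0))) (.node (.node (.leaf 4726) (.leaf 0)) (.node (.leaf 2003) (.leaf 0)))))) (.node (.node (.node (.node (.node (.leaf 13080) (.leaf 2270)) (.node (.leaf 1411) (.leaf 0))) (.node (.node (.leaf 7420) (.leaf 6873)) (.node (.leaf 16950) (.leaf 0)))) (.node (.node (.node (.leaf 3636) (.leaf 10674)) (.node (.leaf 3140) (.leaf 0))) (.node (.node (.leaf 10621) (.leaf 0)) (.node (.leaf 7871) (.leaf 0)))))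 (.node (.node (.node (.node (.leaf 20032) (.leaf 924)) (.node (.leaf 18616) (.leaf 0))) (.node (.node (.leaf 17823) (.leaf 0)) (.node (.leaf 3982) (.leaf 0)))) (.node (.node (.node (.leaf 8261) (.leaf 3304)) (.node (.leaf 19789) (.leaf 0))) (.node (.node (.leaf 11398) (.leaf 0)) (.node (.leaf 16771) (.leaf 0)))))))))

/-- part of a table -/
def ordM70 : Trie := (.node (.node (.node (.node (.node (.node (.node (.node (.leaf 6558) (.leaf 3589)) (.node (.leaf 4281) (.leaf 0))) (.node (.node (.leaf 8489) (.leaf 18375)) (.node (.leaf 11156) (.leaf 0)))) (.node (.node (.node (.leaf 21358) (.leaf 11328)) (.node (.leaf 17094) (.leaf 0))) (.node (.node (.leaf 7298) (.leaf 0)) (.node (.leaf 17803) (.leaf 0))))) (.node (.node (.node (.node (.leaf 12171) (.leaf 19584)) (.node (.leaf 2516) (.leaf 0))) (.node (.node (.leaf 20214) (.leaf 0)) (.node (.leaf 11894) (.leaf 0)))) (.node (.node (.node (.leaf 13829) (.leaf 7772)) (.node (.leaf 18338) (.leaf 0))) (.node (.node (.leaf 11559) (.leaf 0)) (.node (.leaf 4544)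 (.leaf 0)))))) (.node (.node (.node (.node (.node (.leaf 14554) (.leaf 7055)) (.node (.leaf 7671) (.leaf 0))) (.node (.node (.leaf 4040) (.leaf 4518)) (.node (.leaf 17359) (.leaf 0)))) (.node (.node (.node (.leaf 18881) (.leaf 1070)) (.node (.leaf 1675) (.leaf 0))) (.node (.node (.leaf 12028) (.leaf 0)) (.node (.leaf 17529) (.leaf 0))))) (.node (.node (.node (.node (.leaf 8559) (.leaf 6911)) (.node (.leaf 13676) (.leaf 0))) (.node (.node (.leaf 13488) (.leaf 0)) (.node (.leaf 18929) (.leaf 0)))) (.node (.node (.node (.leaf 16924) (.leaf 4180)) (.node (.leaf 5274) (.leaf 0))) (.node (.node (.leaf 9656) (.leaf 0)) (.node (.leaf 20582) (.leaf 0))))))) (.node (.node (.node (.node (.node (.node (.leaf 15461) (.leaf 93)) (.node (.leaf 14951) (.leaf 0))) (.node (.node (.leaf 17266) (.leaf 7417)) (.node (.leaf 6030) (.leaf 0)))) (.node (.node (.node (.leaf 17921) (.leaf 19095)) (.node (.leaf 4538) (.leaf 0))) (.node (.node (.leaf 3406) (.leaf 0)) (.node (.leaf 10421) (.leaf 0))))) (.node (.node (.node (.node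 (.leaf 17065) (.leaf 867)) (.node (.leaf 7701) (.leaf 0))) (.node (.node (.leaf 5792) (.leaf 0)) (.node (.leaf 11684) (.leaf 0)))) (.node (.node (.node (.leaf 18045) (.leaf 7831)) (.node (.leaf 7822) (.leaf 0))) (.node (.node (.leaf 8440) (.leaf 0)) (.node (.leaf 14052) (.leaf 0)))))) (.node (.node (.node (.node (.node (.leaf 2667) (.leaf 6379)) (.node (.leaf 16080) (.leaf 0))) (.node (.node (.leaf 4810) (.leaf 16672)) (.node (.leaf 7249) (.leaf 0)))) (.node (.node (.node (.leaf 10677) (.leaf 14130)) (.node (.leaf 12769) (.leaf 0))) (.node (.node (.leaf 8971) (.leaf 0)) (.node (.leaf 3826) (.leaf 0))))) (.node (.node (.node (.node (.leaf 4081) (.leaf 12121)) (.node (.leaf 4059) (.leaf 0))) (.node (.node (.leaf 18510) (.leaf 0)) (.node (.leaf 9470) (.leaf 0)))) (.node (.node (.node (.leaf 930) (.leaf 6810)) (.node (.leaf 17922) (.leaf 0))) (.node (.node (.leaf 3237) (.leaf 0)) (.node (.leaf 9556) (.leaf 0)))))))) (.node (.node (.node (.node (.node (.node (.node (.leaf 11229) (.leaf 20363)) (.node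 (.leaf 6279) (.leaf 0))) (.node (.node (.leaf 6091) (.leaf 4123)) (.node (.leaf 10825) (.leaf 0)))) (.node (.node (.node (.leaf 4753) (.leaf 2132)) (.node (.leaf 6314) (.leaf 0))) (.node (.node (.leaf 21399) (.leaf 0)) (.node (.leaf 12963) (.leaf 0))))) (.node (.node (.node (.node (.leaf 14312) (.leaf 6491)) (.node (.leaf 21107) (.leaf 0))) (.node (.node (.leaf 4867) (.leaf 0)) (.node (.leaf 15208) (.leaf 0)))) (.node (.node (.node (.leaf 78) (.leaf 19148)) (.node (.leaf 2580) (.leaf 0))) (.node (.node (.leaf 1414) (.leaf 0)) (.node (.leaf 15824) (.leaf 0)))))) (.node (.node (.node (.node (.node (.leaf 15042) (.leaf 14111)) (.node (.leaf 2095) (.leaf 0))) (.node (.node (.leaf 18658) (.leaf 2481)) (.node (.leaf 3354) (.leaf 0)))) (.node (.node (.node (.leaf 12781) (.leaf 7225)) (.node (.leaf 15133) (.leaf 0))) (.node (.node (.leaf 14089) (.leaf 0)) (.node (.leaf 5235) (.leaf 0))))) (.node (.node (.node (.node (.leaf 8230) (.leaf 6118)) (.node (.leaf 6040) (.leaf 0))) (.node (.node (.leaf 15407) (.leaf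 0)) (.node (.leaf 10434) (.leaf 0)))) (.node (.node (.node (.leaf 9265) (.leaf 13556)) (.node (.leaf 13716) (.leaf 0))) (.node (.node (.leaf 9644) (.leaf 0)) (.node (.leaf 3891) (.leaf 0))))))) (.node (.node (.node (.node (.node (.node (.leaf 7131) (.leaf 1746)) (.node (.leaf 2399) (.leaf 0))) (.node (.node (.leaf 19572) (.leaf 7156)) (.node (.leaf 10106) (.leaf 0)))) (.node (.node (.node (.leaf 16138) (.leaf 16862)) (.node (.leaf 6015) (.leaf 0))) (.node (.node (.leaf 12504) (.leaf 0)) (.node (.leaf 20676) (.leaf 0))))) (.node (.node (.node (.node (.leaf 21159) (.leaf 390)) (.node (.leaf 19145) (.leaf 0))) (.node (.node (.leaf 15968) (.leaf 0)) (.node (.leaf 12349) (.leaf 0)))) (.node (.node (.node (.leaf 18388) (.leaf 4170)) (.node (.leaf 13736) (.leaf 0))) (.node (.node (.leaf 16806) (.leaf 0)) (.node (.leaf 405) (.leaf 0)))))) (.node (.node (.node (.node (.node (.leaf 15695) (.leaf 21002)) (.node (.leaf 19873) (.leaf 0))) (.node (.node (.leaf 12942) (.leaf 15669)) (.node (.leaf 15949) (.leaf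 0)))) (.node (.node (.node (.leaf 1840) (.leaf 14256)) (.node (.leaf 742) (.leaf 0))) (.node (.node (.leaf 8100) (.leaf 0)) (.node (.leaf 10798) (.leaf 0))))) (.node (.node (.node (.node (.leaf 8269) (.leaf 21432)) (.node (.leaf 4560) (.leaf 0))) (.node (.node (.leaf 39) (.leaf 0)) (.node (.leaf 10091) (.leaf 0)))) (.node (.node (.node (.leaf 4831) (.leaf 1303)) (.node (.leaf 10210) (.leaf 0))) (.node (.node (.leaf 19341) (.leaf 0)) (.node (.leaf 16197) (.leaf 0)))))))))

/-- part of a table -/
def ordM71 : Trie := (.node (.node (.node (.node (.node (.node (.node (.node (.leaf 15781) (.leaf 6217)) (.node (.leaf 16002) (.leaf 0))) (.node (.node (.leaf 6100) (.leaf 15994)) (.node (.leaf 12938) (.leaf 0)))) (.node (.node (.node (.leaf 6747) (.leaf 9049)) (.node (.leaf 1819) (.leaf 0))) (.node (.node (.leaf 2421) (.leaf 0)) (.node (.leaf 3423) (.leaf 0))))) (.node (.node (.node (.node (.leaf 17720) (.leaf 15193)) (.node (.leaf 7437) (.leaf 0))) (.node (.node (.leaf 12712) (.leaf 0)) (.node (.leaf 5555)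 (.leaf 0)))) (.node (.node (.node (.leaf 20283) (.leaf 3326)) (.node (.leaf 17951) (.leaf 0))) (.node (.node (.leaf 19513) (.leaf 0)) (.node (.leaf 15138) (.leaf 0)))))) (.node (.node (.node (.node (.node (.leaf 5297) (.leaf 1244)) (.node (.leaf 11707) (.leaf 0))) (.node (.node (.leaf 8382) (.leaf 11246)) (.node (.leaf 10494) (.leaf 0)))) (.node (.node (.node (.leaf 20453) (.leaf 13359)) (.node (.leaf 418) (.leaf 0))) (.node (.node (.leaf 6468) (.leaf 0)) (.node (.leaf 13343) (.leaf 0))))) (.node (.node (.node (.node (.leaf 4615) (.leaf 9317)) (.node (.leaf 13077) (.leaf 0))) (.node (.node (.leaf 8687) (.leaf 0)) (.node (.leaf 20714) (.leaf 0)))) (.node (.node (.node (.leaf 4921) (.leaf 6574)) (.node (.leaf 11567) (.leaf 0))) (.node (.node (.leaf 18516) (.leaf 0)) (.node (.leaf 21455) (.leaf 0))))))) (.node (.node (.node (.node (.node (.node (.leaf 10409) (.leaf 1644)) (.node (.leaf 6668) (.leaf 0))) (.node (.node (.leaf 8848) (.leaf 9687)) (.node (.leaf 4891) (.leaf 0)))) (.node (.node (.node (.leaf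 5594) (.leaf 6919)) (.node (.leaf 8068) (.leaf 0))) (.node (.node (.leaf 948) (.leaf 0)) (.node (.leaf 20502) (.leaf 0))))) (.node (.node (.node (.node (.leaf 19654) (.leaf 11916)) (.node (.leaf 697) (.leaf 0))) (.node (.node (.leaf 2759) (.leaf 0)) (.node (.leaf 14508) (.leaf 0)))) (.node (.node (.node (.leaf 16123) (.leaf 12595)) (.node (.leaf 19113) (.leaf 0))) (.node (.node (.leaf 645) (.leaf 0)) (.node (.leaf 5839) (.leaf 0)))))) (.node (.node (.node (.node (.node (.leaf 216) (.leaf 3638)) (.node (.leaf 15772) (.leaf 0))) (.node (.node (.leaf 2261) (.leaf 11303)) (.node (.leaf 16111) (.leaf 0)))) (.node (.node (.node (.leaf 14552) (.leaf 18851)) (.node (.leaf 9879) (.leaf 0))) (.node (.node (.leaf 8891) (.leaf 0)) (.node (.leaf 10563) (.leaf 0))))) (.node (.node (.node (.node (.leaf 7804) (.leaf 10604)) (.node (.leaf 1639) (.leaf 0))) (.node (.node (.leaf 8815) (.leaf 0)) (.node (.leaf 18304) (.leaf 0)))) (.node (.node (.node (.leaf 2877) (.leaf 16905)) (.node (.leaf 20177) (.leaf 0))) (.node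 (.node (.leaf 984) (.leaf 0)) (.node (.leaf 15945) (.leaf 0)))))))) (.node (.node (.node (.node (.node (.node (.node (.leaf 4257) (.leaf 4067)) (.node (.leaf 4277) (.leaf 0))) (.node (.node (.leaf 15513) (.leaf 4937)) (.node (.leaf 6350) (.leaf 0)))) (.node (.node (.node (.leaf 9420) (.leaf 737)) (.node (.leaf 14747) (.leaf 0))) (.node (.node (.leaf 17477) (.leaf 0)) (.node (.leaf 10006) (.leaf 0))))) (.node (.node (.node (.node (.leaf 19858) (.leaf 4097)) (.node (.leaf 13041) (.leaf 0))) (.node (.node (.leaf 21057) (.leaf 0)) (.node (.leaf 11586) (.leaf 0)))) (.node (.node (.node (.leaf 2716) (.leaf 9005)) (.node (.leaf 1748) (.leaf 0))) (.node (.node (.leaf 4839) (.leaf 0)) (.node (.leaf 2507) (.leaf 0)))))) (.node (.node (.node (.node (.node (.leaf 12820) (.leaf 2769)) (.node (.leaf 19008) (.leaf 0))) (.node (.node (.leaf 11819) (.leaf 4529)) (.node (.leaf 10482) (.leaf 0)))) (.node (.node (.node (.leaf 21064) (.leaf 16164)) (.node (.leaf 13601) (.leaf 0))) (.node (.node (.leaf 5440) (.leaf 0))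 (.node (.leaf 6941) (.leaf 0))))) (.node (.node (.node (.node (.leaf 16699) (.leaf 11475)) (.node (.leaf 10896) (.leaf 0))) (.node (.node (.leaf 4216) (.leaf 0)) (.node (.leaf 9624) (.leaf 0)))) (.node (.node (.node (.leaf 19053) (.leaf 9011)) (.node (.leaf 5512) (.leaf 0))) (.node (.node (.leaf 3150) (.leaf 0)) (.node (.leaf 8082) (.leaf 0))))))) (.node (.node (.node (.node (.node (.node (.leaf 19488) (.leaf 5249)) (.node (.leaf 1402) (.leaf 0))) (.node (.node (.leaf 2811) (.leaf 8677)) (.node (.leaf 18596) (.leaf 0)))) (.node (.node (.node (.leaf 11513) (.leaf 17042)) (.node (.leaf 15912) (.leaf 0))) (.node (.node (.leaf 20301) (.leaf 0)) (.node (.leaf 20358) (.leaf 0))))) (.node (.node (.node (.node (.leaf 20529) (.leaf 6049)) (.node (.leaf 10488) (.leaf 0))) (.node (.node (.leaf 15123) (.leaf 0)) (.node (.leaf 1103) (.leaf 0)))) (.node (.node (.node (.leaf 13641) (.leaf 7282)) (.node (.leaf 5910) (.leaf 0))) (.node (.node (.leaf 21024) (.leaf 0)) (.node (.leaf 5050) (.leaf 0)))))) (.node (.node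 (.node (.node (.node (.leaf 19931) (.leaf 16544)) (.node (.leaf 8397) (.leaf 0))) (.node (.node (.leaf 19091) (.leaf 14278)) (.node (.leaf 19951) (.leaf 0)))) (.node (.node (.node (.leaf 4676) (.leaf 10432)) (.node (.leaf 9808) (.leaf 0))) (.node (.node (.leaf 17087) (.leaf 0)) (.node (.leaf 17099) (.leaf 0))))) (.node (.node (.node (.node (.leaf 2951) (.leaf 18351)) (.node (.leaf 1661) (.leaf 0))) (.node (.node (.leaf 1139) (.leaf 0)) (.node (.leaf 16839) (.leaf 0)))) (.node (.node (.node (.leaf 20998) (.leaf 13061)) (.node (.leaf 12059) (.leaf 0))) (.node (.node (.leaf 16569) (.leaf 0)) (.node (.leaf 7255) (.leaf 0)))))))))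

/-- part of a table -/
def ordM72 : Trie := (.node (.node (.node (.node (.node (.node (.node (.node (.leaf 17984) (.leaf 17206)) (.node (.leaf 6176) (.leaf 0))) (.node (.node (.leaf 668) (.leaf 15520)) (.node (.leaf 5322) (.leaf 0)))) (.node (.node (.node (.leaf 6106) (.leaf 14541)) (.node (.leaf 4708) (.leaf 0))) (.node (.node (.leaf 4795) (.leaf 0)) (.node (.leaf 18154) (.leaf 0))))) (.node (.node (.node (.node (.leaf 20323) (.leaf 18171)) (.node (.leaf 17672) (.leaf 0))) (.node (.node (.leaf 3094) (.leaf 0)) (.node (.leaf 11346) (.leaf 0)))) (.node (.node (.node (.leaf 29) (.leaf 20207)) (.node (.leaf 863) (.leaf 0))) (.node (.node (.leaf 6731) (.leaf 0)) (.node (.leaf 822) (.leaf 0)))))) (.node (.node (.node (.node (.node (.leaf 11327) (.leaf 17752)) (.node (.leaf 15255) (.leaf 0))) (.node (.node (.leaf 13460) (.leaf 10586)) (.node (.leaf 15971) (.leaf 0)))) (.node (.node (.node (.leaf 7543) (.leaf 8972)) (.node (.leaf 9903) (.leaf 0))) (.node (.node (.leaf 3054) (.leaf 0)) (.node (.leaf 13286)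 (.leaf 0))))) (.node (.node (.node (.node (.leaf 6500) (.leaf 16764)) (.node (.leaf 13444) (.leaf 0))) (.node (.node (.leaf 12240) (.leaf 0)) (.node (.leaf 730) (.leaf 0)))) (.node (.node (.node (.leaf 19253) (.leaf 14042)) (.node (.leaf 16435) (.leaf 0))) (.node (.node (.leaf 6303) (.leaf 0)) (.node (.leaf 18025) (.leaf 0))))))) (.node (.node (.node (.node (.node (.node (.leaf 18107) (.leaf 7210)) (.node (.leaf 4936) (.leaf 0))) (.node (.node (.leaf 15106) (.leaf 10133)) (.node (.leaf 495) (.leaf 0)))) (.node (.node (.node (.leaf 8607) (.leaf 13018)) (.node (.leaf 6396) (.leaf 0))) (.node (.node (.leaf 6905) (.leaf 0)) (.node (.leaf 11796) (.leaf 0))))) (.node (.node (.node (.node (.leaf 755) (.leaf 18111)) (.node (.leaf 20188) (.leaf 0))) (.node (.node (.leaf 11542) (.leaf 0)) (.node (.leaf 5122) (.leaf 0)))) (.node (.node (.node (.leaf 1202) (.leaf 2945)) (.node (.leaf 2327) (.leaf 0))) (.node (.node (.leaf 5715) (.leaf 0)) (.node (.leaf 18640) (.leaf 0)))))) (.node (.node (.node (.node (.node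 (.leaf 15302) (.leaf 20864)) (.node (.leaf 10506) (.leaf 0))) (.node (.node (.leaf 5215) (.leaf 5886)) (.node (.leaf 10308) (.leaf 0)))) (.node (.node (.node (.leaf 20768) (.leaf 17264)) (.node (.leaf 8651) (.leaf 0))) (.node (.node (.leaf 1069) (.leaf 0)) (.node (.leaf 18370) (.leaf 0))))) (.node (.node (.node (.node (.leaf 10385) (.leaf 3097)) (.node (.leaf 2467) (.leaf 0))) (.node (.node (.leaf 4647) (.leaf 0)) (.node (.leaf 18833) (.leaf 0)))) (.node (.node (.node (.leaf 16660) (.leaf 13700)) (.node (.leaf 5943) (.leaf 0))) (.node (.node (.leaf 6649) (.leaf 0)) (.node (.leaf 16422) (.leaf 0)))))))) (.node (.node (.node (.node (.node (.node (.node (.leaf 13746) (.leaf 12193)) (.node (.leaf 7698) (.leaf 0))) (.node (.node (.leaf 6023) (.leaf 4337)) (.node (.leaf 19810) (.leaf 0)))) (.node (.node (.node (.leaf 15508) (.leaf 10349)) (.node (.leaf 10950) (.leaf 0))) (.node (.node (.leaf 18422) (.leaf 0)) (.node (.leaf 2495) (.leaf 0))))) (.node (.node (.node (.node (.leaf 9208) (.leaf 21067)) (.node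 (.leaf 11837) (.leaf 0))) (.node (.node (.leaf 4826) (.leaf 0)) (.node (.leaf 16182) (.leaf 0)))) (.node (.node (.node (.leaf 6037) (.leaf 14516)) (.node (.leaf 12314) (.leaf 0))) (.node (.node (.leaf 11611) (.leaf 0)) (.node (.leaf 846) (.leaf 0)))))) (.node (.node (.node (.node (.node (.leaf 12617) (.leaf 6589)) (.node (.leaf 12416) (.leaf 0))) (.node (.node (.leaf 5831) (.leaf 1528)) (.node (.leaf 17504) (.leaf 0)))) (.node (.node (.node (.leaf 15470) (.leaf 658)) (.node (.leaf 13956) (.leaf 0))) (.node (.node (.leaf 6664) (.leaf 0)) (.node (.leaf 8292) (.leaf 0))))) (.node (.node (.node (.node (.leaf 21166) (.leaf 991)) (.node (.leaf 10245) (.leaf 0))) (.node (.node (.leaf 12793) (.leaf 0)) (.node (.leaf 10577) (.leaf 0)))) (.node (.node (.node (.leaf 13038) (.leaf 6748)) (.node (.leaf 13266) (.leaf 0))) (.node (.node (.leaf 15668) (.leaf 0)) (.node (.leaf 10838) (.leaf 0))))))) (.node (.node (.node (.node (.node (.node (.leaf 536) (.leaf 3855)) (.node (.leaf 5037) (.leaf 0))) (.node (.node (.leaf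 7747) (.leaf 714)) (.node (.leaf 13536) (.leaf 0)))) (.node (.node (.node (.leaf 547) (.leaf 16311)) (.node (.leaf 4052) (.leaf 0))) (.node (.node (.leaf 15448) (.leaf 0)) (.node (.leaf 6427) (.leaf 0))))) (.node (.node (.node (.node (.leaf 15966) (.leaf 14809)) (.node (.leaf 4270) (.leaf 0))) (.node (.node (.leaf 11784) (.leaf 0)) (.node (.leaf 7241) (.leaf 0)))) (.node (.node (.node (.leaf 13487) (.leaf 2159)) (.node (.leaf 16477) (.leaf 0))) (.node (.node (.leaf 12546) (.leaf 0)) (.node (.leaf 15085) (.leaf 0)))))) (.node (.node (.node (.node (.node (.leaf 19547) (.leaf 9943)) (.node (.leaf 1323) (.leaf 0))) (.node (.node (.leaf 1444) (.leaf 21389)) (.node (.leaf 7728) (.leaf 0)))) (.node (.node (.node (.leaf 20499) (.leaf 1588)) (.node (.leaf 10946) (.leaf 0))) (.node (.node (.leaf 18345) (.leaf 0)) (.node (.leaf 21415) (.leaf 0))))) (.node (.node (.node (.node (.leaf 20790) (.leaf 3619)) (.node (.leaf 5850) (.leaf 0))) (.node (.node (.leaf 19224) (.leaf 0)) (.node (.leaf 6993) (.leaf 0)))) (.node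 (.node (.node (.leaf 4114) (.leaf 12713)) (.node (.leaf 5965) (.leaf 0))) (.node (.node (.leaf 8124) (.leaf 0)) (.node (.leaf 1043) (.leaf 0)))))))))

/-- part of a table -/
def ordM73 : Trie := (.node (.node (.node (.node (.node (.node (.node (.node (.leaf 12759) (.leaf 5855)) (.node (.leaf 13515) (.leaf 0))) (.node (.node (.leaf 10225) (.leaf 1247)) (.node (.leaf 11068) (.leaf 0)))) (.node (.node (.node (.leaf 12268) (.leaf 1471)) (.node (.leaf 2404) (.leaf 0))) (.node (.node (.leaf 4665) (.leaf 0)) (.node (.leaf 5464) (.leaf 0))))) (.node (.node (.node (.node (.leaf 14425) (.leaf 9616)) (.node (.leaf 11831) (.leaf 0))) (.node (.node (.leaf 803) (.leaf 0)) (.node (.leaf 17846) (.leaf 0)))) (.node (.node (.node (.leaf 477) (.leaf 6891)) (.node (.leaf 12228) (.leaf 0))) (.node (.node (.leaf 5025) (.leaf 0)) (.node (.leaf 11833) (.leaf 0)))))) (.node (.node (.node (.node (.node (.leaf 19823) (.leaf 12381)) (.node (.leaf 12083) (.leaf 0))) (.node (.node (.leaf 16599) (.leaf 12155)) (.node (.leaf 10249)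 (.leaf 0)))) (.node (.node (.node (.leaf 19506) (.leaf 8892)) (.node (.leaf 16234) (.leaf 0))) (.node (.node (.leaf 16810) (.leaf 0)) (.node (.leaf 4321) (.leaf 0))))) (.node (.node (.node (.node (.leaf 8017) (.leaf 10387)) (.node (.leaf 8911) (.leaf 0))) (.node (.node (.leaf 19259) (.leaf 0)) (.node (.leaf 9805) (.leaf 0)))) (.node (.node (.node (.leaf 3328) (.leaf 13204)) (.node (.leaf 8465) (.leaf 0))) (.node (.node (.leaf 16428) (.leaf 0)) (.node (.leaf 2858) (.leaf 0))))))) (.node (.node (.node (.node (.node (.node (.leaf 11644) (.leaf 13918)) (.node (.leaf 13161) (.leaf 0))) (.node (.node (.leaf 10217) (.leaf 7187)) (.node (.leaf 8323) (.leaf 0)))) (.node (.node (.node (.leaf 12890) (.leaf 13381)) (.node (.leaf 5784) (.leaf 0))) (.node (.node (.leaf 15762) (.leaf 0)) (.node (.leaf 18903) (.leaf 0))))) (.node (.node (.node (.node (.leaf 1968) (.leaf 6503)) (.node (.leaf 16889) (.leaf 0))) (.node (.node (.leaf 6725) (.leaf 0)) (.node (.leaf 19573) (.leaf 0)))) (.node (.node (.node (.leaf 15062)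 (.leaf 20012)) (.node (.leaf 3804) (.leaf 0))) (.node (.node (.leaf 19763) (.leaf 0)) (.node (.leaf 11642) (.leaf 0)))))) (.node (.node (.node (.node (.node (.leaf 21173) (.leaf 21385)) (.node (.leaf 9648) (.leaf 0))) (.node (.node (.leaf 9157) (.leaf 19576)) (.node (.leaf 16909) (.leaf 0)))) (.node (.node (.node (.leaf 17800) (.leaf 11429)) (.node (.leaf 11024) (.leaf 0))) (.node (.node (.leaf 13273) (.leaf 0)) (.node (.leaf 20893) (.leaf 0))))) (.node (.node (.node (.node (.leaf 16762) (.leaf 860)) (.node (.leaf 17492) (.leaf 0))) (.node (.node (.leaf 371) (.leaf 0)) (.node (.leaf 16733) (.leaf 0)))) (.node (.node (.node (.leaf 21119) (.leaf 999)) (.node (.leaf 7818) (.leaf 0))) (.node (.node (.leaf 365) (.leaf 0)) (.node (.leaf 9448) (.leaf 0)))))))) (.node (.node (.node (.node (.node (.node (.node (.leaf 20031) (.leaf 16319)) (.node (.leaf 3778) (.leaf 0))) (.node (.node (.leaf 6135) (.leaf 7588)) (.node (.leaf 20661) (.leaf 0)))) (.node (.node (.node (.leaf 2883) (.leaf 3884)) (.node (.leaf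 12524) (.leaf 0))) (.node (.node (.leaf 7149) (.leaf 0)) (.node (.leaf 7189) (.leaf 0))))) (.node (.node (.node (.node (.leaf 15914) (.leaf 12166)) (.node (.leaf 2107) (.leaf 0))) (.node (.node (.leaf 11892) (.leaf 0)) (.node (.leaf 14616) (.leaf 0)))) (.node (.node (.node (.leaf 17963) (.leaf 20951)) (.node (.leaf 850) (.leaf 0))) (.node (.node (.leaf 5011) (.leaf 0)) (.node (.leaf 7163) (.leaf 0)))))) (.node (.node (.node (.node (.node (.leaf 5935) (.leaf 11105)) (.node (.leaf 3295) (.leaf 0))) (.node (.node (.leaf 1885) (.leaf 87)) (.node (.leaf 11792) (.leaf 0)))) (.node (.node (.node (.leaf 19626) (.leaf 10111)) (.node (.leaf 10980) (.leaf 0))) (.node (.node (.leaf 19396) (.leaf 0)) (.node (.leaf 15688) (.leaf 0))))) (.node (.node (.node (.node (.leaf 14347) (.leaf 220)) (.node (.leaf 1849) (.leaf 0))) (.node (.node (.leaf 884) (.leaf 0)) (.node (.leaf 1591) (.leaf 0)))) (.node (.node (.node (.leaf 18272) (.leaf 21212)) (.node (.leaf 1928) (.leaf 0))) (.node (.node (.leaf 10766) (.leaf 0)) (.node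 (.leaf 7957) (.leaf 0))))))) (.node (.node (.node (.node (.node (.node (.leaf 8006) (.leaf 3331)) (.node (.leaf 12909) (.leaf 0))) (.node (.node (.leaf 17899) (.leaf 9799)) (.node (.leaf 20596) (.leaf 0)))) (.node (.node (.node (.leaf 1760) (.leaf 14267)) (.node (.leaf 13873) (.leaf 0))) (.node (.node (.leaf 17407) (.leaf 0)) (.node (.leaf 2055) (.leaf 0))))) (.node (.node (.node (.node (.leaf 10257) (.leaf 18108)) (.node (.leaf 1944) (.leaf 0))) (.node (.node (.leaf 7100) (.leaf 0)) (.node (.leaf 6462) (.leaf 0)))) (.node (.node (.node (.leaf 14844) (.leaf 17214)) (.node (.leaf 19497) (.leaf 0))) (.node (.node (.leaf 13044) (.leaf 0)) (.node (.leaf 8044) (.leaf 0)))))) (.node (.node (.node (.node (.node (.leaf 15676) (.leaf 3433)) (.node (.leaf 3652) (.leaf 0))) (.node (.node (.leaf 6474) (.leaf 5258)) (.node (.leaf 2702) (.leaf 0)))) (.node (.node (.node (.leaf 19102) (.leaf 422)) (.node (.leaf 5089) (.leaf 0))) (.node (.node (.leaf 3937) (.leaf 0)) (.node (.leaf 18312) (.leaf 0))))) (.node (.node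 (.node (.node (.leaf 21109) (.leaf 8953)) (.node (.leaf 13862) (.leaf 0))) (.node (.node (.leaf 4021) (.leaf 0)) (.node (.leaf 1997) (.leaf 0)))) (.node (.node (.node (.leaf 3348) (.leaf 13580)) (.node (.leaf 4414) (.leaf 0))) (.node (.node (.leaf 17310) (.leaf 0)) (.node (.leaf 11938) (.leaf 0)))))))))

/-- part of a table -/
def ordM74 : Trie := (.node (.node (.node (.node (.node (.node (.node (.node (.leaf 11703) (.leaf 13131)) (.node (.leaf 4096) (.leaf 0))) (.node (.node (.leaf 13356) (.leaf 13383)) (.node (.leaf 18093) (.leaf 0)))) (.node (.node (.node (.leaf 2676) (.leaf 5613)) (.node (.leaf 7246) (.leaf 0))) (.node (.node (.leaf 4182) (.leaf 0)) (.node (.leaf 18922) (.leaf 0))))) (.node (.node (.node (.node (.leaf 16376) (.leaf 8500)) (.node (.leaf 7940) (.leaf 0))) (.node (.node (.leaf 3303) (.leaf 0)) (.node (.leaf 4056) (.leaf 0)))) (.node (.node (.node (.leaf 17826) (.leaf 8089)) (.node (.leaf 7305) (.leaf 0))) (.node (.node (.leaf 5527) (.leaf 0)) (.node (.leaf 16440) (.leaf 0))))))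 (.node (.node (.node (.node (.node (.leaf 18707) (.leaf 14401)) (.node (.leaf 5339) (.leaf 0))) (.node (.node (.leaf 14300) (.leaf 20074)) (.node (.leaf 19098) (.leaf 0)))) (.node (.node (.node (.leaf 656) (.leaf 4204)) (.node (.leaf 12856) (.leaf 0))) (.node (.node (.leaf 16427) (.leaf 0)) (.node (.leaf 1759) (.leaf 0))))) (.node (.node (.node (.node (.leaf 6870) (.leaf 7596)) (.node (.leaf 13540) (.leaf 0))) (.node (.node (.leaf 17484) (.leaf 0)) (.node (.leaf 18662) (.leaf 0)))) (.node (.node (.node (.leaf 1755) (.leaf 6376)) (.node (.leaf 4177) (.leaf 0))) (.node (.node (.leaf 19431) (.leaf 0)) (.node (.leaf 3514) (.leaf 0))))))) (.node (.node (.node (.node (.node (.node (.leaf 5026) (.leaf 17272)) (.node (.leaf 14344) (.leaf 0))) (.node (.node (.leaf 10343) (.leaf 11441)) (.node (.leaf 14307) (.leaf 0)))) (.node (.node (.node (.leaf 12046) (.leaf 2991)) (.node (.leaf 3383) (.leaf 0))) (.node (.node (.leaf 10864) (.leaf 0)) (.node (.leaf 10129) (.leaf 0))))) (.node (.node (.node (.node (.leaf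 8740) (.leaf 13218)) (.node (.leaf 18863) (.leaf 0))) (.node (.node (.leaf 16543) (.leaf 0)) (.node (.leaf 13967) (.leaf 0)))) (.node (.node (.node (.leaf 17390) (.leaf 9610)) (.node (.leaf 17709) (.leaf 0))) (.node (.node (.leaf 11498) (.leaf 0)) (.node (.leaf 931) (.leaf 0)))))) (.node (.node (.node (.node (.node (.leaf 11347) (.leaf 10842)) (.node (.leaf 17583) (.leaf 0))) (.node (.node (.leaf 3833) (.leaf 2634)) (.node (.leaf 4199) (.leaf 0)))) (.node (.node (.node (.leaf 6816) (.leaf 2649)) (.node (.leaf 1182) (.leaf 0))) (.node (.node (.leaf 13154) (.leaf 0)) (.node (.leaf 958) (.leaf 0))))) (.node (.node (.node (.node (.leaf 11415) (.leaf 19788)) (.node (.leaf 2137) (.leaf 0))) (.node (.node (.leaf 14647) (.leaf 0)) (.node (.leaf 14950) (.leaf 0)))) (.node (.node (.node (.leaf 14069) (.leaf 19295)) (.node (.leaf 14864) (.leaf 0))) (.node (.node (.leaf 7308) (.leaf 0)) (.node (.leaf 15027) (.leaf 0)))))))) (.node (.node (.node (.node (.node (.node (.node (.leaf 769) (.leaf 17152)) (.node (.leaf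 20461) (.leaf 0))) (.node (.node (.leaf 4461) (.leaf 2662)) (.node (.leaf 6177) (.leaf 0)))) (.node (.node (.node (.leaf 8466) (.leaf 17221)) (.node (.leaf 19749) (.leaf 0))) (.node (.node (.leaf 13682) (.leaf 0)) (.node (.leaf 1040) (.leaf 0))))) (.node (.node (.node (.node (.leaf 12253) (.leaf 7882)) (.node (.leaf 11543) (.leaf 0))) (.node (.node (.leaf 2350) (.leaf 0)) (.node (.leaf 14011) (.leaf 0)))) (.node (.node (.node (.leaf 12276) (.leaf 1607)) (.node (.leaf 10625) (.leaf 0))) (.node (.node (.leaf 14569) (.leaf 0)) (.node (.leaf 16977) (.leaf 0)))))) (.node (.node (.node (.node (.node (.leaf 16142) (.leaf 15576)) (.node (.leaf 11225) (.leaf 0))) (.node (.node (.leaf 12446) (.leaf 11451)) (.node (.leaf 8266) (.leaf 0)))) (.node (.node (.node (.leaf 679) (.leaf 18837)) (.node (.leaf 4777) (.leaf 0))) (.node (.node (.leaf 10003) (.leaf 0)) (.node (.leaf 16119) (.leaf 0))))) (.node (.node (.node (.node (.leaf 7134) (.leaf 5724)) (.node (.leaf 491) (.leaf 0))) (.node (.node (.leaf 18849) (.leaf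 0)) (.node (.leaf 1977) (.leaf 0)))) (.node (.node (.node (.leaf 2754) (.leaf 2437)) (.node (.leaf 8211) (.leaf 0))) (.node (.node (.leaf 13269) (.leaf 0)) (.node (.leaf 20351) (.leaf 0))))))) (.node (.node (.node (.node (.node (.node (.leaf 13299) (.leaf 6648)) (.node (.leaf 6153) (.leaf 0))) (.node (.node (.leaf 4286) (.leaf 11903)) (.node (.leaf 13440) (.leaf 0)))) (.node (.node (.node (.leaf 7658) (.leaf 1230)) (.node (.leaf 19197) (.leaf 0))) (.node (.node (.leaf 1994) (.leaf 0)) (.node (.leaf 8347) (.leaf 0))))) (.node (.node (.node (.node (.leaf 119) (.leaf 18155)) (.node (.leaf 16213) (.leaf 0))) (.node (.node (.leaf 11830) (.leaf 0)) (.node (.leaf 3799) (.leaf 0)))) (.node (.node (.node (.leaf 848) (.leaf 5031)) (.node (.leaf 9564) (.leaf 0))) (.node (.node (.leaf 20245) (.leaf 0)) (.node (.leaf 11996) (.leaf 0)))))) (.node (.node (.node (.node (.node (.leaf 14859) (.leaf 9069)) (.node (.leaf 3756) (.leaf 0))) (.node (.node (.leaf 17649) (.leaf 12905)) (.node (.leaf 18590) (.leaf 0)))) (.node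 (.node (.node (.leaf 10358) (.leaf 5872)) (.node (.leaf 8133) (.leaf 0))) (.node (.node (.leaf 1300) (.leaf 0)) (.node (.leaf 13945) (.leaf 0))))) (.node (.node (.node (.node (.leaf 3357) (.leaf 18718)) (.node (.leaf 20330) (.leaf 0))) (.node (.node (.leaf 13262) (.leaf 0)) (.node (.leaf 20852) (.leaf 0)))) (.node (.node (.node (.leaf 402) (.leaf 12655)) (.node (.leaf 5810) (.leaf 0))) (.node (.node (.leaf 10044) (.leaf 0)) (.node (.leaf 11647) (.leaf 0)))))))))

/-- part of a table -/
def ordM75 : Trie := (.node (.node (.node (.node (.node (.node (.node (.node (.leaf 19964) (.leaf 6791)) (.node (.leaf 6490) (.leaf 0))) (.node (.node (.leaf 1059) (.leaf 13743)) (.node (.leaf 1915) (.leaf 0)))) (.node (.node (.node (.leaf 9247) (.leaf 1771)) (.node (.leaf 19893) (.leaf 0))) (.node (.node (.leaf 9204) (.leaf 0)) (.node (.leaf 10406) (.leaf 0))))) (.node (.node (.node (.node (.leaf 3026) (.leaf 3696)) (.node (.leaf 9324) (.leaf 0))) (.node (.node (.leaf 20198) (.leaf 0)) (.node (.leaf 13398) (.leaf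 0)))) (.node (.node (.node (.leaf 20757) (.leaf 3573)) (.node (.leaf 11870) (.leaf 0))) (.node (.node (.leaf 19304) (.leaf 0)) (.node (.leaf 21140) (.leaf 0)))))) (.node (.node (.node (.node (.node (.leaf 2405) (.leaf 20682)) (.node (.leaf 14204) (.leaf 0))) (.node (.node (.leaf 6332) (.leaf 8190)) (.node (.leaf 5685) (.leaf 0)))) (.node (.node (.node (.leaf 10109) (.leaf 10096)) (.node (.leaf 4586) (.leaf 0))) (.node (.node (.leaf 7862) (.leaf 0)) (.node (.leaf 606) (.leaf 0))))) (.node (.node (.node (.node (.leaf 20697) (.leaf 4344)) (.node (.leaf 17127) (.leaf 0))) (.node (.node (.leaf 2538) (.leaf 0)) (.node (.leaf 19525) (.leaf 0)))) (.node (.node (.node (.leaf 10811) (.leaf 15662)) (.node (.leaf 15507) (.leaf 0))) (.node (.node (.leaf 21113) (.leaf 0)) (.node (.leaf 9039) (.leaf 0))))))) (.node (.node (.node (.node (.node (.node (.leaf 13292) (.leaf 14578)) (.node (.leaf 18021) (.leaf 0))) (.node (.node (.leaf 18990) (.leaf 11908)) (.node (.leaf 1844) (.leaf 0)))) (.node (.node (.node (.leaf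 17372) (.leaf 10455)) (.node (.leaf 977) (.leaf 0))) (.node (.node (.leaf 19381) (.leaf 0)) (.node (.leaf 3959) (.leaf 0))))) (.node (.node (.node (.node (.leaf 18756) (.leaf 6872)) (.node (.leaf 11789) (.leaf 0))) (.node (.node (.leaf 21001) (.leaf 0)) (.node (.leaf 12521) (.leaf 0)))) (.node (.node (.node (.leaf 8386) (.leaf 11620)) (.node (.leaf 18123) (.leaf 0))) (.node (.node (.leaf 4775) (.leaf 0)) (.node (.leaf 247) (.leaf 0)))))) (.node (.node (.node (.node (.node (.leaf 7688) (.leaf 20559)) (.node (.leaf 6734) (.leaf 0))) (.node (.node (.leaf 13887) (.leaf 905)) (.node (.leaf 7522) (.leaf 0)))) (.node (.node (.node (.leaf 20280) (.leaf 11329)) (.node (.leaf 2637) (.leaf 0))) (.node (.node (.leaf 20476) (.leaf 0)) (.node (.leaf 1433) (.leaf 0))))) (.node (.node (.node (.node (.leaf 20491) (.leaf 18359)) (.node (.leaf 4599) (.leaf 0))) (.node (.node (.leaf 6125) (.leaf 0)) (.node (.leaf 16792) (.leaf 0)))) (.node (.node (.node (.leaf 5838) (.leaf 12845)) (.node (.leaf 6250) (.leaf 0))) (.node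 (.node (.leaf 11873) (.leaf 0)) (.node (.leaf 16334) (.leaf 0)))))))) (.node (.node (.node (.node (.node (.node (.node (.leaf 807) (.leaf 14791)) (.node (.leaf 4324) (.leaf 0))) (.node (.node (.leaf 4961) (.leaf 1026)) (.node (.leaf 13516) (.leaf 0)))) (.node (.node (.node (.leaf 17383) (.leaf 18042)) (.node (.leaf 18912) (.leaf 0))) (.node (.node (.leaf 17677) (.leaf 0)) (.node (.leaf 13824) (.leaf 0))))) (.node (.node (.node (.node (.leaf 9958) (.leaf 11953)) (.node (.leaf 19660) (.leaf 0))) (.node (.node (.leaf 7084) (.leaf 0)) (.node (.leaf 4914) (.leaf 0)))) (.node (.node (.node (.leaf 4972) (.leaf 4044)) (.node (.leaf 6523) (.leaf 0))) (.node (.node (.leaf 9738) (.leaf 0)) (.node (.leaf 15008) (.leaf 0)))))) (.node (.node (.node (.node (.node (.leaf 21147) (.leaf 19504)) (.node (.leaf 18015) (.leaf 0))) (.node (.node (.leaf 12895) (.leaf 11817)) (.node (.leaf 3130) (.leaf 0)))) (.node (.node (.node (.leaf 1541) (.leaf 4881)) (.node (.leaf 317) (.leaf 0))) (.node (.node (.leaf 19528) (.leaf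 0)) (.node (.leaf 14732) (.leaf 0))))) (.node (.node (.node (.node (.leaf 8108) (.leaf 12103)) (.node (.leaf 8413) (.leaf 0))) (.node (.node (.leaf 3657) (.leaf 0)) (.node (.leaf 8758) (.leaf 0)))) (.node (.node (.node (.leaf 125) (.leaf 8522)) (.node (.leaf 2604) (.leaf 0))) (.node (.node (.leaf 9891) (.leaf 0)) (.node (.leaf 21051) (.leaf 0))))))) (.node (.node (.node (.node (.node (.node (.leaf 11622) (.leaf 7094)) (.node (.leaf 7647) (.leaf 0))) (.node (.node (.leaf 12248) (.leaf 17330)) (.node (.leaf 6654) (.leaf 0)))) (.node (.node (.node (.leaf 2854) (.leaf 3631)) (.node (.leaf 13405) (.leaf 0))) (.node (.node (.leaf 6990) (.leaf 0)) (.node (.leaf 2887) (.leaf 0))))) (.node (.node (.node (.node (.leaf 693) (.leaf 6861)) (.node (.leaf 16397) (.leaf 0))) (.node (.node (.leaf 15053) (.leaf 0)) (.node (.leaf 2408) (.leaf 0)))) (.node (.node (.node (.leaf 3901) (.leaf 7865)) (.node (.leaf 8395) (.leaf 0))) (.node (.node (.leaf 16650) (.leaf 0)) (.node (.leaf 4735) (.leaf 0)))))) (.node (.node (.node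 (.node (.node (.leaf 6263) (.leaf 16195)) (.node (.leaf 19595) (.leaf 0))) (.node (.node (.leaf 13942) (.leaf 15072)) (.node (.leaf 21007) (.leaf 0)))) (.node (.node (.node (.leaf 12287) (.leaf 1974)) (.node (.leaf 9487) (.leaf 0))) (.node (.node (.leaf 315) (.leaf 0)) (.node (.leaf 19128) (.leaf 0))))) (.node (.node (.node (.node (.leaf 1518) (.leaf 16443)) (.node (.leaf 13139) (.leaf 0))) (.node (.node (.leaf 21084) (.leaf 0)) (.node (.leaf 15450) (.leaf 0)))) (.node (.node (.node (.leaf 6055) (.leaf 8747)) (.node (.leaf 13889) (.leaf 0))) (.node (.node (.leaf 5375) (.leaf 0)) (.node (.leaf 14372) (.leaf 0)))))))))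

/-- part of a table -/
def ordM76 : Trie := (.node (.node (.node (.node (.node (.node (.node (.node (.leaf 313) (.leaf 6691)) (.node (.leaf 11658) (.leaf 0))) (.node (.node (.leaf 19237) (.leaf 2708)) (.node (.leaf 1861) (.leaf 0)))) (.node (.node (.node (.leaf 1717) (.leaf 14813)) (.node (.leaf 7036) (.leaf 0))) (.node (.node (.leaf 7667) (.leaf 0)) (.node (.leaf 2520) (.leaf 0))))) (.node (.node (.node (.node (.leaf 13529) (.leaf 19630)) (.node (.leaf 2259) (.leaf 0))) (.node (.node (.leaf 7207) (.leaf 0)) (.node (.leaf 14706) (.leaf 0)))) (.node (.node (.node (.leaf 5917) (.leaf 18872)) (.node (.leaf 14561) (.leaf 0))) (.node (.node (.leaf 15028) (.leaf 0)) (.node (.leaf 2891) (.leaf 0)))))) (.node (.node (.node (.node (.node (.leaf 10041) (.leaf 20463)) (.node (.leaf 2763) (.leaf 0))) (.node (.node (.leaf 2849) (.leaf 20103)) (.node (.leaf 12841) (.leaf 0)))) (.node (.node (.node (.leaf 16737) (.leaf 2738)) (.node (.leaf 15343) (.leaf 0))) (.node (.node (.leaf 6755) (.leaf 0)) (.node (.leaf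 10532) (.leaf 0))))) (.node (.node (.node (.node (.leaf 7447) (.leaf 8352)) (.node (.leaf 3838) (.leaf 0))) (.node (.node (.leaf 6163) (.leaf 0)) (.node (.leaf 6813) (.leaf 0)))) (.node (.node (.node (.leaf 15457) (.leaf 6019)) (.node (.leaf 12200) (.leaf 0))) (.node (.node (.leaf 594) (.leaf 0)) (.node (.leaf 8361) (.leaf 0))))))) (.node (.node (.node (.node (.node (.node (.leaf 9828) (.leaf 20872)) (.node (.leaf 13799) (.leaf 0))) (.node (.node (.leaf 13249) (.leaf 4020)) (.node (.leaf 2342) (.leaf 0)))) (.node (.node (.node (.leaf 3712) (.leaf 18438)) (.node (.leaf 7775) (.leaf 0))) (.node (.node (.leaf 9278) (.leaf 0)) (.node (.leaf 7646) (.leaf 0))))) (.node (.node (.node (.node (.leaf 15737) (.leaf 4493)) (.node (.leaf 17874) (.leaf 0))) (.node (.node (.leaf 3428) (.leaf 0)) (.node (.leaf 15854) (.leaf 0)))) (.node (.node (.node (.leaf 5892) (.leaf 4101)) (.node (.leaf 16248) (.leaf 0))) (.node (.node (.leaf 14411) (.leaf 0)) (.node (.leaf 4663) (.leaf 0)))))) (.node (.node (.node (.node (.node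 (.leaf 11455) (.leaf 3580)) (.node (.leaf 13993) (.leaf 0))) (.node (.node (.leaf 11977) (.leaf 14164)) (.node (.leaf 5358) (.leaf 0)))) (.node (.node (.node (.leaf 4635) (.leaf 7916)) (.node (.leaf 15082) (.leaf 0))) (.node (.node (.leaf 749) (.leaf 0)) (.node (.leaf 12555) (.leaf 0))))) (.node (.node (.node (.node (.leaf 10447) (.leaf 7963)) (.node (.leaf 9383) (.leaf 0))) (.node (.node (.leaf 11603) (.leaf 0)) (.node (.leaf 2384) (.leaf 0)))) (.node (.node (.node (.leaf 9968) (.leaf 17418)) (.node (.leaf 4371) (.leaf 0))) (.node (.node (.leaf 19221) (.leaf 0)) (.node (.leaf 18160) (.leaf 0)))))))) (.node (.node (.node (.node (.node (.node (.node (.leaf 5485) (.leaf 1923)) (.node (.leaf 16803) (.leaf 0))) (.node (.node (.leaf 11693) (.leaf 9508)) (.node (.leaf 1385) (.leaf 0)))) (.node (.node (.node (.leaf 10185) (.leaf 3998)) (.node (.leaf 17157) (.leaf 0))) (.node (.node (.leaf 16963) (.leaf 0)) (.node (.leaf 3464) (.leaf 0))))) (.node (.node (.node (.node (.leaf 10337) (.leaf 13258)) (.node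 (.leaf 18585) (.leaf 0))) (.node (.node (.leaf 3805) (.leaf 0)) (.node (.leaf 6201) (.leaf 0)))) (.node (.node (.node (.leaf 1342) (.leaf 8933)) (.node (.leaf 8727) (.leaf 0))) (.node (.node (.leaf 1209) (.leaf 0)) (.node (.leaf 7750) (.leaf 0)))))) (.node (.node (.node (.node (.node (.leaf 7154) (.leaf 18223)) (.node (.leaf 5239) (.leaf 0))) (.node (.node (.leaf 15833) (.leaf 11787)) (.node (.leaf 1596) (.leaf 0)))) (.node (.node (.node (.leaf 13100) (.leaf 18584)) (.node (.leaf 19319) (.leaf 0))) (.node (.node (.leaf 14395) (.leaf 0)) (.node (.leaf 16944) (.leaf 0))))) (.node (.node (.node (.node (.leaf 8043) (.leaf 3021)) (.node (.leaf 2325) (.leaf 0))) (.node (.node (.leaf 20871) (.leaf 0)) (.node (.leaf 17537) (.leaf 0)))) (.node (.node (.node (.leaf 9979) (.leaf 9309)) (.node (.leaf 20117) (.leaf 0))) (.node (.node (.leaf 9705) (.leaf 0)) (.node (.leaf 17889) (.leaf 0))))))) (.node (.node (.node (.node (.node (.node (.leaf 4103) (.leaf 2462)) (.node (.leaf 13461) (.leaf 0))) (.node (.node (.leaf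 1827) (.leaf 1054)) (.node (.leaf 444) (.leaf 0)))) (.node (.node (.node (.leaf 13347) (.leaf 18187)) (.node (.leaf 5580) (.leaf 0))) (.node (.node (.leaf 7718) (.leaf 0)) (.node (.leaf 2964) (.leaf 0))))) (.node (.node (.node (.node (.leaf 12747) (.leaf 20)) (.node (.leaf 12371) (.leaf 0))) (.node (.node (.leaf 14109) (.leaf 0)) (.node (.leaf 7484) (.leaf 0)))) (.node (.node (.node (.leaf 21315) (.leaf 7570)) (.node (.leaf 21431) (.leaf 0))) (.node (.node (.leaf 14058) (.leaf 0)) (.node (.leaf 4643) (.leaf 0)))))) (.node (.node (.node (.node (.node (.leaf 4154) (.leaf 7471)) (.node (.leaf 5142) (.leaf 0))) (.node (.node (.leaf 15977) (.leaf 15149)) (.node (.leaf 6309) (.leaf 0)))) (.node (.node (.node (.leaf 10976) (.leaf 19385)) (.node (.leaf 514) (.leaf 0))) (.node (.node (.leaf 15179) (.leaf 0)) (.node (.leaf 427) (.leaf 0))))) (.node (.node (.node (.node (.leaf 14876) (.leaf 7678)) (.node (.leaf 15475) (.leaf 0))) (.node (.node (.leaf 3491) (.leaf 0)) (.node (.leaf 7521) (.leaf 0)))) (.node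 (.node (.node (.leaf 8628) (.leaf 810)) (.node (.leaf 8998) (.leaf 0))) (.node (.node (.leaf 7637) (.leaf 0)) (.node (.leaf 11254) (.leaf 0)))))))))

/-- part of a table -/
def ordM77 : Trie := (.node (.node (.node (.node (.node (.node (.node (.node (.leaf 5336) (.leaf 12943)) (.node (.leaf 4134) (.leaf 0))) (.node (.node (.leaf 15801) (.leaf 8104)) (.node (.leaf 4732) (.leaf 0)))) (.node (.node (.node (.leaf 5045) (.leaf 1145)) (.node (.leaf 14448) (.leaf 0))) (.node (.node (.leaf 18992) (.leaf 0)) (.node (.leaf 3477) (.leaf 0))))) (.node (.node (.node (.node (.leaf 8231) (.leaf 20632)) (.node (.leaf 4806) (.leaf 0))) (.node (.node (.leaf 17616) (.leaf 0)) (.node (.leaf 2569) (.leaf 0)))) (.node (.node (.node (.leaf 17604) (.leaf 17276)) (.node (.leaf 12893) (.leaf 0))) (.node (.node (.leaf 14671) (.leaf 0)) (.node (.leaf 942) (.leaf 0)))))) (.node (.node (.node (.node (.node (.leaf 3929) (.leaf 5875)) (.node (.leaf 1251) (.leaf 0))) (.node (.node (.leaf 19360) (.leaf 12263)) (.node (.leaf 10362)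 (.leaf 0)))) (.node (.node (.node (.leaf 10433) (.leaf 7976)) (.node (.leaf 21065) (.leaf 0))) (.node (.node (.leaf 237) (.leaf 0)) (.node (.leaf 687) (.leaf 0))))) (.node (.node (.node (.node (.leaf 4490) (.leaf 10449)) (.node (.leaf 10359) (.leaf 0))) (.node (.node (.leaf 13324) (.leaf 0)) (.node (.leaf 19244) (.leaf 0)))) (.node (.node (.node (.leaf 17493) (.leaf 13642)) (.node (.leaf 19358) (.leaf 0))) (.node (.node (.leaf 123) (.leaf 0)) (.node (.leaf 18144) (.leaf 0))))))) (.node (.node (.node (.node (.node (.node (.leaf 13036) (.leaf 16515)) (.node (.leaf 1887) (.leaf 0))) (.node (.node (.leaf 11430) (.leaf 21133)) (.node (.leaf 10233) (.leaf 0)))) (.node (.node (.node (.leaf 10250) (.leaf 8253)) (.node (.leaf 5571) (.leaf 0))) (.node (.node (.leaf 11956) (.leaf 0)) (.node (.leaf 6152) (.leaf 0))))) (.node (.node (.node (.node (.leaf 17976) (.leaf 19835)) (.node (.leaf 1985) (.leaf 0))) (.node (.node (.leaf 9815) (.leaf 0)) (.node (.leaf 5574) (.leaf 0)))) (.node (.node (.node (.leaf 6820)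 (.leaf 6553)) (.node (.leaf 20017) (.leaf 0))) (.node (.node (.leaf 7505) (.leaf 0)) (.node (.leaf 354) (.leaf 0)))))) (.node (.node (.node (.node (.node (.leaf 2202) (.leaf 5591)) (.node (.leaf 7328) (.leaf 0))) (.node (.node (.leaf 12625) (.leaf 21138)) (.node (.leaf 18523) (.leaf 0)))) (.node (.node (.node (.leaf 13392) (.leaf 17246)) (.node (.leaf 9310) (.leaf 0))) (.node (.node (.leaf 9811) (.leaf 0)) (.node (.leaf 11751) (.leaf 0))))) (.node (.node (.node (.node (.leaf 11115) (.leaf 597)) (.node (.leaf 3327) (.leaf 0))) (.node (.node (.leaf 20895) (.leaf 0)) (.node (.leaf 16789) (.leaf 0)))) (.node (.node (.node (.leaf 10101) (.leaf 21189)) (.node (.leaf 11353) (.leaf 0))) (.node (.node (.leaf 4469) (.leaf 0)) (.node (.leaf 10702) (.leaf 0)))))))) (.node (.node (.node (.node (.node (.node (.node (.leaf 300) (.leaf 5966)) (.node (.leaf 8555) (.leaf 0))) (.node (.node (.leaf 18546) (.leaf 20064)) (.node (.leaf 252) (.leaf 0)))) (.node (.node (.node (.leaf 5865) (.leaf 5412)) (.node (.leaf 11902)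 (.leaf 0))) (.node (.node (.leaf 19421) (.leaf 0)) (.node (.leaf 5561) (.leaf 0))))) (.node (.node (.node (.node (.leaf 15370) (.leaf 3263)) (.node (.leaf 8938) (.leaf 0))) (.node (.node (.leaf 13991) (.leaf 0)) (.node (.leaf 7043) (.leaf 0)))) (.node (.node (.node (.leaf 8390) (.leaf 3292)) (.node (.leaf 2465) (.leaf 0))) (.node (.node (.leaf 14838) (.leaf 0)) (.node (.leaf 8724) (.leaf 0)))))) (.node (.node (.node (.node (.node (.leaf 4357) (.leaf 14632)) (.node (.leaf 13219) (.leaf 0))) (.node (.node (.leaf 17943) (.leaf 6246)) (.node (.leaf 672) (.leaf 0)))) (.node (.node (.node (.leaf 19908) (.leaf 16447)) (.node (.leaf 16360) (.leaf 0))) (.node (.node (.leaf 20264) (.leaf 0)) (.node (.leaf 1583) (.leaf 0))))) (.node (.node (.node (.node (.leaf 11555) (.leaf 8462)) (.node (.leaf 15602) (.leaf 0))) (.node (.node (.leaf 20572) (.leaf 0)) (.node (.leaf 15214) (.leaf 0)))) (.node (.node (.node (.leaf 18006) (.leaf 12236)) (.node (.leaf 19039) (.leaf 0))) (.node (.node (.leaf 18571) (.leaf 0)) (.node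 (.leaf 12543) (.leaf 0))))))) (.node (.node (.node (.node (.node (.node (.leaf 3018) (.leaf 13231)) (.node (.leaf 18494) (.leaf 0))) (.node (.node (.leaf 1663) (.leaf 3570)) (.node (.leaf 7364) (.leaf 0)))) (.node (.node (.node (.leaf 8667) (.leaf 17133)) (.node (.leaf 8590) (.leaf 0))) (.node (.node (.leaf 2690) (.leaf 0)) (.node (.leaf 13209) (.leaf 0))))) (.node (.node (.node (.node (.leaf 8618) (.leaf 4674)) (.node (.leaf 5528) (.leaf 0))) (.node (.node (.leaf 4570) (.leaf 0)) (.node (.leaf 7781) (.leaf 0)))) (.node (.node (.node (.leaf 17403) (.leaf 3224)) (.node (.leaf 18643) (.leaf 0))) (.node (.node (.leaf 5506) (.leaf 0)) (.node (.leaf 8571) (.leaf 0)))))) (.node (.node (.node (.node (.node (.leaf 18618) (.leaf 15249)) (.node (.leaf 11940) (.leaf 0))) (.node (.node (.leaf 16328) (.leaf 11287)) (.node (.leaf 335) (.leaf 0)))) (.node (.node (.node (.leaf 4627) (.leaf 15686)) (.node (.leaf 7573) (.leaf 0))) (.node (.node (.leaf 20910) (.leaf 0)) (.node (.leaf 178) (.leaf 0))))) (.node (.node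 (.node (.node (.leaf 4328) (.leaf 17479)) (.node (.leaf 18271) (.leaf 0))) (.node (.node (.leaf 11592) (.leaf 0)) (.node (.leaf 14174) (.leaf 0)))) (.node (.node (.node (.leaf 17531) (.leaf 3277)) (.node (.leaf 5538) (.leaf 0))) (.node (.node (.leaf 12483) (.leaf 0)) (.node (.leaf 3646) (.leaf 0)))))))))

/-- part of a table -/
def ordM78 : Trie := (.node (.node (.node (.node (.node (.node (.node (.node (.leaf 4548) (.leaf 13167)) (.node (.leaf 6847) (.leaf 0))) (.node (.node (.leaf 11821) (.leaf 13102)) (.node (.leaf 8410) (.leaf 0)))) (.node (.node (.node (.leaf 15723) (.leaf 11318)) (.node (.leaf 12677) (.leaf 0))) (.node (.node (.leaf 16046) (.leaf 0)) (.node (.leaf 16054) (.leaf 0))))) (.node (.node (.node (.node (.leaf 1855) (.leaf 359)) (.node (.leaf 15905) (.leaf 0))) (.node (.node (.leaf 15537) (.leaf 0)) (.node (.leaf 3558) (.leaf 0)))) (.node (.node (.node (.leaf 15805) (.leaf 16219)) (.node (.leaf 15166) (.leaf 0))) (.node (.node (.leaf 13838) (.leaf 0)) (.node (.leaf 12131) (.leaf 0))))))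 (.node (.node (.node (.node (.node (.leaf 13001) (.leaf 17534)) (.node (.leaf 11716) (.leaf 0))) (.node (.node (.leaf 1416) (.leaf 4231)) (.node (.leaf 12373) (.leaf 0)))) (.node (.node (.node (.leaf 17767) (.leaf 12939)) (.node (.leaf 5436) (.leaf 0))) (.node (.node (.leaf 4190) (.leaf 0)) (.node (.leaf 15394) (.leaf 0))))) (.node (.node (.node (.node (.leaf 16416) (.leaf 6432)) (.node (.leaf 6702) (.leaf 0))) (.node (.node (.leaf 1820) (.leaf 0)) (.node (.leaf 8258) (.leaf 0)))) (.node (.node (.node (.leaf 2138) (.leaf 7841)) (.node (.leaf 5864) (.leaf 0))) (.node (.node (.leaf 8984) (.leaf 0)) (.node (.leaf 7396) (.leaf 0))))))) (.node (.node (.node (.node (.node (.node (.leaf 9849) (.leaf 1277)) (.node (.leaf 5066) (.leaf 0))) (.node (.node (.leaf 226) (.leaf 21373)) (.node (.leaf 15739) (.leaf 0)))) (.node (.node (.node (.leaf 7769) (.leaf 207)) (.node (.leaf 20948) (.leaf 0))) (.node (.node (.leaf 8617) (.leaf 0)) (.node (.leaf 12908) (.leaf 0))))) (.node (.node (.node (.node (.leaf 18246)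 (.leaf 15326)) (.node (.leaf 1542) (.leaf 0))) (.node (.node (.leaf 11949) (.leaf 0)) (.node (.leaf 17785) (.leaf 0)))) (.node (.node (.node (.leaf 6352) (.leaf 18057)) (.node (.leaf 7426) (.leaf 0))) (.node (.node (.leaf 18204) (.leaf 0)) (.node (.leaf 10047) (.leaf 0)))))) (.node (.node (.node (.node (.node (.leaf 12540) (.leaf 10540)) (.node (.leaf 90) (.leaf 0))) (.node (.node (.leaf 1493) (.leaf 14243)) (.node (.leaf 2614) (.leaf 0)))) (.node (.node (.node (.leaf 14861) (.leaf 15046)) (.node (.leaf 13901) (.leaf 0))) (.node (.node (.leaf 2103) (.leaf 0)) (.node (.leaf 13178) (.leaf 0))))) (.node (.node (.node (.node (.leaf 3770) (.leaf 18347)) (.node (.leaf 9728) (.leaf 0))) (.node (.node (.leaf 14166) (.leaf 0)) (.node (.leaf 9576) (.leaf 0)))) (.node (.node (.node (.leaf 15866) (.leaf 15291)) (.node (.leaf 155) (.leaf 0))) (.node (.node (.leaf 17982) (.leaf 0)) (.node (.leaf 994) (.leaf 0)))))))) (.node (.node (.node (.node (.node (.node (.node (.leaf 9619) (.leaf 483)) (.node (.leaf 5727)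 (.leaf 0))) (.node (.node (.leaf 12848) (.leaf 19701)) (.node (.leaf 13301) (.leaf 0)))) (.node (.node (.node (.leaf 6636) (.leaf 2319)) (.node (.leaf 10000) (.leaf 0))) (.node (.node (.leaf 14610) (.leaf 0)) (.node (.leaf 20549) (.leaf 0))))) (.node (.node (.node (.node (.leaf 13447) (.leaf 3599)) (.node (.leaf 11425) (.leaf 0))) (.node (.node (.leaf 12217) (.leaf 0)) (.node (.leaf 7897) (.leaf 0)))) (.node (.node (.node (.leaf 15817) (.leaf 4911)) (.node (.leaf 8931) (.leaf 0))) (.node (.node (.leaf 10615) (.leaf 0)) (.node (.leaf 19957) (.leaf 0)))))) (.node (.node (.node (.node (.node (.leaf 10754) (.leaf 1288)) (.node (.leaf 20639) (.leaf 0))) (.node (.node (.leaf 12112) (.leaf 15277)) (.node (.leaf 12558) (.leaf 0)))) (.node (.node (.node (.leaf 13279) (.leaf 16711)) (.node (.leaf 1734) (.leaf 0))) (.node (.node (.leaf 73) (.leaf 0)) (.node (.leaf 12417) (.leaf 0))))) (.node (.node (.node (.node (.leaf 21244) (.leaf 17422)) (.node (.leaf 9839) (.leaf 0))) (.node (.node (.leaf 4345) (.leaf 0))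 (.node (.leaf 3703) (.leaf 0)))) (.node (.node (.node (.leaf 1711) (.leaf 5196)) (.node (.leaf 20079) (.leaf 0))) (.node (.node (.leaf 11844) (.leaf 0)) (.node (.leaf 14359) (.leaf 0))))))) (.node (.node (.node (.node (.node (.node (.leaf 18996) (.leaf 3609)) (.node (.leaf 18904) (.leaf 0))) (.node (.node (.leaf 10964) (.leaf 11929)) (.node (.leaf 3841) (.leaf 0)))) (.node (.node (.node (.leaf 688) (.leaf 14304)) (.node (.leaf 14375) (.leaf 0))) (.node (.node (.leaf 2168) (.leaf 0)) (.node (.leaf 10289) (.leaf 0))))) (.node (.node (.node (.node (.leaf 16368) (.leaf 17339)) (.node (.leaf 9410) (.leaf 0))) (.node (.node (.leaf 8632) (.leaf 0)) (.node (.leaf 13004) (.leaf 0)))) (.node (.node (.node (.leaf 3948) (.leaf 4193)) (.node (.leaf 17082) (.leaf 0))) (.node (.node (.leaf 2925) (.leaf 0)) (.node (.leaf 5326) (.leaf 0)))))) (.node (.node (.node (.node (.node (.leaf 18340) (.leaf 5203)) (.node (.leaf 12156) (.leaf 0))) (.node (.node (.leaf 16165) (.leaf 1438)) (.node (.leaf 2591) (.leaf 0)))) (.node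 (.node (.node (.leaf 3578) (.leaf 12789)) (.node (.leaf 20474) (.leaf 0))) (.node (.node (.leaf 13670) (.leaf 0)) (.node (.leaf 9552) (.leaf 0))))) (.node (.node (.node (.node (.leaf 11322) (.leaf 19213)) (.node (.leaf 16479) (.leaf 0))) (.node (.node (.leaf 20293) (.leaf 0)) (.node (.leaf 11674) (.leaf 0)))) (.node (.node (.node (.leaf 578) (.leaf 18075)) (.node (.leaf 15154) (.leaf 0))) (.node (.node (.leaf 9877) (.leaf 0)) (.node (.leaf 13532) (.leaf 0)))))))))

/-- part of a table -/
def ordM79 : Trie := (.node (.node (.node (.node (.node (.node (.node (.node (.leaf 246) (.leaf 4127)) (.node (.leaf 4846) (.leaf 0))) (.node (.node (.leaf 15978) (.leaf 18678)) (.node (.leaf 8048) (.leaf 0)))) (.node (.node (.node (.leaf 2504) (.leaf 19278)) (.node (.leaf 18883) (.leaf 0))) (.node (.node (.leaf 9244) (.leaf 0)) (.node (.leaf 16556) (.leaf 0))))) (.node (.node (.node (.node (.leaf 16180) (.leaf 6233)) (.node (.leaf 20785) (.leaf 0))) (.node (.node (.leaf 21139) (.leaf 0)) (.node (.leaf 9995) (.leaf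 0)))) (.node (.node (.node (.leaf 19331) (.leaf 11174)) (.node (.leaf 16128) (.leaf 0))) (.node (.node (.leaf 11804) (.leaf 0)) (.node (.leaf 10599) (.leaf 0)))))) (.node (.node (.node (.node (.node (.leaf 21278) (.leaf 15210)) (.node (.leaf 19659) (.leaf 0))) (.node (.node (.leaf 3506) (.leaf 11234)) (.node (.leaf 3661) (.leaf 0)))) (.node (.node (.node (.leaf 10931) (.leaf 911)) (.node (.leaf 4233) (.leaf 0))) (.node (.node (.leaf 20945) (.leaf 0)) (.node (.leaf 10462) (.leaf 0))))) (.node (.node (.node (.node (.leaf 18623) (.leaf 19742)) (.node (.leaf 16684) (.leaf 0))) (.node (.node (.leaf 5619) (.leaf 0)) (.node (.leaf 17004) (.leaf 0)))) (.node (.node (.node (.leaf 4600) (.leaf 2278)) (.node (.leaf 3541) (.leaf 0))) (.node (.node (.leaf 8539) (.leaf 0)) (.node (.leaf 18732) (.leaf 0))))))) (.node (.node (.node (.node (.node (.node (.leaf 2751) (.leaf 12608)) (.node (.leaf 16345) (.leaf 0))) (.node (.node (.leaf 5183) (.leaf 13261)) (.node (.leaf 4354) (.leaf 0)))) (.node (.node (.node (.leaf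 3324) (.leaf 3194)) (.node (.leaf 6781) (.leaf 0))) (.node (.node (.leaf 8061) (.leaf 0)) (.node (.leaf 17729) (.leaf 0))))) (.node (.node (.node (.node (.leaf 2972) (.leaf 15264)) (.node (.leaf 4743) (.leaf 0))) (.node (.node (.leaf 2233) (.leaf 0)) (.node (.leaf 17955) (.leaf 0)))) (.node (.node (.node (.leaf 2457) (.leaf 15125)) (.node (.leaf 2349) (.leaf 0))) (.node (.node (.leaf 6892) (.leaf 0)) (.node (.leaf 9786) (.leaf 0)))))) (.node (.node (.node (.node (.node (.leaf 20679) (.leaf 19217)) (.node (.leaf 5642) (.leaf 0))) (.node (.node (.leaf 6898) (.leaf 4849)) (.node (.leaf 9454) (.leaf 0)))) (.node (.node (.node (.leaf 11348) (.leaf 17594)) (.node (.leaf 20515) (.leaf 0))) (.node (.node (.leaf 19022) (.leaf 0)) (.node (.leaf 8427) (.leaf 0))))) (.node (.node (.node (.node (.leaf 19309) (.leaf 15752)) (.node (.leaf 19876) (.leaf 0))) (.node (.node (.leaf 8755) (.leaf 0)) (.node (.leaf 14896) (.leaf 0)))) (.node (.node (.node (.leaf 2902) (.leaf 11199)) (.node (.leaf 3254) (.leaf 0))) (.node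 (.node (.leaf 13233) (.leaf 0)) (.node (.leaf 5024) (.leaf 0)))))))) (.node (.node (.node (.node (.node (.node (.node (.leaf 19084) (.leaf 344)) (.node (.leaf 1860) (.leaf 0))) (.node (.node (.leaf 4986) (.leaf 16296)) (.node (.leaf 19225) (.leaf 0)))) (.node (.node (.node (.leaf 4500) (.leaf 16823)) (.node (.leaf 7723) (.leaf 0))) (.node (.node (.leaf 4425) (.leaf 0)) (.node (.leaf 18945) (.leaf 0))))) (.node (.node (.node (.node (.leaf 13332) (.leaf 8762)) (.node (.leaf 15260) (.leaf 0))) (.node (.node (.leaf 14189) (.leaf 0)) (.node (.leaf 16768) (.leaf 0)))) (.node (.node (.node (.leaf 18229) (.leaf 13399)) (.node (.leaf 3611) (.leaf 0))) (.node (.node (.leaf 16656) (.leaf 0)) (.node (.leaf 17860) (.leaf 0)))))) (.node (.node (.node (.node (.node (.leaf 10235) (.leaf 5997)) (.node (.leaf 16888) (.leaf 0))) (.node (.node (.leaf 11735) (.leaf 14012)) (.node (.leaf 1981) (.leaf 0)))) (.node (.node (.node (.leaf 19090) (.leaf 19723)) (.node (.leaf 4913) (.leaf 0))) (.node (.node (.leaf 1475) (.leaf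 0)) (.node (.leaf 11492) (.leaf 0))))) (.node (.node (.node (.node (.leaf 13092) (.leaf 20191)) (.node (.leaf 7224) (.leaf 0))) (.node (.node (.leaf 7597) (.leaf 0)) (.node (.leaf 2625) (.leaf 0)))) (.node (.node (.node (.leaf 17307) (.leaf 4143)) (.node (.leaf 12569) (.leaf 0))) (.node (.node (.leaf 917) (.leaf 0)) (.node (.leaf 3876) (.leaf 0))))))) (.node (.node (.node (.node (.node (.node (.leaf 5797) (.leaf 8929)) (.node (.leaf 11797) (.leaf 0))) (.node (.node (.leaf 20440) (.leaf 11857)) (.node (.leaf 20741) (.leaf 0)))) (.node (.node (.node (.leaf 10533) (.leaf 19733)) (.node (.leaf 2564) (.leaf 0))) (.node (.node (.leaf 15034) (.leaf 0)) (.node (.leaf 18630) (.leaf 0))))) (.node (.node (.node (.node (.leaf 14886) (.leaf 16115)) (.node (.leaf 11054) (.leaf 0))) (.node (.node (.leaf 2843) (.leaf 0)) (.node (.leaf 15961) (.leaf 0)))) (.node (.node (.node (.leaf 4940) (.leaf 16831)) (.node (.leaf 19397) (.leaf 0))) (.node (.node (.leaf 5476) (.leaf 0)) (.node (.leaf 20704) (.leaf 0)))))) (.node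 (.node (.node (.node (.node (.leaf 9298) (.leaf 2526)) (.node (.leaf 10587) (.leaf 0))) (.node (.node (.leaf 18722) (.leaf 747)) (.node (.leaf 988) (.leaf 0)))) (.node (.node (.node (.leaf 20251) (.leaf 19027)) (.node (.leaf 21070) (.leaf 0))) (.node (.node (.leaf 3395) (.leaf 0)) (.node (.leaf 13188) (.leaf 0))))) (.node (.node (.node (.node (.leaf 20341) (.leaf 14613)) (.node (.leaf 21195) (.leaf 0))) (.node (.node (.leaf 9361) (.leaf 0)) (.node (.leaf 18613) (.leaf 0)))) (.node (.node (.node (.leaf 8795) (.leaf 8989)) (.node (.leaf 14799) (.leaf 0))) (.node (.node (.leaf 12987) (.leaf 0)) (.node (.leaf 985) (.leaf 0)))))))))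

/-- part of a table -/
def ordM80 : Trie := (.node (.node (.node (.node (.node (.node (.node (.node (.leaf 14567) (.leaf 19138)) (.node (.leaf 17888) (.leaf 0))) (.node (.node (.leaf 17862) (.leaf 9155)) (.node (.leaf 7586) (.leaf 0)))) (.node (.node (.node (.leaf 15767) (.leaf 15876)) (.node (.leaf 10340) (.leaf 0))) (.node (.node (.leaf 9572) (.leaf 0)) (.node (.leaf 12050) (.leaf 0))))) (.node (.node (.node (.node (.leaf 13798) (.leaf 20905)) (.node (.leaf 18702) (.leaf 0))) (.node (.node (.leaf 14303) (.leaf 0)) (.node (.leaf 14724) (.leaf 0)))) (.node (.node (.node (.leaf 18637) (.leaf 20897)) (.node (.leaf 11552) (.leaf 0))) (.node (.node (.leaf 16198) (.leaf 0)) (.node (.leaf 14962) (.leaf 0)))))) (.node (.node (.node (.node (.node (.leaf 4955) (.leaf 2305)) (.node (.leaf 12746) (.leaf 0))) (.node (.node (.leaf 16774) (.leaf 7518)) (.node (.leaf 3066) (.leaf 0)))) (.node (.node (.node (.leaf 14167) (.leaf 13671)) (.node (.leaf 47) (.leaf 0))) (.node (.node (.leaf 9496) (.leaf 0)) (.node (.leaf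 872) (.leaf 0))))) (.node (.node (.node (.node (.leaf 9956) (.leaf 11147)) (.node (.leaf 20391) (.leaf 0))) (.node (.node (.leaf 15005) (.leaf 0)) (.node (.leaf 1801) (.leaf 0)))) (.node (.node (.node (.leaf 11198) (.leaf 17029)) (.node (.leaf 7985) (.leaf 0))) (.node (.node (.leaf 1148) (.leaf 0)) (.node (.leaf 14396) (.leaf 0))))))) (.node (.node (.node (.node (.node (.node (.leaf 14696) (.leaf 16560)) (.node (.leaf 4683) (.leaf 0))) (.node (.node (.leaf 15359) (.leaf 15349)) (.node (.leaf 19322) (.leaf 0)))) (.node (.node (.node (.leaf 20297) (.leaf 17555)) (.node (.leaf 5693) (.leaf 0))) (.node (.node (.leaf 1617) (.leaf 0)) (.node (.leaf 8099) (.leaf 0))))) (.node (.node (.node (.node (.leaf 13220) (.leaf 5076)) (.node (.leaf 6346) (.leaf 0))) (.node (.node (.leaf 4642) (.leaf 0)) (.node (.leaf 6757) (.leaf 0)))) (.node (.node (.node (.leaf 3734) (.leaf 13877)) (.node (.leaf 4392) (.leaf 0))) (.node (.node (.leaf 16249) (.leaf 0)) (.node (.leaf 11748) (.leaf 0)))))) (.node (.node (.node (.node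 (.node (.leaf 5002) (.leaf 1807)) (.node (.leaf 3095) (.leaf 0))) (.node (.node (.leaf 3269) (.leaf 10656)) (.node (.leaf 4230) (.leaf 0)))) (.node (.node (.node (.leaf 3147) (.leaf 17661)) (.node (.leaf 7444) (.leaf 0))) (.node (.node (.leaf 18677) (.leaf 0)) (.node (.leaf 15242) (.leaf 0))))) (.node (.node (.node (.node (.leaf 18446) (.leaf 17628)) (.node (.leaf 19209) (.leaf 0))) (.node (.node (.leaf 14345) (.leaf 0)) (.node (.leaf 13109) (.leaf 0)))) (.node (.node (.node (.leaf 5338) (.leaf 17017)) (.node (.leaf 1297) (.leaf 0))) (.node (.node (.leaf 15200) (.leaf 0)) (.node (.leaf 15403) (.leaf 0)))))))) (.node (.node (.node (.node (.node (.node (.node (.leaf 6912) (.leaf 7652)) (.node (.leaf 8358) (.leaf 0))) (.node (.node (.leaf 13198) (.leaf 13255)) (.node (.leaf 16539) (.leaf 0)))) (.node (.node (.node (.leaf 17085) (.leaf 7468)) (.node (.leaf 11379) (.leaf 0))) (.node (.node (.leaf 4919) (.leaf 0)) (.node (.leaf 3225) (.leaf 0))))) (.node (.node (.node (.node (.leaf 12196) (.leaf 14415))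 (.node (.leaf 20542) (.leaf 0))) (.node (.node (.leaf 10936) (.leaf 0)) (.node (.leaf 1144) (.leaf 0)))) (.node (.node (.node (.leaf 13296) (.leaf 9038)) (.node (.leaf 16411) (.leaf 0))) (.node (.node (.leaf 14195) (.leaf 0)) (.node (.leaf 12653) (.leaf 0)))))) (.node (.node (.node (.node (.node (.leaf 5870) (.leaf 908)) (.node (.leaf 590) (.leaf 0))) (.node (.node (.leaf 19903) (.leaf 16981)) (.node (.leaf 348) (.leaf 0)))) (.node (.node (.node (.leaf 12959) (.leaf 15792)) (.node (.leaf 3030) (.leaf 0))) (.node (.node (.leaf 170) (.leaf 0)) (.node (.leaf 15947) (.leaf 0))))) (.node (.node (.node (.node (.leaf 15610) (.leaf 18666)) (.node (.leaf 2746) (.leaf 0))) (.node (.node (.leaf 20727) (.leaf 0)) (.node (.leaf 1816) (.leaf 0)))) (.node (.node (.node (.leaf 17450) (.leaf 4501)) (.node (.leaf 9783) (.leaf 0))) (.node (.node (.leaf 4368) (.leaf 0)) (.node (.leaf 11080) (.leaf 0))))))) (.node (.node (.node (.node (.node (.node (.leaf 21228) (.leaf 3499)) (.node (.leaf 15585) (.leaf 0))) (.node (.node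 (.leaf 4791) (.leaf 10719)) (.node (.leaf 14851) (.leaf 0)))) (.node (.node (.node (.leaf 15631) (.leaf 13132)) (.node (.leaf 16162) (.leaf 0))) (.node (.node (.leaf 9769) (.leaf 0)) (.node (.leaf 18083) (.leaf 0))))) (.node (.node (.node (.node (.leaf 16244) (.leaf 18755)) (.node (.leaf 6802) (.leaf 0))) (.node (.node (.leaf 15024) (.leaf 0)) (.node (.leaf 1954) (.leaf 0)))) (.node (.node (.node (.leaf 15986) (.leaf 16375)) (.node (.leaf 5705) (.leaf 0))) (.node (.node (.leaf 4975) (.leaf 0)) (.node (.leaf 15625) (.leaf 0)))))) (.node (.node (.node (.node (.node (.leaf 20055) (.leaf 423)) (.node (.leaf 19068) (.leaf 0))) (.node (.node (.leaf 17592) (.leaf 1667)) (.node (.leaf 5820) (.leaf 0)))) (.node (.node (.node (.leaf 8834) (.leaf 4525)) (.node (.leaf 6098) (.leaf 0))) (.node (.node (.leaf 12566) (.leaf 0)) (.node (.leaf 12020) (.leaf 0))))) (.node (.node (.node (.node (.leaf 10518) (.leaf 4407)) (.node (.leaf 9872) (.leaf 0))) (.node (.node (.leaf 12829) (.leaf 0)) (.node (.leaf 12109) (.leaf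 0)))) (.node (.node (.node (.leaf 13833) (.leaf 6855)) (.node (.leaf 4373) (.leaf 0))) (.node (.node (.leaf 10116) (.leaf 0)) (.node (.leaf 6906) (.leaf 0)))))))))

/-- part of a table -/
def ordM81 : Trie := (.node (.node (.node (.node (.node (.node (.node (.node (.leaf 10768) (.leaf 18087)) (.node (.leaf 6134) (.leaf 0))) (.node (.node (.leaf 18342) (.leaf 13251)) (.node (.leaf 4335) (.leaf 0)))) (.node (.node (.node (.leaf 21323) (.leaf 10236)) (.node (.leaf 12549) (.leaf 0))) (.node (.node (.leaf 14202) (.leaf 0)) (.node (.leaf 14719) (.leaf 0))))) (.node (.node (.node (.node (.leaf 18969) (.leaf 19940)) (.node (.leaf 4442) (.leaf 0))) (.node (.node (.leaf 17670) (.leaf 0)) (.node (.leaf 17370) (.leaf 0)))) (.node (.node (.node (.leaf 17810) (.leaf 8051)) (.node (.leaf 10805) (.leaf 0))) (.node (.node (.leaf 13593) (.leaf 0)) (.node (.leaf 7259) (.leaf 0)))))) (.node (.node (.node (.node (.node (.leaf 7840) (.leaf 896)) (.node (.leaf 5062) (.leaf 0))) (.node (.node (.leaf 14431) (.leaf 14752))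 (.node (.leaf 18470) (.leaf 0)))) (.node (.node (.node (.leaf 15411) (.leaf 14810)) (.node (.leaf 899) (.leaf 0))) (.node (.node (.leaf 13802) (.leaf 0)) (.node (.leaf 2721) (.leaf 0))))) (.node (.node (.node (.node (.leaf 17585) (.leaf 19661)) (.node (.leaf 14924) (.leaf 0))) (.node (.node (.leaf 10989) (.leaf 0)) (.node (.leaf 15433) (.leaf 0)))) (.node (.node (.node (.leaf 15290) (.leaf 1559)) (.node (.leaf 12799) (.leaf 0))) (.node (.node (.leaf 14736) (.leaf 0)) (.node (.leaf 21290) (.leaf 0))))))) (.node (.node (.node (.node (.node (.node (.leaf 2642) (.leaf 12307)) (.node (.leaf 1462) (.leaf 0))) (.node (.node (.leaf 10675) (.leaf 15929)) (.node (.leaf 20155) (.leaf 0)))) (.node (.node (.node (.leaf 20547) (.leaf 18354)) (.node (.leaf 12255) (.leaf 0))) (.node (.node (.leaf 17424) (.leaf 0)) (.node (.leaf 6032) (.leaf 0))))) (.node (.node (.node (.node (.leaf 10637) (.leaf 4838)) (.node (.leaf 14093) (.leaf 0))) (.node (.node (.leaf 8570) (.leaf 0)) (.node (.leaf 12387) (.leaf 0)))) (.node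 (.node (.node (.leaf 1347) (.leaf 3737)) (.node (.leaf 17645) (.leaf 0))) (.node (.node (.leaf 9006) (.leaf 0)) (.node (.leaf 18669) (.leaf 0)))))) (.node (.node (.node (.node (.node (.leaf 15068) (.leaf 4532)) (.node (.leaf 804) (.leaf 0))) (.node (.node (.leaf 7807) (.leaf 671)) (.node (.leaf 8705) (.leaf 0)))) (.node (.node (.node (.leaf 9368) (.leaf 19419)) (.node (.leaf 9817) (.leaf 0))) (.node (.node (.leaf 13101) (.leaf 0)) (.node (.leaf 21079) (.leaf 0))))) (.node (.node (.node (.node (.leaf 20774) (.leaf 17062)) (.node (.leaf 9424) (.leaf 0))) (.node (.node (.leaf 16702) (.leaf 0)) (.node (.leaf 9151) (.leaf 0)))) (.node (.node (.node (.leaf 3579) (.leaf 14293)) (.node (.leaf 14945) (.leaf 0))) (.node (.node (.leaf 20902) (.leaf 0)) (.node (.leaf 1246) (.leaf 0)))))))) (.node (.node (.node (.node (.node (.node (.node (.leaf 15401) (.leaf 5666)) (.node (.leaf 3322) (.leaf 0))) (.node (.node (.leaf 8547) (.leaf 16225)) (.node (.leaf 20970) (.leaf 0)))) (.node (.node (.node (.leaf 12129) (.leaf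 2570)) (.node (.leaf 13452) (.leaf 0))) (.node (.node (.leaf 1061) (.leaf 0)) (.node (.leaf 7607) (.leaf 0))))) (.node (.node (.node (.node (.leaf 7347) (.leaf 20733)) (.node (.leaf 19255) (.leaf 0))) (.node (.node (.leaf 5138) (.leaf 0)) (.node (.leaf 14812) (.leaf 0)))) (.node (.node (.node (.leaf 8138) (.leaf 3513)) (.node (.leaf 3440) (.leaf 0))) (.node (.node (.leaf 20786) (.leaf 0)) (.node (.leaf 20553) (.leaf 0)))))) (.node (.node (.node (.node (.node (.leaf 3592) (.leaf 2608)) (.node (.leaf 27) (.leaf 0))) (.node (.node (.leaf 4769) (.leaf 7881)) (.node (.leaf 1264) (.leaf 0)))) (.node (.node (.node (.leaf 14391) (.leaf 13224)) (.node (.leaf 6984) (.leaf 0))) (.node (.node (.leaf 667) (.leaf 0)) (.node (.leaf 5768) (.leaf 0))))) (.node (.node (.node (.node (.leaf 6236) (.leaf 7251)) (.node (.leaf 9843) (.leaf 0))) (.node (.node (.leaf 16531) (.leaf 0)) (.node (.leaf 8333) (.leaf 0)))) (.node (.node (.node (.leaf 8311) (.leaf 6637)) (.node (.leaf 8135) (.leaf 0))) (.node (.node (.leaf 19218)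 (.leaf 0)) (.node (.leaf 9186) (.leaf 0))))))) (.node (.node (.node (.node (.node (.node (.leaf 5207) (.leaf 19560)) (.node (.leaf 10182) (.leaf 0))) (.node (.node (.leaf 14546) (.leaf 9942)) (.node (.leaf 2807) (.leaf 0)))) (.node (.node (.node (.leaf 19376) (.leaf 6792)) (.node (.leaf 20651) (.leaf 0))) (.node (.node (.leaf 9924) (.leaf 0)) (.node (.leaf 3077) (.leaf 0))))) (.node (.node (.node (.node (.leaf 15184) (.leaf 8738)) (.node (.leaf 13595) (.leaf 0))) (.node (.node (.leaf 11224) (.leaf 0)) (.node (.leaf 11659) (.leaf 0)))) (.node (.node (.node (.leaf 14427) (.leaf 21038)) (.node (.leaf 19163) (.leaf 0))) (.node (.node (.leaf 2514) (.leaf 0)) (.node (.leaf 21453) (.leaf 0)))))) (.node (.node (.node (.node (.node (.leaf 11898) (.leaf 1898)) (.node (.leaf 9532) (.leaf 0))) (.node (.node (.leaf 2401) (.leaf 5205)) (.node (.leaf 1826) (.leaf 0)))) (.node (.node (.node (.leaf 9283) (.leaf 2477)) (.node (.leaf 9973) (.leaf 0))) (.node (.node (.leaf 8232) (.leaf 0)) (.node (.leaf 1287) (.leaf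 0))))) (.node (.node (.node (.node (.leaf 4119) (.leaf 11673)) (.node (.leaf 10664) (.leaf 0))) (.node (.node (.leaf 19865) (.leaf 0)) (.node (.leaf 3688) (.leaf 0)))) (.node (.node (.node (.leaf 5526) (.leaf 12218)) (.node (.leaf 890) (.leaf 0))) (.node (.node (.leaf 16524) (.leaf 0)) (.node (.leaf 11583) (.leaf 0)))))))))

/-- part of a table -/
def ordM82 : Trie := (.node (.node (.node (.node (.node (.node (.node (.node (.leaf 9109) (.leaf 3473)) (.node (.leaf 4460) (.leaf 0))) (.node (.node (.leaf 5803) (.leaf 4624)) (.node (.leaf 8171) (.leaf 0)))) (.node (.node (.node (.leaf 3997) (.leaf 1370)) (.node (.leaf 19204) (.leaf 0))) (.node (.node (.leaf 11927) (.leaf 0)) (.node (.leaf 14244) (.leaf 0))))) (.node (.node (.node (.node (.leaf 5065) (.leaf 20781)) (.node (.leaf 16956) (.leaf 0))) (.node (.node (.leaf 20671) (.leaf 0)) (.node (.leaf 4474) (.leaf 0)))) (.node (.node (.node (.leaf 1400) (.leaf 13423)) (.node (.leaf 15346) (.leaf 0))) (.node (.node (.leaf 14860) (.leaf 0)) (.node (.leaf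 10507) (.leaf 0)))))) (.node (.node (.node (.node (.node (.leaf 279) (.leaf 11384)) (.node (.leaf 14340) (.leaf 0))) (.node (.node (.leaf 4900) (.leaf 11546)) (.node (.leaf 13637) (.leaf 0)))) (.node (.node (.node (.leaf 13669) (.leaf 6862)) (.node (.leaf 9696) (.leaf 0))) (.node (.node (.leaf 6232) (.leaf 0)) (.node (.leaf 13365) (.leaf 0))))) (.node (.node (.node (.node (.leaf 13650) (.leaf 6805)) (.node (.leaf 15419) (.leaf 0))) (.node (.node (.leaf 6822) (.leaf 0)) (.node (.leaf 6242) (.leaf 0)))) (.node (.node (.node (.leaf 4787) (.leaf 15395)) (.node (.leaf 11500) (.leaf 0))) (.node (.node (.leaf 19775) (.leaf 0)) (.node (.leaf 3) (.leaf 0))))))) (.node (.node (.node (.node (.node (.node (.leaf 14906) (.leaf 13840)) (.node (.leaf 18583) (.leaf 0))) (.node (.node (.leaf 12910) (.leaf 11995)) (.node (.leaf 3795) (.leaf 0)))) (.node (.node (.node (.leaf 13894) (.leaf 9980)) (.node (.leaf 17510) (.leaf 0))) (.node (.node (.leaf 6260) (.leaf 0)) (.node (.leaf 2670) (.leaf 0))))) (.node (.node (.node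 (.node (.leaf 17454) (.leaf 7826)) (.node (.leaf 14051) (.leaf 0))) (.node (.node (.leaf 3178) (.leaf 0)) (.node (.leaf 11195) (.leaf 0)))) (.node (.node (.node (.leaf 5676) (.leaf 15397)) (.node (.leaf 9264) (.leaf 0))) (.node (.node (.leaf 7284) (.leaf 0)) (.node (.leaf 3148) (.leaf 0)))))) (.node (.node (.node (.node (.node (.leaf 17558) (.leaf 630)) (.node (.leaf 21111) (.leaf 0))) (.node (.node (.leaf 18192) (.leaf 21191)) (.node (.leaf 20090) (.leaf 0)))) (.node (.node (.node (.leaf 11717) (.leaf 8814)) (.node (.leaf 3931) (.leaf 0))) (.node (.node (.leaf 8103) (.leaf 0)) (.node (.leaf 3943) (.leaf 0))))) (.node (.node (.node (.node (.leaf 16469) (.leaf 443)) (.node (.leaf 15681) (.leaf 0))) (.node (.node (.leaf 10336) (.leaf 0)) (.node (.leaf 4487) (.leaf 0)))) (.node (.node (.node (.leaf 15254) (.leaf 12399)) (.node (.leaf 15235) (.leaf 0))) (.node (.node (.leaf 18397) (.leaf 0)) (.node (.leaf 16313) (.leaf 0)))))))) (.node (.node (.node (.node (.node (.node (.node (.leaf 13485) (.leaf 19886))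 (.node (.leaf 3656) (.leaf 0))) (.node (.node (.leaf 18316) (.leaf 17291)) (.node (.leaf 20675) (.leaf 0)))) (.node (.node (.node (.leaf 20556) (.leaf 11062)) (.node (.leaf 21289) (.leaf 0))) (.node (.node (.leaf 7512) (.leaf 0)) (.node (.leaf 11152) (.leaf 0))))) (.node (.node (.node (.node (.leaf 741) (.leaf 14036)) (.node (.leaf 7913) (.leaf 0))) (.node (.node (.leaf 573) (.leaf 0)) (.node (.leaf 17887) (.leaf 0)))) (.node (.node (.node (.leaf 5452) (.leaf 2857)) (.node (.leaf 13108) (.leaf 0))) (.node (.node (.leaf 10643) (.leaf 0)) (.node (.leaf 14563) (.leaf 0)))))) (.node (.node (.node (.node (.node (.leaf 14110) (.leaf 17776)) (.node (.leaf 15013) (.leaf 0))) (.node (.node (.leaf 3375) (.leaf 9413)) (.node (.leaf 17876) (.leaf 0)))) (.node (.node (.node (.leaf 1664) (.leaf 17410)) (.node (.leaf 10681) (.leaf 0))) (.node (.node (.leaf 9591) (.leaf 0)) (.node (.leaf 18128) (.leaf 0))))) (.node (.node (.node (.node (.leaf 18790) (.leaf 5426)) (.node (.leaf 20507) (.leaf 0))) (.node (.node (.leaf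 12497) (.leaf 0)) (.node (.leaf 18886) (.leaf 0)))) (.node (.node (.node (.leaf 4774) (.leaf 18023)) (.node (.leaf 3956) (.leaf 0))) (.node (.node (.leaf 3640) (.leaf 0)) (.node (.leaf 14137) (.leaf 0))))))) (.node (.node (.node (.node (.node (.node (.leaf 9631) (.leaf 11636)) (.node (.leaf 16174) (.leaf 0))) (.node (.node (.leaf 9895) (.leaf 17217)) (.node (.leaf 20923) (.leaf 0)))) (.node (.node (.node (.leaf 14967) (.leaf 15356)) (.node (.leaf 5414) (.leaf 0))) (.node (.node (.leaf 7490) (.leaf 0)) (.node (.leaf 5181) (.leaf 0))))) (.node (.node (.node (.node (.leaf 16231) (.leaf 131)) (.node (.leaf 20860) (.leaf 0))) (.node (.node (.leaf 9118) (.leaf 0)) (.node (.leaf 17589) (.leaf 0)))) (.node (.node (.node (.leaf 16378) (.leaf 3660)) (.node (.leaf 14593) (.leaf 0))) (.node (.node (.leaf 6932) (.leaf 0)) (.node (.leaf 4144) (.leaf 0)))))) (.node (.node (.node (.node (.node (.leaf 4669) (.leaf 8835)) (.node (.leaf 7998) (.leaf 0))) (.node (.node (.leaf 16278) (.leaf 15322)) (.node (.leaf 10282)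 (.leaf 0)))) (.node (.node (.node (.leaf 4569) (.leaf 2886)) (.node (.leaf 9219) (.leaf 0))) (.node (.node (.leaf 1856) (.leaf 0)) (.node (.leaf 19771) (.leaf 0))))) (.node (.node (.node (.node (.leaf 13813) (.leaf 5294)) (.node (.leaf 5474) (.leaf 0))) (.node (.node (.leaf 17954) (.leaf 0)) (.node (.leaf 21036) (.leaf 0)))) (.node (.node (.node (.leaf 19600) (.leaf 13992)) (.node (.leaf 18182) (.leaf 0))) (.node (.node (.leaf 11841) (.leaf 0)) (.node (.leaf 10256) (.leaf 0)))))))))

/-- part of a table -/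
def ordM83 : Trie := (.node (.node (.node (.node (.node (.node (.node (.node (.leaf 3670) (.leaf 4888)) (.node (.leaf 9327) (.leaf 0))) (.node (.node (.leaf 12626) (.leaf 20803)) (.node (.leaf 21208) (.leaf 0)))) (.node (.node (.node (.leaf 5411) (.leaf 2584)) (.node (.leaf 6610) (.leaf 0))) (.node (.node (.leaf 15592) (.leaf 0)) (.node (.leaf 4850) (.leaf 0))))) (.node (.node (.node (.node (.leaf 729) (.leaf 19379)) (.node (.leaf 15729) (.leaf 0))) (.node (.node (.leaf 21465) (.leaf 0)) (.node (.leaf 1406) (.leaf 0)))) (.node (.node (.node (.leaf 3004) (.leaf 10526)) (.node (.leaf 17595) (.leaf 0))) (.node (.node (.leaf 16857) (.leaf 0)) (.node (.leaf 13561) (.leaf 0)))))) (.node (.node (.node (.node (.node (.leaf 6018) (.leaf 14146)) (.node (.leaf 10464) (.leaf 0))) (.node (.node (.leaf 17929) (.leaf 14028)) (.node (.leaf 4385) (.leaf 0)))) (.node (.node (.node (.leaf 13014) (.leaf 21010)) (.node (.leaf 3413) (.leaf 0))) (.node (.node (.leaf 3967) (.leaf 0)) (.node (.leaf 1090) (.leaf 0))))) (.node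 (.node (.node (.node (.leaf 8185) (.leaf 15512)) (.node (.leaf 3200) (.leaf 0))) (.node (.node (.leaf 15478) (.leaf 0)) (.node (.leaf 16012) (.leaf 0)))) (.node (.node (.node (.leaf 14544) (.leaf 21066)) (.node (.leaf 6454) (.leaf 0))) (.node (.node (.leaf 14025) (.leaf 0)) (.node (.leaf 1476) (.leaf 0))))))) (.node (.node (.node (.node (.node (.node (.leaf 9174) (.leaf 16788)) (.node (.leaf 21011) (.leaf 0))) (.node (.node (.leaf 5904) (.leaf 2810)) (.node (.leaf 792) (.leaf 0)))) (.node (.node (.node (.leaf 3228) (.leaf 18007)) (.node (.leaf 8622) (.leaf 0))) (.node (.node (.leaf 10441) (.leaf 0)) (.node (.leaf 186) (.leaf 0))))) (.node (.node (.node (.node (.leaf 17192) (.leaf 13158)) (.node (.leaf 5611) (.leaf 0))) (.node (.node (.leaf 19141) (.leaf 0)) (.node (.leaf 5874) (.leaf 0)))) (.node (.node (.node (.leaf 3364) (.leaf 1262)) (.node (.leaf 13697) (.leaf 0))) (.node (.node (.leaf 2351) (.leaf 0)) (.node (.leaf 9369) (.leaf 0)))))) (.node (.node (.node (.node (.node (.leaf 1654) (.leaf 10160))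 (.node (.leaf 5270) (.leaf 0))) (.node (.node (.leaf 11692) (.leaf 14476)) (.node (.leaf 21021) (.leaf 0)))) (.node (.node (.node (.leaf 7979) (.leaf 18509)) (.node (.leaf 1124) (.leaf 0))) (.node (.node (.leaf 2707) (.leaf 0)) (.node (.leaf 20059) (.leaf 0))))) (.node (.node (.node (.node (.leaf 18374) (.leaf 9444)) (.node (.leaf 20486) (.leaf 0))) (.node (.node (.leaf 14658) (.leaf 0)) (.node (.leaf 18621) (.leaf 0)))) (.node (.node (.node (.leaf 2291) (.leaf 6768)) (.node (.leaf 5772) (.leaf 0))) (.node (.node (.leaf 17774) (.leaf 0)) (.node (.leaf 9633) (.leaf 0)))))))) (.node (.node (.node (.node (.node (.node (.node (.leaf 18785) (.leaf 20040)) (.node (.leaf 10143) (.leaf 0))) (.node (.node (.leaf 7863) (.leaf 17349)) (.node (.leaf 19490) (.leaf 0)))) (.node (.node (.node (.leaf 11090) (.leaf 9996)) (.node (.leaf 20016) (.leaf 0))) (.node (.node (.leaf 13839) (.leaf 0)) (.node (.leaf 4194) (.leaf 0))))) (.node (.node (.node (.node (.leaf 2102) (.leaf 5728)) (.node (.leaf 11652) (.leaf 0)))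 (.node (.node (.leaf 8792) (.leaf 0)) (.node (.leaf 11317) (.leaf 0)))) (.node (.node (.node (.leaf 19305) (.leaf 18032)) (.node (.leaf 19655) (.leaf 0))) (.node (.node (.leaf 21175) (.leaf 0)) (.node (.leaf 5575) (.leaf 0)))))) (.node (.node (.node (.node (.node (.leaf 4572) (.leaf 9702)) (.node (.leaf 20846) (.leaf 0))) (.node (.node (.leaf 6580) (.leaf 14134)) (.node (.leaf 14629) (.leaf 0)))) (.node (.node (.node (.leaf 17389) (.leaf 20665)) (.node (.leaf 17549) (.leaf 0))) (.node (.node (.leaf 14475) (.leaf 0)) (.node (.leaf 17652) (.leaf 0))))) (.node (.node (.node (.node (.leaf 10696) (.leaf 14321)) (.node (.leaf 12751) (.leaf 0))) (.node (.node (.leaf 4794) (.leaf 0)) (.node (.leaf 15471) (.leaf 0)))) (.node (.node (.node (.leaf 19944) (.leaf 9135)) (.node (.leaf 3591) (.leaf 0))) (.node (.node (.leaf 2338) (.leaf 0)) (.node (.leaf 6205) (.leaf 0))))))) (.node (.node (.node (.node (.node (.node (.leaf 3470) (.leaf 17355)) (.node (.leaf 13448) (.leaf 0))) (.node (.node (.leaf 8447) (.leaf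 20322)) (.node (.leaf 16495) (.leaf 0)))) (.node (.node (.node (.leaf 7266) (.leaf 6594)) (.node (.leaf 6745) (.leaf 0))) (.node (.node (.leaf 8235) (.leaf 0)) (.node (.leaf 2659) (.leaf 0))))) (.node (.node (.node (.node (.leaf 15439) (.leaf 753)) (.node (.leaf 16188) (.leaf 0))) (.node (.node (.leaf 3248) (.leaf 0)) (.node (.leaf 8550) (.leaf 0)))) (.node (.node (.node (.leaf 8312) (.leaf 14048)) (.node (.leaf 13380) (.leaf 0))) (.node (.node (.leaf 585) (.leaf 0)) (.node (.leaf 11330) (.leaf 0)))))) (.node (.node (.node (.node (.node (.leaf 5769) (.leaf 5873)) (.node (.leaf 3979) (.leaf 0))) (.node (.node (.leaf 3437) (.leaf 5661)) (.node (.leaf 13329) (.leaf 0)))) (.node (.node (.node (.leaf 10616) (.leaf 9878)) (.node (.leaf 4496) (.leaf 0))) (.node (.node (.leaf 15598) (.leaf 0)) (.node (.leaf 19467) (.leaf 0))))) (.node (.node (.node (.node (.leaf 13025) (.leaf 1616)) (.node (.leaf 1870) (.leaf 0))) (.node (.node (.leaf 14104) (.leaf 0)) (.node (.leaf 10807) (.leaf 0)))) (.node (.node (.node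 (.leaf 14668) (.leaf 12194)) (.node (.leaf 2174) (.leaf 0))) (.node (.node (.leaf 14926) (.leaf 0)) (.node (.leaf 8873) (.leaf 0)))))))))

/-- part of a table -/
def ordM84 : Trie := (.node (.node (.node (.node (.node (.node (.node (.node (.leaf 16793) (.leaf 191)) (.node (.leaf 21322) (.leaf 0))) (.node (.node (.leaf 1498) (.leaf 21436)) (.node (.leaf 16077) (.leaf 0)))) (.node (.node (.node (.leaf 458) (.leaf 16143)) (.node (.leaf 1456) (.leaf 0))) (.node (.node (.leaf 1822) (.leaf 0)) (.node (.leaf 16099) (.leaf 0))))) (.node (.node (.node (.node (.leaf 17003) (.leaf 17697)) (.node (.leaf 12055) (.leaf 0))) (.node (.node (.leaf 1229) (.leaf 0)) (.node (.leaf 15709) (.leaf 0)))) (.node (.node (.node (.leaf 2765) (.leaf 2728)) (.node (.leaf 10374) (.leaf 0))) (.node (.node (.leaf 2844) (.leaf 0)) (.node (.leaf 19129) (.leaf 0)))))) (.node (.node (.node (.node (.node (.leaf 15661) (.leaf 959)) (.node (.leaf 3715) (.leaf 0))) (.node (.node (.leaf 14527) (.leaf 20058)) (.node (.leaf 9883) (.leaf 0))))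 (.node (.node (.node (.leaf 13300) (.leaf 508)) (.node (.leaf 10813) (.leaf 0))) (.node (.node (.leaf 9615) (.leaf 0)) (.node (.leaf 14700) (.leaf 0))))) (.node (.node (.node (.node (.leaf 6196) (.leaf 9675)) (.node (.leaf 12723) (.leaf 0))) (.node (.node (.leaf 5667) (.leaf 0)) (.node (.leaf 18115) (.leaf 0)))) (.node (.node (.node (.leaf 12844) (.leaf 5099)) (.node (.leaf 15041) (.leaf 0))) (.node (.node (.leaf 4786) (.leaf 0)) (.node (.leaf 6665) (.leaf 0))))))) (.node (.node (.node (.node (.node (.node (.leaf 15288) (.leaf 4816)) (.node (.leaf 13330) (.leaf 0))) (.node (.node (.leaf 13410) (.leaf 14855)) (.node (.leaf 3880) (.leaf 0)))) (.node (.node (.node (.leaf 14762) (.leaf 2755)) (.node (.leaf 13338) (.leaf 0))) (.node (.node (.leaf 21310) (.leaf 0)) (.node (.leaf 500) (.leaf 0))))) (.node (.node (.node (.node (.leaf 11037) (.leaf 18241)) (.node (.leaf 3418) (.leaf 0))) (.node (.node (.leaf 14882) (.leaf 0)) (.node (.leaf 9198) (.leaf 0)))) (.node (.node (.node (.leaf 20162) (.leaf 15467))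 (.node (.leaf 14462) (.leaf 0))) (.node (.node (.leaf 20483) (.leaf 0)) (.node (.leaf 9330) (.leaf 0)))))) (.node (.node (.node (.node (.node (.leaf 15191) (.leaf 21127)) (.node (.leaf 19728) (.leaf 0))) (.node (.node (.leaf 8424) (.leaf 17147)) (.node (.leaf 18892) (.leaf 0)))) (.node (.node (.node (.leaf 21378) (.leaf 3775)) (.node (.leaf 8169) (.leaf 0))) (.node (.node (.leaf 13742) (.leaf 0)) (.node (.leaf 8866) (.leaf 0))))) (.node (.node (.node (.node (.leaf 7633) (.leaf 19125)) (.node (.leaf 3151) (.leaf 0))) (.node (.node (.leaf 2478) (.leaf 0)) (.node (.leaf 13202) (.leaf 0)))) (.node (.node (.node (.leaf 5418) (.leaf 17883)) (.node (.leaf 261) (.leaf 0))) (.node (.node (.leaf 210) (.leaf 0)) (.node (.leaf 15857) (.leaf 0)))))))) (.node (.node (.node (.node (.node (.node (.node (.leaf 3945) (.leaf 3193)) (.node (.leaf 20381) (.leaf 0))) (.node (.node (.leaf 7605) (.leaf 14683)) (.node (.leaf 11946) (.leaf 0)))) (.node (.node (.node (.leaf 20602) (.leaf 159)) (.node (.leaf 18684) (.leaf 0)))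 (.node (.node (.leaf 11822) (.leaf 0)) (.node (.leaf 11418) (.leaf 0))))) (.node (.node (.node (.node (.leaf 20798) (.leaf 3779)) (.node (.leaf 9375) (.leaf 0))) (.node (.node (.leaf 3642) (.leaf 0)) (.node (.leaf 4784) (.leaf 0)))) (.node (.node (.node (.leaf 16968) (.leaf 18731)) (.node (.leaf 8478) (.leaf 0))) (.node (.node (.leaf 132) (.leaf 0)) (.node (.leaf 13968) (.leaf 0)))))) (.node (.node (.node (.node (.node (.leaf 7528) (.leaf 202)) (.node (.leaf 14617) (.leaf 0))) (.node (.node (.leaf 17079) (.leaf 8337)) (.node (.leaf 11405) (.leaf 0)))) (.node (.node (.node (.leaf 10972) (.leaf 6814)) (.node (.leaf 14457) (.leaf 0))) (.node (.node (.leaf 7642) (.leaf 0)) (.node (.leaf 11632) (.leaf 0))))) (.node (.node (.node (.node (.leaf 7611) (.leaf 17687)) (.node (.leaf 618) (.leaf 0))) (.node (.node (.leaf 20991) (.leaf 0)) (.node (.leaf 6423) (.leaf 0)))) (.node (.node (.node (.leaf 5706) (.leaf 20710)) (.node (.leaf 13493) (.leaf 0))) (.node (.node (.leaf 5334) (.leaf 0)) (.node (.leaf 10330)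 (.leaf 0))))))) (.node (.node (.node (.node (.node (.node (.leaf 102) (.leaf 12283)) (.node (.leaf 9360) (.leaf 0))) (.node (.node (.leaf 10309) (.leaf 4790)) (.node (.leaf 19888) (.leaf 0)))) (.node (.node (.node (.leaf 6942) (.leaf 13168)) (.node (.leaf 654) (.leaf 0))) (.node (.node (.leaf 12272) (.leaf 0)) (.node (.leaf 2717) (.leaf 0))))) (.node (.node (.node (.node (.leaf 11811) (.leaf 10642)) (.node (.leaf 14914) (.leaf 0))) (.node (.node (.leaf 2629) (.leaf 0)) (.node (.leaf 20720) (.leaf 0)))) (.node (.node (.node (.leaf 15384) (.leaf 7065)) (.node (.leaf 20881) (.leaf 0))) (.node (.node (.leaf 19271) (.leaf 0)) (.node (.leaf 7917) (.leaf 0)))))) (.node (.node (.node (.node (.node (.leaf 3495) (.leaf 6237)) (.node (.leaf 16820) (.leaf 0))) (.node (.node (.leaf 14848) (.leaf 7188)) (.node (.leaf 20929) (.leaf 0)))) (.node (.node (.node (.leaf 5012) (.leaf 11922)) (.node (.leaf 6835) (.leaf 0))) (.node (.node (.leaf 5182) (.leaf 0)) (.node (.leaf 1013) (.leaf 0))))) (.node (.node (.node (.node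 (.leaf 7272) (.leaf 14458)) (.node (.leaf 17669) (.leaf 0))) (.node (.node (.leaf 1815) (.leaf 0)) (.node (.leaf 10281) (.leaf 0)))) (.node (.node (.node (.leaf 19658) (.leaf 1454)) (.node (.leaf 19072) (.leaf 0))) (.node (.node (.leaf 18084) (.leaf 0)) (.node (.leaf 10497) (.leaf 0)))))))))

/-- part of a table -/
def ordM85 : Trie := (.node (.node (.node (.node (.node (.node (.node (.node (.leaf 1578) (.leaf 3949)) (.node (.leaf 7956) (.leaf 0))) (.node (.node (.leaf 4614) (.leaf 19579)) (.node (.leaf 15562) (.leaf 0)))) (.node (.node (.node (.leaf 7867) (.leaf 17705)) (.node (.leaf 6477) (.leaf 0))) (.node (.node (.leaf 18146) (.leaf 0)) (.node (.leaf 21226) (.leaf 0))))) (.node (.node (.node (.node (.leaf 13263) (.leaf 14261)) (.node (.leaf 9210) (.leaf 0))) (.node (.node (.leaf 3630) (.leaf 0)) (.node (.leaf 17920) (.leaf 0)))) (.node (.node (.node (.leaf 1253) (.leaf 9089)) (.node (.leaf 4589) (.leaf 0))) (.node (.node (.leaf 8633) (.leaf 0)) (.node (.leaf 13946) (.leaf 0)))))) (.node (.node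 (.node (.node (.node (.leaf 6375) (.leaf 12071)) (.node (.leaf 1362) (.leaf 0))) (.node (.node (.leaf 19950) (.leaf 18561)) (.node (.leaf 16975) (.leaf 0)))) (.node (.node (.node (.leaf 19361) (.leaf 21)) (.node (.leaf 20300) (.leaf 0))) (.node (.node (.leaf 18170) (.leaf 0)) (.node (.leaf 18980) (.leaf 0))))) (.node (.node (.node (.node (.leaf 7196) (.leaf 20818)) (.node (.leaf 13289) (.leaf 0))) (.node (.node (.leaf 7653) (.leaf 0)) (.node (.leaf 16410) (.leaf 0)))) (.node (.node (.node (.leaf 20113) (.leaf 9162)) (.node (.leaf 12819) (.leaf 0))) (.node (.node (.leaf 12281) (.leaf 0)) (.node (.leaf 15697) (.leaf 0))))))) (.node (.node (.node (.node (.node (.node (.leaf 20868) (.leaf 12277)) (.node (.leaf 20339) (.leaf 0))) (.node (.node (.leaf 13915) (.leaf 6276)) (.node (.leaf 20983) (.leaf 0)))) (.node (.node (.node (.leaf 6364) (.leaf 8059)) (.node (.leaf 5307) (.leaf 0))) (.node (.node (.leaf 18194) (.leaf 0)) (.node (.leaf 1606) (.leaf 0))))) (.node (.node (.node (.node (.leaf 19093) (.leaf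 9522)) (.node (.leaf 7068) (.leaf 0))) (.node (.node (.leaf 20281) (.leaf 0)) (.node (.leaf 18409) (.leaf 0)))) (.node (.node (.node (.leaf 13076) (.leaf 5463)) (.node (.leaf 18967) (.leaf 0))) (.node (.node (.leaf 3806) (.leaf 0)) (.node (.leaf 3349) (.leaf 0)))))) (.node (.node (.node (.node (.node (.leaf 11587) (.leaf 20900)) (.node (.leaf 4842) (.leaf 0))) (.node (.node (.leaf 15721) (.leaf 17701)) (.node (.leaf 2776) (.leaf 0)))) (.node (.node (.node (.leaf 20335) (.leaf 859)) (.node (.leaf 10465) (.leaf 0))) (.node (.node (.leaf 16482) (.leaf 0)) (.node (.leaf 12883) (.leaf 0))))) (.node (.node (.node (.node (.leaf 6504) (.leaf 6298)) (.node (.leaf 9645) (.leaf 0))) (.node (.node (.leaf 4526) (.leaf 0)) (.node (.leaf 6869) (.leaf 0)))) (.node (.node (.node (.leaf 13116) (.leaf 20833)) (.node (.leaf 5018) (.leaf 0))) (.node (.node (.leaf 419) (.leaf 0)) (.node (.leaf 11148) (.leaf 0)))))))) (.node (.node (.node (.node (.node (.node (.node (.leaf 7034) (.leaf 9715)) (.node (.leaf 20870) (.leaf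 0))) (.node (.node (.leaf 3221) (.leaf 12476)) (.node (.leaf 6469) (.leaf 0)))) (.node (.node (.node (.leaf 15318) (.leaf 3081)) (.node (.leaf 19948) (.leaf 0))) (.node (.node (.leaf 19937) (.leaf 0)) (.node (.leaf 18473) (.leaf 0))))) (.node (.node (.node (.node (.leaf 9658) (.leaf 7699)) (.node (.leaf 19621) (.leaf 0))) (.node (.node (.leaf 10831) (.leaf 0)) (.node (.leaf 14540) (.leaf 0)))) (.node (.node (.node (.leaf 14673) (.leaf 7452)) (.node (.leaf 13193) (.leaf 0))) (.node (.node (.leaf 754) (.leaf 0)) (.node (.leaf 1025) (.leaf 0)))))) (.node (.node (.node (.node (.node (.leaf 5720) (.leaf 613)) (.node (.leaf 18121) (.leaf 0))) (.node (.node (.leaf 3208) (.leaf 584)) (.node (.leaf 19799) (.leaf 0)))) (.node (.node (.node (.leaf 12135) (.leaf 10703)) (.node (.leaf 10819) (.leaf 0))) (.node (.node (.leaf 2971) (.leaf 0)) (.node (.leaf 13843) (.leaf 0))))) (.node (.node (.node (.node (.leaf 17051) (.leaf 8546)) (.node (.leaf 10088) (.leaf 0))) (.node (.node (.leaf 21103) (.leaf 0)) (.node (.leaf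 12785) (.leaf 0)))) (.node (.node (.node (.leaf 18233) (.leaf 18951)) (.node (.leaf 12435) (.leaf 0))) (.node (.node (.leaf 309) (.leaf 0)) (.node (.leaf 7795) (.leaf 0))))))) (.node (.node (.node (.node (.node (.node (.leaf 2096) (.leaf 16413)) (.node (.leaf 5481) (.leaf 0))) (.node (.node (.leaf 15405) (.leaf 7470)) (.node (.leaf 16606) (.leaf 0)))) (.node (.node (.node (.leaf 5236) (.leaf 4128)) (.node (.leaf 2286) (.leaf 0))) (.node (.node (.leaf 5782) (.leaf 0)) (.node (.leaf 15597) (.leaf 0))))) (.node (.node (.node (.node (.leaf 14068) (.leaf 9507)) (.node (.leaf 10265) (.leaf 0))) (.node (.node (.leaf 120) (.leaf 0)) (.node (.leaf 19557) (.leaf 0)))) (.node (.node (.node (.leaf 17162) (.leaf 2364)) (.node (.leaf 17251) (.leaf 0))) (.node (.node (.leaf 14135) (.leaf 0)) (.node (.leaf 11618) (.leaf 0)))))) (.node (.node (.node (.node (.node (.leaf 18987) (.leaf 11785)) (.node (.leaf 20528) (.leaf 0))) (.node (.node (.leaf 1880) (.leaf 14994)) (.node (.leaf 20284) (.leaf 0)))) (.node (.node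 (.node (.leaf 14582) (.leaf 6639)) (.node (.leaf 15725) (.leaf 0))) (.node (.node (.leaf 2660) (.leaf 0)) (.node (.leaf 6369) (.leaf 0))))) (.node (.node (.node (.node (.leaf 2447) (.leaf 15428)) (.node (.leaf 9143) (.leaf 0))) (.node (.node (.leaf 5431) (.leaf 0)) (.node (.leaf 9430) (.leaf 0)))) (.node (.node (.node (.leaf 14319) (.leaf 5800)) (.node (.leaf 21435) (.leaf 0))) (.node (.node (.leaf 19566) (.leaf 0)) (.node (.leaf 9703) (.leaf 0)))))))))

/-- part of a table -/
def ordM86 : Trie := (.node (.node (.node (.node (.node (.node (.node (.node (.leaf 7252) (.leaf 21440)) (.node (.leaf 5879) (.leaf 0))) (.node (.node (.leaf 10294) (.leaf 14017)) (.node (.leaf 10338) (.leaf 0)))) (.node (.node (.node (.leaf 10348) (.leaf 19178)) (.node (.leaf 19158) (.leaf 0))) (.node (.node (.leaf 15811) (.leaf 0)) (.node (.leaf 12954) (.leaf 0))))) (.node (.node (.node (.node (.leaf 13467) (.leaf 10228)) (.node (.leaf 9960) (.leaf 0))) (.node (.node (.leaf 16391) (.leaf 0)) (.node (.leaf 5522) (.leaf 0))))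 (.node (.node (.node (.leaf 8193) (.leaf 21204)) (.node (.leaf 4223) (.leaf 0))) (.node (.node (.leaf 17561) (.leaf 0)) (.node (.leaf 5778) (.leaf 0)))))) (.node (.node (.node (.node (.node (.leaf 11682) (.leaf 19848)) (.node (.leaf 3429) (.leaf 0))) (.node (.node (.leaf 19176) (.leaf 12269)) (.node (.leaf 8583) (.leaf 0)))) (.node (.node (.node (.leaf 14) (.leaf 16394)) (.node (.leaf 19861) (.leaf 0))) (.node (.node (.leaf 3695) (.leaf 0)) (.node (.leaf 19734) (.leaf 0))))) (.node (.node (.node (.node (.leaf 16866) (.leaf 13105)) (.node (.leaf 765) (.leaf 0))) (.node (.node (.leaf 15353) (.leaf 0)) (.node (.leaf 5653) (.leaf 0)))) (.node (.node (.node (.leaf 89) (.leaf 6957)) (.node (.leaf 19317) (.leaf 0))) (.node (.node (.leaf 1206) (.leaf 0)) (.node (.leaf 6247) (.leaf 0))))))) (.node (.node (.node (.node (.node (.node (.leaf 4064) (.leaf 7464)) (.node (.leaf 657) (.leaf 0))) (.node (.node (.leaf 7542) (.leaf 16204)) (.node (.leaf 8954) (.leaf 0)))) (.node (.node (.node (.leaf 18392) (.leaf 8463))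 (.node (.leaf 7383) (.leaf 0))) (.node (.node (.leaf 11880) (.leaf 0)) (.node (.leaf 21356) (.leaf 0))))) (.node (.node (.node (.node (.leaf 3229) (.leaf 17854)) (.node (.leaf 16777) (.leaf 0))) (.node (.node (.leaf 6325) (.leaf 0)) (.node (.leaf 17033) (.leaf 0)))) (.node (.node (.node (.leaf 17287) (.leaf 10485)) (.node (.leaf 13544) (.leaf 0))) (.node (.node (.leaf 18398) (.leaf 0)) (.node (.leaf 11858) (.leaf 0)))))) (.node (.node (.node (.node (.node (.leaf 16653) (.leaf 4712)) (.node (.leaf 14418) (.leaf 0))) (.node (.node (.leaf 17911) (.leaf 8265)) (.node (.leaf 4978) (.leaf 0)))) (.node (.node (.node (.leaf 14655) (.leaf 15501)) (.node (.leaf 13015) (.leaf 0))) (.node (.node (.leaf 10769) (.leaf 0)) (.node (.leaf 8943) (.leaf 0))))) (.node (.node (.node (.node (.leaf 570) (.leaf 14595)) (.node (.leaf 11129) (.leaf 0))) (.node (.node (.leaf 19977) (.leaf 0)) (.node (.leaf 3098) (.leaf 0)))) (.node (.node (.node (.leaf 8143) (.leaf 8716)) (.node (.leaf 9627) (.leaf 0))) (.node (.node (.leaf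 7434) (.leaf 0)) (.node (.leaf 18189) (.leaf 0)))))))) (.node (.node (.node (.node (.node (.node (.node (.leaf 9489) (.leaf 16901)) (.node (.leaf 19533) (.leaf 0))) (.node (.node (.leaf 4191) (.leaf 18286)) (.node (.leaf 12136) (.leaf 0)))) (.node (.node (.node (.leaf 9029) (.leaf 4057)) (.node (.leaf 7866) (.leaf 0))) (.node (.node (.leaf 18712) (.leaf 0)) (.node (.leaf 817) (.leaf 0))))) (.node (.node (.node (.node (.leaf 15107) (.leaf 4325)) (.node (.leaf 10771) (.leaf 0))) (.node (.node (.leaf 16472) (.leaf 0)) (.node (.leaf 12303) (.leaf 0)))) (.node (.node (.node (.leaf 11207) (.leaf 7758)) (.node (.leaf 13276) (.leaf 0))) (.node (.node (.leaf 9969) (.leaf 0)) (.node (.leaf 9932) (.leaf 0)))))) (.node (.node (.node (.node (.node (.leaf 16253) (.leaf 16906)) (.node (.leaf 12286) (.leaf 0))) (.node (.node (.leaf 955) (.leaf 3262)) (.node (.leaf 3135) (.leaf 0)))) (.node (.node (.node (.leaf 13988) (.leaf 13409)) (.node (.leaf 4872) (.leaf 0))) (.node (.node (.leaf 18632) (.leaf 0)) (.node (.leaf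 3494) (.leaf 0))))) (.node (.node (.node (.node (.leaf 8543) (.leaf 3276)) (.node (.leaf 13379) (.leaf 0))) (.node (.node (.leaf 13412) (.leaf 0)) (.node (.leaf 13635) (.leaf 0)))) (.node (.node (.node (.leaf 14594) (.leaf 2884)) (.node (.leaf 7527) (.leaf 0))) (.node (.node (.leaf 1642) (.leaf 0)) (.node (.leaf 7075) (.leaf 0))))))) (.node (.node (.node (.node (.node (.node (.leaf 15238) (.leaf 16516)) (.node (.leaf 9959) (.leaf 0))) (.node (.node (.leaf 4200) (.leaf 11623)) (.node (.leaf 7211) (.leaf 0)))) (.node (.node (.node (.leaf 10369) (.leaf 20203)) (.node (.leaf 17181) (.leaf 0))) (.node (.node (.leaf 17469) (.leaf 0)) (.node (.leaf 17111) (.leaf 0))))) (.node (.node (.node (.node (.leaf 18161) (.leaf 17975)) (.node (.leaf 9672) (.leaf 0))) (.node (.node (.leaf 14456) (.leaf 0)) (.node (.leaf 1258) (.leaf 0)))) (.node (.node (.node (.leaf 2190) (.leaf 5684)) (.node (.leaf 4773) (.leaf 0))) (.node (.node (.leaf 11672) (.leaf 0)) (.node (.leaf 8454) (.leaf 0)))))) (.node (.node (.node (.node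 (.node (.leaf 11633) (.leaf 13725)) (.node (.leaf 2839) (.leaf 0))) (.node (.node (.leaf 14648) (.leaf 6929)) (.node (.leaf 1461) (.leaf 0)))) (.node (.node (.node (.leaf 7592) (.leaf 14032)) (.node (.leaf 16102) (.leaf 0))) (.node (.node (.leaf 8800) (.leaf 0)) (.node (.leaf 11142) (.leaf 0))))) (.node (.node (.node (.node (.leaf 9987) (.leaf 14530)) (.node (.leaf 17319) (.leaf 0))) (.node (.node (.leaf 21347) (.leaf 0)) (.node (.leaf 3332) (.leaf 0)))) (.node (.node (.node (.leaf 18645) (.leaf 5668)) (.node (.leaf 3910) (.leaf 0))) (.node (.node (.leaf 7456) (.leaf 0)) (.node (.leaf 910) (.leaf 0)))))))))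

/-- part of a table -/
def ordM87 : Trie := (.node (.node (.node (.node (.node (.node (.node (.node (.leaf 18667) (.leaf 21471)) (.node (.leaf 14277) (.leaf 0))) (.node (.node (.leaf 14794) (.leaf 12458)) (.node (.leaf 9861) (.leaf 0)))) (.node (.node (.node (.leaf 3883) (.leaf 5936)) (.node (.leaf 18799) (.leaf 0))) (.node (.node (.leaf 11086) (.leaf 0)) (.node (.leaf 15479) (.leaf 0))))) (.node (.node (.node (.node (.leaf 20364) (.leaf 4312)) (.node (.leaf 16502) (.leaf 0))) (.node (.node (.leaf 5475) (.leaf 0)) (.node (.leaf 14662) (.leaf 0)))) (.node (.node (.node (.leaf 5516) (.leaf 20631)) (.node (.leaf 6482) (.leaf 0))) (.node (.node (.leaf 20010) (.leaf 0)) (.node (.leaf 20996) (.leaf 0)))))) (.node (.node (.node (.node (.node (.leaf 14041) (.leaf 18324)) (.node (.leaf 6907) (.leaf 0))) (.node (.node (.leaf 16949) (.leaf 12542)) (.node (.leaf 12906) (.leaf 0)))) (.node (.node (.node (.leaf 251) (.leaf 3938)) (.node (.leaf 14366) (.leaf 0))) (.node (.node (.leaf 8499) (.leaf 0)) (.node (.leaf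 18041) (.leaf 0))))) (.node (.node (.node (.node (.leaf 8324) (.leaf 14833)) (.node (.leaf 8374) (.leaf 0))) (.node (.node (.leaf 4847) (.leaf 0)) (.node (.leaf 1903) (.leaf 0)))) (.node (.node (.node (.leaf 12865) (.leaf 15839)) (.node (.leaf 6372) (.leaf 0))) (.node (.node (.leaf 15063) (.leaf 0)) (.node (.leaf 16014) (.leaf 0))))))) (.node (.node (.node (.node (.node (.node (.leaf 19037) (.leaf 6038)) (.node (.leaf 10110) (.leaf 0))) (.node (.node (.leaf 13462) (.leaf 20070)) (.node (.leaf 18586) (.leaf 0)))) (.node (.node (.node (.leaf 2489) (.leaf 17382)) (.node (.leaf 5843) (.leaf 0))) (.node (.node (.leaf 7317) (.leaf 0)) (.node (.leaf 15246) (.leaf 0))))) (.node (.node (.node (.node (.leaf 6724) (.leaf 6971)) (.node (.leaf 19198) (.leaf 0))) (.node (.node (.leaf 4734) (.leaf 0)) (.node (.leaf 10215) (.leaf 0)))) (.node (.node (.node (.leaf 8657) (.leaf 10405)) (.node (.leaf 5927) (.leaf 0))) (.node (.node (.leaf 18124) (.leaf 0)) (.node (.leaf 18297) (.leaf 0)))))) (.node (.node (.node (.node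 (.node (.leaf 8064) (.leaf 8330)) (.node (.leaf 11402) (.leaf 0))) (.node (.node (.leaf 17191) (.leaf 3129)) (.node (.leaf 2299) (.leaf 0)))) (.node (.node (.node (.leaf 15492) (.leaf 17676)) (.node (.leaf 19787) (.leaf 0))) (.node (.node (.leaf 15983) (.leaf 0)) (.node (.leaf 12438) (.leaf 0))))) (.node (.node (.node (.node (.leaf 5280) (.leaf 4243)) (.node (.leaf 4293) (.leaf 0))) (.node (.node (.leaf 13981) (.leaf 0)) (.node (.leaf 17659) (.leaf 0)))) (.node (.node (.node (.leaf 10629) (.leaf 6112)) (.node (.leaf 3484) (.leaf 0))) (.node (.node (.leaf 10272) (.leaf 0)) (.node (.leaf 2169) (.leaf 0)))))))) (.node (.node (.node (.node (.node (.node (.node (.leaf 13755) (.leaf 6821)) (.node (.leaf 12784) (.leaf 0))) (.node (.node (.leaf 14322) (.leaf 5038)) (.node (.leaf 2822) (.leaf 0)))) (.node (.node (.node (.leaf 15595) (.leaf 6686)) (.node (.leaf 457) (.leaf 0))) (.node (.node (.leaf 2439) (.leaf 0)) (.node (.leaf 4218) (.leaf 0))))) (.node (.node (.node (.node (.leaf 20094) (.leaf 8529)) (.node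 (.leaf 18149) (.leaf 0))) (.node (.node (.leaf 7488) (.leaf 0)) (.node (.leaf 17393) (.leaf 0)))) (.node (.node (.node (.leaf 17047) (.leaf 8360)) (.node (.leaf 9899) (.leaf 0))) (.node (.node (.leaf 8739) (.leaf 0)) (.node (.leaf 12604) (.leaf 0)))))) (.node (.node (.node (.node (.node (.leaf 12436) (.leaf 16282)) (.node (.leaf 19188) (.leaf 0))) (.node (.node (.leaf 10076) (.leaf 2513)) (.node (.leaf 9289) (.leaf 0)))) (.node (.node (.node (.leaf 12475) (.leaf 16201)) (.node (.leaf 9534) (.leaf 0))) (.node (.node (.leaf 17991) (.leaf 0)) (.node (.leaf 2436) (.leaf 0))))) (.node (.node (.node (.node (.leaf 16526) (.leaf 7562)) (.node (.leaf 7161) (.leaf 0))) (.node (.node (.leaf 15938) (.leaf 0)) (.node (.leaf 14105) (.leaf 0)))) (.node (.node (.node (.leaf 11827) (.leaf 8338)) (.node (.leaf 12887) (.leaf 0))) (.node (.node (.leaf 1193) (.leaf 0)) (.node (.leaf 4251) (.leaf 0))))))) (.node (.node (.node (.node (.node (.node (.leaf 21439) (.leaf 7457)) (.node (.leaf 6582) (.leaf 0))) (.node (.node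 (.leaf 10093) (.leaf 8446)) (.node (.leaf 21071) (.leaf 0)))) (.node (.node (.node (.leaf 16757) (.leaf 20845)) (.node (.leaf 7938) (.leaf 0))) (.node (.node (.leaf 8273) (.leaf 0)) (.node (.leaf 10342) (.leaf 0))))) (.node (.node (.node (.node (.leaf 20227) (.leaf 21386)) (.node (.leaf 7797) (.leaf 0))) (.node (.node (.leaf 20566) (.leaf 0)) (.node (.leaf 14781) (.leaf 0)))) (.node (.node (.node (.leaf 615) (.leaf 20030)) (.node (.leaf 20843) (.leaf 0))) (.node (.node (.leaf 16015) (.leaf 0)) (.node (.leaf 20716) (.leaf 0)))))) (.node (.node (.node (.node (.node (.leaf 13844) (.leaf 4701)) (.node (.leaf 137) (.leaf 0))) (.node (.node (.leaf 11778) (.leaf 17566)) (.node (.leaf 62) (.leaf 0)))) (.node (.node (.node (.leaf 3439) (.leaf 10046)) (.node (.leaf 14197) (.leaf 0))) (.node (.node (.leaf 3027) (.leaf 0)) (.node (.leaf 2988) (.leaf 0))))) (.node (.node (.node (.node (.leaf 17348) (.leaf 12688)) (.node (.leaf 21413) (.leaf 0))) (.node (.node (.leaf 15469) (.leaf 0)) (.node (.leaf 1785) (.leaf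 0)))) (.node (.node (.node (.leaf 11973) (.leaf 1924)) (.node (.leaf 20139) (.leaf 0))) (.node (.node (.leaf 8842) (.leaf 0)) (.node (.leaf 12745) (.leaf 0)))))))))

/-- part of a table -/
def ordM88 : Trie := (.node (.node (.node (.node (.node (.node (.node (.node (.leaf 6515) (.leaf 13323)) (.node (.leaf 3073) (.leaf 0))) (.node (.node (.leaf 17727) (.leaf 3028)) (.node (.leaf 3832) (.leaf 0)))) (.node (.node (.node (.leaf 9058) (.leaf 19365)) (.node (.leaf 10986) (.leaf 0))) (.node (.node (.leaf 17708) (.leaf 0)) (.node (.leaf 4652) (.leaf 0))))) (.node (.node (.node (.node (.leaf 7806) (.leaf 257)) (.node (.leaf 21276) (.leaf 0))) (.node (.node (.leaf 19165) (.leaf 0)) (.node (.leaf 15550) (.leaf 0)))) (.node (.node (.node (.leaf 21154) (.leaf 5641)) (.node (.leaf 12244) (.leaf 0))) (.node (.node (.leaf 13533) (.leaf 0)) (.node (.leaf 20914) (.leaf 0)))))) (.node (.node (.node (.node (.node (.leaf 6573) (.leaf 10437)) (.node (.leaf 4767) (.leaf 0))) (.node (.node (.leaf 17159) (.leaf 2924)) (.node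 (.leaf 15112) (.leaf 0)))) (.node (.node (.node (.leaf 16031) (.leaf 15488)) (.node (.leaf 6894) (.leaf 0))) (.node (.node (.leaf 3988) (.leaf 0)) (.node (.leaf 19462) (.leaf 0))))) (.node (.node (.node (.node (.leaf 12576) (.leaf 1396)) (.node (.leaf 5759) (.leaf 0))) (.node (.node (.leaf 4290) (.leaf 0)) (.node (.leaf 11431) (.leaf 0)))) (.node (.node (.node (.leaf 15476) (.leaf 5848)) (.node (.leaf 19172) (.leaf 0))) (.node (.node (.leaf 13912) (.leaf 0)) (.node (.leaf 7238) (.leaf 0))))))) (.node (.node (.node (.node (.node (.node (.leaf 11656) (.leaf 12997)) (.node (.leaf 9622) (.leaf 0))) (.node (.node (.leaf 21382) (.leaf 13817)) (.node (.leaf 8752) (.leaf 0)))) (.node (.node (.node (.leaf 6386) (.leaf 18466)) (.node (.leaf 18854) (.leaf 0))) (.node (.node (.leaf 318) (.leaf 0)) (.node (.leaf 9416) (.leaf 0))))) (.node (.node (.node (.node (.leaf 16602) (.leaf 10614)) (.node (.leaf 8244) (.leaf 0))) (.node (.node (.leaf 10678) (.leaf 0)) (.node (.leaf 8729) (.leaf 0)))) (.node (.node (.node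 (.leaf 8759) (.leaf 14316)) (.node (.leaf 20611) (.leaf 0))) (.node (.node (.leaf 4912) (.leaf 0)) (.node (.leaf 4049) (.leaf 0)))))) (.node (.node (.node (.node (.node (.leaf 7878) (.leaf 8862)) (.node (.leaf 19356) (.leaf 0))) (.node (.node (.leaf 18331) (.leaf 16322)) (.node (.leaf 19832) (.leaf 0)))) (.node (.node (.node (.leaf 4830) (.leaf 19118)) (.node (.leaf 13244) (.leaf 0))) (.node (.node (.leaf 15993) (.leaf 0)) (.node (.leaf 15823) (.leaf 0))))) (.node (.node (.node (.node (.leaf 13305) (.leaf 18619)) (.node (.leaf 18776) (.leaf 0))) (.node (.node (.leaf 10243) (.leaf 0)) (.node (.leaf 8224) (.leaf 0)))) (.node (.node (.node (.leaf 5014) (.leaf 4550)) (.node (.leaf 1240) (.leaf 0))) (.node (.node (.leaf 16351) (.leaf 0)) (.node (.leaf 14789) (.leaf 0)))))))) (.node (.node (.node (.node (.node (.node (.node (.leaf 6433) (.leaf 6753)) (.node (.leaf 19536) (.leaf 0))) (.node (.node (.leaf 18900) (.leaf 18622)) (.node (.leaf 1613) (.leaf 0)))) (.node (.node (.node (.leaf 2605) (.leaf 16318))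 (.node (.leaf 13505) (.leaf 0))) (.node (.node (.leaf 1781) (.leaf 0)) (.node (.leaf 20272) (.leaf 0))))) (.node (.node (.node (.node (.leaf 513) (.leaf 6880)) (.node (.leaf 5070) (.leaf 0))) (.node (.node (.leaf 20202) (.leaf 0)) (.node (.leaf 5949) (.leaf 0)))) (.node (.node (.node (.leaf 18579) (.leaf 21288)) (.node (.leaf 4164) (.leaf 0))) (.node (.node (.leaf 11516) (.leaf 0)) (.node (.leaf 11685) (.leaf 0)))))) (.node (.node (.node (.node (.node (.leaf 375) (.leaf 19562)) (.node (.leaf 16116) (.leaf 0))) (.node (.node (.leaf 17437) (.leaf 6777)) (.node (.leaf 12224) (.leaf 0)))) (.node (.node (.node (.leaf 18459) (.leaf 1116)) (.node (.leaf 6147) (.leaf 0))) (.node (.node (.leaf 5578) (.leaf 0)) (.node (.leaf 6543) (.leaf 0))))) (.node (.node (.node (.node (.leaf 9445) (.leaf 20980)) (.node (.leaf 16297) (.leaf 0))) (.node (.node (.leaf 18594) (.leaf 0)) (.node (.leaf 14230) (.leaf 0)))) (.node (.node (.node (.leaf 4427) (.leaf 11259)) (.node (.leaf 6540) (.leaf 0))) (.node (.node (.leaf 15582)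 (.leaf 0)) (.node (.leaf 20382) (.leaf 0))))))) (.node (.node (.node (.node (.node (.node (.leaf 2562) (.leaf 13830)) (.node (.leaf 13408) (.leaf 0))) (.node (.node (.leaf 17719) (.leaf 11065)) (.node (.leaf 94) (.leaf 0)))) (.node (.node (.node (.leaf 14733) (.leaf 2539)) (.node (.leaf 16381) (.leaf 0))) (.node (.node (.leaf 6595) (.leaf 0)) (.node (.leaf 3312) (.leaf 0))))) (.node (.node (.node (.node (.leaf 2876) (.leaf 10117)) (.node (.leaf 14071) (.leaf 0))) (.node (.node (.leaf 19712) (.leaf 0)) (.node (.leaf 3681) (.leaf 0)))) (.node (.node (.node (.leaf 15936) (.leaf 9071)) (.node (.leaf 4859) (.leaf 0))) (.node (.node (.leaf 9106) (.leaf 0)) (.node (.leaf 2575) (.leaf 0)))))) (.node (.node (.node (.node (.node (.leaf 1236) (.leaf 11422)) (.node (.leaf 14013) (.leaf 0))) (.node (.node (.leaf 15412) (.leaf 2558)) (.node (.leaf 5106) (.leaf 0)))) (.node (.node (.node (.leaf 10595) (.leaf 20413)) (.node (.leaf 16635) (.leaf 0))) (.node (.node (.leaf 15281) (.leaf 0)) (.node (.leaf 2768) (.leaf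 0))))) (.node (.node (.node (.node (.leaf 1568) (.leaf 19502)) (.node (.leaf 4183) (.leaf 0))) (.node (.node (.leaf 3571) (.leaf 0)) (.node (.leaf 5250) (.leaf 0)))) (.node (.node (.node (.leaf 20899) (.leaf 21058)) (.node (.leaf 11391) (.leaf 0))) (.node (.node (.leaf 17754) (.leaf 0)) (.node (.leaf 8853) (.leaf 0)))))))))

/-- part of a table -/
def ordM89 : Trie := (.node (.node (.node (.node (.node (.node (.node (.node (.leaf 4379) (.leaf 6162)) (.node (.leaf 6365) (.leaf 0))) (.node (.node (.leaf 5967) (.leaf 8801)) (.node (.leaf 10536) (.leaf 0)))) (.node (.node (.node (.leaf 736) (.leaf 17578)) (.node (.leaf 5188) (.leaf 0))) (.node (.node (.leaf 19251) (.leaf 0)) (.node (.leaf 4452) (.leaf 0))))) (.node (.node (.node (.node (.leaf 40) (.leaf 7643)) (.node (.leaf 13674) (.leaf 0))) (.node (.node (.leaf 16047) (.leaf 0)) (.node (.leaf 12045) (.leaf 0)))) (.node (.node (.node (.leaf 15645) (.leaf 1163)) (.node (.leaf 1427) (.leaf 0))) (.node (.node (.leaf 986) (.leaf 0)) (.node (.leaf 21470)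 (.leaf 0)))))) (.node (.node (.node (.node (.node (.leaf 19667) (.leaf 19180)) (.node (.leaf 15621) (.leaf 0))) (.node (.node (.leaf 15381) (.leaf 11580)) (.node (.leaf 18348) (.leaf 0)))) (.node (.node (.node (.leaf 20988) (.leaf 21162)) (.node (.leaf 8175) (.leaf 0))) (.node (.node (.leaf 8010) (.leaf 0)) (.node (.leaf 4093) (.leaf 0))))) (.node (.node (.node (.node (.leaf 1691) (.leaf 12858)) (.node (.leaf 1830) (.leaf 0))) (.node (.node (.leaf 4747) (.leaf 0)) (.node (.leaf 8975) (.leaf 0)))) (.node (.node (.node (.leaf 6809) (.leaf 10466)) (.node (.leaf 6547) (.leaf 0))) (.node (.node (.leaf 5805) (.leaf 0)) (.node (.leaf 15889) (.leaf 0))))))) (.node (.node (.node (.node (.node (.node (.leaf 14381) (.leaf 19411)) (.node (.leaf 10847) (.leaf 0))) (.node (.node (.leaf 14557) (.leaf 1662)) (.node (.leaf 15569) (.leaf 0)))) (.node (.node (.node (.leaf 7955) (.leaf 19054)) (.node (.leaf 9929) (.leaf 0))) (.node (.node (.leaf 4778) (.leaf 0)) (.node (.leaf 3394) (.leaf 0))))) (.node (.node (.node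 (.node (.leaf 14162) (.leaf 16655)) (.node (.leaf 9073) (.leaf 0))) (.node (.node (.leaf 13185) (.leaf 0)) (.node (.leaf 17387) (.leaf 0)))) (.node (.node (.node (.leaf 2374) (.leaf 4267)) (.node (.leaf 20849) (.leaf 0))) (.node (.node (.leaf 13400) (.leaf 0)) (.node (.leaf 8262) (.leaf 0)))))) (.node (.node (.node (.node (.node (.leaf 4915) (.leaf 11561)) (.node (.leaf 18065) (.leaf 0))) (.node (.node (.leaf 17115) (.leaf 16959)) (.node (.leaf 11551) (.leaf 0)))) (.node (.node (.node (.leaf 10602) (.leaf 11602)) (.node (.leaf 19207) (.leaf 0))) (.node (.node (.leaf 7157) (.leaf 0)) (.node (.leaf 14063) (.leaf 0))))) (.node (.node (.node (.node (.leaf 9739) (.leaf 4158)) (.node (.leaf 18939) (.leaf 0))) (.node (.node (.leaf 13852) (.leaf 0)) (.node (.leaf 16639) (.leaf 0)))) (.node (.node (.node (.leaf 5584) (.leaf 2209)) (.node (.leaf 2860) (.leaf 0))) (.node (.node (.leaf 1836) (.leaf 0)) (.node (.leaf 6436) (.leaf 0)))))))) (.node (.node (.node (.node (.node (.node (.node (.leaf 10147) (.leaf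 13705)) (.node (.leaf 7794) (.leaf 0))) (.node (.node (.leaf 11779) (.leaf 2400)) (.node (.leaf 5198) (.leaf 0)))) (.node (.node (.node (.leaf 8212) (.leaf 9750)) (.node (.leaf 15531) (.leaf 0))) (.node (.node (.leaf 2136) (.leaf 0)) (.node (.leaf 3236) (.leaf 0))))) (.node (.node (.node (.node (.leaf 6241) (.leaf 2934)) (.node (.leaf 10863) (.leaf 0))) (.node (.node (.leaf 20844) (.leaf 0)) (.node (.leaf 15643) (.leaf 0)))) (.node (.node (.node (.leaf 7337) (.leaf 16553)) (.node (.leaf 3622) (.leaf 0))) (.node (.node (.leaf 16625) (.leaf 0)) (.node (.leaf 14509) (.leaf 0)))))) (.node (.node (.node (.node (.node (.leaf 6340) (.leaf 11723)) (.node (.leaf 20584) (.leaf 0))) (.node (.node (.leaf 21337) (.leaf 2240)) (.node (.leaf 853) (.leaf 0)))) (.node (.node (.node (.leaf 15164) (.leaf 12354)) (.node (.leaf 2085) (.leaf 0))) (.node (.node (.leaf 17696) (.leaf 0)) (.node (.leaf 15103) (.leaf 0))))) (.node (.node (.node (.node (.leaf 6838) (.leaf 21325)) (.node (.leaf 21193) (.leaf 0))) (.node (.node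 (.leaf 10446) (.leaf 0)) (.node (.leaf 15932) (.leaf 0)))) (.node (.node (.node (.leaf 8715) (.leaf 5909)) (.node (.leaf 7333) (.leaf 0))) (.node (.node (.leaf 12039) (.leaf 0)) (.node (.leaf 21303) (.leaf 0))))))) (.node (.node (.node (.node (.node (.node (.leaf 6212) (.leaf 9459)) (.node (.leaf 10290) (.leaf 0))) (.node (.node (.leaf 13951) (.leaf 16895)) (.node (.leaf 2126) (.leaf 0)))) (.node (.node (.node (.leaf 5382) (.leaf 7062)) (.node (.leaf 20496) (.leaf 0))) (.node (.node (.leaf 13907) (.leaf 0)) (.node (.leaf 2512) (.leaf 0))))) (.node (.node (.node (.node (.leaf 8694) (.leaf 9385)) (.node (.leaf 7921) (.leaf 0))) (.node (.node (.leaf 11617) (.leaf 0)) (.node (.leaf 10662) (.leaf 0)))) (.node (.node (.node (.leaf 19806) (.leaf 9718)) (.node (.leaf 2205) (.leaf 0))) (.node (.node (.leaf 3267) (.leaf 0)) (.node (.leaf 121) (.leaf 0)))))) (.node (.node (.node (.node (.node (.leaf 15425) (.leaf 19752)) (.node (.leaf 15278) (.leaf 0))) (.node (.node (.leaf 19555) (.leaf 6208)) (.node (.leaf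 18110) (.leaf 0)))) (.node (.node (.node (.leaf 3968) (.leaf 14310)) (.node (.leaf 8504) (.leaf 0))) (.node (.node (.leaf 7041) (.leaf 0)) (.node (.leaf 825) (.leaf 0))))) (.node (.node (.node (.node (.leaf 3953) (.leaf 17978)) (.node (.leaf 7676) (.leaf 0))) (.node (.node (.leaf 502) (.leaf 0)) (.node (.leaf 6188) (.leaf 0)))) (.node (.node (.node (.leaf 14349) (.leaf 4868)) (.node (.leaf 14531) (.leaf 0))) (.node (.node (.leaf 13051) (.leaf 0)) (.node (.leaf 1573) (.leaf 0)))))))))

/-- part of a table -/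
def ordM90 : Trie := (.node (.node (.node (.node (.node (.node (.node (.node (.leaf 18212) (.leaf 5618)) (.node (.leaf 3890) (.leaf 0))) (.node (.node (.leaf 484) (.leaf 4035)) (.node (.leaf 15907) (.leaf 0)))) (.node (.node (.node (.leaf 17364) (.leaf 18860)) (.node (.leaf 12267) (.leaf 0))) (.node (.node (.leaf 3907) (.leaf 0)) (.node (.leaf 18717) (.leaf 0))))) (.node (.node (.node (.node (.leaf 6144) (.leaf 12337)) (.node (.leaf 6228) (.leaf 0))) (.node (.node (.leaf 3684) (.leaf 0)) (.node (.leaf 4179) (.leaf 0)))) (.node (.node (.node (.leaf 11795) (.leaf 12184)) (.node (.leaf 2008) (.leaf 0))) (.node (.node (.leaf 11255) (.leaf 0)) (.node (.leaf 18) (.leaf 0)))))) (.node (.node (.node (.node (.node (.leaf 10951) (.leaf 5750)) (.node (.leaf 15607) (.leaf 0))) (.node (.node (.leaf 6297) (.leaf 14405)) (.node (.leaf 10396) (.leaf 0)))) (.node (.node (.node (.leaf 20077) (.leaf 19914)) (.node (.leaf 18648) (.leaf 0))) (.node (.node (.leaf 18000) (.leaf 0)) (.node (.leaf 11394) (.leaf 0))))) (.node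 (.node (.node (.node (.leaf 3784) (.leaf 1712)) (.node (.leaf 14954) (.leaf 0))) (.node (.node (.leaf 14144) (.leaf 0)) (.node (.leaf 4623) (.leaf 0)))) (.node (.node (.node (.leaf 6487) (.leaf 5721)) (.node (.leaf 11574) (.leaf 0))) (.node (.node (.leaf 18343) (.leaf 0)) (.node (.leaf 14326) (.leaf 0))))))) (.node (.node (.node (.node (.node (.node (.leaf 13010) (.leaf 1074)) (.node (.leaf 5827) (.leaf 0))) (.node (.node (.leaf 10423) (.leaf 10963)) (.node (.leaf 9517) (.leaf 0)))) (.node (.node (.node (.leaf 2980) (.leaf 2415)) (.node (.leaf 19132) (.leaf 0))) (.node (.node (.leaf 5757) (.leaf 0)) (.node (.leaf 17262) (.leaf 0))))) (.node (.node (.node (.node (.leaf 6116) (.leaf 10553)) (.node (.leaf 13333) (.leaf 0))) (.node (.node (.leaf 4400) (.leaf 0)) (.node (.leaf 5052) (.leaf 0)))) (.node (.node (.node (.leaf 11021) (.leaf 16744)) (.node (.leaf 1710) (.leaf 0))) (.node (.node (.leaf 8934) (.leaf 0)) (.node (.leaf 4832) (.leaf 0)))))) (.node (.node (.node (.node (.node (.leaf 16183) (.leaf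 8940)) (.node (.leaf 710) (.leaf 0))) (.node (.node (.leaf 53) (.leaf 3353)) (.node (.leaf 1886) (.leaf 0)))) (.node (.node (.node (.leaf 14980) (.leaf 5211)) (.node (.leaf 12466) (.leaf 0))) (.node (.node (.leaf 6310) (.leaf 0)) (.node (.leaf 9081) (.leaf 0))))) (.node (.node (.node (.node (.leaf 3181) (.leaf 13531)) (.node (.leaf 20142) (.leaf 0))) (.node (.node (.leaf 1556) (.leaf 0)) (.node (.leaf 4160) (.leaf 0)))) (.node (.node (.node (.leaf 3637) (.leaf 14434)) (.node (.leaf 3516) (.leaf 0))) (.node (.node (.leaf 2035) (.leaf 0)) (.node (.leaf 10790) (.leaf 0)))))))) (.node (.node (.node (.node (.node (.node (.node (.leaf 9542) (.leaf 5744)) (.node (.leaf 3343) (.leaf 0))) (.node (.node (.leaf 7566) (.leaf 16275)) (.node (.leaf 15250) (.leaf 0)))) (.node (.node (.node (.leaf 158) (.leaf 8215)) (.node (.leaf 7233) (.leaf 0))) (.node (.node (.leaf 12553) (.leaf 0)) (.node (.leaf 11801) (.leaf 0))))) (.node (.node (.node (.node (.leaf 18016) (.leaf 4278)) (.node (.leaf 5508) (.leaf 0))) (.node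 (.node (.leaf 19398) (.leaf 0)) (.node (.leaf 18293) (.leaf 0)))) (.node (.node (.node (.leaf 3970) (.leaf 3707)) (.node (.leaf 16445) (.leaf 0))) (.node (.node (.leaf 14489) (.leaf 0)) (.node (.leaf 5816) (.leaf 0)))))) (.node (.node (.node (.node (.node (.leaf 6541) (.leaf 13850)) (.node (.leaf 4675) (.leaf 0))) (.node (.node (.leaf 12529) (.leaf 20750)) (.node (.leaf 16918) (.leaf 0)))) (.node (.node (.node (.leaf 19471) (.leaf 13576)) (.node (.leaf 20950) (.leaf 0))) (.node (.node (.leaf 7811) (.leaf 0)) (.node (.leaf 1235) (.leaf 0))))) (.node (.node (.node (.node (.leaf 16331) (.leaf 1520)) (.node (.leaf 2275) (.leaf 0))) (.node (.node (.leaf 20184) (.leaf 0)) (.node (.leaf 6473) (.leaf 0)))) (.node (.node (.node (.leaf 20577) (.leaf 16284)) (.node (.leaf 374) (.leaf 0))) (.node (.node (.leaf 10991) (.leaf 0)) (.node (.leaf 18483) (.leaf 0))))))) (.node (.node (.node (.node (.node (.node (.leaf 20021) (.leaf 13855)) (.node (.leaf 13210) (.leaf 0))) (.node (.node (.leaf 7472) (.leaf 14186))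 (.node (.leaf 20311) (.leaf 0)))) (.node (.node (.node (.leaf 13708) (.leaf 9921)) (.node (.leaf 18759) (.leaf 0))) (.node (.node (.leaf 2123) (.leaf 0)) (.node (.leaf 9856) (.leaf 0))))) (.node (.node (.node (.node (.leaf 8726) (.leaf 8109)) (.node (.leaf 7971) (.leaf 0))) (.node (.node (.leaf 6938) (.leaf 0)) (.node (.leaf 8809) (.leaf 0)))) (.node (.node (.node (.leaf 17610) (.leaf 8239)) (.node (.leaf 3723) (.leaf 0))) (.node (.node (.leaf 3603) (.leaf 0)) (.node (.leaf 18880) (.leaf 0)))))) (.node (.node (.node (.node (.node (.leaf 12403) (.leaf 10795)) (.node (.leaf 9516) (.leaf 0))) (.node (.node (.leaf 18495) (.leaf 10005)) (.node (.leaf 16547) (.leaf 0)))) (.node (.node (.node (.leaf 11420) (.leaf 20298)) (.node (.leaf 4657) (.leaf 0))) (.node (.node (.leaf 18106) (.leaf 0)) (.node (.leaf 20623) (.leaf 0))))) (.node (.node (.node (.node (.leaf 12912) (.leaf 3981)) (.node (.leaf 15731) (.leaf 0))) (.node (.node (.leaf 14680) (.leaf 0)) (.node (.leaf 7610) (.leaf 0)))) (.node (.node (.node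 (.leaf 7481) (.leaf 21132)) (.node (.leaf 17072) (.leaf 0))) (.node (.node (.leaf 20804) (.leaf 0)) (.node (.leaf 18166) (.leaf 0)))))))))

/-- part of a table -/
def ordM91 : Trie := (.node (.node (.node (.node (.node (.node (.node (.node (.leaf 15378) (.leaf 9076)) (.node (.leaf 8081) (.leaf 0))) (.node (.node (.leaf 7576) (.leaf 12766)) (.node (.leaf 10692) (.leaf 0)))) (.node (.node (.node (.leaf 17704) (.leaf 15809)) (.node (.leaf 6105) (.leaf 0))) (.node (.node (.leaf 7422) (.leaf 0)) (.node (.leaf 16442) (.leaf 0))))) (.node (.node (.node (.node (.leaf 19829) (.leaf 3480)) (.node (.leaf 364) (.leaf 0))) (.node (.node (.leaf 19289) (.leaf 0)) (.node (.leaf 8606) (.leaf 0)))) (.node (.node (.node (.leaf 18902) (.leaf 4025)) (.node (.leaf 6185) (.leaf 0))) (.node (.node (.leaf 3647) (.leaf 0)) (.node (.leaf 463) (.leaf 0)))))) (.node (.node (.node (.node (.node (.leaf 21261) (.leaf 9304)) (.node (.leaf 13047) (.leaf 0))) (.node (.node (.leaf 15745) (.leaf 5505)) (.node (.leaf 2620) (.leaf 0))))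 (.node (.node (.node (.leaf 17662) (.leaf 20989)) (.node (.leaf 11772) (.leaf 0))) (.node (.node (.leaf 12300) (.leaf 0)) (.node (.leaf 14534) (.leaf 0))))) (.node (.node (.node (.node (.leaf 7703) (.leaf 4985)) (.node (.leaf 20235) (.leaf 0))) (.node (.node (.leaf 4366) (.leaf 0)) (.node (.leaf 12197) (.leaf 0)))) (.node (.node (.node (.leaf 19328) (.leaf 12100)) (.node (.leaf 830) (.leaf 0))) (.node (.node (.leaf 16355) (.leaf 0)) (.node (.leaf 5441) (.leaf 0))))))) (.node (.node (.node (.node (.node (.node (.leaf 19627) (.leaf 5173)) (.node (.leaf 13619) (.leaf 0))) (.node (.node (.leaf 19028) (.leaf 13480)) (.node (.leaf 11599) (.leaf 0)))) (.node (.node (.node (.leaf 14888) (.leaf 3032)) (.node (.leaf 19543) (.leaf 0))) (.node (.node (.leaf 13957) (.leaf 0)) (.node (.leaf 19283) (.leaf 0))))) (.node (.node (.node (.node (.leaf 1920) (.leaf 11755)) (.node (.leaf 6328) (.leaf 0))) (.node (.node (.leaf 5702) (.leaf 0)) (.node (.leaf 409) (.leaf 0)))) (.node (.node (.node (.leaf 8910) (.leaf 19256))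 (.node (.leaf 12079) (.leaf 0))) (.node (.node (.leaf 3293) (.leaf 0)) (.node (.leaf 12311) (.leaf 0)))))) (.node (.node (.node (.node (.node (.leaf 21469) (.leaf 3486)) (.node (.leaf 5957) (.leaf 0))) (.node (.node (.leaf 1091) (.leaf 7970)) (.node (.leaf 18252) (.leaf 0)))) (.node (.node (.node (.leaf 18064) (.leaf 8276)) (.node (.leaf 3233) (.leaf 0))) (.node (.node (.leaf 336) (.leaf 0)) (.node (.leaf 16060) (.leaf 0))))) (.node (.node (.node (.node (.leaf 9480) (.leaf 15615)) (.node (.leaf 3916) (.leaf 0))) (.node (.node (.leaf 659) (.leaf 0)) (.node (.leaf 9758) (.leaf 0)))) (.node (.node (.node (.leaf 10325) (.leaf 10112)) (.node (.leaf 17240) (.leaf 0))) (.node (.node (.leaf 17060) (.leaf 0)) (.node (.leaf 11321) (.leaf 0)))))))) (.node (.node (.node (.node (.node (.node (.node (.leaf 7168) (.leaf 21240)) (.node (.leaf 11985) (.leaf 0))) (.node (.node (.leaf 10191) (.leaf 10365)) (.node (.leaf 14392) (.leaf 0)))) (.node (.node (.node (.leaf 3080) (.leaf 15319)) (.node (.leaf 16205) (.leaf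 0))) (.node (.node (.leaf 9684) (.leaf 0)) (.node (.leaf 19205) (.leaf 0))))) (.node (.node (.node (.node (.leaf 1800) (.leaf 6280)) (.node (.leaf 14406) (.leaf 0))) (.node (.node (.leaf 16725) (.leaf 0)) (.node (.leaf 6385) (.leaf 0)))) (.node (.node (.node (.leaf 8476) (.leaf 8588)) (.node (.leaf 14875) (.leaf 0))) (.node (.node (.leaf 1330) (.leaf 0)) (.node (.leaf 2047) (.leaf 0)))))) (.node (.node (.node (.node (.node (.leaf 20485) (.leaf 18004)) (.node (.leaf 1839) (.leaf 0))) (.node (.node (.leaf 14342) (.leaf 20808)) (.node (.leaf 18219) (.leaf 0)))) (.node (.node (.node (.leaf 9835) (.leaf 1004)) (.node (.leaf 11453) (.leaf 0))) (.node (.node (.leaf 3109) (.leaf 0)) (.node (.leaf 15424) (.leaf 0))))) (.node (.node (.node (.node (.leaf 7346) (.leaf 5362)) (.node (.leaf 18921) (.leaf 0))) (.node (.node (.leaf 17458) (.leaf 0)) (.node (.leaf 1443) (.leaf 0)))) (.node (.node (.node (.leaf 12756) (.leaf 7048)) (.node (.leaf 6339) (.leaf 0))) (.node (.node (.leaf 15504) (.leaf 0)) (.node (.leaf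 13774) (.leaf 0))))))) (.node (.node (.node (.node (.node (.node (.leaf 16263) (.leaf 14953)) (.node (.leaf 16494) (.leaf 0))) (.node (.node (.leaf 15874) (.leaf 1198)) (.node (.leaf 12317) (.leaf 0)))) (.node (.node (.node (.leaf 8293) (.leaf 17488)) (.node (.leaf 19127) (.leaf 0))) (.node (.node (.leaf 18957) (.leaf 0)) (.node (.leaf 6689) (.leaf 0))))) (.node (.node (.node (.node (.leaf 19514) (.leaf 16147)) (.node (.leaf 18748) (.leaf 0))) (.node (.node (.leaf 14909) (.leaf 0)) (.node (.leaf 18505) (.leaf 0)))) (.node (.node (.node (.leaf 19174) (.leaf 17358)) (.node (.leaf 1721) (.leaf 0))) (.node (.node (.leaf 12413) (.leaf 0)) (.node (.leaf 20516) (.leaf 0)))))) (.node (.node (.node (.node (.node (.leaf 6774) (.leaf 15969)) (.node (.leaf 11788) (.leaf 0))) (.node (.node (.leaf 19750) (.leaf 18817)) (.node (.leaf 7397) (.leaf 0)))) (.node (.node (.node (.leaf 5077) (.leaf 21429)) (.node (.leaf 4456) (.leaf 0))) (.node (.node (.leaf 21090) (.leaf 0)) (.node (.leaf 3522) (.leaf 0))))) (.node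 (.node (.node (.node (.leaf 9779) (.leaf 8001)) (.node (.leaf 4666) (.leaf 0))) (.node (.node (.leaf 11930) (.leaf 0)) (.node (.leaf 12473) (.leaf 0)))) (.node (.node (.node (.leaf 4711) (.leaf 21418)) (.node (.leaf 6267) (.leaf 0))) (.node (.node (.leaf 7390) (.leaf 0)) (.node (.leaf 10124) (.leaf 0)))))))))

/-- part of a table -/
def ordM92 : Trie := (.node (.node (.node (.node (.node (.node (.node (.node (.leaf 5364) (.leaf 12409)) (.node (.leaf 17396) (.leaf 0))) (.node (.node (.leaf 5460) (.leaf 3185)) (.node (.leaf 13450) (.leaf 0)))) (.node (.node (.node (.leaf 12966) (.leaf 837)) (.node (.leaf 2503) (.leaf 0))) (.node (.node (.leaf 17404) (.leaf 0)) (.node (.leaf 3742) (.leaf 0))))) (.node (.node (.node (.node (.leaf 16230) (.leaf 720)) (.node (.leaf 4416) (.leaf 0))) (.node (.node (.leaf 5457) (.leaf 0)) (.node (.leaf 3256) (.leaf 0)))) (.node (.node (.node (.leaf 7802) (.leaf 18050)) (.node (.leaf 20886) (.leaf 0))) (.node (.node (.leaf 11648) (.leaf 0)) (.node (.leaf 2219) (.leaf 0))))))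 (.node (.node (.node (.node (.node (.leaf 16794) (.leaf 10356)) (.node (.leaf 13570) (.leaf 0))) (.node (.node (.leaf 16004) (.leaf 16108)) (.node (.leaf 6137) (.leaf 0)))) (.node (.node (.node (.leaf 14039) (.leaf 17451)) (.node (.leaf 21477) (.leaf 0))) (.node (.node (.leaf 18771) (.leaf 0)) (.node (.leaf 3287) (.leaf 0))))) (.node (.node (.node (.node (.leaf 13769) (.leaf 6022)) (.node (.leaf 16790) (.leaf 0))) (.node (.node (.leaf 5176) (.leaf 0)) (.node (.leaf 20095) (.leaf 0)))) (.node (.node (.node (.leaf 14621) (.leaf 4573)) (.node (.leaf 10635) (.leaf 0))) (.node (.node (.leaf 14796) (.leaf 0)) (.node (.leaf 21277) (.leaf 0))))))) (.node (.node (.node (.node (.node (.node (.leaf 10311) (.leaf 623)) (.node (.leaf 772) (.leaf 0))) (.node (.node (.leaf 1589) (.leaf 5299)) (.node (.leaf 16971) (.leaf 0)))) (.node (.node (.node (.leaf 8994) (.leaf 7220)) (.node (.leaf 19433) (.leaf 0))) (.node (.node (.leaf 1313) (.leaf 0)) (.node (.leaf 11100) (.leaf 0))))) (.node (.node (.node (.node (.leaf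 14837) (.leaf 17201)) (.node (.leaf 2534) (.leaf 0))) (.node (.node (.leaf 11158) (.leaf 0)) (.node (.leaf 10187) (.leaf 0)))) (.node (.node (.node (.leaf 21033) (.leaf 7928)) (.node (.leaf 19075) (.leaf 0))) (.node (.node (.leaf 1608) (.leaf 0)) (.node (.leaf 21476) (.leaf 0)))))) (.node (.node (.node (.node (.node (.leaf 7898) (.leaf 18453)) (.node (.leaf 11001) (.leaf 0))) (.node (.node (.leaf 14832) (.leaf 3092)) (.node (.leaf 5739) (.leaf 0)))) (.node (.node (.node (.leaf 2171) (.leaf 370)) (.node (.leaf 9328) (.leaf 0))) (.node (.node (.leaf 4582) (.leaf 0)) (.node (.leaf 19897) (.leaf 0))))) (.node (.node (.node (.node (.leaf 16484) (.leaf 16854)) (.node (.leaf 802) (.leaf 0))) (.node (.node (.leaf 13238) (.leaf 0)) (.node (.leaf 4297) (.leaf 0)))) (.node (.node (.node (.leaf 20915) (.leaf 19900)) (.node (.leaf 16520) (.leaf 0))) (.node (.node (.leaf 21485) (.leaf 0)) (.node (.leaf 20878) (.leaf 0)))))))) (.node (.node (.node (.node (.node (.node (.node (.leaf 18958) (.leaf 4746)) (.node (.leaf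 19925) (.leaf 0))) (.node (.node (.leaf 17476) (.leaf 7022)) (.node (.leaf 12630) (.leaf 0)))) (.node (.node (.node (.leaf 11061) (.leaf 16265)) (.node (.leaf 19067) (.leaf 0))) (.node (.node (.leaf 10713) (.leaf 0)) (.node (.leaf 9240) (.leaf 0))))) (.node (.node (.node (.node (.leaf 1902) (.leaf 3124)) (.node (.leaf 15496) (.leaf 0))) (.node (.node (.leaf 17327) (.leaf 0)) (.node (.leaf 19368) (.leaf 0)))) (.node (.node (.node (.leaf 6531) (.leaf 5956)) (.node (.leaf 9906) (.leaf 0))) (.node (.node (.leaf 9934) (.leaf 0)) (.node (.leaf 13620) (.leaf 0)))))) (.node (.node (.node (.node (.node (.leaf 20545) (.leaf 8614)) (.node (.leaf 16481) (.leaf 0))) (.node (.node (.leaf 1363) (.leaf 8074)) (.node (.leaf 21307) (.leaf 0)))) (.node (.node (.node (.leaf 13428) (.leaf 16175)) (.node (.leaf 12986) (.leaf 0))) (.node (.node (.leaf 12331) (.leaf 0)) (.node (.leaf 5401) (.leaf 0))))) (.node (.node (.node (.node (.leaf 20772) (.leaf 16042)) (.node (.leaf 3467) (.leaf 0))) (.node (.node (.leaf 221) (.leaf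 0)) (.node (.leaf 8718) (.leaf 0)))) (.node (.node (.node (.leaf 4860) (.leaf 20702)) (.node (.leaf 3447) (.leaf 0))) (.node (.node (.leaf 20288) (.leaf 0)) (.node (.leaf 7773) (.leaf 0))))))) (.node (.node (.node (.node (.node (.node (.leaf 4876) (.leaf 9056)) (.node (.leaf 2888) (.leaf 0))) (.node (.node (.leaf 11066) (.leaf 15596)) (.node (.leaf 15589) (.leaf 0)))) (.node (.node (.node (.leaf 3596) (.leaf 574)) (.node (.leaf 10120) (.leaf 0))) (.node (.node (.leaf 13581) (.leaf 0)) (.node (.leaf 18105) (.leaf 0))))) (.node (.node (.node (.node (.leaf 9558) (.leaf 19623)) (.node (.leaf 5342) (.leaf 0))) (.node (.node (.leaf 15624) (.leaf 0)) (.node (.leaf 9425) (.leaf 0)))) (.node (.node (.node (.leaf 1966) (.leaf 17483)) (.node (.leaf 4426) (.leaf 0))) (.node (.node (.leaf 16883) (.leaf 0)) (.node (.leaf 8756) (.leaf 0)))))) (.node (.node (.node (.node (.node (.leaf 7118) (.leaf 12562)) (.node (.leaf 13837) (.leaf 0))) (.node (.node (.leaf 14686) (.leaf 11951)) (.node (.leaf 13618) (.leaf 0))))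 (.node (.node (.node (.leaf 21371) (.leaf 11582)) (.node (.leaf 1334) (.leaf 0))) (.node (.node (.leaf 20313) (.leaf 0)) (.node (.leaf 20986) (.leaf 0))))) (.node (.node (.node (.node (.leaf 20739) (.leaf 12321)) (.node (.leaf 9477) (.leaf 0))) (.node (.node (.leaf 11171) (.leaf 0)) (.node (.leaf 14768) (.leaf 0)))) (.node (.node (.node (.leaf 4531) (.leaf 12937)) (.node (.leaf 19673) (.leaf 0))) (.node (.node (.leaf 11893) (.leaf 0)) (.node (.leaf 20657) (.leaf 0)))))))))

/-- part of a table -/
def ordM93 : Trie := (.node (.node (.node (.node (.node (.node (.node (.node (.leaf 7993) (.leaf 12239)) (.node (.leaf 2713) (.leaf 0))) (.node (.node (.leaf 21068) (.leaf 1086)) (.node (.leaf 19859) (.leaf 0)))) (.node (.node (.node (.leaf 2312) (.leaf 3548)) (.node (.leaf 14180) (.leaf 0))) (.node (.node (.leaf 8688) (.leaf 0)) (.node (.leaf 5328) (.leaf 0))))) (.node (.node (.node (.node (.leaf 18940) (.leaf 171)) (.node (.leaf 579) (.leaf 0))) (.node (.node (.leaf 4184) (.leaf 0)) (.node (.leaf 9396)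 (.leaf 0)))) (.node (.node (.node (.leaf 11051) (.leaf 13597)) (.node (.leaf 13326) (.leaf 0))) (.node (.node (.leaf 14373) (.leaf 0)) (.node (.leaf 16844) (.leaf 0)))))) (.node (.node (.node (.node (.node (.leaf 7724) (.leaf 16751)) (.node (.leaf 18208) (.leaf 0))) (.node (.node (.leaf 2976) (.leaf 19071)) (.node (.leaf 14694) (.leaf 0)))) (.node (.node (.node (.leaf 12085) (.leaf 13434)) (.node (.leaf 15033) (.leaf 0))) (.node (.node (.leaf 6550) (.leaf 0)) (.node (.leaf 9297) (.leaf 0))))) (.node (.node (.node (.node (.leaf 16584) (.leaf 6671)) (.node (.leaf 10776) (.leaf 0))) (.node (.node (.leaf 6754) (.leaf 0)) (.node (.leaf 4239) (.leaf 0)))) (.node (.node (.node (.leaf 14407) (.leaf 9819)) (.node (.leaf 17942) (.leaf 0))) (.node (.node (.leaf 9054) (.leaf 0)) (.node (.leaf 19511) (.leaf 0))))))) (.node (.node (.node (.node (.node (.node (.leaf 14226) (.leaf 2322)) (.node (.leaf 8377) (.leaf 0))) (.node (.node (.leaf 16222) (.leaf 14556)) (.node (.leaf 9312) (.leaf 0)))) (.node (.node (.node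 (.leaf 3155) (.leaf 16112)) (.node (.leaf 15393) (.leaf 0))) (.node (.node (.leaf 4351) (.leaf 0)) (.node (.leaf 3545) (.leaf 0))))) (.node (.node (.node (.node (.leaf 16646) (.leaf 9737)) (.node (.leaf 7513) (.leaf 0))) (.node (.node (.leaf 6832) (.leaf 0)) (.node (.leaf 17343) (.leaf 0)))) (.node (.node (.node (.leaf 3704) (.leaf 3207)) (.node (.leaf 18703) (.leaf 0))) (.node (.node (.leaf 4045) (.leaf 0)) (.node (.leaf 15018) (.leaf 0)))))) (.node (.node (.node (.node (.node (.leaf 3975) (.leaf 11913)) (.node (.leaf 3708) (.leaf 0))) (.node (.node (.leaf 14160) (.leaf 1970)) (.node (.leaf 1764) (.leaf 0)))) (.node (.node (.node (.leaf 5254) (.leaf 4646)) (.node (.leaf 17926) (.leaf 0))) (.node (.node (.leaf 15143) (.leaf 0)) (.node (.leaf 19803) (.leaf 0))))) (.node (.node (.node (.node (.leaf 15519) (.leaf 16309)) (.node (.leaf 37) (.leaf 0))) (.node (.node (.leaf 4990) (.leaf 0)) (.node (.leaf 16389) (.leaf 0)))) (.node (.node (.node (.leaf 15029) (.leaf 12976)) (.node (.leaf 20468) (.leaf 0)))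 (.node (.node (.leaf 20368) (.leaf 0)) (.node (.leaf 14654) (.leaf 0)))))))) (.node (.node (.node (.node (.node (.node (.node (.leaf 20035) (.leaf 12449)) (.node (.leaf 9185) (.leaf 0))) (.node (.node (.leaf 15797) (.leaf 14046)) (.node (.leaf 9065) (.leaf 0)))) (.node (.node (.node (.leaf 14787) (.leaf 7682)) (.node (.leaf 17030) (.leaf 0))) (.node (.node (.leaf 680) (.leaf 0)) (.node (.leaf 10544) (.leaf 0))))) (.node (.node (.node (.node (.leaf 16674) (.leaf 8179)) (.node (.leaf 18500) (.leaf 0))) (.node (.node (.leaf 6593) (.leaf 0)) (.node (.leaf 15151) (.leaf 0)))) (.node (.node (.node (.leaf 3283) (.leaf 709)) (.node (.leaf 17185) (.leaf 0))) (.node (.node (.leaf 18786) (.leaf 0)) (.node (.leaf 5544) (.leaf 0)))))) (.node (.node (.node (.node (.node (.leaf 13135) (.leaf 19531)) (.node (.leaf 18156) (.leaf 0))) (.node (.node (.leaf 3717) (.leaf 13629)) (.node (.leaf 17586) (.leaf 0)))) (.node (.node (.node (.leaf 2821) (.leaf 13449)) (.node (.leaf 7972) (.leaf 0))) (.node (.node (.leaf 16739)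 (.leaf 0)) (.node (.leaf 12731) (.leaf 0))))) (.node (.node (.node (.node (.leaf 21475) (.leaf 11123)) (.node (.leaf 16420) (.leaf 0))) (.node (.node (.leaf 109) (.leaf 0)) (.node (.leaf 6114) (.leaf 0)))) (.node (.node (.node (.leaf 2206) (.leaf 17750)) (.node (.leaf 3279) (.leaf 0))) (.node (.node (.leaf 15354) (.leaf 0)) (.node (.leaf 293) (.leaf 0))))))) (.node (.node (.node (.node (.node (.node (.leaf 1114) (.leaf 18646)) (.node (.leaf 18165) (.leaf 0))) (.node (.node (.leaf 16896) (.leaf 13950)) (.node (.leaf 20987) (.leaf 0)))) (.node (.node (.node (.leaf 12418) (.leaf 8793)) (.node (.leaf 1564) (.leaf 0))) (.node (.node (.leaf 16716) (.leaf 0)) (.node (.leaf 21089) (.leaf 0))))) (.node (.node (.node (.node (.leaf 3503) (.leaf 11271)) (.node (.leaf 14206) (.leaf 0))) (.node (.node (.leaf 2182) (.leaf 0)) (.node (.leaf 16989) (.leaf 0)))) (.node (.node (.node (.leaf 7379) (.leaf 2532)) (.node (.leaf 20457) (.leaf 0))) (.node (.node (.leaf 20809) (.leaf 0)) (.node (.leaf 15942) (.leaf 0))))))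 (.node (.node (.node (.node (.node (.leaf 13119) (.leaf 11663)) (.node (.leaf 11452) (.leaf 0))) (.node (.node (.leaf 13302) (.leaf 9950)) (.node (.leaf 12474) (.leaf 0)))) (.node (.node (.node (.leaf 21502) (.leaf 2928)) (.node (.leaf 2150) (.leaf 0))) (.node (.node (.leaf 14615) (.leaf 0)) (.node (.leaf 10138) (.leaf 0))))) (.node (.node (.node (.node (.leaf 21143) (.leaf 13961)) (.node (.leaf 3624) (.leaf 0))) (.node (.node (.leaf 8035) (.leaf 0)) (.node (.leaf 20590) (.leaf 0)))) (.node (.node (.node (.leaf 1806) (.leaf 10381)) (.node (.leaf 8576) (.leaf 0))) (.node (.node (.leaf 5553) (.leaf 0)) (.node (.leaf 17356) (.leaf 0)))))))))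

/-- part of a table -/
def ordM94 : Trie := (.node (.node (.node (.node (.node (.node (.node (.node (.leaf 9100) (.leaf 2537)) (.node (.leaf 20962) (.leaf 0))) (.node (.node (.leaf 17153) (.leaf 868)) (.node (.leaf 2253) (.leaf 0)))) (.node (.node (.node (.leaf 5895) (.leaf 5158)) (.node (.leaf 14145) (.leaf 0))) (.node (.node (.leaf 9938) (.leaf 0)) (.node (.leaf 1906) (.leaf 0))))) (.node (.node (.node (.node (.leaf 10914) (.leaf 9093)) (.node (.leaf 17532) (.leaf 0))) (.node (.node (.leaf 4620) (.leaf 0)) (.node (.leaf 11004) (.leaf 0)))) (.node (.node (.node (.leaf 7645) (.leaf 16380)) (.node (.leaf 2303) (.leaf 0))) (.node (.node (.leaf 1044) (.leaf 0)) (.node (.leaf 14808) (.leaf 0)))))) (.node (.node (.node (.node (.node (.leaf 6317) (.leaf 1367)) (.node (.leaf 1574) (.leaf 0))) (.node (.node (.leaf 8305) (.leaf 15784)) (.node (.leaf 15751) (.leaf 0)))) (.node (.node (.node (.leaf 18211) (.leaf 9441)) (.node (.leaf 4273) (.leaf 0))) (.node (.node (.leaf 20875) (.leaf 0)) (.node (.leaf 4153)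 (.leaf 0))))) (.node (.node (.node (.node (.leaf 20973) (.leaf 19946)) (.node (.leaf 9562) (.leaf 0))) (.node (.node (.leaf 21241) (.leaf 0)) (.node (.leaf 3687) (.leaf 0)))) (.node (.node (.node (.leaf 5753) (.leaf 12257)) (.node (.leaf 12900) (.leaf 0))) (.node (.node (.leaf 8228) (.leaf 0)) (.node (.leaf 14079) (.leaf 0))))))) (.node (.node (.node (.node (.node (.node (.leaf 341) (.leaf 18127)) (.node (.leaf 18606) (.leaf 0))) (.node (.node (.leaf 11867) (.leaf 404)) (.node (.leaf 2997) (.leaf 0)))) (.node (.node (.node (.leaf 15152) (.leaf 17120)) (.node (.leaf 4579) (.leaf 0))) (.node (.node (.leaf 7125) (.leaf 0)) (.node (.leaf 18344) (.leaf 0))))) (.node (.node (.node (.node (.leaf 4449) (.leaf 11610)) (.node (.leaf 18889) (.leaf 0))) (.node (.node (.leaf 21456) (.leaf 0)) (.node (.leaf 1794) (.leaf 0)))) (.node (.node (.node (.leaf 16753) (.leaf 15849)) (.node (.leaf 3978) (.leaf 0))) (.node (.node (.leaf 20569) (.leaf 0)) (.node (.leaf 8678) (.leaf 0)))))) (.node (.node (.node (.node (.node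 (.leaf 18168) (.leaf 3822)) (.node (.leaf 9040) (.leaf 0))) (.node (.node (.leaf 16920) (.leaf 9213)) (.node (.leaf 17944) (.leaf 0)))) (.node (.node (.node (.leaf 20168) (.leaf 6378)) (.node (.leaf 2957) (.leaf 0))) (.node (.node (.leaf 7729) (.leaf 0)) (.node (.leaf 3451) (.leaf 0))))) (.node (.node (.node (.node (.leaf 16457) (.leaf 3727)) (.node (.leaf 20580) (.leaf 0))) (.node (.node (.leaf 21484) (.leaf 0)) (.node (.leaf 2700) (.leaf 0)))) (.node (.node (.node (.leaf 17761) (.leaf 878)) (.node (.leaf 5406) (.leaf 0))) (.node (.node (.leaf 15715) (.leaf 0)) (.node (.leaf 12082) (.leaf 0)))))))) (.node (.node (.node (.node (.node (.node (.node (.leaf 7059) (.leaf 18979)) (.node (.leaf 3803) (.leaf 0))) (.node (.node (.leaf 8034) (.leaf 12913)) (.node (.leaf 10973) (.leaf 0)))) (.node (.node (.node (.leaf 7467) (.leaf 17086)) (.node (.leaf 183) (.leaf 0))) (.node (.node (.leaf 18380) (.leaf 0)) (.node (.leaf 8830) (.leaf 0))))) (.node (.node (.node (.node (.leaf 16409) (.leaf 20525)) (.node (.leaf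 11955) (.leaf 0))) (.node (.node (.leaf 8396) (.leaf 0)) (.node (.leaf 4010) (.leaf 0)))) (.node (.node (.node (.leaf 18570) (.leaf 10739)) (.node (.leaf 10320) (.leaf 0))) (.node (.node (.leaf 10118) (.leaf 0)) (.node (.leaf 4225) (.leaf 0)))))) (.node (.node (.node (.node (.node (.leaf 3448) (.leaf 9233)) (.node (.leaf 10942) (.leaf 0))) (.node (.node (.leaf 16912) (.leaf 17379)) (.node (.leaf 16132) (.leaf 0)))) (.node (.node (.node (.leaf 9743) (.leaf 15586)) (.node (.leaf 1876) (.leaf 0))) (.node (.node (.leaf 19378) (.leaf 0)) (.node (.leaf 15753) (.leaf 0))))) (.node (.node (.node (.node (.leaf 12392) (.leaf 19732)) (.node (.leaf 17171) (.leaf 0))) (.node (.node (.leaf 6391) (.leaf 0)) (.node (.leaf 14682) (.leaf 0)))) (.node (.node (.node (.leaf 3724) (.leaf 3052)) (.node (.leaf 921) (.leaf 0))) (.node (.node (.leaf 17446) (.leaf 0)) (.node (.leaf 3584) (.leaf 0))))))) (.node (.node (.node (.node (.node (.node (.leaf 9229) (.leaf 8400)) (.node (.leaf 12530) (.leaf 0))) (.node (.node (.leaf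 14187) (.leaf 13568)) (.node (.leaf 8917) (.leaf 0)))) (.node (.node (.node (.leaf 17044) (.leaf 10937)) (.node (.leaf 20178) (.leaf 0))) (.node (.node (.leaf 9866) (.leaf 0)) (.node (.leaf 4030) (.leaf 0))))) (.node (.node (.node (.node (.leaf 352) (.leaf 13094)) (.node (.leaf 2080) (.leaf 0))) (.node (.node (.leaf 18079) (.leaf 0)) (.node (.leaf 17618) (.leaf 0)))) (.node (.node (.node (.leaf 12172) (.leaf 16816)) (.node (.leaf 1510) (.leaf 0))) (.node (.node (.leaf 15901) (.leaf 0)) (.node (.leaf 9481) (.leaf 0)))))) (.node (.node (.node (.node (.node (.leaf 5402) (.leaf 21493)) (.node (.leaf 6145) (.leaf 0))) (.node (.node (.leaf 253) (.leaf 4740)) (.node (.leaf 10846) (.leaf 0)))) (.node (.node (.node (.leaf 14351) (.leaf 6625)) (.node (.leaf 16629) (.leaf 0))) (.node (.node (.leaf 9825) (.leaf 0)) (.node (.leaf 11331) (.leaf 0))))) (.node (.node (.node (.node (.leaf 5386) (.leaf 20532)) (.node (.leaf 16446) (.leaf 0))) (.node (.node (.leaf 10622) (.leaf 0)) (.node (.leaf 8107) (.leaf 0))))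 (.node (.node (.node (.leaf 10159) (.leaf 2334)) (.node (.leaf 17928) (.leaf 0))) (.node (.node (.leaf 7087) (.leaf 0)) (.node (.leaf 15620) (.leaf 0)))))))))

/-- part of a table -/
def ordM95 : Trie := (.node (.node (.node (.node (.node (.node (.node (.node (.leaf 5126) (.leaf 14483)) (.node (.leaf 7441) (.leaf 0))) (.node (.node (.leaf 8092) (.leaf 11917)) (.node (.leaf 17174) (.leaf 0)))) (.node (.node (.node (.leaf 17282) (.leaf 9221)) (.node (.leaf 1716) (.leaf 0))) (.node (.node (.leaf 14764) (.leaf 0)) (.node (.leaf 525) (.leaf 0))))) (.node (.node (.node (.node (.leaf 19652) (.leaf 19115)) (.node (.leaf 8497) (.leaf 0))) (.node (.node (.leaf 12147) (.leaf 0)) (.node (.leaf 3711) (.leaf 0)))) (.node (.node (.node (.leaf 2594) (.leaf 10505)) (.node (.leaf 8824) (.leaf 0))) (.node (.node (.leaf 11939) (.leaf 0)) (.node (.leaf 14586) (.leaf 0)))))) (.node (.node (.node (.node (.node (.leaf 3247) (.leaf 14497)) (.node (.leaf 953) (.leaf 0))) (.node (.node (.leaf 3763) (.leaf 8470)) (.node (.leaf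 15084) (.leaf 0)))) (.node (.node (.node (.leaf 12526) (.leaf 4803)) (.node (.leaf 16898) (.leaf 0))) (.node (.node (.leaf 13375) (.leaf 0)) (.node (.leaf 913) (.leaf 0))))) (.node (.node (.node (.node (.leaf 14624) (.leaf 4960)) (.node (.leaf 2379) (.leaf 0))) (.node (.node (.leaf 5745) (.leaf 0)) (.node (.leaf 10269) (.leaf 0)))) (.node (.node (.node (.leaf 20568) (.leaf 5697)) (.node (.leaf 18020) (.leaf 0))) (.node (.node (.leaf 1500) (.leaf 0)) (.node (.leaf 21095) (.leaf 0))))))) (.node (.node (.node (.node (.node (.node (.leaf 5096) (.leaf 19843)) (.node (.leaf 18754) (.leaf 0))) (.node (.node (.leaf 1975) (.leaf 5049)) (.node (.leaf 20003) (.leaf 0)))) (.node (.node (.node (.leaf 8732) (.leaf 14337)) (.node (.leaf 8485) (.leaf 0))) (.node (.node (.leaf 10231) (.leaf 0)) (.node (.leaf 11473) (.leaf 0))))) (.node (.node (.node (.node (.leaf 1315) (.leaf 5010)) (.node (.leaf 10733) (.leaf 0))) (.node (.node (.leaf 14640) (.leaf 0)) (.node (.leaf 12703) (.leaf 0)))) (.node (.node (.node (.leaf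 2044) (.leaf 14022)) (.node (.leaf 124) (.leaf 0))) (.node (.node (.leaf 15898) (.leaf 0)) (.node (.leaf 725) (.leaf 0)))))) (.node (.node (.node (.node (.node (.leaf 10126) (.leaf 5092)) (.node (.leaf 21417) (.leaf 0))) (.node (.node (.leaf 14217) (.leaf 2077)) (.node (.leaf 16511) (.leaf 0)))) (.node (.node (.node (.leaf 15832) (.leaf 14646)) (.node (.leaf 15804) (.leaf 0))) (.node (.node (.leaf 20748) (.leaf 0)) (.node (.leaf 7205) (.leaf 0))))) (.node (.node (.node (.node (.leaf 18591) (.leaf 16582)) (.node (.leaf 9706) (.leaf 0))) (.node (.node (.leaf 13283) (.leaf 0)) (.node (.leaf 11279) (.leaf 0)))) (.node (.node (.node (.leaf 5134) (.leaf 12761)) (.node (.leaf 12736) (.leaf 0))) (.node (.node (.leaf 17918) (.leaf 0)) (.node (.leaf 17631) (.leaf 0)))))))) (.node (.node (.node (.node (.node (.node (.node (.leaf 14065) (.leaf 15284)) (.node (.leaf 6204) (.leaf 0))) (.node (.node (.leaf 5363) (.leaf 18539)) (.node (.leaf 15573) (.leaf 0)))) (.node (.node (.node (.leaf 15950) (.leaf 14084)) (.node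 (.leaf 3761) (.leaf 0))) (.node (.node (.leaf 20384) (.leaf 0)) (.node (.leaf 15658) (.leaf 0))))) (.node (.node (.node (.node (.leaf 2736) (.leaf 21447)) (.node (.leaf 9277) (.leaf 0))) (.node (.node (.leaf 13573) (.leaf 0)) (.node (.leaf 8993) (.leaf 0)))) (.node (.node (.node (.leaf 19906) (.leaf 21368)) (.node (.leaf 9362) (.leaf 0))) (.node (.node (.leaf 1031) (.leaf 0)) (.node (.leaf 11336) (.leaf 0)))))) (.node (.node (.node (.node (.node (.leaf 8965) (.leaf 3401)) (.node (.leaf 5088) (.leaf 0))) (.node (.node (.leaf 11549) (.leaf 8904)) (.node (.leaf 17952) (.leaf 0)))) (.node (.node (.node (.leaf 12038) (.leaf 10183)) (.node (.leaf 2183) (.leaf 0))) (.node (.node (.leaf 18256) (.leaf 0)) (.node (.leaf 20292) (.leaf 0))))) (.node (.node (.node (.node (.leaf 992) (.leaf 11296)) (.node (.leaf 13056) (.leaf 0))) (.node (.node (.leaf 5725) (.leaf 0)) (.node (.leaf 8655) (.leaf 0)))) (.node (.node (.node (.leaf 17016) (.leaf 2013)) (.node (.leaf 12808) (.leaf 0))) (.node (.node (.leaf 10956) (.leaf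 0)) (.node (.leaf 15431) (.leaf 0))))))) (.node (.node (.node (.node (.node (.node (.leaf 11968) (.leaf 2688)) (.node (.leaf 9974) (.leaf 0))) (.node (.node (.leaf 16303) (.leaf 5923)) (.node (.leaf 10759) (.leaf 0)))) (.node (.node (.node (.leaf 3259) (.leaf 9499)) (.node (.leaf 17277) (.leaf 0))) (.node (.node (.leaf 7133) (.leaf 0)) (.node (.leaf 7040) (.leaf 0))))) (.node (.node (.node (.node (.leaf 787) (.leaf 16727)) (.node (.leaf 16237) (.leaf 0))) (.node (.node (.leaf 17158) (.leaf 0)) (.node (.leaf 8279) (.leaf 0)))) (.node (.node (.node (.leaf 12719) (.leaf 15409)) (.node (.leaf 12755) (.leaf 0))) (.node (.node (.leaf 5246) (.leaf 0)) (.node (.leaf 3249) (.leaf 0)))))) (.node (.node (.node (.node (.node (.leaf 12732) (.leaf 21104)) (.node (.leaf 14275) (.leaf 0))) (.node (.node (.leaf 1386) (.leaf 12412)) (.node (.leaf 20837) (.leaf 0)))) (.node (.node (.node (.leaf 15117) (.leaf 2251)) (.node (.leaf 11520) (.leaf 0))) (.node (.node (.leaf 9154) (.leaf 0)) (.node (.leaf 20164) (.leaf 0)))))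 (.node (.node (.node (.node (.leaf 13213) (.leaf 6699)) (.node (.leaf 5605) (.leaf 0))) (.node (.node (.leaf 11904) (.leaf 0)) (.node (.leaf 12804) (.leaf 0)))) (.node (.node (.node (.leaf 629) (.leaf 19034)) (.node (.leaf 9300) (.leaf 0))) (.node (.node (.leaf 11137) (.leaf 0)) (.node (.leaf 20241) (.leaf 0)))))))))

/-- part of a table -/
def ordM96 : Trie := (.node (.node (.node (.node (.node (.node (.node (.node (.leaf 14749) (.leaf 2403)) (.node (.leaf 449) (.leaf 0))) (.node (.node (.leaf 9662) (.leaf 14118)) (.node (.leaf 5823) (.leaf 0)))) (.node (.node (.node (.leaf 8623) (.leaf 12541)) (.node (.leaf 17097) (.leaf 0))) (.node (.node (.leaf 3835) (.leaf 0)) (.node (.leaf 6597) (.leaf 0))))) (.node (.node (.node (.node (.leaf 15931) (.leaf 5082)) (.node (.leaf 4259) (.leaf 0))) (.node (.node (.leaf 12249) (.leaf 0)) (.node (.leaf 7735) (.leaf 0)))) (.node (.node (.node (.leaf 6713) (.leaf 19619)) (.node (.leaf 19082) (.leaf 0))) (.node (.node (.leaf 827) (.leaf 0)) (.node (.leaf 11689) (.leaf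 0)))))) (.node (.node (.node (.node (.node (.leaf 11754) (.leaf 13180)) (.node (.leaf 7243) (.leaf 0))) (.node (.node (.leaf 1369) (.leaf 9913)) (.node (.leaf 12535) (.leaf 0)))) (.node (.node (.node (.leaf 5456) (.leaf 6708)) (.node (.leaf 16533) (.leaf 0))) (.node (.node (.leaf 19097) (.leaf 0)) (.node (.leaf 14157) (.leaf 0))))) (.node (.node (.node (.node (.leaf 10787) (.leaf 12763)) (.node (.leaf 8980) (.leaf 0))) (.node (.node (.leaf 3810) (.leaf 0)) (.node (.leaf 1921) (.leaf 0)))) (.node (.node (.node (.leaf 14306) (.leaf 11124)) (.node (.leaf 20506) (.leaf 0))) (.node (.node (.leaf 7569) (.leaf 0)) (.node (.leaf 10457) (.leaf 0))))))) (.node (.node (.node (.node (.node (.node (.leaf 15928) (.leaf 9148)) (.node (.leaf 4042) (.leaf 0))) (.node (.node (.leaf 21397) (.leaf 14330)) (.node (.leaf 101) (.leaf 0)))) (.node (.node (.node (.leaf 21055) (.leaf 3827)) (.node (.leaf 21224) (.leaf 0))) (.node (.node (.leaf 2792) (.leaf 0)) (.node (.leaf 19052) (.leaf 0))))) (.node (.node (.node (.node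 (.leaf 21160) (.leaf 16873)) (.node (.leaf 5771) (.leaf 0))) (.node (.node (.leaf 17363) (.leaf 0)) (.node (.leaf 1167) (.leaf 0)))) (.node (.node (.node (.leaf 18138) (.leaf 5341)) (.node (.leaf 13883) (.leaf 0))) (.node (.node (.leaf 7832) (.leaf 0)) (.node (.leaf 13250) (.leaf 0)))))) (.node (.node (.node (.node (.node (.leaf 1863) (.leaf 2521)) (.node (.leaf 11764) (.leaf 0))) (.node (.node (.leaf 7721) (.leaf 4542)) (.node (.leaf 6004) (.leaf 0)))) (.node (.node (.node (.leaf 19333) (.leaf 616)) (.node (.leaf 17519) (.leaf 0))) (.node (.node (.leaf 13443) (.leaf 0)) (.node (.leaf 14660) (.leaf 0))))) (.node (.node (.node (.node (.leaf 18557) (.leaf 2302)) (.node (.leaf 8442) (.leaf 0))) (.node (.node (.leaf 4925) (.leaf 0)) (.node (.leaf 21171) (.leaf 0)))) (.node (.node (.node (.leaf 17495) (.leaf 8093)) (.node (.leaf 15670) (.leaf 0))) (.node (.node (.leaf 3565) (.leaf 0)) (.node (.leaf 14902) (.leaf 0)))))))) (.node (.node (.node (.node (.node (.node (.node (.leaf 13768) (.leaf 2387)) (.node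 (.leaf 17204) (.leaf 0))) (.node (.node (.leaf 3768) (.leaf 8918)) (.node (.leaf 13152) (.leaf 0)))) (.node (.node (.node (.leaf 20887) (.leaf 8849)) (.node (.leaf 7768) (.leaf 0))) (.node (.node (.leaf 11971) (.leaf 0)) (.node (.leaf 5427) (.leaf 0))))) (.node (.node (.node (.node (.leaf 21116) (.leaf 7329)) (.node (.leaf 18090) (.leaf 0))) (.node (.node (.leaf 12472) (.leaf 0)) (.node (.leaf 20393) (.leaf 0)))) (.node (.node (.node (.leaf 4564) (.leaf 15309)) (.node (.leaf 16658) (.leaf 0))) (.node (.node (.leaf 16618) (.leaf 0)) (.node (.leaf 876) (.leaf 0)))))) (.node (.node (.node (.node (.node (.leaf 2218) (.leaf 9301)) (.node (.leaf 15887) (.leaf 0))) (.node (.node (.leaf 3758) (.leaf 2154)) (.node (.leaf 12550) (.leaf 0)))) (.node (.node (.node (.leaf 10043) (.leaf 2680)) (.node (.leaf 2718) (.leaf 0))) (.node (.node (.leaf 10395) (.leaf 0)) (.node (.leaf 6634) (.leaf 0))))) (.node (.node (.node (.node (.leaf 14015) (.leaf 10074)) (.node (.leaf 12389) (.leaf 0))) (.node (.node (.leaf 5811)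 (.leaf 0)) (.node (.leaf 20959) (.leaf 0)))) (.node (.node (.node (.leaf 9177) (.leaf 3280)) (.node (.leaf 3730) (.leaf 0))) (.node (.node (.leaf 5790) (.leaf 0)) (.node (.leaf 19645) (.leaf 0))))))) (.node (.node (.node (.node (.node (.node (.leaf 13759) (.leaf 7358)) (.node (.leaf 3621) (.leaf 0))) (.node (.node (.leaf 2282) (.leaf 8882)) (.node (.leaf 8629) (.leaf 0)))) (.node (.node (.node (.leaf 11307) (.leaf 20636)) (.node (.leaf 5687) (.leaf 0))) (.node (.node (.leaf 18181) (.leaf 0)) (.node (.leaf 1507) (.leaf 0))))) (.node (.node (.node (.node (.leaf 6203) (.leaf 5221)) (.node (.leaf 11325) (.leaf 0))) (.node (.node (.leaf 9119) (.leaf 0)) (.node (.leaf 9560) (.leaf 0)))) (.node (.node (.node (.leaf 17905) (.leaf 14491)) (.node (.leaf 12783) (.leaf 0))) (.node (.node (.leaf 9249) (.leaf 0)) (.node (.leaf 13239) (.leaf 0)))))) (.node (.node (.node (.node (.node (.leaf 11605) (.leaf 21216)) (.node (.leaf 4855) (.leaf 0))) (.node (.node (.leaf 11428) (.leaf 19928)) (.node (.leaf 1018) (.leaf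 0)))) (.node (.node (.node (.leaf 11000) (.leaf 2393)) (.node (.leaf 133) (.leaf 0))) (.node (.node (.leaf 19961) (.leaf 0)) (.node (.leaf 12749) (.leaf 0))))) (.node (.node (.node (.node (.leaf 9754) (.leaf 4685)) (.node (.leaf 13787) (.leaf 0))) (.node (.node (.leaf 8294) (.leaf 0)) (.node (.leaf 21094) (.leaf 0)))) (.node (.node (.node (.leaf 17867) (.leaf 18145)) (.node (.leaf 9710) (.leaf 0))) (.node (.node (.leaf 21028) (.leaf 0)) (.node (.leaf 5064) (.leaf 0)))))))))

/-- part of a table -/
def ordM97 : Trie := (.node (.node (.node (.node (.node (.node (.node (.node (.leaf 7515) (.leaf 10639)) (.node (.leaf 1039) (.leaf 0))) (.node (.node (.leaf 19460) (.leaf 19792)) (.node (.leaf 17833) (.leaf 0)))) (.node (.node (.node (.leaf 17511) (.leaf 10606)) (.node (.leaf 10792) (.leaf 0))) (.node (.node (.leaf 2531) (.leaf 0)) (.node (.leaf 10295) (.leaf 0))))) (.node (.node (.node (.node (.leaf 18956) (.leaf 10938)) (.node (.leaf 10260) (.leaf 0))) (.node (.node (.leaf 18910) (.leaf 0)) (.node (.leaf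 14481) (.leaf 0)))) (.node (.node (.node (.leaf 15574) (.leaf 11722)) (.node (.leaf 19924) (.leaf 0))) (.node (.node (.leaf 14100) (.leaf 0)) (.node (.leaf 13810) (.leaf 0)))))) (.node (.node (.node (.node (.node (.leaf 941) (.leaf 16035)) (.node (.leaf 20023) (.leaf 0))) (.node (.node (.leaf 14498) (.leaf 20265)) (.node (.leaf 21328) (.leaf 0)))) (.node (.node (.node (.leaf 13832) (.leaf 5107)) (.node (.leaf 10083) (.leaf 0))) (.node (.node (.leaf 15896) (.leaf 0)) (.node (.leaf 3245) (.leaf 0))))) (.node (.node (.node (.node (.leaf 16000) (.leaf 5261)) (.node (.leaf 13318) (.leaf 0))) (.node (.node (.leaf 4817) (.leaf 0)) (.node (.leaf 3698) (.leaf 0)))) (.node (.node (.node (.leaf 5976) (.leaf 7477)) (.node (.leaf 11373) (.leaf 0))) (.node (.node (.leaf 2778) (.leaf 0)) (.node (.leaf 7506) (.leaf 0))))))) (.node (.node (.node (.node (.node (.node (.leaf 19519) (.leaf 18564)) (.node (.leaf 11056) (.leaf 0))) (.node (.node (.leaf 18693) (.leaf 21359)) (.node (.leaf 1481) (.leaf 0)))) (.node (.node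 (.node (.leaf 21215) (.leaf 18080)) (.node (.leaf 19439) (.leaf 0))) (.node (.node (.leaf 12) (.leaf 0)) (.node (.leaf 14116) (.leaf 0))))) (.node (.node (.node (.node (.leaf 20780) (.leaf 6960)) (.node (.leaf 12358) (.leaf 0))) (.node (.node (.leaf 8219) (.leaf 0)) (.node (.leaf 14893) (.leaf 0)))) (.node (.node (.node (.leaf 17037) (.leaf 13214)) (.node (.leaf 4673) (.leaf 0))) (.node (.node (.leaf 15820) (.leaf 0)) (.node (.leaf 20557) (.leaf 0)))))) (.node (.node (.node (.node (.node (.leaf 1393) (.leaf 706)) (.node (.leaf 10486) (.leaf 0))) (.node (.node (.leaf 13069) (.leaf 15136)) (.node (.leaf 9393) (.leaf 0)))) (.node (.node (.node (.leaf 9503) (.leaf 1804)) (.node (.leaf 11343) (.leaf 0))) (.node (.node (.leaf 17500) (.leaf 0)) (.node (.leaf 8247) (.leaf 0))))) (.node (.node (.node (.node (.leaf 19604) (.leaf 13598)) (.node (.leaf 6467) (.leaf 0))) (.node (.node (.leaf 6976) (.leaf 0)) (.node (.leaf 15629) (.leaf 0)))) (.node (.node (.node (.leaf 4250) (.leaf 20239)) (.node (.leaf 10804)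 (.leaf 0))) (.node (.node (.leaf 9910) (.leaf 0)) (.node (.leaf 16007) (.leaf 0)))))))) (.node (.node (.node (.node (.node (.node (.node (.leaf 13227) (.leaf 18705)) (.node (.leaf 7877) (.leaf 0))) (.node (.node (.leaf 6299) (.leaf 9582)) (.node (.leaf 11458) (.leaf 0)))) (.node (.node (.node (.leaf 8613) (.leaf 8733)) (.node (.leaf 3323) (.leaf 0))) (.node (.node (.leaf 18959) (.leaf 0)) (.node (.leaf 281) (.leaf 0))))) (.node (.node (.node (.node (.leaf 17326) (.leaf 2417)) (.node (.leaf 12479) (.leaf 0))) (.node (.node (.leaf 7609) (.leaf 0)) (.node (.leaf 20369) (.leaf 0)))) (.node (.node (.node (.leaf 320) (.leaf 19617)) (.node (.leaf 10618) (.leaf 0))) (.node (.node (.leaf 11503) (.leaf 0)) (.node (.leaf 3042) (.leaf 0)))))) (.node (.node (.node (.node (.node (.leaf 16843) (.leaf 18131)) (.node (.leaf 19452) (.leaf 0))) (.node (.node (.leaf 8402) (.leaf 17543)) (.node (.leaf 7684) (.leaf 0)))) (.node (.node (.node (.leaf 6146) (.leaf 954)) (.node (.leaf 7713) (.leaf 0))) (.node (.node (.leaf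 2619) (.leaf 0)) (.node (.leaf 11919) (.leaf 0))))) (.node (.node (.node (.node (.leaf 9033) (.leaf 9370)) (.node (.leaf 6759) (.leaf 0))) (.node (.node (.leaf 3819) (.leaf 0)) (.node (.leaf 6817) (.leaf 0)))) (.node (.node (.node (.leaf 11598) (.leaf 7770)) (.node (.leaf 10884) (.leaf 0))) (.node (.node (.leaf 2757) (.leaf 0)) (.node (.leaf 4085) (.leaf 0))))))) (.node (.node (.node (.node (.node (.node (.leaf 19983) (.leaf 10319)) (.node (.leaf 1242) (.leaf 0))) (.node (.node (.leaf 14266) (.leaf 4568)) (.node (.leaf 5696) (.leaf 0)))) (.node (.node (.node (.leaf 12216) (.leaf 5942)) (.node (.leaf 18400) (.leaf 0))) (.node (.node (.leaf 15174) (.leaf 0)) (.node (.leaf 4871) (.leaf 0))))) (.node (.node (.node (.node (.leaf 3879) (.leaf 1587)) (.node (.leaf 14725) (.leaf 0))) (.node (.node (.leaf 16634) (.leaf 0)) (.node (.leaf 7197) (.leaf 0)))) (.node (.node (.node (.leaf 8167) (.leaf 1333)) (.node (.leaf 19532) (.leaf 0))) (.node (.node (.leaf 9670) (.leaf 0)) (.node (.leaf 4991) (.leaf 0))))))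 (.node (.node (.node (.node (.node (.leaf 16340) (.leaf 20248)) (.node (.leaf 2606) (.leaf 0))) (.node (.node (.leaf 9337) (.leaf 17334)) (.node (.leaf 13115) (.leaf 0)))) (.node (.node (.node (.leaf 11824) (.leaf 6253)) (.node (.leaf 4605) (.leaf 0))) (.node (.node (.leaf 9930) (.leaf 0)) (.node (.leaf 906) (.leaf 0))))) (.node (.node (.node (.node (.leaf 4464) (.leaf 12106)) (.node (.leaf 16487) (.leaf 0))) (.node (.node (.leaf 7081) (.leaf 0)) (.node (.leaf 12851) (.leaf 0)))) (.node (.node (.node (.leaf 1941) (.leaf 1821)) (.node (.leaf 18017) (.leaf 0))) (.node (.node (.leaf 15086) (.leaf 0)) (.node (.leaf 1620) (.leaf 0)))))))))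

/-- part of a table -/
def ordM98 : Trie := (.node (.node (.node (.node (.node (.node (.node (.node (.leaf 15340) (.leaf 15930)) (.node (.leaf 2979) (.leaf 0))) (.node (.node (.leaf 4874) (.leaf 14526)) (.node (.leaf 756) (.leaf 0)))) (.node (.node (.node (.leaf 12256) (.leaf 3663)) (.node (.leaf 7116) (.leaf 0))) (.node (.node (.leaf 20598) (.leaf 0)) (.node (.leaf 9134) (.leaf 0))))) (.node (.node (.node (.node (.leaf 14292) (.leaf 6621)) (.node (.leaf 9434) (.leaf 0))) (.node (.node (.leaf 1227) (.leaf 0)) (.node (.leaf 12715) (.leaf 0)))) (.node (.node (.node (.leaf 19624) (.leaf 5069)) (.node (.leaf 1337) (.leaf 0))) (.node (.node (.leaf 19267) (.leaf 0)) (.node (.leaf 12419) (.leaf 0)))))) (.node (.node (.node (.node (.node (.leaf 13806) (.leaf 17267)) (.node (.leaf 6471) (.leaf 0))) (.node (.node (.leaf 12548) (.leaf 17210)) (.node (.leaf 14216) (.leaf 0)))) (.node (.node (.node (.leaf 316) (.leaf 16967)) (.node (.leaf 9602) (.leaf 0))) (.node (.node (.leaf 11677) (.leaf 0)) (.node (.leaf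 19872) (.leaf 0))))) (.node (.node (.node (.node (.leaf 7705) (.leaf 14990)) (.node (.leaf 17824) (.leaf 0))) (.node (.node (.leaf 4053) (.leaf 0)) (.node (.leaf 4966) (.leaf 0)))) (.node (.node (.node (.leaf 494) (.leaf 3976)) (.node (.leaf 20223) (.leaf 0))) (.node (.node (.leaf 18975) (.leaf 0)) (.node (.leaf 11993) (.leaf 0))))))) (.node (.node (.node (.node (.node (.node (.leaf 4434) (.leaf 9257)) (.node (.leaf 6522) (.leaf 0))) (.node (.node (.leaf 12652) (.leaf 4622)) (.node (.leaf 18178) (.leaf 0)))) (.node (.node (.node (.leaf 2244) (.leaf 18933)) (.node (.leaf 15791) (.leaf 0))) (.node (.node (.leaf 14981) (.leaf 0)) (.node (.leaf 11533) (.leaf 0))))) (.node (.node (.node (.node (.leaf 16986) (.leaf 4580)) (.node (.leaf 19863) (.leaf 0))) (.node (.node (.leaf 9057) (.leaf 0)) (.node (.leaf 3220) (.leaf 0)))) (.node (.node (.node (.leaf 1309) (.leaf 1449)) (.node (.leaf 5458) (.leaf 0))) (.node (.node (.leaf 10314) (.leaf 0)) (.node (.leaf 227) (.leaf 0)))))) (.node (.node (.node (.node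 (.node (.leaf 6083) (.leaf 7303)) (.node (.leaf 7614) (.leaf 0))) (.node (.node (.leaf 8640) (.leaf 16106)) (.node (.leaf 8692) (.leaf 0)))) (.node (.node (.node (.leaf 7580) (.leaf 15987)) (.node (.leaf 20294) (.leaf 0))) (.node (.node (.leaf 13539) (.leaf 0)) (.node (.leaf 8636) (.leaf 0))))) (.node (.node (.node (.node (.leaf 528) (.leaf 2156)) (.node (.leaf 1292) (.leaf 0))) (.node (.node (.leaf 11531) (.leaf 0)) (.node (.leaf 17154) (.leaf 0)))) (.node (.node (.node (.leaf 18862) (.leaf 17167)) (.node (.leaf 6998) (.leaf 0))) (.node (.node (.leaf 7766) (.leaf 0)) (.node (.leaf 14912) (.leaf 0)))))))) (.node (.node (.node (.node (.node (.node (.node (.leaf 2267) (.leaf 4534)) (.node (.leaf 3002) (.leaf 0))) (.node (.node (.leaf 17140) (.leaf 1252)) (.node (.leaf 1066) (.leaf 0)))) (.node (.node (.node (.leaf 11446) (.leaf 17971)) (.node (.leaf 11493) (.leaf 0))) (.node (.node (.leaf 2376) (.leaf 0)) (.node (.leaf 5378) (.leaf 0))))) (.node (.node (.node (.node (.leaf 6712) (.leaf 2083)) (.node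 (.leaf 1753) (.leaf 0))) (.node (.node (.leaf 6187) (.leaf 0)) (.node (.leaf 19813) (.leaf 0)))) (.node (.node (.node (.leaf 3268) (.leaf 7435)) (.node (.leaf 1577) (.leaf 0))) (.node (.node (.leaf 17025) (.leaf 0)) (.node (.leaf 19232) (.leaf 0)))))) (.node (.node (.node (.node (.node (.leaf 14807) (.leaf 9597)) (.node (.leaf 9693) (.leaf 0))) (.node (.node (.leaf 1325) (.leaf 13673)) (.node (.leaf 11167) (.leaf 0)))) (.node (.node (.node (.leaf 5262) (.leaf 13571)) (.node (.leaf 15996) (.leaf 0))) (.node (.node (.leaf 18296) (.leaf 0)) (.node (.leaf 18962) (.leaf 0))))) (.node (.node (.node (.node (.leaf 447) (.leaf 12006)) (.node (.leaf 19420) (.leaf 0))) (.node (.node (.leaf 10605) (.leaf 0)) (.node (.leaf 8696) (.leaf 0)))) (.node (.node (.node (.leaf 8199) (.leaf 10251)) (.node (.leaf 9387) (.leaf 0))) (.node (.node (.leaf 5146) (.leaf 0)) (.node (.leaf 9041) (.leaf 0))))))) (.node (.node (.node (.node (.node (.node (.leaf 8878) (.leaf 3368)) (.node (.leaf 18719) (.leaf 0))) (.node (.node (.leaf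 6387) (.leaf 9282)) (.node (.leaf 6604) (.leaf 0)))) (.node (.node (.node (.leaf 20997) (.leaf 5177)) (.node (.leaf 17636) (.leaf 0))) (.node (.node (.leaf 18757) (.leaf 0)) (.node (.leaf 8585) (.leaf 0))))) (.node (.node (.node (.node (.leaf 6982) (.leaf 16600)) (.node (.leaf 10030) (.leaf 0))) (.node (.node (.leaf 4455) (.leaf 0)) (.node (.leaf 3370) (.leaf 0)))) (.node (.node (.node (.leaf 5673) (.leaf 11519)) (.node (.leaf 10530) (.leaf 0))) (.node (.node (.leaf 17148) (.leaf 0)) (.node (.leaf 10503) (.leaf 0)))))) (.node (.node (.node (.node (.node (.leaf 18254) (.leaf 15101)) (.node (.leaf 17765) (.leaf 0))) (.node (.node (.leaf 7959) (.leaf 3524)) (.node (.leaf 8142) (.leaf 0)))) (.node (.node (.node (.leaf 5726) (.leaf 6416)) (.node (.leaf 12365) (.leaf 0))) (.node (.node (.leaf 1023) (.leaf 0)) (.node (.leaf 9699) (.leaf 0))))) (.node (.node (.node (.node (.leaf 20558) (.leaf 21296)) (.node (.leaf 12824) (.leaf 0))) (.node (.node (.leaf 9823) (.leaf 0)) (.node (.leaf 7680) (.leaf 0)))) (.node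 (.node (.node (.leaf 18477) (.leaf 20728)) (.node (.leaf 16223) (.leaf 0))) (.node (.node (.leaf 6890) (.leaf 0)) (.node (.leaf 6168) (.leaf 0)))))))))

/-- part of a table -/
def ordM99 : Trie := (.node (.node (.node (.node (.node (.node (.node (.node (.leaf 9381) (.leaf 16280)) (.node (.leaf 16338) (.leaf 0))) (.node (.node (.leaf 4221) (.leaf 15124)) (.node (.leaf 6883) (.leaf 0)))) (.node (.node (.node (.leaf 5694) (.leaf 184)) (.node (.leaf 18573) (.leaf 0))) (.node (.node (.leaf 19591) (.leaf 0)) (.node (.leaf 16235) (.leaf 0))))) (.node (.node (.node (.node (.leaf 19696) (.leaf 12487)) (.node (.leaf 12968) (.leaf 0))) (.node (.node (.leaf 12119) (.leaf 0)) (.node (.leaf 17790) (.leaf 0)))) (.node (.node (.node (.leaf 5878) (.leaf 16348)) (.node (.leaf 5774) (.leaf 0))) (.node (.node (.leaf 18291) (.leaf 0)) (.node (.leaf 18918) (.leaf 0)))))) (.node (.node (.node (.node (.node (.leaf 10598) (.leaf 18005)) (.node (.leaf 12029) (.leaf 0))) (.node (.node (.leaf 17297) (.leaf 10999)) (.node (.leaf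 6148) (.leaf 0)))) (.node (.node (.node (.leaf 4776) (.leaf 14672)) (.node (.leaf 10891) (.leaf 0))) (.node (.node (.leaf 10248) (.leaf 0)) (.node (.leaf 8394) (.leaf 0))))) (.node (.node (.node (.node (.leaf 2960) (.leaf 3844)) (.node (.leaf 7033) (.leaf 0))) (.node (.node (.leaf 18063) (.leaf 0)) (.node (.leaf 16603) (.leaf 0)))) (.node (.node (.node (.leaf 8322) (.leaf 10783)) (.node (.leaf 3973) (.leaf 0))) (.node (.node (.leaf 16104) (.leaf 0)) (.node (.leaf 5939) (.leaf 0))))))) (.node (.node (.node (.node (.node (.node (.leaf 4310) (.leaf 3378)) (.node (.leaf 11571) (.leaf 0))) (.node (.node (.leaf 1237) (.leaf 5132)) (.node (.leaf 6140) (.leaf 0)))) (.node (.node (.node (.leaf 6284) (.leaf 17489)) (.node (.leaf 13222) (.leaf 0))) (.node (.node (.leaf 18273) (.leaf 0)) (.node (.leaf 16024) (.leaf 0))))) (.node (.node (.node (.node (.leaf 17225) (.leaf 7463)) (.node (.leaf 4723) (.leaf 0))) (.node (.node (.leaf 735) (.leaf 0)) (.node (.leaf 7603) (.leaf 0)))) (.node (.node (.node (.leaf 9683)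 (.leaf 2790)) (.node (.leaf 13613) (.leaf 0))) (.node (.node (.leaf 647) (.leaf 0)) (.node (.leaf 949) (.leaf 0)))))) (.node (.node (.node (.node (.node (.leaf 12503) (.leaf 11868)) (.node (.leaf 15468) (.leaf 0))) (.node (.node (.leaf 10742) (.leaf 18977)) (.node (.leaf 17101) (.leaf 0)))) (.node (.node (.node (.leaf 2712) (.leaf 6172)) (.node (.leaf 8684) (.leaf 0))) (.node (.node (.leaf 8889) (.leaf 0)) (.node (.leaf 10180) (.leaf 0))))) (.node (.node (.node (.node (.leaf 9007) (.leaf 9048)) (.node (.leaf 14943) (.leaf 0))) (.node (.node (.leaf 4682) (.leaf 0)) (.node (.leaf 5279) (.leaf 0)))) (.node (.node (.node (.leaf 6956) (.leaf 5461)) (.node (.leaf 14024) (.leaf 0))) (.node (.node (.leaf 695) (.leaf 0)) (.node (.leaf 6409) (.leaf 0)))))))) (.node (.node (.node (.node (.node (.node (.node (.leaf 19386) (.leaf 1808)) (.node (.leaf 20004) (.leaf 0))) (.node (.node (.leaf 4244) (.leaf 2764)) (.node (.leaf 3153) (.leaf 0)))) (.node (.node (.node (.leaf 12486) (.leaf 3156)) (.node (.leaf 10906)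 (.leaf 0))) (.node (.node (.leaf 7474) (.leaf 0)) (.node (.leaf 15176) (.leaf 0))))) (.node (.node (.node (.node (.leaf 363) (.leaf 91)) (.node (.leaf 4980) (.leaf 0))) (.node (.node (.leaf 9920) (.leaf 0)) (.node (.leaf 17794) (.leaf 0)))) (.node (.node (.node (.leaf 14469) (.leaf 11257)) (.node (.leaf 5353) (.leaf 0))) (.node (.node (.leaf 19991) (.leaf 0)) (.node (.leaf 21412) (.leaf 0)))))) (.node (.node (.node (.node (.node (.leaf 15827) (.leaf 17607)) (.node (.leaf 7424) (.leaf 0))) (.node (.node (.leaf 3654) (.leaf 14034)) (.node (.leaf 19841) (.leaf 0)))) (.node (.node (.node (.leaf 12764) (.leaf 17294)) (.node (.leaf 7148) (.leaf 0))) (.node (.node (.leaf 21081) (.leaf 0)) (.node (.leaf 10439) (.leaf 0))))) (.node (.node (.node (.node (.leaf 2001) (.leaf 815)) (.node (.leaf 21178) (.leaf 0))) (.node (.node (.leaf 13778) (.leaf 0)) (.node (.leaf 21490) (.leaf 0)))) (.node (.node (.node (.leaf 507) (.leaf 11495)) (.node (.leaf 8665) (.leaf 0))) (.node (.node (.leaf 13040) (.leaf 0)) (.node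 (.leaf 15182) (.leaf 0))))))) (.node (.node (.node (.node (.node (.node (.leaf 11850) (.leaf 18096)) (.node (.leaf 16444) (.leaf 0))) (.node (.node (.leaf 14961) (.leaf 8833)) (.node (.leaf 17513) (.leaf 0)))) (.node (.node (.node (.leaf 21125) (.leaf 7501)) (.node (.leaf 6505) (.leaf 0))) (.node (.node (.leaf 14985) (.leaf 0)) (.node (.leaf 14455) (.leaf 0))))) (.node (.node (.node (.node (.leaf 15365) (.leaf 12958)) (.node (.leaf 4477) (.leaf 0))) (.node (.node (.leaf 4656) (.leaf 0)) (.node (.leaf 790) (.leaf 0)))) (.node (.node (.node (.leaf 13525) (.leaf 16628)) (.node (.leaf 7070) (.leaf 0))) (.node (.node (.leaf 3009) (.leaf 0)) (.node (.leaf 13284) (.leaf 0)))))) (.node (.node (.node (.node (.node (.leaf 9406) (.leaf 20093)) (.node (.leaf 8807) (.leaf 0))) (.node (.node (.leaf 2831) (.leaf 200)) (.node (.leaf 4959) (.leaf 0)))) (.node (.node (.node (.leaf 12104) (.leaf 10636)) (.node (.leaf 1960) (.leaf 0))) (.node (.node (.leaf 13546) (.leaf 0)) (.node (.leaf 14287) (.leaf 0))))) (.node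 (.node (.node (.node (.leaf 8218) (.leaf 21012)) (.node (.leaf 5009) (.leaf 0))) (.node (.node (.leaf 18537) (.leaf 0)) (.node (.leaf 10198) (.leaf 0)))) (.node (.node (.node (.leaf 19523) (.leaf 16856)) (.node (.leaf 16903) (.leaf 0))) (.node (.node (.leaf 19026) (.leaf 0)) (.node (.leaf 6262) (.leaf 0)))))))))

/-- part of a table -/
def ordM100 : Trie := (.node (.node (.node (.node (.node (.node (.node (.node (.leaf 15140) (.leaf 1883)) (.node (.leaf 17970) (.leaf 0))) (.node (.node (.leaf 7352) (.leaf 5740)) (.node (.leaf 18247) (.leaf 0)))) (.node (.node (.node (.leaf 5844) (.leaf 15856)) (.node (.leaf 11676) (.leaf 0))) (.node (.node (.leaf 8036) (.leaf 0)) (.node (.leaf 5252) (.leaf 0))))) (.node (.node (.node (.node (.leaf 6111) (.leaf 16694)) (.node (.leaf 5073) (.leaf 0))) (.node (.node (.leaf 874) (.leaf 0)) (.node (.leaf 17494) (.leaf 0)))) (.node (.node (.node (.leaf 20707) (.leaf 17243)) (.node (.leaf 7293) (.leaf 0))) (.node (.node (.leaf 18783) (.leaf 0)) (.node (.leaf 13623) (.leaf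 0)))))) (.node (.node (.node (.node (.node (.leaf 821) (.leaf 10882)) (.node (.leaf 2131) (.leaf 0))) (.node (.node (.leaf 21245) (.leaf 19143)) (.node (.leaf 7400) (.leaf 0)))) (.node (.node (.node (.leaf 21234) (.leaf 1552)) (.node (.leaf 2744) (.leaf 0))) (.node (.node (.leaf 7117) (.leaf 0)) (.node (.leaf 6978) (.leaf 0))))) (.node (.node (.node (.node (.leaf 18262) (.leaf 13507)) (.node (.leaf 1842) (.leaf 0))) (.node (.node (.leaf 12308) (.leaf 0)) (.node (.leaf 1316) (.leaf 0)))) (.node (.node (.node (.leaf 19219) (.leaf 20625)) (.node (.leaf 2354) (.leaf 0))) (.node (.node (.leaf 17812) (.leaf 0)) (.node (.leaf 5716) (.leaf 0))))))) (.node (.node (.node (.node (.node (.node (.leaf 6273) (.leaf 3211)) (.node (.leaf 2464) (.leaf 0))) (.node (.node (.leaf 12733) (.leaf 11526)) (.node (.leaf 14296) (.leaf 0)))) (.node (.node (.node (.leaf 11999) (.leaf 3533)) (.node (.leaf 14968) (.leaf 0))) (.node (.node (.leaf 13013) (.leaf 0)) (.node (.leaf 10211) (.leaf 0))))) (.node (.node (.node (.node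 (.leaf 9526) (.leaf 21063)) (.node (.leaf 1833) (.leaf 0))) (.node (.node (.leaf 7572) (.leaf 0)) (.node (.leaf 7860) (.leaf 0)))) (.node (.node (.node (.leaf 15774) (.leaf 20807)) (.node (.leaf 16993) (.leaf 0))) (.node (.node (.leaf 10018) (.leaf 0)) (.node (.leaf 15599) (.leaf 0)))))) (.node (.node (.node (.node (.node (.leaf 19800) (.leaf 14558)) (.node (.leaf 1263) (.leaf 0))) (.node (.node (.leaf 18369) (.leaf 7080)) (.node (.leaf 14378) (.leaf 0)))) (.node (.node (.node (.leaf 19307) (.leaf 17064)) (.node (.leaf 2589) (.leaf 0))) (.node (.node (.leaf 13756) (.leaf 0)) (.node (.leaf 19094) (.leaf 0))))) (.node (.node (.node (.node (.leaf 17821) (.leaf 7423)) (.node (.leaf 19096) (.leaf 0))) (.node (.node (.leaf 17438) (.leaf 0)) (.node (.leaf 18710) (.leaf 0)))) (.node (.node (.node (.leaf 12512) (.leaf 17796)) (.node (.leaf 10416) (.leaf 0))) (.node (.node (.leaf 4910) (.leaf 0)) (.node (.leaf 4099) (.leaf 0)))))))) (.node (.node (.node (.node (.node (.node (.node (.leaf 1893) (.leaf 18336))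 (.node (.leaf 3974) (.leaf 0))) (.node (.node (.leaf 14835) (.leaf 14205)) (.node (.leaf 6962) (.leaf 0)))) (.node (.node (.node (.leaf 17770) (.leaf 2981)) (.node (.leaf 3415) (.leaf 0))) (.node (.node (.leaf 14666) (.leaf 0)) (.node (.leaf 4409) (.leaf 0))))) (.node (.node (.node (.node (.leaf 8131) (.leaf 9649)) (.node (.leaf 357) (.leaf 0))) (.node (.node (.leaf 13328) (.leaf 0)) (.node (.leaf 2674) (.leaf 0)))) (.node (.node (.node (.leaf 775) (.leaf 15283)) (.node (.leaf 16405) (.leaf 0))) (.node (.node (.leaf 9793) (.leaf 0)) (.node (.leaf 3517) (.leaf 0)))))) (.node (.node (.node (.node (.node (.leaf 20621) (.leaf 6268)) (.node (.leaf 2941) (.leaf 0))) (.node (.node (.leaf 17957) (.leaf 16612)) (.node (.leaf 20121) (.leaf 0)))) (.node (.node (.node (.leaf 6808) (.leaf 13783)) (.node (.leaf 15025) (.leaf 0))) (.node (.node (.leaf 12125) (.leaf 0)) (.node (.leaf 8527) (.leaf 0))))) (.node (.node (.node (.node (.leaf 5995) (.leaf 18720)) (.node (.leaf 10695) (.leaf 0))) (.node (.node (.leaf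 7710) (.leaf 0)) (.node (.leaf 11349) (.leaf 0)))) (.node (.node (.node (.leaf 13149) (.leaf 7334)) (.node (.leaf 4700) (.leaf 0))) (.node (.node (.leaf 3493) (.leaf 0)) (.node (.leaf 19357) (.leaf 0))))))) (.node (.node (.node (.node (.node (.node (.leaf 17569) (.leaf 4808)) (.node (.leaf 10181) (.leaf 0))) (.node (.node (.leaf 6421) (.leaf 3438)) (.node (.leaf 4118) (.leaf 0)))) (.node (.node (.node (.leaf 10564) (.leaf 11320)) (.node (.leaf 13032) (.leaf 0))) (.node (.node (.leaf 3504) (.leaf 0)) (.node (.leaf 11223) (.leaf 0))))) (.node (.node (.node (.node (.leaf 12450) (.leaf 8992)) (.node (.leaf 8122) (.leaf 0))) (.node (.node (.leaf 3246) (.leaf 0)) (.node (.leaf 7843) (.leaf 0)))) (.node (.node (.node (.leaf 6578) (.leaf 8503)) (.node (.leaf 9084) (.leaf 0))) (.node (.node (.leaf 16294) (.leaf 0)) (.node (.leaf 1159) (.leaf 0)))))) (.node (.node (.node (.node (.node (.leaf 965) (.leaf 12527)) (.node (.leaf 15481) (.leaf 0))) (.node (.node (.leaf 11765) (.leaf 20014)) (.node (.leaf 5337)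 (.leaf 0)))) (.node (.node (.node (.leaf 1190) (.leaf 6113)) (.node (.leaf 8066) (.leaf 0))) (.node (.node (.leaf 17088) (.leaf 0)) (.node (.leaf 610) (.leaf 0))))) (.node (.node (.node (.node (.leaf 14930) (.leaf 13351)) (.node (.leaf 10613) (.leaf 0))) (.node (.node (.leaf 15137) (.leaf 0)) (.node (.leaf 465) (.leaf 0)))) (.node (.node (.node (.leaf 1626) (.leaf 16715)) (.node (.leaf 12926) (.leaf 0))) (.node (.node (.leaf 8574) (.leaf 0)) (.node (.leaf 9528) (.leaf 0)))))))))

/-- part of a table -/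
def ordM101 : Trie := (.node (.node (.node (.node (.node (.node (.node (.node (.leaf 4575) (.leaf 10889)) (.node (.leaf 14884) (.leaf 0))) (.node (.node (.leaf 11111) (.leaf 19443)) (.node (.leaf 2973) (.leaf 0)))) (.node (.node (.node (.leaf 17293) (.leaf 7689)) (.node (.leaf 9894) (.leaf 0))) (.node (.node (.leaf 3176) (.leaf 0)) (.node (.leaf 4236) (.leaf 0))))) (.node (.node (.node (.node (.leaf 8714) (.leaf 5391)) (.node (.leaf 3006) (.leaf 0))) (.node (.node (.leaf 2952) (.leaf 0)) (.node (.leaf 4249) (.leaf 0)))) (.node (.node (.node (.leaf 17163) (.leaf 17694)) (.node (.leaf 18795) (.leaf 0))) (.node (.node (.leaf 7166) (.leaf 0)) (.node (.leaf 13349) (.leaf 0)))))) (.node (.node (.node (.node (.node (.leaf 11832) (.leaf 4076)) (.node (.leaf 15376) (.leaf 0))) (.node (.node (.leaf 16337) (.leaf 14238)) (.node (.leaf 9319) (.leaf 0)))) (.node (.node (.node (.leaf 19273) (.leaf 6641)) (.node (.leaf 169) (.leaf 0))) (.node (.node (.leaf 17431) (.leaf 0)) (.node (.leaf 8203) (.leaf 0))))) (.node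 (.node (.node (.node (.leaf 11203) (.leaf 14260)) (.node (.leaf 4506) (.leaf 0))) (.node (.node (.leaf 2566) (.leaf 0)) (.node (.leaf 6727) (.leaf 0)))) (.node (.node (.node (.leaf 9414) (.leaf 5189)) (.node (.leaf 3001) (.leaf 0))) (.node (.node (.leaf 20586) (.leaf 0)) (.node (.leaf 12665) (.leaf 0))))))) (.node (.node (.node (.node (.node (.node (.leaf 15307) (.leaf 18290)) (.node (.leaf 9774) (.leaf 0))) (.node (.node (.leaf 5403) (.leaf 4238)) (.node (.leaf 21254) (.leaf 0)))) (.node (.node (.node (.leaf 12707) (.leaf 1060)) (.node (.leaf 7269) (.leaf 0))) (.node (.node (.leaf 17813) (.leaf 0)) (.node (.leaf 16256) (.leaf 0))))) (.node (.node (.node (.node (.leaf 12231) (.leaf 12780)) (.node (.leaf 3675) (.leaf 0))) (.node (.node (.leaf 5390) (.leaf 0)) (.node (.leaf 8888) (.leaf 0)))) (.node (.node (.node (.leaf 6341) (.leaf 20426)) (.node (.leaf 8250) (.leaf 0))) (.node (.node (.leaf 11161) (.leaf 0)) (.node (.leaf 10218) (.leaf 0)))))) (.node (.node (.node (.node (.node (.leaf 20993) (.leaf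 9063)) (.node (.leaf 15398) (.leaf 0))) (.node (.node (.leaf 11525) (.leaf 21280)) (.node (.leaf 1329) (.leaf 0)))) (.node (.node (.node (.leaf 5968) (.leaf 20161)) (.node (.leaf 1375) (.leaf 0))) (.node (.node (.leaf 9490) (.leaf 0)) (.node (.leaf 19982) (.leaf 0))))) (.node (.node (.node (.node (.leaf 18897) (.leaf 9692)) (.node (.leaf 2799) (.leaf 0))) (.node (.node (.leaf 1684) (.leaf 0)) (.node (.leaf 2429) (.leaf 0)))) (.node (.node (.node (.leaf 1984) (.leaf 17545)) (.node (.leaf 6937) (.leaf 0))) (.node (.node (.leaf 12279) (.leaf 0)) (.node (.leaf 14424) (.leaf 0)))))))) (.node (.node (.node (.node (.node (.node (.node (.leaf 18253) (.leaf 4714)) (.node (.leaf 8829) (.leaf 0))) (.node (.node (.leaf 17063) (.leaf 5340)) (.node (.leaf 15682) (.leaf 0)))) (.node (.node (.node (.leaf 19561) (.leaf 14060)) (.node (.leaf 9280) (.leaf 0))) (.node (.node (.leaf 14315) (.leaf 0)) (.node (.leaf 5959) (.leaf 0))))) (.node (.node (.node (.node (.leaf 5958) (.leaf 20232)) (.node (.leaf 6669) (.leaf 0)))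 (.node (.node (.leaf 15671) (.leaf 0)) (.node (.leaf 9246) (.leaf 0)))) (.node (.node (.node (.leaf 2050) (.leaf 1875)) (.node (.leaf 14518) (.leaf 0))) (.node (.node (.leaf 11709) (.leaf 0)) (.node (.leaf 13335) (.leaf 0)))))) (.node (.node (.node (.node (.node (.leaf 3485) (.leaf 13125)) (.node (.leaf 180) (.leaf 0))) (.node (.node (.leaf 17068) (.leaf 11488)) (.node (.leaf 21329) (.leaf 0)))) (.node (.node (.node (.leaf 2215) (.leaf 13048)) (.node (.leaf 3078) (.leaf 0))) (.node (.node (.leaf 3595) (.leaf 0)) (.node (.leaf 20828) (.leaf 0))))) (.node (.node (.node (.node (.leaf 8816) (.leaf 3373)) (.node (.leaf 15881) (.leaf 0))) (.node (.node (.leaf 3104) (.leaf 0)) (.node (.leaf 14862) (.leaf 0)))) (.node (.node (.node (.leaf 19337) (.leaf 11264)) (.node (.leaf 2852) (.leaf 0))) (.node (.node (.leaf 1387) (.leaf 0)) (.node (.leaf 18066) (.leaf 0))))))) (.node (.node (.node (.node (.node (.node (.leaf 8344) (.leaf 284)) (.node (.leaf 9790) (.leaf 0))) (.node (.node (.leaf 346) (.leaf 8418)) (.node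 (.leaf 13341) (.leaf 0)))) (.node (.node (.node (.leaf 2120) (.leaf 4367)) (.node (.leaf 7290) (.leaf 0))) (.node (.node (.leaf 739) (.leaf 0)) (.node (.leaf 6752) (.leaf 0))))) (.node (.node (.node (.node (.leaf 11289) (.leaf 13987)) (.node (.leaf 7903) (.leaf 0))) (.node (.node (.leaf 1910) (.leaf 0)) (.node (.leaf 9214) (.leaf 0)))) (.node (.node (.node (.leaf 369) (.leaf 10201)) (.node (.leaf 538) (.leaf 0))) (.node (.node (.leaf 2313) (.leaf 0)) (.node (.leaf 14471) (.leaf 0)))))) (.node (.node (.node (.node (.node (.leaf 3454) (.leaf 18378)) (.node (.leaf 2837) (.leaf 0))) (.node (.node (.leaf 18650) (.leaf 8243)) (.node (.leaf 1694) (.leaf 0)))) (.node (.node (.node (.leaf 12933) (.leaf 6723)) (.node (.leaf 7107) (.leaf 0))) (.node (.node (.leaf 10775) (.leaf 0)) (.node (.leaf 2397) (.leaf 0))))) (.node (.node (.node (.node (.leaf 14289) (.leaf 10279)) (.node (.leaf 7555) (.leaf 0))) (.node (.node (.leaf 4543) (.leaf 0)) (.node (.leaf 7621) (.leaf 0)))) (.node (.node (.node (.leaf 114) (.leaf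 19468)) (.node (.leaf 10452) (.leaf 0))) (.node (.node (.leaf 428) (.leaf 0)) (.node (.leaf 18282) (.leaf 0)))))))))

/-- part of a table -/
def ordM102 : Trie := (.node (.node (.node (.node (.node (.node (.node (.node (.leaf 20106) (.leaf 6110)) (.node (.leaf 17090) (.leaf 0))) (.node (.node (.leaf 8578) (.leaf 4698)) (.node (.leaf 12111) (.leaf 0)))) (.node (.node (.node (.leaf 16878) (.leaf 20430)) (.node (.leaf 20626) (.leaf 0))) (.node (.node (.leaf 19057) (.leaf 0)) (.node (.leaf 21403) (.leaf 0))))) (.node (.node (.node (.node (.leaf 15904) (.leaf 20099)) (.node (.leaf 18638) (.leaf 0))) (.node (.node (.leaf 14754) (.leaf 0)) (.node (.leaf 21445) (.leaf 0)))) (.node (.node (.node (.leaf 12971) (.leaf 9525)) (.node (.leaf 11989) (.leaf 0))) (.node (.node (.leaf 9149) (.leaf 0)) (.node (.leaf 16091) (.leaf 0)))))) (.node (.node (.node (.node (.node (.leaf 16439) (.leaf 12351)) (.node (.leaf 6513) (.leaf 0))) (.node (.node (.leaf 11301) (.leaf 19879)) (.node (.leaf 11188) (.leaf 0)))) (.node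 (.node (.node (.leaf 3683) (.leaf 17946)) (.node (.leaf 10978) (.leaf 0))) (.node (.node (.leaf 16260) (.leaf 0)) (.node (.leaf 20137) (.leaf 0))))) (.node (.node (.node (.node (.leaf 12124) (.leaf 2214)) (.node (.leaf 20145) (.leaf 0))) (.node (.node (.leaf 11655) (.leaf 0)) (.node (.leaf 16647) (.leaf 0)))) (.node (.node (.node (.leaf 2341) (.leaf 17205)) (.node (.leaf 7876) (.leaf 0))) (.node (.node (.leaf 10854) (.leaf 0)) (.node (.leaf 11499) (.leaf 0))))))) (.node (.node (.node (.node (.node (.node (.leaf 7145) (.leaf 1738)) (.node (.leaf 520) (.leaf 0))) (.node (.node (.leaf 10620) (.leaf 3635)) (.node (.leaf 19650) (.leaf 0)))) (.node (.node (.node (.leaf 13165) (.leaf 669)) (.node (.leaf 5208) (.leaf 0))) (.node (.node (.leaf 5955) (.leaf 0)) (.node (.leaf 5650) (.leaf 0))))) (.node (.node (.node (.node (.leaf 16312) (.leaf 15992)) (.node (.leaf 5313) (.leaf 0))) (.node (.node (.leaf 14932) (.leaf 0)) (.node (.leaf 21487) (.leaf 0)))) (.node (.node (.node (.leaf 13646) (.leaf 8145)) (.node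 (.leaf 5303) (.leaf 0))) (.node (.node (.leaf 8966) (.leaf 0)) (.node (.leaf 10344) (.leaf 0)))))) (.node (.node (.node (.node (.node (.leaf 2370) (.leaf 12932)) (.node (.leaf 11211) (.leaf 0))) (.node (.node (.leaf 174) (.leaf 18536)) (.node (.leaf 11514) (.leaf 0)))) (.node (.node (.node (.leaf 485) (.leaf 8670)) (.node (.leaf 19166) (.leaf 0))) (.node (.node (.leaf 6701) (.leaf 0)) (.node (.leaf 1241) (.leaf 0))))) (.node (.node (.node (.node (.leaf 1624) (.leaf 12864)) (.node (.leaf 19324) (.leaf 0))) (.node (.node (.leaf 5647) (.leaf 0)) (.node (.leaf 20006) (.leaf 0)))) (.node (.node (.node (.leaf 1599) (.leaf 865)) (.node (.leaf 9919) (.leaf 0))) (.node (.node (.leaf 16370) (.leaf 0)) (.node (.leaf 15280) (.leaf 0)))))))) (.node (.node (.node (.node (.node (.node (.node (.leaf 4527) (.leaf 8660)) (.node (.leaf 15707) (.leaf 0))) (.node (.node (.leaf 4638) (.leaf 11030)) (.node (.leaf 2172) (.leaf 0)))) (.node (.node (.node (.leaf 18709) (.leaf 12309)) (.node (.leaf 9456) (.leaf 0))) (.node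 (.node (.leaf 3407) (.leaf 0)) (.node (.leaf 14122) (.leaf 0))))) (.node (.node (.node (.node (.leaf 8641) (.leaf 2645)) (.node (.leaf 9788) (.leaf 0))) (.node (.node (.leaf 20589) (.leaf 0)) (.node (.leaf 16685) (.leaf 0)))) (.node (.node (.node (.leaf 21105) (.leaf 4094)) (.node (.leaf 471) (.leaf 0))) (.node (.node (.leaf 2805) (.leaf 0)) (.node (.leaf 96) (.leaf 0)))))) (.node (.node (.node (.node (.node (.leaf 17) (.leaf 15324)) (.node (.leaf 9554) (.leaf 0))) (.node (.node (.leaf 5143) (.leaf 1302)) (.node (.leaf 3666) (.leaf 0)))) (.node (.node (.node (.leaf 15279) (.leaf 4768)) (.node (.leaf 9484) (.leaf 0))) (.node (.node (.leaf 3258) (.leaf 0)) (.node (.leaf 10323) (.leaf 0))))) (.node (.node (.node (.node (.leaf 6289) (.leaf 13952)) (.node (.leaf 18349) (.leaf 0))) (.node (.node (.leaf 19567) (.leaf 0)) (.node (.leaf 5707) (.leaf 0)))) (.node (.node (.node (.leaf 441) (.leaf 14973)) (.node (.leaf 3510) (.leaf 0))) (.node (.node (.leaf 20958) (.leaf 0)) (.node (.leaf 3537) (.leaf 0)))))))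 (.node (.node (.node (.node (.node (.node (.leaf 16300) (.leaf 19375)) (.node (.leaf 8248) (.leaf 0))) (.node (.node (.leaf 8995) (.leaf 17173)) (.node (.leaf 5846) (.leaf 0)))) (.node (.node (.node (.leaf 11891) (.leaf 4291)) (.node (.leaf 12017) (.leaf 0))) (.node (.node (.leaf 7849) (.leaf 0)) (.node (.leaf 11726) (.leaf 0))))) (.node (.node (.node (.node (.leaf 7697) (.leaf 12134)) (.node (.leaf 14664) (.leaf 0))) (.node (.node (.leaf 11991) (.leaf 0)) (.node (.leaf 9962) (.leaf 0)))) (.node (.node (.node (.leaf 19633) (.leaf 18611)) (.node (.leaf 16783) (.leaf 0))) (.node (.node (.leaf 21042) (.leaf 0)) (.node (.leaf 1557) (.leaf 0)))))) (.node (.node (.node (.node (.node (.leaf 8867) (.leaf 6126)) (.node (.leaf 13432) (.leaf 0))) (.node (.node (.leaf 3553) (.leaf 6327)) (.node (.leaf 15253) (.leaf 0)))) (.node (.node (.node (.leaf 14239) (.leaf 8654)) (.node (.leaf 10644) (.leaf 0))) (.node (.node (.leaf 9561) (.leaf 0)) (.node (.leaf 8318) (.leaf 0))))) (.node (.node (.node (.node (.leaf 13096)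 (.leaf 1782)) (.node (.leaf 9495) (.leaf 0))) (.node (.node (.leaf 10468) (.leaf 0)) (.node (.leaf 8797) (.leaf 0)))) (.node (.node (.node (.leaf 20404) (.leaf 19260)) (.node (.leaf 17499) (.leaf 0))) (.node (.node (.leaf 7500) (.leaf 0)) (.node (.leaf 17241) (.leaf 0)))))))))

/-- part of a table -/
def ordM103 : Trie := (.node (.node (.node (.node (.node (.node (.node (.node (.leaf 11267) (.leaf 5982)) (.node (.leaf 10782) (.leaf 0))) (.node (.node (.leaf 20700) (.leaf 7745)) (.node (.leaf 3127) (.leaf 0)))) (.node (.node (.node (.leaf 13339) (.leaf 19453)) (.node (.leaf 15895) (.leaf 0))) (.node (.node (.leaf 19739) (.leaf 0)) (.node (.leaf 13401) (.leaf 0))))) (.node (.node (.node (.node (.leaf 10890) (.leaf 13419)) (.node (.leaf 9051) (.leaf 0))) (.node (.node (.leaf 7520) (.leaf 0)) (.node (.leaf 6955) (.leaf 0)))) (.node (.node (.node (.leaf 15432) (.leaf 12230)) (.node (.leaf 15328) (.leaf 0))) (.node (.node (.leaf 10146) (.leaf 0)) (.node (.leaf 12093) (.leaf 0)))))) (.node (.node (.node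 (.node (.node (.leaf 3614) (.leaf 1110)) (.node (.leaf 15963) (.leaf 0))) (.node (.node (.leaf 1036) (.leaf 10442)) (.node (.leaf 4446) (.leaf 0)))) (.node (.node (.node (.leaf 11667) (.leaf 17849)) (.node (.leaf 16566) (.leaf 0))) (.node (.node (.leaf 10361) (.leaf 0)) (.node (.leaf 19286) (.leaf 0))))) (.node (.node (.node (.node (.leaf 12376) (.leaf 4812)) (.node (.leaf 18364) (.leaf 0))) (.node (.node (.leaf 14379) (.leaf 0)) (.node (.leaf 16456) (.leaf 0)))) (.node (.node (.node (.leaf 13223) (.leaf 7879)) (.node (.leaf 5690) (.leaf 0))) (.node (.node (.leaf 18830) (.leaf 0)) (.node (.leaf 4363) (.leaf 0))))))) (.node (.node (.node (.node (.node (.node (.leaf 13683) (.leaf 16801)) (.node (.leaf 1947) (.leaf 0))) (.node (.node (.leaf 2791) (.leaf 177)) (.node (.leaf 5836) (.leaf 0)))) (.node (.node (.node (.leaf 14916) (.leaf 9478)) (.node (.leaf 18545) (.leaf 0))) (.node (.node (.leaf 8280) (.leaf 0)) (.node (.leaf 4696) (.leaf 0))))) (.node (.node (.node (.node (.leaf 17695) (.leaf 3240)) (.node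 (.leaf 2032) (.leaf 0))) (.node (.node (.leaf 8569) (.leaf 0)) (.node (.leaf 21464) (.leaf 0)))) (.node (.node (.node (.leaf 10983) (.leaf 10712)) (.node (.leaf 8210) (.leaf 0))) (.node (.node (.leaf 3449) (.leaf 0)) (.node (.leaf 12775) (.leaf 0)))))) (.node (.node (.node (.node (.node (.leaf 14653) (.leaf 1187)) (.node (.leaf 16257) (.leaf 0))) (.node (.node (.leaf 4005) (.leaf 10856)) (.node (.leaf 16624) (.leaf 0)))) (.node (.node (.node (.leaf 8327) (.leaf 4709)) (.node (.leaf 16048) (.leaf 0))) (.node (.node (.leaf 15026) (.leaf 0)) (.node (.leaf 3671) (.leaf 0))))) (.node (.node (.node (.node (.leaf 112) (.leaf 1426)) (.node (.leaf 20540) (.leaf 0))) (.node (.node (.leaf 10475) (.leaf 0)) (.node (.leaf 12439) (.leaf 0)))) (.node (.node (.node (.leaf 4742) (.leaf 3015)) (.node (.leaf 13793) (.leaf 0))) (.node (.node (.leaf 18533) (.leaf 0)) (.node (.leaf 13415) (.leaf 0)))))))) (.node (.node (.node (.node (.node (.node (.node (.leaf 2479) (.leaf 11116)) (.node (.leaf 9239) (.leaf 0))) (.node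 (.node (.leaf 11489) (.leaf 2176)) (.node (.leaf 18489) (.leaf 0)))) (.node (.node (.node (.leaf 2427) (.leaf 831)) (.node (.leaf 2616) (.leaf 0))) (.node (.node (.leaf 9900) (.leaf 0)) (.node (.leaf 17609) (.leaf 0))))) (.node (.node (.node (.node (.leaf 13626) (.leaf 17584)) (.node (.leaf 20356) (.leaf 0))) (.node (.node (.leaf 18789) (.leaf 0)) (.node (.leaf 7608) (.leaf 0)))) (.node (.node (.node (.leaf 16885) (.leaf 14423)) (.node (.leaf 10947) (.leaf 0))) (.node (.node (.leaf 8015) (.leaf 0)) (.node (.leaf 1486) (.leaf 0)))))) (.node (.node (.node (.node (.node (.leaf 4632) (.leaf 16476)) (.node (.leaf 14346) (.leaf 0))) (.node (.node (.leaf 11941) (.leaf 4322)) (.node (.leaf 10548) (.leaf 0)))) (.node (.node (.node (.leaf 14014) (.leaf 11474)) (.node (.leaf 21286) (.leaf 0))) (.node (.node (.leaf 11204) (.leaf 0)) (.node (.leaf 2881) (.leaf 0))))) (.node (.node (.node (.node (.leaf 2062) (.leaf 18735)) (.node (.leaf 16731) (.leaf 0))) (.node (.node (.leaf 5540) (.leaf 0)) (.node (.leaf 16199)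 (.leaf 0)))) (.node (.node (.node (.leaf 7560) (.leaf 14279)) (.node (.leaf 9035) (.leaf 0))) (.node (.node (.leaf 13304) (.leaf 0)) (.node (.leaf 9599) (.leaf 0))))))) (.node (.node (.node (.node (.node (.node (.leaf 17080) (.leaf 20982)) (.node (.leaf 10517) (.leaf 0))) (.node (.node (.leaf 19371) (.leaf 10590)) (.node (.leaf 13812) (.leaf 0)))) (.node (.node (.node (.leaf 5552) (.leaf 6826)) (.node (.leaf 6451) (.leaf 0))) (.node (.node (.leaf 2847) (.leaf 0)) (.node (.leaf 9117) (.leaf 0))))) (.node (.node (.node (.node (.leaf 16881) (.leaf 12505)) (.node (.leaf 16687) (.leaf 0))) (.node (.node (.leaf 19154) (.leaf 0)) (.node (.leaf 8186) (.leaf 0)))) (.node (.node (.node (.leaf 17121) (.leaf 6194)) (.node (.leaf 8357) (.leaf 0))) (.node (.node (.leaf 6800) (.leaf 0)) (.node (.leaf 660) (.leaf 0)))))) (.node (.node (.node (.node (.node (.leaf 12884) (.leaf 17930)) (.node (.leaf 16251) (.leaf 0))) (.node (.node (.leaf 18441) (.leaf 3410)) (.node (.leaf 2290) (.leaf 0)))) (.node (.node (.node (.leaf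 5867) (.leaf 20156)) (.node (.leaf 15058) (.leaf 0))) (.node (.node (.leaf 15956) (.leaf 0)) (.node (.leaf 16838) (.leaf 0))))) (.node (.node (.node (.node (.leaf 4517) (.leaf 81)) (.node (.leaf 13801) (.leaf 0))) (.node (.node (.leaf 13916) (.leaf 0)) (.node (.leaf 586) (.leaf 0)))) (.node (.node (.node (.leaf 18813) (.leaf 10969)) (.node (.leaf 7459) (.leaf 0))) (.node (.node (.leaf 14445) (.leaf 0)) (.node (.leaf 19496) (.leaf 0)))))))))

/-- part of a table -/
def ordM104 : Trie := (.node (.node (.node (.node (.node (.node (.node (.node (.leaf 1636) (.leaf 15383)) (.node (.leaf 16915) (.leaf 0))) (.node (.node (.leaf 20873) (.leaf 20011)) (.node (.leaf 14327) (.leaf 0)))) (.node (.node (.node (.leaf 20262) (.leaf 2912)) (.node (.leaf 13963) (.leaf 0))) (.node (.node (.leaf 21220) (.leaf 0)) (.node (.leaf 12666) (.leaf 0))))) (.node (.node (.node (.node (.leaf 18196) (.leaf 3807)) (.node (.leaf 7648) (.leaf 0))) (.node (.node (.leaf 297) (.leaf 0)) (.node (.leaf 6842) (.leaf 0)))) (.node (.node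 (.node (.leaf 13927) (.leaf 7640)) (.node (.leaf 20788) (.leaf 0))) (.node (.node (.leaf 8214) (.leaf 0)) (.node (.leaf 18808) (.leaf 0)))))) (.node (.node (.node (.node (.node (.leaf 7315) (.leaf 16139)) (.node (.leaf 19228) (.leaf 0))) (.node (.node (.leaf 16528) (.leaf 11315)) (.node (.leaf 10315) (.leaf 0)))) (.node (.node (.node (.leaf 10332) (.leaf 11560)) (.node (.leaf 15591) (.leaf 0))) (.node (.node (.leaf 15404) (.leaf 0)) (.node (.leaf 4649) (.leaf 0))))) (.node (.node (.node (.node (.leaf 7170) (.leaf 997)) (.node (.leaf 828) (.leaf 0))) (.node (.node (.leaf 2323) (.leaf 0)) (.node (.leaf 17624) (.leaf 0)))) (.node (.node (.node (.leaf 8906) (.leaf 1457)) (.node (.leaf 17321) (.leaf 0))) (.node (.node (.leaf 576) (.leaf 0)) (.node (.leaf 2208) (.leaf 0))))))) (.node (.node (.node (.node (.node (.node (.leaf 13022) (.leaf 16637)) (.node (.leaf 17235) (.leaf 0))) (.node (.node (.leaf 5770) (.leaf 16754)) (.node (.leaf 4875) (.leaf 0)))) (.node (.node (.node (.leaf 410) (.leaf 20205)) (.node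 (.leaf 14233) (.leaf 0))) (.node (.node (.leaf 15078) (.leaf 0)) (.node (.leaf 19990) (.leaf 0))))) (.node (.node (.node (.node (.leaf 12367) (.leaf 1540)) (.node (.leaf 18200) (.leaf 0))) (.node (.node (.leaf 10131) (.leaf 0)) (.node (.leaf 13535) (.leaf 0)))) (.node (.node (.node (.leaf 5350) (.leaf 10165)) (.node (.leaf 1859) (.leaf 0))) (.node (.node (.leaf 18058) (.leaf 0)) (.node (.leaf 4148) (.leaf 0)))))) (.node (.node (.node (.node (.node (.leaf 13622) (.leaf 7725)) (.node (.leaf 15175) (.leaf 0))) (.node (.node (.leaf 20911) (.leaf 146)) (.node (.leaf 9967) (.leaf 0)))) (.node (.node (.node (.leaf 20350) (.leaf 5732)) (.node (.leaf 7545) (.leaf 0))) (.node (.node (.leaf 17622) (.leaf 0)) (.node (.leaf 13680) (.leaf 0))))) (.node (.node (.node (.node (.leaf 16509) (.leaf 20481)) (.node (.leaf 4189) (.leaf 0))) (.node (.node (.leaf 4604) (.leaf 0)) (.node (.leaf 4046) (.leaf 0)))) (.node (.node (.node (.leaf 7026) (.leaf 14795)) (.node (.leaf 4202) (.leaf 0))) (.node (.node (.leaf 13911)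 (.leaf 0)) (.node (.leaf 16490) (.leaf 0)))))))) (.node (.node (.node (.node (.node (.node (.node (.leaf 1122) (.leaf 12647)) (.node (.leaf 18674) (.leaf 0))) (.node (.node (.leaf 4080) (.leaf 11708)) (.node (.leaf 10868) (.leaf 0)))) (.node (.node (.node (.leaf 612) (.leaf 15703)) (.node (.leaf 20047) (.leaf 0))) (.node (.node (.leaf 6399) (.leaf 0)) (.node (.leaf 7262) (.leaf 0))))) (.node (.node (.node (.node (.leaf 18701) (.leaf 13656)) (.node (.leaf 1081) (.leaf 0))) (.node (.node (.leaf 10061) (.leaf 0)) (.node (.leaf 15109) (.leaf 0)))) (.node (.node (.node (.leaf 5255) (.leaf 12163)) (.node (.leaf 19725) (.leaf 0))) (.node (.node (.leaf 8558) (.leaf 0)) (.node (.leaf 14539) (.leaf 0)))))) (.node (.node (.node (.node (.node (.leaf 8150) (.leaf 12708)) (.node (.leaf 9574) (.leaf 0))) (.node (.node (.leaf 15332) (.leaf 2931)) (.node (.leaf 8896) (.leaf 0)))) (.node (.node (.node (.leaf 6983) (.leaf 3430)) (.node (.leaf 9504) (.leaf 0))) (.node (.node (.leaf 15017) (.leaf 0)) (.node (.leaf 18176)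 (.leaf 0))))) (.node (.node (.node (.node (.leaf 2237) (.leaf 4865)) (.node (.leaf 2896) (.leaf 0))) (.node (.node (.leaf 18774) (.leaf 0)) (.node (.leaf 14139) (.leaf 0)))) (.node (.node (.node (.leaf 12983) (.leaf 5595)) (.node (.leaf 17467) (.leaf 0))) (.node (.node (.leaf 7856) (.leaf 0)) (.node (.leaf 18746) (.leaf 0))))))) (.node (.node (.node (.node (.node (.node (.leaf 9798) (.leaf 9898)) (.node (.leaf 9141) (.leaf 0))) (.node (.node (.leaf 5370) (.leaf 4334)) (.node (.leaf 7498) (.leaf 0)))) (.node (.node (.node (.leaf 1434) (.leaf 15230)) (.node (.leaf 10122) (.leaf 0))) (.node (.node (.leaf 9606) (.leaf 0)) (.node (.leaf 2181) (.leaf 0))))) (.node (.node (.node (.node (.leaf 13773) (.leaf 9834)) (.node (.leaf 9271) (.leaf 0))) (.node (.node (.leaf 12726) (.leaf 0)) (.node (.leaf 11103) (.leaf 0)))) (.node (.node (.node (.leaf 13606) (.leaf 8702)) (.node (.leaf 15406) (.leaf 0))) (.node (.node (.leaf 18942) (.leaf 0)) (.node (.leaf 1526) (.leaf 0)))))) (.node (.node (.node (.node (.node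 (.leaf 17769) (.leaf 8492)) (.node (.leaf 9103) (.leaf 0))) (.node (.node (.leaf 12978) (.leaf 16863)) (.node (.leaf 15813) (.leaf 0)))) (.node (.node (.node (.leaf 10232) (.leaf 18197)) (.node (.leaf 20942) (.leaf 0))) (.node (.node (.leaf 11335) (.leaf 0)) (.node (.leaf 21423) (.leaf 0))))) (.node (.node (.node (.node (.leaf 13740) (.leaf 20994)) (.node (.leaf 20562) (.leaf 0))) (.node (.node (.leaf 2518) (.leaf 0)) (.node (.leaf 15515) (.leaf 0)))) (.node (.node (.node (.leaf 6345) (.leaf 1728)) (.node (.leaf 6323) (.leaf 0))) (.node (.node (.leaf 20907) (.leaf 0)) (.node (.leaf 6143) (.leaf 0)))))))))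

/-- part of a table -/
def ordM105 : Trie := (.node (.node (.node (.node (.node (.node (.node (.node (.leaf 70) (.leaf 11826)) (.node (.leaf 20546) (.leaf 0))) (.node (.node (.leaf 20601) (.leaf 8706)) (.node (.leaf 9908) (.leaf 0)))) (.node (.node (.node (.leaf 9216) (.leaf 217)) (.node (.leaf 12323) (.leaf 0))) (.node (.node (.leaf 18525) (.leaf 0)) (.node (.leaf 12961) (.leaf 0))))) (.node (.node (.node (.node (.leaf 8233) (.leaf 20484)) (.node (.leaf 6154) (.leaf 0))) (.node (.node (.leaf 5607) (.leaf 0)) (.node (.leaf 15683) (.leaf 0)))) (.node (.node (.node (.leaf 1514) (.leaf 2969)) (.node (.leaf 13972) (.leaf 0))) (.node (.node (.leaf 2698) (.leaf 0)) (.node (.leaf 20624) (.leaf 0)))))) (.node (.node (.node (.node (.node (.leaf 11877) (.leaf 1657)) (.node (.leaf 20821) (.leaf 0))) (.node (.node (.leaf 9698) (.leaf 4352)) (.node (.leaf 648) (.leaf 0)))) (.node (.node (.node (.leaf 14264) (.leaf 5821)) (.node (.leaf 20538) (.leaf 0))) (.node (.node (.leaf 17740) (.leaf 0)) (.node (.leaf 1872)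 (.leaf 0))))) (.node (.node (.node (.node (.leaf 7816) (.leaf 13698)) (.node (.leaf 12291) (.leaf 0))) (.node (.node (.leaf 624) (.leaf 0)) (.node (.leaf 17455) (.leaf 0)))) (.node (.node (.node (.leaf 17380) (.leaf 6478)) (.node (.leaf 2906) (.leaf 0))) (.node (.node (.leaf 143) (.leaf 0)) (.node (.leaf 689) (.leaf 0))))))) (.node (.node (.node (.node (.node (.node (.leaf 3113) (.leaf 7160)) (.node (.leaf 16498) (.leaf 0))) (.node (.node (.leaf 12357) (.leaf 10357)) (.node (.leaf 11393) (.leaf 0)))) (.node (.node (.node (.leaf 5053) (.leaf 6797)) (.node (.leaf 5971) (.leaf 0))) (.node (.node (.leaf 8113) (.leaf 0)) (.node (.leaf 21297) (.leaf 0))))) (.node (.node (.node (.node (.leaf 20956) (.leaf 678)) (.node (.leaf 18694) (.leaf 0))) (.node (.node (.leaf 3875) (.leaf 0)) (.node (.leaf 5979) (.leaf 0)))) (.node (.node (.node (.leaf 1478) (.leaf 12813)) (.node (.leaf 16952) (.leaf 0))) (.node (.node (.leaf 17572) (.leaf 0)) (.node (.leaf 1358) (.leaf 0)))))) (.node (.node (.node (.node (.node (.leaf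 12522) (.leaf 13411)) (.node (.leaf 15850) (.leaf 0))) (.node (.node (.leaf 19795) (.leaf 3169)) (.node (.leaf 8071) (.leaf 0)))) (.node (.node (.node (.leaf 16980) (.leaf 20969)) (.node (.leaf 19542) (.leaf 0))) (.node (.node (.leaf 9544) (.leaf 0)) (.node (.leaf 7994) (.leaf 0))))) (.node (.node (.node (.node (.leaf 15239) (.leaf 19208)) (.node (.leaf 14511) (.leaf 0))) (.node (.node (.leaf 1655) (.leaf 0)) (.node (.leaf 16832) (.leaf 0)))) (.node (.node (.node (.leaf 1669) (.leaf 14020)) (.node (.leaf 10095) (.leaf 0))) (.node (.node (.leaf 11312) (.leaf 0)) (.node (.leaf 3025) (.leaf 0)))))))) (.node (.node (.node (.node (.node (.node (.node (.leaf 12356) (.leaf 19657)) (.node (.leaf 10512) (.leaf 0))) (.node (.node (.leaf 10631) (.leaf 7672)) (.node (.leaf 7980) (.leaf 0)))) (.node (.node (.node (.leaf 2398) (.leaf 2490)) (.node (.leaf 20763) (.leaf 0))) (.node (.node (.leaf 15466) (.leaf 0)) (.node (.leaf 7615) (.leaf 0))))) (.node (.node (.node (.node (.leaf 4441) (.leaf 14623)) (.node (.leaf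 12823) (.leaf 0))) (.node (.node (.leaf 13011) (.leaf 0)) (.node (.leaf 19839) (.leaf 0)))) (.node (.node (.node (.leaf 6934) (.leaf 20166)) (.node (.leaf 7244) (.leaf 0))) (.node (.node (.leaf 1956) (.leaf 0)) (.node (.leaf 9152) (.leaf 0)))))) (.node (.node (.node (.node (.node (.leaf 20148) (.leaf 3911)) (.node (.leaf 16504) (.leaf 0))) (.node (.node (.leaf 14192) (.leaf 6878)) (.node (.leaf 18577) (.leaf 0)))) (.node (.node (.node (.leaf 17730) (.leaf 6033)) (.node (.leaf 19334) (.leaf 0))) (.node (.node (.leaf 4384) (.leaf 0)) (.node (.leaf 17891) (.leaf 0))))) (.node (.node (.node (.node (.leaf 17318) (.leaf 20146)) (.node (.leaf 937) (.leaf 0))) (.node (.node (.leaf 9865) (.leaf 0)) (.node (.leaf 6206) (.leaf 0)))) (.node (.node (.node (.leaf 7670) (.leaf 18116)) (.node (.leaf 12062) (.leaf 0))) (.node (.node (.leaf 2862) (.leaf 0)) (.node (.leaf 3773) (.leaf 0))))))) (.node (.node (.node (.node (.node (.node (.leaf 711) (.leaf 13275)) (.node (.leaf 19607) (.leaf 0))) (.node (.node (.leaf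 8155) (.leaf 7585)) (.node (.leaf 14444) (.leaf 0)))) (.node (.node (.node (.leaf 5186) (.leaf 1796)) (.node (.leaf 7216) (.leaf 0))) (.node (.node (.leaf 17522) (.leaf 0)) (.node (.leaf 19023) (.leaf 0))))) (.node (.node (.node (.node (.leaf 20694) (.leaf 10378)) (.node (.leaf 11396) (.leaf 0))) (.node (.node (.leaf 6097) (.leaf 0)) (.node (.leaf 15567) (.leaf 0)))) (.node (.node (.node (.leaf 15826) (.leaf 4263)) (.node (.leaf 3802) (.leaf 0))) (.node (.node (.leaf 2078) (.leaf 0)) (.node (.leaf 16998) (.leaf 0)))))) (.node (.node (.node (.node (.node (.leaf 2411) (.leaf 7731)) (.node (.leaf 21164) (.leaf 0))) (.node (.node (.leaf 16745) (.leaf 9231)) (.node (.leaf 20688) (.leaf 0)))) (.node (.node (.node (.leaf 3694) (.leaf 14218)) (.node (.leaf 4926) (.leaf 0))) (.node (.node (.leaf 14923) (.leaf 0)) (.node (.leaf 15622) (.leaf 0))))) (.node (.node (.node (.node (.leaf 10898) (.leaf 10850)) (.node (.leaf 13374) (.leaf 0))) (.node (.node (.leaf 3475) (.leaf 0)) (.node (.leaf 4054) (.leaf 0))))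 (.node (.node (.node (.leaf 4594) (.leaf 5856)) (.node (.leaf 2118) (.leaf 0))) (.node (.node (.leaf 15768) (.leaf 0)) (.node (.leaf 14597) (.leaf 0)))))))))

/-- part of a table -/
def ordM106 : Trie := (.node (.node (.node (.node (.node (.node (.node (.node (.leaf 1077) (.leaf 18195)) (.node (.leaf 9548) (.leaf 0))) (.node (.node (.leaf 100) (.leaf 8634)) (.node (.leaf 16707) (.leaf 0)))) (.node (.node (.node (.leaf 9964) (.leaf 16947)) (.node (.leaf 2573) (.leaf 0))) (.node (.node (.leaf 18828) (.leaf 0)) (.node (.leaf 6043) (.leaf 0))))) (.node (.node (.node (.node (.leaf 9767) (.leaf 18125)) (.node (.leaf 16987) (.leaf 0))) (.node (.node (.leaf 7359) (.leaf 0)) (.node (.leaf 5245) (.leaf 0)))) (.node (.node (.node (.leaf 10648) (.leaf 12366)) (.node (.leaf 1435) (.leaf 0))) (.node (.node (.leaf 2456) (.leaf 0)) (.node (.leaf 2287) (.leaf 0)))))) (.node (.node (.node (.node (.node (.leaf 10570) (.leaf 14388)) (.node (.leaf 4766) (.leaf 0))) (.node (.node (.leaf 902) (.leaf 46)) (.node (.leaf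 6987) (.leaf 0)))) (.node (.node (.node (.leaf 10689) (.leaf 13354)) (.node (.leaf 4347) (.leaf 0))) (.node (.node (.leaf 12840) (.leaf 0)) (.node (.leaf 7307) (.leaf 0))))) (.node (.node (.node (.node (.leaf 8187) (.leaf 20423)) (.node (.leaf 20513) (.leaf 0))) (.node (.node (.leaf 19844) (.leaf 0)) (.node (.leaf 4798) (.leaf 0)))) (.node (.node (.node (.leaf 6213) (.leaf 7812)) (.node (.leaf 15190) (.leaf 0))) (.node (.node (.leaf 8626) (.leaf 0)) (.node (.leaf 10020) (.leaf 0))))))) (.node (.node (.node (.node (.node (.node (.leaf 9090) (.leaf 6312)) (.node (.leaf 17741) (.leaf 0))) (.node (.node (.leaf 5492) (.leaf 19201)) (.node (.leaf 7178) (.leaf 0)))) (.node (.node (.node (.leaf 16475) (.leaf 17278)) (.node (.leaf 488) (.leaf 0))) (.node (.node (.leaf 13430) (.leaf 0)) (.node (.leaf 2842) (.leaf 0))))) (.node (.node (.node (.node (.leaf 7641) (.leaf 18326)) (.node (.leaf 3993) (.leaf 0))) (.node (.node (.leaf 15293) (.leaf 0)) (.node (.leaf 13439) (.leaf 0)))) (.node (.node (.node (.leaf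 16927) (.leaf 19448)) (.node (.leaf 8554) (.leaf 0))) (.node (.node (.leaf 12534) (.leaf 0)) (.node (.leaf 9001) (.leaf 0)))))) (.node (.node (.node (.node (.node (.leaf 16090) (.leaf 7756)) (.node (.leaf 280) (.leaf 0))) (.node (.node (.leaf 7540) (.leaf 10424)) (.node (.leaf 18222) (.leaf 0)))) (.node (.node (.node (.leaf 7147) (.leaf 7380)) (.node (.leaf 44) (.leaf 0))) (.node (.node (.leaf 5924) (.leaf 0)) (.node (.leaf 13017) (.leaf 0))))) (.node (.node (.node (.node (.leaf 11905) (.leaf 6335)) (.node (.leaf 7604) (.leaf 0))) (.node (.node (.leaf 6764) (.leaf 0)) (.node (.leaf 16339) (.leaf 0)))) (.node (.node (.node (.leaf 5663) (.leaf 16151)) (.node (.leaf 10312) (.leaf 0))) (.node (.node (.leaf 10052) (.leaf 0)) (.node (.leaf 12167) (.leaf 0)))))))) (.node (.node (.node (.node (.node (.node (.node (.leaf 11815) (.leaf 12854)) (.node (.leaf 8959) (.leaf 0))) (.node (.node (.leaf 14947) (.leaf 11050)) (.node (.leaf 11845) (.leaf 0)))) (.node (.node (.node (.leaf 7819) (.leaf 11433)) (.node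 (.leaf 8098) (.leaf 0))) (.node (.node (.leaf 3387) (.leaf 0)) (.node (.leaf 6287) (.leaf 0))))) (.node (.node (.node (.node (.leaf 7551) (.leaf 15754)) (.node (.leaf 4402) (.leaf 0))) (.node (.node (.leaf 9137) (.leaf 0)) (.node (.leaf 4212) (.leaf 0)))) (.node (.node (.node (.leaf 18255) (.leaf 12208)) (.node (.leaf 12030) (.leaf 0))) (.node (.node (.leaf 21156) (.leaf 0)) (.node (.leaf 7291) (.leaf 0)))))) (.node (.node (.node (.node (.node (.leaf 5777) (.leaf 14917)) (.node (.leaf 1470) (.leaf 0))) (.node (.node (.leaf 6846) (.leaf 11138)) (.node (.leaf 8519) (.leaf 0)))) (.node (.node (.node (.leaf 13699) (.leaf 3716)) (.node (.leaf 9567) (.leaf 0))) (.node (.node (.leaf 3065) (.leaf 0)) (.node (.leaf 2255) (.leaf 0))))) (.node (.node (.node (.node (.leaf 19553) (.leaf 20689)) (.node (.leaf 8371) (.leaf 0))) (.node (.node (.leaf 11316) (.leaf 0)) (.node (.leaf 4428) (.leaf 0)))) (.node (.node (.node (.leaf 19321) (.leaf 1631)) (.node (.leaf 1825) (.leaf 0))) (.node (.node (.leaf 3519) (.leaf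 0)) (.node (.leaf 3713) (.leaf 0))))))) (.node (.node (.node (.node (.node (.node (.leaf 14712) (.leaf 13192)) (.node (.leaf 4381) (.leaf 0))) (.node (.node (.leaf 7201) (.leaf 11465)) (.node (.leaf 12671) (.leaf 0)))) (.node (.node (.node (.leaf 14213) (.leaf 11082)) (.node (.leaf 5087) (.leaf 0))) (.node (.node (.leaf 15441) (.leaf 0)) (.node (.leaf 18030) (.leaf 0))))) (.node (.node (.node (.node (.leaf 15262) (.leaf 9462)) (.node (.leaf 8608) (.leaf 0))) (.node (.node (.leaf 4495) (.leaf 0)) (.node (.leaf 21170) (.leaf 0)))) (.node (.node (.node (.leaf 4138) (.leaf 3274)) (.node (.leaf 4016) (.leaf 0))) (.node (.node (.leaf 3093) (.leaf 0)) (.node (.leaf 18415) (.leaf 0)))))) (.node (.node (.node (.node (.node (.leaf 21112) (.leaf 20518)) (.node (.leaf 17443) (.leaf 0))) (.node (.node (.leaf 8846) (.leaf 5568)) (.node (.leaf 10523) (.leaf 0)))) (.node (.node (.node (.leaf 4353) (.leaf 18333)) (.node (.leaf 8785) (.leaf 0))) (.node (.node (.leaf 9019) (.leaf 0)) (.node (.leaf 20534) (.leaf 0)))))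 (.node (.node (.node (.node (.leaf 1195) (.leaf 12471)) (.node (.leaf 3567) (.leaf 0))) (.node (.node (.leaf 21316) (.leaf 0)) (.node (.leaf 13654) (.leaf 0)))) (.node (.node (.node (.leaf 14050) (.leaf 6552)) (.node (.leaf 11889) (.leaf 0))) (.node (.node (.leaf 643) (.leaf 0)) (.node (.leaf 9254) (.leaf 0)))))))))

/-- part of a table -/
def ordM107 : Trie := (.node (.node (.node (.node (.node (.node (.node (.node (.leaf 13361) (.leaf 18498)) (.node (.leaf 3459) (.leaf 0))) (.node (.node (.leaf 2187) (.leaf 2845)) (.node (.leaf 21331) (.leaf 0)))) (.node (.node (.node (.leaf 14778) (.leaf 20889)) (.node (.leaf 3897) (.leaf 0))) (.node (.node (.leaf 19393) (.leaf 0)) (.node (.leaf 381) (.leaf 0))))) (.node (.node (.node (.node (.leaf 10658) (.leaf 6087)) (.node (.leaf 8837) (.leaf 0))) (.node (.node (.leaf 16110) (.leaf 0)) (.node (.leaf 8782) (.leaf 0)))) (.node (.node (.node (.leaf 18418) (.leaf 17749)) (.node (.leaf 5187) (.leaf 0))) (.node (.node (.leaf 7032) (.leaf 0)) (.node (.leaf 6945) (.leaf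 0)))))) (.node (.node (.node (.node (.node (.leaf 5785) (.leaf 18085)) (.node (.leaf 1576) (.leaf 0))) (.node (.node (.leaf 2870) (.leaf 8380)) (.node (.leaf 15821) (.leaf 0)))) (.node (.node (.node (.leaf 15205) (.leaf 10283)) (.node (.leaf 7217) (.leaf 0))) (.node (.node (.leaf 20683) (.leaf 0)) (.node (.leaf 6373) (.leaf 0))))) (.node (.node (.node (.node (.leaf 11074) (.leaf 20282)) (.node (.leaf 20254) (.leaf 0))) (.node (.node (.leaf 21093) (.leaf 0)) (.node (.leaf 9437) (.leaf 0)))) (.node (.node (.node (.leaf 2563) (.leaf 15192)) (.node (.leaf 11641) (.leaf 0))) (.node (.node (.leaf 7281) (.leaf 0)) (.node (.leaf 3725) (.leaf 0))))))) (.node (.node (.node (.node (.node (.node (.leaf 3145) (.leaf 15007)) (.node (.leaf 8722) (.leaf 0))) (.node (.node (.leaf 9366) (.leaf 19641)) (.node (.leaf 15890) (.leaf 0)))) (.node (.node (.node (.leaf 8730) (.leaf 12333)) (.node (.leaf 1450) (.leaf 0))) (.node (.node (.leaf 18700) (.leaf 0)) (.node (.leaf 8631) (.leaf 0))))) (.node (.node (.node (.node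 (.leaf 2970) (.leaf 15980)) (.node (.leaf 1238) (.leaf 0))) (.node (.node (.leaf 1268) (.leaf 0)) (.node (.leaf 7060) (.leaf 0)))) (.node (.node (.node (.leaf 8698) (.leaf 5543)) (.node (.leaf 7010) (.leaf 0))) (.node (.node (.leaf 20314) (.leaf 0)) (.node (.leaf 18796) (.leaf 0)))))) (.node (.node (.node (.node (.node (.leaf 12092) (.leaf 7655)) (.node (.leaf 5470) (.leaf 0))) (.node (.node (.leaf 4755) (.leaf 17937)) (.node (.leaf 2901) (.leaf 0)))) (.node (.node (.node (.leaf 15995) (.leaf 1967)) (.node (.leaf 833) (.leaf 0))) (.node (.node (.leaf 10355) (.leaf 0)) (.node (.leaf 5898) (.leaf 0))))) (.node (.node (.node (.node (.leaf 4592) (.leaf 4588)) (.node (.leaf 2773) (.leaf 0))) (.node (.node (.leaf 12398) (.leaf 0)) (.node (.leaf 10086) (.leaf 0)))) (.node (.node (.node (.leaf 292) (.leaf 1499)) (.node (.leaf 16887) (.leaf 0))) (.node (.node (.leaf 633) (.leaf 0)) (.node (.leaf 19501) (.leaf 0)))))))) (.node (.node (.node (.node (.node (.node (.node (.leaf 2710) (.leaf 11023)) (.node (.leaf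 17335) (.leaf 0))) (.node (.node (.leaf 14596) (.leaf 20154)) (.node (.leaf 4833) (.leaf 0)))) (.node (.node (.node (.leaf 14421) (.leaf 625)) (.node (.leaf 12878) (.leaf 0))) (.node (.node (.leaf 5565) (.leaf 0)) (.node (.leaf 13733) (.leaf 0))))) (.node (.node (.node (.node (.leaf 16471) (.leaf 20331)) (.node (.leaf 5621) (.leaf 0))) (.node (.node (.leaf 12108) (.leaf 0)) (.node (.leaf 8600) (.leaf 0)))) (.node (.node (.node (.leaf 21452) (.leaf 3029)) (.node (.leaf 6472) (.leaf 0))) (.node (.node (.leaf 17590) (.leaf 0)) (.node (.leaf 18842) (.leaf 0)))))) (.node (.node (.node (.node (.node (.leaf 20054) (.leaf 13166)) (.node (.leaf 11376) (.leaf 0))) (.node (.node (.leaf 17071) (.leaf 19765)) (.node (.leaf 21174) (.leaf 0)))) (.node (.node (.node (.leaf 998) (.leaf 187)) (.node (.leaf 2786) (.leaf 0))) (.node (.node (.leaf 16242) (.leaf 0)) (.node (.leaf 12573) (.leaf 0))))) (.node (.node (.node (.node (.leaf 21145) (.leaf 3164)) (.node (.leaf 759) (.leaf 0))) (.node (.node (.leaf 19959) (.leaf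 0)) (.node (.leaf 6058) (.leaf 0)))) (.node (.node (.node (.leaf 17007) (.leaf 7367)) (.node (.leaf 3692) (.leaf 0))) (.node (.node (.leaf 19017) (.leaf 0)) (.node (.leaf 6794) (.leaf 0))))))) (.node (.node (.node (.node (.node (.node (.leaf 19706) (.leaf 18845)) (.node (.leaf 9729) (.leaf 0))) (.node (.node (.leaf 16131) (.leaf 4140)) (.node (.leaf 14955) (.leaf 0)))) (.node (.node (.node (.leaf 18371) (.leaf 17445)) (.node (.leaf 10940) (.leaf 0))) (.node (.node (.leaf 14126) (.leaf 0)) (.node (.leaf 11232) (.leaf 0))))) (.node (.node (.node (.node (.leaf 4471) (.leaf 16193)) (.node (.leaf 2983) (.leaf 0))) (.node (.node (.leaf 15623) (.leaf 0)) (.node (.leaf 14625) (.leaf 0)))) (.node (.node (.node (.leaf 2492) (.leaf 1037)) (.node (.leaf 12188) (.leaf 0))) (.node (.node (.leaf 9541) (.leaf 0)) (.node (.leaf 13982) (.leaf 0)))))) (.node (.node (.node (.node (.node (.leaf 14846) (.leaf 9678)) (.node (.leaf 14900) (.leaf 0))) (.node (.node (.leaf 16766) (.leaf 11799)) (.node (.leaf 9367) (.leaf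 0)))) (.node (.node (.node (.leaf 19808) (.leaf 14161)) (.node (.leaf 19821) (.leaf 0))) (.node (.node (.leaf 3199) (.leaf 0)) (.node (.leaf 13512) (.leaf 0))))) (.node (.node (.node (.node (.leaf 3873) (.leaf 3050)) (.node (.leaf 5283) (.leaf 0))) (.node (.node (.leaf 5103) (.leaf 0)) (.node (.leaf 3811) (.leaf 0)))) (.node (.node (.node (.leaf 5610) (.leaf 7618)) (.node (.leaf 5550) (.leaf 0))) (.node (.node (.leaf 3190) (.leaf 0)) (.node (.leaf 556) (.leaf 0)))))))))

/-- part of a table -/
def ordM108 : Trie := (.node (.node (.node (.node (.node (.node (.node (.node (.leaf 6967) (.leaf 2066)) (.node (.leaf 19917) (.leaf 0))) (.node (.node (.leaf 11820) (.leaf 16858)) (.node (.leaf 11522) (.leaf 0)))) (.node (.node (.node (.leaf 8486) (.leaf 20616)) (.node (.leaf 1610) (.leaf 0))) (.node (.node (.leaf 5433) (.leaf 0)) (.node (.leaf 7577) (.leaf 0))))) (.node (.node (.node (.node (.leaf 476) (.leaf 4521)) (.node (.leaf 1421) (.leaf 0))) (.node (.node (.leaf 14537) (.leaf 0)) (.node (.leaf 1593)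 (.leaf 0)))) (.node (.node (.node (.leaf 139) (.leaf 2063)) (.node (.leaf 20932) (.leaf 0))) (.node (.node (.leaf 6370) (.leaf 0)) (.node (.leaf 1864) (.leaf 0)))))) (.node (.node (.node (.node (.node (.leaf 17052) (.leaf 1129)) (.node (.leaf 2318) (.leaf 0))) (.node (.node (.leaf 10690) (.leaf 21416)) (.node (.leaf 8967) (.leaf 0)))) (.node (.node (.node (.leaf 11878) (.leaf 14350)) (.node (.leaf 3036) (.leaf 0))) (.node (.node (.leaf 2574) (.leaf 0)) (.node (.leaf 13200) (.leaf 0))))) (.node (.node (.node (.node (.leaf 9251) (.leaf 16464)) (.node (.leaf 18784) (.leaf 0))) (.node (.node (.leaf 6017) (.leaf 0)) (.node (.leaf 20271) (.leaf 0)))) (.node (.node (.node (.leaf 6029) (.leaf 7096)) (.node (.leaf 18588) (.leaf 0))) (.node (.node (.leaf 4372) (.leaf 0)) (.node (.leaf 12012) (.leaf 0))))))) (.node (.node (.node (.node (.node (.node (.leaf 15299) (.leaf 2455)) (.node (.leaf 20825) (.leaf 0))) (.node (.node (.leaf 10166) (.leaf 18114)) (.node (.leaf 8579) (.leaf 0)))) (.node (.node (.node (.leaf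 18071) (.leaf 3111)) (.node (.leaf 12189) (.leaf 0))) (.node (.node (.leaf 21308) (.leaf 0)) (.node (.leaf 2921) (.leaf 0))))) (.node (.node (.node (.node (.leaf 5072) (.leaf 10500)) (.node (.leaf 12734) (.leaf 0))) (.node (.node (.leaf 3139) (.leaf 0)) (.node (.leaf 6518) (.leaf 0)))) (.node (.node (.node (.leaf 1340) (.leaf 5815)) (.node (.leaf 10764) (.leaf 0))) (.node (.node (.leaf 9611) (.leaf 0)) (.node (.leaf 20740) (.leaf 0)))))) (.node (.node (.node (.node (.node (.leaf 11688) (.leaf 20308)) (.node (.leaf 20851) (.leaf 0))) (.node (.node (.leaf 18801) (.leaf 3474)) (.node (.leaf 8703) (.leaf 0)))) (.node (.node (.node (.leaf 15358) (.leaf 19175)) (.node (.leaf 19503) (.leaf 0))) (.node (.node (.leaf 14002) (.leaf 0)) (.node (.leaf 8605) (.leaf 0))))) (.node (.node (.node (.node (.leaf 2284) (.leaf 15345)) (.node (.leaf 9524) (.leaf 0))) (.node (.node (.leaf 17502) (.leaf 0)) (.node (.leaf 17863) (.leaf 0)))) (.node (.node (.node (.leaf 16148) (.leaf 11436)) (.node (.leaf 6165) (.leaf 0)))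 (.node (.node (.leaf 12251) (.leaf 0)) (.node (.leaf 1854) (.leaf 0)))))))) (.node (.node (.node (.node (.node (.node (.node (.leaf 19306) (.leaf 4509)) (.node (.leaf 4217) (.leaf 0))) (.node (.node (.leaf 18620) (.leaf 5586)) (.node (.leaf 11760) (.leaf 0)))) (.node (.node (.node (.leaf 2607) (.leaf 13895)) (.node (.leaf 11076) (.leaf 0))) (.node (.node (.leaf 7778) (.leaf 0)) (.node (.leaf 21155) (.leaf 0))))) (.node (.node (.node (.node (.leaf 13688) (.leaf 18527)) (.node (.leaf 12241) (.leaf 0))) (.node (.node (.leaf 1784) (.leaf 0)) (.node (.leaf 8013) (.leaf 0)))) (.node (.node (.node (.leaf 16017) (.leaf 5546)) (.node (.leaf 15377) (.leaf 0))) (.node (.node (.leaf 20972) (.leaf 0)) (.node (.leaf 11712) (.leaf 0)))))) (.node (.node (.node (.node (.node (.leaf 16167) (.leaf 16492)) (.node (.leaf 14949) (.leaf 0))) (.node (.node (.leaf 6174) (.leaf 11959)) (.node (.leaf 2908) (.leaf 0)))) (.node (.node (.node (.leaf 10818) (.leaf 14341)) (.node (.leaf 5969) (.leaf 0))) (.node (.node (.leaf 8582)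 (.leaf 0)) (.node (.leaf 20934) (.leaf 0))))) (.node (.node (.node (.node (.leaf 4856) (.leaf 13257)) (.node (.leaf 7900) (.leaf 0))) (.node (.node (.leaf 861) (.leaf 0)) (.node (.leaf 21088) (.leaf 0)))) (.node (.node (.node (.leaf 14248) (.leaf 8136)) (.node (.leaf 15960) (.leaf 0))) (.node (.node (.leaf 10296) (.leaf 0)) (.node (.leaf 1673) (.leaf 0))))))) (.node (.node (.node (.node (.node (.node (.leaf 4864) (.leaf 14753)) (.node (.leaf 20511) (.leaf 0))) (.node (.node (.leaf 8119) (.leaf 15116)) (.node (.leaf 3952) (.leaf 0)))) (.node (.node (.node (.leaf 9712) (.leaf 12952)) (.node (.leaf 21357) (.leaf 0))) (.node (.node (.leaf 13715) (.leaf 0)) (.node (.leaf 19199) (.leaf 0))))) (.node (.node (.node (.node (.leaf 2112) (.leaf 2693)) (.node (.leaf 5117) (.leaf 0))) (.node (.node (.leaf 9292) (.leaf 0)) (.node (.leaf 21486) (.leaf 0)))) (.node (.node (.node (.leaf 6493) (.leaf 9972)) (.node (.leaf 17758) (.leaf 0))) (.node (.node (.leaf 459) (.leaf 0)) (.node (.leaf 6107) (.leaf 0)))))) (.node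 (.node (.node (.node (.node (.leaf 1546) (.leaf 23)) (.node (.leaf 1180) (.leaf 0))) (.node (.node (.leaf 8085) (.leaf 14092)) (.node (.leaf 10169) (.leaf 0)))) (.node (.node (.node (.leaf 3966) (.leaf 4448)) (.node (.leaf 16065) (.leaf 0))) (.node (.node (.leaf 14745) (.leaf 0)) (.node (.leaf 6839) (.leaf 0))))) (.node (.node (.node (.node (.leaf 15923) (.leaf 14494)) (.node (.leaf 9614) (.leaf 0))) (.node (.node (.leaf 3170) (.leaf 0)) (.node (.leaf 14380) (.leaf 0)))) (.node (.node (.node (.leaf 13126) (.leaf 13925)) (.node (.leaf 10069) (.leaf 0))) (.node (.node (.leaf 6606) (.leaf 0)) (.node (.leaf 7323) (.leaf 0)))))))))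

/-- part of a table -/
def ordM109 : Trie := (.node (.node (.node (.node (.node (.node (.node (.node (.leaf 10066) (.leaf 14688)) (.node (.leaf 6363) (.leaf 0))) (.node (.node (.leaf 13502) (.leaf 17188)) (.node (.leaf 4167) (.leaf 0)))) (.node (.node (.node (.leaf 12515) (.leaf 3444)) (.node (.leaf 17401) (.leaf 0))) (.node (.node (.leaf 3316) (.leaf 0)) (.node (.leaf 12701) (.leaf 0))))) (.node (.node (.node (.node (.leaf 8271) (.leaf 2473)) (.node (.leaf 3626) (.leaf 0))) (.node (.node (.leaf 10090) (.leaf 0)) (.node (.leaf 4571) (.leaf 0)))) (.node (.node (.node (.leaf 2841) (.leaf 718)) (.node (.leaf 12790) (.leaf 0))) (.node (.node (.leaf 19643) (.leaf 0)) (.node (.leaf 1394) (.leaf 0)))))) (.node (.node (.node (.node (.node (.leaf 6782) (.leaf 3764)) (.node (.leaf 6653) (.leaf 0))) (.node (.node (.leaf 3920) (.leaf 5933)) (.node (.leaf 3450) (.leaf 0)))) (.node (.node (.node (.leaf 7316) (.leaf 17896)) (.node (.leaf 20375) (.leaf 0))) (.node (.node (.leaf 9124) (.leaf 0)) (.node (.leaf 12725)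 (.leaf 0))))) (.node (.node (.node (.node (.leaf 15228) (.leaf 11980)) (.node (.leaf 7167) (.leaf 0))) (.node (.node (.leaf 13910) (.leaf 0)) (.node (.leaf 3230) (.leaf 0)))) (.node (.node (.node (.leaf 9230) (.leaf 13551)) (.node (.leaf 8958) (.leaf 0))) (.node (.node (.leaf 15217) (.leaf 0)) (.node (.leaf 19239) (.leaf 0))))))) (.node (.node (.node (.node (.node (.node (.leaf 9193) (.leaf 9749)) (.node (.leaf 21311) (.leaf 0))) (.node (.node (.leaf 3674) (.leaf 3577)) (.node (.leaf 15845) (.leaf 0)))) (.node (.node (.node (.leaf 1795) (.leaf 5268)) (.node (.leaf 20735) (.leaf 0))) (.node (.node (.leaf 18362) (.leaf 0)) (.node (.leaf 11577) (.leaf 0))))) (.node (.node (.node (.node (.leaf 2125) (.leaf 11912)) (.node (.leaf 5404) (.leaf 0))) (.node (.node (.leaf 1120) (.leaf 0)) (.node (.leaf 8431) (.leaf 0)))) (.node (.node (.node (.leaf 8053) (.leaf 19087)) (.node (.leaf 21489) (.leaf 0))) (.node (.node (.leaf 16796) (.leaf 0)) (.node (.leaf 12946) (.leaf 0)))))) (.node (.node (.node (.node (.node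 (.leaf 15233) (.leaf 15360)) (.node (.leaf 14748) (.leaf 0))) (.node (.node (.leaf 10930) (.leaf 2517)) (.node (.leaf 19384) (.leaf 0)))) (.node (.node (.node (.leaf 11911) (.leaf 17611)) (.node (.leaf 10916) (.leaf 0))) (.node (.node (.leaf 7061) (.leaf 0)) (.node (.leaf 4380) (.leaf 0))))) (.node (.node (.node (.node (.leaf 6722) (.leaf 1469)) (.node (.leaf 7861) (.leaf 0))) (.node (.node (.leaf 8065) (.leaf 0)) (.node (.leaf 12681) (.leaf 0)))) (.node (.node (.node (.leaf 15684) (.leaf 5804)) (.node (.leaf 10060) (.leaf 0))) (.node (.node (.leaf 13386) (.leaf 0)) (.node (.leaf 8023) (.leaf 0)))))))) (.node (.node (.node (.node (.node (.node (.node (.leaf 15712) (.leaf 6331)) (.node (.leaf 7853) (.leaf 0))) (.node (.node (.leaf 4159) (.leaf 17613)) (.node (.leaf 15493) (.leaf 0)))) (.node (.node (.node (.leaf 156) (.leaf 3460)) (.node (.leaf 4109) (.leaf 0))) (.node (.node (.leaf 7480) (.leaf 0)) (.node (.leaf 11212) (.leaf 0))))) (.node (.node (.node (.node (.leaf 9209) (.leaf 20726)) (.node (.leaf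 19867) (.leaf 0))) (.node (.node (.leaf 4203) (.leaf 0)) (.node (.leaf 3991) (.leaf 0)))) (.node (.node (.node (.leaf 1682) (.leaf 1837)) (.node (.leaf 16846) (.leaf 0))) (.node (.node (.leaf 20722) (.leaf 0)) (.node (.leaf 5773) (.leaf 0)))))) (.node (.node (.node (.node (.node (.leaf 7296) (.leaf 17346)) (.node (.leaf 2308) (.leaf 0))) (.node (.node (.leaf 13513) (.leaf 3121)) (.node (.leaf 212) (.leaf 0)))) (.node (.node (.node (.leaf 11197) (.leaf 8908)) (.node (.leaf 19432) (.leaf 0))) (.node (.node (.leaf 15758) (.leaf 0)) (.node (.leaf 17668) (.leaf 0))))) (.node (.node (.node (.node (.leaf 15391) (.leaf 12935)) (.node (.leaf 18740) (.leaf 0))) (.node (.node (.leaf 12061) (.leaf 0)) (.node (.leaf 13437) (.leaf 0)))) (.node (.node (.node (.leaf 11119) (.leaf 11079)) (.node (.leaf 3859) (.leaf 0))) (.node (.node (.leaf 19678) (.leaf 0)) (.node (.leaf 805) (.leaf 0))))))) (.node (.node (.node (.node (.node (.node (.leaf 2017) (.leaf 7519)) (.node (.leaf 8477) (.leaf 0))) (.node (.node (.leaf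 19602) (.leaf 6496)) (.node (.leaf 8241) (.leaf 0)))) (.node (.node (.node (.leaf 13179) (.leaf 5928)) (.node (.leaf 16292) (.leaf 0))) (.node (.node (.leaf 11812) (.leaf 0)) (.node (.leaf 12151) (.leaf 0))))) (.node (.node (.node (.node (.leaf 9242) (.leaf 9742)) (.node (.leaf 11010) (.leaf 0))) (.node (.node (.leaf 6875) (.leaf 0)) (.node (.leaf 21491) (.leaf 0)))) (.node (.node (.node (.leaf 8435) (.leaf 10780)) (.node (.leaf 3342) (.leaf 0))) (.node (.node (.leaf 7868) (.leaf 0)) (.node (.leaf 20076) (.leaf 0)))))) (.node (.node (.node (.node (.node (.leaf 11698) (.leaf 5057)) (.node (.leaf 2635) (.leaf 0))) (.node (.node (.leaf 3894) (.leaf 7991)) (.node (.leaf 5583) (.leaf 0)))) (.node (.node (.node (.leaf 15941) (.leaf 11106)) (.node (.leaf 14856) (.leaf 0))) (.node (.node (.leaf 13288) (.leaf 0)) (.node (.leaf 15301) (.leaf 0))))) (.node (.node (.node (.node (.leaf 14739) (.leaf 1345)) (.node (.leaf 12299) (.leaf 0))) (.node (.node (.leaf 9059) (.leaf 0)) (.node (.leaf 10508) (.leaf 0))))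 (.node (.node (.node (.leaf 7067) (.leaf 17013)) (.node (.leaf 674) (.leaf 0))) (.node (.node (.leaf 18612) (.leaf 0)) (.node (.leaf 11885) (.leaf 0)))))))))

/-- part of a table -/
def ordM110 : Trie := (.node (.node (.node (.node (.node (.node (.node (.node (.leaf 20605) (.leaf 475)) (.node (.leaf 7064) (.leaf 0))) (.node (.node (.leaf 17273) (.leaf 1772)) (.node (.leaf 16729) (.leaf 0)))) (.node (.node (.node (.leaf 7103) (.leaf 17053)) (.node (.leaf 20304) (.leaf 0))) (.node (.node (.leaf 13183) (.leaf 0)) (.node (.leaf 10186) (.leaf 0))))) (.node (.node (.node (.node (.leaf 2515) (.leaf 2352)) (.node (.leaf 6191) (.leaf 0))) (.node (.node (.leaf 9665) (.leaf 0)) (.node (.leaf 5494) (.leaf 0)))) (.node (.node (.node (.leaf 7404) (.leaf 15836)) (.node (.leaf 5111) (.leaf 0))) (.node (.node (.leaf 16638) (.leaf 0)) (.node (.leaf 6084) (.leaf 0)))))) (.node (.node (.node (.node (.node (.leaf 17447) (.leaf 12802)) (.node (.leaf 12350) (.leaf 0))) (.node (.node (.leaf 11860) (.leaf 12992)) (.node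 (.leaf 10822) (.leaf 0)))) (.node (.node (.node (.leaf 12445) (.leaf 4609)) (.node (.leaf 10328) (.leaf 0))) (.node (.node (.leaf 13964) (.leaf 0)) (.node (.leaf 14169) (.leaf 0))))) (.node (.node (.node (.node (.leaf 20438) (.leaf 11196)) (.node (.leaf 11280) (.leaf 0))) (.node (.node (.leaf 5174) (.leaf 0)) (.node (.leaf 14241) (.leaf 0)))) (.node (.node (.node (.leaf 1115) (.leaf 15049)) (.node (.leaf 1490) (.leaf 0))) (.node (.node (.leaf 4113) (.leaf 0)) (.node (.leaf 4498) (.leaf 0))))))) (.node (.node (.node (.node (.node (.node (.leaf 12335) (.leaf 7733)) (.node (.leaf 844) (.leaf 0))) (.node (.node (.leaf 5348) (.leaf 14004)) (.node (.leaf 20020) (.leaf 0)))) (.node (.node (.node (.leaf 17344) (.leaf 9144)) (.node (.leaf 1328) (.leaf 0))) (.node (.node (.leaf 4341) (.leaf 0)) (.node (.leaf 9172) (.leaf 0))))) (.node (.node (.node (.node (.leaf 2064) (.leaf 3087)) (.node (.leaf 10347) (.leaf 0))) (.node (.node (.leaf 17816) (.leaf 0)) (.node (.leaf 17621) (.leaf 0)))) (.node (.node (.node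 (.leaf 3739) (.leaf 5491)) (.node (.leaf 4272) (.leaf 0))) (.node (.node (.leaf 2946) (.leaf 0)) (.node (.leaf 10996) (.leaf 0)))))) (.node (.node (.node (.node (.node (.leaf 15855) (.leaf 5905)) (.node (.leaf 4268) (.leaf 0))) (.node (.node (.leaf 12411) (.leaf 18456)) (.node (.leaf 14194) (.leaf 0)))) (.node (.node (.node (.leaf 8126) (.leaf 19694)) (.node (.leaf 3648) (.leaf 0))) (.node (.node (.leaf 13696) (.leaf 0)) (.node (.leaf 11719) (.leaf 0))))) (.node (.node (.node (.node (.leaf 15973) (.leaf 3509)) (.node (.leaf 9346) (.leaf 0))) (.node (.node (.leaf 18482) (.leaf 0)) (.node (.leaf 2745) (.leaf 0)))) (.node (.node (.node (.leaf 20173) (.leaf 6464)) (.node (.leaf 17798) (.leaf 0))) (.node (.node (.leaf 12058) (.leaf 0)) (.node (.leaf 13528) (.leaf 0)))))))) (.node (.node (.node (.node (.node (.node (.node (.leaf 3071) (.leaf 19681)) (.node (.leaf 2907) (.leaf 0))) (.node (.node (.leaf 7943) (.leaf 17415)) (.node (.leaf 16811) (.leaf 0)))) (.node (.node (.node (.leaf 9701) (.leaf 19412))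 (.node (.leaf 5589) (.leaf 0))) (.node (.node (.leaf 20317) (.leaf 0)) (.node (.leaf 15638) (.leaf 0))))) (.node (.node (.node (.node (.leaf 8791) (.leaf 15195)) (.node (.leaf 15734) (.leaf 0))) (.node (.node (.leaf 9429) (.leaf 0)) (.node (.leaf 4141) (.leaf 0)))) (.node (.node (.node (.leaf 7319) (.leaf 2036)) (.node (.leaf 15157) (.leaf 0))) (.node (.node (.leaf 52) (.leaf 0)) (.node (.leaf 15334) (.leaf 0)))))) (.node (.node (.node (.node (.node (.leaf 16521) (.leaf 6285)) (.node (.leaf 19962) (.leaf 0))) (.node (.node (.leaf 16644) (.leaf 17917)) (.node (.leaf 9859) (.leaf 0)))) (.node (.node (.node (.leaf 9533) (.leaf 20299)) (.node (.leaf 8457) (.leaf 0))) (.node (.node (.leaf 9882) (.leaf 0)) (.node (.leaf 12520) (.leaf 0))))) (.node (.node (.node (.node (.leaf 8901) (.leaf 4943)) (.node (.leaf 18135) (.leaf 0))) (.node (.node (.leaf 14437) (.leaf 0)) (.node (.leaf 75) (.leaf 0)))) (.node (.node (.node (.leaf 14644) (.leaf 21123)) (.node (.leaf 20216) (.leaf 0))) (.node (.node (.leaf 3217)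 (.leaf 0)) (.node (.leaf 13170) (.leaf 0))))))) (.node (.node (.node (.node (.node (.node (.leaf 4397) (.leaf 2596)) (.node (.leaf 7995) (.leaf 0))) (.node (.node (.leaf 5532) (.leaf 9860)) (.node (.leaf 9778) (.leaf 0)))) (.node (.node (.node (.leaf 11183) (.leaf 12008)) (.node (.leaf 12613) (.leaf 0))) (.node (.node (.leaf 7741) (.leaf 0)) (.node (.leaf 10397) (.leaf 0))))) (.node (.node (.node (.node (.leaf 3321) (.leaf 14044)) (.node (.leaf 16848) (.leaf 0))) (.node (.node (.leaf 6374) (.leaf 0)) (.node (.leaf 3785) (.leaf 0)))) (.node (.node (.node (.leaf 20618) (.leaf 13509)) (.node (.leaf 9716) (.leaf 0))) (.node (.node (.leaf 16323) (.leaf 0)) (.node (.leaf 16512) (.leaf 0)))))) (.node (.node (.node (.node (.node (.leaf 10921) (.leaf 7159)) (.node (.leaf 19577) (.leaf 0))) (.node (.node (.leaf 1192) (.leaf 20448)) (.node (.leaf 18919) (.leaf 0)))) (.node (.node (.node (.leaf 5934) (.leaf 14836)) (.node (.leaf 16769) (.leaf 0))) (.node (.node (.leaf 764) (.leaf 0)) (.node (.leaf 9166) (.leaf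 0))))) (.node (.node (.node (.node (.leaf 5921) (.leaf 21150)) (.node (.leaf 3987) (.leaf 0))) (.node (.node (.leaf 10501) (.leaf 0)) (.node (.leaf 2567) (.leaf 0)))) (.node (.node (.node (.leaf 15317) (.leaf 2818)) (.node (.leaf 17216) (.leaf 0))) (.node (.node (.leaf 14517) (.leaf 0)) (.node (.leaf 9802) (.leaf 0)))))))))

/-- part of a table -/
def ordM111 : Trie := (.node (.node (.node (.node (.node (.node (.node (.node (.leaf 6661) (.leaf 8310)) (.node (.leaf 2488) (.leaf 0))) (.node (.node (.leaf 14579) (.leaf 18039)) (.node (.leaf 4885) (.leaf 0)))) (.node (.node (.node (.leaf 14821) (.leaf 14152)) (.node (.leaf 17573) (.leaf 0))) (.node (.node (.leaf 11770) (.leaf 0)) (.node (.leaf 5866) (.leaf 0))))) (.node (.node (.node (.node (.leaf 17481) (.leaf 7285)) (.node (.leaf 18395) (.leaf 0))) (.node (.node (.leaf 4330) (.leaf 0)) (.node (.leaf 291) (.leaf 0)))) (.node (.node (.node (.leaf 8973) (.leaf 2124)) (.node (.leaf 1690) (.leaf 0))) (.node (.node (.leaf 9122) (.leaf 0)) (.node (.leaf 3934)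 (.leaf 0)))))) (.node (.node (.node (.node (.node (.leaf 5572) (.leaf 5033)) (.node (.leaf 1105) (.leaf 0))) (.node (.node (.leaf 4728) (.leaf 3965)) (.node (.leaf 15529) (.leaf 0)))) (.node (.node (.node (.leaf 15132) (.leaf 12110)) (.node (.leaf 8415) (.leaf 0))) (.node (.node (.leaf 1522) (.leaf 0)) (.node (.leaf 19995) (.leaf 0))))) (.node (.node (.node (.node (.leaf 3011) (.leaf 15289)) (.node (.leaf 7013) (.leaf 0))) (.node (.node (.leaf 2641) (.leaf 0)) (.node (.leaf 15327) (.leaf 0)))) (.node (.node (.node (.leaf 1451) (.leaf 5003)) (.node (.leaf 5645) (.leaf 0))) (.node (.node (.leaf 10874) (.leaf 0)) (.node (.leaf 16050) (.leaf 0))))))) (.node (.node (.node (.node (.node (.node (.leaf 4388) (.leaf 2697)) (.node (.leaf 2579) (.leaf 0))) (.node (.node (.leaf 3496) (.leaf 10975)) (.node (.leaf 16262) (.leaf 0)))) (.node (.node (.node (.leaf 9596) (.leaf 18761)) (.node (.leaf 326) (.leaf 0))) (.node (.node (.leaf 7593) (.leaf 0)) (.node (.leaf 11829) (.leaf 0))))) (.node (.node (.node (.node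 (.leaf 719) (.leaf 9536)) (.node (.leaf 9024) (.leaf 0))) (.node (.node (.leaf 7283) (.leaf 0)) (.node (.leaf 9543) (.leaf 0)))) (.node (.node (.node (.leaf 10335) (.leaf 9365)) (.node (.leaf 13027) (.leaf 0))) (.node (.node (.leaf 12580) (.leaf 0)) (.node (.leaf 11155) (.leaf 0)))))) (.node (.node (.node (.node (.node (.leaf 8671) (.leaf 10952)) (.node (.leaf 4408) (.leaf 0))) (.node (.node (.leaf 10431) (.leaf 10027)) (.node (.leaf 20236) (.leaf 0)))) (.node (.node (.node (.leaf 12627) (.leaf 15244)) (.node (.leaf 10933) (.leaf 0))) (.node (.node (.leaf 19719) (.leaf 0)) (.node (.leaf 19230) (.leaf 0))))) (.node (.node (.node (.node (.leaf 19830) (.leaf 9573)) (.node (.leaf 16825) (.leaf 0))) (.node (.node (.leaf 17988) (.leaf 0)) (.node (.leaf 9) (.leaf 0)))) (.node (.node (.node (.leaf 6931) (.leaf 8471)) (.node (.leaf 5623) (.leaf 0))) (.node (.node (.leaf 12990) (.leaf 0)) (.node (.leaf 7090) (.leaf 0)))))))) (.node (.node (.node (.node (.node (.node (.node (.leaf 12609) (.leaf 18074)) (.node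 (.leaf 11417) (.leaf 0))) (.node (.node (.leaf 15616) (.leaf 17112)) (.node (.leaf 20336) (.leaf 0)))) (.node (.node (.node (.leaf 18521) (.leaf 20548)) (.node (.leaf 17546) (.leaf 0))) (.node (.node (.leaf 20446) (.leaf 0)) (.node (.leaf 20885) (.leaf 0))))) (.node (.node (.node (.node (.leaf 572) (.leaf 15909)) (.node (.leaf 1888) (.leaf 0))) (.node (.node (.leaf 10280) (.leaf 0)) (.node (.leaf 11136) (.leaf 0)))) (.node (.node (.node (.leaf 11882) (.leaf 8020)) (.node (.leaf 6514) (.leaf 0))) (.node (.node (.leaf 1153) (.leaf 0)) (.node (.leaf 12584) (.leaf 0)))))) (.node (.node (.node (.node (.node (.leaf 13560) (.leaf 2245)) (.node (.leaf 21343) (.leaf 0))) (.node (.node (.leaf 20210) (.leaf 12054)) (.node (.leaf 3061) (.leaf 0)))) (.node (.node (.node (.leaf 18484) (.leaf 21101)) (.node (.leaf 486) (.leaf 0))) (.node (.node (.leaf 16984) (.leaf 0)) (.node (.leaf 4722) (.leaf 0))))) (.node (.node (.node (.node (.leaf 17377) (.leaf 13164)) (.node (.leaf 12138) (.leaf 0))) (.node (.node (.leaf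 4302) (.leaf 0)) (.node (.leaf 6526) (.leaf 0)))) (.node (.node (.node (.leaf 15487) (.leaf 21345)) (.node (.leaf 12361) (.leaf 0))) (.node (.node (.leaf 1141) (.leaf 0)) (.node (.leaf 5271) (.leaf 0))))))) (.node (.node (.node (.node (.node (.node (.leaf 5701) (.leaf 10389)) (.node (.leaf 14094) (.leaf 0))) (.node (.node (.leaf 12304) (.leaf 20719)) (.node (.leaf 12516) (.leaf 0)))) (.node (.node (.node (.leaf 17939) (.leaf 10990)) (.node (.leaf 5396) (.leaf 0))) (.node (.node (.leaf 511) (.leaf 0)) (.node (.leaf 2622) (.leaf 0))))) (.node (.node (.node (.node (.leaf 16902) (.leaf 15572)) (.node (.leaf 11351) (.leaf 0))) (.node (.node (.leaf 16101) (.leaf 0)) (.node (.leaf 7704) (.leaf 0)))) (.node (.node (.node (.leaf 3462) (.leaf 5501)) (.node (.leaf 10255) (.leaf 0))) (.node (.node (.leaf 10723) (.leaf 0)) (.node (.leaf 10987) (.leaf 0)))))) (.node (.node (.node (.node (.node (.leaf 17374) (.leaf 16290)) (.node (.leaf 5887) (.leaf 0))) (.node (.node (.leaf 12934) (.leaf 8827)) (.node (.leaf 16038)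 (.leaf 0)))) (.node (.node (.node (.leaf 12498) (.leaf 12882)) (.node (.leaf 7899) (.leaf 0))) (.node (.node (.leaf 8373) (.leaf 0)) (.node (.leaf 6132) (.leaf 0))))) (.node (.node (.node (.node (.leaf 9985) (.leaf 20286)) (.node (.leaf 8009) (.leaf 0))) (.node (.node (.leaf 6943) (.leaf 0)) (.node (.leaf 17486) (.leaf 0)))) (.node (.node (.node (.leaf 19428) (.leaf 3906)) (.node (.leaf 7020) (.leaf 0))) (.node (.node (.leaf 7015) (.leaf 0)) (.node (.leaf 722) (.leaf 0)))))))))

/-- part of a table -/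
def ordM112 : Trie := (.node (.node (.node (.node (.node (.node (.node (.node (.leaf 8448) (.leaf 18442)) (.node (.leaf 17124) (.leaf 0))) (.node (.node (.leaf 18228) (.leaf 1032)) (.node (.leaf 7765) (.leaf 0)))) (.node (.node (.node (.leaf 6746) (.leaf 20452)) (.node (.leaf 11244) (.leaf 0))) (.node (.node (.leaf 7738) (.leaf 0)) (.node (.leaf 7194) (.leaf 0))))) (.node (.node (.node (.node (.leaf 7206) (.leaf 20524)) (.node (.leaf 3165) (.leaf 0))) (.node (.node (.leaf 12457) (.leaf 0)) (.node (.leaf 20503) (.leaf 0)))) (.node (.node (.node (.leaf 14588) (.leaf 2711)) (.node (.leaf 10035) (.leaf 0))) (.node (.node (.leaf 18372) (.leaf 0)) (.node (.leaf 1547) (.leaf 0)))))) (.node (.node (.node (.node (.node (.leaf 10197) (.leaf 12659)) (.node (.leaf 2895) (.leaf 0))) (.node (.node (.leaf 13739) (.leaf 1219)) (.node (.leaf 20465) (.leaf 0)))) (.node (.node (.node (.leaf 11836) (.leaf 5080)) (.node (.leaf 5672) (.leaf 0))) (.node (.node (.leaf 10425) (.leaf 0)) (.node (.leaf 1625) (.leaf 0)))))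 (.node (.node (.node (.node (.leaf 13719) (.leaf 16974)) (.node (.leaf 2812) (.leaf 0))) (.node (.node (.leaf 13490) (.leaf 0)) (.node (.leaf 4898) (.leaf 0)))) (.node (.node (.node (.leaf 13124) (.leaf 9473)) (.node (.leaf 3257) (.leaf 0))) (.node (.node (.leaf 20199) (.leaf 0)) (.node (.leaf 14059) (.leaf 0))))))) (.node (.node (.node (.node (.node (.node (.leaf 20136) (.leaf 19435)) (.node (.leaf 10244) (.leaf 0))) (.node (.node (.leaf 16529) (.leaf 12589)) (.node (.leaf 20472) (.leaf 0)))) (.node (.node (.node (.leaf 8551) (.leaf 15454)) (.node (.leaf 2652) (.leaf 0))) (.node (.node (.leaf 20954) (.leaf 0)) (.node (.leaf 1525) (.leaf 0))))) (.node (.node (.node (.node (.leaf 7436) (.leaf 10867)) (.node (.leaf 6570) (.leaf 0))) (.node (.node (.leaf 4269) (.leaf 0)) (.node (.leaf 1946) (.leaf 0)))) (.node (.node (.node (.leaf 2213) (.leaf 1683)) (.node (.leaf 14088) (.leaf 0))) (.node (.node (.leaf 380) (.leaf 0)) (.node (.leaf 1828) (.leaf 0)))))) (.node (.node (.node (.node (.node (.leaf 4207)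 (.leaf 10721)) (.node (.leaf 8518) (.leaf 0))) (.node (.node (.leaf 12809) (.leaf 6420)) (.node (.leaf 8859) (.leaf 0)))) (.node (.node (.node (.leaf 72) (.leaf 6830)) (.node (.leaf 12223) (.leaf 0))) (.node (.node (.leaf 9963) (.leaf 0)) (.node (.leaf 18134) (.leaf 0))))) (.node (.node (.node (.node (.leaf 640) (.leaf 2804)) (.node (.leaf 20541) (.leaf 0))) (.node (.node (.leaf 9270) (.leaf 0)) (.node (.leaf 17799) (.leaf 0)))) (.node (.node (.node (.leaf 2675) (.leaf 11282)) (.node (.leaf 11680) (.leaf 0))) (.node (.node (.leaf 13466) (.leaf 0)) (.node (.leaf 9927) (.leaf 0)))))))) (.node (.node (.node (.node (.node (.node (.node (.leaf 11368) (.leaf 8836)) (.node (.leaf 9036) (.leaf 0))) (.node (.node (.leaf 5795) (.leaf 2703)) (.node (.leaf 16352) (.leaf 0)))) (.node (.node (.node (.leaf 10163) (.leaf 7037)) (.node (.leaf 19299) (.leaf 0))) (.node (.node (.leaf 15148) (.leaf 0)) (.node (.leaf 6770) (.leaf 0))))) (.node (.node (.node (.node (.leaf 12817) (.leaf 5284)) (.node (.leaf 9682) (.leaf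 0))) (.node (.node (.leaf 10453) (.leaf 0)) (.node (.leaf 20420) (.leaf 0)))) (.node (.node (.node (.leaf 3735) (.leaf 12094)) (.node (.leaf 20315) (.leaf 0))) (.node (.node (.leaf 19457) (.leaf 0)) (.node (.leaf 18665) (.leaf 0)))))) (.node (.node (.node (.node (.node (.leaf 16750) (.leaf 18018)) (.node (.leaf 5818) (.leaf 0))) (.node (.node (.leaf 11095) (.leaf 2782)) (.node (.leaf 1611) (.leaf 0)))) (.node (.node (.node (.leaf 816) (.leaf 10943)) (.node (.leaf 20992) (.leaf 0))) (.node (.node (.leaf 16441) (.leaf 0)) (.node (.leaf 1380) (.leaf 0))))) (.node (.node (.node (.node (.leaf 6510) (.leaf 2785)) (.node (.leaf 18278) (.leaf 0))) (.node (.node (.leaf 925) (.leaf 0)) (.node (.leaf 12288) (.leaf 0)))) (.node (.node (.node (.leaf 9757) (.leaf 10886)) (.node (.leaf 19364) (.leaf 0))) (.node (.node (.leaf 14232) (.leaf 0)) (.node (.leaf 8877) (.leaf 0))))))) (.node (.node (.node (.node (.node (.node (.leaf 21016) (.leaf 16683)) (.node (.leaf 18151) (.leaf 0))) (.node (.node (.leaf 1521) (.leaf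 9339)) (.node (.leaf 20374) (.leaf 0)))) (.node (.node (.node (.leaf 11375) (.leaf 6392)) (.node (.leaf 18463) (.leaf 0))) (.node (.node (.leaf 7228) (.leaf 0)) (.node (.leaf 20489) (.leaf 0))))) (.node (.node (.node (.node (.leaf 19238) (.leaf 740)) (.node (.leaf 1594) (.leaf 0))) (.node (.node (.leaf 17021) (.leaf 0)) (.node (.leaf 7012) (.leaf 0)))) (.node (.node (.node (.leaf 14628) (.leaf 21161)) (.node (.leaf 20903) (.leaf 0))) (.node (.node (.leaf 6930) (.leaf 0)) (.node (.leaf 2760) (.leaf 0)))))) (.node (.node (.node (.node (.node (.leaf 12190) (.leaf 11593)) (.node (.leaf 20233) (.leaf 0))) (.node (.node (.leaf 11064) (.leaf 16834)) (.node (.leaf 11419) (.leaf 0)))) (.node (.node (.node (.leaf 14035) (.leaf 20167)) (.node (.leaf 14288) (.leaf 0))) (.node (.node (.leaf 8158) (.leaf 0)) (.node (.leaf 19469) (.leaf 0))))) (.node (.node (.node (.node (.leaf 7904) (.leaf 19275)) (.node (.leaf 305) (.leaf 0))) (.node (.node (.leaf 6264) (.leaf 0)) (.node (.leaf 12021) (.leaf 0)))) (.node (.node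 (.node (.leaf 15225) (.leaf 15659)) (.node (.leaf 19988) (.leaf 0))) (.node (.node (.leaf 11720) (.leaf 0)) (.node (.leaf 9907) (.leaf 0)))))))))

/-- part of a table -/
def ordM113 : Trie := (.node (.node (.node (.node (.node (.node (.node (.node (.leaf 3000) (.leaf 3554)) (.node (.leaf 17989) (.leaf 0))) (.node (.node (.leaf 21495) (.leaf 13888)) (.node (.leaf 694) (.leaf 0)))) (.node (.node (.node (.leaf 8723) (.leaf 14702)) (.node (.leaf 14698) (.leaf 0))) (.node (.node (.leaf 15748) (.leaf 0)) (.node (.leaf 13254) (.leaf 0))))) (.node (.node (.node (.node (.leaf 9902) (.leaf 16884)) (.node (.leaf 19870) (.leaf 0))) (.node (.node (.leaf 2410) (.leaf 0)) (.node (.leaf 10915) (.leaf 0)))) (.node (.node (.node (.leaf 6735) (.leaf 4585)) (.node (.leaf 4482) (.leaf 0))) (.node (.node (.leaf 20916) (.leaf 0)) (.node (.leaf 15155) (.leaf 0)))))) (.node (.node (.node (.node (.node (.leaf 7679) (.leaf 15870)) (.node (.leaf 8731) (.leaf 0))) (.node (.node (.leaf 20029) (.leaf 2795)) (.node (.leaf 6806)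 (.leaf 0)))) (.node (.node (.node (.leaf 5643) (.leaf 6428)) (.node (.leaf 4822) (.leaf 0))) (.node (.node (.leaf 17780) (.leaf 0)) (.node (.leaf 113) (.leaf 0))))) (.node (.node (.node (.node (.leaf 13402) (.leaf 4006)) (.node (.leaf 1957) (.leaf 0))) (.node (.node (.leaf 19407) (.leaf 0)) (.node (.leaf 21151) (.leaf 0)))) (.node (.node (.node (.leaf 7433) (.leaf 19146)) (.node (.leaf 970) (.leaf 0))) (.node (.node (.leaf 21488) (.leaf 0)) (.node (.leaf 4017) (.leaf 0))))))) (.node (.node (.node (.node (.node (.node (.leaf 13722) (.leaf 19065)) (.node (.leaf 1848) (.leaf 0))) (.node (.node (.leaf 7544) (.leaf 19242)) (.node (.leaf 11547) (.leaf 0)))) (.node (.node (.node (.leaf 15891) (.leaf 9565)) (.node (.leaf 8) (.leaf 0))) (.node (.node (.leaf 17801) (.leaf 0)) (.node (.leaf 10941) (.leaf 0))))) (.node (.node (.node (.node (.leaf 11258) (.leaf 7237)) (.node (.leaf 20088) (.leaf 0))) (.node (.node (.leaf 5992) (.leaf 0)) (.node (.leaf 519) (.leaf 0)))) (.node (.node (.node (.leaf 2390) (.leaf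 17392)) (.node (.leaf 20402) (.leaf 0))) (.node (.node (.leaf 6042) (.leaf 0)) (.node (.leaf 10575) (.leaf 0)))))) (.node (.node (.node (.node (.node (.leaf 1128) (.leaf 14198)) (.node (.leaf 13741) (.leaf 0))) (.node (.node (.leaf 18385) (.leaf 345)) (.node (.leaf 13241) (.leaf 0)))) (.node (.node (.node (.leaf 1585) (.leaf 15803)) (.node (.leaf 8343) (.leaf 0))) (.node (.node (.leaf 862) (.leaf 0)) (.node (.leaf 19272) (.leaf 0))))) (.node (.node (.node (.node (.leaf 117) (.leaf 7223)) (.node (.leaf 4280) (.leaf 0))) (.node (.node (.leaf 18339) (.leaf 0)) (.node (.leaf 5624) (.leaf 0)))) (.node (.node (.node (.leaf 8650) (.leaf 17315)) (.node (.leaf 19336) (.leaf 0))) (.node (.node (.leaf 18844) (.leaf 0)) (.node (.leaf 12674) (.leaf 0)))))))) (.node (.node (.node (.node (.node (.node (.node (.leaf 11675) (.leaf 13974)) (.node (.leaf 3511) (.leaf 0))) (.node (.node (.leaf 19586) (.leaf 20085)) (.node (.leaf 5078) (.leaf 0)))) (.node (.node (.node (.leaf 16853) (.leaf 3260)) (.node (.leaf 10556)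 (.leaf 0))) (.node (.node (.leaf 8691) (.leaf 0)) (.node (.leaf 12401) (.leaf 0))))) (.node (.node (.node (.node (.leaf 6893) (.leaf 3568)) (.node (.leaf 1308) (.leaf 0))) (.node (.node (.leaf 12316) (.leaf 0)) (.node (.leaf 21401) (.leaf 0)))) (.node (.node (.node (.leaf 1291) (.leaf 17658)) (.node (.leaf 16423) (.leaf 0))) (.node (.node (.leaf 6028) (.leaf 0)) (.node (.leaf 21461) (.leaf 0)))))) (.node (.node (.node (.node (.node (.leaf 2175) (.leaf 9713)) (.node (.leaf 1783) (.leaf 0))) (.node (.node (.leaf 3538) (.leaf 16075)) (.node (.leaf 6101) (.leaf 0)))) (.node (.node (.node (.leaf 10862) (.leaf 3615)) (.node (.leaf 19575) (.leaf 0))) (.node (.node (.leaf 2269) (.leaf 0)) (.node (.leaf 14501) (.leaf 0))))) (.node (.node (.node (.node (.leaf 3667) (.leaf 10582)) (.node (.leaf 16651) (.leaf 0))) (.node (.node (.leaf 8151) (.leaf 0)) (.node (.leaf 14353) (.leaf 0)))) (.node (.node (.node (.leaf 19644) (.leaf 19512)) (.node (.leaf 12538) (.leaf 0))) (.node (.node (.leaf 6006) (.leaf 0)) (.node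 (.leaf 9316) (.leaf 0))))))) (.node (.node (.node (.node (.node (.node (.leaf 3676) (.leaf 10384)) (.node (.leaf 16696) (.leaf 0))) (.node (.node (.leaf 4862) (.leaf 17328)) (.node (.leaf 5385) (.leaf 0)))) (.node (.node (.node (.leaf 18770) (.leaf 14090)) (.node (.leaf 10025) (.leaf 0))) (.node (.node (.leaf 13160) (.leaf 0)) (.node (.leaf 14318) (.leaf 0))))) (.node (.node (.node (.node (.leaf 15802) (.leaf 2101)) (.node (.leaf 13553) (.leaf 0))) (.node (.node (.leaf 8528) (.leaf 0)) (.node (.leaf 16085) (.leaf 0)))) (.node (.node (.node (.leaf 17629) (.leaf 17836)) (.node (.leaf 17990) (.leaf 0))) (.node (.node (.leaf 20027) (.leaf 0)) (.node (.leaf 1249) (.leaf 0)))))) (.node (.node (.node (.node (.node (.leaf 13845) (.leaf 3492)) (.node (.leaf 12618) (.leaf 0))) (.node (.node (.leaf 5628) (.leaf 5400)) (.node (.leaf 8870) (.leaf 0)))) (.node (.node (.node (.leaf 11694) (.leaf 20609)) (.node (.leaf 16388) (.leaf 0))) (.node (.node (.leaf 10569) (.leaf 0)) (.node (.leaf 9842) (.leaf 0))))) (.node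 (.node (.node (.node (.leaf 3359) (.leaf 19955)) (.node (.leaf 5332) (.leaf 0))) (.node (.node (.leaf 18407) (.leaf 0)) (.node (.leaf 6456) (.leaf 0)))) (.node (.node (.node (.leaf 9261) (.leaf 16574)) (.node (.leaf 12260) (.leaf 0))) (.node (.node (.leaf 19618) (.leaf 0)) (.node (.leaf 13668) (.leaf 0)))))))))

/-- part of a table -/
def ordM114 : Trie := (.node (.node (.node (.node (.node (.node (.node (.node (.leaf 5960) (.leaf 13831)) (.node (.leaf 17503) (.leaf 0))) (.node (.node (.leaf 1747) (.leaf 11590)) (.node (.leaf 16194) (.leaf 0)))) (.node (.node (.node (.leaf 20652) (.leaf 20978)) (.node (.leaf 14883) (.leaf 0))) (.node (.node (.leaf 21046) (.leaf 0)) (.node (.leaf 1491) (.leaf 0))))) (.node (.node (.node (.node (.leaf 15536) (.leaf 5247)) (.node (.leaf 6483) (.leaf 0))) (.node (.node (.leaf 21503) (.leaf 0)) (.node (.leaf 8568) (.leaf 0)))) (.node (.node (.node (.leaf 17182) (.leaf 20104)) (.node (.leaf 5734) (.leaf 0))) (.node (.node (.leaf 4809) (.leaf 0)) (.node (.leaf 10922) (.leaf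 0)))))) (.node (.node (.node (.node (.node (.leaf 15209) (.leaf 4299)) (.node (.leaf 14643) (.leaf 0))) (.node (.node (.leaf 6404) (.leaf 6202)) (.node (.leaf 21482) (.leaf 0)))) (.node (.node (.node (.leaf 13050) (.leaf 1210)) (.node (.leaf 12201) (.leaf 0))) (.node (.node (.leaf 9060) (.leaf 0)) (.node (.leaf 20387) (.leaf 0))))) (.node (.node (.node (.node (.leaf 19520) (.leaf 16233)) (.node (.leaf 17523) (.leaf 0))) (.node (.node (.leaf 7458) (.leaf 0)) (.node (.leaf 18327) (.leaf 0)))) (.node (.node (.node (.leaf 16474) (.leaf 11098)) (.node (.leaf 9858) (.leaf 0))) (.node (.node (.leaf 5417) (.leaf 0)) (.node (.leaf 16392) (.leaf 0))))))) (.node (.node (.node (.node (.node (.node (.leaf 19000) (.leaf 14560)) (.node (.leaf 5175) (.leaf 0))) (.node (.node (.leaf 7968) (.leaf 2359)) (.node (.leaf 675) (.leaf 0)))) (.node (.node (.node (.leaf 11660) (.leaf 15437)) (.node (.leaf 21306) (.leaf 0))) (.node (.node (.leaf 6818) (.leaf 0)) (.node (.leaf 18414) (.leaf 0))))) (.node (.node (.node (.node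 (.leaf 7598) (.leaf 7355)) (.node (.leaf 4840) (.leaf 0))) (.node (.node (.leaf 18267) (.leaf 0)) (.node (.leaf 9773) (.leaf 0)))) (.node (.node (.node (.leaf 10902) (.leaf 10474)) (.node (.leaf 107) (.leaf 0))) (.node (.node (.leaf 16034) (.leaf 0)) (.node (.leaf 11233) (.leaf 0)))))) (.node (.node (.node (.node (.node (.leaf 12629) (.leaf 12560)) (.node (.leaf 8895) (.leaf 0))) (.node (.node (.leaf 16534) (.leaf 17490)) (.node (.leaf 2758) (.leaf 0)))) (.node (.node (.node (.leaf 4401) (.leaf 18661)) (.node (.leaf 14170) (.leaf 0))) (.node (.node (.leaf 20274) (.leaf 0)) (.node (.leaf 10878) (.leaf 0))))) (.node (.node (.node (.node (.leaf 16861) (.leaf 10220)) (.node (.leaf 9654) (.leaf 0))) (.node (.node (.leaf 895) (.leaf 0)) (.node (.leaf 6166) (.leaf 0)))) (.node (.node (.node (.leaf 2636) (.leaf 2328)) (.node (.leaf 440) (.leaf 0))) (.node (.node (.leaf 934) (.leaf 0)) (.node (.leaf 8376) (.leaf 0)))))))) (.node (.node (.node (.node (.node (.node (.node (.leaf 8851) (.leaf 20794)) (.node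 (.leaf 2853) (.leaf 0))) (.node (.node (.leaf 11563) (.leaf 18478)) (.node (.leaf 10596) (.leaf 0)))) (.node (.node (.node (.leaf 4224) (.leaf 3597)) (.node (.leaf 17690) (.leaf 0))) (.node (.node (.leaf 19780) (.leaf 0)) (.node (.leaf 18067) (.leaf 0))))) (.node (.node (.node (.node (.leaf 17122) (.leaf 17067)) (.node (.leaf 3300) (.leaf 0))) (.node (.node (.leaf 1208) (.leaf 0)) (.node (.leaf 8674) (.leaf 0)))) (.node (.node (.node (.leaf 5717) (.leaf 1584)) (.node (.leaf 11377) (.leaf 0))) (.node (.node (.leaf 3403) (.leaf 0)) (.node (.leaf 7561) (.leaf 0)))))) (.node (.node (.node (.node (.node (.leaf 4374) (.leaf 17940)) (.node (.leaf 6000) (.leaf 0))) (.node (.node (.leaf 4996) (.leaf 19459)) (.node (.leaf 4574) (.leaf 0)))) (.node (.node (.node (.leaf 5507) (.leaf 14756)) (.node (.leaf 19809) (.leaf 0))) (.node (.node (.leaf 10167) (.leaf 0)) (.node (.leaf 3722) (.leaf 0))))) (.node (.node (.node (.node (.leaf 12830) (.leaf 12816)) (.node (.leaf 6519) (.leaf 0))) (.node (.node (.leaf 18352)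 (.leaf 0)) (.node (.leaf 19103) (.leaf 0)))) (.node (.node (.node (.leaf 12091) (.leaf 926)) (.node (.leaf 2201) (.leaf 0))) (.node (.node (.leaf 66) (.leaf 0)) (.node (.leaf 13794) (.leaf 0))))))) (.node (.node (.node (.node (.node (.node (.leaf 4248) (.leaf 7668)) (.node (.leaf 2274) (.leaf 0))) (.node (.node (.leaf 10493) (.leaf 16243)) (.node (.leaf 13713) (.leaf 0)))) (.node (.node (.node (.leaf 8408) (.leaf 1992)) (.node (.leaf 15844) (.leaf 0))) (.node (.node (.leaf 12074) (.leaf 0)) (.node (.leaf 19610) (.leaf 0))))) (.node (.node (.node (.node (.leaf 2783) (.leaf 6057)) (.node (.leaf 5495) (.leaf 0))) (.node (.node (.leaf 2882) (.leaf 0)) (.node (.leaf 6559) (.leaf 0)))) (.node (.node (.node (.leaf 10888) (.leaf 17032)) (.node (.leaf 16084) (.leaf 0))) (.node (.node (.leaf 18708) (.leaf 0)) (.node (.leaf 10623) (.leaf 0)))))) (.node (.node (.node (.node (.node (.leaf 14678) (.leaf 1028)) (.node (.leaf 6874) (.leaf 0))) (.node (.node (.leaf 3372) (.leaf 20648)) (.node (.leaf 10812) (.leaf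 0)))) (.node (.node (.node (.leaf 12087) (.leaf 1914)) (.node (.leaf 5104) (.leaf 0))) (.node (.node (.leaf 11132) (.leaf 0)) (.node (.leaf 18401) (.leaf 0))))) (.node (.node (.node (.node (.leaf 2874) (.leaf 15918)) (.node (.leaf 6877) (.leaf 0))) (.node (.node (.leaf 7852) (.leaf 0)) (.node (.leaf 10164) (.leaf 0)))) (.node (.node (.node (.leaf 9612) (.leaf 13863)) (.node (.leaf 8028) (.leaf 0))) (.node (.node (.leaf 19367) (.leaf 0)) (.node (.leaf 21009) (.leaf 0)))))))))

/-- part of a table -/
def ordM115 : Trie := (.node (.node (.node (.node (.node (.node (.node (.node (.leaf 4410) (.leaf 5455)) (.node (.leaf 11791) (.leaf 0))) (.node (.node (.leaf 7820) (.leaf 3488)) (.node (.leaf 10258) (.leaf 0)))) (.node (.node (.node (.leaf 17859) (.leaf 20080)) (.node (.leaf 17969) (.leaf 0))) (.node (.node (.leaf 6127) (.leaf 0)) (.node (.leaf 543) (.leaf 0))))) (.node (.node (.node (.node (.leaf 21118) (.leaf 16925)) (.node (.leaf 19887) (.leaf 0))) (.node (.node (.leaf 21049) (.leaf 0)) (.node (.leaf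 14931) (.leaf 0)))) (.node (.node (.node (.leaf 9650) (.leaf 12076)) (.node (.leaf 6567) (.leaf 0))) (.node (.node (.leaf 285) (.leaf 0)) (.node (.leaf 8999) (.leaf 0)))))) (.node (.node (.node (.node (.node (.leaf 8365) (.leaf 11354)) (.node (.leaf 7414) (.leaf 0))) (.node (.node (.leaf 5392) (.leaf 2106)) (.node (.leaf 20670) (.leaf 0)))) (.node (.node (.node (.leaf 20537) (.leaf 8348)) (.node (.leaf 8166) (.leaf 0))) (.node (.node (.leaf 18153) (.leaf 0)) (.node (.leaf 18812) (.leaf 0))))) (.node (.node (.node (.node (.leaf 17350) (.leaf 7949)) (.node (.leaf 15351) (.leaf 0))) (.node (.node (.leaf 16517) (.leaf 0)) (.node (.leaf 17421) (.leaf 0)))) (.node (.node (.node (.leaf 20693) (.leaf 3542)) (.node (.leaf 3060) (.leaf 0))) (.node (.node (.leaf 13114) (.leaf 0)) (.node (.leaf 5477) (.leaf 0))))))) (.node (.node (.node (.node (.node (.node (.leaf 20441) (.leaf 2130)) (.node (.leaf 15899) (.leaf 0))) (.node (.node (.leaf 607) (.leaf 6064)) (.node (.leaf 10632) (.leaf 0)))) (.node (.node (.node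 (.leaf 1955) (.leaf 17435)) (.node (.leaf 18629) (.leaf 0))) (.node (.node (.leaf 19889) (.leaf 0)) (.node (.leaf 5164) (.leaf 0))))) (.node (.node (.node (.node (.leaf 4346) (.leaf 16076)) (.node (.leaf 18582) (.leaf 0))) (.node (.node (.leaf 16396) (.leaf 0)) (.node (.leaf 16215) (.leaf 0)))) (.node (.node (.node (.leaf 6413) (.leaf 5646)) (.node (.leaf 1990) (.leaf 0))) (.node (.node (.leaf 9993) (.leaf 0)) (.node (.leaf 18031) (.leaf 0)))))) (.node (.node (.node (.node (.node (.leaf 12801) (.leaf 20224)) (.node (.leaf 7066) (.leaf 0))) (.node (.node (.leaf 10014) (.leaf 11053)) (.node (.leaf 5791) (.leaf 0)))) (.node (.node (.node (.leaf 5620) (.leaf 21392)) (.node (.leaf 3817) (.leaf 0))) (.node (.node (.leaf 9215) (.leaf 0)) (.node (.leaf 15921) (.leaf 0))))) (.node (.node (.node (.node (.leaf 16026) (.leaf 15601)) (.node (.leaf 20134) (.leaf 0))) (.node (.node (.leaf 2982) (.leaf 0)) (.node (.leaf 13325) (.leaf 0)))) (.node (.node (.node (.leaf 1181) (.leaf 9736)) (.node (.leaf 7559) (.leaf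 0))) (.node (.node (.leaf 6117) (.leaf 0)) (.node (.leaf 770) (.leaf 0)))))))) (.node (.node (.node (.node (.node (.node (.node (.leaf 12581) (.leaf 20953)) (.node (.leaf 852) (.leaf 0))) (.node (.node (.leaf 13695) (.leaf 5240)) (.node (.leaf 3969) (.leaf 0)))) (.node (.node (.node (.leaf 1320) (.leaf 14124)) (.node (.leaf 10821) (.leaf 0))) (.node (.node (.leaf 18991) (.leaf 0)) (.node (.leaf 9104) (.leaf 0))))) (.node (.node (.node (.node (.leaf 10583) (.leaf 5237)) (.node (.leaf 20806) (.leaf 0))) (.node (.node (.leaf 4028) (.leaf 0)) (.node (.leaf 7152) (.leaf 0)))) (.node (.node (.node (.leaf 12027) (.leaf 71)) (.node (.leaf 18325) (.leaf 0))) (.node (.node (.leaf 2242) (.leaf 0)) (.node (.leaf 31) (.leaf 0)))))) (.node (.node (.node (.node (.node (.leaf 891) (.leaf 11184)) (.node (.leaf 13352) (.leaf 0))) (.node (.node (.leaf 10908) (.leaf 14958)) (.node (.leaf 11501) (.leaf 0)))) (.node (.node (.node (.leaf 10075) (.leaf 7523)) (.node (.leaf 15939) (.leaf 0))) (.node (.node (.leaf 18896)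 (.leaf 0)) (.node (.leaf 10040) (.leaf 0))))) (.node (.node (.node (.node (.leaf 16937) (.leaf 15511)) (.node (.leaf 8432) (.leaf 0))) (.node (.node (.leaf 15129) (.leaf 0)) (.node (.leaf 5139) (.leaf 0)))) (.node (.node (.node (.leaf 8223) (.leaf 12633)) (.node (.leaf 6446) (.leaf 0))) (.node (.node (.leaf 1446) (.leaf 0)) (.node (.leaf 14512) (.leaf 0))))))) (.node (.node (.node (.node (.node (.node (.leaf 14211) (.leaf 4903)) (.node (.leaf 611) (.leaf 0))) (.node (.node (.leaf 19211) (.leaf 7349)) (.node (.leaf 7373) (.leaf 0)))) (.node (.node (.node (.leaf 17681) (.leaf 110)) (.node (.leaf 10920) (.leaf 0))) (.node (.node (.leaf 17117) (.leaf 0)) (.node (.leaf 11972) (.leaf 0))))) (.node (.node (.node (.node (.leaf 13604) (.leaf 1932)) (.node (.leaf 1979) (.leaf 0))) (.node (.node (.leaf 10324) (.leaf 0)) (.node (.leaf 15782) (.leaf 0)))) (.node (.node (.node (.leaf 20038) (.leaf 8183)) (.node (.leaf 9623) (.leaf 0))) (.node (.node (.leaf 2406) (.leaf 0)) (.node (.leaf 19056) (.leaf 0)))))) (.node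 (.node (.node (.node (.node (.leaf 10968) (.leaf 10524)) (.node (.leaf 17903) (.leaf 0))) (.node (.node (.leaf 17106) (.leaf 5148)) (.node (.leaf 6324) (.leaf 0)))) (.node (.node (.node (.leaf 12849) (.leaf 3146)) (.node (.leaf 9160) (.leaf 0))) (.node (.node (.leaf 2007) (.leaf 0)) (.node (.leaf 19819) (.leaf 0))))) (.node (.node (.node (.node (.leaf 8526) (.leaf 8905)) (.node (.leaf 10673) (.leaf 0))) (.node (.node (.leaf 19710) (.leaf 0)) (.node (.leaf 19073) (.leaf 0)))) (.node (.node (.node (.leaf 12465) (.leaf 5851)) (.node (.leaf 453) (.leaf 0))) (.node (.node (.leaf 14823) (.leaf 0)) (.node (.leaf 15178) (.leaf 0)))))))))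

/-- part of a table -/
def ordM116 : Trie := (.node (.node (.node (.node (.node (.node (.node (.node (.leaf 3964) (.leaf 10327)) (.node (.leaf 12557) (.leaf 0))) (.node (.node (.leaf 157) (.leaf 1331)) (.node (.leaf 16369) (.leaf 0)))) (.node (.node (.node (.leaf 845) (.leaf 13395)) (.node (.leaf 18054) (.leaf 0))) (.node (.node (.leaf 21061) (.leaf 0)) (.node (.leaf 15553) (.leaf 0))))) (.node (.node (.node (.node (.leaf 13113) (.leaf 880)) (.node (.leaf 2113) (.leaf 0))) (.node (.node (.leaf 3840) (.leaf 0)) (.node (.leaf 6694) (.leaf 0)))) (.node (.node (.node (.leaf 5302) (.leaf 8326)) (.node (.leaf 2025) (.leaf 0))) (.node (.node (.leaf 3369) (.leaf 0)) (.node (.leaf 5276) (.leaf 0)))))) (.node (.node (.node (.node (.node (.leaf 6016) (.leaf 20189)) (.node (.leaf 17069) (.leaf 0))) (.node (.node (.leaf 2361) (.leaf 7696)) (.node (.leaf 17352) (.leaf 0)))) (.node (.node (.node (.leaf 13037) (.leaf 14570)) (.node (.leaf 19975) (.leaf 0))) (.node (.node (.leaf 11494) (.leaf 0)) (.node (.leaf 17866)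 (.leaf 0))))) (.node (.node (.node (.node (.leaf 7449) (.leaf 1742)) (.node (.leaf 21272) (.leaf 0))) (.node (.node (.leaf 9777) (.leaf 0)) (.node (.leaf 788) (.leaf 0)))) (.node (.node (.node (.leaf 5688) (.leaf 6775)) (.node (.leaf 18295) (.leaf 0))) (.node (.node (.leaf 6738) (.leaf 0)) (.node (.leaf 12547) (.leaf 0))))))) (.node (.node (.node (.node (.node (.node (.leaf 4606) (.leaf 7304)) (.node (.leaf 2324) (.leaf 0))) (.node (.node (.leaf 15862) (.leaf 6920)) (.node (.leaf 7944) (.leaf 0)))) (.node (.node (.node (.leaf 14538) (.leaf 4462)) (.node (.leaf 18909) (.leaf 0))) (.node (.node (.leaf 14008) (.leaf 0)) (.node (.leaf 5448) (.leaf 0))))) (.node (.node (.node (.node (.leaf 4095) (.leaf 11759)) (.node (.leaf 17892) (.leaf 0))) (.node (.node (.leaf 20523) (.leaf 0)) (.node (.leaf 11570) (.leaf 0)))) (.node (.node (.node (.leaf 9991) (.leaf 6975)) (.node (.leaf 18507) (.leaf 0))) (.node (.node (.leaf 1109) (.leaf 0)) (.node (.leaf 7748) (.leaf 0)))))) (.node (.node (.node (.node (.node (.leaf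 1656) (.leaf 2922)) (.node (.leaf 14049) (.leaf 0))) (.node (.node (.leaf 16207) (.leaf 5445)) (.node (.leaf 21336) (.leaf 0)))) (.node (.node (.node (.leaf 9295) (.leaf 6812)) (.node (.leaf 4650) (.leaf 0))) (.node (.node (.leaf 12892) (.leaf 0)) (.node (.leaf 1022) (.leaf 0))))) (.node (.node (.node (.node (.leaf 19980) (.leaf 5185)) (.node (.leaf 14974) (.leaf 0))) (.node (.node (.leaf 17837) (.leaf 0)) (.node (.leaf 11781) (.leaf 0)))) (.node (.node (.node (.leaf 20397) (.leaf 10192)) (.node (.leaf 9176) (.leaf 0))) (.node (.node (.leaf 16648) (.leaf 0)) (.node (.leaf 20435) (.leaf 0)))))))) (.node (.node (.node (.node (.node (.node (.node (.leaf 9086) (.leaf 9850)) (.node (.leaf 8666) (.leaf 0))) (.node (.node (.leaf 18249) (.leaf 14487)) (.node (.leaf 12318) (.leaf 0)))) (.node (.node (.node (.leaf 12060) (.leaf 13709)) (.node (.leaf 12384) (.leaf 0))) (.node (.node (.leaf 17851) (.leaf 0)) (.node (.leaf 9476) (.leaf 0))))) (.node (.node (.node (.node (.leaf 6918) (.leaf 3653)) (.node (.leaf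 21076) (.leaf 0))) (.node (.node (.leaf 8916) (.leaf 0)) (.node (.leaf 10227) (.leaf 0)))) (.node (.node (.node (.leaf 18205) (.leaf 15392)) (.node (.leaf 2309) (.leaf 0))) (.node (.node (.leaf 3117) (.leaf 0)) (.node (.leaf 3384) (.leaf 0)))))) (.node (.node (.node (.node (.node (.leaf 10859) (.leaf 10454)) (.node (.leaf 19963) (.leaf 0))) (.node (.node (.leaf 18013) (.leaf 431)) (.node (.leaf 9380) (.leaf 0)))) (.node (.node (.node (.leaf 20204) (.leaf 5359)) (.node (.leaf 15651) (.leaf 0))) (.node (.node (.leaf 524) (.leaf 0)) (.node (.leaf 1950) (.leaf 0))))) (.node (.node (.node (.node (.leaf 16593) (.leaf 10709)) (.node (.leaf 12885) (.leaf 0))) (.node (.node (.leaf 11840) (.leaf 0)) (.node (.leaf 11886) (.leaf 0)))) (.node (.node (.node (.leaf 11278) (.leaf 2855)) (.node (.leaf 21056) (.leaf 0))) (.node (.node (.leaf 4992) (.leaf 0)) (.node (.leaf 16893) (.leaf 0))))))) (.node (.node (.node (.node (.node (.node (.leaf 856) (.leaf 19978)) (.node (.leaf 3466) (.leaf 0))) (.node (.node (.leaf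 7052) (.leaf 15213)) (.node (.leaf 489) (.leaf 0)))) (.node (.node (.node (.leaf 11120) (.leaf 20185)) (.node (.leaf 2409) (.leaf 0))) (.node (.node (.leaf 15276) (.leaf 0)) (.node (.leaf 6270) (.leaf 0))))) (.node (.node (.node (.node (.leaf 3045) (.leaf 21014)) (.node (.leaf 20125) (.leaf 0))) (.node (.node (.leaf 11920) (.leaf 0)) (.node (.leaf 12950) (.leaf 0)))) (.node (.node (.node (.leaf 18411) (.leaf 15368)) (.node (.leaf 9590) (.leaf 0))) (.node (.node (.leaf 15323) (.leaf 0)) (.node (.leaf 8198) (.leaf 0)))))) (.node (.node (.node (.node (.node (.leaf 14234) (.leaf 14728)) (.node (.leaf 7371) (.leaf 0))) (.node (.node (.leaf 814) (.leaf 1390)) (.node (.leaf 6161) (.leaf 0)))) (.node (.node (.node (.leaf 4323) (.leaf 13456)) (.node (.leaf 7082) (.leaf 0))) (.node (.node (.leaf 17298) (.leaf 0)) (.node (.leaf 11131) (.leaf 0))))) (.node (.node (.node (.node (.leaf 3923) (.leaf 4964)) (.node (.leaf 11715) (.leaf 0))) (.node (.node (.leaf 9299) (.leaf 0)) (.node (.leaf 4303) (.leaf 0)))) (.node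 (.node (.node (.leaf 17925) (.leaf 3658)) (.node (.leaf 13348) (.leaf 0))) (.node (.node (.leaf 13034) (.leaf 0)) (.node (.leaf 314) (.leaf 0)))))))))

/-- part of a table -/
def ordM117 : Trie := (.node (.node (.node (.node (.node (.node (.node (.node (.leaf 15256) (.leaf 3682)) (.node (.leaf 14470) (.leaf 0))) (.node (.node (.leaf 3180) (.leaf 6656)) (.node (.leaf 9266) (.leaf 0)))) (.node (.node (.node (.leaf 12421) (.leaf 4639)) (.node (.leaf 2978) (.leaf 0))) (.node (.node (.leaf 19698) (.leaf 0)) (.node (.leaf 14690) (.leaf 0))))) (.node (.node (.node (.node (.leaf 11117) (.leaf 9107)) (.node (.leaf 9243) (.leaf 0))) (.node (.node (.leaf 20119) (.leaf 0)) (.node (.leaf 17362) (.leaf 0)))) (.node (.node (.node (.leaf 14971) (.leaf 3072)) (.node (.leaf 5899) (.leaf 0))) (.node (.node (.leaf 20180) (.leaf 0)) (.node (.leaf 2412) (.leaf 0)))))) (.node (.node (.node (.node (.node (.leaf 17841) (.leaf 21467)) (.node (.leaf 7669) (.leaf 0))) (.node (.node (.leaf 8117) (.leaf 15259)) (.node (.leaf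 10724) (.leaf 0)))) (.node (.node (.node (.leaf 8937) (.leaf 19470)) (.node (.leaf 18725) (.leaf 0))) (.node (.node (.leaf 16613) (.leaf 0)) (.node (.leaf 1940) (.leaf 0))))) (.node (.node (.node (.node (.leaf 16415) (.leaf 4679)) (.node (.leaf 20723) (.leaf 0))) (.node (.node (.leaf 3500) (.leaf 0)) (.node (.leaf 2846) (.leaf 0)))) (.node (.node (.node (.leaf 9575) (.leaf 12404)) (.node (.leaf 20150) (.leaf 0))) (.node (.node (.leaf 2289) (.leaf 0)) (.node (.leaf 17671) (.leaf 0))))))) (.node (.node (.node (.node (.node (.node (.leaf 2142) (.leaf 11869)) (.node (.leaf 6560) (.leaf 0))) (.node (.node (.leaf 6068) (.leaf 21218)) (.node (.leaf 13754) (.leaf 0)))) (.node (.node (.node (.leaf 1259) (.leaf 11606)) (.node (.leaf 10085) (.leaf 0))) (.node (.node (.leaf 6959) (.leaf 0)) (.node (.leaf 5397) (.leaf 0))))) (.node (.node (.node (.node (.leaf 3035) (.leaf 8564)) (.node (.leaf 19603) (.leaf 0))) (.node (.node (.leaf 20724) (.leaf 0)) (.node (.leaf 16605) (.leaf 0)))) (.node (.node (.node (.leaf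 8507) (.leaf 19051)) (.node (.leaf 8811) (.leaf 0))) (.node (.node (.leaf 2797) (.leaf 0)) (.node (.leaf 16772) (.leaf 0)))))) (.node (.node (.node (.node (.node (.leaf 1104) (.leaf 11578)) (.node (.leaf 5609) (.leaf 0))) (.node (.node (.leaf 18263) (.leaf 1943)) (.node (.leaf 15605) (.leaf 0)))) (.node (.node (.node (.leaf 20208) (.leaf 10676)) (.node (.leaf 1873) (.leaf 0))) (.node (.node (.leaf 9237) (.leaf 0)) (.node (.leaf 758) (.leaf 0))))) (.node (.node (.node (.node (.leaf 21279) (.leaf 21334)) (.node (.leaf 14142) (.leaf 0))) (.node (.node (.leaf 11009) (.leaf 0)) (.node (.leaf 11179) (.leaf 0)))) (.node (.node (.node (.leaf 20695) (.leaf 3753)) (.node (.leaf 6627) (.leaf 0))) (.node (.node (.leaf 7181) (.leaf 0)) (.node (.leaf 19350) (.leaf 0)))))))) (.node (.node (.node (.node (.node (.node (.node (.leaf 17022) (.leaf 2752)) (.node (.leaf 14121) (.leaf 0))) (.node (.node (.leaf 21006) (.leaf 1321)) (.node (.leaf 4922) (.leaf 0)))) (.node (.node (.node (.leaf 15700) (.leaf 5466)) (.node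 (.leaf 18440) (.leaf 0))) (.node (.node (.leaf 14991) (.leaf 0)) (.node (.leaf 21054) (.leaf 0))))) (.node (.node (.node (.node (.leaf 17973) (.leaf 1324)) (.node (.leaf 19986) (.leaf 0))) (.node (.node (.leaf 9711) (.leaf 0)) (.node (.leaf 4311) (.leaf 0)))) (.node (.node (.node (.leaf 14551) (.leaf 6662)) (.node (.leaf 17280) (.leaf 0))) (.node (.node (.leaf 8672) (.leaf 0)) (.node (.leaf 9179) (.leaf 0)))))) (.node (.node (.node (.node (.node (.leaf 10436) (.leaf 12927)) (.node (.leaf 11701) (.leaf 0))) (.node (.node (.leaf 9042) (.leaf 1733)) (.node (.leaf 6219) (.leaf 0)))) (.node (.node (.node (.leaf 13953) (.leaf 13495)) (.node (.leaf 6583) (.leaf 0))) (.node (.node (.leaf 6447) (.leaf 0)) (.node (.leaf 9260) (.leaf 0))))) (.node (.node (.node (.node (.leaf 7394) (.leaf 8456)) (.node (.leaf 4691) (.leaf 0))) (.node (.node (.leaf 9140) (.leaf 0)) (.node (.leaf 7324) (.leaf 0)))) (.node (.node (.node (.leaf 2699) (.leaf 7659)) (.node (.leaf 10994) (.leaf 0))) (.node (.node (.leaf 13240) (.leaf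 0)) (.node (.leaf 17856) (.leaf 0))))))) (.node (.node (.node (.node (.node (.node (.leaf 2725) (.leaf 14642)) (.node (.leaf 9700) (.leaf 0))) (.node (.node (.leaf 11461) (.leaf 11767)) (.node (.leaf 8481) (.leaf 0)))) (.node (.node (.node (.leaf 10799) (.leaf 21086)) (.node (.leaf 7177) (.leaf 0))) (.node (.node (.leaf 6974) (.leaf 0)) (.node (.leaf 350) (.leaf 0))))) (.node (.node (.node (.node (.leaf 12944) (.leaf 20460)) (.node (.leaf 5041) (.leaf 0))) (.node (.node (.leaf 6635) (.leaf 0)) (.node (.leaf 20521) (.leaf 0)))) (.node (.node (.node (.leaf 9052) (.leaf 6741)) (.node (.leaf 14474) (.leaf 0))) (.node (.node (.leaf 5662) (.leaf 0)) (.node (.leaf 503) (.leaf 0)))))) (.node (.node (.node (.node (.node (.leaf 11363) (.leaf 10170)) (.node (.leaf 1634) (.leaf 0))) (.node (.node (.leaf 12005) (.leaf 10945)) (.node (.leaf 14568) (.leaf 0)))) (.node (.node (.node (.leaf 6024) (.leaf 13955)) (.node (.leaf 15110) (.leaf 0))) (.node (.node (.leaf 21242) (.leaf 0)) (.node (.leaf 9512) (.leaf 0)))))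 (.node (.node (.node (.node (.leaf 4661) (.leaf 2241)) (.node (.leaf 4459) (.leaf 0))) (.node (.node (.leaf 21320) (.leaf 0)) (.node (.leaf 14438) (.leaf 0)))) (.node (.node (.node (.leaf 16301) (.leaf 3601)) (.node (.leaf 21293) (.leaf 0))) (.node (.node (.leaf 19854) (.leaf 0)) (.node (.leaf 13) (.leaf 0)))))))))

/-- part of a table -/
def ordM118 : Trie := (.node (.node (.node (.node (.node (.node (.node (.node (.leaf 13666) (.leaf 12836)) (.node (.leaf 6150) (.leaf 0))) (.node (.node (.leaf 15020) (.leaf 16626)) (.node (.leaf 12748) (.leaf 0)))) (.node (.node (.node (.leaf 10473) (.leaf 19548)) (.node (.leaf 2002) (.leaf 0))) (.node (.node (.leaf 1179) (.leaf 0)) (.node (.leaf 9046) (.leaf 0))))) (.node (.node (.node (.node (.leaf 4232) (.leaf 12414)) (.node (.leaf 6823) (.leaf 0))) (.node (.node (.leaf 1628) (.leaf 0)) (.node (.leaf 43) (.leaf 0)))) (.node (.node (.node (.leaf 16992) (.leaf 15342)) (.node (.leaf 16703) (.leaf 0))) (.node (.node (.leaf 1689) (.leaf 0)) (.node (.leaf 21422) (.leaf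 0)))))) (.node (.node (.node (.node (.node (.leaf 19291) (.leaf 5944)) (.node (.leaf 19346) (.leaf 0))) (.node (.node (.leaf 5083) (.leaf 8283)) (.node (.leaf 460) (.leaf 0)))) (.node (.node (.node (.leaf 2753) (.leaf 18053)) (.node (.leaf 6858) (.leaf 0))) (.node (.node (.leaf 3476) (.leaf 0)) (.node (.leaf 18476) (.leaf 0))))) (.node (.node (.node (.node (.leaf 20151) (.leaf 20370)) (.node (.leaf 4088) (.leaf 0))) (.node (.node (.leaf 3951) (.leaf 0)) (.node (.leaf 3088) (.leaf 0)))) (.node (.node (.node (.leaf 17637) (.leaf 3501)) (.node (.leaf 16983) (.leaf 0))) (.node (.node (.leaf 8411) (.leaf 0)) (.node (.leaf 20935) (.leaf 0))))))) (.node (.node (.node (.node (.node (.node (.leaf 9580) (.leaf 20116)) (.node (.leaf 16166) (.leaf 0))) (.node (.node (.leaf 10932) (.leaf 19193)) (.node (.leaf 21100) (.leaf 0)))) (.node (.node (.node (.leaf 19558) (.leaf 20655)) (.node (.leaf 12118) (.leaf 0))) (.node (.node (.leaf 16358) (.leaf 0)) (.node (.leaf 13294) (.leaf 0))))) (.node (.node (.node (.node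 (.leaf 21087) (.leaf 9664)) (.node (.leaf 5533) (.leaf 0))) (.node (.node (.leaf 7153) (.leaf 0)) (.node (.leaf 5765) (.leaf 0)))) (.node (.node (.node (.leaf 7278) (.leaf 1281)) (.node (.leaf 1672) (.leaf 0))) (.node (.node (.leaf 12700) (.leaf 0)) (.node (.leaf 2623) (.leaf 0)))))) (.node (.node (.node (.node (.node (.leaf 11934) (.leaf 15875)) (.node (.leaf 15724) (.leaf 0))) (.node (.node (.leaf 18558) (.leaf 7258)) (.node (.leaf 18866) (.leaf 0)))) (.node (.node (.node (.leaf 6663) (.leaf 973)) (.node (.leaf 4499) (.leaf 0))) (.node (.node (.leaf 14773) (.leaf 0)) (.node (.leaf 3550) (.leaf 0))))) (.node (.node (.node (.node (.leaf 19100) (.leaf 16617)) (.node (.leaf 4520) (.leaf 0))) (.node (.node (.leaf 18485) (.leaf 0)) (.node (.leaf 12242) (.leaf 0)))) (.node (.node (.node (.leaf 19981) (.leaf 18317)) (.node (.leaf 7497) (.leaf 0))) (.node (.node (.leaf 12428) (.leaf 0)) (.node (.leaf 14240) (.leaf 0)))))))) (.node (.node (.node (.node (.node (.node (.node (.leaf 12536) (.leaf 18139)) (.node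 (.leaf 10885) (.leaf 0))) (.node (.node (.leaf 8004) (.leaf 989)) (.node (.leaf 21247) (.leaf 0)))) (.node (.node (.node (.leaf 19790) (.leaf 7247)) (.node (.leaf 17731) (.leaf 0))) (.node (.node (.leaf 228) (.leaf 0)) (.node (.leaf 9032) (.leaf 0))))) (.node (.node (.node (.node (.leaf 10810) (.leaf 10188)) (.node (.leaf 2067) (.leaf 0))) (.node (.node (.leaf 17938) (.leaf 0)) (.node (.leaf 10852) (.leaf 0)))) (.node (.node (.node (.leaf 4395) (.leaf 4805)) (.node (.leaf 15568) (.leaf 0))) (.node (.node (.leaf 20760) (.leaf 0)) (.node (.leaf 6397) (.leaf 0)))))) (.node (.node (.node (.node (.node (.leaf 9303) (.leaf 20492)) (.node (.leaf 12107) (.leaf 0))) (.node (.node (.leaf 12592) (.leaf 3044)) (.node (.leaf 7627) (.leaf 0)))) (.node (.node (.node (.leaf 3374) (.leaf 18377)) (.node (.leaf 12499) (.leaf 0))) (.node (.node (.leaf 18435) (.leaf 0)) (.node (.leaf 17717) (.leaf 0))))) (.node (.node (.node (.node (.leaf 11226) (.leaf 6917)) (.node (.leaf 1790) (.leaf 0))) (.node (.node (.leaf 20578)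 (.leaf 0)) (.node (.leaf 723) (.leaf 0)))) (.node (.node (.node (.leaf 8029) (.leaf 9037)) (.node (.leaf 3134) (.leaf 0))) (.node (.node (.leaf 13285) (.leaf 0)) (.node (.leaf 1049) (.leaf 0))))))) (.node (.node (.node (.node (.node (.node (.leaf 14480) (.leaf 21073)) (.node (.leaf 907) (.leaf 0))) (.node (.node (.leaf 19705) (.leaf 16726)) (.node (.leaf 17045) (.leaf 0)))) (.node (.node (.node (.leaf 10509) (.leaf 6123)) (.node (.leaf 15073) (.leaf 0))) (.node (.node (.leaf 3250) (.leaf 0)) (.node (.leaf 17224) (.leaf 0))))) (.node (.node (.node (.node (.leaf 16809) (.leaf 6525)) (.node (.leaf 14522) (.leaf 0))) (.node (.node (.leaf 2079) (.leaf 0)) (.node (.leaf 12290) (.leaf 0)))) (.node (.node (.node (.leaf 5074) (.leaf 4377)) (.node (.leaf 2051) (.leaf 0))) (.node (.node (.leaf 1668) (.leaf 0)) (.node (.leaf 14107) (.leaf 0)))))) (.node (.node (.node (.node (.node (.leaf 1014) (.leaf 19029)) (.node (.leaf 6096) (.leaf 0))) (.node (.node (.leaf 19636) (.leaf 9486)) (.node (.leaf 11154) (.leaf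 0)))) (.node (.node (.node (.leaf 4962) (.leaf 18224)) (.node (.leaf 6944) (.leaf 0))) (.node (.node (.leaf 8823) (.leaf 0)) (.node (.leaf 8157) (.leaf 0))))) (.node (.node (.node (.node (.leaf 18850) (.leaf 8102)) (.node (.leaf 6133) (.leaf 0))) (.node (.node (.leaf 201) (.leaf 0)) (.node (.leaf 12035) (.leaf 0)))) (.node (.node (.node (.leaf 3928) (.leaf 885)) (.node (.leaf 5288) (.leaf 0))) (.node (.node (.leaf 12957) (.leaf 0)) (.node (.leaf 10275) (.leaf 0)))))))))

/-- part of a table -/
def ordM119 : Trie := (.node (.node (.node (.node (.node (.node (.node (.node (.leaf 5471) (.leaf 2193)) (.node (.leaf 6720) (.leaf 0))) (.node (.node (.leaf 12922) (.leaf 11517)) (.node (.leaf 8619) (.leaf 0)))) (.node (.node (.node (.leaf 19264) (.leaf 15677)) (.node (.leaf 448) (.leaf 0))) (.node (.node (.leaf 2633) (.leaf 0)) (.node (.leaf 13345) (.leaf 0))))) (.node (.node (.node (.node (.leaf 14070) (.leaf 3604)) (.node (.leaf 11291) (.leaf 0))) (.node (.node (.leaf 7363) (.leaf 0)) (.node (.leaf 946)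 (.leaf 0)))) (.node (.node (.node (.leaf 7330) (.leaf 3253)) (.node (.leaf 4315) (.leaf 0))) (.node (.node (.leaf 16109) (.leaf 0)) (.node (.leaf 17316) (.leaf 0)))))) (.node (.node (.node (.node (.node (.leaf 4954) (.leaf 6460)) (.node (.leaf 18680) (.leaf 0))) (.node (.node (.leaf 10939) (.leaf 11288)) (.node (.leaf 7869) (.leaf 0)))) (.node (.node (.node (.leaf 9851) (.leaf 20706)) (.node (.leaf 2879) (.leaf 0))) (.node (.node (.leaf 2519) (.leaf 0)) (.node (.leaf 9493) (.leaf 0))))) (.node (.node (.node (.node (.leaf 3319) (.leaf 16817)) (.node (.leaf 1154) (.leaf 0))) (.node (.node (.leaf 8240) (.leaf 0)) (.node (.leaf 9537) (.leaf 0)))) (.node (.node (.node (.leaf 2383) (.leaf 7006)) (.node (.leaf 6308) (.leaf 0))) (.node (.node (.leaf 16176) (.leaf 0)) (.node (.leaf 14429) (.leaf 0))))))) (.node (.node (.node (.node (.node (.node (.leaf 5761) (.leaf 10105)) (.node (.leaf 21211) (.leaf 0))) (.node (.node (.leaf 17994) (.leaf 8452)) (.node (.leaf 12452) (.leaf 0)))) (.node (.node (.node (.leaf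 20721) (.leaf 6136)) (.node (.leaf 1226) (.leaf 0))) (.node (.node (.leaf 5987) (.leaf 0)) (.node (.leaf 13422) (.leaf 0))))) (.node (.node (.node (.node (.leaf 19743) (.leaf 13406)) (.node (.leaf 2256) (.leaf 0))) (.node (.node (.leaf 8675) (.leaf 0)) (.node (.leaf 13971) (.leaf 0)))) (.node (.node (.node (.leaf 5260) (.leaf 11530)) (.node (.leaf 17516) (.leaf 0))) (.node (.node (.leaf 15219) (.leaf 0)) (.node (.leaf 10398) (.leaf 0)))))) (.node (.node (.node (.node (.node (.leaf 14387) (.leaf 7473)) (.node (.leaf 2505) (.leaf 0))) (.node (.node (.leaf 9936) (.leaf 14960)) (.node (.leaf 16431) (.leaf 0)))) (.node (.node (.node (.leaf 14066) (.leaf 4398)) (.node (.leaf 11849) (.leaf 0))) (.node (.node (.leaf 7198) (.leaf 0)) (.node (.leaf 8742) (.leaf 0))))) (.node (.node (.node (.node (.leaf 14029) (.leaf 11502)) (.node (.leaf 2472) (.leaf 0))) (.node (.node (.leaf 11350) (.leaf 0)) (.node (.leaf 4540) (.leaf 0)))) (.node (.node (.node (.leaf 17832) (.leaf 11247)) (.node (.leaf 506) (.leaf 0)))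 (.node (.node (.leaf 15934) (.leaf 0)) (.node (.leaf 9620) (.leaf 0)))))))) (.node (.node (.node (.node (.node (.node (.node (.leaf 16067) (.leaf 11786)) (.node (.leaf 20419) (.leaf 0))) (.node (.node (.leaf 534) (.leaf 2592)) (.node (.leaf 16575) (.leaf 0)))) (.node (.node (.node (.leaf 14746) (.leaf 5383)) (.node (.leaf 6986) (.leaf 0))) (.node (.node (.leaf 1278) (.leaf 0)) (.node (.leaf 7428) (.leaf 0))))) (.node (.node (.node (.node (.leaf 7717) (.leaf 3757)) (.node (.leaf 13107) (.leaf 0))) (.node (.node (.leaf 16224) (.leaf 0)) (.node (.leaf 15472) (.leaf 0)))) (.node (.node (.node (.leaf 7507) (.leaf 2258)) (.node (.leaf 19741) (.leaf 0))) (.node (.node (.leaf 19353) (.leaf 0)) (.node (.leaf 8787) (.leaf 0)))))) (.node (.node (.node (.node (.node (.leaf 20832) (.leaf 14214)) (.node (.leaf 11728) (.leaf 0))) (.node (.node (.leaf 10142) (.leaf 20376)) (.node (.leaf 3898) (.leaf 0)))) (.node (.node (.node (.leaf 9276) (.leaf 18733)) (.node (.leaf 6119) (.leaf 0))) (.node (.node (.leaf 12539)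 (.leaf 0)) (.node (.leaf 21408) (.leaf 0))))) (.node (.node (.node (.node (.leaf 14120) (.leaf 17972)) (.node (.leaf 5980) (.leaf 0))) (.node (.node (.leaf 18818) (.leaf 0)) (.node (.leaf 9803) (.leaf 0)))) (.node (.node (.node (.leaf 12852) (.leaf 548)) (.node (.leaf 2268) (.leaf 0))) (.node (.node (.leaf 21176) (.leaf 0)) (.node (.leaf 13545) (.leaf 0))))))) (.node (.node (.node (.node (.node (.node (.leaf 15498) (.leaf 17449)) (.node (.leaf 13055) (.leaf 0))) (.node (.node (.leaf 14710) (.leaf 9660)) (.node (.leaf 5972) (.leaf 0)))) (.node (.node (.node (.leaf 17279) (.leaf 9646)) (.node (.leaf 12128) (.leaf 0))) (.node (.node (.leaf 2974) (.leaf 0)) (.node (.leaf 14667) (.leaf 0))))) (.node (.node (.node (.node (.leaf 7737) (.leaf 9657)) (.node (.leaf 4433) (.leaf 0))) (.node (.node (.leaf 18943) (.leaf 0)) (.node (.leaf 16386) (.leaf 0)))) (.node (.node (.node (.leaf 9015) (.leaf 894)) (.node (.leaf 666) (.leaf 0))) (.node (.node (.leaf 14941) (.leaf 0)) (.node (.leaf 20237) (.leaf 0)))))) (.node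 (.node (.node (.node (.node (.leaf 1452) (.leaf 19815)) (.node (.leaf 10755) (.leaf 0))) (.node (.node (.leaf 8668) (.leaf 20403)) (.node (.leaf 3177) (.leaf 0)))) (.node (.node (.node (.leaf 20687) (.leaf 18721)) (.node (.leaf 10502) (.leaf 0))) (.node (.node (.leaf 14769) (.leaf 0)) (.node (.leaf 10568) (.leaf 0))))) (.node (.node (.node (.node (.leaf 19429) (.leaf 6027)) (.node (.leaf 14714) (.leaf 0))) (.node (.node (.leaf 3525) (.leaf 0)) (.node (.leaf 4703) (.leaf 0)))) (.node (.node (.node (.leaf 2956) (.leaf 12794)) (.node (.leaf 15337) (.leaf 0))) (.node (.node (.leaf 15551) (.leaf 0)) (.node (.leaf 18439) (.leaf 0)))))))))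

/-- part of a table -/
def ordM120 : Trie := (.node (.node (.node (.node (.node (.node (.node (.node (.leaf 18587) (.leaf 9601)) (.node (.leaf 1726) (.leaf 0))) (.node (.node (.leaf 2463) (.leaf 1135)) (.node (.leaf 126) (.leaf 0)))) (.node (.node (.node (.leaf 9852) (.leaf 6499)) (.node (.leaf 2487) (.leaf 0))) (.node (.node (.leaf 6224) (.leaf 0)) (.node (.leaf 2355) (.leaf 0))))) (.node (.node (.node (.node (.leaf 12855) (.leaf 19369)) (.node (.leaf 13706) (.leaf 0))) (.node (.node (.leaf 13933) (.leaf 0)) (.node (.leaf 9986) (.leaf 0)))) (.node (.node (.node (.leaf 8553) (.leaf 15628)) (.node (.leaf 8609) (.leaf 0))) (.node (.node (.leaf 19923) (.leaf 0)) (.node (.leaf 966) (.leaf 0)))))) (.node (.node (.node (.node (.node (.leaf 11133) (.leaf 3100)) (.node (.leaf 12388) (.leaf 0))) (.node (.node (.leaf 9771) (.leaf 15760)) (.node (.leaf 4987) (.leaf 0)))) (.node (.node (.node (.leaf 4331) (.leaf 1415)) (.node (.leaf 2329) (.leaf 0))) (.node (.node (.leaf 5590) (.leaf 0)) (.node (.leaf 8121)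 (.leaf 0))))) (.node (.node (.node (.node (.leaf 21198) (.leaf 7550)) (.node (.leaf 15306) (.leaf 0))) (.node (.node (.leaf 17136) (.leaf 0)) (.node (.leaf 15440) (.leaf 0)))) (.node (.node (.node (.leaf 18932) (.leaf 18350)) (.node (.leaf 6216) (.leaf 0))) (.node (.node (.leaf 2968) (.leaf 0)) (.node (.leaf 1494) (.leaf 0))))))) (.node (.node (.node (.node (.node (.node (.leaf 4556) (.leaf 9889)) (.node (.leaf 14806) (.leaf 0))) (.node (.node (.leaf 17089) (.leaf 118)) (.node (.leaf 7460) (.leaf 0)))) (.node (.node (.node (.leaf 16499) (.leaf 6092)) (.node (.leaf 8962) (.leaf 0))) (.node (.node (.leaf 5228) (.leaf 0)) (.node (.leaf 8627) (.leaf 0))))) (.node (.node (.node (.node (.leaf 10082) (.leaf 12252)) (.node (.leaf 2283) (.leaf 0))) (.node (.node (.leaf 7990) (.leaf 0)) (.node (.leaf 15547) (.leaf 0)))) (.node (.node (.node (.leaf 7581) (.leaf 17881)) (.node (.leaf 962) (.leaf 0))) (.node (.node (.leaf 16548) (.leaf 0)) (.node (.leaf 17623) (.leaf 0)))))) (.node (.node (.node (.node (.node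 (.leaf 18542) (.leaf 11071)) (.node (.leaf 11166) (.leaf 0))) (.node (.node (.leaf 14201) (.leaf 8118)) (.node (.leaf 165) (.leaf 0)))) (.node (.node (.node (.leaf 18089) (.leaf 17441)) (.node (.leaf 4863) (.leaf 0))) (.node (.node (.leaf 338) (.leaf 0)) (.node (.leaf 7448) (.leaf 0))))) (.node (.node (.node (.node (.leaf 17289) (.leaf 51)) (.node (.leaf 4845) (.leaf 0))) (.node (.node (.leaf 10574) (.leaf 0)) (.node (.leaf 15064) (.leaf 0)))) (.node (.node (.node (.leaf 8014) (.leaf 19754)) (.node (.leaf 14247) (.leaf 0))) (.node (.node (.leaf 15095) (.leaf 0)) (.node (.leaf 10108) (.leaf 0)))))))) (.node (.node (.node (.node (.node (.node (.node (.leaf 10267) (.leaf 3740)) (.node (.leaf 12362) (.leaf 0))) (.node (.node (.leaf 12891) (.leaf 19009)) (.node (.leaf 16657) (.leaf 0)))) (.node (.node (.node (.leaf 13890) (.leaf 8296)) (.node (.leaf 6968) (.leaf 0))) (.node (.node (.leaf 17465) (.leaf 0)) (.node (.leaf 8808) (.leaf 0))))) (.node (.node (.node (.node (.leaf 898) (.leaf 19117)) (.node (.leaf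 18777) (.leaf 0))) (.node (.node (.leaf 12215) (.leaf 0)) (.node (.leaf 12336) (.leaf 0)))) (.node (.node (.node (.leaf 2772) (.leaf 16190)) (.node (.leaf 10072) (.leaf 0))) (.node (.node (.leaf 9182) (.leaf 0)) (.node (.leaf 11121) (.leaf 0)))))) (.node (.node (.node (.node (.node (.leaf 17285) (.leaf 2121)) (.node (.leaf 18277) (.leaf 0))) (.node (.node (.leaf 5059) (.leaf 9638)) (.node (.leaf 21083) (.leaf 0)))) (.node (.node (.node (.leaf 10515) (.leaf 20366)) (.node (.leaf 1809) (.leaf 0))) (.node (.node (.leaf 14151) (.leaf 0)) (.node (.leaf 5295) (.leaf 0))))) (.node (.node (.node (.node (.leaf 3858) (.leaf 3463)) (.node (.leaf 16400) (.leaf 0))) (.node (.node (.leaf 16362) (.leaf 0)) (.node (.leaf 3189) (.leaf 0)))) (.node (.node (.node (.leaf 1392) (.leaf 12063)) (.node (.leaf 2555) (.leaf 0))) (.node (.node (.leaf 16561) (.leaf 0)) (.node (.leaf 14707) (.leaf 0))))))) (.node (.node (.node (.node (.node (.node (.leaf 290) (.leaf 17300)) (.node (.leaf 14080) (.leaf 0))) (.node (.node (.leaf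 8342) (.leaf 8725)) (.node (.leaf 13729) (.leaf 0)))) (.node (.node (.node (.leaf 18465) (.leaf 1751)) (.node (.leaf 18390) (.leaf 0))) (.node (.node (.leaf 16179) (.leaf 0)) (.node (.leaf 13310) (.leaf 0))))) (.node (.node (.node (.node (.leaf 13524) (.leaf 13775)) (.node (.leaf 6265) (.leaf 0))) (.node (.node (.leaf 6801) (.leaf 0)) (.node (.leaf 14432) (.leaf 0)))) (.node (.node (.node (.leaf 8767) (.leaf 7121)) (.node (.leaf 18944) (.leaf 0))) (.node (.node (.leaf 4741) (.leaf 0)) (.node (.leaf 3396) (.leaf 0)))))) (.node (.node (.node (.node (.node (.leaf 20944) (.leaf 11338)) (.node (.leaf 748) (.leaf 0))) (.node (.node (.leaf 8256) (.leaf 10247)) (.node (.leaf 19481) (.leaf 0)))) (.node (.node (.node (.leaf 9681) (.leaf 6645)) (.node (.leaf 14738) (.leaf 0))) (.node (.node (.leaf 809) (.leaf 0)) (.node (.leaf 1702) (.leaf 0))))) (.node (.node (.node (.node (.leaf 11011) (.leaf 3308)) (.node (.leaf 19834) (.leaf 0))) (.node (.node (.leaf 12696) (.leaf 0)) (.node (.leaf 12620) (.leaf 0)))) (.node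 (.node (.node (.leaf 10157) (.leaf 386)) (.node (.leaf 6026) (.leaf 0))) (.node (.node (.leaf 14602) (.leaf 0)) (.node (.leaf 20346) (.leaf 0)))))))))

/-- part of a table -/
def ordM121 : Trie := (.node (.node (.node (.node (.node (.node (.node (.node (.leaf 8957) (.leaf 10688)) (.node (.leaf 83) (.leaf 0))) (.node (.node (.leaf 13232) (.leaf 9970)) (.node (.leaf 2705) (.leaf 0)))) (.node (.node (.node (.leaf 17472) (.leaf 14784)) (.node (.leaf 4235) (.leaf 0))) (.node (.node (.leaf 2433) (.leaf 0)) (.node (.leaf 7172) (.leaf 0))))) (.node (.node (.node (.node (.leaf 20427) (.leaf 13614)) (.node (.leaf 4754) (.leaf 0))) (.node (.node (.leaf 18983) (.leaf 0)) (.node (.leaf 18010) (.leaf 0)))) (.node (.node (.node (.leaf 2157) (.leaf 9408)) (.node (.leaf 4002) (.leaf 0))) (.node (.node (.leaf 14414) (.leaf 0)) (.node (.leaf 3334) (.leaf 0)))))) (.node (.node (.node (.node (.node (.leaf 13611) (.leaf 14235)) (.node (.leaf 6758) (.leaf 0))) (.node (.node (.leaf 7286) (.leaf 4470)) (.node (.leaf 3010)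 (.leaf 0)))) (.node (.node (.node (.leaf 1341) (.leaf 6909)) (.node (.leaf 3845) (.leaf 0))) (.node (.node (.leaf 21122) (.leaf 0)) (.node (.leaf 20539) (.leaf 0))))) (.node (.node (.node (.node (.leaf 12203) (.leaf 16470)) (.node (.leaf 10965) (.leaf 0))) (.node (.node (.leaf 17512) (.leaf 0)) (.node (.leaf 15744) (.leaf 0)))) (.node (.node (.node (.leaf 16293) (.leaf 17035)) (.node (.leaf 2227) (.leaf 0))) (.node (.node (.leaf 8313) (.leaf 0)) (.node (.leaf 4727) (.leaf 0))))))) (.node (.node (.node (.node (.node (.node (.leaf 8075) (.leaf 17950)) (.node (.leaf 21227) (.leaf 0))) (.node (.node (.leaf 10781) (.leaf 2993)) (.node (.leaf 20062) (.leaf 0)))) (.node (.node (.node (.leaf 13334) (.leaf 20848)) (.node (.leaf 14536) (.leaf 0))) (.node (.node (.leaf 13278) (.leaf 0)) (.node (.leaf 17530) (.leaf 0))))) (.node (.node (.node (.node (.leaf 16001) (.leaf 9957)) (.node (.leaf 7838) (.leaf 0))) (.node (.node (.leaf 9092) (.leaf 0)) (.node (.leaf 843) (.leaf 0)))) (.node (.node (.node (.leaf 17663)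 (.leaf 17501)) (.node (.leaf 6785) (.leaf 0))) (.node (.node (.leaf 9133) (.leaf 0)) (.node (.leaf 20927) (.leaf 0)))))) (.node (.node (.node (.node (.node (.leaf 10881) (.leaf 10310)) (.node (.leaf 19840) (.leaf 0))) (.node (.node (.leaf 21047) (.leaf 20123)) (.node (.leaf 705) (.leaf 0)))) (.node (.node (.node (.leaf 12478) (.leaf 8770)) (.node (.leaf 2016) (.leaf 0))) (.node (.node (.leaf 796) (.leaf 0)) (.node (.leaf 10480) (.leaf 0))))) (.node (.node (.node (.node (.leaf 13678) (.leaf 1207)) (.node (.leaf 1535) (.leaf 0))) (.node (.node (.leaf 5749) (.leaf 0)) (.node (.leaf 11564) (.leaf 0)))) (.node (.node (.node (.leaf 3992) (.leaf 4192)) (.node (.leaf 11118) (.leaf 0))) (.node (.node (.leaf 19651) (.leaf 0)) (.node (.leaf 655) (.leaf 0)))))))) (.node (.node (.node (.node (.node (.node (.node (.leaf 19043) (.leaf 9433)) (.node (.leaf 20217) (.leaf 0))) (.node (.node (.leaf 18078) (.leaf 10298)) (.node (.leaf 10617) (.leaf 0)))) (.node (.node (.node (.leaf 1024) (.leaf 15689)) (.node (.leaf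 10067) (.leaf 0))) (.node (.node (.leaf 12947) (.leaf 0)) (.node (.leaf 3416) (.leaf 0))))) (.node (.node (.node (.node (.leaf 646) (.leaf 12825)) (.node (.leaf 11695) (.leaf 0))) (.node (.node (.leaf 17444) (.leaf 0)) (.node (.leaf 1832) (.leaf 0)))) (.node (.node (.node (.leaf 16051) (.leaf 20816)) (.node (.leaf 19688) (.leaf 0))) (.node (.node (.leaf 8521) (.leaf 0)) (.node (.leaf 8069) (.leaf 0)))))) (.node (.node (.node (.node (.node (.leaf 8890) (.leaf 7093)) (.node (.leaf 19040) (.leaf 0))) (.node (.node (.leaf 16343) (.leaf 15916)) (.node (.leaf 20604) (.leaf 0)))) (.node (.node (.node (.leaf 19254) (.leaf 19189)) (.node (.leaf 4535) (.leaf 0))) (.node (.node (.leaf 16645) (.leaf 0)) (.node (.leaf 14553) (.leaf 0))))) (.node (.node (.node (.node (.leaf 21069) (.leaf 20619)) (.node (.leaf 20114) (.leaf 0))) (.node (.node (.leaf 18824) (.leaf 0)) (.node (.leaf 8920) (.leaf 0)))) (.node (.node (.node (.leaf 4486) (.leaf 18699)) (.node (.leaf 8468) (.leaf 0))) (.node (.node (.leaf 18420) (.leaf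 0)) (.node (.leaf 20256) (.leaf 0))))))) (.node (.node (.node (.node (.node (.node (.leaf 4567) (.leaf 8750)) (.node (.leaf 11445) (.leaf 0))) (.node (.node (.leaf 12222) (.leaf 21102)) (.node (.leaf 6281) (.leaf 0)))) (.node (.node (.node (.leaf 9178) (.leaf 15771)) (.node (.leaf 8950) (.leaf 0))) (.node (.node (.leaf 13924) (.leaf 0)) (.node (.leaf 3388) (.leaf 0))))) (.node (.node (.node (.node (.leaf 5498) (.leaf 8970)) (.node (.leaf 5191) (.leaf 0))) (.node (.node (.leaf 13594) (.leaf 0)) (.node (.leaf 20880) (.leaf 0)))) (.node (.node (.node (.leaf 474) (.leaf 18773)) (.node (.leaf 2082) (.leaf 0))) (.node (.node (.leaf 1892) (.leaf 0)) (.node (.leaf 5432) (.leaf 0)))))) (.node (.node (.node (.node (.node (.leaf 20512) (.leaf 9976)) (.node (.leaf 1439) (.leaf 0))) (.node (.node (.leaf 4403) (.leaf 8128)) (.node (.leaf 11747) (.leaf 0)))) (.node (.node (.node (.leaf 1307) (.leaf 14979)) (.node (.leaf 8295) (.leaf 0))) (.node (.node (.leaf 4068) (.leaf 0)) (.node (.leaf 470) (.leaf 0))))) (.node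 (.node (.node (.node (.leaf 21318) (.leaf 5218)) (.node (.leaf 11992) (.leaf 0))) (.node (.node (.leaf 15706) (.leaf 0)) (.node (.leaf 12955) (.leaf 0)))) (.node (.node (.node (.leaf 20102) (.leaf 6046)) (.node (.leaf 13645) (.leaf 0))) (.node (.node (.leaf 12037) (.leaf 0)) (.node (.leaf 19973) (.leaf 0)))))))))

/-- part of a table -/
def ordM122 : Trie := (.node (.node (.node (.node (.node (.node (.node (.node (.leaf 11213) (.leaf 14263)) (.node (.leaf 5091) (.leaf 0))) (.node (.node (.leaf 3610) (.leaf 2903)) (.node (.leaf 18675) (.leaf 0)))) (.node (.node (.node (.leaf 17480) (.leaf 5513)) (.node (.leaf 6362) (.leaf 0))) (.node (.node (.leaf 7808) (.leaf 0)) (.node (.leaf 12587) (.leaf 0))))) (.node (.node (.node (.node (.leaf 12648) (.leaf 16016)) (.node (.leaf 9371) (.leaf 0))) (.node (.node (.leaf 13090) (.leaf 0)) (.node (.leaf 21146) (.leaf 0)))) (.node (.node (.node (.leaf 1858) (.leaf 3174)) (.node (.leaf 12523) (.leaf 0))) (.node (.node (.leaf 13549) (.leaf 0)) (.node (.leaf 17647) (.leaf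 0)))))) (.node (.node (.node (.node (.node (.leaf 1243) (.leaf 1453)) (.node (.leaf 18781) (.leaf 0))) (.node (.node (.leaf 17999) (.leaf 13772)) (.node (.leaf 9250) (.leaf 0)))) (.node (.node (.node (.leaf 15884) (.leaf 17057)) (.node (.leaf 13605) (.leaf 0))) (.node (.node (.leaf 11077) (.leaf 0)) (.node (.leaf 14841) (.leaf 0))))) (.node (.node (.node (.node (.leaf 5588) (.leaf 18875)) (.node (.leaf 10259) (.leaf 0))) (.node (.node (.leaf 2689) (.leaf 0)) (.node (.leaf 13236) (.leaf 0)))) (.node (.node (.node (.leaf 9096) (.leaf 5275)) (.node (.leaf 18550) (.leaf 0))) (.node (.node (.leaf 5906) (.leaf 0)) (.node (.leaf 16807) (.leaf 0))))))) (.node (.node (.node (.node (.node (.node (.leaf 5131) (.leaf 6652)) (.node (.leaf 12760) (.leaf 0))) (.node (.node (.leaf 8683) (.leaf 8700)) (.node (.leaf 3769) (.leaf 0)))) (.node (.node (.node (.leaf 1228) (.leaf 8983)) (.node (.leaf 4329) (.leaf 0))) (.node (.node (.leaf 9452) (.leaf 0)) (.node (.leaf 577) (.leaf 0))))) (.node (.node (.node (.node (.leaf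 12164) (.leaf 9207)) (.node (.leaf 6388) (.leaf 0))) (.node (.node (.leaf 3115) (.leaf 0)) (.node (.leaf 12729) (.leaf 0)))) (.node (.node (.node (.leaf 566) (.leaf 17987)) (.node (.leaf 20130) (.leaf 0))) (.node (.node (.leaf 7571) (.leaf 0)) (.node (.leaf 17560) (.leaf 0)))))) (.node (.node (.node (.node (.node (.leaf 7242) (.leaf 10094)) (.node (.leaf 2533) (.leaf 0))) (.node (.node (.leaf 4508) (.leaf 19394)) (.node (.leaf 2232) (.leaf 0)))) (.node (.node (.node (.leaf 13489) (.leaf 13702)) (.node (.leaf 19212) (.leaf 0))) (.node (.node (.leaf 17747) (.leaf 0)) (.node (.leaf 12443) (.leaf 0))))) (.node (.node (.node (.node (.leaf 8012) (.leaf 20971)) (.node (.leaf 13851) (.leaf 0))) (.node (.node (.leaf 10029) (.leaf 0)) (.node (.leaf 18091) (.leaf 0)))) (.node (.node (.node (.leaf 2838) (.leaf 3222)) (.node (.leaf 12345) (.leaf 0))) (.node (.node (.leaf 16229) (.leaf 0)) (.node (.leaf 19120) (.leaf 0)))))))) (.node (.node (.node (.node (.node (.node (.node (.leaf 4022) (.leaf 1094)) (.node (.leaf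 347) (.leaf 0))) (.node (.node (.leaf 14605) (.leaf 19001)) (.node (.leaf 15310) (.leaf 0)))) (.node (.node (.node (.leaf 9931) (.leaf 13215)) (.node (.leaf 4445) (.leaf 0))) (.node (.node (.leaf 21387) (.leaf 0)) (.node (.leaf 222) (.leaf 0))))) (.node (.node (.node (.node (.leaf 3412) (.leaf 8398)) (.node (.leaf 12088) (.leaf 0))) (.node (.node (.leaf 7021) (.leaf 0)) (.node (.leaf 2031) (.leaf 0)))) (.node (.node (.node (.leaf 12013) (.leaf 19613)) (.node (.leaf 11554) (.leaf 0))) (.node (.node (.leaf 6566) (.leaf 0)) (.node (.leaf 10510) (.leaf 0)))))) (.node (.node (.node (.node (.node (.leaf 11392) (.leaf 531)) (.node (.leaf 18258) (.leaf 0))) (.node (.node (.leaf 3801) (.leaf 21437)) (.node (.leaf 20234) (.leaf 0)))) (.node (.node (.node (.leaf 7912) (.leaf 9667)) (.node (.leaf 12105) (.leaf 0))) (.node (.node (.leaf 14718) (.leaf 0)) (.node (.leaf 1768) (.leaf 0))))) (.node (.node (.node (.node (.leaf 2731) (.leaf 7712)) (.node (.leaf 6001) (.leaf 0))) (.node (.node (.leaf 17274) (.leaf 0))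 (.node (.leaf 18458) (.leaf 0)))) (.node (.node (.node (.leaf 9150) (.leaf 10008)) (.node (.leaf 12610) (.leaf 0))) (.node (.node (.leaf 6928) (.leaf 0)) (.node (.leaf 2840) (.leaf 0))))))) (.node (.node (.node (.node (.node (.node (.leaf 13065) (.leaf 11596)) (.node (.leaf 15524) (.leaf 0))) (.node (.node (.leaf 3816) (.leaf 2875)) (.node (.leaf 11976) (.leaf 0)))) (.node (.node (.node (.leaf 17838) (.leaf 21450)) (.node (.leaf 9829) (.leaf 0))) (.node (.node (.leaf 8876) (.leaf 0)) (.node (.leaf 11407) (.leaf 0))))) (.node (.node (.node (.node (.leaf 8165) (.leaf 512)) (.node (.leaf 19884) (.leaf 0))) (.node (.node (.leaf 17807) (.leaf 0)) (.node (.leaf 4505) (.leaf 0)))) (.node (.node (.node (.leaf 9187) (.leaf 2617)) (.node (.leaf 12330) (.leaf 0))) (.node (.node (.leaf 13253) (.leaf 0)) (.node (.leaf 16401) (.leaf 0)))))) (.node (.node (.node (.node (.node (.leaf 2817) (.leaf 1140)) (.node (.leaf 11266) (.leaf 0))) (.node (.node (.leaf 11014) (.leaf 16283)) (.node (.leaf 8832) (.leaf 0)))) (.node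 (.node (.node (.leaf 6879) (.leaf 10601)) (.node (.leaf 19611) (.leaf 0))) (.node (.node (.leaf 8775) (.leaf 0)) (.node (.leaf 20920) (.leaf 0))))) (.node (.node (.node (.node (.leaf 20947) (.leaf 12897)) (.node (.leaf 16970) (.leaf 0))) (.node (.node (.leaf 8828) (.leaf 0)) (.node (.leaf 13891) (.leaf 0)))) (.node (.node (.node (.leaf 10019) (.leaf 7599)) (.node (.leaf 10263) (.leaf 0))) (.node (.node (.leaf 7981) (.leaf 0)) (.node (.leaf 6882) (.leaf 0)))))))))

/-- part of a table -/
def ordM123 : Trie := (.node (.node (.node (.node (.node (.node (.node (.node (.leaf 12771) (.leaf 10670)) (.node (.leaf 1685) (.leaf 0))) (.node (.node (.leaf 8930) (.leaf 8389)) (.node (.leaf 19400) (.leaf 0)))) (.node (.node (.node (.leaf 2506) (.leaf 13081)) (.node (.leaf 20854) (.leaf 0))) (.node (.node (.leaf 3271) (.leaf 0)) (.node (.leaf 16281) (.leaf 0))))) (.node (.node (.node (.node (.leaf 5231) (.leaf 10489)) (.node (.leaf 17417) (.leaf 0))) (.node (.node (.leaf 9405) (.leaf 0)) (.node (.leaf 19389) (.leaf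 0)))) (.node (.node (.node (.leaf 18320) (.leaf 11628)) (.node (.leaf 3404) (.leaf 0))) (.node (.node (.leaf 6195) (.leaf 0)) (.node (.leaf 14461) (.leaf 0)))))) (.node (.node (.node (.node (.node (.leaf 14788) (.leaf 5799)) (.node (.leaf 21177) (.leaf 0))) (.node (.node (.leaf 8237) (.leaf 9887)) (.node (.leaf 15066) (.leaf 0)))) (.node (.node (.node (.leaf 3741) (.leaf 2021)) (.node (.leaf 10379) (.leaf 0))) (.node (.node (.leaf 12645) (.leaf 0)) (.node (.leaf 1216) (.leaf 0))))) (.node (.node (.node (.node (.leaf 10102) (.leaf 12869)) (.node (.leaf 19758) (.leaf 0))) (.node (.node (.leaf 5695) (.leaf 0)) (.node (.leaf 18541) (.leaf 0)))) (.node (.node (.node (.leaf 6789) (.leaf 15480)) (.node (.leaf 19857) (.leaf 0))) (.node (.node (.leaf 11874) (.leaf 0)) (.node (.leaf 14792) (.leaf 0))))))) (.node (.node (.node (.node (.node (.node (.leaf 3561) (.leaf 2317)) (.node (.leaf 16086) (.leaf 0))) (.node (.node (.leaf 17751) (.leaf 17732)) (.node (.leaf 10070) (.leaf 0)))) (.node (.node (.node (.leaf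 1485) (.leaf 18260)) (.node (.leaf 11410) (.leaf 0))) (.node (.node (.leaf 12206) (.leaf 0)) (.node (.leaf 8794) (.leaf 0))))) (.node (.node (.node (.node (.leaf 19250) (.leaf 15913)) (.node (.leaf 18294) (.leaf 0))) (.node (.node (.leaf 8897) (.leaf 0)) (.node (.leaf 6866) (.leaf 0)))) (.node (.node (.node (.leaf 9028) (.leaf 21344)) (.node (.leaf 4084) (.leaf 0))) (.node (.node (.leaf 5389) (.leaf 0)) (.node (.leaf 8586) (.leaf 0)))))) (.node (.node (.node (.node (.node (.leaf 6463) (.leaf 4201)) (.node (.leaf 14986) (.leaf 0))) (.node (.node (.leaf 6330) (.leaf 16505)) (.node (.leaf 18464) (.leaf 0)))) (.node (.node (.node (.leaf 16191) (.leaf 1001)) (.node (.leaf 15303) (.leaf 0))) (.node (.node (.leaf 14222) (.leaf 0)) (.node (.leaf 19133) (.leaf 0))))) (.node (.node (.node (.node (.leaf 3990) (.leaf 17828)) (.node (.leaf 8536) (.leaf 0))) (.node (.node (.leaf 4476) (.leaf 0)) (.node (.leaf 5796) (.leaf 0)))) (.node (.node (.node (.leaf 13679) (.leaf 4821)) (.node (.leaf 15486) (.leaf 0))) (.node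 (.node (.leaf 17456) (.leaf 0)) (.node (.leaf 10151) (.leaf 0)))))))) (.node (.node (.node (.node (.node (.node (.node (.leaf 18549) (.leaf 56)) (.node (.leaf 6422) (.leaf 0))) (.node (.node (.leaf 6700) (.leaf 19268)) (.node (.leaf 6410) (.leaf 0)))) (.node (.node (.node (.leaf 21141) (.leaf 11308)) (.node (.leaf 11187) (.leaf 0))) (.node (.node (.leaf 21203) (.leaf 0)) (.node (.leaf 1183) (.leaf 0))))) (.node (.node (.node (.node (.leaf 9695) (.leaf 19874)) (.node (.leaf 10640) (.leaf 0))) (.node (.node (.leaf 2806) (.leaf 0)) (.node (.leaf 9466) (.leaf 0)))) (.node (.node (.node (.leaf 7851) (.leaf 9836)) (.node (.leaf 7844) (.leaf 0))) (.node (.node (.leaf 2340) (.leaf 0)) (.node (.leaf 19554) (.leaf 0)))))) (.node (.node (.node (.node (.node (.leaf 14532) (.leaf 1440)) (.node (.leaf 14114) (.leaf 0))) (.node (.node (.leaf 12065) (.leaf 5497)) (.node (.leaf 12619) (.leaf 0)))) (.node (.node (.node (.leaf 4866) (.leaf 13750)) (.node (.leaf 2388) (.leaf 0))) (.node (.node (.leaf 7214) (.leaf 0))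 (.node (.leaf 13474) (.leaf 0))))) (.node (.node (.node (.node (.leaf 8087) (.leaf 2989)) (.node (.leaf 12815) (.leaf 0))) (.node (.node (.leaf 13311) (.leaf 0)) (.node (.leaf 6169) (.leaf 0)))) (.node (.node (.node (.leaf 6082) (.leaf 6315)) (.node (.leaf 3431) (.leaf 0))) (.node (.node (.leaf 2180) (.leaf 0)) (.node (.leaf 138) (.leaf 0))))))) (.node (.node (.node (.node (.node (.node (.leaf 5209) (.leaf 19444)) (.node (.leaf 6840) (.leaf 0))) (.node (.node (.leaf 2072) (.leaf 8693)) (.node (.leaf 7270) (.leaf 0)))) (.node (.node (.node (.leaf 18935) (.leaf 20745)) (.node (.leaf 19612) (.leaf 0))) (.node (.node (.leaf 3171) (.leaf 0)) (.node (.leaf 5914) (.leaf 0))))) (.node (.node (.node (.node (.leaf 17904) (.leaf 7742)) (.node (.leaf 11805) (.leaf 0))) (.node (.node (.leaf 14601) (.leaf 0)) (.node (.leaf 15) (.leaf 0)))) (.node (.node (.node (.leaf 14775) (.leaf 7311)) (.node (.leaf 16738) (.leaf 0))) (.node (.node (.leaf 7193) (.leaf 0)) (.node (.leaf 11705) (.leaf 0)))))) (.node (.node (.node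 (.node (.node (.leaf 826) (.leaf 3216)) (.node (.leaf 15150) (.leaf 0))) (.node (.node (.leaf 1082) (.leaf 7047)) (.node (.leaf 11444) (.leaf 0)))) (.node (.node (.node (.leaf 2932) (.leaf 4829)) (.node (.leaf 9824) (.leaf 0))) (.node (.node (.leaf 11753) (.leaf 0)) (.node (.leaf 16404) (.leaf 0))))) (.node (.node (.node (.node (.leaf 4014) (.leaf 12447)) (.node (.leaf 18433) (.leaf 0))) (.node (.node (.leaf 14408) (.leaf 0)) (.node (.leaf 5812) (.leaf 0)))) (.node (.node (.node (.leaf 11162) (.leaf 4348)) (.node (.leaf 4104) (.leaf 0))) (.node (.node (.leaf 14043) (.leaf 0)) (.node (.leaf 2936) (.leaf 0)))))))))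

/-- part of a table -/
def ordM124 : Trie := (.node (.node (.node (.node (.node (.node (.node (.node (.leaf 18322) (.leaf 10977)) (.node (.leaf 11532) (.leaf 0))) (.node (.node (.leaf 4041) (.leaf 13937)) (.node (.leaf 20306) (.leaf 0)))) (.node (.node (.node (.leaf 6949) (.leaf 17591)) (.node (.leaf 3458) (.leaf 0))) (.node (.node (.leaf 20742) (.leaf 0)) (.node (.leaf 14942) (.leaf 0))))) (.node (.node (.node (.node (.leaf 16828) (.leaf 3329)) (.node (.leaf 12451) (.leaf 0))) (.node (.node (.leaf 8951) (.leaf 0)) (.node (.leaf 3874) (.leaf 0)))) (.node (.node (.node (.leaf 16572) (.leaf 13104)) (.node (.leaf 8637) (.leaf 0))) (.node (.node (.leaf 15641) (.leaf 0)) (.node (.leaf 20015) (.leaf 0)))))) (.node (.node (.node (.node (.node (.leaf 9111) (.leaf 13846)) (.node (.leaf 10694) (.leaf 0))) (.node (.node (.leaf 3865) (.leaf 3320)) (.node (.leaf 11366) (.leaf 0)))) (.node (.node (.node (.leaf 8841) (.leaf 14299)) (.node (.leaf 10679) (.leaf 0))) (.node (.node (.leaf 3422) (.leaf 0)) (.node (.leaf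 11089) (.leaf 0))))) (.node (.node (.node (.node (.leaf 6044) (.leaf 8790)) (.node (.leaf 9794) (.leaf 0))) (.node (.node (.leaf 5845) (.leaf 0)) (.node (.leaf 15732) (.leaf 0)))) (.node (.node (.node (.leaf 18303) (.leaf 13856)) (.node (.leaf 7171) (.leaf 0))) (.node (.node (.leaf 6799) (.leaf 0)) (.node (.leaf 5318) (.leaf 0))))))) (.node (.node (.node (.node (.node (.node (.leaf 4927) (.leaf 12591)) (.node (.leaf 16) (.leaf 0))) (.node (.node (.leaf 1374) (.leaf 6443)) (.node (.leaf 13045) (.leaf 0)))) (.node (.node (.node (.leaf 875) (.leaf 6302)) (.node (.leaf 19722) (.leaf 0))) (.node (.node (.leaf 1539) (.leaf 0)) (.node (.leaf 1158) (.leaf 0))))) (.node (.node (.node (.node (.leaf 168) (.leaf 13446)) (.node (.leaf 15153) (.leaf 0))) (.node (.node (.leaf 19343) (.leaf 0)) (.node (.leaf 1336) (.leaf 0)))) (.node (.node (.node (.leaf 2542) (.leaf 6719)) (.node (.leaf 6617) (.leaf 0))) (.node (.node (.leaf 5032) (.leaf 0)) (.node (.leaf 7403) (.leaf 0)))))) (.node (.node (.node (.node (.node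 (.leaf 19473) (.leaf 17721)) (.node (.leaf 3665) (.leaf 0))) (.node (.node (.leaf 16697) (.leaf 5369)) (.node (.leaf 10463) (.leaf 0)))) (.node (.node (.node (.leaf 3950) (.leaf 7887)) (.node (.leaf 11462) (.leaf 0))) (.node (.node (.leaf 20802) (.leaf 0)) (.node (.leaf 9018) (.leaf 0))))) (.node (.node (.node (.node (.leaf 2926) (.leaf 21428)) (.node (.leaf 15477) (.leaf 0))) (.node (.node (.leaf 17105) (.leaf 0)) (.node (.leaf 535) (.leaf 0)))) (.node (.node (.node (.leaf 18885) (.leaf 7823)) (.node (.leaf 6603) (.leaf 0))) (.node (.node (.leaf 6142) (.leaf 0)) (.node (.leaf 18861) (.leaf 0)))))))) (.node (.node (.node (.node (.node (.node (.node (.leaf 11576) (.leaf 16928)) (.node (.leaf 3693) (.leaf 0))) (.node (.node (.leaf 4539) (.leaf 16449)) (.node (.leaf 2139) (.leaf 0)))) (.node (.node (.node (.leaf 14520) (.leaf 5356)) (.node (.leaf 3821) (.leaf 0))) (.node (.node (.leaf 4149) (.leaf 0)) (.node (.leaf 20767) (.leaf 0))))) (.node (.node (.node (.node (.leaf 6441) (.leaf 20349)) (.node (.leaf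 8743) (.leaf 0))) (.node (.node (.leaf 2119) (.leaf 0)) (.node (.leaf 9091) (.leaf 0)))) (.node (.node (.node (.leaf 10021) (.leaf 19646)) (.node (.leaf 181) (.leaf 0))) (.node (.node (.leaf 6181) (.leaf 0)) (.node (.leaf 2947) (.leaf 0)))))) (.node (.node (.node (.node (.node (.leaf 8423) (.leaf 1504)) (.node (.leaf 3051) (.leaf 0))) (.node (.node (.leaf 21048) (.leaf 13600)) (.node (.leaf 18475) (.leaf 0)))) (.node (.node (.node (.leaf 9374) (.leaf 15014)) (.node (.leaf 12531) (.leaf 0))) (.node (.node (.leaf 12611) (.leaf 0)) (.node (.leaf 10156) (.leaf 0))))) (.node (.node (.node (.node (.leaf 21231) (.leaf 2493)) (.node (.leaf 14863) (.leaf 0))) (.node (.node (.leaf 10671) (.leaf 0)) (.node (.leaf 4677) (.leaf 0)))) (.node (.node (.node (.leaf 13984) (.leaf 5737)) (.node (.leaf 394) (.leaf 0))) (.node (.node (.leaf 13072) (.leaf 0)) (.node (.leaf 3902) (.leaf 0))))))) (.node (.node (.node (.node (.node (.node (.leaf 8781) (.leaf 2890)) (.node (.leaf 6300) (.leaf 0))) (.node (.node (.leaf 7091)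 (.leaf 351)) (.node (.leaf 14477) (.leaf 0)))) (.node (.node (.node (.leaf 18625) (.leaf 4060)) (.node (.leaf 6139) (.leaf 0))) (.node (.node (.leaf 9531) (.leaf 0)) (.node (.leaf 20196) (.leaf 0))))) (.node (.node (.node (.node (.leaf 6992) (.leaf 19338)) (.node (.leaf 6732) (.leaf 0))) (.node (.node (.leaf 20791) (.leaf 0)) (.node (.leaf 14141) (.leaf 0)))) (.node (.node (.node (.leaf 11986) (.leaf 5748)) (.node (.leaf 7810) (.leaf 0))) (.node (.node (.leaf 18003) (.leaf 0)) (.node (.leaf 15864) (.leaf 0)))))) (.node (.node (.node (.node (.node (.leaf 11332) (.leaf 1695)) (.node (.leaf 19860) (.leaf 0))) (.node (.node (.leaf 10514) (.leaf 20067)) (.node (.leaf 13184) (.leaf 0)))) (.node (.node (.node (.leaf 21494) (.leaf 18868)) (.node (.leaf 12177) (.leaf 0))) (.node (.node (.leaf 11413) (.leaf 0)) (.node (.leaf 8774) (.leaf 0))))) (.node (.node (.node (.node (.leaf 12572) (.leaf 8777)) (.node (.leaf 15069) (.leaf 0))) (.node (.node (.leaf 9232) (.leaf 0)) (.node (.leaf 5541) (.leaf 0)))) (.node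 (.node (.node (.leaf 5296) (.leaf 3345)) (.node (.leaf 1391) (.leaf 0))) (.node (.node (.leaf 7101) (.leaf 0)) (.node (.leaf 21179) (.leaf 0)))))))))

/-- part of a table -/
def ordM125 : Trie := (.node (.node (.node (.node (.node (.node (.node (.node (.leaf 2905) (.leaf 2549)) (.node (.leaf 10481) (.leaf 0))) (.node (.node (.leaf 15048) (.leaf 20348)) (.node (.leaf 16671) (.leaf 0)))) (.node (.node (.node (.leaf 14998) (.leaf 10687)) (.node (.leaf 20287) (.leaf 0))) (.node (.node (.leaf 8493) (.leaf 0)) (.node (.leaf 13002) (.leaf 0))))) (.node (.node (.node (.node (.leaf 9349) (.leaf 18805)) (.node (.leaf 20112) (.leaf 0))) (.node (.node (.leaf 18391) (.leaf 0)) (.node (.leaf 10130) (.leaf 0)))) (.node (.node (.node (.leaf 15773) (.leaf 8125)) (.node (.leaf 2345) (.leaf 0))) (.node (.node (.leaf 21097) (.leaf 0)) (.node (.leaf 16324) (.leaf 0)))))) (.node (.node (.node (.node (.node (.leaf 2565) (.leaf 12191)) (.node (.leaf 11597) (.leaf 0))) (.node (.node (.leaf 10873) (.leaf 20819)) (.node (.leaf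 3731) (.leaf 0)))) (.node (.node (.node (.leaf 2730) (.leaf 5901)) (.node (.leaf 18220) (.leaf 0))) (.node (.node (.leaf 12879) (.leaf 0)) (.node (.leaf 4593) (.leaf 0))))) (.node (.node (.node (.node (.leaf 382) (.leaf 571)) (.node (.leaf 4287) (.leaf 0))) (.node (.node (.leaf 13811) (.leaf 0)) (.node (.leaf 4667) (.leaf 0)))) (.node (.node (.node (.leaf 9469) (.leaf 4670)) (.node (.leaf 16241) (.leaf 0))) (.node (.node (.leaf 2058) (.leaf 0)) (.node (.leaf 12811) (.leaf 0))))))) (.node (.node (.node (.node (.node (.node (.leaf 15420) (.leaf 4765)) (.node (.leaf 4549) (.leaf 0))) (.node (.node (.leaf 2588) (.leaf 14885)) (.node (.leaf 11490) (.leaf 0)))) (.node (.node (.node (.leaf 3041) (.leaf 15070)) (.node (.leaf 3358) (.leaf 0))) (.node (.node (.leaf 76) (.leaf 0)) (.node (.leaf 15012) (.leaf 0))))) (.node (.node (.node (.node (.leaf 2743) (.leaf 13331)) (.node (.leaf 11612) (.leaf 0))) (.node (.node (.leaf 2234) (.leaf 0)) (.node (.leaf 13221) (.leaf 0)))) (.node (.node (.node (.leaf 8644)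 (.leaf 12699)) (.node (.leaf 15093) (.leaf 0))) (.node (.node (.leaf 21383) (.leaf 0)) (.node (.leaf 1777) (.leaf 0)))))) (.node (.node (.node (.node (.node (.leaf 15962) (.leaf 13190)) (.node (.leaf 10547) (.leaf 0))) (.node (.node (.leaf 20128) (.leaf 8154)) (.node (.leaf 9062) (.leaf 0)))) (.node (.node (.node (.leaf 10803) (.leaf 2684)) (.node (.leaf 7053) (.leaf 0))) (.node (.node (.leaf 14626) (.leaf 0)) (.node (.leaf 8784) (.leaf 0))))) (.node (.node (.node (.node (.leaf 8599) (.leaf 19776)) (.node (.leaf 12951) (.leaf 0))) (.node (.node (.leaf 7122) (.leaf 0)) (.node (.leaf 8005) (.leaf 0)))) (.node (.node (.node (.leaf 19757) (.leaf 16945)) (.node (.leaf 17554) (.leaf 0))) (.node (.node (.leaf 20614) (.leaf 0)) (.node (.leaf 13583) (.leaf 0)))))))) (.node (.node (.node (.node (.node (.node (.node (.leaf 2919) (.leaf 19942)) (.node (.leaf 19417) (.leaf 0))) (.node (.node (.leaf 15134) (.leaf 17923)) (.node (.leaf 4340) (.leaf 0)))) (.node (.node (.node (.leaf 21206) (.leaf 7267)) (.node (.leaf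 5090) (.leaf 0))) (.node (.node (.leaf 6095) (.leaf 0)) (.node (.leaf 16911) (.leaf 0))))) (.node (.node (.node (.node (.leaf 2449) (.leaf 13763)) (.node (.leaf 5983) (.leaf 0))) (.node (.node (.leaf 13464) (.leaf 0)) (.node (.leaf 7989) (.leaf 0)))) (.node (.node (.node (.leaf 6607) (.leaf 16462)) (.node (.leaf 2942) (.leaf 0))) (.node (.node (.leaf 13520) (.leaf 0)) (.node (.leaf 13653) (.leaf 0)))))) (.node (.node (.node (.node (.node (.leaf 15720) (.leaf 13468)) (.node (.leaf 4690) (.leaf 0))) (.node (.node (.leaf 19571) (.leaf 15449)) (.node (.leaf 9397) (.leaf 0)))) (.node (.node (.node (.leaf 21202) (.leaf 5786)) (.node (.leaf 1191) (.leaf 0))) (.node (.node (.leaf 3432) (.leaf 0)) (.node (.leaf 1666) (.leaf 0))))) (.node (.node (.node (.node (.leaf 18870) (.leaf 9483)) (.node (.leaf 11702) (.leaf 0))) (.node (.node (.leaf 3620) (.leaf 0)) (.node (.leaf 1841) (.leaf 0)))) (.node (.node (.node (.leaf 17913) (.leaf 6568)) (.node (.leaf 5510) (.leaf 0))) (.node (.node (.leaf 14908) (.leaf 0))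 (.node (.leaf 10647) (.leaf 0))))))) (.node (.node (.node (.node (.node (.node (.leaf 4073) (.leaf 8597)) (.node (.leaf 15429) (.leaf 0))) (.node (.node (.leaf 20133) (.leaf 849)) (.node (.leaf 18819) (.leaf 0)))) (.node (.node (.node (.leaf 9553) (.leaf 1640)) (.node (.leaf 19348) (.leaf 0))) (.node (.node (.leaf 4886) (.leaf 0)) (.node (.leaf 14348) (.leaf 0))))) (.node (.node (.node (.node (.leaf 1996) (.leaf 2735)) (.node (.leaf 20966) (.leaf 0))) (.node (.node (.leaf 10264) (.leaf 0)) (.node (.leaf 5601) (.leaf 0)))) (.node (.node (.node (.leaf 7886) (.leaf 10300)) (.node (.leaf 2644) (.leaf 0))) (.node (.node (.leaf 9045) (.leaf 0)) (.node (.leaf 6071) (.leaf 0)))))) (.node (.node (.node (.node (.node (.leaf 19440) (.leaf 7855)) (.node (.leaf 19318) (.leaf 0))) (.node (.node (.leaf 18461) (.leaf 21250)) (.node (.leaf 11771) (.leaf 0)))) (.node (.node (.node (.leaf 19985) (.leaf 21362)) (.node (.leaf 15400) (.leaf 0))) (.node (.node (.leaf 10373) (.leaf 0)) (.node (.leaf 11752) (.leaf 0)))))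 (.node (.node (.node (.node (.leaf 5952) (.leaf 2339)) (.node (.leaf 8974) (.leaf 0))) (.node (.node (.leaf 16864) (.leaf 0)) (.node (.leaf 20152) (.leaf 0)))) (.node (.node (.node (.leaf 8168) (.leaf 15667)) (.node (.leaf 12857) (.leaf 0))) (.node (.node (.leaf 14818) (.leaf 0)) (.node (.leaf 18210) (.leaf 0)))))))))

/-- part of a table -/
def ordM126 : Trie := (.node (.node (.node (.node (.node (.node (.node (.node (.leaf 7616) (.leaf 3582)) (.node (.leaf 10068) (.leaf 0))) (.node (.node (.leaf 2428) (.leaf 20787)) (.node (.leaf 20877) (.leaf 0)))) (.node (.node (.node (.leaf 15198) (.leaf 376)) (.node (.leaf 19753) (.leaf 0))) (.node (.node (.leaf 5499) (.leaf 0)) (.node (.leaf 4748) (.leaf 0))))) (.node (.node (.node (.node (.leaf 417) (.leaf 17995)) (.node (.leaf 15285) (.leaf 0))) (.node (.node (.leaf 18741) (.leaf 0)) (.node (.leaf 10899) (.leaf 0)))) (.node (.node (.node (.leaf 16829) (.leaf 11910)) (.node (.leaf 19354) (.leaf 0))) (.node (.node (.leaf 14525) (.leaf 0)) (.node (.leaf 16163)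 (.leaf 0)))))) (.node (.node (.node (.node (.node (.leaf 3746) (.leaf 10033)) (.node (.leaf 8751) (.leaf 0))) (.node (.node (.leaf 17470) (.leaf 7309)) (.node (.leaf 6672) (.leaf 0)))) (.node (.node (.node (.leaf 19943) (.leaf 20359)) (.node (.leaf 13508) (.leaf 0))) (.node (.node (.leaf 4552) (.leaf 0)) (.node (.leaf 19926) (.leaf 0))))) (.node (.node (.node (.node (.leaf 18535) (.leaf 356)) (.node (.leaf 16997) (.leaf 0))) (.node (.node (.leaf 4117) (.leaf 0)) (.node (.leaf 15565) (.leaf 0)))) (.node (.node (.node (.leaf 7425) (.leaf 11899)) (.node (.leaf 15016) (.leaf 0))) (.node (.node (.leaf 15386) (.leaf 0)) (.node (.leaf 539) (.leaf 0))))))) (.node (.node (.node (.node (.node (.node (.leaf 11251) (.leaf 15459)) (.node (.leaf 6039) (.leaf 0))) (.node (.node (.leaf 13823) (.leaf 10824)) (.node (.leaf 13006) (.leaf 0)))) (.node (.node (.node (.leaf 16990) (.leaf 2091)) (.node (.leaf 21180) (.leaf 0))) (.node (.node (.leaf 20599) (.leaf 0)) (.node (.leaf 401) (.leaf 0))))) (.node (.node (.node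 (.node (.leaf 16565) (.leaf 3204)) (.node (.leaf 8996) (.leaf 0))) (.node (.node (.leaf 9467) (.leaf 0)) (.node (.leaf 19081) (.leaf 0)))) (.node (.node (.node (.leaf 9169) (.leaf 4717)) (.node (.leaf 10691) (.leaf 0))) (.node (.node (.leaf 12380) (.leaf 0)) (.node (.leaf 15443) (.leaf 0)))))) (.node (.node (.node (.node (.node (.leaf 16845) (.leaf 5651)) (.node (.leaf 20002) (.leaf 0))) (.node (.node (.leaf 262) (.leaf 12368)) (.node (.leaf 18924) (.leaf 0)))) (.node (.node (.node (.leaf 21451) (.leaf 13391)) (.node (.leaf 14711) (.leaf 0))) (.node (.node (.leaf 11104) (.leaf 0)) (.node (.leaf 11334) (.leaf 0))))) (.node (.node (.node (.node (.leaf 15528) (.leaf 17394)) (.node (.leaf 13514) (.leaf 0))) (.node (.node (.leaf 10394) (.leaf 0)) (.node (.leaf 19483) (.leaf 0)))) (.node (.node (.node (.leaf 4418) (.leaf 11738)) (.node (.leaf 17226) (.leaf 0))) (.node (.node (.leaf 8944) (.leaf 0)) (.node (.leaf 15619) (.leaf 0)))))))) (.node (.node (.node (.node (.node (.node (.node (.leaf 9123) (.leaf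 14335)) (.node (.leaf 11404) (.leaf 0))) (.node (.node (.leaf 17126) (.leaf 6940)) (.node (.leaf 5013) (.leaf 0)))) (.node (.node (.node (.leaf 5539) (.leaf 15632)) (.node (.leaf 82) (.leaf 0))) (.node (.node (.leaf 2824) (.leaf 0)) (.node (.leaf 10907) (.leaf 0))))) (.node (.node (.node (.node (.leaf 2494) (.leaf 14191)) (.node (.leaf 4963) (.leaf 0))) (.node (.node (.leaf 5551) (.leaf 0)) (.node (.leaf 18931) (.leaf 0)))) (.node (.node (.node (.leaf 11085) (.leaf 5842)) (.node (.leaf 13355) (.leaf 0))) (.node (.node (.leaf 4314) (.leaf 0)) (.node (.leaf 17008) (.leaf 0)))))) (.node (.node (.node (.node (.node (.leaf 14854) (.leaf 20334)) (.node (.leaf 13662) (.leaf 0))) (.node (.node (.leaf 4843) (.leaf 6991)) (.node (.leaf 7372) (.leaf 0)))) (.node (.node (.node (.leaf 10770) (.leaf 591)) (.node (.leaf 4715) (.leaf 0))) (.node (.node (.leaf 2556) (.leaf 0)) (.node (.leaf 4772) (.leaf 0))))) (.node (.node (.node (.node (.leaf 3691) (.leaf 6440)) (.node (.leaf 16200) (.leaf 0))) (.node (.node (.leaf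 5019) (.leaf 0)) (.node (.leaf 4031) (.leaf 0)))) (.node (.node (.node (.leaf 6868) (.leaf 20674)) (.node (.leaf 14150) (.leaf 0))) (.node (.node (.leaf 19063) (.leaf 0)) (.node (.leaf 7999) (.leaf 0))))))) (.node (.node (.node (.node (.node (.node (.leaf 20172) (.leaf 19231)) (.node (.leaf 13378) (.leaf 0))) (.node (.node (.leaf 11848) (.leaf 9784)) (.node (.leaf 20182) (.leaf 0)))) (.node (.node (.node (.leaf 179) (.leaf 17237)) (.node (.leaf 9404) (.leaf 0))) (.node (.node (.leaf 19293) (.leaf 0)) (.node (.leaf 5055) (.leaf 0))))) (.node (.node (.node (.node (.leaf 2878) (.leaf 8544)) (.node (.leaf 11191) (.leaf 0))) (.node (.node (.leaf 9671) (.leaf 0)) (.node (.leaf 13317) (.leaf 0)))) (.node (.node (.node (.leaf 14103) (.leaf 19968)) (.node (.leaf 5577) (.leaf 0))) (.node (.node (.leaf 14689) (.leaf 0)) (.node (.leaf 14132) (.leaf 0)))))) (.node (.node (.node (.node (.node (.leaf 21237) (.leaf 16892)) (.node (.leaf 9379) (.leaf 0))) (.node (.node (.leaf 16432) (.leaf 6588)) (.node (.leaf 12774)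 (.leaf 0)))) (.node (.node (.node (.leaf 3122) (.leaf 4933)) (.node (.leaf 5712) (.leaf 0))) (.node (.node (.leaf 6481) (.leaf 0)) (.node (.leaf 808) (.leaf 0))))) (.node (.node (.node (.node (.leaf 2984) (.leaf 9181)) (.node (.leaf 12664) (.leaf 0))) (.node (.node (.leaf 11800) (.leaf 0)) (.node (.leaf 3105) (.leaf 0)))) (.node (.node (.node (.leaf 1769) (.leaf 9890)) (.node (.leaf 12850) (.leaf 0))) (.node (.node (.leaf 8336) (.leaf 0)) (.node (.leaf 3126) (.leaf 0)))))))))

/-- part of a table -/
def ordM127 : Trie := (.node (.node (.node (.node (.node (.node (.node (.node (.leaf 11640) (.leaf 18112)) (.node (.leaf 701) (.leaf 0))) (.node (.node (.leaf 7095) (.leaf 14196)) (.node (.leaf 13385) (.leaf 0)))) (.node (.node (.node (.leaf 9775) (.leaf 85)) (.node (.leaf 11389) (.leaf 0))) (.node (.node (.leaf 2835) (.leaf 0)) (.node (.leaf 12564) (.leaf 0))))) (.node (.node (.node (.node (.leaf 1811) (.leaf 6933)) (.node (.leaf 14870) (.leaf 0))) (.node (.node (.leaf 9830) (.leaf 0)) (.node (.leaf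 15766) (.leaf 0)))) (.node (.node (.node (.leaf 9352) (.leaf 20509)) (.node (.leaf 19220) (.leaf 0))) (.node (.node (.leaf 11988) (.leaf 0)) (.node (.leaf 9407) (.leaf 0)))))) (.node (.node (.node (.node (.node (.leaf 8591) (.leaf 4480)) (.node (.leaf 17034) (.leaf 0))) (.node (.node (.leaf 12298) (.leaf 2740)) (.node (.leaf 2314) (.leaf 0)))) (.node (.node (.node (.leaf 16929) (.leaf 19703)) (.node (.leaf 7398) (.leaf 0))) (.node (.node (.leaf 12656) (.leaf 0)) (.node (.leaf 20773) (.leaf 0))))) (.node (.node (.node (.node (.leaf 13931) (.leaf 6354)) (.node (.leaf 8016) (.leaf 0))) (.node (.node (.leaf 13340) (.leaf 0)) (.node (.leaf 8328) (.leaf 0)))) (.node (.node (.node (.leaf 9694) (.leaf 4852)) (.node (.leaf 15630) (.leaf 0))) (.node (.node (.leaf 7656) (.leaf 0)) (.node (.leaf 9085) (.leaf 0))))))) (.node (.node (.node (.node (.node (.node (.leaf 3634) (.leaf 19227)) (.node (.leaf 14433) (.leaf 0))) (.node (.node (.leaf 1038) (.leaf 6349)) (.node (.leaf 19549) (.leaf 0)))) (.node (.node (.node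 (.leaf 9426) (.leaf 17461)) (.node (.leaf 21284) (.leaf 0))) (.node (.node (.leaf 14692) (.leaf 0)) (.node (.leaf 6054) (.leaf 0))))) (.node (.node (.node (.node (.leaf 1838) (.leaf 15369)) (.node (.leaf 18451) (.leaf 0))) (.node (.node (.leaf 10487) (.leaf 0)) (.node (.leaf 21474) (.leaf 0)))) (.node (.node (.node (.leaf 21285) (.leaf 242)) (.node (.leaf 19395) (.leaf 0))) (.node (.node (.leaf 17855) (.leaf 0)) (.node (.leaf 10849) (.leaf 0)))))) (.node (.node (.node (.node (.node (.leaf 19124) (.leaf 9896)) (.node (.leaf 9072) (.leaf 0))) (.node (.node (.leaf 4930) (.leaf 15647)) (.node (.leaf 10427) (.leaf 0)))) (.node (.node (.node (.leaf 19647) (.leaf 4634)) (.node (.leaf 16094) (.leaf 0))) (.node (.node (.leaf 18337) (.leaf 0)) (.node (.leaf 7762) (.leaf 0))))) (.node (.node (.node (.node (.leaf 9874) (.leaf 8915)) (.node (.leaf 6175) (.leaf 0))) (.node (.node (.leaf 2618) (.leaf 0)) (.node (.leaf 6703) (.leaf 0)))) (.node (.node (.node (.leaf 8601) (.leaf 13199)) (.node (.leaf 17006) (.leaf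 0))) (.node (.node (.leaf 555) (.leaf 0)) (.node (.leaf 9869) (.leaf 0)))))))) (.node (.node (.node (.node (.node (.node (.node (.leaf 649) (.leaf 18186)) (.node (.leaf 19798) (.leaf 0))) (.node (.node (.leaf 11780) (.leaf 15806)) (.node (.leaf 14583) (.leaf 0)))) (.node (.node (.node (.leaf 13547) (.leaf 13919)) (.node (.leaf 1725) (.leaf 0))) (.node (.node (.leaf 10345) (.leaf 0)) (.node (.leaf 15482) (.leaf 0))))) (.node (.node (.node (.node (.leaf 18716) (.leaf 16946)) (.node (.leaf 12710) (.leaf 0))) (.node (.node (.leaf 11890) (.leaf 0)) (.node (.leaf 3114) (.leaf 0)))) (.node (.node (.node (.leaf 16426) (.leaf 8947)) (.node (.leaf 1055) (.leaf 0))) (.node (.node (.leaf 5219) (.leaf 0)) (.node (.leaf 18626) (.leaf 0)))))) (.node (.node (.node (.node (.node (.leaf 8577) (.leaf 17735)) (.node (.leaf 20922) (.leaf 0))) (.node (.node (.leaf 7141) (.leaf 1995)) (.node (.leaf 1635) (.leaf 0)))) (.node (.node (.node (.leaf 18148) (.leaf 28)) (.node (.leaf 17459) (.leaf 0))) (.node (.node (.leaf 8469)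 (.leaf 0)) (.node (.leaf 12364) (.leaf 0))))) (.node (.node (.node (.node (.leaf 16216) (.leaf 2448)) (.node (.leaf 19905) (.leaf 0))) (.node (.node (.leaf 13117) (.leaf 0)) (.node (.leaf 13421) (.leaf 0)))) (.node (.node (.node (.leaf 4105) (.leaf 11043)) (.node (.leaf 12717) (.leaf 0))) (.node (.node (.leaf 5660) (.leaf 0)) (.node (.leaf 2800) (.leaf 0))))))) (.node (.node (.node (.node (.node (.node (.leaf 10833) (.leaf 17666)) (.node (.leaf 20876) (.leaf 0))) (.node (.node (.leaf 5557) (.leaf 6368)) (.node (.leaf 12705) (.leaf 0)))) (.node (.node (.node (.leaf 30) (.leaf 16532)) (.node (.leaf 552) (.leaf 0))) (.node (.node (.leaf 14467) (.leaf 0)) (.node (.leaf 414) (.leaf 0))))) (.node (.node (.node (.node (.leaf 6857) (.leaf 10830)) (.node (.leaf 4155) (.leaf 0))) (.node (.node (.leaf 15563) (.leaf 0)) (.node (.leaf 14805) (.leaf 0)))) (.node (.node (.node (.leaf 19330) (.leaf 15389)) (.node (.leaf 3162) (.leaf 0))) (.node (.node (.leaf 15552) (.leaf 0)) (.node (.leaf 18346) (.leaf 0))))))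 (.node (.node (.node (.node (.node (.leaf 10139) (.leaf 13267)) (.node (.leaf 15043) (.leaf 0))) (.node (.node (.leaf 19692) (.leaf 2071)) (.node (.leaf 19149) (.leaf 0)))) (.node (.node (.node (.leaf 13106) (.leaf 265)) (.node (.leaf 10469) (.leaf 0))) (.node (.node (.leaf 4222) (.leaf 0)) (.node (.leaf 665) (.leaf 0))))) (.node (.node (.node (.node (.leaf 19032) (.leaf 3398)) (.node (.leaf 3870) (.leaf 0))) (.node (.node (.leaf 4432) (.leaf 0)) (.node (.leaf 18914) (.leaf 0)))) (.node (.node (.node (.leaf 18209) (.leaf 9717)) (.node (.leaf 6081) (.leaf 0))) (.node (.node (.leaf 15163) (.leaf 0)) (.node (.leaf 19550) (.leaf 0)))))))))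

/-- a table -/
def ordM : Trie := (.node (.node (.node (.node (.node (.node (.node ordM0 ordM64) (.node ordM32 ordM96)) (.node (.node ordM16 ordM80) (.node ordM48 ordM112))) (.node (.node (.node ordM8 ordM72) (.node ordM40 ordM104)) (.node (.node ordM24 ordM88) (.node ordM56 ordM120)))) (.node (.node (.node (.node ordM4 ordM68) (.node ordM36 ordM100)) (.node (.node ordM20 ordM84) (.node ordM52 ordM116))) (.node (.node (.node ordM12 ordM76) (.node ordM44 ordM108)) (.node (.node ordM28 ordM92) (.node ordM60 ordM124))))) (.node (.node (.node (.node (.node ordM2 ordM66) (.node ordM34 ordM98)) (.node (.node ordM18 ordM82) (.node ordM50 ordM114))) (.node (.node (.node ordM10 ordM74) (.node ordM42 ordM106)) (.node (.node ordM26 ordM90) (.node ordM58 ordM122)))) (.node (.node (.node (.node ordM6 ordM70) (.node ordM38 ordM102)) (.node (.node ordM22 ordM86) (.node ordM54 ordM118))) (.node (.node (.node ordM14 ordM78) (.node ordM46 ordM110)) (.node (.node ordM30 ordM94) (.node ordM62 ordM126)))))) (.node (.node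 (.node (.node (.node (.node ordM1 ordM65) (.node ordM33 ordM97)) (.node (.node ordM17 ordM81) (.node ordM49 ordM113))) (.node (.node (.node ordM9 ordM73) (.node ordM41 ordM105)) (.node (.node ordM25 ordM89) (.node ordM57 ordM121)))) (.node (.node (.node (.node ordM5 ordM69) (.node ordM37 ordM101)) (.node (.node ordM21 ordM85) (.node ordM53 ordM117))) (.node (.node (.node ordM13 ordM77) (.node ordM45 ordM109)) (.node (.node ordM29 ordM93) (.node ordM61 ordM125))))) (.node (.node (.node (.node (.node ordM3 ordM67) (.node ordM35 ordM99)) (.node (.node ordM19 ordM83) (.node ordM51 ordM115))) (.node (.node (.node ordM11 ordM75) (.node ordM43 ordM107)) (.node (.node ordM27 ordM91) (.node ordM59 ordM123)))) (.node (.node (.node (.node ordM7 ordM71) (.node ordM39 ordM103)) (.node (.node ordM23 ordM87) (.node ordM55 ordM119))) (.node (.node (.node ordM15 ordM79) (.node ordM47 ordM111)) (.node (.node ordM31 ordM95) (.node ordM63 ordM127)))))))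
/-- the word of the first generator -/
def wA : List ℕ := [0, 1, 0, 1, 0, 1, 0, 3, 3, 2, 2, 2, 3, 2, 2, 2, 4, 3, 4, 4, 4, 5, 5, 5, 5, 5, 3, 6, 3, 3]

/-- the word of the second generator -/
def wB : List ℕ := [1, 1, 1, 1, 1, 0, 1, 0, 0, 3, 3, 2, 2, 2, 2, 3, 4, 3, 4, 4, 5, 5, 5, 5, 6, 6]

/-- the matrix of the first generator -/
def mA : ℕ := 15278171

/-- the matrix of the second generator -/
def mB : ℕ := 6768733

end Cfsg.Agent.RigidGraph.He.Invol
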