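import Cfsg.Agent.Lib.RigidGraph.He.MultDefs
import Cfsg.Agent.Lib.RigidGraph.He.Invol.Table
import Cfsg.Agent.Lib.RigidGraph.He.Invol.ClassData
import Cfsg.Agent.Lib.RigidGraph.He.Invol.BitMat
import Cfsg.Agent.Lib.Compute.AutDefs
import Cfsg.Agent.Lib.Perm.FixedConjBound
import Mathlib.LinearAlgebra.Matrix.SpecialLinearGroup

/-! The centraliser of an involution of the group on 2058 points, as a table. -/

set_option autoImplicit false
set_option maxRecDepth 100000

namespace Cfsg.Agent.RigidGraph.He.Invol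

open Cfsg.Agent.PermCert (allBelow allBelow_spec)
open Mult (base evW keyOf keyEq wordVal act_word eq_of_key wordVal_append)

attribute [local irreducible] nodes Mult.lets Mult.wordVal

/-- a part of an entry -/
def field (e sh : ℕ) : ℕ := Nat.mod (Nat.shiftRight e sh) 65536

/-- the entry -/
noncomputable def entry (i : ℕ) : ℕ := entries.get i

/-- the images of the base of an entry -/
noncomputable def eKey (i : ℕ) : List ℕ :=
  let e := entry i
  [e % 4096, e / 4096 % 4096, e / 4096 ^ 2 % 4096, e / 4096 ^ 3 % 4096, e / 4096 ^ 4 % 4096,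
    e / 4096 ^ 5 % 4096, e / 4096 ^ 6 % 4096]

/-- the matrix of an entry -/
noncomputable def eMat (i : ℕ) : ℕ := Nat.mod (Nat.shiftRight (entry i) 84) (2 ^ 28)

/-- a code for a list of images -/
def codeOf (k : List ℕ) : ℕ := k.foldr (fun x r => x + 4096 * r) 0

/-- all letters are letters -/
def okWord (w : List ℕ) : Bool := w.all fun i => Nat.blt i 8

/-- one step of the table -/
noncomputable def stepOK (i : ℕ) : Bool :=
  let e := entry i
  let k := eKey i
  let sa := field e 112
  let sb := field e 128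
  let pe := entry (field e 144)
  Nat.blt sa 21504 && Nat.blt sb 21504 &&
  eKey sa == k.map (evW wA) && eKey sb == k.map (evW wB) &&
  mulB (eMat sa) mA (eMat i) && mulB (eMat sb) mB (eMat i) &&
  (Nat.beq i 0 || (Nat.blt (field e 144) i &&
    Nat.beq (bif Nat.beq (field e 160) 0 then field pe 112 else field pe 128) i)) &&
  Nat.blt (field e 176) 21504 && Nat.beq (ordK.get (field e 176)) i &&
  Nat.blt (field e 192) 21504 && Nat.beq (ordM.get (field e 192)) i && Nat.blt (eMat i) (2 ^ 25)

/-- the order of the codes -/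
noncomputable def monoOK (lo : ℕ) : Bool :=
  Nat.blt (codeOf (eKey (ordK.get lo))) (codeOf (eKey (ordK.get (lo + 1)))) &&
    Nat.blt (eMat (ordM.get lo)) (eMat (ordM.get (lo + 1)))

/-- the images of the base of an element -/
noncomputable def keyG (h : ↥heGroup) : List ℕ :=
  base.map fun b => if hb : b < 2058 then (((h : Equiv.Perm (Fin 2058)) ⟨b, hb⟩ : ℕ)) else 0

theorem base_lt {b : ℕ} (hb : b ∈ base) : b < 2058 := by
  simp only [base, List.mem_cons, List.not_mem_nil, or_false] at hb
  omega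

theorem keyG_one : keyG 1 = base := by
  conv_rhs => rw [← List.map_id base]
  refine List.map_congr_left fun b hb => ?_
  simp [dif_pos (base_lt hb)]

theorem keyG_mul {w : List ℕ} (hw : ∀ i ∈ w, i < 8) (h : ↥heGroup) :
    keyG (wordVal w * h) = (keyG h).map (evW w) := by
  rw [keyG, keyG, List.map_map]
  refine List.map_congr_left fun b hb => ?_
  simp only [Function.comp_apply, dif_pos (base_lt hb), Subgroup.coe_mul, Equiv.Perm.mul_apply]
  exact act_word w hw _

theorem keyG_word {w : List ℕ} (hw : ∀ i ∈ w, i < 8) : keyG (wordVal w) = keyOf w := by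
  rw [← mul_one (wordVal w), keyG_mul hw, keyG_one, keyOf]

theorem keyG_inj {g h : ↥heGroup} (e : keyG g = keyG h) : g = h := by
  rw [← inv_mul_eq_one]
  refine Subtype.ext ?_
  have hbot : ((g⁻¹ * h : ↥heGroup) : Equiv.Perm (Fin 2058)) ∈
      autG 2058 graph ⊓ fixList 2058 [0, 37, 219, 44, 321, 221, 24] := by
    refine ⟨grp_le_autG graph_ok slp_ok gens_aut (g⁻¹ * h).2, mem_fixList.2 fun x hx => ?_⟩
    rw [Subgroup.coe_mul, Equiv.Perm.mul_apply, Subgroup.coe_inv, Equiv.Perm.inv_eq_iff_eq]
    have := (List.map_inj_left.1 e) (x : ℕ) hx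
    simp only [dif_pos x.2] at this
    exact (Fin.ext this).symm
  rw [aut_fix_bot, Subgroup.mem_bot] at hbot
  exact hbot

theorem okWord_mem {w : List ℕ} (h : okWord w = true) : ∀ i ∈ w, i < 8 := fun i hi =>
  Nat.blt_eq ▸ List.all_eq_true.1 h i hi

/-- the words are words -/
noncomputable def wordsOK : Bool := okWord wA && okWord wB && okWord wS && keyEq (wA ++ wS) (wS ++ wA) &&
  keyEq (wB ++ wS) (wS ++ wB) && eKey 0 == base && Nat.beq (eMat 0) 17043521

theorem words_ok : wordsOK = true := by decide +kernel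

theorem words_spec : (∀ i ∈ wA, i < 8) ∧ (∀ i ∈ wB, i < 8) ∧ (∀ i ∈ wS, i < 8) ∧
    keyEq (wA ++ wS) (wS ++ wA) = true ∧ keyEq (wB ++ wS) (wS ++ wB) = true ∧ eKey 0 = base ∧
    eMat 0 = 17043521 := by
  have h := words_ok
  simp only [wordsOK, Bool.and_eq_true, beq_iff_eq, Nat.beq_eq] at h
  exact ⟨okWord_mem h.1.1.1.1.1.1, okWord_mem h.1.1.1.1.1.2, okWord_mem h.1.1.1.1.2, h.1.1.1.2, h.1.1.2,
    h.1.2, h.2⟩

theorem matOf_one : matOf 17043521 = 1 := by decide +kernel

/-- the involution -/
noncomputable def sH : ↥heGroup := wordVal wS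

theorem mem_cent {w : List ℕ} (hw : ∀ i ∈ w, i < 8) (h : keyEq (w ++ wS) (wS ++ w) = true) :
    wordVal w ∈ Subgroup.centralizer ({sH} : Set ↥heGroup) := by
  rw [Subgroup.mem_centralizer_singleton_iff, sH, ← wordVal_append, ← wordVal_append]
  refine eq_of_key ?_ ?_ (beq_iff_eq.1 h) <;>
  · intro a ha
    rcases List.mem_append.1 ha with ha | ha
    · first | exact hw a ha | exact words_spec.2.2.1 a ha
    · first | exact hw a ha | exact words_spec.2.2.1 a ha

theorem detA : Matrix.det (matOf mA) = 1 := by decide +kernel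
theorem detB : Matrix.det (matOf mB) = 1 := by decide +kernel

/-- the generators with their matrices -/
noncomputable def genSet : Set (↥heGroup × Matrix.SpecialLinearGroup (Fin 5) (ZMod 2)) :=
  {(wordVal wA, ⟨matOf mA, detA⟩), (wordVal wB, ⟨matOf mB, detB⟩)}

/-- the graph of the isomorphism -/
noncomputable def pairs : Subgroup (↥heGroup × Matrix.SpecialLinearGroup (Fin 5) (ZMod 2)) :=
  Subgroup.closure genSet

/-- a pair matches an entry -/
def Matches (d : ↥heGroup × Matrix.SpecialLinearGroup (Fin 5) (ZMod 2)) (i : ℕ) : Prop :=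
  i < 21504 ∧ keyG d.1 = eKey i ∧ (d.2 : Matrix (Fin 5) (Fin 5) (ZMod 2)) = matOf (eMat i)

variable (hstep : ∀ i < 21504, stepOK i = true) (hmono : ∀ i < 21503, monoOK i = true)

include hstep

theorem step_spec {i : ℕ} (hi : i < 21504) :
    field (entry i) 112 < 21504 ∧ field (entry i) 128 < 21504 ∧
    eKey (field (entry i) 112) = (eKey i).map (evW wA) ∧ eKey (field (entry i) 128) = (eKey i).map (evW wB) ∧
    matOf (eMat (field (entry i) 112)) = matOf mA * matOf (eMat i) ∧
    matOf (eMat (field (entry i) 128)) = matOf mB * matOf (eMat i) ∧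
    (i = 0 ∨ (field (entry i) 144 < i ∧ (field (entry (field (entry i) 144)) 112 = i ∨
      field (entry (field (entry i) 144)) 128 = i))) ∧
    (field (entry i) 176 < 21504 ∧ ordK.get (field (entry i) 176) = i) ∧
    (field (entry i) 192 < 21504 ∧ ordM.get (field (entry i) 192) = i) ∧ eMat i < 2 ^ 25 := by
  have h := hstep i hi
  simp only [stepOK, Bool.and_eq_true, Bool.or_eq_true, Nat.beq_eq, Nat.blt_eq, beq_iff_eq] at h
  obtain ⟨⟨⟨⟨⟨⟨⟨⟨⟨⟨⟨a1, a2⟩, a3⟩, a4⟩, a5⟩, a6⟩, a7⟩, a8⟩, a9⟩, a10⟩, a11⟩, a12⟩ := h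
  refine ⟨a1, a2, a3, a4, mulB_spec a5, mulB_spec a6, ?_, ⟨a8, a9⟩, ⟨a10, a11⟩, a12⟩
  rcases a7 with a7 | ⟨a7, a7'⟩
  · exact Or.inl a7
  · refine Or.inr ⟨a7, ?_⟩
    cases hb : Nat.beq (field (entry i) 160) 0 <;> rw [hb] at a7'
    · exact Or.inr a7'
    · exact Or.inl a7'

theorem matches_step {d : ↥heGroup × Matrix.SpecialLinearGroup (Fin 5) (ZMod 2)} {i : ℕ} (h : Matches d i) :
    Matches ((wordVal wA, ⟨matOf mA, detA⟩) * d) (field (entry i) 112) ∧
    Matches ((wordVal wB, ⟨matOf mB, detB⟩) * d) (field (entry i) 128) := by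
  obtain ⟨hi, hk, hm⟩ := h
  obtain ⟨s1, s2, k1, k2, m1, m2, -⟩ := step_spec hstep hi
  refine ⟨⟨s1, ?_, ?_⟩, s2, ?_, ?_⟩
  · rw [Prod.fst_mul, keyG_mul words_spec.1, hk, k1]
  · rw [Prod.snd_mul, Matrix.SpecialLinearGroup.coe_mul, hm, m1]
  · rw [Prod.fst_mul, keyG_mul words_spec.2.1, hk, k2]
  · rw [Prod.snd_mul, Matrix.SpecialLinearGroup.coe_mul, hm, m2]

omit hstep in
theorem matches_one : Matches 1 0 := by
  refine ⟨by norm_num, ?_, ?_⟩
  · rw [Prod.fst_one, keyG_one, words_spec.2.2.2.2.2.1]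
  · rw [Prod.snd_one, Matrix.SpecialLinearGroup.coe_one, words_spec.2.2.2.2.2.2, matOf_one]

theorem exists_matches {d : ↥heGroup × Matrix.SpecialLinearGroup (Fin 5) (ZMod 2)} (hd : d ∈ pairs) :
    ∃ i, Matches d i := by
  rw [pairs, ← Subgroup.mem_toSubmonoid, Subgroup.closure_toSubmonoid_of_finite] at hd
  induction hd using Submonoid.closure_induction_left with
  | one => exact ⟨0, matches_one⟩
  | mul_left x hx y _ ih =>
    obtain ⟨i, hi⟩ := ih
    rcases hx with rfl | hx
    · exact ⟨_, (matches_step hstep hi).1⟩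
    · rw [Set.mem_singleton_iff] at hx
      subst hx
      exact ⟨_, (matches_step hstep hi).2⟩

theorem exists_pair : ∀ i < 21504, ∃ d ∈ pairs, Matches d i := by
  intro i
  induction i using Nat.strong_induction_on with
  | _ i ih =>
    intro hi
    obtain ⟨-, -, -, -, -, -, h7, -⟩ := step_spec hstep hi
    rcases h7 with rfl | ⟨hlt, h7⟩
    · exact ⟨1, one_mem _, matches_one⟩
    · obtain ⟨d, hd, hm⟩ := ih _ hlt (hlt.trans hi)
      rcases h7 with h7 | h7
      · exact ⟨_, mul_mem (Subgroup.subset_closure (Or.inl rfl)) hd, h7 ▸ (matches_step hstep hm).1⟩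
      · exact ⟨_, mul_mem (Subgroup.subset_closure (Or.inr rfl)) hd, h7 ▸ (matches_step hstep hm).2⟩

include hmono

theorem key_inj {i j : ℕ} (hi : i < 21504) (hj : j < 21504) (h : eKey i = eKey j) : i = j := by
  have mono : ∀ a b, a < b → b < 21504 →
      codeOf (eKey (ordK.get a)) < codeOf (eKey (ordK.get b)) := by
    intro a b hab hb
    induction b, hab using Nat.le_induction with
    | base =>
      have := hmono a (by omega)
      simp only [monoOK, Bool.and_eq_true, Nat.blt_eq] at this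
      exact this.1
    | succ b hab ih =>
      have := hmono b (by omega)
      simp only [monoOK, Bool.and_eq_true, Nat.blt_eq] at this
      exact (ih (by omega)).trans this.1
  obtain ⟨ha, ha'⟩ := (step_spec hstep hi).2.2.2.2.2.2.2.1
  obtain ⟨hb, hb'⟩ := (step_spec hstep hj).2.2.2.2.2.2.2.1
  rcases lt_trichotomy (field (entry i) 176) (field (entry j) 176) with hl | hl | hl
  · have := mono _ _ hl hb; rw [ha', hb', h] at this; omega
  · rw [← ha', ← hb', hl]
  · have := mono _ _ hl ha; rw [ha', hb', h] at this; omega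

theorem mat_inj {i j : ℕ} (hi : i < 21504) (hj : j < 21504) (h : eMat i = eMat j) : i = j := by
  have mono : ∀ a b, a < b → b < 21504 → eMat (ordM.get a) < eMat (ordM.get b) := by
    intro a b hab hb
    induction b, hab using Nat.le_induction with
    | base =>
      have := hmono a (by omega)
      simp only [monoOK, Bool.and_eq_true, Nat.blt_eq] at this
      exact this.2
    | succ b hab ih =>
      have := hmono b (by omega)
      simp only [monoOK, Bool.and_eq_true, Nat.blt_eq] at this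
      exact (ih (by omega)).trans this.2
  obtain ⟨ha, ha'⟩ := (step_spec hstep hi).2.2.2.2.2.2.2.2.1
  obtain ⟨hb, hb'⟩ := (step_spec hstep hj).2.2.2.2.2.2.2.2.1
  rcases lt_trichotomy (field (entry i) 192) (field (entry j) 192) with hl | hl | hl
  · have := mono _ _ hl hb; rw [ha', hb', h] at this; omega
  · rw [← ha', ← hb', hl]
  · have := mono _ _ hl ha; rw [ha', hb', h] at this; omega

theorem fst_inj : Function.Injective ((MonoidHom.fst ↥heGroup _).comp pairs.subtype) := by
  rintro ⟨d, hd⟩ ⟨d', hd'⟩ e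
  simp only [MonoidHom.coe_comp, Function.comp_apply, Subgroup.subtype_apply, MonoidHom.coe_fst] at e
  obtain ⟨i, hi, k, m⟩ := exists_matches hstep hd
  obtain ⟨j, hj, k', m'⟩ := exists_matches hstep hd'
  obtain rfl := key_inj hstep hmono hi hj (by rw [← k, ← k', e])
  exact Subtype.ext (Prod.ext e (Subtype.ext (m.trans m'.symm)))

theorem snd_inj : Function.Injective
    ((MonoidHom.snd ↥heGroup (Matrix.SpecialLinearGroup (Fin 5) (ZMod 2))).comp pairs.subtype) := by
  rintro ⟨d, hd⟩ ⟨d', hd'⟩ e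
  simp only [MonoidHom.coe_comp, Function.comp_apply, Subgroup.subtype_apply, MonoidHom.coe_snd] at e
  obtain ⟨i, hi, k, m⟩ := exists_matches hstep hd
  obtain ⟨j, hj, k', m'⟩ := exists_matches hstep hd'
  obtain rfl := mat_inj hstep hmono hi hj (matOf_inj (step_spec hstep hi).2.2.2.2.2.2.2.2.2
    (step_spec hstep hj).2.2.2.2.2.2.2.2.2 (by rw [← m, ← m', e]))
  exact Subtype.ext (Prod.ext (keyG_inj (k.trans k'.symm)) e)

theorem card_pairs : Nat.card pairs = 21504 := by
  choose f hf hm using fun i : Fin 21504 => exists_pair hstep i i.2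
  let φ : Fin 21504 → pairs := fun i => ⟨f i, hf i⟩
  have hbij : Function.Bijective φ := by
    refine ⟨fun i j e => Fin.ext ?_, fun d => ?_⟩
    · have e' : f i = f j := congrArg Subtype.val e
      exact key_inj hstep hmono i.2 j.2 (by rw [← (hm i).2.1, ← (hm j).2.1, e'])
    · obtain ⟨i, hi, k, m⟩ := exists_matches hstep d.2
      refine ⟨⟨i, hi⟩, fst_inj hstep hmono ?_⟩
      exact keyG_inj ((hm ⟨i, hi⟩).2.1.trans k.symm)
  rw [← Nat.card_eq_of_bijective φ hbij, Nat.card_fin]

end Cfsg.Agent.RigidGraph.He.Invol
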