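import Cfsg.Agent.Lib.RigidGraph.He.Invol.Centraliser

/-! The class of the involution and a bound for its centraliser. -/

set_option autoImplicit false
set_option maxRecDepth 100000

namespace Cfsg.Agent.RigidGraph.He.Invol

open Cfsg.Agent.PermAut (getTbl)
open Cfsg.Agent.PermCert (allBelow allBelow_spec)
open Mult (base evW keyOf keyEq wordVal act_word eq_of_key wordVal_append)

attribute [local irreducible] nodes Mult.lets Mult.wordVal

/-- a listed conjugate -/
def conjAt (i : ℕ) : List ℕ × List ℕ := getTbl conjs i ([], [])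

/-- a listed conjugate is a conjugate fixing the first point, and the codes increase -/
def conjOK (i : ℕ) : Bool :=
  let c := conjAt i
  okWord c.1 && okWord c.2 && Nat.beq (evW c.1 0) 0 && keyEq (c.2 ++ wS) (c.1 ++ c.2) &&
    (Nat.beq i 0 || Nat.blt (codeOf (keyOf (conjAt (i - 1)).1)) (codeOf (keyOf c.1)))

theorem conjs_ok0 : allBelow (fun i => conjOK i) 1024 = true := by decide +kernel
theorem conjs_ok1 : allBelow (fun i => conjOK (1024 + i)) 1024 = true := by decide +kernel
theorem conjs_ok2 : allBelow (fun i => conjOK (2048 + i)) 1024 = true := by decide +kernel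
theorem conjs_ok3 : allBelow (fun i => conjOK (3072 + i)) 753 = true := by decide +kernel

theorem fix_count : Nat.beq (cntB (fun q => Nat.beq (evW wS q) q) 2058) 42 = true := by decide +kernel

theorem conj_all : ∀ i < 3825, conjOK i = true := by
  intro i hi
  by_cases h1 : i < 1024
  · exact allBelow_spec _ _ conjs_ok0 i h1
  by_cases h2 : i < 2048
  · have := allBelow_spec _ _ conjs_ok1 (i - 1024) (by omega)
    rwa [show 1024 + (i - 1024) = i by omega] at this
  by_cases h3 : i < 3072
  · have := allBelow_spec _ _ conjs_ok2 (i - 2048) (by omega)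
    rwa [show 2048 + (i - 2048) = i by omega] at this
  · have := allBelow_spec _ _ conjs_ok3 (i - 3072) (by omega)
    rwa [show 3072 + (i - 3072) = i by omega] at this

theorem smul_eq (g : ↥heGroup) (q : Fin 2058) : g • q = (g : Equiv.Perm (Fin 2058)) q := rfl

theorem card_fixed : Nat.card {q : Fin 2058 // sH • q = q} = 42 := by
  classical
  rw [Nat.card_eq_fintype_card, Fintype.card_subtype]
  have hf := fix_count
  rw [Nat.beq_eq, cntB_eq_fin] at hf
  refine Eq.trans ?_ hf
  congr 1
  refine Finset.filter_congr fun q _ => ?_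
  rw [smul_eq, Fin.ext_iff, sH, act_word wS words_spec.2.2.1, Nat.beq_eq]

theorem card_centralizer_le : Nat.card (Subgroup.centralizer ({sH} : Set ↥heGroup)) ≤ 21504 := by
  classical
  have H : ∀ i < 3825, (∀ a ∈ (conjAt i).1, a < 8) ∧ (∀ a ∈ (conjAt i).2, a < 8) ∧
      evW (conjAt i).1 0 = 0 ∧ keyOf ((conjAt i).2 ++ wS) = keyOf ((conjAt i).1 ++ (conjAt i).2) ∧
      (i = 0 ∨ codeOf (keyOf (conjAt (i - 1)).1) < codeOf (keyOf (conjAt i).1)) := fun i hi => by
    have h := conj_all i hi
    simp only [conjOK, keyEq, Bool.and_eq_true, Bool.or_eq_true, Nat.beq_eq, Nat.blt_eq, beq_iff_eq] at h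
    exact ⟨okWord_mem h.1.1.1.1, okWord_mem h.1.1.1.2, h.1.1.2, h.1.2, h.2⟩
  have hlt : ∀ a b, a < b → b < 3825 → codeOf (keyOf (conjAt a).1) < codeOf (keyOf (conjAt b).1) := by
    intro a b hab hb
    induction b, hab using Nat.le_induction with
    | base => exact ((H _ hb).2.2.2.2).resolve_left (by omega)
    | succ b hab ih => exact (ih (by omega)).trans (((H _ hb).2.2.2.2).resolve_left (by omega))
  set L : Finset ↥heGroup := (Finset.range 3825).image fun i => wordVal (conjAt i).1
  have hL : L.card = 3825 := by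
    rw [Finset.card_image_of_injOn, Finset.card_range]
    intro a ha b hb e
    rw [Finset.coe_range, Set.mem_Iio] at ha hb
    have e' : keyOf (conjAt a).1 = keyOf (conjAt b).1 := Mult.key_of_eq (H a ha).1 (H b hb).1 e
    rcases lt_trichotomy a b with hl | hl | hl
    · exact absurd (hlt a b hl hb) (by rw [e']; exact lt_irrefl _)
    · exact hl
    · exact absurd (hlt b a hl ha) (by rw [e']; exact lt_irrefl _)
  have := pretransitive_heGroup
  have hb := FixedConj.mul_le_fixed sH (0 : Fin 2058) L (fun u hu => by
    obtain ⟨i, hi, rfl⟩ := Finset.mem_image.1 hu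
    obtain ⟨h1, h2, h3, h4, -⟩ := H i (Finset.mem_range.1 hi)
    refine ⟨isConj_iff.2 ⟨wordVal (conjAt i).2, ?_⟩, ?_⟩
    · rw [mul_inv_eq_iff_eq_mul, sH, ← wordVal_append, ← wordVal_append]
      refine eq_of_key ?_ ?_ h4 <;>
      · intro a ha
        rcases List.mem_append.1 ha with ha | ha
        · first | exact h1 a ha | exact h2 a ha | exact words_spec.2.2.1 a ha
        · first | exact h1 a ha | exact h2 a ha | exact words_spec.2.2.1 a ha
    · rw [smul_eq]
      exact Fin.ext ((act_word _ h1 0).trans h3))
  rw [hL, card_fixed] at hb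
  have hc := FixedConj.conjugatesOf_card sH
  rw [card_heGroup] at hc
  have h187 : 187425 ≤ (conjugatesOf sH).ncard := by omega
  nlinarith [Nat.mul_le_mul_right (Nat.card (Subgroup.centralizer ({sH} : Set ↥heGroup))) h187]

end Cfsg.Agent.RigidGraph.He.Invol
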