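import Mathlib.LinearAlgebra.Matrix.SpecialLinearGroup
import Mathlib.LinearAlgebra.Matrix.GeneralLinearGroup.Card
import Mathlib.LinearAlgebra.Matrix.Transvection
import Mathlib.Tactic

/-! The centraliser of a transvection in SL(5, 2) has at most 21504 elements. -/

set_option autoImplicit false

namespace Cfsg.Agent.RigidGraph.He.Invol

open Matrix

/-- The linear conditions on the centraliser. -/
theorem comm_spec {g : Matrix (Fin 5) (Fin 5) (ZMod 2)}
    (h : g * transvection 0 1 1 = transvection 0 1 1 * g) :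
    g 0 0 = g 1 1 ∧ (∀ i, i ≠ 0 → g i 0 = 0) ∧ ∀ j, j ≠ 1 → g 1 j = 0 := by
  refine ⟨?_, fun i hi => ?_, fun j hj => ?_⟩
  · have e := congrFun (congrFun h 0) 1
    rw [mul_transvection_apply_same, transvection_mul_apply_same] at e
    simpa using e
  · have e := congrFun (congrFun h i) 1
    rw [mul_transvection_apply_same, transvection_mul_apply_of_ne _ _ _ _ hi] at e
    simpa using e
  · have e := congrFun (congrFun h 0) j
    rw [mul_transvection_apply_of_ne _ _ _ _ hj, transvection_mul_apply_same] at e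
    simpa using e

/-- The lower block. -/
def blk (g : Matrix (Fin 5) (Fin 5) (ZMod 2)) : Matrix (Fin 3) (Fin 3) (ZMod 2) :=
  fun i j => g (Fin.natAdd 2 i) (Fin.natAdd 2 j)

theorem blk_mul {g g' : Matrix (Fin 5) (Fin 5) (ZMod 2)} (h1 : ∀ i, i ≠ 0 → g i 0 = 0)
    (h2 : ∀ j, j ≠ 1 → g' 1 j = 0) : blk (g * g') = blk g * blk g' := by
  ext i j
  have e0 : g (Fin.natAdd 2 i) 0 = 0 := h1 _ (by fin_cases i <;> decide)
  have e1 : g' 1 (Fin.natAdd 2 j) = 0 := h2 _ (by fin_cases j <;> decide)
  simp only [blk, mul_apply, Fin.sum_univ_five, Fin.sum_univ_three, e0, e1, zero_mul, mul_zero, zero_add]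
  rfl

theorem eq_zero_of_ne_one : ∀ x : ZMod 2, x ≠ 1 → x = 0 := by decide

theorem card_cent_le (s : Matrix.SpecialLinearGroup (Fin 5) (ZMod 2))
    (hs : (s : Matrix (Fin 5) (Fin 5) (ZMod 2)) = Matrix.transvection 0 1 1) :
    Nat.card (Subgroup.centralizer ({s} : Set (Matrix.SpecialLinearGroup (Fin 5) (ZMod 2)))) ≤ 21504 := by
  classical
  have : Fact (Nat.Prime 2) := ⟨Nat.prime_two⟩
  have hc : ∀ g : Subgroup.centralizer ({s} : Set (Matrix.SpecialLinearGroup (Fin 5) (ZMod 2))),
      ((g : Matrix.SpecialLinearGroup (Fin 5) (ZMod 2)) : Matrix (Fin 5) (Fin 5) (ZMod 2)) *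
        transvection 0 1 1 = transvection 0 1 1 * ((g : Matrix.SpecialLinearGroup (Fin 5) (ZMod 2)) : Matrix (Fin 5) (Fin 5) (ZMod 2)) := by
    intro g
    have := congrArg (fun x : Matrix.SpecialLinearGroup (Fin 5) (ZMod 2) => (x : Matrix (Fin 5) (Fin 5) (ZMod 2)))
      (Subgroup.mem_centralizer_singleton_iff.1 g.2)
    simpa [hs] using this
  let b : Subgroup.centralizer ({s} : Set (Matrix.SpecialLinearGroup (Fin 5) (ZMod 2))) →
      GL (Fin 3) (ZMod 2) := fun g =>
    { val := blk ((g : Matrix.SpecialLinearGroup (Fin 5) (ZMod 2)) : Matrix (Fin 5) (Fin 5) (ZMod 2))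
      inv := blk (((g⁻¹ : Subgroup.centralizer ({s} : Set _)) : Matrix.SpecialLinearGroup (Fin 5) (ZMod 2)) : Matrix (Fin 5) (Fin 5) (ZMod 2))
      val_inv := by
        rw [← blk_mul (comm_spec (hc g)).2.1 (comm_spec (hc g⁻¹)).2.2, ← Matrix.SpecialLinearGroup.coe_mul,
          ← Subgroup.coe_mul, mul_inv_cancel]
        ext i j
        simp [blk, one_apply, Fin.ext_iff]
      inv_val := by
        rw [← blk_mul (comm_spec (hc g⁻¹)).2.1 (comm_spec (hc g)).2.2, ← Matrix.SpecialLinearGroup.coe_mul,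
          ← Subgroup.coe_mul, inv_mul_cancel]
        ext i j
        simp [blk, one_apply, Fin.ext_iff] }
  let f : Subgroup.centralizer ({s} : Set (Matrix.SpecialLinearGroup (Fin 5) (ZMod 2))) →
      GL (Fin 3) (ZMod 2) × ((Fin 4 → ZMod 2) × (Fin 3 → ZMod 2)) := fun g =>
    (b g, fun j => ((g : Matrix.SpecialLinearGroup (Fin 5) (ZMod 2)) : Matrix (Fin 5) (Fin 5) (ZMod 2)) 0 j.succ,
      fun i => ((g : Matrix.SpecialLinearGroup (Fin 5) (ZMod 2)) : Matrix (Fin 5) (Fin 5) (ZMod 2)) (Fin.natAdd 2 i) 1)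
  have hone : ∀ g : Subgroup.centralizer ({s} : Set (Matrix.SpecialLinearGroup (Fin 5) (ZMod 2))),
      ((g : Matrix.SpecialLinearGroup (Fin 5) (ZMod 2)) : Matrix (Fin 5) (Fin 5) (ZMod 2)) 0 0 = 1 := by
    intro g
    have hdet := (g : Matrix.SpecialLinearGroup (Fin 5) (ZMod 2)).2
    by_contra h
    have h0 : ((g : Matrix.SpecialLinearGroup (Fin 5) (ZMod 2)) : Matrix (Fin 5) (Fin 5) (ZMod 2)) 0 0 = 0 :=
      eq_zero_of_ne_one _ h
    rw [Matrix.det_eq_zero_of_column_eq_zero 0 fun i => ?_] at hdet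
    · exact zero_ne_one hdet
    · by_cases hi : i = 0
      · rw [hi]; exact h0
      · exact (comm_spec (hc g)).2.1 i hi
  have hf : Function.Injective f := by
    intro g g' e
    simp only [f, Prod.mk.injEq] at e
    obtain ⟨e1, e2, e3⟩ := e
    have e1' := congrArg (fun u : GL (Fin 3) (ZMod 2) => (u : Matrix (Fin 3) (Fin 3) (ZMod 2))) e1
    simp only [b] at e1'
    obtain ⟨a1, b1, c1⟩ := comm_spec (hc g)
    obtain ⟨a2, b2, c2⟩ := comm_spec (hc g')
    refine Subtype.ext (Subtype.ext (Matrix.ext fun i j => ?_))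
    have row0 : ((g : Matrix.SpecialLinearGroup (Fin 5) (ZMod 2)) : Matrix (Fin 5) (Fin 5) (ZMod 2)) 0 j =
        ((g' : Matrix.SpecialLinearGroup (Fin 5) (ZMod 2)) : Matrix (Fin 5) (Fin 5) (ZMod 2)) 0 j := by
      cases j using Fin.cases with
      | zero => rw [hone, hone]
      | succ j => exact congrFun e2 j
    cases i using Fin.cases with
    | zero => exact row0
    | succ i =>
      cases i using Fin.cases with
      | zero =>
        by_cases hj : j = 1
        · subst hj
          exact a1.symm.trans ((hone g).trans ((hone g').symm.trans a2))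
        · exact (c1 j hj).trans (c2 j hj).symm
      | succ i =>
        cases j using Fin.cases with
        | zero => exact (b1 _ (Fin.succ_ne_zero _)).trans (b2 _ (Fin.succ_ne_zero _)).symm
        | succ j =>
          cases j using Fin.cases with
          | zero =>
            have := congrFun e3 i
            rwa [show Fin.natAdd 2 i = i.succ.succ from Fin.ext (by simp; omega)] at this
          | succ j =>
            have := congrFun (congrFun e1' i) j
            simp only [blk] at this
            rwa [show Fin.natAdd 2 i = i.succ.succ from Fin.ext (by simp; omega),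
              show Fin.natAdd 2 j = j.succ.succ from Fin.ext (by simp; omega)] at this
  refine (Nat.card_le_card_of_injective f hf).trans (le_of_eq ?_)
  rw [Nat.card_prod, Nat.card_prod, Matrix.card_GL_field, Nat.card_fun, Nat.card_fun]
  simp [Fin.prod_univ_three]

end Cfsg.Agent.RigidGraph.He.Invol
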