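import Cfsg.Agent.Lib.RigidGraph.He.Invol.Centraliser

/-! Kernel checks on the table. -/

set_option autoImplicit false
set_option maxRecDepth 100000
set_option Elab.async false

namespace Cfsg.Agent.RigidGraph.He.Invol

open Cfsg.Agent.PermCert (allBelow)

theorem steps1_0 : allBelow (fun i => stepOK (7168 + i)) 1024 = true := by decide +kernel

theorem monos1_0 : allBelow (fun i => monoOK (7168 + i)) 1024 = true := by decide +kernel

theorem steps1_1 : allBelow (fun i => stepOK (8192 + i)) 1024 = true := by decide +kernel

theorem monos1_1 : allBelow (fun i => monoOK (8192 + i)) 1024 = true := by decide +kernel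

theorem steps1_2 : allBelow (fun i => stepOK (9216 + i)) 1024 = true := by decide +kernel

theorem monos1_2 : allBelow (fun i => monoOK (9216 + i)) 1024 = true := by decide +kernel

theorem steps1_3 : allBelow (fun i => stepOK (10240 + i)) 1024 = true := by decide +kernel

theorem monos1_3 : allBelow (fun i => monoOK (10240 + i)) 1024 = true := by decide +kernel

theorem steps1_4 : allBelow (fun i => stepOK (11264 + i)) 1024 = true := by decide +kernel

theorem monos1_4 : allBelow (fun i => monoOK (11264 + i)) 1024 = true := by decide +kernel

theorem steps1_5 : allBelow (fun i => stepOK (12288 + i)) 1024 = true := by decide +kernel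

theorem monos1_5 : allBelow (fun i => monoOK (12288 + i)) 1024 = true := by decide +kernel

theorem steps1_6 : allBelow (fun i => stepOK (13312 + i)) 1024 = true := by decide +kernel

theorem monos1_6 : allBelow (fun i => monoOK (13312 + i)) 1024 = true := by decide +kernel

end Cfsg.Agent.RigidGraph.He.Invol
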