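import Cfsg.Agent.Lib.RigidGraph.He.Invol.Centraliser

/-! Kernel checks on the table. -/

set_option autoImplicit false
set_option maxRecDepth 100000
set_option Elab.async false

namespace Cfsg.Agent.RigidGraph.He.Invol

open Cfsg.Agent.PermCert (allBelow)

theorem steps2_0 : allBelow (fun i => stepOK (14336 + i)) 1024 = true := by decide +kernel

theorem monos2_0 : allBelow (fun i => monoOK (14336 + i)) 1024 = true := by decide +kernel

theorem steps2_1 : allBelow (fun i => stepOK (15360 + i)) 1024 = true := by decide +kernel

theorem monos2_1 : allBelow (fun i => monoOK (15360 + i)) 1024 = true := by decide +kernel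

theorem steps2_2 : allBelow (fun i => stepOK (16384 + i)) 1024 = true := by decide +kernel

theorem monos2_2 : allBelow (fun i => monoOK (16384 + i)) 1024 = true := by decide +kernel

theorem steps2_3 : allBelow (fun i => stepOK (17408 + i)) 1024 = true := by decide +kernel

theorem monos2_3 : allBelow (fun i => monoOK (17408 + i)) 1024 = true := by decide +kernel

theorem steps2_4 : allBelow (fun i => stepOK (18432 + i)) 1024 = true := by decide +kernel

theorem monos2_4 : allBelow (fun i => monoOK (18432 + i)) 1024 = true := by decide +kernel

theorem steps2_5 : allBelow (fun i => stepOK (19456 + i)) 1024 = true := by decide +kernel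

theorem monos2_5 : allBelow (fun i => monoOK (19456 + i)) 1024 = true := by decide +kernel

theorem steps2_6 : allBelow (fun i => stepOK (20480 + i)) 1024 = true := by decide +kernel

theorem monos2_6 : allBelow (fun i => monoOK (20480 + i)) 1023 = true := by decide +kernel

end Cfsg.Agent.RigidGraph.He.Invol
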