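import Cfsg.Agent.Lib.RigidGraph.He.Invol.Steps0
import Cfsg.Agent.Lib.RigidGraph.He.Invol.Steps1
import Cfsg.Agent.Lib.RigidGraph.He.Invol.Steps2
import Cfsg.Agent.Lib.RigidGraph.He.Invol.ClassBound
import Cfsg.Agent.Lib.RigidGraph.He.Invol.SLCentraliser

/-! The centraliser of the involution and the centraliser of a transvection are isomorphic. -/

set_option autoImplicit false
set_option maxRecDepth 100000

namespace Cfsg.Agent.RigidGraph.He.Invol

open Cfsg.Agent.PermCert (allBelow allBelow_spec)
open Mult (wordVal keyOf keyEq)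

attribute [local irreducible] nodes Mult.lets Mult.wordVal entries ordK ordM

theorem chunk {f : ℕ → Bool} {lo k : ℕ} (h : allBelow (fun i => f (lo + i)) k = true) :
    ∀ i, lo ≤ i → i < lo + k → f i = true := fun i h1 h2 => by
  have := allBelow_spec _ _ h (i - lo) (by omega)
  rwa [show lo + (i - lo) = i by omega] at this

theorem step_all : ∀ i < 21504, stepOK i = true := by
  intro i hi
  obtain ⟨k, hk, h1, h2⟩ : ∃ k, k < 21 ∧ 1024 * k ≤ i ∧ i < 1024 * k + 1024 := ⟨i / 1024, by omega, by omega, by omega⟩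
  interval_cases k
  · exact chunk steps0_0 i h1 h2
  · exact chunk steps0_1 i h1 h2
  · exact chunk steps0_2 i h1 h2
  · exact chunk steps0_3 i h1 h2
  · exact chunk steps0_4 i h1 h2
  · exact chunk steps0_5 i h1 h2
  · exact chunk steps0_6 i h1 h2
  · exact chunk steps1_0 i h1 h2
  · exact chunk steps1_1 i h1 h2
  · exact chunk steps1_2 i h1 h2
  · exact chunk steps1_3 i h1 h2
  · exact chunk steps1_4 i h1 h2
  · exact chunk steps1_5 i h1 h2
  · exact chunk steps1_6 i h1 h2
  · exact chunk steps2_0 i h1 h2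
  · exact chunk steps2_1 i h1 h2
  · exact chunk steps2_2 i h1 h2
  · exact chunk steps2_3 i h1 h2
  · exact chunk steps2_4 i h1 h2
  · exact chunk steps2_5 i h1 h2
  · exact chunk steps2_6 i h1 h2

theorem mono_all : ∀ i < 21503, monoOK i = true := by
  intro i hi
  obtain ⟨k, hk, h1, h2⟩ : ∃ k, k < 21 ∧ 1024 * k ≤ i ∧ i < 1024 * k + 1024 := ⟨i / 1024, by omega, by omega, by omega⟩
  interval_cases k
  · exact chunk monos0_0 i h1 h2
  · exact chunk monos0_1 i h1 h2
  · exact chunk monos0_2 i h1 h2
  · exact chunk monos0_3 i h1 h2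
  · exact chunk monos0_4 i h1 h2
  · exact chunk monos0_5 i h1 h2
  · exact chunk monos0_6 i h1 h2
  · exact chunk monos1_0 i h1 h2
  · exact chunk monos1_1 i h1 h2
  · exact chunk monos1_2 i h1 h2
  · exact chunk monos1_3 i h1 h2
  · exact chunk monos1_4 i h1 h2
  · exact chunk monos1_5 i h1 h2
  · exact chunk monos1_6 i h1 h2
  · exact chunk monos2_0 i h1 h2
  · exact chunk monos2_1 i h1 h2
  · exact chunk monos2_2 i h1 h2
  · exact chunk monos2_3 i h1 h2
  · exact chunk monos2_4 i h1 h2
  · exact chunk monos2_5 i h1 h2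
  · exact chunk monos2_6 i h1 (by omega)

theorem card_fst : Nat.card (pairs.map (MonoidHom.fst ↥heGroup
    (Matrix.SpecialLinearGroup (Fin 5) (ZMod 2)))) = 21504 := by
  rw [← card_pairs step_all mono_all,
    Nat.card_congr (MonoidHom.ofInjective (fst_inj step_all mono_all)).toEquiv, MonoidHom.range_comp,
    Subgroup.range_subtype]

theorem map_fst : pairs.map (MonoidHom.fst ↥heGroup (Matrix.SpecialLinearGroup (Fin 5) (ZMod 2))) =
    Subgroup.centralizer ({sH} : Set ↥heGroup) := by
  refine Subgroup.eq_of_le_of_card_ge ?_ (card_fst.symm ▸ card_centralizer_le)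
  rw [pairs, MonoidHom.map_closure, Subgroup.closure_le]
  rintro _ ⟨d, hd, rfl⟩
  rcases hd with rfl | hd
  · exact mem_cent words_spec.1 words_spec.2.2.2.1
  · rw [Set.mem_singleton_iff] at hd
    subst hd
    exact mem_cent words_spec.2.1 words_spec.2.2.2.2.1

theorem card_centralizer : Nat.card (Subgroup.centralizer ({sH} : Set ↥heGroup)) = 21504 :=
  map_fst ▸ card_fst

theorem mul_transvA : matOf mA * Matrix.transvection 0 1 1 = Matrix.transvection 0 1 1 * matOf mA := by
  decide +kernel

theorem mul_transvB : matOf mB * Matrix.transvection 0 1 1 = Matrix.transvection 0 1 1 * matOf mB := by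
  decide +kernel

theorem map_snd (s : Matrix.SpecialLinearGroup (Fin 5) (ZMod 2))
    (hs : (s : Matrix (Fin 5) (Fin 5) (ZMod 2)) = Matrix.transvection 0 1 1) :
    pairs.map (MonoidHom.snd ↥heGroup (Matrix.SpecialLinearGroup (Fin 5) (ZMod 2))) =
      Subgroup.centralizer ({s} : Set (Matrix.SpecialLinearGroup (Fin 5) (ZMod 2))) := by
  refine Subgroup.eq_of_le_of_card_ge ?_ ((card_cent_le s hs).trans_eq ?_)
  · rw [pairs, MonoidHom.map_closure, Subgroup.closure_le]
    rintro _ ⟨d, hd, rfl⟩
    rw [SetLike.mem_coe, Subgroup.mem_centralizer_singleton_iff]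
    refine Subtype.ext ?_
    rw [Matrix.SpecialLinearGroup.coe_mul, Matrix.SpecialLinearGroup.coe_mul, hs]
    rcases hd with rfl | hd
    · exact mul_transvA
    · rw [Set.mem_singleton_iff] at hd
      subst hd
      exact mul_transvB
  · rw [← card_pairs step_all mono_all,
      Nat.card_congr (MonoidHom.ofInjective (snd_inj step_all mono_all)).toEquiv, MonoidHom.range_comp,
      Subgroup.range_subtype]

theorem sH_sq : sH * sH = 1 := by
  rw [sH, ← Mult.wordVal_append]
  refine (Mult.eq_of_key (fun i hi => (List.mem_append.1 hi).elim (words_spec.2.2.1 i) (words_spec.2.2.1 i))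
    (w' := []) (by simp) ?_).trans (by simp [wordVal])
  exact beq_iff_eq.1 (by decide +kernel : (keyOf (wS ++ wS) == keyOf []) = true)

theorem sH_ne : sH ≠ 1 := by
  intro h
  have h1 : wordVal wS = wordVal [] := by rw [← sH, h]; simp [wordVal]
  exact absurd (Mult.key_of_eq words_spec.2.2.1 (by simp) h1)
    (fun e => by
      have : (keyOf wS == keyOf []) = false := by decide +kernel
      rw [e, beq_self_eq_true] at this
      exact Bool.noConfusion this)

theorem orderOf_sH : orderOf sH = 2 := by
  haveI : Fact (Nat.Prime 2) := ⟨Nat.prime_two⟩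
  exact orderOf_eq_prime (by rw [pow_two, sH_sq]) sH_ne

theorem nonempty_equiv (s : Matrix.SpecialLinearGroup (Fin 5) (ZMod 2))
    (hs : (s : Matrix (Fin 5) (Fin 5) (ZMod 2)) = Matrix.transvection 0 1 1) :
    Nonempty (Subgroup.centralizer ({sH} : Set ↥heGroup) ≃*
      Subgroup.centralizer ({s} : Set (Matrix.SpecialLinearGroup (Fin 5) (ZMod 2)))) := by
  have r1 : ((MonoidHom.fst ↥heGroup (Matrix.SpecialLinearGroup (Fin 5) (ZMod 2))).comp pairs.subtype).range =
      Subgroup.centralizer ({sH} : Set ↥heGroup) := by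
    rw [MonoidHom.range_comp, Subgroup.range_subtype, map_fst]
  have r2 : ((MonoidHom.snd ↥heGroup (Matrix.SpecialLinearGroup (Fin 5) (ZMod 2))).comp pairs.subtype).range =
      Subgroup.centralizer ({s} : Set (Matrix.SpecialLinearGroup (Fin 5) (ZMod 2))) := by
    rw [MonoidHom.range_comp, Subgroup.range_subtype, map_snd s hs]
  exact ⟨((MulEquiv.subgroupCongr r1).symm.trans (MonoidHom.ofInjective (fst_inj step_all mono_all)).symm).trans
    ((MonoidHom.ofInjective (snd_inj step_all mono_all)).trans (MulEquiv.subgroupCongr r2))⟩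

end Cfsg.Agent.RigidGraph.He.Invol
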