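import Cfsg.Agent.Lib.RigidGraph.He.Invol.Centraliser
import Cfsg.Agent.Lib.RigidGraph.He.Invol.OutData

/-! The anti-automorphism, the element of order 17 and its centraliser. -/

set_option autoImplicit false
set_option maxRecDepth 100000

namespace Cfsg.Agent.RigidGraph.He.Invol

open Cfsg.Agent.PermCert (allBelow allBelow_spec)
open Mult (base evW keyOf keyEq wordVal act_word eq_of_key wordVal_append)

attribute [local irreducible] nodes Mult.lets Mult.wordVal graph

/-- the images of the base of a permutation -/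
noncomputable def keyP (g : Equiv.Perm (Fin 2058)) : List ℕ :=
  base.map fun b => if hb : b < 2058 then ((g ⟨b, hb⟩ : ℕ)) else 0

theorem keyP_coe (h : ↥heGroup) : keyP (h : Equiv.Perm (Fin 2058)) = keyG h := rfl

theorem keyP_inj {g h : Equiv.Perm (Fin 2058)} (hg : g ∈ autG 2058 graph) (hh : h ∈ autG 2058 graph)
    (e : keyP g = keyP h) : g = h := by
  rw [← inv_mul_eq_one]
  have hbot : g⁻¹ * h ∈ autG 2058 graph ⊓ fixList 2058 [0, 37, 219, 44, 321, 221, 24] := by
    refine Subgroup.mem_inf.2 ⟨Subgroup.mul_mem _ (Subgroup.inv_mem _ hg) hh, mem_fixList.2 fun x hx => ?_⟩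
    rw [Equiv.Perm.mul_apply, Equiv.Perm.inv_eq_iff_eq]
    have := (List.map_inj_left.1 e) (x : ℕ) hx
    simp only [dif_pos x.2] at this
    exact (Fin.ext this).symm
  rw [aut_fix_bot, Subgroup.mem_bot] at hbot
  exact hbot

theorem word_aut (w : List ℕ) : ((wordVal w : ↥heGroup) : Equiv.Perm (Fin 2058)) ∈ autG 2058 graph :=
  grp_le_autG graph_ok slp_ok gens_aut (wordVal w).2

/-! ### The anti-automorphism -/

theorem sigma_ok : permOK 2058 sigma = true := by decide +kernel

/-- arcs go to reversed arcs -/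
noncomputable def antiOK : Bool :=
  allB (fun x => allB (fun j =>
    bit (graph.B.get (slot sigma.1 (slot (graph.N.get x) j))) (slot sigma.1 x)) graph.k) 2058

theorem anti_ok : antiOK = true := by decide +kernel

/-- the outer permutation -/
noncomputable def outerPerm : Equiv.Perm (Fin 2058) := permOf 2058 sigma

theorem outer_anti (x u : Fin 2058) : Adj graph (outerPerm u) (outerPerm x) ↔ Adj graph x u := by
  classical
  have fwd : ∀ x u : Fin 2058, Adj graph x u → Adj graph (outerPerm u) (outerPerm x) := by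
    intro x u h
    obtain ⟨j, hj, e⟩ := ((row_spec graph_ok x.2).1 u).1 h
    have := allB_spec (allB_spec anti_ok x.2) hj
    rw [e] at this
    rw [Adj, outerPerm, permOf_val sigma_ok, permOf_val sigma_ok]
    exact this
  refine ⟨fun h => ?_, fwd x u⟩
  let f : {p : Fin 2058 × Fin 2058 // Adj graph p.1 p.2} → {p : Fin 2058 × Fin 2058 // Adj graph p.1 p.2} :=
    fun p => ⟨(outerPerm p.1.2, outerPerm p.1.1), fwd _ _ p.2⟩
  have hinj : Function.Injective f := by
    rintro ⟨⟨a, b⟩, _⟩ ⟨⟨c, d⟩, _⟩ e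
    simp only [f, Subtype.mk.injEq, Prod.mk.injEq, EmbeddingLike.apply_eq_iff_eq] at e
    simp [e.1, e.2]
  obtain ⟨⟨⟨a, b⟩, hab⟩, e⟩ := (Finite.surjective_of_injective hinj) ⟨(outerPerm u, outerPerm x), h⟩
  simp only [f, Subtype.mk.injEq, Prod.mk.injEq, EmbeddingLike.apply_eq_iff_eq] at e
  rw [← e.1, ← e.2]
  exact hab

theorem outer_conj_aut {g : Equiv.Perm (Fin 2058)} (hg : g ∈ autG 2058 graph) :
    outerPerm * g * outerPerm⁻¹ ∈ autG 2058 graph := by
  intro x u
  simp only [Equiv.Perm.mul_apply]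
  rw [outer_anti, hg]
  conv_rhs => rw [show x = outerPerm (outerPerm⁻¹ x) by simp, show u = outerPerm (outerPerm⁻¹ u) by simp,
    outer_anti]

theorem outer_sq_aut : outerPerm * outerPerm ∈ autG 2058 graph := by
  intro x u
  rw [Equiv.Perm.mul_apply, Equiv.Perm.mul_apply, outer_anti, outer_anti]

/-- conjugates of words by the outer permutation -/
def conjKeyOK (w v : List ℕ) : Bool :=
  base.map (fun b => slot sigma.1 (evW w (slot sigma.2 b))) == keyOf v

theorem conj_word {w v : List ℕ} (hw : ∀ i ∈ w, i < 8) (hv : ∀ i ∈ v, i < 8) (h : conjKeyOK w v = true) :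
    outerPerm * ((wordVal w : ↥heGroup) : Equiv.Perm (Fin 2058)) * outerPerm⁻¹ =
      ((wordVal v : ↥heGroup) : Equiv.Perm (Fin 2058)) := by
  refine keyP_inj (outer_conj_aut (word_aut w)) (word_aut v) ?_
  rw [keyP_coe, keyG_word hv, ← beq_iff_eq.1 h]
  refine List.map_congr_left fun b hb => ?_
  have hs := (permOK_spec sigma_ok (base_lt hb)).2.1
  rw [dif_pos (base_lt hb), Equiv.Perm.mul_apply, Equiv.Perm.mul_apply, outerPerm, permOf_val sigma_ok,
    act_word w hw]
  congr 2

/-! ### Words -/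

/-- all words are words, and the relations among them -/
def outWordsOK : Bool :=
  wXs.all okWord && wSigma.all okWord && okWord wT &&
  conjKeyOK [0] (wSigma.getD 0 []) && conjKeyOK [1] (wSigma.getD 1 []) &&
  conjKeyOK (wXs.getD 1 []) (wXs.getD 3 []) &&
  base.map (fun b => slot sigma.1 (slot sigma.1 b)) == keyOf (wSigma.getD 2 []) &&
  keyOf (wXs.getD 0 []) == base &&
  allBelow (fun j => keyEq (wXs.getD 1 [] ++ wXs.getD j []) (wXs.getD ((j + 1) % 17) [])) 17 &&
  !(keyOf (wXs.getD 1 []) == base) &&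
  keyEq (wS ++ wXs.getD 1 []) (wXs.getD 16 [] ++ wS) && keyEq (wT ++ wS) (wS ++ wT) &&
  keyEq (wT ++ wT) [] && !(keyOf wT == base)

theorem outWords_ok : outWordsOK = true := by decide +kernel

theorem mem_okWord {W : List (List ℕ)} (h : W.all okWord = true) (q : ℕ) : ∀ i ∈ W.getD q [], i < 8 := by
  intro i hi
  rcases lt_or_ge q W.length with hq | hq
  · rw [List.getD_eq_getElem _ _ hq] at hi
    exact okWord_mem (List.all_eq_true.1 h _ (List.getElem_mem hq)) i hi
  · rw [List.getD_eq_default _ _ hq] at hi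
    simp at hi

theorem xs_lt (q : ℕ) : ∀ i ∈ wXs.getD q [], i < 8 := by
  have h := outWords_ok
  simp only [outWordsOK, Bool.and_eq_true] at h
  exact mem_okWord h.1.1.1.1.1.1.1.1.1.1.1.1.1 q

theorem sigma_lt (q : ℕ) : ∀ i ∈ wSigma.getD q [], i < 8 := by
  have h := outWords_ok
  simp only [outWordsOK, Bool.and_eq_true] at h
  exact mem_okWord h.1.1.1.1.1.1.1.1.1.1.1.1.2 q

theorem t_lt : ∀ i ∈ wT, i < 8 := by
  have h := outWords_ok
  simp only [outWordsOK, Bool.and_eq_true] at h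
  exact okWord_mem h.1.1.1.1.1.1.1.1.1.1.1.2

theorem append_lt {u v : List ℕ} (hu : ∀ i ∈ u, i < 8) (hv : ∀ i ∈ v, i < 8) : ∀ i ∈ u ++ v, i < 8 :=
  fun i hi => (List.mem_append.1 hi).elim (hu i) (hv i)

theorem val_nil : wordVal [] = 1 := by unfold Mult.wordVal; rfl

theorem eq_one_iff {w : List ℕ} (hw : ∀ i ∈ w, i < 8) : wordVal w = 1 ↔ keyOf w = base := by
  constructor
  · intro h
    rw [← keyG_word hw, h, keyG_one]
  · intro h
    exact keyG_inj (by rw [keyG_word hw, keyG_one, h])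

/-- the element of order 17 -/
noncomputable def xH : ↥heGroup := wordVal (wXs.getD 1 [])

/-- the second generator -/
noncomputable def tH : ↥heGroup := wordVal wT

theorem xs_pow : ∀ j, wordVal (wXs.getD (j % 17) []) = xH ^ j := by
  intro j
  have h := outWords_ok
  simp only [outWordsOK, Bool.and_eq_true, beq_iff_eq] at h
  induction j with
  | zero => rw [pow_zero, Nat.zero_mod, eq_one_iff (xs_lt 0), h.1.1.1.1.1.1.2]
  | succ j ih =>
    have h' := allBelow_spec _ _ h.1.1.1.1.1.2 (j % 17) (Nat.mod_lt _ (by norm_num))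
    rw [show (j % 17 + 1) % 17 = (j + 1) % 17 by omega] at h'
    rw [pow_succ', ← ih, xH, ← wordVal_append]
    exact (eq_of_key (append_lt (xs_lt _) (xs_lt _)) (xs_lt _) (beq_iff_eq.1 h')).symm

theorem orderOf_x : orderOf xH = 17 := by
  have : Fact (Nat.Prime 17) := ⟨by norm_num⟩
  refine orderOf_eq_prime ?_ ?_
  · rw [← xs_pow, Nat.mod_self, ← pow_zero xH, ← xs_pow]
  · have h := outWords_ok
    simp only [outWordsOK, Bool.and_eq_true, Bool.not_eq_true', beq_eq_false_iff_ne] at h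
    exact fun e => h.1.1.1.1.2 ((eq_one_iff (xs_lt 1)).1 e)

/-! ### Patterns -/

/-- a point of the listed orbits -/
def orbAt (k j : ℕ) : ℕ := (orbs.getD k []).getD j 0

/-- the count pattern -/
noncomputable def patAt (k j : ℕ) : ℕ := cnt graph (orbAt k j) (graph.B.get (orbAt k 0))

/-- only the first point is fixed by `x`, and the orbits cover its out-neighbours -/
noncomputable def orbOK : Bool :=
  allB (fun q => Nat.beq q 0 || !Nat.beq (evW (wXs.getD 1 []) q) q) 2058 &&
  Nat.beq (evW (wXs.getD 1 []) 0) 0 &&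
  allBelow (fun k => allBelow (fun j => Nat.blt (orbAt k j) 2058 &&
    Nat.beq (evW (wXs.getD j []) (orbAt k 0)) (orbAt k j)) 17) 8 &&
  allB (fun j => (List.range 8).any fun k => (List.range 17).any fun i =>
    Nat.beq (slot (graph.N.get 0) j) (orbAt k i)) graph.k &&
  bit (graph.B.get 0) (orbAt 0 0)

theorem orb_ok : orbOK = true := by decide +kernel

/-- the patterns differ -/
noncomputable def patOK : Bool :=
  allBelow (fun k => Nat.beq k 0 || !(List.range 17).all fun j => Nat.beq (patAt 0 j) (patAt k j)) 8 &&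
  allBelow (fun k => !(List.range 17).all fun j => Nat.beq (patAt 0 j) (patAt k (3 * j % 17))) 8

theorem pat_ok : patOK = true := by decide +kernel

theorem orbRounds_ok : roundsOK 2058 graph (0 :: orbs.getD 0 []) orbRounds = true := by decide +kernel

theorem orbRounds_cover :
    ((List.range 17).map (orbAt 0) == orbs.getD 0 [] &&
      base.all fun b => ((0 :: orbs.getD 0 []) ++ orbRounds.flatten).contains b) = true := by decide +kernel

theorem cnt_smul {c : Equiv.Perm (Fin 2058)} (hc : c ∈ autG 2058 graph) (y q : Fin 2058) :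
    cnt graph (c y) (graph.B.get (c q)) = cnt graph y (graph.B.get q) := by
  classical
  rw [cnt_eq graph_ok (c y).2, cnt_eq graph_ok y.2]
  refine (Finset.card_bij (fun u _ => c u) (fun u hu => ?_) (fun _ _ _ _ e => c.injective e) fun v hv => ?_).symm
  · rw [Finset.mem_filter] at hu ⊢
    exact ⟨Finset.mem_univ _, (hc y u).2 hu.2.1, (hc q u).2 hu.2.2⟩
  · refine ⟨c⁻¹ v, ?_, by simp⟩
    rw [Finset.mem_filter] at hv ⊢
    have h1 := hc y (c⁻¹ v)
    have h2 := hc q (c⁻¹ v)
    simp only [Equiv.Perm.inv_def, Equiv.apply_symm_apply] at h1 h2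
    exact ⟨Finset.mem_univ _, h1.1 hv.2.1, h2.1 hv.2.2⟩

theorem pow_orb {k j : ℕ} (hk : k < 8) (hj : j < 17) (h0 : orbAt k 0 < 2058) :
    (((xH ^ j : ↥heGroup) : Equiv.Perm (Fin 2058)) ⟨orbAt k 0, h0⟩ : ℕ) = orbAt k j := by
  have h := orb_ok
  simp only [orbOK, Bool.and_eq_true] at h
  have h' := allBelow_spec _ _ (allBelow_spec _ _ h.1.1.2 k hk) j hj
  simp only [Bool.and_eq_true, Nat.beq_eq] at h'
  rw [← xs_pow, Nat.mod_eq_of_lt hj, act_word _ (xs_lt j)]
  exact h'.2

/-- A permutation conjugating `x` to a power gives an equality of patterns. -/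
theorem pattern_of {c : ↥heGroup} {e : ℕ} (he : e % 17 ≠ 0) (hc : c * xH = xH ^ e * c) :
    ∃ k < 8, ∃ i : ℕ, (∀ j < 17, patAt 0 j = patAt k (e * j % 17)) ∧
      ((((xH ^ i)⁻¹ * c : ↥heGroup)) : Equiv.Perm (Fin 2058)) 0 = 0 ∧
      (((((xH ^ i)⁻¹ * c : ↥heGroup)) : Equiv.Perm (Fin 2058)) ⟨orbAt 0 0, by decide +kernel⟩ : ℕ) = orbAt k 0 := by
  have h := orb_ok
  simp only [orbOK, Bool.and_eq_true, Bool.or_eq_true, Bool.not_eq_true', Nat.beq_eq, List.any_eq_true,
    List.mem_range] at h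
  obtain ⟨⟨⟨⟨hfix, hx0⟩, horb⟩, hcov⟩, harc⟩ := h
  have hlt : ∀ k < 8, ∀ j < 17, orbAt k j < 2058 := fun k hk j hj => by
    have h' := allBelow_spec _ _ (allBelow_spec _ _ horb k hk) j hj
    simp only [Bool.and_eq_true, Nat.blt_eq] at h'
    exact h'.1
  have hx0' : (xH : Equiv.Perm (Fin 2058)) 0 = 0 :=
    Fin.ext ((act_word _ (xs_lt 1) 0).trans hx0)
  have hxp : ∀ i : ℕ, ((xH ^ i : ↥heGroup) : Equiv.Perm (Fin 2058)) 0 = 0 := by
    intro i
    induction i with
    | zero => simp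
    | succ i ih => rw [pow_succ, Subgroup.coe_mul, Equiv.Perm.mul_apply, hx0', ih]
  have hmul : ∀ (a b : ↥heGroup) (q : Fin 2058), ((a * b : ↥heGroup) : Equiv.Perm (Fin 2058)) q =
      (a : Equiv.Perm (Fin 2058)) ((b : Equiv.Perm (Fin 2058)) q) := fun _ _ _ => rfl
  have hc0 : (c : Equiv.Perm (Fin 2058)) 0 = 0 := by
    set q := (c : Equiv.Perm (Fin 2058)) 0 with hq
    have e1 : ((xH ^ e : ↥heGroup) : Equiv.Perm (Fin 2058)) q = q := by
      rw [hq, ← hmul, ← hc, hmul, hx0']
    obtain ⟨f, hf⟩ : ∃ f : ℕ, (xH ^ e) ^ f = xH := by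
      obtain ⟨f, -, hf⟩ := Nat.exists_mul_mod_eq_one_of_coprime
        (Nat.Coprime.symm ((Nat.Prime.coprime_iff_not_dvd (p := 17) (by norm_num)).2
          (fun hd => he (Nat.eq_zero_of_dvd_of_lt hd (Nat.mod_lt _ (by norm_num)) ▸ rfl)))) (by norm_num)
      refine ⟨f, ?_⟩
      rw [← pow_mul, ← pow_mod_orderOf, orderOf_x]
      conv_rhs => rw [← pow_one xH]
      refine congrArg (fun m : ℕ => xH ^ m) ?_
      rw [Nat.mul_mod, ← hf, Nat.mul_mod (e % 17) f 17, Nat.mod_mod]
    have e2 : (xH : Equiv.Perm (Fin 2058)) q = q := by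
      conv_lhs => rw [← hf]
      clear hf
      induction f with
      | zero => simp
      | succ f ih => rw [pow_succ, hmul, e1, ih]
    by_contra hne
    have h'' := allB_spec hfix q.2
    simp only [Bool.or_eq_true, Bool.not_eq_true', Nat.beq_eq] at h''
    rcases h'' with h' | h'
    · exact hne (Fin.ext h')
    · have e4 : Nat.beq (evW (wXs.getD 1 []) q) q = true :=
        Nat.beq_eq.mpr ((act_word _ (xs_lt 1) q).symm.trans (congrArg Fin.val e2))
      rw [e4] at h'
      exact Bool.noConfusion h'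
  set q0 : Fin 2058 := ⟨orbAt 0 0, hlt 0 (by norm_num) 0 (by norm_num)⟩ with hq0
  have hadj : Adj graph (0 : Fin 2058) ((c : Equiv.Perm (Fin 2058)) q0) := by
    have := (grp_le_autG graph_ok slp_ok gens_aut c.2) 0 q0
    rw [hc0] at this
    exact this.2 harc
  obtain ⟨jj, hjj, ejj⟩ := ((row_spec graph_ok (by norm_num)).1 _).1 hadj
  simp only [Fin.val_zero] at ejj
  have hcv := allB_spec hcov hjj
  simp only [List.any_eq_true, List.mem_range, Nat.beq_eq] at hcv
  obtain ⟨k, hk, i, hi, eki⟩ := hcv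
  refine ⟨k, hk, i, fun j hj => ?_, ?_, ?_⟩
  rotate_left
  · rw [hmul, hc0, Subgroup.coe_inv, Equiv.Perm.inv_eq_iff_eq, hxp]
  · have e3 : ((xH ^ i : ↥heGroup) : Equiv.Perm (Fin 2058)) ⟨orbAt k 0, hlt k hk 0 (by norm_num)⟩ =
        (c : Equiv.Perm (Fin 2058)) q0 := Fin.ext (by
      rw [pow_orb hk hi, ← eki, ejj])
    rw [hmul, Subgroup.coe_inv]
    show (((((xH ^ i : ↥heGroup) : Equiv.Perm (Fin 2058)))⁻¹ ((c : Equiv.Perm (Fin 2058)) q0)) : ℕ) = _
    rw [← e3, Equiv.Perm.inv_def, Equiv.symm_apply_apply]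
  · set c' : ↥heGroup := (xH ^ i)⁻¹ * c with hc'
    have e3 : ((xH ^ i : ↥heGroup) : Equiv.Perm (Fin 2058)) ⟨orbAt k 0, hlt k hk 0 (by norm_num)⟩ =
        (c : Equiv.Perm (Fin 2058)) q0 := Fin.ext (by
      rw [pow_orb hk hi, ← eki, ejj])
    have ec : (c' : Equiv.Perm (Fin 2058)) q0 = ⟨orbAt k 0, hlt k hk 0 (by norm_num)⟩ := by
      rw [hc', hmul, ← e3, Subgroup.coe_inv, Equiv.Perm.inv_def, Equiv.symm_apply_apply]
    have hcj : ∀ j : ℕ, c' * xH ^ j = xH ^ (e * j) * c' := by
      intro j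
      have hc'' : c' * xH = xH ^ e * c' := by
        rw [hc', mul_assoc, hc, ← mul_assoc, ← mul_assoc,
          ((Commute.refl xH).pow_pow i e).inv_left.eq]
      induction j with
      | zero => simp
      | succ j ih => rw [pow_succ, ← mul_assoc, ih, mul_assoc, hc'', ← mul_assoc, ← pow_add, Nat.mul_succ]
    have ej := congrArg (fun g : ↥heGroup => (g : Equiv.Perm (Fin 2058)) q0) (hcj j)
    rw [← pow_mod_orderOf xH (e * j), orderOf_x] at ej
    simp only [hmul] at ej
    rw [ec] at ej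
    have h4 := cnt_smul (grp_le_autG graph_ok slp_ok gens_aut c'.2)
      (((xH ^ j : ↥heGroup) : Equiv.Perm (Fin 2058)) q0) q0
    rw [ej, ec, pow_orb hk (Nat.mod_lt _ (by norm_num)), hq0, pow_orb (by norm_num) hj] at h4
    exact h4.symm

theorem centralizer_x {c : ↥heGroup} (hc : c * xH = xH * c) : ∃ i : ℕ, c = xH ^ i := by
  obtain ⟨k, hk, i, hp, h0, hq⟩ := pattern_of (c := c) (e := 1) (by norm_num) (by rw [pow_one, hc])
  have h := pat_ok
  simp only [patOK, Bool.and_eq_true] at h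
  have h1 := allBelow_spec _ _ h.1 k hk
  simp only [Bool.or_eq_true, Nat.beq_eq, Bool.not_eq_true', List.all_eq_false, List.mem_range] at h1
  rcases h1 with rfl | ⟨j, hj, hne⟩
  swap
  · have := hp j hj
    rw [one_mul, Nat.mod_eq_of_lt hj] at this
    exact absurd this hne
  refine ⟨i, ?_⟩
  rw [eq_comm, ← inv_mul_eq_one]
  set c' : ↥heGroup := (xH ^ i)⁻¹ * c
  have hcc : ∀ j : ℕ, c' * xH ^ j = xH ^ j * c' := fun j =>
    ((((Commute.refl xH).pow_left i).inv_left.mul_left hc).pow_right j).eq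
  have hcov := orbRounds_cover
  simp only [Bool.and_eq_true, beq_iff_eq, List.all_eq_true, List.contains_iff_mem] at hcov
  have hlt : ∀ b ∈ (0 :: orbs.getD 0 []), b < 2058 := by
    have : (0 :: orbs.getD 0 []).all (fun b => Nat.blt b 2058) = true := by decide +kernel
    exact fun b hb => Nat.blt_eq ▸ List.all_eq_true.1 this b hb
  have hfix : (c' : Equiv.Perm (Fin 2058)) ∈ autG 2058 graph ⊓ fixList 2058 (0 :: orbs.getD 0 []) := by
    refine ⟨grp_le_autG graph_ok slp_ok gens_aut c'.2, mem_fixList.2 fun q hqm => ?_⟩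
    rcases List.mem_cons.1 hqm with h' | h'
    · rw [show q = 0 from Fin.ext h']
      exact h0
    · rw [← hcov.1, List.mem_map] at h'
      obtain ⟨j, hj, ej⟩ := h'
      rw [List.mem_range] at hj
      have hq0 : orbAt 0 0 < 2058 := by decide +kernel
      have e1 : ((xH ^ j : ↥heGroup) : Equiv.Perm (Fin 2058)) ⟨orbAt 0 0, hq0⟩ = q :=
        Fin.ext ((pow_orb (by norm_num) hj hq0).trans ej)
      rw [← e1]
      have := congrArg (fun g : ↥heGroup => (g : Equiv.Perm (Fin 2058)) ⟨orbAt 0 0, hq0⟩) (hcc j)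
      simp only [Subgroup.coe_mul, Equiv.Perm.mul_apply] at this
      rw [this]
      congr 1
      exact Fin.ext hq
  obtain ⟨-, hle⟩ := rounds_fix graph_ok orbRounds (0 :: orbs.getD 0 []) orbRounds_ok hlt
  refine keyG_inj ?_
  rw [keyG_one]
  conv_rhs => rw [← List.map_id base]
  refine List.map_congr_left fun b hb => ?_
  rw [dif_pos (base_lt hb), id]
  exact congrArg Fin.val (hle hfix ⟨b, base_lt hb⟩ (hcov.2 b hb))

theorem not_conj_cube (c : ↥heGroup) : c * xH ≠ xH ^ 3 * c := by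
  intro hc
  obtain ⟨k, hk, i, hp, -, -⟩ := pattern_of (c := c) (e := 3) (by norm_num) hc
  have h := pat_ok
  simp only [patOK, Bool.and_eq_true] at h
  have h1 := allBelow_spec _ _ h.2 k hk
  simp only [Bool.not_eq_true', List.all_eq_false, List.mem_range, Nat.beq_eq] at h1
  obtain ⟨j, hj, hne⟩ := h1
  exact hne (hp j hj)

end Cfsg.Agent.RigidGraph.He.Invol
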