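import Cfsg.Agent.Lib.RigidGraph.He.Invol.Iso
import Cfsg.Agent.Lib.RigidGraph.He.Invol.Outer
import Cfsg.Prelude.Def_KGroupFacts
import Mathlib.GroupTheory.Sylow

/-! The outer automorphism group of the group on 2058 points has order 2. -/

set_option autoImplicit false
set_option maxRecDepth 100000

namespace Cfsg.Agent.RigidGraph.He.Invol

open Cfsg
open Cfsg.Agent.PermAut (getTbl)
open Cfsg.Agent.PermCert (allBelow allBelow_spec)
open Mult (base evW keyOf keyEq wordVal act_word eq_of_key wordVal_append gen)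

attribute [local irreducible] nodes Mult.lets Mult.wordVal graph entries ordK ordM outerPerm permOf sigma

theorem mulB_complete {C A B : ℕ} (h : matOf C = matOf A * matOf B) : mulB C A B = true := by
  have h5 : ∀ i : ℕ, i < 5 → rowB C i = rowMul (rowB A i) B := by
    intro i hi
    refine Nat.eq_of_testBit_eq fun j => ?_
    by_cases hj : j < 5
    · refine ofBool_inj ?_
      have e := congrFun (congrFun h ⟨i, hi⟩) ⟨j, hj⟩
      rw [testBit_rowB _ _ _ hj]
      simp only [rowMul, Nat.testBit_xor, ofBool_xor, ofBool_sel _ _ _ _ hj,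
        testBit_rowB _ _ _ (show 0 < 5 by norm_num), testBit_rowB _ _ _ (show 1 < 5 by norm_num),
        testBit_rowB _ _ _ (show 2 < 5 by norm_num), testBit_rowB _ _ _ (show 3 < 5 by norm_num),
        testBit_rowB _ _ _ (show 4 < 5 by norm_num)]
      simp only [matOf, Matrix.mul_apply, Fin.sum_univ_five] at e
      exact e
    · have h32 : ∀ c k, rowB c k < 2 ^ 5 := fun c k => Nat.mod_lt _ (by norm_num)
      have hsel : ∀ a k, selRow a B k < 2 ^ 5 := fun a k => by
        unfold selRow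
        cases a.testBit k
        · exact Nat.two_pow_pos 5
        · exact h32 _ _
      have hrow : rowMul (rowB A i) B < 2 ^ 5 :=
        Nat.xor_lt_two_pow (Nat.xor_lt_two_pow (Nat.xor_lt_two_pow (Nat.xor_lt_two_pow (hsel _ _) (hsel _ _))
          (hsel _ _)) (hsel _ _)) (hsel _ _)
      rw [Nat.testBit_lt_two_pow ((h32 C i).trans_le (Nat.pow_le_pow_right (by norm_num) (by omega))),
        Nat.testBit_lt_two_pow (hrow.trans_le (Nat.pow_le_pow_right (by norm_num) (by omega)))]
  simp only [mulB, Bool.and_eq_true, Nat.beq_eq]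
  exact ⟨⟨⟨⟨h5 0 (by norm_num), h5 1 (by norm_num)⟩, h5 2 (by norm_num)⟩, h5 3 (by norm_num)⟩, h5 4 (by norm_num)⟩

/-- a word in `x ^ j * r` -/
def tWord (r : List ℕ) (l : List ℕ) : List ℕ := l.flatMap fun j => wXs.getD j [] ++ r

/-- the distinguishing word -/
def testWord (r : List ℕ) (l : List ℕ) (m : ℕ) : List ℕ := (List.replicate m (tWord r l)).flatten

/-- an entry is not an involution, or is listed -/
noncomputable def invOK (i : ℕ) : Bool :=
  Nat.beq i 0 ||
    (bif Nat.beq (field (entry i) 208) 0 then !mulB 17043521 (eMat i) (eMat i)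
    else Nat.blt (field (entry i) 208 - 1) 575 &&
      eKey i == keyOf (getTbl invols (field (entry i) 208 - 1) ([], [], 0)).1)

/-- a listed involution is `t` or is distinguished from it -/
def distOK (k : ℕ) : Bool :=
  let c := getTbl invols k ([], [], 0)
  okWord c.1 &&
    bif c.2.1 == [] then keyOf c.1 == keyOf wT
    else (keyOf (testWord wT c.2.1 c.2.2) == base) != (keyOf (testWord c.1 c.2.1 c.2.2) == base)

theorem inv_all0 : allBelow (fun i => invOK i) 10752 = true := by decide +kernel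
theorem inv_all1 : allBelow (fun i => invOK (10752 + i)) 10752 = true := by decide +kernel
theorem dist_all : allBelow distOK 575 = true := by decide +kernel

theorem inv_all : ∀ i < 21504, invOK i = true := by
  intro i hi
  by_cases h : i < 10752
  · exact allBelow_spec _ _ inv_all0 i h
  · exact chunk inv_all1 i (by omega) (by omega)

/-- the generators as words -/
noncomputable def nodesOK : Bool :=
  keyEq [0] (tWord wT (wNodes.getD 0 [])) && keyEq [1] (tWord wT (wNodes.getD 1 []))

theorem nodes_ok : nodesOK = true := by decide +kernel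

theorem tWord_lt {r : List ℕ} (hr : ∀ i ∈ r, i < 8) (l : List ℕ) : ∀ i ∈ tWord r l, i < 8 := by
  intro i hi
  obtain ⟨j, -, hj⟩ := List.mem_flatMap.1 hi
  exact append_lt (xs_lt j) hr i hj

theorem testWord_lt {r : List ℕ} (hr : ∀ i ∈ r, i < 8) (l : List ℕ) (m : ℕ) : ∀ i ∈ testWord r l m, i < 8 := by
  intro i hi
  obtain ⟨w, hw, hiw⟩ := List.mem_flatten.1 hi
  rw [List.eq_of_mem_replicate hw] at hiw
  exact tWord_lt hr l i hiw

theorem map_tWord (φ : MulAut ↥heGroup) (hx : φ xH = xH) {r r' : List ℕ} (hr : φ (wordVal r) = wordVal r') :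
    ∀ l : List ℕ, φ (wordVal (tWord r l)) = wordVal (tWord r' l) := by
  have hxs : ∀ j, φ (wordVal (wXs.getD j [])) = wordVal (wXs.getD j []) := by
    intro j
    rcases lt_or_ge j 17 with hj | hj
    · rw [← Nat.mod_eq_of_lt hj, xs_pow, map_pow, hx]
    · rw [List.getD_eq_default _ _ (show wXs.length ≤ j from hj), val_nil, map_one]
  intro l
  induction l with
  | nil => simp [tWord, val_nil]
  | cons j l ih =>
    simp only [tWord, List.flatMap_cons] at ih ⊢
    rw [wordVal_append, wordVal_append, wordVal_append, wordVal_append, map_mul, map_mul, ih, hxs, hr]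

theorem map_testWord (φ : MulAut ↥heGroup) (hx : φ xH = xH) {r r' : List ℕ} (hr : φ (wordVal r) = wordVal r')
    (l : List ℕ) : ∀ m : ℕ, φ (wordVal (testWord r l m)) = wordVal (testWord r' l m) := by
  intro m
  induction m with
  | zero => simp [testWord, val_nil]
  | succ m ih =>
    simp only [testWord, List.replicate_succ, List.flatten_cons] at ih ⊢
    rw [wordVal_append, wordVal_append, map_mul, ih, map_tWord φ hx hr]

theorem sH_x : sH * xH * sH⁻¹ = xH⁻¹ := by
  have h := outWords_ok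
  simp only [outWordsOK, Bool.and_eq_true] at h
  have e : sH * xH = xH ^ 16 * sH := by
    rw [sH, xH, ← wordVal_append, ← xH, ← xs_pow 16, ← wordVal_append]
    exact eq_of_key (append_lt words_spec.2.2.1 (xs_lt 1)) (append_lt (xs_lt _) words_spec.2.2.1)
      (beq_iff_eq.1 h.1.1.1.2)
  rw [e, mul_inv_cancel_right]
  refine eq_inv_of_mul_eq_one_left ?_
  rw [← pow_succ]
  conv_rhs => rw [← pow_orderOf_eq_one xH, orderOf_x]

theorem sH_inv : sH⁻¹ = sH := inv_eq_of_mul_eq_one_right sH_sq

/-- An automorphism fixing `x` and `s` is trivial. -/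
theorem eq_one_of_fix (φ : MulAut ↥heGroup) (hx : φ xH = xH) (hs : φ sH = sH) : φ = 1 := by
  have h := outWords_ok
  simp only [outWordsOK, Bool.and_eq_true, Bool.not_eq_true', beq_eq_false_iff_ne] at h
  have ht1 : tH ≠ 1 := fun e => h.2 ((eq_one_iff t_lt).1 e)
  have htt : tH * tH = 1 := by
    rw [tH, ← wordVal_append, eq_one_iff (append_lt t_lt t_lt)]
    exact (beq_iff_eq.1 h.1.2).trans (by rw [← keyG_word (w := []) (by simp), val_nil, keyG_one])
  have hts : tH * sH = sH * tH := by
    rw [tH, sH, ← wordVal_append, ← wordVal_append]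
    exact eq_of_key (append_lt t_lt words_spec.2.2.1) (append_lt words_spec.2.2.1 t_lt)
      (beq_iff_eq.1 h.1.1.2)
  set u := φ tH with hu
  have hucent : u ∈ Subgroup.centralizer ({sH} : Set ↥heGroup) := by
    rw [Subgroup.mem_centralizer_singleton_iff]
    conv_rhs => rw [← hs]
    conv_lhs => rw [← hs]
    rw [hu, ← map_mul, ← map_mul, hts]
  have huu : u * u = 1 := by rw [hu, ← map_mul, htt, map_one]
  have hu1 : u ≠ 1 := fun e => ht1 (φ.injective (by rw [← hu, e, map_one]))
  rw [← map_fst] at hucent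
  obtain ⟨d, hd, hdu⟩ := Subgroup.mem_map.1 hucent
  obtain ⟨i, hi, hk, hm⟩ := exists_matches step_all hd
  rw [MonoidHom.coe_fst] at hdu
  rw [hdu] at hk
  have hdd : d * d = 1 := by
    have := @fst_inj step_all mono_all ⟨d * d, mul_mem hd hd⟩ 1 (by simpa [hdu] using huu)
    exact congrArg Subtype.val this
  have hio := inv_all i hi
  simp only [invOK, Bool.or_eq_true, Nat.beq_eq] at hio
  rcases hio with rfl | hio
  · exact absurd (keyG_inj (hk.trans (words_spec.2.2.2.2.2.1.trans keyG_one.symm))) hu1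
  cases hb : Nat.beq (field (entry i) 208) 0
  swap
  · rw [hb, cond_true, Bool.not_eq_true'] at hio
    have : mulB 17043521 (eMat i) (eMat i) = true := by
      refine mulB_complete ?_
      rw [matOf_one, ← hm, ← Matrix.SpecialLinearGroup.coe_mul, ← Prod.snd_mul, hdd, Prod.snd_one,
        Matrix.SpecialLinearGroup.coe_one]
    rw [this] at hio
    exact Bool.noConfusion hio
  rw [hb, cond_false, Bool.and_eq_true, Nat.blt_eq, beq_iff_eq] at hio
  obtain ⟨hk', hkey⟩ := hio
  set c := getTbl invols (field (entry i) 208 - 1) ([], [], 0) with hc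
  have hd' := allBelow_spec _ _ dist_all _ hk'
  simp only [distOK, ← hc, Bool.and_eq_true] at hd'
  obtain ⟨hcw, hd'⟩ := hd'
  have hcw' := okWord_mem hcw
  have huc : φ tH = wordVal c.1 := by
    rw [← hu]
    exact keyG_inj (hk.trans (hkey.trans (keyG_word hcw').symm))
  by_cases hl : c.2.1 = []
  swap
  · rw [show (c.2.1 == []) = false from beq_eq_false_iff_ne.2 hl, cond_false] at hd'
    have e := map_testWord φ hx (r := wT) huc c.2.1 c.2.2
    have hiff : (keyOf (testWord wT c.2.1 c.2.2) == base) = (keyOf (testWord c.1 c.2.1 c.2.2) == base) := by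
      rw [Bool.eq_iff_iff, beq_iff_eq, beq_iff_eq, ← eq_one_iff (testWord_lt t_lt _ _),
        ← eq_one_iff (testWord_lt hcw' _ _), ← e]
      exact ⟨fun h0 => by rw [h0, map_one], fun h0 => φ.injective (by rw [h0, map_one])⟩
    rw [hiff] at hd'
    simp at hd'
  rw [show (c.2.1 == []) = true from beq_iff_eq.2 hl, cond_true, beq_iff_eq] at hd'
  have hφt : φ tH = tH := huc.trans (eq_of_key hcw' t_lt hd')
  have hn := nodes_ok
  simp only [nodesOK, Bool.and_eq_true] at hn
  have h8 : ∀ a : ℕ, a < 8 → ∀ i ∈ [a], i < 8 := fun a ha i hi => (List.mem_singleton.1 hi) ▸ ha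
  have hgen : ∀ a, (a = 0 ∨ a = 1) → φ (wordVal [a]) = wordVal [a] := by
    intro a ha
    rcases ha with rfl | rfl
    · rw [eq_of_key (h8 0 (by norm_num)) (tWord_lt t_lt _) (beq_iff_eq.1 hn.1)]
      exact map_tWord φ hx hφt _
    · rw [eq_of_key (h8 1 (by norm_num)) (tWord_lt t_lt _) (beq_iff_eq.1 hn.2)]
      exact map_tWord φ hx hφt _
  refine MulEquiv.ext fun g => ?_
  rw [MulAut.one_apply]
  obtain ⟨g, hg⟩ := g
  induction hg using Subgroup.closure_induction with
  | mem y hy =>
    rcases hy with rfl | hy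
    · have := hgen 0 (Or.inl rfl)
      simp only [Mult.wordVal, List.map_cons, List.map_nil, List.prod_cons, List.prod_nil, mul_one] at this
      exact this
    · rw [Set.mem_singleton_iff] at hy
      subst hy
      have := hgen 1 (Or.inr rfl)
      simp only [Mult.wordVal, List.map_cons, List.map_nil, List.prod_cons, List.prod_nil, mul_one] at this
      exact this
  | one => exact map_one φ
  | mul a b ha hb iha ihb =>
    exact (map_mul φ ⟨a, ha⟩ ⟨b, hb⟩).trans (congrArg₂ (· * ·) iha ihb)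
  | inv a ha iha => exact (map_inv φ ⟨a, ha⟩).trans (congrArg (·⁻¹) iha)

theorem wordVal_single (a : ℕ) : wordVal [a] = gen a := by simp [Mult.wordVal]

theorem gen_conj : outerPerm * permOf 2058 (nodes.getD 0 (0, 0)) * outerPerm⁻¹ ∈ heGroup ∧
    outerPerm * permOf 2058 (nodes.getD 1 (0, 0)) * outerPerm⁻¹ ∈ heGroup := by
  have h := outWords_ok
  simp only [outWordsOK, Bool.and_eq_true] at h
  have h8 : ∀ a : ℕ, a < 8 → ∀ i ∈ [a], i < 8 := fun a ha i hi => (List.mem_singleton.1 hi) ▸ ha
  have e0 := conj_word (h8 0 (by norm_num)) (sigma_lt 0) h.1.1.1.1.1.1.1.1.1.1.2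
  have e1 := conj_word (h8 1 (by norm_num)) (sigma_lt 1) h.1.1.1.1.1.1.1.1.1.2
  rw [wordVal_single] at e0 e1
  exact ⟨e0.symm ▸ (wordVal _).2, e1.symm ▸ (wordVal _).2⟩

theorem conj_mem {g : Equiv.Perm (Fin 2058)} (hg : g ∈ heGroup) : outerPerm * g * outerPerm⁻¹ ∈ heGroup := by
  induction hg using Subgroup.closure_induction with
  | mem y hy =>
    rcases hy with rfl | hy
    · exact gen_conj.1
    · rw [Set.mem_singleton_iff] at hy
      subst hy
      exact gen_conj.2
  | one => simp
  | mul a b _ _ iha ihb =>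
    rw [show outerPerm * (a * b) * outerPerm⁻¹ = outerPerm * a * outerPerm⁻¹ * (outerPerm * b * outerPerm⁻¹) by group]
    exact mul_mem iha ihb
  | inv a _ iha =>
    rw [show outerPerm * a⁻¹ * outerPerm⁻¹ = (outerPerm * a * outerPerm⁻¹)⁻¹ by group]
    exact inv_mem iha

/-- conjugation by the outer permutation, as a homomorphism -/
noncomputable def outerHom : ↥heGroup →* ↥heGroup where
  toFun g := ⟨outerPerm * g * outerPerm⁻¹, conj_mem g.2⟩
  map_one' := Subtype.ext (by simp)
  map_mul' a b := Subtype.ext (by simp [mul_assoc])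

/-- conjugation by the outer permutation -/
noncomputable def outerAut : MulAut ↥heGroup :=
  MulEquiv.ofBijective outerHom (Finite.injective_iff_bijective.1 fun a b e => by
    have := congrArg (fun g : ↥heGroup => (g : Equiv.Perm (Fin 2058))) e
    simpa [outerHom] using this)

theorem outerAut_apply (g : ↥heGroup) : ((outerAut g : ↥heGroup) : Equiv.Perm (Fin 2058)) =
    outerPerm * g * outerPerm⁻¹ := rfl

theorem outerAut_x : outerAut xH = xH ^ 3 := by
  have h := outWords_ok
  simp only [outWordsOK, Bool.and_eq_true] at h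
  refine Subtype.ext ?_
  rw [outerAut_apply, ← xs_pow 3]
  exact conj_word (xs_lt 1) (xs_lt 3) h.1.1.1.1.1.1.1.1.2

theorem outerAut_pow_x : ∀ i : ℕ, (outerAut ^ i) xH = xH ^ 3 ^ i := by
  intro i
  induction i with
  | zero => simp
  | succ i ih => rw [pow_succ, MulAut.mul_apply, outerAut_x, map_pow, ih, ← pow_mul, ← pow_succ]

theorem outerAut_sq : outerAut * outerAut = MulAut.conj (wordVal (wSigma.getD 2 [])) := by
  have h := outWords_ok
  simp only [outWordsOK, Bool.and_eq_true] at h
  have e : outerPerm * outerPerm = ((wordVal (wSigma.getD 2 []) : ↥heGroup) : Equiv.Perm (Fin 2058)) := by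
    refine keyP_inj outer_sq_aut (word_aut _) ?_
    rw [keyP_coe, keyG_word (sigma_lt 2), ← beq_iff_eq.1 h.1.1.1.1.1.1.1.2]
    refine List.map_congr_left fun b hb => ?_
    rw [dif_pos (base_lt hb), Equiv.Perm.mul_apply, outerPerm, permOf_val sigma_ok, permOf_val sigma_ok]
  refine MulEquiv.ext fun g => Subtype.ext ?_
  rw [MulAut.mul_apply, outerAut_apply, outerAut_apply, MulAut.conj_apply, Subgroup.coe_mul, Subgroup.coe_mul,
    Subgroup.coe_inv, ← e]
  group

theorem outerAut_not_inner : outerAut ∉ Inn ↥heGroup := by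
  rintro ⟨c, hc⟩
  have e : c * xH * c⁻¹ = xH ^ 3 := by rw [← MulAut.conj_apply, hc, outerAut_x]
  exact not_conj_cube c (eq_mul_of_mul_inv_eq e)

theorem sylow_conj (φ : MulAut ↥heGroup) : ∃ g : ↥heGroup, ∃ j : ℕ, j % 17 ≠ 0 ∧ φ xH = g * xH ^ j * g⁻¹ := by
  have : Fact (Nat.Prime 17) := ⟨by norm_num⟩
  have hf : (Nat.card ↥heGroup).factorization 17 = 1 := by
    rw [card_heGroup]
    refine le_antisymm ?_ ((Nat.Prime.dvd_iff_one_le_factorization (by norm_num) (by norm_num)).1 (by norm_num))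
    by_contra hlt
    have : 17 ^ 2 ∣ (4030387200 : ℕ) :=
      (Nat.Prime.pow_dvd_iff_le_factorization (by norm_num) (by norm_num)).2 (by omega)
    norm_num at this
  have hP : ∀ z : ↥heGroup, orderOf z = 17 → Nat.card (Subgroup.zpowers z) = 17 ^ (Nat.card ↥heGroup).factorization 17 :=
    fun z hz => by rw [Nat.card_zpowers, hz, hf, pow_one]
  have hz : orderOf (φ xH) = 17 := by rw [← orderOf_x]; exact MulEquiv.orderOf_eq φ xH
  obtain ⟨g, hg⟩ := MulAction.exists_smul_eq ↥heGroup (Sylow.ofCard _ (hP _ orderOf_x)) (Sylow.ofCard _ (hP _ hz))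
  have hmem : φ xH ∈ (Subgroup.zpowers xH).map (MulAut.conj g).toMonoidHom := by
    have h2 : (((g • Sylow.ofCard _ (hP _ orderOf_x) : Sylow 17 ↥heGroup)) : Subgroup ↥heGroup) =
        Subgroup.zpowers (φ xH) := by rw [hg]; rfl
    have h3 : (((g • Sylow.ofCard _ (hP _ orderOf_x) : Sylow 17 ↥heGroup)) : Subgroup ↥heGroup) =
        (Subgroup.zpowers xH).map (MulAut.conj g).toMonoidHom := rfl
    rw [← h3, h2]
    exact Subgroup.mem_zpowers _
  obtain ⟨y, hy, e⟩ := Subgroup.mem_map.1 hmem
  obtain ⟨j, rfl⟩ := (Submonoid.mem_powers_iff _ _).1 ((mem_powers_iff_mem_zpowers).2 hy)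
  refine ⟨g, j, fun h0 => ?_, e.symm.trans (MulAut.conj_apply g _)⟩
  have h1 : φ xH = 1 := by
    rw [← e, ← pow_mod_orderOf, orderOf_x, h0, pow_zero, map_one]
  rw [h1, orderOf_one] at hz
  norm_num at hz

theorem exists_three_pow : ∀ j < 17, j ≠ 0 → ∃ i < 16, 3 ^ i % 17 = j := by decide

theorem pow_half (k : ℕ) : (xH ^ (8 * k)) * sH * (xH ^ (8 * k))⁻¹ = sH * xH ^ k := by
  have h1 : ∀ m : ℕ, xH ^ m * sH = sH * (xH ^ m)⁻¹ := fun m => by
    have e : sH * xH ^ m * sH⁻¹ = (xH ^ m)⁻¹ := by
      have := congrArg (fun a => a ^ m) sH_x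
      simpa [conj_pow, inv_pow] using this
    rw [← e, sH_inv, ← mul_assoc, ← mul_assoc, sH_sq, one_mul]
  rw [h1, mul_assoc, ← mul_inv_rev, ← pow_add]
  congr 1
  refine inv_eq_of_mul_eq_one_right ?_
  rw [← pow_add, show 8 * k + 8 * k + k = 17 * k by omega, pow_mul, ← orderOf_x, pow_orderOf_eq_one, one_pow]

theorem aut_mem (φ : MulAut ↥heGroup) :
    ∃ (i : ℕ) (c c' : ↥heGroup), φ = MulAut.conj c * outerAut ^ i * MulAut.conj c' := by
  obtain ⟨g, j, hj, e⟩ := sylow_conj φ
  obtain ⟨i, -, hi⟩ := exists_three_pow (j % 17) (Nat.mod_lt _ (by norm_num)) hj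
  set ψ := (MulAut.conj g * outerAut ^ i)⁻¹ * φ with hψ
  have hψx : ψ xH = xH := by
    rw [hψ, MulAut.mul_apply]
    refine (MulAut.conj g * outerAut ^ i).injective ?_
    rw [MulAut.apply_inv_self, MulAut.mul_apply, outerAut_pow_x, e, MulAut.conj_apply, ← pow_mod_orderOf,
      ← pow_mod_orderOf xH (3 ^ i), orderOf_x, hi]
  set v := sH⁻¹ * ψ sH with hv
  have hvx : v * xH = xH * v := by
    have e1 : ψ sH * xH * (ψ sH)⁻¹ = xH⁻¹ := by
      conv_lhs => rw [← hψx]
      rw [← map_inv, ← map_mul, ← map_mul, sH_x, map_inv, hψx]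
    have e2 : ψ sH * xH = xH⁻¹ * ψ sH := mul_inv_eq_iff_eq_mul.1 e1
    have e3 : sH⁻¹ * xH⁻¹ = xH * sH⁻¹ := by
      rw [← sH_x]; group
    rw [hv, mul_assoc, e2, ← mul_assoc, e3, mul_assoc]
  obtain ⟨k, hk⟩ := centralizer_x hvx
  refine ⟨i, g, xH ^ (8 * k), ?_⟩
  have h3 : (MulAut.conj (xH ^ (8 * k)))⁻¹ * ψ = 1 := by
    refine eq_one_of_fix _ ?_ ?_
    · rw [MulAut.mul_apply, hψx]
      refine (MulAut.conj (xH ^ (8 * k))).injective ?_
      rw [MulAut.apply_inv_self, MulAut.conj_apply, ← pow_succ, pow_succ', mul_inv_cancel_right]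
    · rw [MulAut.mul_apply]
      refine (MulAut.conj (xH ^ (8 * k))).injective ?_
      rw [MulAut.apply_inv_self, MulAut.conj_apply, pow_half, ← hk, hv, mul_inv_cancel_left]
  rw [inv_mul_eq_one] at h3
  rw [h3, hψ, mul_inv_cancel_left]

theorem card_out : Nat.card (Out ↥heGroup) = 2 := by
  have hinn : ∀ c : ↥heGroup, ((MulAut.conj c : MulAut ↥heGroup) : Out ↥heGroup) = 1 := fun c =>
    (QuotientGroup.eq_one_iff _).2 ⟨c, rfl⟩
  have hsq : ((outerAut : MulAut ↥heGroup) : Out ↥heGroup) ^ 2 = 1 := by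
    rw [pow_two, ← QuotientGroup.mk_mul, outerAut_sq, hinn]
  rw [Nat.card_eq_two_iff]
  refine ⟨1, ((outerAut : MulAut ↥heGroup) : Out ↥heGroup), fun e => outerAut_not_inner
    ((QuotientGroup.eq_one_iff _).1 e.symm), Set.eq_univ_of_forall fun z => ?_⟩
  obtain ⟨φ, rfl⟩ := QuotientGroup.mk_surjective z
  obtain ⟨i, c, c', rfl⟩ := aut_mem φ
  rw [QuotientGroup.mk_mul, QuotientGroup.mk_mul, hinn, hinn, one_mul, mul_one, QuotientGroup.mk_pow,
    ← pow_mod_orderOf]
  obtain h | h := (Nat.dvd_prime Nat.prime_two).1 (orderOf_dvd_of_pow_eq_one hsq) <;> rw [h]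
  · simp [Nat.mod_one]
  · obtain h' | h' := Nat.mod_two_eq_zero_or_one i <;> simp [h']

end Cfsg.Agent.RigidGraph.He.Invol
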