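import Cfsg.Agent.Lib.RigidGraph.He.Invol.Centraliser

/-! Kernel checks on the table. -/

set_option autoImplicit false
set_option maxRecDepth 100000
set_option Elab.async false

namespace Cfsg.Agent.RigidGraph.He.Invol

open Cfsg.Agent.PermCert (allBelow)

theorem steps0_0 : allBelow (fun i => stepOK (0 + i)) 1024 = true := by decide +kernel

theorem monos0_0 : allBelow (fun i => monoOK (0 + i)) 1024 = true := by decide +kernel

theorem steps0_1 : allBelow (fun i => stepOK (1024 + i)) 1024 = true := by decide +kernel

theorem monos0_1 : allBelow (fun i => monoOK (1024 + i)) 1024 = true := by decide +kernel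

theorem steps0_2 : allBelow (fun i => stepOK (2048 + i)) 1024 = true := by decide +kernel

theorem monos0_2 : allBelow (fun i => monoOK (2048 + i)) 1024 = true := by decide +kernel

theorem steps0_3 : allBelow (fun i => stepOK (3072 + i)) 1024 = true := by decide +kernel

theorem monos0_3 : allBelow (fun i => monoOK (3072 + i)) 1024 = true := by decide +kernel

theorem steps0_4 : allBelow (fun i => stepOK (4096 + i)) 1024 = true := by decide +kernel

theorem monos0_4 : allBelow (fun i => monoOK (4096 + i)) 1024 = true := by decide +kernel

theorem steps0_5 : allBelow (fun i => stepOK (5120 + i)) 1024 = true := by decide +kernel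

theorem monos0_5 : allBelow (fun i => monoOK (5120 + i)) 1024 = true := by decide +kernel

theorem steps0_6 : allBelow (fun i => stepOK (6144 + i)) 1024 = true := by decide +kernel

theorem monos0_6 : allBelow (fun i => monoOK (6144 + i)) 1024 = true := by decide +kernel

end Cfsg.Agent.RigidGraph.He.Invol
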